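import Mathlib

/-!
# Generation of `GL_n` of a local ring by unipotent row/column matrices and diagonal matrices
(helper15)
-/

set_option autoImplicit false
set_option linter.style.haveILetI false
universe u

namespace Groth.Agent.Lib.Helper15.GLGen

open Matrix

variable {ι : Type*} [Fintype ι] [DecidableEq ι] {B : Type*} [CommRing B]

/-- the matrix whose row `i` has entries `c b` for `b ≠ i`, and zero elsewhere -/
def E (i : ι) (c : ι → B) : Matrix ι ι B := Matrix.of fun a b => if a = i ∧ b ≠ i then c b else 0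

lemma E_apply (i : ι) (c : ι → B) (a b : ι) :
    E i c a b = if a = i ∧ b ≠ i then c b else 0 := rfl

lemma mul_E (M : Matrix ι ι B) (i : ι) (c : ι → B) (a b : ι) :
    (M * E i c) a b = if b ≠ i then M a i * c b else 0 := by
  rw [Matrix.mul_apply, Finset.sum_eq_single i]
  · rw [E_apply]
    by_cases hb : b ≠ i
    · simp [hb]
    · simp [hb]
  · intro k _ hk
    rw [E_apply, if_neg (fun h => hk h.1), mul_zero]
  · intro h
    exact absurd (Finset.mem_univ i) h

lemma ET_mul (M : Matrix ι ι B) (i : ι) (c : ι → B) (a b : ι) :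
    ((E i c)ᵀ * M) a b = if a ≠ i then c a * M i b else 0 := by
  rw [Matrix.mul_apply, Finset.sum_eq_single i]
  · rw [Matrix.transpose_apply, E_apply]
    by_cases ha : a ≠ i
    · simp [ha]
    · simp [ha]
  · intro k _ hk
    rw [Matrix.transpose_apply, E_apply, if_neg (fun h => hk h.1), zero_mul]
  · intro h
    exact absurd (Finset.mem_univ i) h

lemma E_mul_E (i : ι) (c c' : ι → B) : E i c * E i c' = 0 := by
  ext a b
  rw [mul_E, E_apply]
  simp

lemma E_neg (i : ι) (c : ι → B) : E i (-c) = - E i c := by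
  ext a b
  simp only [E_apply, Pi.neg_apply, Matrix.neg_apply]
  split_ifs <;> simp

/-- unipotent matrix `1 + E i c` as a unit -/
def rowU (i : ι) (c : ι → B) : (Matrix ι ι B)ˣ where
  val := 1 + E i c
  inv := 1 - E i c
  val_inv := by
    rw [add_mul, mul_sub, mul_sub, mul_one, one_mul, mul_one, E_mul_E]
    abel
  inv_val := by
    rw [sub_mul, mul_add, mul_add, mul_one, one_mul, mul_one, E_mul_E]
    abel

/-- unipotent matrix `1 + (E i c)ᵀ` as a unit -/
def colU (i : ι) (c : ι → B) : (Matrix ι ι B)ˣ where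
  val := 1 + (E i c)ᵀ
  inv := 1 - (E i c)ᵀ
  val_inv := by
    rw [add_mul, mul_sub, mul_sub, mul_one, one_mul, mul_one, ← Matrix.transpose_mul, E_mul_E,
      Matrix.transpose_zero]
    abel
  inv_val := by
    rw [sub_mul, mul_add, mul_add, mul_one, one_mul, mul_one, ← Matrix.transpose_mul, E_mul_E,
      Matrix.transpose_zero]
    abel

/-- diagonal matrix as a unit -/
def diagU (d : ι → Bˣ) : (Matrix ι ι B)ˣ where
  val := Matrix.diagonal fun i => (d i : B)
  inv := Matrix.diagonal fun i => ((d i)⁻¹ : Bˣ)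
  val_inv := by
    rw [Matrix.diagonal_mul_diagonal]
    simp
  inv_val := by
    rw [Matrix.diagonal_mul_diagonal]
    simp

lemma mul_rowU_apply (g : Matrix ι ι B) (i : ι) (c : ι → B) (a b : ι) :
    (g * (rowU i c).val) a b = g a b + if b ≠ i then g a i * c b else 0 := by
  show (g * (1 + E i c)) a b = _
  rw [mul_add, mul_one, Matrix.add_apply, mul_E]

lemma colU_mul_apply (g : Matrix ι ι B) (i : ι) (c : ι → B) (a b : ι) :
    ((colU i c).val * g) a b = g a b + if a ≠ i then c a * g i b else 0 := by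
  show ((1 + (E i c)ᵀ) * g) a b = _
  rw [add_mul, one_mul, Matrix.add_apply, ET_mul]

variable (ι B) in
/-- the generating set -/
def gens : Set (Matrix ι ι B)ˣ :=
  {g | (∃ i c, g = rowU i c) ∨ (∃ i c, g = colU i c) ∨ ∃ d, g = diagU d}

variable (ι B) in
/-- the subgroup generated by unipotent row/column matrices and diagonal matrices -/
def H : Subgroup (Matrix ι ι B)ˣ := Subgroup.closure (gens ι B)

lemma rowU_mem (i : ι) (c : ι → B) : rowU i c ∈ H ι B :=
  Subgroup.subset_closure (Or.inl ⟨i, c, rfl⟩)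

lemma colU_mem (i : ι) (c : ι → B) : colU i c ∈ H ι B :=
  Subgroup.subset_closure (Or.inr (Or.inl ⟨i, c, rfl⟩))

lemma diagU_mem (d : ι → Bˣ) : diagU d ∈ H ι B :=
  Subgroup.subset_closure (Or.inr (Or.inr ⟨d, rfl⟩))

/-- rows and columns indexed by `S` are diagonal -/
def Red (S : Finset ι) (M : Matrix ι ι B) : Prop :=
  ∀ i ∈ S, ∀ j, j ≠ i → M i j = 0 ∧ M j i = 0


section local_ring

variable [IsLocalRing B]

lemma exists_isUnit_of_sum_eq_one {α : Type*} (s : Finset α) (x y : α → B)
    (h : ∑ k ∈ s, x k * y k = 1) : ∃ k ∈ s, IsUnit (x k) := by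
  by_contra hcon
  push Not at hcon
  have hmem : ∑ k ∈ s, x k * y k ∈ IsLocalRing.maximalIdeal B := by
    refine Ideal.sum_mem _ fun k hk => ?_
    exact Ideal.mul_mem_right _ _ ((IsLocalRing.mem_maximalIdeal _).mpr (hcon k hk))
  rw [h] at hmem
  exact (IsLocalRing.maximalIdeal.isMaximal B).ne_top ((Ideal.eq_top_iff_one _).mpr hmem)

theorem main_ind : ∀ (n : ℕ) (S : Finset ι) (g : (Matrix ι ι B)ˣ), Sᶜ.card = n →
    Red S g.val → g ∈ H ι B := by
  intro n
  induction n with
  | zero =>
    intro S g hS hred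
    have hall : ∀ i, i ∈ S := by
      intro i
      by_contra hi
      have : i ∈ Sᶜ := Finset.mem_compl.mpr hi
      rw [Finset.card_eq_zero.mp hS] at this
      exact absurd this (Finset.notMem_empty i)
    have hdiag : g.val = Matrix.diagonal fun i => g.val i i := by
      ext a b
      by_cases hab : a = b
      · subst hab; simp
      · rw [Matrix.diagonal_apply_ne _ hab]
        exact (hred a (hall a) b (Ne.symm hab)).1
    have hunit : ∀ i, IsUnit (g.val i i) := by
      intro i
      have h1 : (g.val * g.inv) i i = 1 := by rw [g.val_inv]; simp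
      rw [Matrix.mul_apply, Finset.sum_eq_single i] at h1
      · exact IsUnit.of_mul_eq_one _ h1
      · intro k _ hk
        rw [(hred i (hall i) k hk).1, zero_mul]
      · intro h; exact absurd (Finset.mem_univ i) h
    have : g = diagU fun i => (hunit i).unit := by
      apply Units.ext
      exact hdiag.trans rfl
    rw [this]
    exact diagU_mem _
  | succ n ih =>
    intro S g hS hred
    have hne : Sᶜ.Nonempty := by
      rw [← Finset.card_pos, hS]; exact Nat.succ_pos n
    obtain ⟨i₀, hi₀'⟩ := hne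
    have hi₀ : i₀ ∉ S := Finset.mem_compl.mp hi₀'
    -- a unit in row `i₀`
    have hrow : ∑ k ∈ Finset.univ, g.val i₀ k * g.inv k i₀ = 1 := by
      have h1 : (g.val * g.inv) i₀ i₀ = 1 := by rw [g.val_inv]; simp
      rwa [Matrix.mul_apply] at h1
    obtain ⟨j₀, _, hj₀⟩ := exists_isUnit_of_sum_eq_one _ _ _ hrow
    have hj₀S : j₀ ∉ S := by
      intro hj
      have hne : i₀ ≠ j₀ := fun h => hi₀ (h ▸ hj)
      have := (hred j₀ hj i₀ hne).2
      rw [this] at hj₀
      exact not_isUnit_zero hj₀
    -- step 1: make the `(i₀, i₀)` entry a unit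
    obtain ⟨h₁, hh₁, hred₁, hu₁⟩ : ∃ h₁ ∈ H ι B, Red S (g * h₁).val ∧
        IsUnit ((g * h₁).val i₀ i₀) := by
      by_cases hu : IsUnit (g.val i₀ i₀)
      · exact ⟨1, Subgroup.one_mem _, by rwa [mul_one], by rwa [mul_one]⟩
      · have hij : j₀ ≠ i₀ := fun h => hu (h ▸ hj₀)
        refine ⟨rowU j₀ (Pi.single i₀ 1), rowU_mem _ _, ?_, ?_⟩
        · intro i hi j hji
          have hii₀ : i ≠ i₀ := fun h => hi₀ (h ▸ hi)
          have hij₀ : i ≠ j₀ := fun h => hj₀S (h ▸ hi)
          rw [Units.val_mul, mul_rowU_apply, mul_rowU_apply]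
          refine ⟨?_, ?_⟩
          · rw [(hred i hi j hji).1, (hred i hi j₀ (Ne.symm hij₀)).1]
            simp
          · rw [(hred i hi j hji).2, Pi.single_eq_of_ne hii₀]
            simp
        · rw [Units.val_mul, mul_rowU_apply, if_pos (Ne.symm hij), Pi.single_eq_same, mul_one]
          by_contra hnu
          have h2 : g.val i₀ j₀ = (g.val i₀ i₀ + g.val i₀ j₀) + -(g.val i₀ i₀) := by ring
          have h3 : g.val i₀ j₀ ∈ nonunits B := by
            rw [h2]
            exact IsLocalRing.nonunits_add hnu (by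
              show ¬ IsUnit (-(g.val i₀ i₀))
              rwa [IsUnit.neg_iff])
          exact h3 hj₀
    obtain ⟨u, hu⟩ := hu₁
    set g₁ := g * h₁ with hg₁
    -- step 2: clear row `i₀`
    set c₂ : ι → B := fun b => -(↑u⁻¹ : B) * g₁.val i₀ b with hc₂
    set g₂ := g₁ * rowU i₀ c₂ with hg₂
    have hg₂app : ∀ a b, g₂.val a b = g₁.val a b + if b ≠ i₀ then g₁.val a i₀ * c₂ b else 0 := by
      intro a b
      rw [hg₂, Units.val_mul, mul_rowU_apply]
    have hg₂row : ∀ b, b ≠ i₀ → g₂.val i₀ b = 0 := by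
      intro b hb
      rw [hg₂app, if_pos hb, hc₂, ← hu]
      simp only
      rw [← mul_assoc, mul_neg, Units.mul_inv, neg_one_mul, add_neg_cancel]
    have hg₂diag : g₂.val i₀ i₀ = u := by
      rw [hg₂app, if_neg (not_not.mpr rfl), add_zero, hu]
    have hred₂ : Red S g₂.val := by
      intro i hi j hji
      have hii₀ : i ≠ i₀ := fun h => hi₀ (h ▸ hi)
      refine ⟨?_, ?_⟩
      · rw [hg₂app, (hred₁ i hi j hji).1, (hred₁ i hi i₀ (Ne.symm hii₀)).1]
        simp
      · rw [hg₂app, (hred₁ i hi j hji).2, if_pos hii₀, hc₂]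
        simp only
        rw [(hred₁ i hi i₀ (Ne.symm hii₀)).2]
        simp
    -- step 3: clear column `i₀`
    set c₃ : ι → B := fun a => -(↑u⁻¹ : B) * g₂.val a i₀ with hc₃
    set g₃ := colU i₀ c₃ * g₂ with hg₃
    have hg₃app : ∀ a b, g₃.val a b = g₂.val a b + if a ≠ i₀ then c₃ a * g₂.val i₀ b else 0 := by
      intro a b
      rw [hg₃, Units.val_mul, colU_mul_apply]
    have hred₃ : Red (insert i₀ S) g₃.val := by
      intro i hi j hji
      rcases Finset.mem_insert.mp hi with rfl | hiS
      · refine ⟨?_, ?_⟩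
        · rw [hg₃app, if_neg (not_not.mpr rfl), add_zero]
          exact hg₂row j hji
        · rw [hg₃app, if_pos hji, hc₃, hg₂diag]
          simp only
          rw [mul_comm (-(↑u⁻¹ : B)), mul_assoc, neg_mul, Units.inv_mul, mul_neg, mul_one,
            add_neg_cancel]
      · have hii₀ : i ≠ i₀ := fun h => hi₀ (h ▸ hiS)
        refine ⟨?_, ?_⟩
        · rw [hg₃app, (hred₂ i hiS j hji).1, if_pos hii₀, hc₃]
          simp only
          rw [(hred₂ i hiS i₀ (Ne.symm hii₀)).1]
          simp
        · rw [hg₃app, (hred₂ i hiS j hji).2, hg₂row i hii₀]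
          simp
    have hcard : (insert i₀ S)ᶜ.card = n := by
      have h1 : (insert i₀ S)ᶜ = Sᶜ.erase i₀ := by
        ext x
        simp only [Finset.mem_compl, Finset.mem_insert, Finset.mem_erase, not_or]
      rw [h1, Finset.card_erase_of_mem hi₀', hS, Nat.add_sub_cancel]
    have hg₃mem := ih (insert i₀ S) g₃ hcard hred₃
    have hgeq : g = (colU i₀ c₃)⁻¹ * g₃ * (rowU i₀ c₂)⁻¹ * h₁⁻¹ := by
      rw [hg₃, hg₂, hg₁]
      group
    rw [hgeq]
    exact Subgroup.mul_mem _ (Subgroup.mul_mem _ (Subgroup.mul_mem _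
      (Subgroup.inv_mem _ (colU_mem _ _)) hg₃mem) (Subgroup.inv_mem _ (rowU_mem _ _)))
      (Subgroup.inv_mem _ hh₁)

/-- over a local ring, `GL` is generated by unipotent row/column matrices and diagonal matrices -/
theorem gen_top (g : (Matrix ι ι B)ˣ) : g ∈ H ι B :=
  main_ind _ ∅ g rfl (fun i hi => absurd hi (Finset.notMem_empty i))

end local_ring

end Groth.Agent.Lib.Helper15.GLGen
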