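import Mathlib
import Groth.Agent.Lib.Helper6.AlgClosedTensor

set_option autoImplicit false
set_option linter.style.haveILetI false

open Polynomial TensorProduct

namespace Groth.Agent.Lib.Helper15.GeomIrrSep

section A
variable {k K : Type*} [Field k] [Field K] [Algebra k K]

/-- coefficients of a monic factor of a separable polynomial (after base change) are separable. -/
theorem coeff_isSeparable {f : k[X]} (hsep : f.Separable) {g : K[X]} (hg : g.Monic)
    (hdvd : g ∣ f.map (algebraMap k K)) (n : ℕ) : IsSeparable k (g.coeff n) := by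
  let Ω := AlgebraicClosure K
  let E : IntermediateField k Ω := separableClosure k Ω
  set gΩ := g.map (algebraMap K Ω) with hgΩ
  have hsplit : gΩ.Splits := IsAlgClosed.splits _
  have hmon : gΩ.Monic := hg.map _
  have hprod := hsplit.eq_prod_roots_of_monic hmon
  have hroots : ∀ r ∈ gΩ.roots, r ∈ E := by
    intro r hr
    rw [mem_separableClosure_iff]
    have hr0 : gΩ.eval r = 0 := (Polynomial.mem_roots'.mp hr).2
    have hfr : aeval r f = 0 := by
      obtain ⟨q, hq⟩ := hdvd
      have : (f.map (algebraMap k K)).map (algebraMap K Ω) = gΩ * q.map (algebraMap K Ω) := by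
        rw [hq, Polynomial.map_mul]
      rw [Polynomial.map_map, ← IsScalarTower.algebraMap_eq] at this
      rw [aeval_def, ← eval_map, this, eval_mul, hr0, zero_mul]
    exact hsep.of_dvd (minpoly.dvd k r hfr)
  have hlift : gΩ ∈ Polynomial.lifts (algebraMap E Ω) := by
    rw [hprod]
    refine Subsemiring.multiset_prod_mem _ _ ?_
    intro p hp
    obtain ⟨r, hr, rfl⟩ := Multiset.mem_map.mp hp
    rw [Polynomial.lifts_iff_liftsRing]
    refine Subring.sub_mem _ ?_ ?_
    · rw [← Polynomial.lifts_iff_liftsRing]; exact X_mem_lifts _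
    · rw [← Polynomial.lifts_iff_liftsRing]
      exact C_mem_lifts (algebraMap E Ω) ⟨r, hroots r hr⟩
  rw [Polynomial.lifts_iff_coeff_lifts] at hlift
  obtain ⟨e, he⟩ := hlift n
  have h1 : IsSeparable k (algebraMap K Ω (g.coeff n)) := by
    have : algebraMap K Ω (g.coeff n) = (e : Ω) := by
      rw [hgΩ, coeff_map] at he
      exact he.symm
    rw [this, ← mem_separableClosure_iff]
    exact e.2
  unfold IsSeparable at h1 ⊢
  rwa [minpoly.algebraMap_eq (algebraMap K Ω).injective] at h1

theorem irreducible_map_of_sep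
    (H : ∀ α : K, IsSeparable k α → α ∈ Set.range (algebraMap k K))
    {f : k[X]} (hf : Irreducible f) (hmon : f.Monic) (hsep : f.Separable) :
    Irreducible (f.map (algebraMap k K)) := by
  classical
  set fK := f.map (algebraMap k K) with hfK
  have hfKmon : fK.Monic := hmon.map _
  have hfK0 : fK ≠ 0 := hfKmon.ne_zero
  have hdeg : fK.natDegree = f.natDegree := natDegree_map _
  have hfdeg : 0 < f.natDegree := hf.natDegree_pos
  have hnu : ¬ IsUnit fK := by
    intro h
    have := natDegree_eq_zero_of_isUnit h
    omega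
  obtain ⟨g0, hg0, hg0dvd⟩ := WfDvdMonoid.exists_irreducible_factor hnu hfK0
  set g := normalize g0 with hgdef
  have hassoc : Associated g g0 := normalize_associated g0
  have hg : Irreducible g := hassoc.symm.irreducible hg0
  have hgmon : g.Monic := monic_normalize hg0.ne_zero
  have hgdvd : g ∣ fK := hassoc.dvd.trans hg0dvd
  have hlift : g ∈ Polynomial.lifts (algebraMap k K) := by
    rw [Polynomial.lifts_iff_coeff_lifts]
    intro n
    exact H _ (coeff_isSeparable hsep hgmon hgdvd n)
  obtain ⟨g', hg'map, hg'deg, hg'mon⟩ := lifts_and_natDegree_eq_and_monic hlift hgmon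
  have hdvd' : g' ∣ f := by
    rw [← Polynomial.map_dvd_map (algebraMap k K) (algebraMap k K).injective hg'mon, hg'map]
    exact hgdvd
  have hg'nu : ¬ IsUnit g' := by
    intro h
    have h1 : IsUnit g := by rw [← hg'map]; exact h.map (mapRingHom (algebraMap k K))
    exact hg.not_isUnit h1
  have hassoc' : Associated g' f := by
    obtain ⟨q, hq⟩ := hdvd'
    rcases hf.isUnit_or_isUnit hq with h | h
    · exact absurd h hg'nu
    · exact ⟨h.unit, by rw [hq]; rfl⟩
  have : g' = f := eq_of_monic_of_associated hg'mon hmon hassoc'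
  rw [hfK, ← this, hg'map]
  exact hg

end A

section B
variable {k K F : Type*} [Field k] [Field K] [Algebra k K] [Field F] [Algebra k F]
  [FiniteDimensional k F] [Algebra.IsSeparable k F]

theorem isDomain_tensor_finite_sep
    (H : ∀ α : K, IsSeparable k α → α ∈ Set.range (algebraMap k K)) :
    IsDomain (K ⊗[k] F) := by
  let pb := Field.powerBasisOfFiniteOfSeparable k F
  set f := minpoly k pb.gen with hfdef
  have hint : IsIntegral k pb.gen := pb.isIntegral_gen
  have hirr : Irreducible f := minpoly.irreducible hint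
  have hmon : f.Monic := minpoly.monic hint
  have hsep : f.Separable := Algebra.IsSeparable.isSeparable k pb.gen
  have hK := irreducible_map_of_sep H hirr hmon hsep
  haveI : Fact (Irreducible (f.map (algebraMap k K))) := ⟨hK⟩
  have hfK0 : f.map (algebraMap k K) ≠ 0 := (hmon.map _).ne_zero
  let M := AdjoinRoot (f.map (algebraMap k K))
  have hroot : aeval (AdjoinRoot.root (f.map (algebraMap k K))) (minpoly k pb.gen) = 0 := by
    rw [← hfdef, ← Polynomial.aeval_map_algebraMap K, AdjoinRoot.aeval_eq, AdjoinRoot.mk_self]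
  let φF : F →ₐ[k] M := pb.lift (AdjoinRoot.root _) hroot
  let ψ : K ⊗[k] F →ₐ[K] M :=
    Algebra.TensorProduct.lift (Algebra.ofId K M) φF (fun _ _ => Commute.all _ _)
  have hsurj : Function.Surjective ψ := by
    rw [← AlgHom.range_eq_top, eq_top_iff, ← AdjoinRoot.adjoinRoot_eq_top]
    refine Algebra.adjoin_le ?_
    rintro x rfl
    refine ⟨1 ⊗ₜ pb.gen, ?_⟩
    show ψ (1 ⊗ₜ pb.gen) = _
    rw [Algebra.TensorProduct.lift_tmul, map_one, one_mul, PowerBasis.lift_gen]
  have hfin : Module.finrank K (K ⊗[k] F) = Module.finrank K M := by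
    rw [Module.finrank_baseChange, (AdjoinRoot.powerBasis hfK0).finrank,
      AdjoinRoot.powerBasis_dim, natDegree_map, pb.finrank, ← pb.natDegree_minpoly]
  haveI : FiniteDimensional K M := (AdjoinRoot.powerBasis hfK0).finite
  have hinj : Function.Injective ψ :=
    (LinearMap.injective_iff_surjective_of_finrank_eq_finrank hfin
      (f := ψ.toLinearMap)).mpr hsurj
  exact hinj.isDomain ψ

theorem irreducibleSpace_tensor_finite_sep
    (H : ∀ α : K, IsSeparable k α → α ∈ Set.range (algebraMap k K)) :
    IrreducibleSpace (PrimeSpectrum (F ⊗[k] K)) := by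
  haveI := isDomain_tensor_finite_sep (F := F) H
  haveI : IsDomain (F ⊗[k] K) :=
    (Algebra.TensorProduct.comm k F K).injective.isDomain (Algebra.TensorProduct.comm k F K)
  infer_instance

end B

section C
universe u
variable {k K : Type u} [Field k] [Field K] [Algebra k K]

theorem backward (H : ∀ α : K, IsSeparable k α → α ∈ Set.range (algebraMap k K))
    (k' : Type u) [Field k'] [Algebra k k'] : IrreducibleSpace (PrimeSpectrum (k' ⊗[k] K)) := by
  let Kbar := AlgebraicClosure k
  let ks : IntermediateField k Kbar := separableClosure k Kbar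
  have h1 : IrreducibleSpace (PrimeSpectrum (ks ⊗[k] K)) := by
    apply Groth.Agent.Lib.Helper6.irreducibleSpace_of_forall_finite
    intro F hF
    exact irreducibleSpace_tensor_finite_sep H
  have h2 : IrreducibleSpace (PrimeSpectrum (Kbar ⊗[k] K)) := by
    have hpi : IsPurelyInseparable ks Kbar := inferInstance
    have hA := PrimeSpectrum.isHomeomorph_comap_tensorProductMap_of_isPurelyInseparable
      ks k K Kbar
    exact (hA.homeomorph _).irreducibleSpace_iff.mpr h1
  exact Groth.Agent.Lib.Helper6.irreducibleSpace_of_irreducibleSpace_algClosure h2 k'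

theorem forward
    (Hirr : ∀ (k' : Type u) [Field k'] [Algebra k k'],
      IrreducibleSpace (PrimeSpectrum (k' ⊗[k] K)))
    (α : K) (hα : IsSeparable k α) : α ∈ Set.range (algebraMap k K) := by
  by_contra hnot
  set f := minpoly k α with hf
  have hint : IsIntegral k α := hα.isIntegral
  have hirr : Irreducible f := minpoly.irreducible hint
  have hmon : f.Monic := minpoly.monic hint
  haveI : Fact (Irreducible f) := ⟨hirr⟩
  have hdeg : 2 ≤ f.natDegree := by
    have h1 : f.natDegree ≠ 1 := fun h => hnot ((minpoly.natDegree_eq_one_iff).mp h)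
    have h0 := hirr.natDegree_pos
    omega
  let k' := AdjoinRoot f
  have hT := Hirr k'
  rw [PrimeSpectrum.irreducibleSpace_iff_isPrime_nilradical] at hT
  let Ω := AlgebraicClosure K
  set fK := f.map (algebraMap k K) with hfK
  set g := fK /ₘ (X - C α) with hg
  have hrootα : fK.IsRoot α := by
    rw [IsRoot.def, hfK, eval_map_algebraMap]; exact minpoly.aeval k α
  have hfg : (X - C α) * g = fK := mul_divByMonic_eq_iff_isRoot.mpr hrootα
  have hsepK : fK.Separable := Separable.map hα
  have hgα : g.eval α ≠ 0 := by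
    have h1 := hsepK.eval₂_derivative_ne_zero (RingHom.id K) (x := α)
      (by rw [eval₂_id]; exact hrootα)
    rw [eval₂_id, ← hfg, derivative_mul] at h1
    simpa using h1
  have hgdeg : g.natDegree ≠ 0 := by
    have h0 : g ≠ 0 := by rintro h; rw [h] at hgα; simp at hgα
    have h1 : fK.natDegree = 1 + g.natDegree := by
      rw [← hfg, natDegree_mul (X_sub_C_ne_zero α) h0, natDegree_X_sub_C]
    have h2 : fK.natDegree = f.natDegree := natDegree_map _
    omega
  obtain ⟨β, hβ⟩ : ∃ β : Ω, aeval β g = 0 :=
    IsAlgClosed.exists_aeval_eq_zero Ω g (fun h => hgdeg (natDegree_eq_zero_iff_degree_le_zero.mpr h.le))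
  have hβα : β ≠ algebraMap K Ω α := by
    rintro rfl
    rw [aeval_algebraMap_apply, coe_aeval_eq_eval] at hβ
    exact hgα ((algebraMap K Ω).injective (by rw [hβ, map_zero]))
  have hβf : aeval β f = 0 := by
    rw [← Polynomial.aeval_map_algebraMap K, ← hfK, ← hfg, map_mul, hβ, mul_zero]
  let T := k' ⊗[k] K
  let ι : K →+* T := (Algebra.TensorProduct.includeRight : K →ₐ[k] T).toRingHom
  let r : T := AdjoinRoot.root f ⊗ₜ 1
  let u : T := r - ι α
  let v : T := g.eval₂ ι r
  have huv : u * v = 0 := by
    have h1 : u * v = fK.eval₂ ι r := by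
      rw [← hfg, eval₂_mul, eval₂_sub, eval₂_X, eval₂_C]
    rw [h1, hfK, eval₂_map]
    have h2 : ι.comp (algebraMap k K) = algebraMap k T := by
      ext x
      show (1 : k') ⊗ₜ[k] (algebraMap k K x) = _
      rw [Algebra.TensorProduct.algebraMap_apply, Algebra.algebraMap_eq_smul_one,
        Algebra.algebraMap_eq_smul_one, TensorProduct.tmul_smul, TensorProduct.smul_tmul']
    rw [h2, ← aeval_def]
    have h3 : aeval r f = (Algebra.TensorProduct.includeLeft : k' →ₐ[k] T)
        (aeval (AdjoinRoot.root f) f) := by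
      rw [← aeval_algHom_apply]; rfl
    rw [h3, AdjoinRoot.aeval_eq, AdjoinRoot.mk_self, map_zero]
  have hmem : u * v ∈ nilradical T := by rw [huv]; exact zero_mem _
  rcases hT.mem_or_mem hmem with h | h
  · let φ₂ : T →ₐ[k] Ω := Algebra.TensorProduct.productMap
      (AdjoinRoot.liftAlgHom f (Algebra.ofId k Ω) β hβf) (IsScalarTower.toAlgHom k K Ω)
    have h1 : φ₂ u = β - algebraMap K Ω α := by
      show φ₂ (AdjoinRoot.root f ⊗ₜ[k] (1:K) - (1 : AdjoinRoot f) ⊗ₜ[k] α) = _
      rw [map_sub]
      show Algebra.TensorProduct.productMap _ _ _ - Algebra.TensorProduct.productMap _ _ _ = _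
      rw [Algebra.TensorProduct.productMap_apply_tmul,
        Algebra.TensorProduct.productMap_apply_tmul, AdjoinRoot.liftAlgHom_root]
      simp
    have hn : IsNilpotent (φ₂ u) := (mem_nilradical.mp h).map φ₂
    rw [h1] at hn
    exact sub_ne_zero.mpr hβα hn.eq_zero
  · have hαf : f.eval₂ (Algebra.ofId k K) α = 0 := minpoly.aeval k α
    let φ₁ : T →ₐ[k] K := Algebra.TensorProduct.productMap
      (AdjoinRoot.liftAlgHom f (Algebra.ofId k K) α hαf) (AlgHom.id k K)
    have h1 : φ₁ v = g.eval α := by
      show (φ₁ : T →+* K) (g.eval₂ ι r) = _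
      rw [hom_eval₂]
      have h2 : (φ₁ : T →+* K).comp ι = RingHom.id K := by
        ext x
        show Algebra.TensorProduct.productMap _ _ ((1 : AdjoinRoot f) ⊗ₜ[k] x) = x
        rw [Algebra.TensorProduct.productMap_apply_tmul]
        simp
      have h3 : (φ₁ : T →+* K) r = α := by
        show Algebra.TensorProduct.productMap _ _ (AdjoinRoot.root f ⊗ₜ[k] (1 : K)) = α
        rw [Algebra.TensorProduct.productMap_apply_tmul]
        simp
      rw [h2, h3, eval₂_id]
    have hn : IsNilpotent (φ₁ v) := (mem_nilradical.mp h).map φ₁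
    rw [h1] at hn
    exact hgα hn.eq_zero

end C

end Groth.Agent.Lib.Helper15.GeomIrrSep
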