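import Mathlib
import Groth.Agent.S3866

/-!
# Helper lemmas about "rig-closed" primes of adic rings (helper15)

* `isMaximal_of_forall_ne_bot_le`: in a Noetherian domain `C` with a nonzero ideal `J` contained in
  every nonzero prime, every nonzero prime is maximal (so `dim C ≤ 1`).
* `finite_restrictScalars_of_forall_prime`: if `D` is a Noetherian `A`-algebra all of whose
  quotients by primes are finite over `A`, every finite `D`-module is finite over `A`.
* `finite_of_finite_quotient_of_isAdicComplete`: complete Nakayama.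
* `finite_quotient_of_isJacobsonRing`: Zariski's lemma for a quotient by a maximal ideal.
-/

set_option autoImplicit false

universe u

namespace Groth.Agent.Lib.Helper15

/-- In a Noetherian domain `C` with a nonzero ideal `J` contained in every nonzero prime, every
nonzero prime is maximal. -/
theorem isMaximal_of_forall_ne_bot_le {C : Type*} [CommRing C] [IsDomain C] [IsNoetherianRing C]
    (J : Ideal C) (hJ : J ≠ ⊥) (h : ∀ P : Ideal C, P.IsPrime → P ≠ ⊥ → J ≤ P)
    (P : Ideal C) [hPp : P.IsPrime] (hP : P ≠ ⊥) : P.IsMaximal := by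
  classical
  obtain ⟨m, hm, hPm⟩ := Ideal.exists_le_maximal P hPp.ne_top
  rcases eq_or_lt_of_le hPm with rfl | hlt
  · exact hm
  exfalso
  have hmprime : m.IsPrime := hm.isPrime
  have hmbot : m ≠ ⊥ := fun hmb => hP (le_bot_iff.mp (hmb ▸ hPm))
  obtain ⟨f, hfJ, hf0⟩ := (Submodule.ne_bot_iff J).mp hJ
  have hfm : Ideal.span {f} ≤ m :=
    (Ideal.span_singleton_le_iff_mem _).mpr (h m hmprime hmbot hfJ)
  have hfin : (Ideal.span {f}).minimalPrimes.Finite :=
    Ideal.finite_minimalPrimes_of_isNoetherianRing C _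
  -- a minimal prime over `(f)` is a nonzero prime of height one
  have key : ∀ Q ∈ (Ideal.span {f}).minimalPrimes, ∀ P' : Ideal C, P'.IsPrime → P'.height ≤ 1 →
      Q ≤ P' → Q = P' := by
    intro Q hQ P' hP' hP'h hQP'
    have hQp : Q.IsPrime := hQ.1.1
    by_contra hne
    have hlt' : Q < P' := lt_of_le_of_ne hQP' hne
    have h2 : Q.height < P'.height := Ideal.height_strict_mono_of_isPrime_of_isPrime hlt'
    have h3 : Q.height = 0 := by
      have : Q.height < 1 := lt_of_lt_of_le h2 hP'h
      exact Order.lt_one_iff.mp this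
    have h4 : Q = ⊥ := Ideal.height_eq_zero_iff_eq_bot.mp h3
    apply hf0
    have : f ∈ Q := hQ.1.2 (Ideal.mem_span_singleton_self f)
    rw [h4] at this
    exact this
  have hnot : ¬ ((m : Set C) ⊆ ⋃ Q ∈ (Ideal.span {f}).minimalPrimes, (Q : Set C)) := by
    intro hsub
    obtain ⟨Q, hQ, hmQ⟩ := (Ideal.subset_union_prime_finite hfin (f := id) ⊥ ⊥
      (fun Q hQ _ _ => hQ.1.1)).mp hsub
    have hQp : Q.IsPrime := hQ.1.1
    have hQm : m = Q := hm.eq_of_le hQp.ne_top hmQ
    have h1 : Q.height ≤ 1 := Ideal.height_le_one_of_isPrincipal_of_mem_minimalPrimes _ _ hQ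
    have h2 : P.height < Q.height :=
      Ideal.height_strict_mono_of_isPrime_of_isPrime (hQm ▸ hlt)
    have h3 : P.height = 0 := Order.lt_one_iff.mp (lt_of_lt_of_le h2 h1)
    exact hP (Ideal.height_eq_zero_iff_eq_bot.mp h3)
  rw [Set.not_subset] at hnot
  obtain ⟨x, hxm, hxS⟩ := hnot
  have hxS' : ∀ Q ∈ (Ideal.span {f}).minimalPrimes, x ∉ Q := by
    intro Q hQ hxQ
    exact hxS (Set.mem_iUnion₂.mpr ⟨Q, hQ, hxQ⟩)
  obtain ⟨Q0, hQ0, -⟩ := Ideal.exists_minimalPrimes_le hfm
  have hx0 : x ≠ 0 := by
    rintro rfl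
    exact hxS' Q0 hQ0 Q0.zero_mem
  have hxle : Ideal.span {x} ≤ m := (Ideal.span_singleton_le_iff_mem _).mpr hxm
  obtain ⟨P', hP'min, hP'm⟩ := Ideal.exists_minimalPrimes_le hxle
  have hP'p : P'.IsPrime := hP'min.1.1
  have hxP' : x ∈ P' := hP'min.1.2 (Ideal.mem_span_singleton_self x)
  have hP'bot : P' ≠ ⊥ := by
    intro hb
    rw [hb] at hxP'
    exact hx0 hxP'
  have hP'h : P'.height ≤ 1 := Ideal.height_le_one_of_isPrincipal_of_mem_minimalPrimes _ _ hP'min
  have hfP' : Ideal.span {f} ≤ P' :=
    (Ideal.span_singleton_le_iff_mem _).mpr (h P' hP'p hP'bot hfJ)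
  obtain ⟨Q, hQ, hQP'⟩ := Ideal.exists_minimalPrimes_le hfP'
  have hQeq : Q = P' := key Q hQ P' hP'p hP'h hQP'
  exact hxS' Q hQ (hQeq ▸ hxP')

/-- If `D` is a Noetherian `A`-algebra all of whose quotients by primes are finite over `A`,
then every finite `D`-module is finite over `A`. -/
theorem finite_of_forall_prime_of_isScalarTower {A : Type*} {D : Type u} [CommRing A] [CommRing D]
    [Algebra A D] [IsNoetherianRing D]
    (h : ∀ p : Ideal D, p.IsPrime → Module.Finite A (D ⧸ p))
    (M : Type u) [AddCommGroup M] [Module D M] [hM : Module.Finite D M] :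
    ∀ [Module A M] [IsScalarTower A D M], Module.Finite A M := by
  induction hM using IsNoetherianRing.induction_on_isQuotientEquivQuotientPrime D with
  | subsingleton N =>
    intro _ _
    infer_instance
  | quotient N p f =>
    intro _ _
    have := h p.1 p.2
    exact Module.Finite.equiv (f.restrictScalars A).symm
  | exact N₁ N₂ N₃ f g hf hg hfg h₁ h₃ =>
    intro _ _
    let : Module A N₁ := Module.compHom N₁ (algebraMap A D)
    have : IsScalarTower A D N₁ := IsScalarTower.of_algebraMap_smul fun r x => rfl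
    let : Module A N₃ := Module.compHom N₃ (algebraMap A D)
    have : IsScalarTower A D N₃ := IsScalarTower.of_algebraMap_smul fun r x => rfl
    have i1 : Module.Finite A N₁ := h₁
    have i3 : Module.Finite A N₃ := h₃
    exact Module.Finite.of_exact (f := f.restrictScalars A) (g := g.restrictScalars A) hfg hg

/-- Variant of `finite_of_forall_prime_of_isScalarTower` for `D` itself. -/
theorem finite_of_forall_prime_quotient_finite {A : Type*} {D : Type u} [CommRing A] [CommRing D]
    [Algebra A D] [IsNoetherianRing D]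
    (h : ∀ p : Ideal D, p.IsPrime → Module.Finite A (D ⧸ p)) : Module.Finite A D :=
  finite_of_forall_prime_of_isScalarTower h D

/-- Complete Nakayama: over an `I`-adically complete ring, an `I`-adically separated module `M`
with `M ⧸ I M` finite is finite. -/
theorem finite_of_finite_quotient_of_isAdicComplete {A : Type u} [CommRing A] (I : Ideal A)
    [IsPrecomplete I A] (M : Type*) [AddCommGroup M] [Module A M] [IsHausdorff I M]
    (h : Module.Finite A (M ⧸ (I • ⊤ : Submodule A M))) : Module.Finite A M := by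
  obtain ⟨n, f, hf⟩ := Module.Finite.exists_fin' A (M ⧸ (I • ⊤ : Submodule A M))
  obtain ⟨g, hg⟩ := Module.projective_lifting_property (Submodule.mkQ (I • ⊤ : Submodule A M)) f
    (Submodule.mkQ_surjective _)
  have hpre : IsPrecomplete I (Fin n → A) := Groth.Agent.S3866.precomplete_pi A I n
  have hsurj : Function.Surjective g := by
    apply surjective_of_mkQ_comp_surjective (I := I)
    rw [hg]
    exact hf
  exact Module.Finite.of_surjective g hsurj

/-- Zariski's lemma for a quotient by a maximal ideal: if `A ⧸ I` is Jacobson, `m` is a maximal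
ideal of the `A`-algebra `B` containing `I B` and `B ⧸ m` is of finite type over `A`, then `B ⧸ m`
is finite over `A`. -/
theorem finite_quotient_of_isJacobsonRing {A B : Type*} [CommRing A] [CommRing B] [Algebra A B]
    (I : Ideal A) [IsJacobsonRing (A ⧸ I)] (m : Ideal B) [hm : m.IsMaximal]
    (hIm : I.map (algebraMap A B) ≤ m) [Algebra.FiniteType A (B ⧸ m)] :
    Module.Finite A (B ⧸ m) := by
  let : Field (B ⧸ m) := Ideal.Quotient.field m
  have hker : ∀ a ∈ I, algebraMap A (B ⧸ m) a = 0 := by
    intro a ha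
    rw [IsScalarTower.algebraMap_apply A B (B ⧸ m), Ideal.Quotient.algebraMap_eq,
      Ideal.Quotient.eq_zero_iff_mem]
    exact hIm (Ideal.mem_map_of_mem _ ha)
  let : Algebra (A ⧸ I) (B ⧸ m) := (Ideal.Quotient.lift I (algebraMap A (B ⧸ m)) hker).toAlgebra
  have : IsScalarTower A (A ⧸ I) (B ⧸ m) := IsScalarTower.of_algebraMap_eq fun a => by
    rw [RingHom.algebraMap_toAlgebra, Ideal.Quotient.algebraMap_eq, Ideal.Quotient.lift_mk]
  have : Algebra.FiniteType (A ⧸ I) (B ⧸ m) := Algebra.FiniteType.of_restrictScalars_finiteType A _ _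
  have : Module.Finite (A ⧸ I) (B ⧸ m) := finite_of_finite_type_of_isJacobsonRing _ _
  exact Module.Finite.trans (A ⧸ I) (B ⧸ m)

/-- Complete Nakayama for algebras, with the quotient by the extended ideal. -/
theorem finite_of_finite_quotient_map {A : Type u} [CommRing A] (I : Ideal A)
    [IsPrecomplete I A] (C : Type*) [CommRing C] [Algebra A C]
    [hH : IsHausdorff (I.map (algebraMap A C)) C]
    (h : Module.Finite A (C ⧸ I.map (algebraMap A C))) : Module.Finite A C := by
  have hH' : IsHausdorff I C := IsHausdorff.map_algebraMap_iff.mp hH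
  apply finite_of_finite_quotient_of_isAdicComplete I C
  let φ : C →ₗ[A] C ⧸ I.map (algebraMap A C) := (Ideal.Quotient.mkₐ A _).toLinearMap
  have hφ : Function.Surjective φ := Ideal.Quotient.mk_surjective
  have hker : LinearMap.ker φ = I • ⊤ := by
    rw [Ideal.smul_top_eq_map]
    ext x
    simp [φ, Ideal.Quotient.eq_zero_iff_mem]
  let e : (C ⧸ (I • ⊤ : Submodule A C)) ≃ₗ[A] C ⧸ I.map (algebraMap A C) :=
    (Submodule.quotEquivOfEq _ _ hker.symm).trans (φ.quotKerEquivOfSurjective hφ)
  exact Module.Finite.equiv e.symm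

/-- If `q` is a rig-closed prime of a Noetherian ring `B` with respect to an ideal `K`
(`K ⊄ q` and `q` is maximal among the primes not containing `K`), then every prime strictly
containing `q` is maximal. -/
theorem isMaximal_of_rigClosed {B : Type*} [CommRing B] [IsNoetherianRing B] (K : Ideal B)
    (q : PrimeSpectrum B)
    (hq : ¬ K ≤ q.asIdeal ∧ ∀ y : PrimeSpectrum B, q ≤ y → ¬ K ≤ y.asIdeal → y = q)
    (y : Ideal B) [hy : y.IsPrime] (hqy : q.asIdeal ≤ y) (hne : y ≠ q.asIdeal) : y.IsMaximal := by
  let mk := Ideal.Quotient.mk q.asIdeal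
  have hmk : Function.Surjective mk := Ideal.Quotient.mk_surjective
  have hkermk : RingHom.ker mk = q.asIdeal := Ideal.mk_ker
  have hJ : K.map mk ≠ ⊥ := by
    intro h0
    rw [Ideal.map_eq_bot_iff_le_ker, hkermk] at h0
    exact hq.1 h0
  have hall : ∀ P : Ideal (B ⧸ q.asIdeal), P.IsPrime → P ≠ ⊥ → K.map mk ≤ P := by
    intro P hP hP0
    rw [Ideal.map_le_iff_le_comap]
    by_contra hK
    have hPq : q ≤ ⟨P.comap mk, inferInstance⟩ := by
      rw [← PrimeSpectrum.asIdeal_le_asIdeal]
      change q.asIdeal ≤ P.comap mk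
      exact hkermk.symm.le.trans (Ideal.ker_le_comap mk)
    have heq := hq.2 ⟨P.comap mk, inferInstance⟩ hPq hK
    apply hP0
    have h1 : P.comap mk = (⊥ : Ideal (B ⧸ q.asIdeal)).comap mk := by
      have := congrArg PrimeSpectrum.asIdeal heq
      change P.comap mk = q.asIdeal at this
      rw [this, ← RingHom.ker_eq_comap_bot, hkermk]
    exact Ideal.comap_injective_of_surjective mk hmk h1
  have hqy' : RingHom.ker mk ≤ y := hkermk.le.trans hqy
  have hPprime : (y.map mk).IsPrime := Ideal.map_isPrime_of_surjective hmk hqy'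
  have hP0 : y.map mk ≠ ⊥ := by
    intro h0
    rw [Ideal.map_eq_bot_iff_le_ker, hkermk] at h0
    exact hne (le_antisymm h0 hqy)
  have hmax : (y.map mk).IsMaximal :=
    isMaximal_of_forall_ne_bot_le (K.map mk) hJ hall (y.map mk) hP0
  have hcomap : (y.map mk).comap mk = y := by
    rw [Ideal.comap_map_of_surjective mk hmk, ← RingHom.ker_eq_comap_bot]
    exact sup_eq_left.mpr hqy'
  rw [← hcomap]
  exact Ideal.comap_isMaximal_of_surjective mk hmk

end Groth.Agent.Lib.Helper15
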