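import Mathlib
import Groth.Prelude.Def_W4c5normfunctorschNorm

/-!
# The determinant functional on a tensor power and the span of tensors with two equal factors
(helper15)

For a free module `M` with basis `b` indexed by `Fin d`, the functional
`detFun b : ⨂[R] _ : Fin d, M → R`, `m₁ ⊗ ⋯ ⊗ m_d ↦ det(m₁, …, m_d)` has kernel exactly
`SymTen.altSpan R M d`.
-/

set_option autoImplicit false
universe u
open scoped TensorProduct
open PiTensorProduct

namespace Groth.Agent.Lib.Helper15.AltSpanDet

variable {R : Type u} [CommRing R] {M : Type u} [AddCommGroup M] [Module R M] {d : ℕ}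

/-- pure tensors with two equal factors are in `altSpan` -/
theorem tprod_mem_altSpan (p : Fin d → M) {i j : Fin d} (hij : i ≠ j) (h : p i = p j) :
    tprod R p ∈ SymTen.altSpan R M d :=
  Submodule.subset_span ⟨p, i, j, hij, h, rfl⟩

/-- `p ∘ swap + p ∈ altSpan` -/
theorem tprod_swap_add_mem (p : Fin d → M) {i j : Fin d} (hij : i ≠ j) :
    tprod R (p ∘ Equiv.swap i j) + tprod R p ∈ SymTen.altSpan R M d := by
  classical
  -- the tensor with `p i + p j` in slots `i` and `j`
  let q : M → M → Fin d → M := fun a c => Function.update (Function.update p i a) j c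
  have hq : ∀ a c, q a c i = a ∧ q a c j = c := by
    intro a c
    constructor
    · simp only [q]
      rw [Function.update_of_ne hij, Function.update_self]
    · simp only [q]
      rw [Function.update_self]
  have h1 : tprod R (q (p i + p j) (p i + p j)) ∈ SymTen.altSpan R M d :=
    tprod_mem_altSpan _ hij (by rw [(hq _ _).1, (hq _ _).2])
  have h2 : tprod R (q (p i) (p i)) ∈ SymTen.altSpan R M d :=
    tprod_mem_altSpan _ hij (by rw [(hq _ _).1, (hq _ _).2])
  have h3 : tprod R (q (p j) (p j)) ∈ SymTen.altSpan R M d :=
    tprod_mem_altSpan _ hij (by rw [(hq _ _).1, (hq _ _).2])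
  have hA : ∀ a a' c : M, tprod R (q (a + a') c) = tprod R (q a c) + tprod R (q a' c) := by
    intro a a' c
    simp only [q]
    rw [Function.update_comm (β := fun _ => M) hij (a + a') c p,
      MultilinearMap.map_update_add,
      Function.update_comm (β := fun _ => M) hij a c p,
      Function.update_comm (β := fun _ => M) hij a' c p]
  have hB : ∀ a c c' : M, tprod R (q a (c + c')) = tprod R (q a c) + tprod R (q a c') := by
    intro a c c'
    simp only [q]
    rw [MultilinearMap.map_update_add]
  have hexp : tprod R (q (p i + p j) (p i + p j)) =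
      tprod R (q (p i) (p i)) + tprod R (q (p i) (p j)) +
        (tprod R (q (p j) (p i)) + tprod R (q (p j) (p j))) := by
    rw [hA, hB, hB]
  have hpp : q (p i) (p j) = p := by
    simp only [q]
    rw [Function.update_eq_self, Function.update_eq_self]
  have hsw : q (p j) (p i) = p ∘ Equiv.swap i j := by
    funext k
    simp only [q, Function.comp_apply]
    by_cases hkj : k = j
    · subst hkj
      rw [Function.update_self, Equiv.swap_apply_right]
    · rw [Function.update_of_ne hkj]
      by_cases hki : k = i
      · subst hki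
        rw [Function.update_self, Equiv.swap_apply_left]
      · rw [Function.update_of_ne hki, Equiv.swap_apply_of_ne_of_ne hki hkj]
  rw [hpp, hsw] at hexp
  have : tprod R (p ∘ Equiv.swap i j) + tprod R p =
      tprod R (q (p i + p j) (p i + p j)) - tprod R (q (p i) (p i)) -
        tprod R (q (p j) (p j)) := by
    rw [hexp]; abel
  rw [this]
  exact Submodule.sub_mem _ (Submodule.sub_mem _ h1 h2) h3

/-- `p ∘ σ ≡ sign σ • p` modulo `altSpan` -/
theorem tprod_perm_sub_mem (σ : Equiv.Perm (Fin d)) :
    ∀ p : Fin d → M, tprod R (p ∘ σ) - ((Equiv.Perm.sign σ : ℤˣ) : ℤ) • tprod R p ∈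
      SymTen.altSpan R M d := by
  induction σ using Equiv.Perm.swap_induction_on with
  | one =>
    intro p
    simp
  | swap_mul f x y hxy ih =>
    intro p
    have h1 := ih (p ∘ Equiv.swap x y)
    have h2 := tprod_swap_add_mem (R := R) p hxy
    have h3 : p ∘ ⇑(Equiv.swap x y * f) = (p ∘ Equiv.swap x y) ∘ f := by
      funext k; simp
    rw [h3, Equiv.Perm.sign_mul, Equiv.Perm.sign_swap hxy]
    have h4 : tprod R ((p ∘ Equiv.swap x y) ∘ f) -
        ((((-1 : ℤˣ) * Equiv.Perm.sign f : ℤˣ) : ℤ)) • tprod R p =
        (tprod R ((p ∘ Equiv.swap x y) ∘ f) -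
          ((Equiv.Perm.sign f : ℤˣ) : ℤ) • tprod R (p ∘ Equiv.swap x y)) +
        ((Equiv.Perm.sign f : ℤˣ) : ℤ) • (tprod R (p ∘ Equiv.swap x y) + tprod R p) := by
      have hs : (((-1 : ℤˣ) * Equiv.Perm.sign f : ℤˣ) : ℤ) = -((Equiv.Perm.sign f : ℤˣ) : ℤ) := by
        simp
      rw [hs]
      generalize ((Equiv.Perm.sign f : ℤˣ) : ℤ) = s
      generalize tprod R ((p ∘ Equiv.swap x y) ∘ f) = A
      generalize tprod R (p ∘ Equiv.swap x y) = X
      generalize tprod R p = Y
      have e1 : s • (X + Y) = s • X + s • Y := zsmul_add _ _ _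
      have e2 : (-s) • Y = -(s • Y) := neg_zsmul _ _
      rw [e1, e2]
      abel
    rw [h4]
    exact Submodule.add_mem _ h1 (Submodule.smul_of_tower_mem _ _ h2)

variable (b : Module.Basis (Fin d) R M)

/-- the determinant functional -/
noncomputable def detFun : (⨂[R] _ : Fin d, M) →ₗ[R] R :=
  PiTensorProduct.lift (b.det : M [⋀^Fin d]→ₗ[R] R).toMultilinearMap

@[simp]
theorem detFun_tprod (p : Fin d → M) : detFun b (tprod R p) = b.det p := by
  unfold detFun
  rw [PiTensorProduct.lift.tprod]
  rfl

theorem altSpan_le_ker : SymTen.altSpan R M d ≤ LinearMap.ker (detFun b) := by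
  unfold SymTen.altSpan
  rw [Submodule.span_le]
  rintro _ ⟨p, i, j, hij, hp, rfl⟩
  rw [SetLike.mem_coe, LinearMap.mem_ker, detFun_tprod]
  exact (b.det).map_eq_zero_of_eq p hp hij

/-- the basic congruence: `x ≡ detFun x • (b₁ ⊗ ⋯ ⊗ b_d)` modulo `altSpan` -/
theorem sub_detFun_smul_mem (x : ⨂[R] _ : Fin d, M) :
    x - detFun b x • tprod R (fun j => b j) ∈ SymTen.altSpan R M d := by
  classical
  induction x using PiTensorProduct.induction_on with
  | smul_tprod r p =>
    -- expand `p` in the basis
    have hp : p = fun j => ∑ k, b.repr (p j) k • b k := by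
      funext j
      exact (b.sum_repr (p j)).symm
    have key : ∀ K : Fin d → Fin d,
        tprod R (fun j => b (K j)) - detFun b (tprod R (fun j => b (K j))) •
          tprod R (fun j => b j) ∈ SymTen.altSpan R M d := by
      intro K
      by_cases hK : Function.Injective K
      · have hbij : Function.Bijective K := Finite.injective_iff_bijective.mp hK
        let σ : Equiv.Perm (Fin d) := Equiv.ofBijective K hbij
        have h1 := tprod_perm_sub_mem (R := R) σ (fun j => b j)
        have h2 : (fun j => b j) ∘ ⇑σ = fun j => b (K j) := rfl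
        rw [h2] at h1
        rw [detFun_tprod]
        have h3 : b.det (fun j => b (K j)) = ((Equiv.Perm.sign σ : ℤˣ) : ℤ) := by
          have := (b.det).map_perm (fun j => b j) σ
          rw [h2] at this
          rw [this]
          have hself : b.det (fun j => b j) = 1 := b.det_self
          rw [hself, Units.smul_def, zsmul_eq_mul, mul_one]
        rw [h3]
        have h4 : (((Equiv.Perm.sign σ : ℤˣ) : ℤ) : R) • tprod R (fun j => b j) =
            ((Equiv.Perm.sign σ : ℤˣ) : ℤ) • tprod R (fun j => b j) := by
          rw [Int.cast_smul_eq_zsmul]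
        rw [h4]
        exact h1
      · rw [Function.Injective] at hK
        push Not at hK
        obtain ⟨i, j, hKij, hij⟩ := hK
        have h1 : tprod R (fun j => b (K j)) ∈ SymTen.altSpan R M d :=
          tprod_mem_altSpan _ hij (by simp only [hKij])
        have h2 : detFun b (tprod R (fun j => b (K j))) = 0 := altSpan_le_ker b h1
        rw [h2, zero_smul, sub_zero]
        exact h1
    rw [hp, MultilinearMap.map_sum, Finset.smul_sum, map_sum, Finset.sum_smul, ← Finset.sum_sub_distrib]
    refine Submodule.sum_mem _ fun K _ => ?_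
    rw [MultilinearMap.map_smul_univ, smul_smul, map_smul, smul_assoc, ← smul_sub]
    exact Submodule.smul_mem _ _ (key K)
  | add x y hx hy =>
    have : x + y - detFun b (x + y) • tprod R (fun j => b j) =
        (x - detFun b x • tprod R (fun j => b j)) + (y - detFun b y • tprod R (fun j => b j)) := by
      rw [map_add, add_smul]; abel
    rw [this]
    exact Submodule.add_mem _ hx hy

/-- `ker detFun = altSpan` -/
theorem mem_altSpan_iff (x : ⨂[R] _ : Fin d, M) :
    x ∈ SymTen.altSpan R M d ↔ detFun b x = 0 := by
  constructor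
  · intro h; exact altSpan_le_ker b h
  · intro h
    have := sub_detFun_smul_mem b x
    rwa [h, zero_smul, sub_zero] at this

end Groth.Agent.Lib.Helper15.AltSpanDet
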