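import Mathlib
import Groth.Prelude.Def_W4c5normfunctorschNorm
import Groth.Agent.Lib.Helper15.AltSpanDet

/-!
# Tensors invariant under a transposition lie in `altSpan` (projective modules) (helper15)
-/

set_option autoImplicit false
universe u
open scoped TensorProduct
open PiTensorProduct

namespace Groth.Agent.Lib.Helper15.AltSpanDet

variable {R : Type u} [CommRing R] {d : ℕ}

section free

variable {F : Type u} [AddCommGroup F] [Module R F] {n : ℕ} (b : Module.Basis (Fin n) R F)

include b in
theorem mem_altSpan_of_swap_invariant_free (i j : Fin d) (hij : i ≠ j) (z : ⨂[R] _ : Fin d, F)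
    (hz : PiTensorProduct.reindex R (fun _ : Fin d => F) (Equiv.swap i j) z = z) :
    z ∈ SymTen.altSpan R F d := by
  classical
  let B := Basis.piTensorProduct (fun _ : Fin d => b)
  let τ := Equiv.swap i j
  have hB : ∀ f : Fin d → Fin n, B f = tprod R (fun k => b (f k)) := fun f =>
    Basis.piTensorProduct_apply _ f
  have hτB : ∀ f : Fin d → Fin n,
      PiTensorProduct.reindex R (fun _ : Fin d => F) τ (B f) = B (f ∘ τ) := by
    intro f
    rw [hB, hB, PiTensorProduct.reindex_tprod]
    rfl
  have hττ : ∀ f : Fin d → Fin n, (f ∘ τ) ∘ τ = f := by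
    intro f
    funext k
    simp [τ]
  -- invariance of the coefficients
  have hc : ∀ g : Fin d → Fin n, B.repr z (g ∘ τ) = B.repr z g := by
    intro g
    have h1 : (Finsupp.lapply g ∘ₗ B.repr.toLinearMap ∘ₗ
        (PiTensorProduct.reindex R (fun _ : Fin d => F) τ).toLinearMap) =
        (Finsupp.lapply (g ∘ τ) ∘ₗ B.repr.toLinearMap) := by
      apply B.ext
      intro f
      simp only [LinearMap.comp_apply, LinearEquiv.coe_coe, Finsupp.lapply_apply]
      rw [hτB, Module.Basis.repr_self, Module.Basis.repr_self, Finsupp.single_apply,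
        Finsupp.single_apply]
      congr 1
      apply propext
      constructor
      · intro h
        rw [← h, hττ]
      · intro h
        rw [h, hττ]
    have h2 := LinearMap.congr_fun h1 z
    simp only [LinearMap.comp_apply, LinearEquiv.coe_coe, Finsupp.lapply_apply] at h2
    rw [← h2, hz]
  -- decomposition
  have hsum : z = ∑ f : Fin d → Fin n, B.repr z f • B f := (B.sum_repr z).symm
  rw [hsum]
  have hsplit : ∑ f : Fin d → Fin n, B.repr z f • B f =
      ∑ f ∈ Finset.univ.filter (fun f : Fin d → Fin n => f i = f j), B.repr z f • B f +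
      (∑ f ∈ Finset.univ.filter (fun f : Fin d → Fin n => f i < f j), B.repr z f • B f +
       ∑ f ∈ Finset.univ.filter (fun f : Fin d → Fin n => f j < f i), B.repr z f • B f) := by
    rw [← Finset.sum_filter_add_sum_filter_not Finset.univ (fun f : Fin d → Fin n => f i = f j)]
    congr 1
    rw [← Finset.sum_filter_add_sum_filter_not
      (Finset.univ.filter (fun f : Fin d → Fin n => ¬ f i = f j))
      (fun f : Fin d → Fin n => f i < f j)]
    congr 1
    · apply Finset.sum_congr _ (fun _ _ => rfl)
      ext f
      simp only [Finset.mem_filter, Finset.mem_univ, true_and]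
      exact ⟨fun h => h.2, fun h => ⟨h.ne, h⟩⟩
    · apply Finset.sum_congr _ (fun _ _ => rfl)
      ext f
      simp only [Finset.mem_filter, Finset.mem_univ, true_and]
      constructor
      · rintro ⟨h1, h2⟩
        exact lt_of_le_of_ne (not_lt.mp h2) (fun h => h1 h.symm)
      · intro h
        exact ⟨fun h' => absurd h (by rw [h']; exact lt_irrefl _), not_lt.mpr h.le⟩
  have hswap : ∑ f ∈ Finset.univ.filter (fun f : Fin d → Fin n => f j < f i), B.repr z f • B f =
      ∑ g ∈ Finset.univ.filter (fun f : Fin d → Fin n => f i < f j),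
        B.repr z g • B (g ∘ τ) := by
    symm
    refine Finset.sum_bij' (fun g _ => g ∘ τ) (fun f _ => f ∘ τ) ?_ ?_ ?_ ?_ ?_
    · intro g hg
      simp only [Finset.mem_filter, Finset.mem_univ, true_and] at hg ⊢
      simpa [τ] using hg
    · intro f hf
      simp only [Finset.mem_filter, Finset.mem_univ, true_and] at hf ⊢
      simpa [τ] using hf
    · intro g _
      exact hττ g
    · intro f _
      exact hττ f
    · intro g _
      rw [hc]
  rw [hsplit, hswap, ← Finset.sum_add_distrib]
  refine Submodule.add_mem _ (Submodule.sum_mem _ fun f hf => ?_)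
    (Submodule.sum_mem _ fun g _ => ?_)
  · simp only [Finset.mem_filter, Finset.mem_univ, true_and] at hf
    refine Submodule.smul_mem _ _ ?_
    rw [hB]
    exact tprod_mem_altSpan _ hij (by rw [hf])
  · rw [← smul_add]
    refine Submodule.smul_mem _ _ ?_
    rw [hB, hB, add_comm]
    exact tprod_swap_add_mem (R := R) (fun k => b (g k)) hij

end free

section proj

variable {P : Type u} [AddCommGroup P] [Module R P]

theorem map_mem_altSpan {P' : Type u} [AddCommGroup P'] [Module R P'] (π : P →ₗ[R] P')
    (x : ⨂[R] _ : Fin d, P) (hx : x ∈ SymTen.altSpan R P d) :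
    PiTensorProduct.map (fun _ : Fin d => π) x ∈ SymTen.altSpan R P' d := by
  unfold SymTen.altSpan at hx
  induction hx using Submodule.span_induction with
  | mem x hx =>
    obtain ⟨p, i, j, hij, hp, rfl⟩ := hx
    rw [PiTensorProduct.map_tprod]
    exact tprod_mem_altSpan _ hij (by rw [hp])
  | zero => rw [map_zero]; exact Submodule.zero_mem _
  | add x y _ _ hx hy => rw [map_add]; exact Submodule.add_mem _ hx hy
  | smul a x _ hx => rw [map_smul]; exact Submodule.smul_mem _ a hx

theorem map_reindex {P' : Type u} [AddCommGroup P'] [Module R P'] (π : P →ₗ[R] P')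
    (σ : Equiv.Perm (Fin d)) (x : ⨂[R] _ : Fin d, P) :
    PiTensorProduct.map (fun _ : Fin d => π) (PiTensorProduct.reindex R (fun _ : Fin d => P) σ x) =
      PiTensorProduct.reindex R (fun _ : Fin d => P') σ (PiTensorProduct.map (fun _ : Fin d => π) x) := by
  induction x using PiTensorProduct.induction_on with
  | smul_tprod r f =>
    rw [map_smul, map_smul, map_smul, map_smul, PiTensorProduct.reindex_tprod,
      PiTensorProduct.map_tprod, PiTensorProduct.map_tprod, PiTensorProduct.reindex_tprod]
  | add x y hx hy => rw [map_add, map_add, map_add, map_add, hx, hy]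

theorem mem_altSpan_of_swap_invariant [Module.Finite R P] [Module.Projective R P]
    (i j : Fin d) (hij : i ≠ j) (z : ⨂[R] _ : Fin d, P)
    (hz : PiTensorProduct.reindex R (fun _ : Fin d => P) (Equiv.swap i j) z = z) :
    z ∈ SymTen.altSpan R P d := by
  obtain ⟨n, f, g, hf, hfg⟩ := Module.Finite.exists_comp_eq_id_of_projective R P
  -- f : (Fin n → R) →ₗ P surjective, g : P →ₗ (Fin n → R), f ∘ g = id
  have h1 : PiTensorProduct.map (fun _ : Fin d => g) z ∈ SymTen.altSpan R (Fin n → R) d := by
    apply mem_altSpan_of_swap_invariant_free (Pi.basisFun R (Fin n)) i j hij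
    rw [← map_reindex, hz]
  have h2 := map_mem_altSpan f _ h1
  have h3 : PiTensorProduct.map (fun _ : Fin d => f) (PiTensorProduct.map (fun _ : Fin d => g) z)
      = z := by
    rw [← LinearMap.comp_apply, ← PiTensorProduct.map_comp]
    have : (fun _ : Fin d => f ∘ₗ g) = fun _ : Fin d => LinearMap.id := by
      funext _
      exact hfg.2
    rw [this, PiTensorProduct.map_id]
    rfl
  rwa [h3] at h2

end proj

section act

variable (A : Type u) [CommRing A] [Algebra R A]
  (P : Type u) [AddCommGroup P] [Module R P] [Module A P] [IsScalarTower R A P]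

theorem tpowAct_tprod (u : Fin d → A) (p : Fin d → P) :
    SymTen.tpowAct R A P d (tprod R u) (tprod R p) = tprod R (fun k => u k • p k) := by
  unfold SymTen.tpowAct
  rw [PiTensorProduct.lift.tprod]
  simp only [MultilinearMap.compLinearMap_apply, PiTensorProduct.mapMultilinear_apply,
    PiTensorProduct.map_tprod]
  rfl

theorem tpowAct_reindex (σ : Equiv.Perm (Fin d)) (a : ⨂[R] _ : Fin d, A)
    (x : ⨂[R] _ : Fin d, P) :
    PiTensorProduct.reindex R (fun _ : Fin d => P) σ (SymTen.tpowAct R A P d a x) =
      SymTen.tpowAct R A P d (PiTensorProduct.reindex R (fun _ : Fin d => A) σ a)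
        (PiTensorProduct.reindex R (fun _ : Fin d => P) σ x) := by
  induction a using PiTensorProduct.induction_on with
  | smul_tprod r u =>
    induction x using PiTensorProduct.induction_on with
    | smul_tprod s p =>
      simp only [map_smul, LinearMap.smul_apply]
      rw [tpowAct_tprod, PiTensorProduct.reindex_tprod, PiTensorProduct.reindex_tprod,
        PiTensorProduct.reindex_tprod, tpowAct_tprod]
    | add x y hx hy => simp only [map_add, hx, hy]
  | add a a' ha ha' => simp only [map_add, LinearMap.add_apply, ha, ha']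

theorem tpowAct_mem_altSpan [Module.Finite R P] [Module.Projective R P]
    (a : ⨂[R] _ : Fin d, A) (ha : a ∈ SymTen.TS R A d)
    (x : ⨂[R] _ : Fin d, P) (hx : x ∈ SymTen.altSpan R P d) :
    SymTen.tpowAct R A P d a x ∈ SymTen.altSpan R P d := by
  unfold SymTen.altSpan at hx
  induction hx using Submodule.span_induction with
  | mem x hx =>
    obtain ⟨p, i, j, hij, hp, rfl⟩ := hx
    apply mem_altSpan_of_swap_invariant i j hij
    rw [tpowAct_reindex, ha (Equiv.swap i j), PiTensorProduct.reindex_tprod]
    congr 2
    funext k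
    show p ((Equiv.swap i j).symm k) = p k
    rw [Equiv.symm_swap]
    by_cases hki : k = i
    · rw [hki, Equiv.swap_apply_left, hp]
    · by_cases hkj : k = j
      · rw [hkj, Equiv.swap_apply_right, hp]
      · rw [Equiv.swap_apply_of_ne_of_ne hki hkj]
  | zero => rw [map_zero]; exact Submodule.zero_mem _
  | add x y _ _ hx hy => rw [map_add]; exact Submodule.add_mem _ hx hy
  | smul r x _ hx => rw [map_smul]; exact Submodule.smul_mem _ r hx

end act

end Groth.Agent.Lib.Helper15.AltSpanDet
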