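import Mathlib

/-!
# Artin-type descent: a Galois-stable `L`-subspace of `L ⊗_K V` meeting `1 ⊗ V` trivially is zero
-/

set_option autoImplicit false
universe u v w
open scoped TensorProduct

namespace Groth.Agent.Lib.Helper15.ArtinDescent

variable {K : Type u} {L : Type v} [Field K] [Field L] [Algebra K L]
  {V : Type w} [AddCommGroup V] [Module K V]

/-- The semilinear action of `γ` on `L ⊗ V` through the first factor. -/
noncomputable def act (γ : L ≃ₐ[K] L) : L ⊗[K] V →ₗ[K] L ⊗[K] V :=
  TensorProduct.map γ.toLinearMap LinearMap.id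

@[simp] lemma act_tmul (γ : L ≃ₐ[K] L) (l : L) (v : V) :
    act γ (l ⊗ₜ[K] v) = γ l ⊗ₜ[K] v := rfl

lemma act_smul (γ : L ≃ₐ[K] L) (l : L) (x : L ⊗[K] V) :
    act γ (l • x) = γ l • act γ x := by
  induction x using TensorProduct.induction_on with
  | zero => simp
  | tmul a v => simp [TensorProduct.smul_tmul']
  | add a b ha hb => rw [smul_add, map_add, ha, hb, map_add, smul_add]

variable {ι : Type*} (b : Module.Basis ι K V)

lemma repr_act (γ : L ≃ₐ[K] L) (x : L ⊗[K] V) (i : ι) :
    (Algebra.TensorProduct.basis L b).repr (act γ x) i =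
      γ ((Algebra.TensorProduct.basis L b).repr x i) := by
  classical
  set B := Algebra.TensorProduct.basis L b with hB
  have hx : x = ∑ j ∈ (B.repr x).support, (B.repr x j) • B j := by
    conv_lhs => rw [← B.linearCombination_repr x, Finsupp.linearCombination_apply, Finsupp.sum]
  conv_lhs => rw [hx]
  rw [map_sum, map_sum, Finsupp.coe_finset_sum, Finset.sum_apply]
  have hterm : ∀ j, act γ ((B.repr x j) • B j) = γ (B.repr x j) • B j := by
    intro j
    rw [act_smul, hB, Algebra.TensorProduct.basis_apply, act_tmul, map_one]
  simp_rw [hterm, map_smul, B.repr_self, Finsupp.smul_single, smul_eq_mul, mul_one]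
  rw [Finset.sum_eq_single i]
  · simp
  · intro j _ hj
    simp [Finsupp.single_apply, hj]
  · intro hi
    have : B.repr x i = 0 := by simpa using hi
    simp [this]

/-- **Artin descent (vanishing form).** -/
theorem eq_bot_of_stable (hfix : ∀ x : L, (∀ γ : L ≃ₐ[K] L, γ x = x) → x ∈ Set.range (algebraMap K L))
    (W : Submodule L (L ⊗[K] V)) (hstab : ∀ (γ : L ≃ₐ[K] L), ∀ x ∈ W, act γ x ∈ W)
    (hW : ∀ v : V, (1 : L) ⊗ₜ[K] v ∈ W → v = 0) : W = ⊥ := by
  classical
  let b := Module.Free.chooseBasis K V
  set B := Algebra.TensorProduct.basis L b with hB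
  have key : ∀ n : ℕ, ∀ w ∈ W, (B.repr w).support.card = n → w = 0 := by
    intro n
    induction n using Nat.strong_induction_on with
    | _ n ih =>
      intro w hw hcard
      by_contra hw0
      have hne : (B.repr w).support.Nonempty := by
        rw [Finsupp.support_nonempty_iff]
        intro h0
        exact hw0 (B.repr.injective (by rw [h0, map_zero]))
      obtain ⟨i₀, hi₀⟩ := hne
      have hc : B.repr w i₀ ≠ 0 := by simpa using hi₀
      set w' := (B.repr w i₀)⁻¹ • w with hw'
      have hw'W : w' ∈ W := W.smul_mem _ hw
      have hrepr' : ∀ i, B.repr w' i = (B.repr w i₀)⁻¹ * B.repr w i := by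
        intro i
        rw [hw', map_smul, Finsupp.smul_apply, smul_eq_mul]
      have hi₀' : B.repr w' i₀ = 1 := by rw [hrepr', inv_mul_cancel₀ hc]
      have hsupp : (B.repr w').support = (B.repr w).support := by
        ext i
        simp only [Finsupp.mem_support_iff, hrepr', ne_eq, mul_eq_zero, inv_eq_zero, hc, false_or]
      -- all coefficients of w' are fixed
      have hfixed : ∀ (γ : L ≃ₐ[K] L) i, γ (B.repr w' i) = B.repr w' i := by
        intro γ i
        have hd : act γ w' - w' ∈ W := W.sub_mem (hstab γ w' hw'W) hw'W
        have hreprd : ∀ j, B.repr (act γ w' - w') j = γ (B.repr w' j) - B.repr w' j := by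
          intro j
          rw [map_sub, Finsupp.sub_apply, hB, repr_act]
        have hsub : (B.repr (act γ w' - w')).support ⊂ (B.repr w).support := by
          rw [← hsupp]
          refine ⟨fun j hj => ?_, fun hcon => ?_⟩
          · rw [Finsupp.mem_support_iff, hreprd] at hj
            rw [Finsupp.mem_support_iff]
            intro h0
            apply hj
            rw [h0, map_zero, sub_zero]
          · have := hcon (by rw [hsupp]; exact hi₀)
            rw [Finsupp.mem_support_iff, hreprd, hi₀', map_one, sub_self] at this
            exact this rfl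
        have hlt : (B.repr (act γ w' - w')).support.card < n := by
          rw [← hcard]
          exact Finset.card_lt_card hsub
        have h0 := ih _ hlt _ hd rfl
        have := hreprd i
        rw [h0, map_zero, Finsupp.zero_apply] at this
        exact (sub_eq_zero.mp this.symm)
      -- hence w' = 1 ⊗ v
      have hcoef : ∀ i, ∃ c : K, algebraMap K L c = B.repr w' i := fun i =>
        hfix _ (fun γ => hfixed γ i)
      choose c hc' using hcoef
      have hw'eq : w' = (1 : L) ⊗ₜ[K] (∑ i ∈ (B.repr w').support, c i • b i) := by
        conv_lhs => rw [← B.linearCombination_repr w', Finsupp.linearCombination_apply, Finsupp.sum]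
        rw [TensorProduct.tmul_sum]
        refine Finset.sum_congr rfl fun i _ => ?_
        rw [hB, Algebra.TensorProduct.basis_apply, ← hc', TensorProduct.tmul_smul,
          algebraMap_smul]
      have hv := hW _ (hw'eq ▸ hw'W)
      rw [hv, TensorProduct.tmul_zero] at hw'eq
      rw [hw'eq, map_zero, Finsupp.zero_apply] at hi₀'
      exact zero_ne_one hi₀'
  rw [eq_bot_iff]
  intro w hw
  exact (Submodule.mem_bot L).mpr (key _ w hw rfl)

end Groth.Agent.Lib.Helper15.ArtinDescent
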