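import Mathlib

/-!
# Base change of `Hom` for finite projective modules, and of `AlgHom.mulLeftRight` (helper15)
-/

set_option autoImplicit false
universe u v w
open scoped TensorProduct

namespace Groth.Agent.Lib.Helper15.Azumaya

section homBaseChange

variable (R : Type*) [CommRing R] (S : Type*) [CommRing S] [Algebra R S]
  (M N : Type*) [AddCommGroup M] [Module R M] [AddCommGroup N] [Module R N]

/-- `θ : S ⊗ Hom_R(M,N) → Hom_S(S ⊗ M, S ⊗ N)`. -/
noncomputable def θ : S ⊗[R] (M →ₗ[R] N) →ₗ[S] (S ⊗[R] M →ₗ[S] S ⊗[R] N) :=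
  (LinearMap.baseChangeHom R S M N).liftBaseChange S

lemma θ_tmul (s : S) (f : M →ₗ[R] N) : θ R S M N (s ⊗ₜ f) = s • f.baseChange S := rfl

theorem θ_bijective_of_free (ι : Type*) [Finite ι] : Function.Bijective (θ R S (ι → R) N) := by
  have h := Module.isBaseChange_map_of_finite_free (R := R) N S ι
  have heq : θ R S (ι → R) N = h.equiv.toLinearMap := by
    apply TensorProduct.AlgebraTensorModule.ext
    intro s f
    rw [θ_tmul, LinearEquiv.coe_coe, IsBaseChange.equiv_tmul]
    rfl
  rw [heq]
  exact h.equiv.bijective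

variable {R S M N} in
/-- naturality of `θ` in the first variable -/
lemma θ_naturality {M' : Type*} [AddCommGroup M'] [Module R M'] (p : M' →ₗ[R] M)
    (x : S ⊗[R] (M →ₗ[R] N)) :
    θ R S M' N (LinearMap.baseChange S (LinearMap.lcomp R N p) x) =
      (θ R S M N x).comp (p.baseChange S) := by
  induction x using TensorProduct.induction_on with
  | zero => simp
  | tmul s f =>
    rw [LinearMap.baseChange_tmul, θ_tmul, θ_tmul, LinearMap.lcomp_apply', LinearMap.baseChange_comp,
      LinearMap.smul_comp]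
  | add x y hx hy => rw [map_add, map_add, hx, hy, map_add, LinearMap.add_comp]

theorem θ_bijective [Module.Finite R M] [Module.Projective R M] :
    Function.Bijective (θ R S M N) := by
  obtain ⟨n, p, i, -, -, hpi⟩ := Module.Finite.exists_comp_eq_id_of_projective R M
  have hF := θ_bijective_of_free R S N (Fin n)
  have hpiS : (p.baseChange S).comp (i.baseChange S) = LinearMap.id := by
    rw [← LinearMap.baseChange_comp, hpi, LinearMap.baseChange_id]
  have hlc : ∀ x : S ⊗[R] (M →ₗ[R] N),
      LinearMap.baseChange S (LinearMap.lcomp R N i)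
        (LinearMap.baseChange S (LinearMap.lcomp R N p) x) = x := by
    intro x
    induction x using TensorProduct.induction_on with
    | zero => simp
    | tmul s f =>
      rw [LinearMap.baseChange_tmul, LinearMap.baseChange_tmul, LinearMap.lcomp_apply',
        LinearMap.lcomp_apply', LinearMap.comp_assoc, hpi, LinearMap.comp_id]
    | add x y hx hy => rw [map_add, map_add, hx, hy]
  constructor
  · rw [injective_iff_map_eq_zero]
    intro x hx
    have h1 : θ R S (Fin n → R) N (LinearMap.baseChange S (LinearMap.lcomp R N p) x) = 0 := by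
      rw [θ_naturality, hx, LinearMap.zero_comp]
    have h2 := (injective_iff_map_eq_zero _).mp hF.1 _ h1
    rw [← hlc x, h2, map_zero]
  · intro g
    obtain ⟨y, hy⟩ := hF.2 (g.comp (p.baseChange S))
    refine ⟨LinearMap.baseChange S (LinearMap.lcomp R N i) y, ?_⟩
    rw [θ_naturality, hy, LinearMap.comp_assoc, hpiS, LinearMap.comp_id]

end homBaseChange

section mulLeftRight

variable (R : Type*) [CommRing R] (S : Type*) [CommRing S] [Algebra R S]
  (A : Type*) [Ring A] [Algebra R A]

/-- `S ⊗ Aᵐᵒᵖ ≃ (S ⊗ A)ᵐᵒᵖ` as `S`-modules -/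
noncomputable def γ : S ⊗[R] Aᵐᵒᵖ ≃ₗ[S] (S ⊗[R] A)ᵐᵒᵖ :=
  (TensorProduct.AlgebraTensorModule.congr (LinearEquiv.refl S S)
    (MulOpposite.opLinearEquiv R).symm) ≪≫ₗ MulOpposite.opLinearEquiv S

lemma γ_tmul (s : S) (a : Aᵐᵒᵖ) : γ R S A (s ⊗ₜ a) = MulOpposite.op (s ⊗ₜ a.unop) := rfl

/-- `S ⊗ (A ⊗ Aᵐᵒᵖ) ≃ (S ⊗ A) ⊗[S] (S ⊗ A)ᵐᵒᵖ` -/
noncomputable def α : S ⊗[R] (A ⊗[R] Aᵐᵒᵖ) ≃ₗ[S] (S ⊗[R] A) ⊗[S] (S ⊗[R] A)ᵐᵒᵖ :=
  (TensorProduct.AlgebraTensorModule.distribBaseChange R S A Aᵐᵒᵖ) ≪≫ₗ
    TensorProduct.AlgebraTensorModule.congr (LinearEquiv.refl S _) (γ R S A)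

lemma α_tmul (s : S) (a : A) (b : Aᵐᵒᵖ) :
    α R S A (s ⊗ₜ (a ⊗ₜ b)) = (s ⊗ₜ a) ⊗ₜ MulOpposite.op ((1 : S) ⊗ₜ b.unop) := by
  simp only [α, LinearEquiv.trans_apply, TensorProduct.AlgebraTensorModule.distribBaseChange_tmul,
    TensorProduct.AlgebraTensorModule.congr_tmul, LinearEquiv.refl_apply, γ_tmul]

/-- the commutative square relating `mulLeftRight` of `S ⊗ A` and the base change of
`mulLeftRight` of `A` -/
theorem mulLeftRight_α (x : S ⊗[R] (A ⊗[R] Aᵐᵒᵖ)) :
    AlgHom.mulLeftRight S (S ⊗[R] A) (α R S A x) =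
      θ R S A A (LinearMap.baseChange S (AlgHom.mulLeftRight R A).toLinearMap x) := by
  induction x using TensorProduct.induction_on with
  | zero => simp
  | tmul s y =>
    induction y using TensorProduct.induction_on with
    | zero => simp
    | tmul a b =>
      rw [α_tmul, LinearMap.baseChange_tmul, θ_tmul]
      apply LinearMap.ext
      intro z
      induction z using TensorProduct.induction_on with
      | zero => simp
      | tmul t c =>
        rw [AlgHom.mulLeftRight_apply, LinearMap.smul_apply, LinearMap.baseChange_tmul,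
          AlgHom.toLinearMap_apply, AlgHom.mulLeftRight_apply, MulOpposite.unop_op,
          Algebra.TensorProduct.tmul_mul_tmul, Algebra.TensorProduct.tmul_mul_tmul,
          TensorProduct.smul_tmul', smul_eq_mul, mul_one]
      | add z z' hz hz' => rw [map_add, map_add, hz, hz']
    | add y y' hy hy' =>
      rw [TensorProduct.tmul_add, map_add, map_add, hy, hy', map_add, map_add]
  | add x y hx hy => rw [map_add, map_add, hx, hy, map_add, map_add]

theorem mulLeftRight_bijective_baseChange_iff [Module.Finite R A] [Module.Projective R A] :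
    Function.Bijective (AlgHom.mulLeftRight S (S ⊗[R] A)) ↔
      Function.Bijective (LinearMap.baseChange S (AlgHom.mulLeftRight R A).toLinearMap) := by
  have hθ := θ_bijective R S A A
  have hcomp : (AlgHom.mulLeftRight S (S ⊗[R] A)) ∘ (α R S A) =
      (θ R S A A) ∘ (LinearMap.baseChange S (AlgHom.mulLeftRight R A).toLinearMap) := by
    funext x
    exact mulLeftRight_α R S A x
  constructor
  · intro h
    have h1 : Function.Bijective ((AlgHom.mulLeftRight S (S ⊗[R] A)) ∘ (α R S A)) :=
      h.comp (α R S A).bijective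
    rw [hcomp] at h1
    exact ⟨Function.Injective.of_comp h1.1,
      fun y => by
        obtain ⟨x, hx⟩ := h1.2 (θ R S A A y)
        exact ⟨x, hθ.1 hx⟩⟩
  · intro h
    have h1 : Function.Bijective ((θ R S A A) ∘
        (LinearMap.baseChange S (AlgHom.mulLeftRight R A).toLinearMap)) := hθ.comp h
    rw [← hcomp] at h1
    exact ⟨fun x y hxy => by
        have := h1.1 (a₁ := (α R S A).symm x) (a₂ := (α R S A).symm y) (by simpa using hxy)
        exact (α R S A).symm.injective this,
      Function.Surjective.of_comp h1.2⟩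

end mulLeftRight

end Groth.Agent.Lib.Helper15.Azumaya
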