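import Mathlib

/-!
# Tensor products of central simple algebras (helper15)

* `exists_one_tmul_mem`: a nonzero two-sided ideal of `A ⊗[K] B` with `A` central simple contains
  some `1 ⊗ b` with `b ≠ 0`.
* `isSimpleRing_tensorProduct`: `A` central simple, `B` simple ⇒ `A ⊗[K] B` simple.
-/

set_option autoImplicit false

namespace Groth.Agent.Lib.Helper15.CSA

open TensorProduct

variable {K A B : Type*} [Field K] [Ring A] [Ring B] [Algebra K A] [Algebra K B]

section coords

variable {ι : Type*} [DecidableEq ι] (ℬ : Module.Basis ι K B)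

/-- Coordinates of an element of `A ⊗ B` with respect to a basis of `B`. -/
noncomputable abbrev coords : A ⊗[K] B ≃ₗ[K] (ι →₀ A) := TensorProduct.equivFinsuppOfBasisRight ℬ

lemma coords_mul_left (a : A) (w : A ⊗[K] B) (j : ι) :
    coords ℬ ((a ⊗ₜ[K] (1 : B)) * w) j = a * coords ℬ w j := by
  induction w using TensorProduct.induction_on with
  | zero => simp
  | tmul x y =>
    rw [Algebra.TensorProduct.tmul_mul_tmul, one_mul,
      TensorProduct.equivFinsuppOfBasisRight_apply_tmul_apply,
      TensorProduct.equivFinsuppOfBasisRight_apply_tmul_apply, mul_smul_comm]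
  | add x y hx hy => simp only [mul_add, map_add, Finsupp.add_apply, hx, hy]

lemma coords_mul_right (a : A) (w : A ⊗[K] B) (j : ι) :
    coords ℬ (w * (a ⊗ₜ[K] (1 : B))) j = coords ℬ w j * a := by
  induction w using TensorProduct.induction_on with
  | zero => simp
  | tmul x y =>
    rw [Algebra.TensorProduct.tmul_mul_tmul, mul_one,
      TensorProduct.equivFinsuppOfBasisRight_apply_tmul_apply,
      TensorProduct.equivFinsuppOfBasisRight_apply_tmul_apply, smul_mul_assoc]
  | add x y hx hy => simp only [add_mul, map_add, Finsupp.add_apply, hx, hy]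

end coords

/-- A nonzero two-sided ideal of `A ⊗[K] B`, with `A` central simple over `K`, contains an element
`1 ⊗ b` with `b ≠ 0`. -/
theorem exists_one_tmul_mem [Algebra.IsCentral K A] [IsSimpleRing A]
    (I : TwoSidedIdeal (A ⊗[K] B)) (hI : I ≠ ⊥) :
    ∃ b : B, b ≠ 0 ∧ (1 : A) ⊗ₜ[K] b ∈ I := by
  classical
  let ℬ := Module.Basis.ofVectorSpace K B
  obtain ⟨w0, hw0I, hw00⟩ : ∃ w ∈ I, w ≠ 0 := by
    by_contra hcon
    push Not at hcon
    apply hI
    rw [eq_bot_iff]
    intro x hx
    exact (TwoSidedIdeal.mem_bot _).mpr (hcon x hx)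
  let P : ℕ → Prop := fun n => ∃ w ∈ I, w ≠ 0 ∧ (coords ℬ w).support.card = n
  have hP : ∃ n, P n := ⟨_, w0, hw0I, hw00, rfl⟩
  obtain ⟨w, hwI, hw0, hwn⟩ := Nat.find_spec hP
  have hmin : ∀ w' ∈ I, w' ≠ 0 → Nat.find hP ≤ (coords ℬ w').support.card :=
    fun w' h1 h2 => Nat.find_min' hP ⟨w', h1, h2, rfl⟩
  have hc0 : coords ℬ w ≠ 0 := (LinearEquiv.map_ne_zero_iff _).mpr hw0
  obtain ⟨j0, hj0⟩ := Finsupp.support_nonempty_iff.mpr hc0
  -- the ideal of possible `j0`-coordinates
  let J : TwoSidedIdeal A := TwoSidedIdeal.mk'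
    {a | ∃ w' ∈ I, (coords ℬ w').support ⊆ (coords ℬ w).support ∧ coords ℬ w' j0 = a}
    ⟨0, I.zero_mem, by simp, by simp⟩
    (by
      rintro x y ⟨wx, hwx, hsx, rfl⟩ ⟨wy, hwy, hsy, rfl⟩
      refine ⟨wx + wy, I.add_mem hwx hwy, ?_, by simp⟩
      rw [map_add]
      exact Finsupp.support_add.trans (Finset.union_subset hsx hsy))
    (by
      rintro x ⟨wx, hwx, hsx, rfl⟩
      refine ⟨-wx, I.neg_mem hwx, ?_, by simp⟩
      rw [map_neg, Finsupp.support_neg]
      exact hsx)
    (by
      rintro x y ⟨wy, hwy, hsy, rfl⟩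
      refine ⟨(x ⊗ₜ[K] (1 : B)) * wy, I.mul_mem_left _ _ hwy, ?_, coords_mul_left ℬ x wy j0⟩
      intro j hj
      apply hsy
      rw [Finsupp.mem_support_iff] at hj ⊢
      intro h0
      apply hj
      rw [coords_mul_left, h0, mul_zero])
    (by
      rintro x y ⟨wx, hwx, hsx, rfl⟩
      refine ⟨wx * (y ⊗ₜ[K] (1 : B)), I.mul_mem_right _ _ hwx, ?_, coords_mul_right ℬ y wx j0⟩
      intro j hj
      apply hsx
      rw [Finsupp.mem_support_iff] at hj ⊢
      intro h0
      apply hj
      rw [coords_mul_right, h0, zero_mul])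
  have hJ : coords ℬ w j0 ∈ J := by
    rw [TwoSidedIdeal.mem_mk']
    exact ⟨w, hwI, subset_rfl, rfl⟩
  have h1J : (1 : A) ∈ J :=
    IsSimpleRing.one_mem_of_ne_zero_mem J (Finsupp.mem_support_iff.mp hj0) hJ
  rw [TwoSidedIdeal.mem_mk'] at h1J
  obtain ⟨w1, hw1I, hw1S, hw1j0⟩ := h1J
  have hj0' : j0 ∈ (coords ℬ w1).support := by
    rw [Finsupp.mem_support_iff, hw1j0]; exact one_ne_zero
  have hw10 : w1 ≠ 0 := by
    rintro rfl
    simp at hw1j0
  have hcard : (coords ℬ w1).support.card = Nat.find hP :=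
    le_antisymm ((Finset.card_le_card hw1S).trans_eq hwn) (hmin w1 hw1I hw10)
  -- all coordinates of `w1` are central
  have hcentral : ∀ j, ∀ a : A, a * coords ℬ w1 j = coords ℬ w1 j * a := by
    intro j a
    set d := (a ⊗ₜ[K] (1 : B)) * w1 - w1 * (a ⊗ₜ[K] (1 : B)) with hd
    have hdI : d ∈ I := I.sub_mem (I.mul_mem_left _ _ hw1I) (I.mul_mem_right _ _ hw1I)
    have hdj : ∀ j, coords ℬ d j = a * coords ℬ w1 j - coords ℬ w1 j * a := by
      intro j
      rw [hd, map_sub, Finsupp.sub_apply, coords_mul_left, coords_mul_right]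
    have hd0 : d = 0 := by
      by_contra hne
      have h1 := hmin d hdI hne
      have h2 : (coords ℬ d).support ⊆ (coords ℬ w1).support.erase j0 := by
        intro j hj
        rw [Finsupp.mem_support_iff, hdj] at hj
        rw [Finset.mem_erase]
        refine ⟨?_, ?_⟩
        · rintro rfl
          apply hj
          rw [hw1j0]; simp
        · rw [Finsupp.mem_support_iff]
          intro h0
          apply hj
          rw [h0]; simp
      have h3 := Finset.card_le_card h2
      rw [Finset.card_erase_of_mem hj0', hcard] at h3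
      have hpos : 0 < Nat.find hP := by
        rw [← hcard]; exact Finset.card_pos.mpr ⟨j0, hj0'⟩
      omega
    have h4 := hdj j
    rw [hd0, map_zero, Finsupp.zero_apply] at h4
    exact sub_eq_zero.mp h4.symm
  have hK : ∀ j, ∃ κ : K, coords ℬ w1 j = algebraMap K A κ := fun j =>
    (Algebra.IsCentral.mem_center_iff K).mp (Subalgebra.mem_center_iff.mpr (fun a => hcentral j a))
  choose κ hκ using hK
  have hw1b : w1 = (1 : A) ⊗ₜ[K] (∑ j ∈ (coords ℬ w1).support, κ j • ℬ j) := by
    conv_lhs => rw [← (coords ℬ).symm_apply_apply w1,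
      TensorProduct.equivFinsuppOfBasisRight_symm_apply, Finsupp.sum]
    rw [TensorProduct.tmul_sum]
    refine Finset.sum_congr rfl fun j _ => ?_
    rw [hκ j, Algebra.algebraMap_eq_smul_one, TensorProduct.smul_tmul]
  refine ⟨_, ?_, hw1b ▸ hw1I⟩
  intro hb0
  apply hw10
  rw [hw1b, hb0, TensorProduct.tmul_zero]

/-- The tensor product of a central simple algebra with a simple algebra is simple. -/
theorem isSimpleRing_tensorProduct [Algebra.IsCentral K A] [IsSimpleRing A] [IsSimpleRing B] :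
    IsSimpleRing (A ⊗[K] B) := by
  have hinj : Function.Injective (Algebra.TensorProduct.includeRight : B →ₐ[K] A ⊗[K] B) :=
    Algebra.TensorProduct.includeRight_injective (FaithfulSMul.algebraMap_injective K A)
  have hnt : Nontrivial (A ⊗[K] B) := hinj.nontrivial
  refine IsSimpleRing.of_eq_bot_or_eq_top fun I => ?_
  rw [or_iff_not_imp_left]
  intro hI
  obtain ⟨b, hb0, hbI⟩ := exists_one_tmul_mem I hI
  let J : TwoSidedIdeal B := TwoSidedIdeal.mk' {b | (1 : A) ⊗ₜ[K] b ∈ I}
    (by simp [I.zero_mem])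
    (by
      intro x y hx hy
      simp only [Set.mem_ofPred_eq, TensorProduct.tmul_add] at *
      exact I.add_mem hx hy)
    (by
      intro x hx
      simp only [Set.mem_ofPred_eq, TensorProduct.tmul_neg] at *
      exact I.neg_mem hx)
    (by
      intro x y hy
      simp only [Set.mem_ofPred_eq] at *
      have := I.mul_mem_left ((1 : A) ⊗ₜ[K] x) _ hy
      rwa [Algebra.TensorProduct.tmul_mul_tmul, one_mul] at this)
    (by
      intro x y hx
      simp only [Set.mem_ofPred_eq] at *
      have := I.mul_mem_right _ ((1 : A) ⊗ₜ[K] y) hx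
      rwa [Algebra.TensorProduct.tmul_mul_tmul, one_mul] at this)
  have hbJ : b ∈ J := by rw [TwoSidedIdeal.mem_mk']; exact hbI
  have h1J : (1 : B) ∈ J := IsSimpleRing.one_mem_of_ne_zero_mem J hb0 hbJ
  rw [TwoSidedIdeal.mem_mk'] at h1J
  have h1I : (1 : A ⊗[K] B) ∈ I := h1J
  exact (TwoSidedIdeal.one_mem_iff I).mp h1I

end Groth.Agent.Lib.Helper15.CSA
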