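import Mathlib
import Groth.Agent.Lib.Helper15.AzumayaBaseChange
import Groth.Agent.Lib.Helper15.CSATensor

/-!
# Fibre criterion for Azumaya algebras (helper15)
-/

set_option autoImplicit false
universe u v w
open scoped TensorProduct

namespace Groth.Agent.Lib.Helper15.Azumaya


section detect

variable {R : Type*} [CommRing R] {M N : Type*} [AddCommGroup M] [Module R M]
  [AddCommGroup N] [Module R N]

/-- A finite module all of whose fibres vanish is zero. -/
theorem subsingleton_of_forall_residueField [Module.Finite R M]
    (h : ∀ (p : Ideal R) [p.IsPrime], Subsingleton (p.ResidueField ⊗[R] M)) : Subsingleton M := by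
  rw [← Module.support_eq_empty_iff (R := R)]
  rw [Set.eq_empty_iff_forall_notMem]
  intro p hp
  rw [Module.mem_support_iff_nontrivial_residueField_tensorProduct] at hp
  have := h p.asIdeal
  exact not_subsingleton _ this

/-- If `S ⊗ φ` is surjective then `S ⊗ coker φ = 0`. -/
theorem subsingleton_baseChange_coker (φ : M →ₗ[R] N) (S : Type*) [CommRing S] [Algebra R S]
    (h : Function.Surjective (φ.baseChange S)) :
    Subsingleton (S ⊗[R] (N ⧸ LinearMap.range φ)) := by
  have h1 : Function.Surjective ((LinearMap.range φ).mkQ.baseChange S) :=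
    LinearMap.lTensor_surjective _ (Submodule.mkQ_surjective _)
  have h2 : ((LinearMap.range φ).mkQ.baseChange S).comp (φ.baseChange S) = 0 := by
    rw [← LinearMap.baseChange_comp]
    have : (LinearMap.range φ).mkQ.comp φ = 0 := by
      ext x; simp
    rw [this, LinearMap.baseChange_zero]
  refine ⟨fun x y => ?_⟩
  obtain ⟨x', rfl⟩ := h1 x
  obtain ⟨y', rfl⟩ := h1 y
  obtain ⟨x'', rfl⟩ := h x'
  obtain ⟨y'', rfl⟩ := h y'
  have hx := LinearMap.congr_fun h2 x''
  have hy := LinearMap.congr_fun h2 y''
  rw [LinearMap.comp_apply] at hx hy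
  rw [hx, hy, LinearMap.zero_apply, LinearMap.zero_apply]

/-- If `φ` has a section `s` and `S ⊗ φ` is injective then `S ⊗ ker φ = 0`. -/
theorem subsingleton_baseChange_ker (φ : M →ₗ[R] N) (s : N →ₗ[R] M) (hs : φ.comp s = LinearMap.id)
    (S : Type*) [CommRing S] [Algebra R S]
    (h : Function.Injective (φ.baseChange S)) :
    Subsingleton (S ⊗[R] (LinearMap.ker φ)) := by
  -- the projection onto the kernel
  let π : M →ₗ[R] M := LinearMap.id - s.comp φ
  have hφπ : φ.comp π = 0 := by
    simp only [π, LinearMap.comp_sub, LinearMap.comp_id, ← LinearMap.comp_assoc, hs,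
      LinearMap.id_comp, sub_self]
  let π' : M →ₗ[R] LinearMap.ker φ := π.codRestrict _ (fun x => by
    rw [LinearMap.mem_ker, ← LinearMap.comp_apply, hφπ, LinearMap.zero_apply])
  have hπ'ι : π'.comp (LinearMap.ker φ).subtype = LinearMap.id := by
    ext ⟨x, hx⟩
    rw [LinearMap.mem_ker] at hx
    simp [π', π, hx]
  have hιπ' : (LinearMap.ker φ).subtype.comp π' = π := by
    ext x; simp [π']
  have hπ0 : π.baseChange S = 0 := by
    apply LinearMap.ext
    intro x
    apply h
    rw [← LinearMap.comp_apply, ← LinearMap.baseChange_comp, hφπ, LinearMap.baseChange_zero,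
      LinearMap.zero_apply, LinearMap.zero_apply, map_zero]
  have hid : (LinearMap.id : S ⊗[R] (LinearMap.ker φ) →ₗ[S] _) = 0 := by
    rw [← LinearMap.baseChange_id, ← hπ'ι, LinearMap.baseChange_comp]
    have : (LinearMap.ker φ).subtype.baseChange S = 0 := by
      have h1 : (LinearMap.ker φ).subtype.baseChange S =
          (π.baseChange S).comp ((LinearMap.ker φ).subtype.baseChange S) := by
        rw [← LinearMap.baseChange_comp, ← hιπ', LinearMap.comp_assoc, hπ'ι, LinearMap.comp_id]
      rw [h1, hπ0, LinearMap.zero_comp]
    rw [this, LinearMap.comp_zero]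
  refine ⟨fun x y => ?_⟩
  have hx := LinearMap.congr_fun hid x
  have hy := LinearMap.congr_fun hid y
  simp only [LinearMap.id_apply, LinearMap.zero_apply] at hx hy
  rw [hx, hy]

/-- Bijectivity of a linear map of finite projective modules can be checked on all fibres. -/
theorem bijective_of_forall_residueField [Module.Finite R M] [Module.Finite R N]
    [Module.Projective R N] (φ : M →ₗ[R] N)
    (h : ∀ (p : Ideal R) [p.IsPrime], Function.Bijective (φ.baseChange p.ResidueField)) :
    Function.Bijective φ := by
  have hsurj : Function.Surjective φ := by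
    have : Subsingleton (N ⧸ LinearMap.range φ) :=
      subsingleton_of_forall_residueField (R := R) fun p _ =>
        subsingleton_baseChange_coker φ _ (h p).2
    rw [← LinearMap.range_eq_top]
    exact Submodule.Quotient.subsingleton_iff.mp this
  obtain ⟨s, hs⟩ := Module.projective_lifting_property φ LinearMap.id hsurj
  refine ⟨?_, hsurj⟩
  have hfin : Module.Finite R (LinearMap.ker φ) := by
    -- the kernel is the image of the projection
    let π : M →ₗ[R] M := LinearMap.id - s.comp φ
    have hφπ : φ.comp π = 0 := by
      simp only [π, LinearMap.comp_sub, LinearMap.comp_id, ← LinearMap.comp_assoc, hs,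
        LinearMap.id_comp, sub_self]
    let π' : M →ₗ[R] LinearMap.ker φ := π.codRestrict _ (fun x => by
      rw [LinearMap.mem_ker, ← LinearMap.comp_apply, hφπ, LinearMap.zero_apply])
    refine Module.Finite.of_surjective π' ?_
    rintro ⟨x, hx⟩
    refine ⟨x, ?_⟩
    rw [LinearMap.mem_ker] at hx
    apply Subtype.ext
    simp [π', π, hx]
  have : Subsingleton (LinearMap.ker φ) :=
    subsingleton_of_forall_residueField (R := R) fun p _ =>
      subsingleton_baseChange_ker φ s hs _ (h p).1
  rw [← LinearMap.ker_eq_bot]
  exact Submodule.subsingleton_iff_eq_bot.mp this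

end detect



section field

variable (k : Type*) [Field k] (A : Type*) [Ring A] [Algebra k A]

/-- every `k`-linear endomorphism of an Azumaya algebra preserves two-sided ideals -/
lemma mulLeftRight_mem (R : Type*) [CommRing R] (A : Type*) [Ring A] [Algebra R A]
    (I : TwoSidedIdeal A) (t : A ⊗[R] Aᵐᵒᵖ) {x : A} (hx : x ∈ I) :
    AlgHom.mulLeftRight R A t x ∈ I := by
  induction t using TensorProduct.induction_on with
  | zero => simp
  | tmul a b =>
    rw [AlgHom.mulLeftRight_apply]
    exact I.mul_mem_right _ _ (I.mul_mem_left _ _ hx)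
  | add t t' ht ht' =>
    rw [map_add, LinearMap.add_apply]
    exact I.add_mem ht ht'

theorem isSimpleRing_of_isAzumaya [IsAzumaya k A] : IsSimpleRing A := by
  have hbij := IsAzumaya.bij (R := k) (A := A)
  have : Nontrivial A := by
    have : FaithfulSMul k A := IsAzumaya.toFaithfulSMul
    by_contra hA
    rw [not_nontrivial_iff_subsingleton] at hA
    have h01 : (0 : k) = 1 := FaithfulSMul.eq_of_smul_eq_smul (α := A) fun a => Subsingleton.elim _ _
    exact zero_ne_one h01
  refine ⟨⟨fun I => ?_⟩⟩
  by_cases hI : I = ⊥
  · exact Or.inl hI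
  right
  obtain ⟨x, hxI, hx0⟩ : ∃ x ∈ I, x ≠ 0 := by
    by_contra hcon
    push Not at hcon
    apply hI
    rw [eq_bot_iff]
    intro y hy
    rw [TwoSidedIdeal.mem_bot]
    exact hcon y hy
  obtain ⟨ψ, hψ⟩ := Module.Projective.exists_dual_eq_one k hx0
  rw [eq_top_iff]
  intro y _
  obtain ⟨t, ht⟩ := hbij.2 (LinearMap.smulRight ψ y)
  have := mulLeftRight_mem k A I t hxI
  rw [ht, LinearMap.smulRight_apply, hψ, one_smul] at this
  exact this

theorem isCentral_of_isAzumaya [IsAzumaya k A] : Algebra.IsCentral k A := by
  have hbij := IsAzumaya.bij (R := k) (A := A)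
  refine ⟨fun z hz => ?_⟩
  rw [Subalgebra.mem_center_iff] at hz
  -- `L_z` commutes with every endomorphism
  have hcomm : ∀ T : Module.End k A, T (z) = T 1 * z := by
    intro T
    obtain ⟨t, rfl⟩ := hbij.2 T
    induction t using TensorProduct.induction_on with
    | zero => simp
    | tmul a b =>
      rw [AlgHom.mulLeftRight_apply, AlgHom.mulLeftRight_apply, mul_one, mul_assoc, mul_assoc, hz]
    | add t t' ht ht' =>
      rw [map_add, LinearMap.add_apply, LinearMap.add_apply, ht, ht', add_mul]
  by_cases h1z : ∃ c : k, z = c • 1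
  · obtain ⟨c, rfl⟩ := h1z
    exact ⟨c, Algebra.algebraMap_eq_smul_one c⟩
  exfalso
  push Not at h1z
  -- 1 ≠ 0 and z ∉ k·1: choose ψ with ψ 1 = 1, ψ z = 0 ...
  have : Nontrivial A := by
    by_contra hA
    rw [not_nontrivial_iff_subsingleton] at hA
    exact h1z 0 (Subsingleton.elim _ _)
  obtain ⟨ψ, hψ1, hψz⟩ : ∃ ψ : Module.Dual k A, ψ 1 = 1 ∧ ψ z = 0 := by
    have hz' : z ∉ Submodule.span k {(1 : A)} := by
      intro hmem
      rw [Submodule.mem_span_singleton] at hmem
      obtain ⟨c, hc⟩ := hmem
      exact h1z c hc.symm
    obtain ⟨f, hfz, hf1⟩ := Submodule.exists_dual_map_eq_bot_of_notMem hz' inferInstance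
    have hf1' : f 1 = 0 := by
      have : f 1 ∈ Submodule.map f (Submodule.span k {(1 : A)}) :=
        Submodule.mem_map_of_mem (Submodule.mem_span_singleton_self _)
      rw [hf1] at this
      simpa using this
    obtain ⟨g, hg⟩ := Module.Projective.exists_dual_eq_one k (one_ne_zero (α := A))
    refine ⟨g - (g z * (f z)⁻¹) • f, ?_, ?_⟩
    · simp [hg, hf1']
    · simp [hfz]
  have := hcomm (LinearMap.smulRight ψ (1 : A))
  rw [LinearMap.smulRight_apply, LinearMap.smulRight_apply, hψ1, hψz, zero_smul, one_smul,
    one_mul] at this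
  exact h1z 0 (by rw [zero_smul]; exact this.symm)

end field



section trace

variable (R : Type*) [CommRing R] (P : Type*) [AddCommGroup P] [Module R P]

/-- the trace ideal of a module: generated by all values of functionals -/
def traceIdeal : Ideal R := Ideal.span {r | ∃ (f : Module.Dual R P) (x : P), f x = r}

variable {R P}

lemma apply_mem_traceIdeal (f : Module.Dual R P) (x : P) : f x ∈ traceIdeal R P :=
  Ideal.subset_span ⟨f, x, rfl⟩

lemma mem_traceIdeal_smul_top [Module.Finite R P] [Module.Projective R P] (x : P) :
    x ∈ traceIdeal R P • (⊤ : Submodule R P) := by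
  obtain ⟨n, p, i, -, -, hpi⟩ := Module.Finite.exists_comp_eq_id_of_projective R P
  have hx : x = ∑ j, (i x j) • p (Pi.single j 1) := by
    have h1 : p (i x) = x := LinearMap.congr_fun hpi x
    conv_lhs => rw [← h1, ← Finset.univ_sum_single (i x)]
    rw [map_sum]
    refine Finset.sum_congr rfl fun j _ => ?_
    rw [← map_smul]
    congr 1
    ext l
    simp [Pi.single_apply]
  rw [hx]
  refine Submodule.sum_mem _ fun j _ => ?_
  refine Submodule.smul_mem_smul ?_ Submodule.mem_top
  exact apply_mem_traceIdeal ((LinearMap.proj j).comp i) x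

theorem traceIdeal_eq_top_of_faithful [Module.Finite R P] [Module.Projective R P]
    [FaithfulSMul R P] : traceIdeal R P = ⊤ := by
  obtain ⟨r, hr1, hr⟩ := Submodule.exists_sub_one_mem_and_smul_eq_zero_of_fg_of_le_smul
    (traceIdeal R P) (⊤ : Submodule R P) Module.Finite.fg_top
    (fun x _ => mem_traceIdeal_smul_top x)
  have hr0 : r = 0 := by
    apply FaithfulSMul.eq_of_smul_eq_smul (α := P)
    intro x
    rw [hr x Submodule.mem_top, zero_smul]
  rw [hr0, zero_sub] at hr1
  rw [Ideal.eq_top_iff_one]
  simpa using (traceIdeal R P).neg_mem hr1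

theorem faithfulSMul_of_traceIdeal_eq_top (h : traceIdeal R P = ⊤) : FaithfulSMul R P := by
  refine ⟨fun {r r'} hrr' => ?_⟩
  have hle : traceIdeal R P ≤ (Ideal.span {r - r'}).annihilator := by
    refine Ideal.span_le.mpr ?_
    rintro _ ⟨f, x, rfl⟩
    rw [SetLike.mem_coe, Submodule.mem_annihilator_span_singleton, smul_eq_mul, mul_comm,
      ← smul_eq_mul, ← map_smul, sub_smul, hrr' x, sub_self, map_zero]
  rw [h, top_le_iff, Submodule.annihilator_eq_top_iff, Ideal.span_singleton_eq_bot] at hle
  exact sub_eq_zero.mp hle

theorem traceIdeal_baseChange_eq_top (S : Type*) [CommRing S] [Algebra R S]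
    (h : traceIdeal R P = ⊤) : traceIdeal S (S ⊗[R] P) = ⊤ := by
  have hle : (traceIdeal R P).map (algebraMap R S) ≤ traceIdeal S (S ⊗[R] P) := by
    rw [traceIdeal, Ideal.map_span, Ideal.span_le]
    rintro _ ⟨_, ⟨f, x, rfl⟩, rfl⟩
    have := apply_mem_traceIdeal (R := S) (Module.Dual.baseChange S f) ((1 : S) ⊗ₜ[R] x)
    rwa [Module.Dual.baseChange_apply_tmul, ← Algebra.algebraMap_eq_smul_one] at this
  rw [h, Ideal.map_top, top_le_iff] at hle
  exact hle

theorem traceIdeal_eq_top_of_fibres [Module.Finite R P] [Module.Projective R P]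
    (h : ∀ (p : Ideal R) [p.IsPrime], Nontrivial (p.ResidueField ⊗[R] P)) :
    traceIdeal R P = ⊤ := by
  by_contra hT
  obtain ⟨m, hm, hTm⟩ := Ideal.exists_le_maximal _ hT
  have := h m
  apply not_subsingleton (m.ResidueField ⊗[R] P)
  have hzero : ∀ (c : m.ResidueField) (x : P), c ⊗ₜ[R] x = 0 := by
    intro c x
    have hx := mem_traceIdeal_smul_top (R := R) x
    refine Submodule.smul_induction_on (p := fun x => c ⊗ₜ[R] x = 0) hx
      (fun r hr y _ => ?_) (fun y z hy hz => ?_)
    · have hr0 : algebraMap R m.ResidueField r = 0 :=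
        Ideal.algebraMap_residueField_eq_zero.mpr (hTm hr)
      rw [TensorProduct.tmul_smul, TensorProduct.smul_tmul', Algebra.smul_def, hr0, zero_mul,
        TensorProduct.zero_tmul]
    · rw [TensorProduct.tmul_add, hy, hz, add_zero]
  refine ⟨fun a b => ?_⟩
  have : ∀ a : m.ResidueField ⊗[R] P, a = 0 := by
    intro a
    induction a using TensorProduct.induction_on with
    | zero => rfl
    | tmul c x => exact hzero c x
    | add a b ha hb => rw [ha, hb, add_zero]
  rw [this a, this b]

end trace


section main

/-- a central simple algebra over a field is Azumaya -/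
theorem isAzumaya_of_csa (k : Type*) [Field k] (A : Type*) [Ring A] [Algebra k A]
    [Algebra.IsCentral k A] [IsSimpleRing A] [FiniteDimensional k A] : IsAzumaya k A := by
  have hsimple : IsSimpleRing (A ⊗[k] Aᵐᵒᵖ) := Groth.Agent.Lib.Helper15.CSA.isSimpleRing_tensorProduct
  have hinj : Function.Injective (AlgHom.mulLeftRight k A) :=
    (AlgHom.mulLeftRight k A : A ⊗[k] Aᵐᵒᵖ →+* Module.End k A).injective
  have hdim : Module.finrank k (A ⊗[k] Aᵐᵒᵖ) = Module.finrank k (Module.End k A) := by
    rw [Module.finrank_tensorProduct, Module.finrank_linearMap]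
    congr 1
    exact (MulOpposite.opLinearEquiv k : A ≃ₗ[k] Aᵐᵒᵖ).symm.finrank_eq
  have : FaithfulSMul k A := (faithfulSMul_iff_algebraMap_injective k A).mpr (algebraMap k A).injective
  exact { bij := ⟨hinj, (LinearMap.injective_iff_surjective_of_finrank_eq_finrank
      (f := (AlgHom.mulLeftRight k A).toLinearMap) hdim).mp hinj⟩ }

variable (R : Type*) [CommRing R] (S : Type*) [CommRing S] [Algebra R S]
  (A : Type*) [Ring A] [Algebra R A]

/-- base change of Azumaya algebras -/
theorem isAzumaya_baseChange [IsAzumaya R A] : IsAzumaya S (S ⊗[R] A) := by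
  have hf : FaithfulSMul S (S ⊗[R] A) :=
    faithfulSMul_of_traceIdeal_eq_top
      (traceIdeal_baseChange_eq_top S (traceIdeal_eq_top_of_faithful (R := R) (P := A)))
  refine { bij := ?_ }
  rw [mulLeftRight_bijective_baseChange_iff]
  have hb := IsAzumaya.bij (R := R) (A := A)
  let e : (A ⊗[R] Aᵐᵒᵖ) ≃ₗ[R] Module.End R A :=
    LinearEquiv.ofBijective (AlgHom.mulLeftRight R A).toLinearMap hb
  have : LinearMap.baseChange S (AlgHom.mulLeftRight R A).toLinearMap
      = (e.baseChange R S _ _).toLinearMap := by
    ext; rfl
  rw [this]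
  exact (e.baseChange R S _ _).bijective

end main

section main2

variable (R : Type*) [CommRing R] (S : Type*) [CommRing S] [Algebra R S]
  (A : Type*) [Ring A] [Algebra R A]

theorem finite_end [Module.Finite R A] [Module.Projective R A] : Module.Finite R (Module.End R A) :=
  Module.Finite.equiv (dualTensorHomEquiv R A A)

theorem projective_end [Module.Finite R A] [Module.Projective R A] :
    Module.Projective R (Module.End R A) :=
  Module.Projective.of_equiv (dualTensorHomEquiv R A A)

/-- the fibre criterion -/
theorem isAzumaya_iff_fibres [Module.Finite R A] [Module.Projective R A] :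
    IsAzumaya R A ↔ ∀ (p : Ideal R) [p.IsPrime],
      Algebra.IsCentral p.ResidueField (p.ResidueField ⊗[R] A) ∧
        IsSimpleRing (p.ResidueField ⊗[R] A) := by
  constructor
  · intro h p _
    have := isAzumaya_baseChange R p.ResidueField A
    exact ⟨isCentral_of_isAzumaya _ _, isSimpleRing_of_isAzumaya p.ResidueField _⟩
  · intro h
    have hf : FaithfulSMul R A := by
      refine faithfulSMul_of_traceIdeal_eq_top (R := R) (P := A) ?_
      apply traceIdeal_eq_top_of_fibres
      intro p _
      have := (h p).2
      infer_instance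
    have := finite_end R A
    have := projective_end R A
    refine { bij := ?_ }
    refine bijective_of_forall_residueField (AlgHom.mulLeftRight R A).toLinearMap ?_
    intro p _
    rw [← mulLeftRight_bijective_baseChange_iff]
    have := (h p).1
    have := (h p).2
    exact (isAzumaya_of_csa p.ResidueField (p.ResidueField ⊗[R] A)).bij

end main2

section localcase

variable {R : Type*} [CommRing R] [IsLocalRing R] {M N : Type*} [AddCommGroup M] [Module R M]
  [AddCommGroup N] [Module R N]

/-- Over a local ring, bijectivity of a linear map of finite modules with projective target can be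
checked on the closed fibre. -/
theorem bijective_of_residueField_local [Module.Finite R M] [Module.Finite R N]
    [Module.Projective R N] (φ : M →ₗ[R] N)
    (h : Function.Bijective (φ.baseChange (IsLocalRing.ResidueField R))) :
    Function.Bijective φ := by
  have hsurj : Function.Surjective φ := by
    have : Subsingleton (N ⧸ LinearMap.range φ) :=
      IsLocalRing.subsingleton_tensorProduct.mp (subsingleton_baseChange_coker φ _ h.2)
    rw [← LinearMap.range_eq_top]
    exact Submodule.Quotient.subsingleton_iff.mp this
  obtain ⟨s, hs⟩ := Module.projective_lifting_property φ LinearMap.id hsurj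
  refine ⟨?_, hsurj⟩
  have hfin : Module.Finite R (LinearMap.ker φ) := by
    let π : M →ₗ[R] M := LinearMap.id - s.comp φ
    have hφπ : φ.comp π = 0 := by
      simp only [π, LinearMap.comp_sub, LinearMap.comp_id, ← LinearMap.comp_assoc, hs,
        LinearMap.id_comp, sub_self]
    let π' : M →ₗ[R] LinearMap.ker φ := π.codRestrict _ (fun x => by
      rw [LinearMap.mem_ker, ← LinearMap.comp_apply, hφπ, LinearMap.zero_apply])
    refine Module.Finite.of_surjective π' ?_
    rintro ⟨x, hx⟩
    refine ⟨x, ?_⟩
    rw [LinearMap.mem_ker] at hx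
    apply Subtype.ext
    simp [π', π, hx]
  have : Subsingleton (LinearMap.ker φ) :=
    IsLocalRing.subsingleton_tensorProduct.mp (subsingleton_baseChange_ker φ s hs _ h.1)
  rw [← LinearMap.ker_eq_bot]
  exact Submodule.subsingleton_iff_eq_bot.mp this

/-- the fibre criterion over a local ring -/
theorem isAzumaya_iff_closedFibre (R : Type*) [CommRing R] [IsLocalRing R]
    (A : Type*) [Ring A] [Algebra R A] [Module.Finite R A] [Module.Free R A] [Nontrivial A] :
    IsAzumaya R A ↔
      (Algebra.IsCentral (IsLocalRing.ResidueField R) ((IsLocalRing.ResidueField R) ⊗[R] A) ∧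
        IsSimpleRing ((IsLocalRing.ResidueField R) ⊗[R] A)) := by
  constructor
  · intro h
    have := isAzumaya_baseChange R (IsLocalRing.ResidueField R) A
    exact ⟨isCentral_of_isAzumaya _ _, isSimpleRing_of_isAzumaya (IsLocalRing.ResidueField R) _⟩
  · rintro ⟨h1, h2⟩
    have hf : FaithfulSMul R A := inferInstance
    have := finite_end R A
    have := projective_end R A
    refine { bij := ?_ }
    refine bijective_of_residueField_local (AlgHom.mulLeftRight R A).toLinearMap ?_
    rw [← mulLeftRight_bijective_baseChange_iff]
    exact (isAzumaya_of_csa (IsLocalRing.ResidueField R) ((IsLocalRing.ResidueField R) ⊗[R] A)).bij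

end localcase

section descent

variable {R : Type*} [CommRing R] (T : Type*) [CommRing T] [Algebra R T]
  {M : Type*} [AddCommGroup M] [Module R M]

/-- finite presentation descends along faithfully flat ring maps -/
theorem finitePresentation_of_faithfullyFlat [Module.FaithfullyFlat R T]
    [Module.FinitePresentation T (T ⊗[R] M)] : Module.FinitePresentation R M := by
  have : Module.Finite R M := Module.Finite.of_finite_tensorProduct_of_faithfullyFlat T
  obtain ⟨n, f, hf⟩ := Module.Finite.exists_fin' R M
  let F := TensorProduct.AlgebraTensorModule.lTensor T T f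
  have hF : Function.Surjective F := LinearMap.lTensor_surjective T hf
  have hker : (LinearMap.ker F).FG := Module.FinitePresentation.fg_ker F hF
  have hkereq := Module.Flat.ker_lTensor_eq T T f
  let G := TensorProduct.AlgebraTensorModule.lTensor T T (LinearMap.ker f).subtype
  have hG : Function.Injective G :=
    Module.Flat.lTensor_preserves_injective_linearMap _ (Submodule.injective_subtype _)
  have hfinK : Module.Finite T (T ⊗[R] LinearMap.ker f) := by
    have e : (T ⊗[R] LinearMap.ker f) ≃ₗ[T] LinearMap.range G := LinearEquiv.ofInjective G hG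
    have : Module.Finite T (LinearMap.range G) := by
      rw [Module.Finite.iff_fg, ← hkereq]
      exact hker
    exact Module.Finite.equiv e.symm
  have : Module.Finite R (LinearMap.ker f) :=
    Module.Finite.of_finite_tensorProduct_of_faithfullyFlat T
  exact Module.finitePresentation_of_surjective f hf (Module.Finite.iff_fg.mp this)

/-- finite projectivity descends along faithfully flat ring maps -/
theorem finite_projective_of_faithfullyFlat [Module.FaithfullyFlat R T]
    [Module.Finite T (T ⊗[R] M)] [Module.Projective T (T ⊗[R] M)] :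
    Module.Finite R M ∧ Module.Projective R M := by
  have : Module.FinitePresentation T (T ⊗[R] M) := Module.finitePresentation_of_projective _ _
  have := finitePresentation_of_faithfullyFlat (R := R) T (M := M)
  have : Module.Flat R M := Module.Flat.of_flat_tensorProduct R M T
  exact ⟨Module.Finite.of_finite_tensorProduct_of_faithfullyFlat T,
    Module.Flat.projective_of_finitePresentation⟩

/-- Azumaya algebras descend along faithfully flat ring maps -/
theorem isAzumaya_of_faithfullyFlat [Module.FaithfullyFlat R T]
    (B : Type*) [Ring B] [Algebra R B] [IsAzumaya T (T ⊗[R] B)] : IsAzumaya R B := by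
  obtain ⟨h1, h2⟩ := finite_projective_of_faithfullyFlat (R := R) T (M := B)
  have hf : FaithfulSMul R B := by
    rw [faithfulSMul_iff_algebraMap_injective]
    intro r r' hrr'
    have hT : Function.Injective (algebraMap R T) := FaithfulSMul.algebraMap_injective R T
    apply hT
    have hTB : Function.Injective (algebraMap T (T ⊗[R] B)) :=
      FaithfulSMul.algebraMap_injective T (T ⊗[R] B)
    apply hTB
    have key : ∀ r : R, (algebraMap R T r) ⊗ₜ[R] (1 : B) = (1 : T) ⊗ₜ algebraMap R B r := fun r => by
      rw [Algebra.algebraMap_eq_smul_one, Algebra.algebraMap_eq_smul_one, TensorProduct.smul_tmul]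
    rw [Algebra.TensorProduct.algebraMap_apply, Algebra.TensorProduct.algebraMap_apply,
      Algebra.algebraMap_self_apply, Algebra.algebraMap_self_apply, key, key, hrr']
  refine { bij := ?_ }
  have hb := IsAzumaya.bij (R := T) (A := T ⊗[R] B)
  rw [mulLeftRight_bijective_baseChange_iff] at hb
  have : ⇑(LinearMap.baseChange T (AlgHom.mulLeftRight R B).toLinearMap) =
      ⇑((AlgHom.mulLeftRight R B).toLinearMap.lTensor T) := rfl
  rw [this, Module.FaithfullyFlat.lTensor_bijective_iff_bijective] at hb
  exact hb

end descent

section endo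

variable (R : Type*) [CommRing R] (S : Type*) [CommRing S] [Algebra R S]
  (P : Type*) [AddCommGroup P] [Module R P]

theorem finite_end' [Module.Finite R P] [Module.Projective R P] :
    Module.Finite R (Module.End R P) :=
  Module.Finite.equiv (dualTensorHomEquiv R P P)

theorem projective_end' [Module.Finite R P] [Module.Projective R P] :
    Module.Projective R (Module.End R P) :=
  Module.Projective.of_equiv (dualTensorHomEquiv R P P)

theorem tensorProductEnd_bijective [Module.Finite R P] [Module.Projective R P] :
    Function.Bijective (LinearMap.tensorProductEnd R S P) := by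
  have h : ⇑(LinearMap.tensorProductEnd R S P) = ⇑(θ R S P P) := by
    funext x
    induction x using TensorProduct.induction_on with
    | zero => simp
    | tmul s f => rfl
    | add x y hx hy => rw [map_add, map_add, hx, hy]
  rw [h]
  exact θ_bijective R S P P

theorem isSimpleRing_end_field (k : Type*) [Field k] (V : Type*) [AddCommGroup V] [Module k V]
    [FiniteDimensional k V] [Nontrivial V] : IsSimpleRing (Module.End k V) := by
  let b := Module.finBasis k V
  have : Nonempty (Fin (Module.finrank k V)) := by
    have : 0 < Module.finrank k V := Module.finrank_pos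
    exact ⟨⟨0, this⟩⟩
  exact IsSimpleRing.of_ringEquiv (LinearMap.toMatrixAlgEquiv b).symm.toRingEquiv inferInstance

theorem nontrivial_fibre_of_faithful [Module.Finite R P] [FaithfulSMul R P]
    (p : Ideal R) [p.IsPrime] : Nontrivial (p.ResidueField ⊗[R] P) := by
  have := (Module.mem_support_iff_nontrivial_residueField_tensorProduct (R := R) (M := P)
    ⟨p, inferInstance⟩).mp
  apply this
  rw [Module.mem_support_iff_of_finite, Module.annihilator_eq_bot.mpr inferInstance]
  exact bot_le

theorem isAzumaya_end [Module.Finite R P] [Module.Projective R P] [FaithfulSMul R P] :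
    IsAzumaya R (Module.End R P) := by
  have := finite_end' R P
  have := projective_end' R P
  rw [isAzumaya_iff_fibres]
  intro p _
  have := nontrivial_fibre_of_faithful R P p
  let e : p.ResidueField ⊗[R] Module.End R P ≃ₐ[p.ResidueField]
      Module.End p.ResidueField (p.ResidueField ⊗[R] P) :=
    AlgEquiv.ofBijective (LinearMap.tensorProductEnd R p.ResidueField P)
      (tensorProductEnd_bijective R p.ResidueField P)
  have hs := isSimpleRing_end_field p.ResidueField (p.ResidueField ⊗[R] P)
  refine ⟨?_, IsSimpleRing.of_ringEquiv e.symm.toRingEquiv hs⟩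
  exact Algebra.IsCentral.of_algEquiv _ _ _ e.symm

end endo

end Groth.Agent.Lib.Helper15.Azumaya
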