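import Mathlib
import Groth.Agent.Lib.Helper15.AzumayaFibre

/-! Transport of the Azumaya property along compatible ring isomorphisms, and algebras that are
ring-isomorphic to a matrix algebra over a commutative ring. -/

set_option autoImplicit false
set_option linter.style.haveILetI false

namespace Groth.Agent.Lib.Helper15.Azumaya

open TensorProduct

section Transport
variable {Z₁ : Type*} [CommRing Z₁] {B₁ : Type*} [Ring B₁] [Algebra Z₁ B₁]
  {Z₂ : Type*} [CommRing Z₂] {B₂ : Type*} [Ring B₂] [Algebra Z₂ B₂]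

/-- the Azumaya property is transported along a pair of compatible ring isomorphisms -/
theorem isAzumaya_of_ringEquiv (σ : Z₁ ≃+* Z₂) (φ : B₁ ≃+* B₂)
    (h : ∀ z, φ (algebraMap Z₁ B₁ z) = algebraMap Z₂ B₂ (σ z)) [IsAzumaya Z₁ B₁] :
    IsAzumaya Z₂ B₂ := by
  letI : Algebra Z₁ Z₂ := σ.toRingHom.toAlgebra
  letI : Algebra Z₁ B₂ := Algebra.compHom B₂ σ.toRingHom
  haveI : IsScalarTower Z₁ Z₂ B₂ := IsScalarTower.of_algebraMap_eq fun z => rfl
  have hσ : ∀ z : Z₁, algebraMap Z₁ Z₂ z = σ z := fun z => rfl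
  let φ' : B₁ ≃ₐ[Z₁] B₂ := AlgEquiv.ofRingEquiv (f := φ) (fun z => by
    rw [h]; rfl)
  haveI : IsAzumaya Z₁ B₂ := IsAzumaya.of_AlgEquiv Z₁ B₁ B₂ φ'
  haveI : IsAzumaya Z₂ (Z₂ ⊗[Z₁] B₂) := isAzumaya_baseChange Z₁ Z₂ B₂
  -- `Z₂ ⊗[Z₁] B₂ ≃ B₂`
  let f : Z₂ ⊗[Z₁] B₂ →ₐ[Z₂] B₂ :=
    Algebra.TensorProduct.lift (Algebra.ofId Z₂ B₂) (AlgHom.id Z₁ B₂) (fun z b => Algebra.commutes z b)
  have hf : ∀ (z : Z₂) (b : B₂), f (z ⊗ₜ b) = z • b := fun z b => by
    change algebraMap Z₂ B₂ z * b = z • b
    rw [Algebra.smul_def]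
  have hone : ∀ t : Z₂ ⊗[Z₁] B₂, t = (1 : Z₂) ⊗ₜ[Z₁] f t := by
    intro t
    induction t using TensorProduct.induction_on with
    | zero => rw [map_zero, TensorProduct.tmul_zero]
    | tmul z b =>
      rw [hf]
      have hz : z = (σ.symm z) • (1 : Z₂) := by
        rw [Algebra.smul_def, hσ, RingEquiv.apply_symm_apply, mul_one]
      conv_lhs => rw [hz]
      rw [TensorProduct.smul_tmul]
      congr 1
      change (σ.symm z) • b = z • b
      rw [Algebra.smul_def, Algebra.smul_def]
      change algebraMap Z₂ B₂ (σ (σ.symm z)) * b = _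
      rw [RingEquiv.apply_symm_apply]
    | add x y hx hy =>
      rw [map_add, TensorProduct.tmul_add, ← hx, ← hy]
  have hbij : Function.Bijective f := by
    constructor
    · intro s t hst
      rw [hone s, hone t, hst]
    · intro b
      exact ⟨1 ⊗ₜ b, by rw [hf, one_smul]⟩
  exact IsAzumaya.of_AlgEquiv Z₂ _ _ (AlgEquiv.ofBijective f hbij)

end Transport

section Matrix
variable {Z : Type*} [CommRing Z] {B : Type*} [Ring B] [Algebra Z B]
  {K : Type*} [CommRing K] {k : ℕ}

/-- a ring isomorphic to a matrix algebra over a commutative ring is Azumaya over its centre -/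
theorem isAzumaya_of_matrix_ringEquiv [Nonempty (Fin k)]
    (hinj : Function.Injective (algebraMap Z B))
    (hcen : ∀ b : B, (∀ x, x * b = b * x) → b ∈ Set.range (algebraMap Z B))
    (φ : Matrix (Fin k) (Fin k) K ≃+* B) : IsAzumaya Z B := by
  -- `Z ≃ center B`
  let g₀ : Z →+* Subring.center B := (algebraMap Z B).codRestrict (Subring.center B)
    (fun z => Subring.mem_center_iff.mpr fun x => (Algebra.commutes z x).symm)
  have hg₀ : Function.Bijective g₀ := by
    constructor
    · intro a b hab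
      exact hinj (congrArg Subtype.val hab)
    · rintro ⟨b, hb⟩
      obtain ⟨z, hz⟩ := hcen b (fun x => (Subring.mem_center_iff.mp hb x))
      exact ⟨z, Subtype.ext hz⟩
  let g : Z ≃+* Subring.center B := RingEquiv.ofBijective g₀ hg₀
  -- `K ≃ center (Matrix K)`
  let h₀ : K →+* Subring.center (Matrix (Fin k) (Fin k) K) :=
    (algebraMap K (Matrix (Fin k) (Fin k) K)).codRestrict _
      (fun z => Subring.mem_center_iff.mpr fun x => (Algebra.commutes z x).symm)
  have hh₀ : Function.Bijective h₀ := by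
    constructor
    · intro a b hab
      have h1 : algebraMap K (Matrix (Fin k) (Fin k) K) a = algebraMap K _ b :=
        congrArg Subtype.val hab
      have i0 : Fin k := Classical.arbitrary _
      have := congrFun (congrFun h1 i0) i0
      simpa [Matrix.algebraMap_matrix_apply] using this
    · rintro ⟨M, hM⟩
      have h1 : M ∈ Subalgebra.center K (Matrix (Fin k) (Fin k) K) :=
        Subalgebra.mem_center_iff.mpr fun x => (Subring.mem_center_iff.mp hM x)
      have h2 := (Algebra.IsCentral.out (K := K) (D := Matrix (Fin k) (Fin k) K)) h1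
      obtain ⟨r, hr⟩ := Algebra.mem_bot.mp h2
      exact ⟨r, Subtype.ext hr⟩
  let h : K ≃+* Subring.center (Matrix (Fin k) (Fin k) K) := RingEquiv.ofBijective h₀ hh₀
  let σ : K ≃+* Z := (h.trans (Subring.centerCongr φ)).trans g.symm
  haveI : IsAzumaya K (Matrix (Fin k) (Fin k) K) := IsAzumaya.matrix K (Fin k)
  refine isAzumaya_of_ringEquiv σ φ (fun x => ?_)
  have h1 : g (σ x) = Subring.centerCongr φ (h x) := by
    change g (g.symm _) = _
    rw [RingEquiv.apply_symm_apply]
    rfl
  have h2 := congrArg Subtype.val h1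
  exact h2.symm

end Matrix

end Groth.Agent.Lib.Helper15.Azumaya
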