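import Mathlib

/-! Flat descent of the centre of an algebra generated by finitely many elements. -/

set_option autoImplicit false
set_option linter.style.haveILetI false

namespace Groth.Agent.Lib.Helper15.Cl

open TensorProduct

universe u v w

section CenterDescent
variable {R : Type u} [CommRing R] {A : Type v} [Ring A] [Algebra R A] {κ : Type*}
  (gens : κ → A)

/-- the commutator map with the generators -/
noncomputable def comm : A →ₗ[R] (κ → A) :=
  LinearMap.pi fun k => LinearMap.mulRight R (gens k) - LinearMap.mulLeft R (gens k)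

lemma comm_apply (x : A) (k : κ) : comm (R := R) gens x k = x * gens k - gens k * x := rfl

lemma mem_center_iff_comm (hgens : Algebra.adjoin R (Set.range gens) = ⊤) (x : A) :
    x ∈ Subalgebra.center R A ↔ comm (R := R) gens x = 0 := by
  constructor
  · intro hx
    funext k
    rw [comm_apply, Pi.zero_apply, sub_eq_zero]
    exact ((Subalgebra.mem_center_iff.mp hx) (gens k)).symm
  · intro hx
    rw [Subalgebra.mem_center_iff]
    have h1 : Algebra.adjoin R (Set.range gens) ≤ Subalgebra.centralizer R {x} := by
      apply Algebra.adjoin_le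
      rintro _ ⟨k, rfl⟩
      rw [SetLike.mem_coe, Subalgebra.mem_centralizer_iff]
      intro y hy
      rw [Set.mem_singleton_iff] at hy
      subst hy
      have := congrFun hx k
      rw [comm_apply, Pi.zero_apply, sub_eq_zero] at this
      exact this
    intro y
    have hy : y ∈ Subalgebra.centralizer R {x} := h1 (by rw [hgens]; trivial)
    rw [Subalgebra.mem_centralizer_iff] at hy
    exact (hy x rfl).symm

variable [Fintype κ] [DecidableEq κ]
variable (R' : Type w) [CommRing R'] [Algebra R R']

lemma piRight_lTensor_comm (t : R' ⊗[R] A) (k : κ) :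
    TensorProduct.piRight R R' R' (fun _ : κ => A)
      (TensorProduct.AlgebraTensorModule.lTensor R' R' (comm (R := R) gens) t) k =
      t * (1 ⊗ₜ gens k) - (1 ⊗ₜ gens k) * t := by
  induction t using TensorProduct.induction_on with
  | zero => simp
  | tmul a x =>
    rw [TensorProduct.AlgebraTensorModule.lTensor_tmul, TensorProduct.piRight_apply,
      TensorProduct.piRightHom_tmul]
    change a ⊗ₜ[R] (comm (R := R) gens x k) = _
    rw [comm_apply, Algebra.TensorProduct.tmul_mul_tmul,
      Algebra.TensorProduct.tmul_mul_tmul, mul_one, one_mul, TensorProduct.tmul_sub]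
  | add x y hx hy =>
    rw [map_add, map_add, Pi.add_apply, hx, hy, add_mul, mul_add]; abel

theorem center_descent [Module.Flat R R'] (hgens : Algebra.adjoin R (Set.range gens) = ⊤)
    (t : R' ⊗[R] A) (ht : ∀ k, t * (1 ⊗ₜ gens k) = (1 ⊗ₜ gens k) * t) :
    t ∈ Submodule.span R' {y : R' ⊗[R] A | ∃ z ∈ Subalgebra.center R A, y = 1 ⊗ₜ z} := by
  have h0 : TensorProduct.AlgebraTensorModule.lTensor R' R' (comm (R := R) gens) t = 0 := by
    apply (TensorProduct.piRight R R' R' (fun _ : κ => A)).injective
    funext k
    rw [piRight_lTensor_comm, map_zero, Pi.zero_apply, ht, sub_self]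
  have h1 : t ∈ LinearMap.ker (TensorProduct.AlgebraTensorModule.lTensor R' R' (comm (R := R) gens)) :=
    h0
  rw [Module.Flat.ker_lTensor_eq] at h1
  obtain ⟨s, rfl⟩ := h1
  clear h0 ht
  induction s using TensorProduct.induction_on with
  | zero => rw [map_zero]; exact Submodule.zero_mem _
  | tmul a z =>
    rw [TensorProduct.AlgebraTensorModule.lTensor_tmul]
    have : a ⊗ₜ[R] ((LinearMap.ker (comm (R := R) gens)).subtype z) = a • (1 ⊗ₜ[R] (z : A)) := by
      rw [TensorProduct.smul_tmul', smul_eq_mul, mul_one]; rfl
    rw [this]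
    refine Submodule.smul_mem _ _ (Submodule.subset_span ⟨z.1, ?_, rfl⟩)
    rw [mem_center_iff_comm gens hgens]
    exact z.2
  | add x y hx hy => rw [map_add]; exact Submodule.add_mem _ hx hy

end CenterDescent

end Groth.Agent.Lib.Helper15.Cl
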