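import Mathlib
import Groth.Agent.Lib.Helper15.AzCenter1
import Groth.Agent.Lib.Helper15.ClDesc

/-! An algebra `B` over `A`, generated by finitely many elements, which becomes `M_k × M_k` after a
faithfully flat base change: its centre is finite étale of rank 2 and `B` is Azumaya over it. -/

set_option autoImplicit false
set_option linter.style.haveILetI false

namespace Groth.Agent.Lib.Helper15.Azumaya

open TensorProduct
open Groth.Agent.Lib.Helper15.Cl

universe u v w

section Psi
variable {A : Type u} [CommRing A] {Z : Type*} [CommRing Z] [Algebra A Z]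
  {B : Type v} [Ring B] [Algebra A B] [Algebra Z B] [IsScalarTower A Z B]
  (R' : Type w) [CommRing R'] [Algebra A R']

/-- the base change of the structure map `Z → B` -/
noncomputable def ψ : R' ⊗[A] Z →ₐ[R'] R' ⊗[A] B :=
  Algebra.TensorProduct.map (AlgHom.id R' R') (IsScalarTower.toAlgHom A Z B)

lemma ψ_tmul (r : R') (z : Z) :
    ψ (A := A) (Z := Z) (B := B) R' (r ⊗ₜ z) = r ⊗ₜ algebraMap Z B z := by
  simp [ψ]

lemma ψ_injective [Module.Flat A R'] (hinj : Function.Injective (algebraMap Z B)) :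
    Function.Injective (ψ (A := A) (Z := Z) (B := B) R') := by
  have h : ⇑(ψ (A := A) (Z := Z) (B := B) R') =
      ⇑((IsScalarTower.toAlgHom A Z B).toLinearMap.lTensor R') := by
    funext t
    induction t using TensorProduct.induction_on with
    | zero => simp
    | tmul r z => rw [ψ_tmul]; rfl
    | add x y hx hy => rw [map_add, map_add, hx, hy]
  rw [h]
  exact Module.Flat.lTensor_preserves_injective_linearMap _ hinj

lemma ψ_comm (s : R' ⊗[A] Z) (x : R' ⊗[A] B) :
    x * ψ (A := A) (Z := Z) (B := B) R' s = ψ (A := A) (Z := Z) (B := B) R' s * x := by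
  induction s using TensorProduct.induction_on with
  | zero => simp
  | tmul r z =>
    induction x using TensorProduct.induction_on with
    | zero => simp
    | tmul r' b =>
      rw [ψ_tmul, Algebra.TensorProduct.tmul_mul_tmul, Algebra.TensorProduct.tmul_mul_tmul,
        mul_comm, Algebra.commutes]
    | add x y hx hy => rw [add_mul, mul_add, hx, hy]
  | add s t hs ht => rw [map_add, mul_add, add_mul, hs, ht]

lemma ψ_surj_center [Module.Flat A R'] {κ : Type*} [Fintype κ] [DecidableEq κ] (gens : κ → B)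
    (hgens : Algebra.adjoin A (Set.range gens) = ⊤)
    (hcen : ∀ b : B, (∀ x, x * b = b * x) → b ∈ Set.range (algebraMap Z B))
    (t : R' ⊗[A] B) (ht : ∀ x, x * t = t * x) :
    ∃ s, ψ (A := A) (Z := Z) (B := B) R' s = t := by
  have h1 := center_descent gens R' hgens t (fun k => (ht _).symm)
  have h2 : Submodule.span R' {y : R' ⊗[A] B | ∃ z ∈ Subalgebra.center A B, y = 1 ⊗ₜ z} ≤
      LinearMap.range (ψ (A := A) (Z := Z) (B := B) R').toLinearMap := by
    rw [Submodule.span_le]
    rintro _ ⟨z, hz, rfl⟩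
    obtain ⟨z', rfl⟩ := hcen z (fun x => (Subalgebra.mem_center_iff.mp hz x))
    exact ⟨1 ⊗ₜ z', ψ_tmul R' 1 z'⟩
  exact h2 h1

end Psi

section MatCenter
variable (K : Type*) [CommRing K] (k : ℕ)

/-- the diagonal embedding of `K × K` in `M_k(K) × M_k(K)` -/
noncomputable def cc : K × K →ₐ[K] Matrix (Fin k) (Fin k) K × Matrix (Fin k) (Fin k) K :=
  AlgHom.prodMap (Algebra.ofId K _) (Algebra.ofId K _)

lemma cc_apply (p : K × K) : cc K k p = (algebraMap K _ p.1, algebraMap K _ p.2) := rfl

lemma cc_injective [Nonempty (Fin k)] : Function.Injective (cc K k) := by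
  have hi : Function.Injective (algebraMap K (Matrix (Fin k) (Fin k) K)) := by
    intro a b hab
    have i0 : Fin k := Classical.arbitrary _
    have := congrFun (congrFun hab i0) i0
    simpa [Matrix.algebraMap_matrix_apply] using this
  rintro ⟨a, b⟩ ⟨a', b'⟩ h
  rw [cc_apply, cc_apply, Prod.mk.injEq] at h
  rw [Prod.mk.injEq]
  exact ⟨hi h.1, hi h.2⟩

lemma cc_comm (p : K × K) (x : Matrix (Fin k) (Fin k) K × Matrix (Fin k) (Fin k) K) :
    x * cc K k p = cc K k p * x := by
  rw [cc_apply]
  ext1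
  · exact (Algebra.commutes _ _).symm
  · exact (Algebra.commutes _ _).symm

lemma cc_surj_center (t : Matrix (Fin k) (Fin k) K × Matrix (Fin k) (Fin k) K)
    (ht : ∀ x, x * t = t * x) : ∃ p, cc K k p = t := by
  have hcen : ∀ X : Matrix (Fin k) (Fin k) K, (∀ Y, Y * X = X * Y) → ∃ a, algebraMap K _ a = X := by
    intro X hX
    have h1 : X ∈ Subalgebra.center K (Matrix (Fin k) (Fin k) K) :=
      Subalgebra.mem_center_iff.mpr hX
    have h2 := (Algebra.IsCentral.out (K := K) (D := Matrix (Fin k) (Fin k) K)) h1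
    exact Algebra.mem_bot.mp h2
  obtain ⟨a, ha⟩ := hcen t.1 (fun Y => by
    have := congrArg Prod.fst (ht (Y, 0))
    simpa using this)
  obtain ⟨b, hb⟩ := hcen t.2 (fun Y => by
    have := congrArg Prod.snd (ht (0, Y))
    simpa using this)
  exact ⟨(a, b), by rw [cc_apply]; exact Prod.ext ha hb⟩

end MatCenter

section Theta
variable {A : Type u} [CommRing A] {Z : Type*} [CommRing Z] [Algebra A Z]
  {B : Type v} [Ring B] [Algebra A B] [Algebra Z B] [IsScalarTower A Z B]
  (R' : Type w) [CommRing R'] [Algebra A R'] [Module.Flat A R']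
  {κ : Type*} [Fintype κ] [DecidableEq κ] (gens : κ → B)
  (hgens : Algebra.adjoin A (Set.range gens) = ⊤)
  (hinj : Function.Injective (algebraMap Z B))
  (hcen : ∀ b : B, (∀ x, x * b = b * x) → b ∈ Set.range (algebraMap Z B))
  {k : ℕ} [Nonempty (Fin k)]
  (E : R' ⊗[A] B ≃ₐ[R'] Matrix (Fin k) (Fin k) R' × Matrix (Fin k) (Fin k) R')

include hgens hinj hcen in
theorem range_eq :
    (E.toAlgHom.comp (ψ (A := A) (Z := Z) (B := B) R')).range = (cc R' k).range := by
  ext t
  constructor
  · rintro ⟨s, rfl⟩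
    obtain ⟨p, hp⟩ := cc_surj_center R' k (E (ψ (A := A) (Z := Z) (B := B) R' s)) (fun x => by
      obtain ⟨y, rfl⟩ := E.surjective x
      rw [← map_mul, ← map_mul, ψ_comm])
    exact ⟨p, hp⟩
  · rintro ⟨p, rfl⟩
    obtain ⟨s, hs⟩ := ψ_surj_center (Z := Z) R' gens hgens hcen (E.symm (cc R' k p)) (fun x => by
      apply E.injective
      rw [map_mul, map_mul, AlgEquiv.apply_symm_apply, cc_comm])
    refine ⟨s, ?_⟩
    change E (ψ (A := A) (Z := Z) (B := B) R' s) = _
    rw [hs, AlgEquiv.apply_symm_apply]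
    rfl

include hgens hinj hcen in
/-- the base change of the centre is `R' × R'` -/
theorem exists_theta : ∃ Θ : R' ⊗[A] Z ≃ₐ[R'] R' × R',
    ∀ s, E (ψ (A := A) (Z := Z) (B := B) R' s) = cc R' k (Θ s) := by
  have hi1 : Function.Injective (E.toAlgHom.comp (ψ (A := A) (Z := Z) (B := B) R')) :=
    E.injective.comp (ψ_injective R' hinj)
  let e1 := AlgEquiv.ofInjective _ hi1
  let e2 := AlgEquiv.ofInjective _ (cc_injective R' k)
  let e3 := Subalgebra.equivOfEq _ _ (range_eq R' gens hgens hinj hcen E)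
  refine ⟨(e1.trans e3).trans e2.symm, fun s => ?_⟩
  have h1 : (cc R' k) (e2.symm (e3 (e1 s))) = ((e2 (e2.symm (e3 (e1 s))) : (cc R' k).range) :
      Matrix (Fin k) (Fin k) R' × Matrix (Fin k) (Fin k) R') := rfl
  change _ = cc R' k (e2.symm (e3 (e1 s)))
  rw [h1, AlgEquiv.apply_symm_apply]
  rfl

end Theta

section Descent
variable {A : Type u} [CommRing A] {Z : Type*} [CommRing Z] [Algebra A Z]
  (R' : Type w) [CommRing R'] [Algebra A R'] [Module.FaithfullyFlat A R']
  (Θ : R' ⊗[A] Z ≃ₐ[R'] R' × R')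

include Θ in
theorem etale_of_theta : Algebra.Etale A Z := by
  haveI : Algebra.Etale R' (R' × R') :=
    Algebra.Etale.of_equiv (A := Fin 2 → R')
      (AlgEquiv.ofRingEquiv (f := RingEquiv.piFinTwo (fun _ => R')) (fun r => rfl))
  haveI : Algebra.Etale R' (R' ⊗[A] Z) := Algebra.Etale.of_equiv Θ.symm
  exact Algebra.Etale.of_etale_tensorProduct_of_faithfullyFlat R'

include Θ in
theorem finite_projective_of_theta : Module.Finite A Z ∧ Module.Projective A Z := by
  haveI : Module.Finite R' (R' ⊗[A] Z) := Module.Finite.equiv Θ.toLinearEquiv.symm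
  haveI : Module.Projective R' (R' ⊗[A] Z) := Module.Projective.of_equiv Θ.toLinearEquiv.symm
  exact finite_projective_of_faithfullyFlat (R := A) R' (M := Z)

include Θ in
theorem rankAtStalk_of_theta (p : PrimeSpectrum A) : Module.rankAtStalk Z p = 2 := by
  obtain ⟨q, rfl⟩ := PrimeSpectrum.comap_surjective_of_faithfullyFlat (A := A) (B := R') p
  haveI : Nontrivial R' := q.nontrivial
  obtain ⟨hf, hp⟩ := finite_projective_of_theta R' Θ
  rw [← Module.rankAtStalk_baseChange, Module.rankAtStalk_eq_of_equiv Θ.toLinearEquiv,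
    Module.rankAtStalk_eq_finrank_of_free]
  simp

end Descent

end Groth.Agent.Lib.Helper15.Azumaya
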