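import Mathlib
import Groth.Agent.Lib.Helper15.AzCenter2

/-! Azumaya part of the centre theorem. -/

set_option autoImplicit false
set_option linter.style.haveILetI false

namespace Groth.Agent.Lib.Helper15.Azumaya

open TensorProduct
open Groth.Agent.Lib.Helper15.Cl

universe u v w

section MatProd
variable (n : Type*) [Fintype n] [DecidableEq n] (K₁ K₂ : Type*) [Ring K₁] [Ring K₂]

/-- matrices over a product ring -/
noncomputable def matProdHom : Matrix n n (K₁ × K₂) →+* Matrix n n K₁ × Matrix n n K₂ :=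
  RingHom.prod (RingHom.fst K₁ K₂).mapMatrix (RingHom.snd K₁ K₂).mapMatrix

lemma matProdHom_bijective : Function.Bijective (matProdHom n K₁ K₂) := by
  constructor
  · intro M N h
    ext i j
    · exact congrFun (congrFun (congrArg Prod.fst h) i) j
    · exact congrFun (congrFun (congrArg Prod.snd h) i) j
  · rintro ⟨X, Y⟩
    exact ⟨Matrix.of fun i j => (X i j, Y i j), rfl⟩

/-- matrices over a product ring -/
noncomputable def matProd : Matrix n n (K₁ × K₂) ≃+* Matrix n n K₁ × Matrix n n K₂ :=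
  RingEquiv.ofBijective _ (matProdHom_bijective n K₁ K₂)

end MatProd

section Phi
variable {A : Type u} [CommRing A] {Z : Type*} [CommRing Z] [Algebra A Z]
  {B : Type v} [Ring B] [Algebra A B] [Algebra Z B] [IsScalarTower A Z B]
  (R' : Type w) [CommRing R'] [Algebra A R']

/-- the comparison map `R' ⊗[A] B → (Z ⊗[A] R') ⊗[Z] B` -/
noncomputable def gg : R' ⊗[A] B →ₐ[A] (Z ⊗[A] R') ⊗[Z] B :=
  Algebra.TensorProduct.lift
    ((Algebra.TensorProduct.includeLeft (R := Z) (S := Z) (A := Z ⊗[A] R') (B := B)).restrictScalars A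
      |>.comp (Algebra.TensorProduct.includeRight (R := A) (A := Z) (B := R')))
    ((Algebra.TensorProduct.includeRight (R := Z) (A := Z ⊗[A] R') (B := B)).restrictScalars A)
    (fun r b => by
      change ((1 : Z) ⊗ₜ[A] r) ⊗ₜ[Z] (1 : B) * (1 : Z ⊗[A] R') ⊗ₜ[Z] b =
        (1 : Z ⊗[A] R') ⊗ₜ[Z] b * ((1 : Z) ⊗ₜ[A] r) ⊗ₜ[Z] (1 : B)
      rw [Algebra.TensorProduct.tmul_mul_tmul, Algebra.TensorProduct.tmul_mul_tmul, mul_one,
        one_mul, mul_one, one_mul])

lemma gg_tmul (r : R') (b : B) :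
    gg (A := A) (Z := Z) (B := B) R' (r ⊗ₜ b) = ((1 : Z) ⊗ₜ[A] r) ⊗ₜ[Z] b := by
  change ((1 : Z) ⊗ₜ[A] r) ⊗ₜ[Z] (1 : B) * (1 : Z ⊗[A] R') ⊗ₜ[Z] b = _
  rw [Algebra.TensorProduct.tmul_mul_tmul, mul_one, one_mul]

/-- the inverse linear map -/
noncomputable def LL : (Z ⊗[A] R') ⊗[Z] B ≃ₗ[A] R' ⊗[A] B :=
  ((TensorProduct.comm Z (Z ⊗[A] R') B).restrictScalars A).trans
    (((TensorProduct.AlgebraTensorModule.cancelBaseChange A Z Z B R').restrictScalars A).trans
      (TensorProduct.comm A B R'))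

lemma LL_tmul (z : Z) (r : R') (b : B) :
    LL (A := A) (Z := Z) (B := B) R' ((z ⊗ₜ[A] r) ⊗ₜ[Z] b) = r ⊗ₜ[A] (z • b) := by
  simp [LL]

lemma gg_LL (t : (Z ⊗[A] R') ⊗[Z] B) :
    gg (A := A) (Z := Z) (B := B) R' (LL (A := A) (Z := Z) (B := B) R' t) = t := by
  induction t using TensorProduct.induction_on with
  | zero => simp
  | tmul s b =>
    induction s using TensorProduct.induction_on with
    | zero => simp
    | tmul z r =>
      rw [LL_tmul, gg_tmul, ← TensorProduct.smul_tmul, TensorProduct.smul_tmul', smul_eq_mul,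
        mul_one]
    | add x y hx hy => rw [TensorProduct.add_tmul, map_add, map_add, hx, hy]
  | add x y hx hy => rw [map_add, map_add, hx, hy]

lemma LL_gg (t : R' ⊗[A] B) :
    LL (A := A) (Z := Z) (B := B) R' (gg (A := A) (Z := Z) (B := B) R' t) = t := by
  induction t using TensorProduct.induction_on with
  | zero => simp
  | tmul r b => rw [gg_tmul, LL_tmul, one_smul]
  | add x y hx hy => rw [map_add, map_add, hx, hy]

/-- the comparison isomorphism -/
noncomputable def ggEquiv : R' ⊗[A] B ≃+* (Z ⊗[A] R') ⊗[Z] B :=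
  RingEquiv.ofBijective (gg (A := A) (Z := Z) (B := B) R')
    ⟨fun x y h => by rw [← LL_gg (Z := Z) R' x, ← LL_gg (Z := Z) R' y, h],
     fun t => ⟨_, gg_LL R' t⟩⟩

lemma ggEquiv_apply (t : R' ⊗[A] B) :
    ggEquiv (A := A) (Z := Z) (B := B) R' t = gg (A := A) (Z := Z) (B := B) R' t := rfl

lemma gg_ψ (s : Z ⊗[A] R') :
    gg (A := A) (Z := Z) (B := B) R' (ψ (A := A) (Z := Z) (B := B) R'
      (Algebra.TensorProduct.comm A Z R' s)) = s ⊗ₜ[Z] (1 : B) := by
  induction s using TensorProduct.induction_on with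
  | zero => simp
  | tmul z r =>
    rw [Algebra.TensorProduct.comm_tmul, ψ_tmul, gg_tmul, Algebra.algebraMap_eq_smul_one,
      ← TensorProduct.smul_tmul, TensorProduct.smul_tmul', smul_eq_mul, mul_one]
  | add x y hx hy => rw [map_add, map_add, map_add, hx, hy, TensorProduct.add_tmul]

end Phi

section Main
variable {A : Type u} [CommRing A] {Z : Type*} [CommRing Z] [Algebra A Z]
  {B : Type v} [Ring B] [Algebra A B] [Algebra Z B] [IsScalarTower A Z B]
  (R' : Type w) [CommRing R'] [Algebra A R'] [Module.FaithfullyFlat A R']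
  {κ : Type*} [Fintype κ] [DecidableEq κ] (gens : κ → B)
  (hgens : Algebra.adjoin A (Set.range gens) = ⊤)
  (hinj : Function.Injective (algebraMap Z B))
  (hcen : ∀ b : B, (∀ x, x * b = b * x) → b ∈ Set.range (algebraMap Z B))
  {k : ℕ} [Nonempty (Fin k)]
  (E : R' ⊗[A] B ≃ₐ[R'] Matrix (Fin k) (Fin k) R' × Matrix (Fin k) (Fin k) R')

include hgens hinj hcen E in
theorem isAzumaya_center : IsAzumaya Z B := by
  haveI : IsAzumaya (Z ⊗[A] R') ((Z ⊗[A] R') ⊗[Z] B) := by
    refine isAzumaya_of_matrix_ringEquiv (K := R' × R') (k := k) ?_ ?_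
      (((matProd (Fin k) R' R').trans E.symm.toRingEquiv).trans
        (ggEquiv (A := A) (Z := Z) (B := B) R'))
    · -- injectivity
      intro s s' h
      rw [Algebra.TensorProduct.algebraMap_apply, Algebra.TensorProduct.algebraMap_apply,
        Algebra.algebraMap_self_apply, Algebra.algebraMap_self_apply, ← gg_ψ R' s, ← gg_ψ R' s'] at h
      have h1 := (ggEquiv (A := A) (Z := Z) (B := B) R').injective h
      exact (Algebra.TensorProduct.comm A Z R').injective (ψ_injective R' hinj h1)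
    · intro b hb
      obtain ⟨t, rfl⟩ := (ggEquiv (A := A) (Z := Z) (B := B) R').surjective b
      obtain ⟨s, hs⟩ := ψ_surj_center (Z := Z) R' gens hgens hcen t (fun x => by
        apply (ggEquiv (A := A) (Z := Z) (B := B) R').injective
        rw [map_mul, map_mul, hb])
      refine ⟨(Algebra.TensorProduct.comm A Z R').symm s, ?_⟩
      rw [Algebra.TensorProduct.algebraMap_apply, Algebra.algebraMap_self_apply, ← gg_ψ R',
        AlgEquiv.apply_symm_apply, hs]
      rfl
  exact isAzumaya_of_faithfullyFlat (R := Z) (Z ⊗[A] R') B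

include hgens hinj hcen E in
/-- the centre theorem -/
theorem center_theorem :
    Algebra.Etale A Z ∧ Module.Finite A Z ∧ Module.Projective A Z ∧
      (∀ p : PrimeSpectrum A, Module.rankAtStalk Z p = 2) ∧ IsAzumaya Z B := by
  obtain ⟨Θ, -⟩ := exists_theta (Z := Z) R' gens hgens hinj hcen E
  obtain ⟨h1, h2⟩ := finite_projective_of_theta R' Θ
  exact ⟨etale_of_theta R' Θ, h1, h2, rankAtStalk_of_theta R' Θ,
    isAzumaya_center R' gens hgens hinj hcen E⟩

end Main

end Groth.Agent.Lib.Helper15.Azumaya
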