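import Mathlib
import Groth.Agent.Lib.Helper15.CSATensor

/-!
# Skolem–Noether (helper15)

* `nonempty_linearEquiv_of_finrank_eq`: over a simple Artinian `K`-algebra, two finite-dimensional
  modules of the same `K`-dimension are isomorphic.
* `exists_intertwiner`: two representations of a finite-dimensional simple algebra on the same
  finite-dimensional space are conjugate.
* `skolem_noether`: two `K`-algebra maps from a simple algebra `B` to a finite-dimensional central
  simple algebra `A` are conjugate by a unit of `A`.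
* `exists_unit_conj_of_algEquiv`: every `K`-algebra automorphism of a finite-dimensional central
  simple algebra is inner.
-/

set_option autoImplicit false

namespace Groth.Agent.Lib.Helper15.CSA

open TensorProduct

section modules

variable (K : Type*) {R : Type*} [Field K] [Ring R] [Algebra K R] [IsSimpleRing R] [IsArtinianRing R]

/-- Over a simple Artinian `K`-algebra, two finite-dimensional modules of the same `K`-dimension are
isomorphic. -/
theorem nonempty_linearEquiv_of_finrank_eq
    (M N : Type*) [AddCommGroup M] [Module R M] [Module K M] [IsScalarTower K R M]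
    [AddCommGroup N] [Module R N] [Module K N] [IsScalarTower K R N]
    [FiniteDimensional K M] [FiniteDimensional K N]
    (h : Module.finrank K M = Module.finrank K N) : Nonempty (M ≃ₗ[R] N) := by
  have hfM : Module.Finite R M := Module.Finite.of_restrictScalars_finite K R M
  have hfN : Module.Finite R N := Module.Finite.of_restrictScalars_finite K R N
  by_cases hM : Subsingleton M
  · have h0 : Module.finrank K M = 0 := Module.finrank_zero_of_subsingleton
    have hN : Subsingleton N := Module.finrank_zero_iff.mp (h ▸ h0)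
    exact ⟨{ toFun := fun _ => 0, invFun := fun _ => 0, map_add' := by simp, map_smul' := by simp,
             left_inv := fun x => Subsingleton.elim _ _, right_inv := fun x => Subsingleton.elim _ _ }⟩
  rw [not_subsingleton_iff_nontrivial] at hM
  have hN : Nontrivial N := by
    have hpos : 0 < Module.finrank K M := Module.finrank_pos
    rw [h] at hpos
    exact Module.finrank_pos_iff.mp hpos
  obtain ⟨n, _, S, hS, ⟨e⟩⟩ := (IsSimpleRing.isIsotypic R M).linearEquiv_fun
  obtain ⟨m, _, S', hS', ⟨e'⟩⟩ := (IsSimpleRing.isIsotypic R N).linearEquiv_fun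
  -- the two simple modules are isomorphic
  let T : Submodule R (M × N) := S.map (LinearMap.inl R M N)
  let T' : Submodule R (M × N) := S'.map (LinearMap.inr R M N)
  let eT : S ≃ₗ[R] T := S.equivMapOfInjective _ LinearMap.inl_injective
  let eT' : S' ≃ₗ[R] T' := S'.equivMapOfInjective _ LinearMap.inr_injective
  have hT : IsSimpleModule R T := IsSimpleModule.congr eT.symm
  have hT' : IsSimpleModule R T' := IsSimpleModule.congr eT'.symm
  obtain ⟨eTT'⟩ := IsSimpleRing.isIsotypic R (M × N) T T'
  let eSS' : S' ≃ₗ[R] S := eT'.trans (eTT'.trans eT.symm)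
  -- dimension count
  have hfS : Module.Finite K S :=
    Module.Finite.of_injective (S.subtype.restrictScalars K) S.injective_subtype
  have hfS' : Module.Finite K S' :=
    Module.Finite.of_injective (S'.subtype.restrictScalars K) S'.injective_subtype
  have h1 : Module.finrank K M = n * Module.finrank K S := by
    rw [(e.restrictScalars K).finrank_eq, Module.finrank_pi_fintype]
    simp
  have h2 : Module.finrank K N = m * Module.finrank K S := by
    rw [(e'.restrictScalars K).finrank_eq, Module.finrank_pi_fintype]
    simp [(eSS'.restrictScalars K).finrank_eq]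
  have hSpos : 0 < Module.finrank K S := by
    have : Nontrivial S := IsSimpleModule.nontrivial R S
    exact Module.finrank_pos
  have hnm : n = m := by
    have : n * Module.finrank K S = m * Module.finrank K S := by rw [← h1, ← h2, h]
    exact Nat.eq_of_mul_eq_mul_right hSpos this
  subst hnm
  exact ⟨e.trans ((LinearEquiv.piCongrRight fun _ => eSS'.symm).trans e'.symm)⟩

end modules

section rep

variable {K R V : Type*} [Field K] [Ring R] [Algebra K R] [AddCommGroup V] [Module K V]

/-- The `R`-module given by a representation `ρ : R →ₐ[K] End_K V`. -/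
def Rep (_ρ : R →ₐ[K] Module.End K V) : Type _ := V

variable (ρ : R →ₐ[K] Module.End K V)

instance : AddCommGroup (Rep ρ) := inferInstanceAs (AddCommGroup V)
instance : Module K (Rep ρ) := inferInstanceAs (Module K V)
instance : Module R (Rep ρ) := Module.compHom V ρ.toRingHom

lemma Rep.smul_def (r : R) (x : Rep ρ) : r • x = ρ r x := rfl

instance : IsScalarTower K R (Rep ρ) where
  smul_assoc k r x := by
    change ρ (k • r) x = k • ρ r x
    rw [map_smul, LinearMap.smul_apply]

instance [FiniteDimensional K V] : FiniteDimensional K (Rep ρ) :=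
  inferInstanceAs (FiniteDimensional K V)

/-- Two representations of a finite-dimensional simple algebra on the same finite-dimensional space
are conjugate. -/
theorem exists_intertwiner [IsSimpleRing R] [FiniteDimensional K R] [FiniteDimensional K V]
    (ρ₁ ρ₂ : R →ₐ[K] Module.End K V) :
    ∃ φ : V ≃ₗ[K] V, ∀ r x, φ (ρ₁ r x) = ρ₂ r (φ x) := by
  have hart : IsArtinianRing R := IsArtinianRing.of_finite K R
  have i1 : FiniteDimensional K (Rep ρ₁) := inferInstance
  have i2 : FiniteDimensional K (Rep ρ₂) := inferInstance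
  have key := @nonempty_linearEquiv_of_finrank_eq K R _ _ _ _ _ (Rep ρ₁) (Rep ρ₂) _ _ _ _ _ _ _ _ i1 i2 rfl
  obtain ⟨e⟩ := key
  refine ⟨e.restrictScalars K, fun r x => ?_⟩
  exact e.map_smul r x

end rep

section SN

variable {K A B : Type*} [Field K] [Ring A] [Algebra K A] [Algebra.IsCentral K A] [IsSimpleRing A]
  [FiniteDimensional K A] [Ring B] [Algebra K B] [IsSimpleRing B]

/-- **Skolem–Noether**: two `K`-algebra maps from a simple algebra `B` to a finite-dimensional
central simple algebra `A` are conjugate by a unit of `A`. -/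
theorem skolem_noether (f g : B →ₐ[K] A) :
    ∃ u : Aˣ, ∀ b : B, g b = (u : A) * f b * ((u⁻¹ : Aˣ) : A) := by
  have hfinj : Function.Injective f := (f : B →+* A).injective
  have hfd : FiniteDimensional K B := FiniteDimensional.of_injective f.toLinearMap hfinj
  have hsimple : IsSimpleRing (Aᵐᵒᵖ ⊗[K] B) := isSimpleRing_tensorProduct
  have hsimple' : IsSimpleRing (B ⊗[K] Aᵐᵒᵖ) := by
    have e : (Aᵐᵒᵖ ⊗[K] B) ≃+* (B ⊗[K] Aᵐᵒᵖ) := (Algebra.TensorProduct.comm K Aᵐᵒᵖ B).toRingEquiv
    exact IsSimpleRing.of_ringEquiv e hsimple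
  let ρ : (B →ₐ[K] A) → (B ⊗[K] Aᵐᵒᵖ →ₐ[K] Module.End K A) := fun h =>
    (AlgHom.mulLeftRight K A).comp (Algebra.TensorProduct.map h (AlgHom.id K Aᵐᵒᵖ))
  have hρ : ∀ (h : B →ₐ[K] A) (b : B) (a : Aᵐᵒᵖ) (x : A),
      ρ h (b ⊗ₜ[K] a) x = h b * x * a.unop := by
    intro h b a x
    simp [ρ]
  obtain ⟨φ, hφ⟩ := exists_intertwiner (ρ f) (ρ g)
  have hleft : ∀ (b : B) (x : A), φ (f b * x) = g b * φ x := by
    intro b x
    have := hφ (b ⊗ₜ[K] (1 : Aᵐᵒᵖ)) x
    simpa [hρ] using this
  have hright : ∀ (a x : A), φ (x * a) = φ x * a := by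
    intro a x
    have := hφ ((1 : B) ⊗ₜ[K] (MulOpposite.op a)) x
    simpa [hρ] using this
  have hφ1 : ∀ x : A, φ x = φ 1 * x := by
    intro x
    have := hright x 1
    rwa [one_mul] at this
  obtain ⟨v, hv⟩ := φ.surjective 1
  have huv : φ 1 * v = 1 := by rw [← hφ1, hv]
  have hvu : v * φ 1 = 1 := by
    apply φ.injective
    rw [hφ1 (v * φ 1), ← mul_assoc, huv, one_mul]
  refine ⟨⟨φ 1, v, huv, hvu⟩, fun b => ?_⟩
  change g b = φ 1 * f b * v
  have h1 : φ 1 * f b = g b * φ 1 := by
    have h2 := hleft b 1
    rw [mul_one] at h2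
    rw [← hφ1]
    exact h2
  rw [h1, mul_assoc, huv, mul_one]

/-- Every `K`-algebra automorphism of a finite-dimensional central simple algebra is inner. -/
theorem exists_unit_conj_of_algEquiv (σ : A ≃ₐ[K] A) :
    ∃ u : Aˣ, ∀ x : A, σ x = (u : A) * x * ((u⁻¹ : Aˣ) : A) := by
  obtain ⟨u, hu⟩ := skolem_noether (AlgHom.id K A) (σ : A →ₐ[K] A)
  exact ⟨u, fun x => hu x⟩

end SN

section center

/-- A ring automorphism of a finite-dimensional simple algebra which fixes the centre pointwise is
inner. -/
theorem exists_unit_conj_of_fix_center (k : Type*) {A : Type*} [Field k] [Ring A] [Algebra k A]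
    [IsSimpleRing A] [FiniteDimensional k A] (σ : A ≃+* A)
    (hσ : ∀ c ∈ Subring.center A, σ c = c) :
    ∃ u : Aˣ, ∀ x : A, σ x = (u : A) * x * ((u⁻¹ : Aˣ) : A) := by
  letI : Field (Subring.center A) := (IsSimpleRing.isField_center A).toField
  have hcentral : Algebra.IsCentral (Subring.center A) A := by
    refine ⟨fun x hx => ?_⟩
    rw [Subalgebra.mem_center_iff] at hx
    rw [Algebra.mem_bot]
    exact ⟨⟨x, Subring.mem_center_iff.mpr hx⟩, rfl⟩
  letI : SMul k (Subring.center A) :=
    ⟨fun c z => ⟨c • (z : A), Subring.mem_center_iff.mpr fun a => by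
      have hz := Subring.mem_center_iff.mp z.2 a
      rw [mul_smul_comm, smul_mul_assoc, hz]⟩⟩
  have htower : IsScalarTower k (Subring.center A) A := ⟨fun c z a => by
    change (c • (z : A)) * a = c • ((z : A) * a)
    rw [smul_mul_assoc]⟩
  have hfd : FiniteDimensional (Subring.center A) A :=
    Module.Finite.of_restrictScalars_finite k (Subring.center A) A
  let σ' : A ≃ₐ[Subring.center A] A := AlgEquiv.ofRingEquiv (f := σ) (fun z => hσ z z.2)
  obtain ⟨u, hu⟩ := exists_unit_conj_of_algEquiv σ'
  exact ⟨u, fun x => hu x⟩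

end center

end Groth.Agent.Lib.Helper15.CSA
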