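import Mathlib
import Groth.Agent.Lib.Helper15.AzumayaFibre
import Groth.Agent.Lib.Helper15.SkolemNoether

/-!
# Automorphisms of Azumaya algebras over local rings are inner (helper15)
-/

set_option autoImplicit false
universe u v w
open scoped TensorProduct

namespace Groth.Agent.Lib.Helper15.Azumaya

section retraction

variable (R : Type*) [CommRing R] (A : Type*) [Ring A] [Algebra R A]

/-- `R` is a direct summand of a faithful finite projective algebra -/
theorem exists_retraction [Module.Finite R A] [Module.Projective R A] [FaithfulSMul R A] :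
    ∃ t : A →ₗ[R] R, t 1 = 1 := by
  have hT := traceIdeal_eq_top_of_faithful (R := R) (P := A)
  have h1 : (1 : R) ∈ traceIdeal R A := by rw [hT]; trivial
  have key : ∀ s ∈ traceIdeal R A, ∃ t : A →ₗ[R] R, t 1 = s := by
    intro s hs
    refine Submodule.span_induction (p := fun s _ => ∃ t : A →ₗ[R] R, t 1 = s) ?_ ?_ ?_ ?_ hs
    · rintro _ ⟨f, x, rfl⟩
      exact ⟨f.comp (LinearMap.mulLeft R x), by simp⟩
    · exact ⟨0, rfl⟩
    · rintro y z _ _ ⟨t, ht⟩ ⟨t', ht'⟩
      exact ⟨t + t', by rw [LinearMap.add_apply, ht, ht']⟩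
    · rintro c y _ ⟨t, ht⟩
      exact ⟨c • t, by rw [LinearMap.smul_apply, ht]⟩
  exact key 1 h1

end retraction

section unitLift

variable (R : Type*) [CommRing R] [IsLocalRing R] (A : Type*) [Ring A] [Algebra R A]
  [Module.Finite R A]

/-- an element of a finite algebra over a local ring which is a unit in the closed fibre is a
unit -/
theorem isUnit_of_isUnit_residue (g : A)
    (hg : IsUnit ((1 : IsLocalRing.ResidueField R) ⊗ₜ[R] g)) : IsUnit g := by
  obtain ⟨v, hv⟩ := hg
  have hL : Function.Surjective (LinearMap.mulLeft R g) := by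
    have hs : Function.Surjective ((LinearMap.mulLeft R g).baseChange (IsLocalRing.ResidueField R)) := by
      intro y
      refine ⟨(v⁻¹ : (IsLocalRing.ResidueField R ⊗[R] A)ˣ) * y, ?_⟩
      have : ∀ z : IsLocalRing.ResidueField R ⊗[R] A,
          (LinearMap.mulLeft R g).baseChange (IsLocalRing.ResidueField R) z =
            ((1 : IsLocalRing.ResidueField R) ⊗ₜ[R] g) * z := by
        intro z
        induction z using TensorProduct.induction_on with
        | zero => simp
        | tmul c a => simp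
        | add z z' hz hz' => rw [map_add, hz, hz', mul_add]
      rw [this, ← hv, ← mul_assoc, Units.mul_inv, one_mul]
    have : Subsingleton (A ⧸ LinearMap.range (LinearMap.mulLeft R g)) :=
      IsLocalRing.subsingleton_tensorProduct.mp (subsingleton_baseChange_coker _ _ hs)
    rw [← LinearMap.range_eq_top]
    exact Submodule.Quotient.subsingleton_iff.mp this
  have hR : Function.Surjective (LinearMap.mulRight R g) := by
    have hs : Function.Surjective ((LinearMap.mulRight R g).baseChange (IsLocalRing.ResidueField R)) := by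
      intro y
      refine ⟨y * (v⁻¹ : (IsLocalRing.ResidueField R ⊗[R] A)ˣ), ?_⟩
      have : ∀ z : IsLocalRing.ResidueField R ⊗[R] A,
          (LinearMap.mulRight R g).baseChange (IsLocalRing.ResidueField R) z =
            z * ((1 : IsLocalRing.ResidueField R) ⊗ₜ[R] g) := by
        intro z
        induction z using TensorProduct.induction_on with
        | zero => simp
        | tmul c a => simp
        | add z z' hz hz' => rw [map_add, hz, hz', add_mul]
      rw [this, ← hv, mul_assoc, Units.inv_mul, mul_one]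
    have : Subsingleton (A ⧸ LinearMap.range (LinearMap.mulRight R g)) :=
      IsLocalRing.subsingleton_tensorProduct.mp (subsingleton_baseChange_coker _ _ hs)
    rw [← LinearMap.range_eq_top]
    exact Submodule.Quotient.subsingleton_iff.mp this
  obtain ⟨b, hb⟩ := hL 1
  obtain ⟨c, hc⟩ := hR 1
  rw [LinearMap.mulLeft_apply] at hb
  rw [LinearMap.mulRight_apply] at hc
  have hcb : c = b := by
    calc c = c * (g * b) := by rw [hb, mul_one]
      _ = (c * g) * b := by rw [mul_assoc]
      _ = b := by rw [hc, one_mul]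
  exact ⟨⟨g, b, hb, hcb ▸ hc⟩, rfl⟩

end unitLift

section twisted

variable {R : Type*} [CommRing R] {A : Type*} [Ring A] [Algebra R A]

/-- the map `x ⊗ y ↦ u x * h * y` -/
noncomputable def twist (u : A →ₐ[R] A) (h : A) : A ⊗[R] Aᵐᵒᵖ →ₗ[R] A :=
  TensorProduct.lift (LinearMap.mk₂ R (fun (x : A) (y : Aᵐᵒᵖ) => u x * h * y.unop)
    (fun x x' y => by simp [add_mul])
    (fun c x y => by simp)
    (fun x y y' => by simp [mul_add])
    (fun c x y => by simp))

@[simp] lemma twist_tmul (u : A →ₐ[R] A) (h : A) (x : A) (y : Aᵐᵒᵖ) :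
    twist u h (x ⊗ₜ y) = u x * h * y.unop := rfl

lemma twist_mul_left (u : A →ₐ[R] A) (h : A) (a : A) (z : A ⊗[R] Aᵐᵒᵖ) :
    twist u h ((a ⊗ₜ (1 : Aᵐᵒᵖ)) * z) = u a * twist u h z := by
  induction z using TensorProduct.induction_on with
  | zero => simp
  | tmul x y => simp [mul_assoc]
  | add z z' hz hz' => rw [mul_add, map_add, hz, hz', map_add, mul_add]

lemma twist_mul_right (u : A →ₐ[R] A) (h : A) (a : A) (z : A ⊗[R] Aᵐᵒᵖ) :
    twist u h (((1 : A) ⊗ₜ (MulOpposite.op a)) * z) = twist u h z * a := by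
  induction z using TensorProduct.induction_on with
  | zero => simp
  | tmul x y => simp [mul_assoc]
  | add z z' hz hz' => rw [mul_add, map_add, hz, hz', map_add, add_mul]

/-- a separability element -/
theorem exists_sepElement [IsAzumaya R A] :
    ∃ e : A ⊗[R] Aᵐᵒᵖ, (∀ a : A, (a ⊗ₜ (1 : Aᵐᵒᵖ)) * e = ((1 : A) ⊗ₜ (MulOpposite.op a)) * e) ∧
      AlgHom.mulLeftRight R A e 1 = 1 := by
  obtain ⟨t, ht⟩ := exists_retraction R A
  have hbij := IsAzumaya.bij (R := R) (A := A)
  obtain ⟨e, he⟩ := hbij.2 (LinearMap.smulRight t (1 : A))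
  refine ⟨e, fun a => ?_, ?_⟩
  · apply hbij.1
    rw [map_mul, map_mul, he]
    apply LinearMap.ext
    intro x
    simp
  · rw [he, LinearMap.smulRight_apply, ht, one_smul]

end twisted

section inner

variable (R : Type*) [CommRing R] [IsLocalRing R] (A : Type*) [Ring A] [Algebra R A]
  [IsAzumaya R A]

/-- Skolem–Noether over a local ring -/
theorem exists_unit_conj (u : A ≃ₐ[R] A) :
    ∃ a : Aˣ, ∀ x : A, u x = (a : A) * x * ((a⁻¹ : Aˣ) : A) := by
  have hAz : IsAzumaya (IsLocalRing.ResidueField R) (IsLocalRing.ResidueField R ⊗[R] A) :=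
    isAzumaya_baseChange R (IsLocalRing.ResidueField R) A
  have hc := isCentral_of_isAzumaya (IsLocalRing.ResidueField R) (IsLocalRing.ResidueField R ⊗[R] A)
  have hs := isSimpleRing_of_isAzumaya (IsLocalRing.ResidueField R) (IsLocalRing.ResidueField R ⊗[R] A)
  let ū : (IsLocalRing.ResidueField R ⊗[R] A) ≃ₐ[IsLocalRing.ResidueField R]
      (IsLocalRing.ResidueField R ⊗[R] A) :=
    Algebra.TensorProduct.congr AlgEquiv.refl u
  obtain ⟨α, hα⟩ := Groth.Agent.Lib.Helper15.CSA.exists_unit_conj_of_algEquiv ū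
  obtain ⟨h, hh⟩ : ∃ h : A, (1 : IsLocalRing.ResidueField R) ⊗ₜ[R] h = (α : _ ⊗[R] A) :=
    TensorProduct.mk_surjective R A (IsLocalRing.ResidueField R) Ideal.Quotient.mk_surjective _
  obtain ⟨e, he1, he2⟩ := exists_sepElement (R := R) (A := A)
  have hg : ∀ a : A, u a * twist (u : A →ₐ[R] A) h e = twist (u : A →ₐ[R] A) h e * a := by
    intro a
    have := twist_mul_left (u : A →ₐ[R] A) h a e
    rw [he1, twist_mul_right] at this
    exact this.symm
  have hπ : ∀ z : A ⊗[R] Aᵐᵒᵖ,
      (1 : IsLocalRing.ResidueField R) ⊗ₜ[R] (twist (u : A →ₐ[R] A) h z) =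
        (α : _ ⊗[R] A) * ((1 : IsLocalRing.ResidueField R) ⊗ₜ[R] (AlgHom.mulLeftRight R A z 1)) := by
    intro z
    induction z using TensorProduct.induction_on with
    | zero => simp
    | tmul x y =>
      have h1 : (1 : IsLocalRing.ResidueField R) ⊗ₜ[R] (u x) =
          (α : _ ⊗[R] A) * ((1 : IsLocalRing.ResidueField R) ⊗ₜ[R] x) *
            ((α⁻¹ : (_ ⊗[R] A)ˣ) : _ ⊗[R] A) := by
        rw [← hα]
        simp [ū]
      rw [twist_tmul, AlgHom.mulLeftRight_apply, mul_one]
      have h2 : (1 : IsLocalRing.ResidueField R) ⊗ₜ[R] ((u : A →ₐ[R] A) x * h * y.unop) =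
          ((1 : IsLocalRing.ResidueField R) ⊗ₜ[R] (u x)) * ((1 : IsLocalRing.ResidueField R) ⊗ₜ[R] h) *
            ((1 : IsLocalRing.ResidueField R) ⊗ₜ[R] y.unop) := by
        simp [Algebra.TensorProduct.tmul_mul_tmul]
      have h3 : (1 : IsLocalRing.ResidueField R) ⊗ₜ[R] (x * y.unop) =
          ((1 : IsLocalRing.ResidueField R) ⊗ₜ[R] x) *
            ((1 : IsLocalRing.ResidueField R) ⊗ₜ[R] y.unop) := by
        simp [Algebra.TensorProduct.tmul_mul_tmul]
      rw [h2, h1, hh, h3]
      simp only [mul_assoc, Units.inv_mul_cancel_left]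
    | add z z' hz hz' =>
      rw [map_add, TensorProduct.tmul_add, hz, hz', map_add, LinearMap.add_apply,
        TensorProduct.tmul_add, mul_add]
  have hunit : IsUnit (twist (u : A →ₐ[R] A) h e) := by
    apply isUnit_of_isUnit_residue R A
    rw [hπ e, he2, ← Algebra.TensorProduct.one_def, mul_one]
    exact α.isUnit
  obtain ⟨a, ha⟩ := hunit
  refine ⟨a, fun x => ?_⟩
  have := hg x
  rw [← ha] at this
  rw [← this, mul_assoc, Units.mul_inv, mul_one]

end inner

section central

variable (R : Type*) [CommRing R] (A : Type*) [Ring A] [Algebra R A] [IsAzumaya R A]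

/-- the centre of an Azumaya algebra is the base ring -/
theorem isCentral_of_isAzumaya_ring : Algebra.IsCentral R A := by
  have hbij := IsAzumaya.bij (R := R) (A := A)
  obtain ⟨t, ht⟩ := exists_retraction R A
  refine ⟨fun z hz => ?_⟩
  rw [Subalgebra.mem_center_iff] at hz
  have hcomm : ∀ T : Module.End R A, T z = T 1 * z := by
    intro T
    obtain ⟨s, rfl⟩ := hbij.2 T
    induction s using TensorProduct.induction_on with
    | zero => simp
    | tmul a b =>
      rw [AlgHom.mulLeftRight_apply, AlgHom.mulLeftRight_apply, mul_one, mul_assoc, mul_assoc, hz]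
    | add s s' hs hs' =>
      rw [map_add, LinearMap.add_apply, LinearMap.add_apply, hs, hs', add_mul]
  have := hcomm (LinearMap.smulRight t (1 : A))
  rw [LinearMap.smulRight_apply, LinearMap.smulRight_apply, ht, one_smul, one_mul] at this
  rw [Algebra.mem_bot]
  exact ⟨t z, (Algebra.algebraMap_eq_smul_one (t z)).trans this⟩

/-- uniqueness up to units of `R` of the element implementing an inner automorphism -/
theorem unit_unique (u : A ≃ₐ[R] A) (a a' : Aˣ)
    (ha : ∀ x : A, u x = (a : A) * x * ((a⁻¹ : Aˣ) : A))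
    (ha' : ∀ x : A, u x = (a' : A) * x * ((a'⁻¹ : Aˣ) : A)) :
    ∃ c : Rˣ, (a' : A) = algebraMap R A (c : R) * (a : A) := by
  have hcen := isCentral_of_isAzumaya_ring R A
  have hinj : Function.Injective (algebraMap R A) := FaithfulSMul.algebraMap_injective R A
  -- `w = a⁻¹ a'` is central
  have hw : ∀ x : A, x * ((a⁻¹ * a' : Aˣ) : A) = ((a⁻¹ * a' : Aˣ) : A) * x := by
    intro x
    have h1 := ha x
    rw [ha' x] at h1
    have h2 : ((a⁻¹ : Aˣ) : A) * ((a' : A) * x * ((a'⁻¹ : Aˣ) : A)) * (a' : A) =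
        ((a⁻¹ : Aˣ) : A) * ((a : A) * x * ((a⁻¹ : Aˣ) : A)) * (a' : A) := by rw [h1]
    simp only [mul_assoc, Units.inv_mul_cancel_left, Units.inv_mul, mul_one] at h2
    rw [Units.val_mul, mul_assoc, h2]
  have hwinv : ∀ x : A, x * (((a⁻¹ * a')⁻¹ : Aˣ) : A) = (((a⁻¹ * a')⁻¹ : Aˣ) : A) * x := by
    intro x
    have h3 := hw ((((a⁻¹ * a')⁻¹ : Aˣ) : A) * x * (((a⁻¹ * a')⁻¹ : Aˣ) : A))
    simp only [mul_assoc, Units.inv_mul, mul_one, Units.mul_inv_cancel_left] at h3
    exact h3.symm
  obtain ⟨r, hr⟩ := hcen.out (Subalgebra.mem_center_iff.mpr fun x => hw x)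
  obtain ⟨r', hr'⟩ := hcen.out (Subalgebra.mem_center_iff.mpr fun x => hwinv x)
  have hr1 : algebraMap R A r = ((a⁻¹ * a' : Aˣ) : A) := hr
  have hr1' : algebraMap R A r' = (((a⁻¹ * a')⁻¹ : Aˣ) : A) := hr'
  have hrr' : r * r' = 1 := by
    apply hinj
    rw [map_mul, hr1, hr1', map_one, Units.mul_inv]
  refine ⟨⟨r, r', hrr', by rw [mul_comm]; exact hrr'⟩, ?_⟩
  change (a' : A) = algebraMap R A r * (a : A)
  rw [hr1, ← hw, Units.val_mul, Units.mul_inv_cancel_left]

end central

section locallyInner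

variable (R : Type*) [CommRing R] (A : Type*) [Ring A] [Algebra R A]

/-- reduction of `twist` to a base change in which the automorphism is inner -/
theorem tmul_twist (K : Type*) [CommRing K] [Algebra R K] (u : A ≃ₐ[R] A)
    (α : (K ⊗[R] A)ˣ)
    (hα : ∀ x : A, (1 : K) ⊗ₜ[R] (u x) = (α : K ⊗[R] A) * ((1 : K) ⊗ₜ[R] x) *
      ((α⁻¹ : (K ⊗[R] A)ˣ) : K ⊗[R] A))
    (h : A) (hh : (1 : K) ⊗ₜ[R] h = (α : K ⊗[R] A)) (z : A ⊗[R] Aᵐᵒᵖ) :
    (1 : K) ⊗ₜ[R] (twist (u : A →ₐ[R] A) h z) =
      (α : K ⊗[R] A) * ((1 : K) ⊗ₜ[R] (AlgHom.mulLeftRight R A z 1)) := by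
  induction z using TensorProduct.induction_on with
  | zero => simp
  | tmul x y =>
    rw [twist_tmul, AlgHom.mulLeftRight_apply, mul_one]
    have h2 : (1 : K) ⊗ₜ[R] ((u : A →ₐ[R] A) x * h * y.unop) =
        ((1 : K) ⊗ₜ[R] (u x)) * ((1 : K) ⊗ₜ[R] h) * ((1 : K) ⊗ₜ[R] y.unop) := by
      simp [Algebra.TensorProduct.tmul_mul_tmul]
    have h3 : (1 : K) ⊗ₜ[R] (x * y.unop) =
        ((1 : K) ⊗ₜ[R] x) * ((1 : K) ⊗ₜ[R] y.unop) := by
      simp [Algebra.TensorProduct.tmul_mul_tmul]
    rw [h2, hα x, hh, h3]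
    simp only [mul_assoc, Units.inv_mul_cancel_left]
  | add z z' hz hz' =>
    rw [map_add, TensorProduct.tmul_add, hz, hz', map_add, LinearMap.add_apply,
      TensorProduct.tmul_add, mul_add]

/-- common denominators in the fibre over a prime -/
theorem exists_smul_eq_one_tmul (p : Ideal R) [p.IsPrime] (y : p.ResidueField ⊗[R] A) :
    ∃ s : R, s ∉ p ∧ ∃ a : A, (algebraMap R p.ResidueField s) • y = (1 : p.ResidueField) ⊗ₜ[R] a := by
  induction y using TensorProduct.induction_on with
  | zero => exact ⟨1, fun h => (Ideal.ne_top_iff_one p).mp Ideal.IsPrime.ne_top' h, 0, by simp⟩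
  | tmul c a =>
    obtain ⟨c', rfl⟩ := IsLocalRing.residue_surjective c
    obtain ⟨⟨r, s⟩, hrs⟩ := IsLocalization.surj p.primeCompl c'
    refine ⟨s, s.2, r • a, ?_⟩
    rw [TensorProduct.smul_tmul', smul_eq_mul, TensorProduct.tmul_smul, TensorProduct.smul_tmul',
      Algebra.smul_def, mul_one]
    congr 1
    have := congrArg (IsLocalRing.residue (Localization.AtPrime p)) hrs
    rw [map_mul] at this
    rw [mul_comm]
    exact this
  | add y y' hy hy' =>
    obtain ⟨s, hs, a, ha⟩ := hy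
    obtain ⟨s', hs', a', ha'⟩ := hy'
    refine ⟨s * s', fun h => (Ideal.IsPrime.mem_or_mem inferInstance h).elim hs hs',
      s' • a + s • a', ?_⟩
    have key : ∀ (t : R) (b : A), algebraMap R p.ResidueField t • ((1 : p.ResidueField) ⊗ₜ[R] b) =
        (1 : p.ResidueField) ⊗ₜ[R] (t • b) := by
      intro t b
      rw [TensorProduct.smul_tmul', Algebra.algebraMap_eq_smul_one, smul_assoc, one_smul,
        TensorProduct.smul_tmul]
    rw [smul_add, map_mul, mul_smul, mul_smul, ha', smul_comm, ha, key, key, TensorProduct.tmul_add]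

end locallyInner

section locallyInner2

variable (R : Type*) [CommRing R] (A : Type*) [Ring A] [Algebra R A] [IsAzumaya R A]

/-- an intertwiner for `φ` which is a unit in the fibre at `p` -/
theorem exists_intertwiner_fibre_unit (φ : A ≃ₐ[R] A) (p : Ideal R) [p.IsPrime] :
    ∃ g : A, (∀ a : A, φ a * g = g * a) ∧ IsUnit ((1 : p.ResidueField) ⊗ₜ[R] g) := by
  have hAz : IsAzumaya p.ResidueField (p.ResidueField ⊗[R] A) :=
    isAzumaya_baseChange R p.ResidueField A
  have hc := isCentral_of_isAzumaya p.ResidueField (p.ResidueField ⊗[R] A)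
  have hs := isSimpleRing_of_isAzumaya p.ResidueField (p.ResidueField ⊗[R] A)
  let φ' : (p.ResidueField ⊗[R] A) ≃ₐ[p.ResidueField] (p.ResidueField ⊗[R] A) :=
    Algebra.TensorProduct.congr AlgEquiv.refl φ
  obtain ⟨α, hα⟩ := Groth.Agent.Lib.Helper15.CSA.exists_unit_conj_of_algEquiv φ'
  obtain ⟨s, hs, h, hh⟩ := exists_smul_eq_one_tmul R A p (α : p.ResidueField ⊗[R] A)
  have hs0 : algebraMap R p.ResidueField s ≠ 0 := by
    rwa [Ne, Ideal.algebraMap_residueField_eq_zero]
  let α' : (p.ResidueField ⊗[R] A)ˣ :=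
    ⟨algebraMap R p.ResidueField s • (α : p.ResidueField ⊗[R] A),
     (algebraMap R p.ResidueField s)⁻¹ • ((α⁻¹ : (p.ResidueField ⊗[R] A)ˣ) : p.ResidueField ⊗[R] A),
     by rw [smul_mul_assoc, mul_smul_comm, smul_smul, mul_inv_cancel₀ hs0, one_smul, Units.mul_inv],
     by rw [smul_mul_assoc, mul_smul_comm, smul_smul, inv_mul_cancel₀ hs0, one_smul, Units.inv_mul]⟩
  have hα' : ∀ x : A, (1 : p.ResidueField) ⊗ₜ[R] (φ x) =
      (α' : p.ResidueField ⊗[R] A) * ((1 : p.ResidueField) ⊗ₜ[R] x) *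
        ((α'⁻¹ : (p.ResidueField ⊗[R] A)ˣ) : p.ResidueField ⊗[R] A) := by
    intro x
    have h1 : (1 : p.ResidueField) ⊗ₜ[R] (φ x) = φ' ((1 : p.ResidueField) ⊗ₜ[R] x) := by
      simp [φ']
    rw [h1, hα]
    change _ = (algebraMap R p.ResidueField s • (α : p.ResidueField ⊗[R] A)) * _ *
      ((algebraMap R p.ResidueField s)⁻¹ • ((α⁻¹ : (p.ResidueField ⊗[R] A)ˣ) : p.ResidueField ⊗[R] A))
    rw [smul_mul_assoc, smul_mul_assoc, mul_smul_comm, smul_smul, mul_inv_cancel₀ hs0, one_smul]
  obtain ⟨e, he1, he2⟩ := exists_sepElement (R := R) (A := A)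
  refine ⟨twist (φ : A →ₐ[R] A) h e, fun a => ?_, ?_⟩
  · have := twist_mul_left (φ : A →ₐ[R] A) h a e
    rw [he1, twist_mul_right] at this
    exact this.symm
  · rw [tmul_twist R A p.ResidueField φ α' hα' h hh.symm e, he2, ← Algebra.TensorProduct.one_def,
      mul_one]
    exact α'.isUnit

end locallyInner2

section locallyInner3

variable (R : Type*) [CommRing R] (A : Type*) [Ring A] [Algebra R A] [IsAzumaya R A]

theorem exists_locally_inner (φ : A ≃ₐ[R] A) (p : Ideal R) [p.IsPrime] :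
    ∃ (f : R) (_ : f ∉ p) (u : (Localization.Away f ⊗[R] A)ˣ),
      ∀ a : Localization.Away f ⊗[R] A,
        Algebra.TensorProduct.map (AlgHom.id (Localization.Away f) (Localization.Away f))
            (φ : A →ₐ[R] A) a =
          (u : Localization.Away f ⊗[R] A) * a * (u⁻¹ : (Localization.Away f ⊗[R] A)ˣ) := by
  obtain ⟨g, hg, hgu⟩ := exists_intertwiner_fibre_unit R A φ p
  obtain ⟨g', hg', hgu'⟩ := exists_intertwiner_fibre_unit R A φ.symm p
  have hcen := isCentral_of_isAzumaya_ring R A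
  -- `g' g` and `g g'` are central
  have hc1 : ∀ a : A, a * (g' * g) = (g' * g) * a := by
    intro a
    have h1 := hg' (φ a)
    rw [AlgEquiv.symm_apply_apply] at h1
    rw [mul_assoc, ← hg a, ← mul_assoc, ← mul_assoc, h1]
  have hc2 : ∀ a : A, a * (g * g') = (g * g') * a := by
    intro a
    have h1 := hg (φ.symm a)
    rw [AlgEquiv.apply_symm_apply] at h1
    rw [mul_assoc, ← hg' a, ← mul_assoc, ← mul_assoc, h1]
  obtain ⟨r, hr⟩ := hcen.out (Subalgebra.mem_center_iff.mpr hc1)
  obtain ⟨r', hr'⟩ := hcen.out (Subalgebra.mem_center_iff.mpr hc2)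
  have hr1 : algebraMap R A r = g' * g := hr
  have hr1' : algebraMap R A r' = g * g' := hr'
  have hAz : IsAzumaya p.ResidueField (p.ResidueField ⊗[R] A) :=
    isAzumaya_baseChange R p.ResidueField A
  have hsr := isSimpleRing_of_isAzumaya p.ResidueField (p.ResidueField ⊗[R] A)
  have hnt : Nontrivial (p.ResidueField ⊗[R] A) := inferInstance
  have hnotmem : ∀ (t : R) (x : A), algebraMap R A t = x →
      IsUnit ((1 : p.ResidueField) ⊗ₜ[R] x) → t ∉ p := by
    intro t x htx hx htp
    rw [← htx, Algebra.algebraMap_eq_smul_one, ← TensorProduct.smul_tmul,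
      ← Algebra.algebraMap_eq_smul_one,
      Ideal.algebraMap_residueField_eq_zero.mpr htp, TensorProduct.zero_tmul] at hx
    exact not_isUnit_zero hx
  have hrp : r ∉ p := by
    apply hnotmem r _ hr1
    have : (1 : p.ResidueField) ⊗ₜ[R] (g' * g) =
        ((1 : p.ResidueField) ⊗ₜ[R] g') * ((1 : p.ResidueField) ⊗ₜ[R] g) := by
      simp [Algebra.TensorProduct.tmul_mul_tmul]
    rw [this]
    exact hgu'.mul hgu
  have hrp' : r' ∉ p := by
    apply hnotmem r' _ hr1'
    have : (1 : p.ResidueField) ⊗ₜ[R] (g * g') =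
        ((1 : p.ResidueField) ⊗ₜ[R] g) * ((1 : p.ResidueField) ⊗ₜ[R] g') := by
      simp [Algebra.TensorProduct.tmul_mul_tmul]
    rw [this]
    exact hgu.mul hgu'
  refine ⟨r * r', fun h => (Ideal.IsPrime.mem_or_mem inferInstance h).elim hrp hrp', ?_⟩
  -- `r` and `r'` are units in the localization
  have hfu : IsUnit (algebraMap R (Localization.Away (r * r')) (r * r')) :=
    IsLocalization.Away.algebraMap_isUnit (r * r')
  rw [map_mul] at hfu
  obtain ⟨ρ, hρ⟩ := isUnit_of_mul_isUnit_left hfu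
  obtain ⟨ρ', hρ'⟩ := isUnit_of_mul_isUnit_right hfu
  have hleft : (((ρ⁻¹ : (Localization.Away (r * r'))ˣ) : Localization.Away (r * r')) ⊗ₜ[R] g') *
      ((1 : Localization.Away (r * r')) ⊗ₜ[R] g) = 1 := by
    rw [Algebra.TensorProduct.tmul_mul_tmul, mul_one, ← hr1, Algebra.algebraMap_eq_smul_one,
      ← TensorProduct.smul_tmul, Algebra.smul_def, ← hρ, Units.mul_inv,
      Algebra.TensorProduct.one_def]
  have hright : ((1 : Localization.Away (r * r')) ⊗ₜ[R] g) *
      (((ρ'⁻¹ : (Localization.Away (r * r'))ˣ) : Localization.Away (r * r')) ⊗ₜ[R] g') = 1 := by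
    rw [Algebra.TensorProduct.tmul_mul_tmul, one_mul, ← hr1', Algebra.algebraMap_eq_smul_one,
      ← TensorProduct.smul_tmul, Algebra.smul_def, ← hρ', Units.mul_inv,
      Algebra.TensorProduct.one_def]
  have hlr : (((ρ⁻¹ : (Localization.Away (r * r'))ˣ) : Localization.Away (r * r')) ⊗ₜ[R] g') =
      (((ρ'⁻¹ : (Localization.Away (r * r'))ˣ) : Localization.Away (r * r')) ⊗ₜ[R] g') := by
    calc _ = (((ρ⁻¹ : (Localization.Away (r * r'))ˣ) : Localization.Away (r * r')) ⊗ₜ[R] g') *
          (((1 : Localization.Away (r * r')) ⊗ₜ[R] g) *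
          (((ρ'⁻¹ : (Localization.Away (r * r'))ˣ) : Localization.Away (r * r')) ⊗ₜ[R] g')) := by
            rw [hright, mul_one]
      _ = _ := by rw [← mul_assoc, hleft, one_mul]
  let u : (Localization.Away (r * r') ⊗[R] A)ˣ :=
    ⟨(1 : Localization.Away (r * r')) ⊗ₜ[R] g,
      ((ρ'⁻¹ : (Localization.Away (r * r'))ˣ) : Localization.Away (r * r')) ⊗ₜ[R] g',
      hright, by rw [← hlr]; exact hleft⟩
  refine ⟨u, fun a => ?_⟩
  have hrel : ∀ a : Localization.Away (r * r') ⊗[R] A,
      Algebra.TensorProduct.map (AlgHom.id (Localization.Away (r * r')) (Localization.Away (r * r')))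
            (φ : A →ₐ[R] A) a * (u : Localization.Away (r * r') ⊗[R] A) =
        (u : Localization.Away (r * r') ⊗[R] A) * a := by
    intro a
    induction a using TensorProduct.induction_on with
    | zero => simp
    | tmul c x =>
      change Algebra.TensorProduct.map _ _ (c ⊗ₜ[R] x) * ((1 : Localization.Away (r * r')) ⊗ₜ[R] g) =
        ((1 : Localization.Away (r * r')) ⊗ₜ[R] g) * (c ⊗ₜ[R] x)
      rw [Algebra.TensorProduct.map_tmul, Algebra.TensorProduct.tmul_mul_tmul,
        Algebra.TensorProduct.tmul_mul_tmul, AlgHom.coe_id, id_eq, mul_one, one_mul]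
      congr 1
      exact hg x
    | add a b ha hb => rw [map_add, add_mul, ha, hb, mul_add]
  rw [← hrel a, mul_assoc, Units.mul_inv, mul_one]

end locallyInner3

end Groth.Agent.Lib.Helper15.Azumaya
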