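import Mathlib
import Groth.Agent.Lib.Helper15.AzumayaInner
import Groth.Prelude.Def_AzInv
import Groth.Prelude.Def_W4c2azumayainvolQEt

/-!
# Automorphisms of Azumaya algebras over a ring with involution are inner locally on the
fixed ring (helper15)
-/

set_option autoImplicit false
universe u v w u'
open scoped TensorProduct

namespace Groth.Agent.Lib.Helper15.AzInvInner

open Groth.Agent.Lib.Helper15.Azumaya

section twoPrimes

variable (R : Type*) [CommRing R] (A : Type*) [Ring A] [Algebra R A]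

lemma one_tmul_smul (p : Ideal R) [p.IsPrime] (r : R) (a : A) :
    (1 : p.ResidueField) ⊗ₜ[R] (r • a) =
      algebraMap R p.ResidueField r • ((1 : p.ResidueField) ⊗ₜ[R] a) := by
  rw [TensorProduct.smul_tmul', Algebra.algebraMap_eq_smul_one, smul_assoc, one_smul,
    TensorProduct.smul_tmul]

lemma isUnit_smul_of_ne_zero (p : Ideal R) [p.IsPrime] (c : p.ResidueField) (hc : c ≠ 0)
    (x : p.ResidueField ⊗[R] A) (hx : IsUnit x) : IsUnit (c • x) := by
  rw [Algebra.smul_def]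
  exact ((IsUnit.mk0 c hc).map (algebraMap p.ResidueField (p.ResidueField ⊗[R] A))).mul hx

variable [IsAzumaya R A]

/-- an intertwiner which is a unit in the fibres at two primes -/
theorem exists_intertwiner_two (φ : A ≃ₐ[R] A) (p q : Ideal R) [p.IsPrime] [q.IsPrime]
    (h : p = q ∨ (¬ p ≤ q ∧ ¬ q ≤ p)) :
    ∃ g : A, (∀ a : A, φ a * g = g * a) ∧ IsUnit ((1 : p.ResidueField) ⊗ₜ[R] g) ∧
      IsUnit ((1 : q.ResidueField) ⊗ₜ[R] g) := by
  obtain ⟨g₁, hg₁, hu₁⟩ := exists_intertwiner_fibre_unit R A φ p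
  obtain ⟨g₂, hg₂, hu₂⟩ := exists_intertwiner_fibre_unit R A φ q
  rcases h with h | ⟨h1, h2⟩
  · subst h
    exact ⟨g₁, hg₁, hu₁, hu₁⟩
  · obtain ⟨r₁, hr₁q, hr₁p⟩ := SetLike.not_le_iff_exists.mp h2
    obtain ⟨r₂, hr₂p, hr₂q⟩ := SetLike.not_le_iff_exists.mp h1
    refine ⟨r₁ • g₁ + r₂ • g₂, fun a => ?_, ?_, ?_⟩
    · rw [mul_add, add_mul, mul_smul_comm, mul_smul_comm, smul_mul_assoc, smul_mul_assoc,
        hg₁, hg₂]
    · rw [TensorProduct.tmul_add, one_tmul_smul, one_tmul_smul,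
        Ideal.algebraMap_residueField_eq_zero.mpr hr₂p, zero_smul, add_zero]
      apply isUnit_smul_of_ne_zero R A p _ _ _ hu₁
      rwa [Ne, Ideal.algebraMap_residueField_eq_zero]
    · rw [TensorProduct.tmul_add, one_tmul_smul, one_tmul_smul,
        Ideal.algebraMap_residueField_eq_zero.mpr hr₁q, zero_smul, zero_add]
      apply isUnit_smul_of_ne_zero R A q _ _ _ hu₂
      rwa [Ne, Ideal.algebraMap_residueField_eq_zero]

/-- a central element which is a unit in the fibre at `p` comes from outside `p` -/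
theorem notMem_of_isUnit_fibre (p : Ideal R) [p.IsPrime] (t : R) (x : A)
    (htx : algebraMap R A t = x) (hx : IsUnit ((1 : p.ResidueField) ⊗ₜ[R] x)) : t ∉ p := by
  intro htp
  have hAz : IsAzumaya p.ResidueField (p.ResidueField ⊗[R] A) :=
    isAzumaya_baseChange R p.ResidueField A
  have hsr := isSimpleRing_of_isAzumaya p.ResidueField (p.ResidueField ⊗[R] A)
  have hnt : Nontrivial (p.ResidueField ⊗[R] A) := inferInstance
  rw [← htx, Algebra.algebraMap_eq_smul_one, ← TensorProduct.smul_tmul,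
    ← Algebra.algebraMap_eq_smul_one,
    Ideal.algebraMap_residueField_eq_zero.mpr htp, TensorProduct.zero_tmul] at hx
  exact not_isUnit_zero hx

/-- products of intertwiners for `φ` and `φ⁻¹` are central -/
theorem exists_central_of_intertwiners (φ : A ≃ₐ[R] A) (g g' : A)
    (hg : ∀ a : A, φ a * g = g * a) (hg' : ∀ a : A, φ.symm a * g' = g' * a) :
    ∃ r r' : R, algebraMap R A r = g' * g ∧ algebraMap R A r' = g * g' := by
  have hcen := isCentral_of_isAzumaya_ring R A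
  have hc1 : ∀ a : A, a * (g' * g) = (g' * g) * a := by
    intro a
    have h1 := hg' (φ a)
    rw [AlgEquiv.symm_apply_apply] at h1
    rw [mul_assoc, ← hg a, ← mul_assoc, ← mul_assoc, h1]
  have hc2 : ∀ a : A, a * (g * g') = (g * g') * a := by
    intro a
    have h1 := hg (φ.symm a)
    rw [AlgEquiv.apply_symm_apply] at h1
    rw [mul_assoc, ← hg' a, ← mul_assoc, ← mul_assoc, h1]
  obtain ⟨r, hr⟩ := hcen.out (Subalgebra.mem_center_iff.mpr hc1)
  obtain ⟨r', hr'⟩ := hcen.out (Subalgebra.mem_center_iff.mpr hc2)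
  exact ⟨r, r', hr, hr'⟩

end twoPrimes



section unitData

variable {S : Type*} {R : Type*} [CommRing S] [CommRing R] [Algebra S R]
  {A : Type*} [Ring A] [Algebra S A] [Algebra R A] [IsScalarTower S R A]

/-- a unit `τ ⊗ g` of `T ⊗ A` built from an intertwiner `g`, conjugation by which is `id ⊗ ψ` -/
theorem exists_unit_of_inverses (T : Type*) [CommRing T] [Algebra S T] (ψ : A ≃ₐ[R] A)
    (g : A) (hg : ∀ a : A, ψ a * g = g * a) (τ : T) (L Rt : T ⊗[S] A)
    (hL : L * (τ ⊗ₜ[S] g) = 1) (hR : (τ ⊗ₜ[S] g) * Rt = 1) :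
    ∃ u : (T ⊗[S] A)ˣ, (u : T ⊗[S] A) = τ ⊗ₜ[S] g ∧ ((u⁻¹ : (T ⊗[S] A)ˣ) : T ⊗[S] A) = L ∧
      ∀ x : T ⊗[S] A,
        Algebra.TensorProduct.congr (AlgEquiv.refl : T ≃ₐ[T] T) (ψ.restrictScalars S) x =
          ↑u * x * ↑u⁻¹ := by
  have hLR : L = Rt := by
    calc L = L * ((τ ⊗ₜ[S] g) * Rt) := by rw [hR, mul_one]
      _ = Rt := by rw [← mul_assoc, hL, one_mul]
  let u : (T ⊗[S] A)ˣ := ⟨τ ⊗ₜ[S] g, L, by rw [hLR]; exact hR, hL⟩
  refine ⟨u, rfl, rfl, fun x => ?_⟩
  have hrel : ∀ a : T ⊗[S] A,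
      Algebra.TensorProduct.congr (AlgEquiv.refl : T ≃ₐ[T] T) (ψ.restrictScalars S) a *
        (u : T ⊗[S] A) = (u : T ⊗[S] A) * a := by
    intro a
    induction a using TensorProduct.induction_on with
    | zero => simp
    | tmul c x =>
      change Algebra.TensorProduct.congr _ _ (c ⊗ₜ[S] x) * (τ ⊗ₜ[S] g) = (τ ⊗ₜ[S] g) * (c ⊗ₜ[S] x)
      rw [Algebra.TensorProduct.congr_apply, Algebra.TensorProduct.map_tmul,
        Algebra.TensorProduct.tmul_mul_tmul, Algebra.TensorProduct.tmul_mul_tmul]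
      congr 1
      · exact mul_comm _ _
      · exact hg x
    | add a b ha hb => rw [map_add, add_mul, ha, hb, mul_add]
  rw [← hrel x, mul_assoc, Units.mul_inv, mul_one]

/-- `c ⊗ (algebraMap s)` -/
lemma tmul_algebraMap (T : Type*) [CommRing T] [Algebra S T] (c : T) (s : S) :
    c ⊗ₜ[S] (algebraMap S A s) = (algebraMap S T s * c) ⊗ₜ[S] (1 : A) := by
  rw [Algebra.algebraMap_eq_smul_one, ← TensorProduct.smul_tmul, Algebra.smul_def]

/-- the inner case: left and right inverses of `g` up to a scalar of `S` that becomes a unit -/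
theorem exists_unit_of_data (T : Type*) [CommRing T] [Algebra S T] (ψ : A ≃ₐ[R] A)
    (g gl gr : A) (f : S) (hg : ∀ a : A, ψ a * g = g * a)
    (hl : gl * g = algebraMap S A f) (hr : g * gr = algebraMap S A f)
    (hf : IsUnit (algebraMap S T f)) :
    ∃ u : (T ⊗[S] A)ˣ, ∀ x : T ⊗[S] A,
        Algebra.TensorProduct.congr (AlgEquiv.refl : T ≃ₐ[T] T) (ψ.restrictScalars S) x =
          ↑u * x * ↑u⁻¹ := by
  obtain ⟨φf, hφf⟩ := hf
  obtain ⟨u, -, -, hu⟩ := exists_unit_of_inverses T ψ g hg 1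
    (((φf⁻¹ : Tˣ) : T) ⊗ₜ[S] gl) (((φf⁻¹ : Tˣ) : T) ⊗ₜ[S] gr)
    (by rw [Algebra.TensorProduct.tmul_mul_tmul, hl, tmul_algebraMap, mul_one, ← hφf,
          Units.mul_inv, Algebra.TensorProduct.one_def])
    (by rw [Algebra.TensorProduct.tmul_mul_tmul, hr, tmul_algebraMap, one_mul, ← hφf,
          Units.mul_inv, Algebra.TensorProduct.one_def])
  exact ⟨u, hu⟩

end unitData



section involution

variable {S : Type u} {R : Type v} [CommRing S] [CommRing R] [Algebra S R]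
  (lam : R ≃ₐ[S] R) (hlam : ∀ r, lam (lam r) = r) (hfix : RInv.IsFixedRing S R lam.toRingEquiv)

include hlam hfix

omit hlam in
lemma mem_range_of_fixed (x : R) (hx : lam x = x) : ∃ f : S, algebraMap S R f = x :=
  (hfix.2 x).mp hx

lemma norm_mem_range (n : R) : ∃ f : S, algebraMap S R f = n * lam n :=
  mem_range_of_fixed lam hfix _ (by rw [map_mul, hlam, mul_comm])

lemma trace_mem_range (n : R) : ∃ f : S, algebraMap S R f = n + lam n :=
  mem_range_of_fixed lam hfix _ (by rw [map_add, hlam, add_comm])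

open Polynomial in
lemma isIntegral : Algebra.IsIntegral S R := by
  refine ⟨fun r => ?_⟩
  obtain ⟨a, ha⟩ := trace_mem_range lam hlam hfix r
  obtain ⟨b, hb⟩ := norm_mem_range lam hlam hfix r
  refine ⟨X ^ 2 - C a * X + C b, ?_, ?_⟩
  · have : (X ^ 2 - C a * X + C b : S[X]) = X ^ 2 + (- C a * X + C b) := by ring
    rw [this]
    apply Polynomial.monic_X_pow_add
    rw [← C_neg]
    compute_degree!
  · simp only [eval₂_add, eval₂_sub, eval₂_mul, eval₂_pow, eval₂_X, eval₂_C, ha, hb]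
    ring

lemma exists_prime_over (𝔭 : Ideal S) [𝔭.IsPrime] :
    ∃ 𝔮 : Ideal R, 𝔮.IsPrime ∧ 𝔮.comap (algebraMap S R) = 𝔭 := by
  have := isIntegral lam hlam hfix
  obtain ⟨Q, -, hQ, hQ'⟩ := Ideal.exists_ideal_over_prime_of_isIntegral 𝔭 (⊥ : Ideal R) (by
    rw [← RingHom.ker_eq_comap_bot, (RingHom.injective_iff_ker_eq_bot _).mp hfix.1]
    exact bot_le)
  exact ⟨Q, hQ, hQ'⟩

omit hfix in
lemma comap_lam_cases (𝔮 : Ideal R) :
    𝔮 = 𝔮.comap (lam : R →+* R) ∨
      (¬ 𝔮 ≤ 𝔮.comap (lam : R →+* R) ∧ ¬ 𝔮.comap (lam : R →+* R) ≤ 𝔮) := by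
  by_cases h1 : 𝔮 ≤ 𝔮.comap (lam : R →+* R)
  · left
    apply le_antisymm h1
    intro x hx
    have h2 := h1 hx
    rw [Ideal.mem_comap] at h2
    simpa [hlam] using h2
  · right
    refine ⟨h1, fun h2 => h1 ?_⟩
    intro x hx
    rw [Ideal.mem_comap]
    apply h2
    rw [Ideal.mem_comap]
    simpa [hlam] using hx

end involution



lemma one_tmul_mul {R : Type*} [CommRing R] {A : Type*} [Ring A] [Algebra R A]
    (p : Ideal R) [p.IsPrime] (x y : A) :
    (1 : p.ResidueField) ⊗ₜ[R] (x * y) =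
      ((1 : p.ResidueField) ⊗ₜ[R] x) * ((1 : p.ResidueField) ⊗ₜ[R] y) := by
  rw [Algebra.TensorProduct.tmul_mul_tmul, one_mul]

section localInner

variable {S : Type u} {R : Type v} [CommRing S] [CommRing R] [Algebra S R]
  (lam : R ≃ₐ[S] R) (hlam : ∀ r, lam (lam r) = r) (hfix : RInv.IsFixedRing S R lam.toRingEquiv)
  {A : Type w} [Ring A] [Algebra S A] [Algebra R A] [IsScalarTower S R A] [IsAzumaya R A]

include hlam hfix

/-- Zariski-locally on `S`, an automorphism of `A` is conjugation by an element of `A` that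
becomes a unit. -/
theorem exists_local_inner (ψ : A ≃ₐ[R] A) (𝔭 : Ideal S) [𝔭.IsPrime] :
    ∃ f : S, f ∉ 𝔭 ∧ ∀ (T : Type u') [CommRing T] [Algebra S T], IsUnit (algebraMap S T f) →
      ∃ u : (T ⊗[S] A)ˣ, ∀ x : T ⊗[S] A,
        Algebra.TensorProduct.congr (AlgEquiv.refl : T ≃ₐ[T] T) (ψ.restrictScalars S) x =
          ↑u * x * ↑u⁻¹ := by
  obtain ⟨𝔮, h𝔮, h𝔮𝔭⟩ := exists_prime_over lam hlam hfix 𝔭
  have hcases := comap_lam_cases lam hlam 𝔮
  obtain ⟨g, hg, hgu, hgu'⟩ := exists_intertwiner_two R A ψ 𝔮 (𝔮.comap (lam : R →+* R)) hcases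
  obtain ⟨g', hg', hgu2, hgu2'⟩ :=
    exists_intertwiner_two R A ψ.symm 𝔮 (𝔮.comap (lam : R →+* R)) hcases
  obtain ⟨r, r', hr, hr'⟩ := exists_central_of_intertwiners R A ψ g g' hg hg'
  have hr1 : r ∉ 𝔮 := notMem_of_isUnit_fibre R A 𝔮 r _ hr (by
    rw [one_tmul_mul]; exact hgu2.mul hgu)
  have hr2 : r ∉ 𝔮.comap (lam : R →+* R) := notMem_of_isUnit_fibre R A _ r _ hr (by
    rw [one_tmul_mul]; exact hgu2'.mul hgu')
  have hr1' : r' ∉ 𝔮 := notMem_of_isUnit_fibre R A 𝔮 r' _ hr' (by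
    rw [one_tmul_mul]; exact hgu.mul hgu2)
  have hr2' : r' ∉ 𝔮.comap (lam : R →+* R) := notMem_of_isUnit_fibre R A _ r' _ hr' (by
    rw [one_tmul_mul]; exact hgu'.mul hgu2')
  have hn1 : r * r' ∉ 𝔮 := fun h => (h𝔮.mem_or_mem h).elim hr1 hr1'
  have hn2 : lam (r * r') ∉ 𝔮 := by
    intro h
    have h' : r * r' ∈ 𝔮.comap (lam : R →+* R) := h
    exact (Ideal.IsPrime.mem_or_mem inferInstance h').elim hr2 hr2'
  obtain ⟨f, hf⟩ := norm_mem_range lam hlam hfix (r * r')
  refine ⟨f, ?_, ?_⟩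
  · intro hfp
    rw [← h𝔮𝔭, Ideal.mem_comap, hf] at hfp
    exact (h𝔮.mem_or_mem hfp).elim hn1 hn2
  · intro T _ _ hfT
    have hfA : algebraMap S A f = algebraMap R A (r * r' * lam (r * r')) := by
      rw [IsScalarTower.algebraMap_apply S R A, hf]
    apply exists_unit_of_data T ψ g ((r' * lam (r * r')) • g') ((r * lam (r * r')) • g') f hg
      ?_ ?_ hfT
    · rw [smul_mul_assoc, ← hr, hfA, Algebra.smul_def, ← map_mul]
      congr 1
      ring
    · rw [mul_smul_comm, ← hr', hfA, Algebra.smul_def, ← map_mul]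
      congr 1
      ring

end localInner



lemma flat_pi {S : Type*} [CommRing S] {ι : Type*} [Finite ι] (T : ι → Type*)
    [∀ i, AddCommGroup (T i)] [∀ i, Module S (T i)] [∀ i, Module.Flat S (T i)] :
    Module.Flat S (Π i, T i) := by
  classical
  haveI := Fintype.ofFinite ι
  exact Module.Flat.of_linearEquiv (DFinsupp.linearEquivFunOnFintype (R := S) (M := T)).symm

/-- Gluing étale-local data over a finite Zariski cover into one étale faithfully flat algebra. -/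
theorem exists_cover (S : Type u) [CommRing S]
    (Q : ∀ (T : Type u) [CommRing T] [Algebra S T], Prop)
    (hloc : ∀ p : PrimeSpectrum S, ∃ (f : S) (_ : f ∉ p.asIdeal) (T : Type u) (_ : CommRing T)
      (_ : Algebra S T) (_ : Algebra.Etale S T) (_ : Module.Flat S T),
      (∀ m : Ideal S, m.IsMaximal → f ∉ m → m • (⊤ : Submodule S T) ≠ ⊤) ∧ Q T)
    (hprod : ∀ (ι : Type u) [Finite ι] (T : ι → Type u) [∀ i, CommRing (T i)]
      [∀ i, Algebra S (T i)], (∀ i, Q (T i)) → Q (Π i, T i)) :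
    ∃ (S' : Type u) (_ : CommRing S') (_ : Algebra S S') (_ : Algebra.Etale S S')
      (_ : Module.FaithfullyFlat S S'), Q S' := by
  classical
  choose f hf T iR iA iE iF hmax hQ using hloc
  have hspan : Ideal.span (Set.range f) = ⊤ := by
    by_contra hne
    obtain ⟨m, hm, hle⟩ := Ideal.exists_le_maximal _ hne
    exact hf ⟨m, hm.isPrime⟩ (hle (Ideal.subset_span ⟨_, rfl⟩))
  have h1 : (1 : S) ∈ Ideal.span (Set.range f) := by rw [hspan]; trivial
  rw [Ideal.span, Finsupp.mem_span_range_iff_exists_finsupp] at h1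
  obtain ⟨c, hc⟩ := h1
  let F : Finset (PrimeSpectrum S) := c.support
  have hcov : ∀ m : Ideal S, m.IsMaximal → ∃ i : F, f i.1 ∉ m := by
    intro m hm
    by_contra hcon
    push Not at hcon
    have : (1 : S) ∈ m := by
      rw [← hc]
      apply Ideal.sum_mem
      intro i hi
      exact Ideal.mul_mem_left _ _ (hcon ⟨i, hi⟩)
    exact hm.ne_top ((Ideal.eq_top_iff_one _).mpr this)
  letI : ∀ i : F, CommRing (T i.1) := fun i => iR i.1
  letI : ∀ i : F, Algebra S (T i.1) := fun i => iA i.1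
  haveI : ∀ i : F, Algebra.Etale S (T i.1) := fun i => iE i.1
  haveI : ∀ i : F, Module.Flat S (T i.1) := fun i => iF i.1
  haveI : Module.Flat S (Π i : F, T i.1) := flat_pi (fun i : F => T i.1)
  refine ⟨Π i : F, T i.1, inferInstance, inferInstance, inferInstance, ?_,
    hprod F (fun i => T i.1) (fun i => hQ i.1)⟩
  refine ⟨fun m hm htop => ?_⟩
  obtain ⟨i, hi⟩ := hcov m hm
  apply hmax i.1 m hm hi
  have h2 := congrArg (Submodule.map (LinearMap.proj (R := S) (φ := fun i : F => T i.1) i)) htop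
  rw [Submodule.map_smul'', Submodule.map_top, LinearMap.range_eq_top.mpr
    (LinearMap.proj_surjective i)] at h2
  exact h2



section prod

variable {S : Type*} [CommRing S] {A : Type*} [Ring A] [Algebra S A]
  {ι : Type*} [Fintype ι] [DecidableEq ι] (T : ι → Type*) [∀ i, CommRing (T i)]
  [∀ i, Algebra S (T i)]

/-- `(Π Tᵢ) ⊗ A ≃ Π (Tᵢ ⊗ A)` -/
noncomputable def piTensor : (Π i, T i) ⊗[S] A ≃ₐ[S] Π i, (T i ⊗[S] A) :=
  (Algebra.TensorProduct.comm S (Π i, T i) A).trans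
    ((Algebra.TensorProduct.piRight S S A T).trans
      (AlgEquiv.piCongrRight fun i => Algebra.TensorProduct.comm S A (T i)))

lemma piTensor_tmul (c : Π i, T i) (a : A) (i : ι) :
    piTensor (S := S) (A := A) T (c ⊗ₜ a) i = c i ⊗ₜ a := rfl

lemma piTensor_congr (ψ : A ≃ₐ[S] A) (x : (Π i, T i) ⊗[S] A) (i : ι) :
    piTensor T (Algebra.TensorProduct.congr
      (AlgEquiv.refl : (Π i, T i) ≃ₐ[Π i, T i] (Π i, T i)) ψ x) i =
      Algebra.TensorProduct.congr (AlgEquiv.refl : T i ≃ₐ[T i] T i) ψ (piTensor T x i) := by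
  induction x using TensorProduct.induction_on with
  | zero => simp
  | tmul c a =>
    rw [Algebra.TensorProduct.congr_apply, Algebra.TensorProduct.map_tmul, piTensor_tmul,
      piTensor_tmul, Algebra.TensorProduct.congr_apply, Algebra.TensorProduct.map_tmul]
    rfl
  | add x y hx hy => simp only [map_add, Pi.add_apply, hx, hy]

lemma piTensor_baseChange (τ : A →ₗ[S] A) (x : (Π i, T i) ⊗[S] A) (i : ι) :
    piTensor T (τ.baseChange (Π i, T i) x) i = τ.baseChange (T i) (piTensor T x i) := by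
  induction x using TensorProduct.induction_on with
  | zero => simp
  | tmul c a =>
    rw [LinearMap.baseChange_tmul, piTensor_tmul, piTensor_tmul, LinearMap.baseChange_tmul]
  | add x y hx hy => simp only [map_add, Pi.add_apply, hx, hy]

/-- units of the factors give a unit of the product -/
theorem exists_unit_pi (u : ∀ i, (T i ⊗[S] A)ˣ) :
    ∃ w : ((Π i, T i) ⊗[S] A)ˣ, (∀ i, piTensor T (w : (Π i, T i) ⊗[S] A) i = u i) ∧
      ∀ i, piTensor T ((w⁻¹ : ((Π i, T i) ⊗[S] A)ˣ) : (Π i, T i) ⊗[S] A) i = ((u i)⁻¹ : (T i ⊗[S] A)ˣ) := by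
  refine ⟨⟨(piTensor T).symm (fun i => (u i : T i ⊗[S] A)),
    (piTensor T).symm (fun i => (((u i)⁻¹ : (T i ⊗[S] A)ˣ) : T i ⊗[S] A)), ?_, ?_⟩, ?_, ?_⟩
  · rw [← map_mul, ← map_one (piTensor (S := S) (A := A) T).symm]
    congr 1
    funext i
    simp
  · rw [← map_mul, ← map_one (piTensor (S := S) (A := A) T).symm]
    congr 1
    funext i
    simp
  · intro i
    simp
  · intro i
    simp

theorem prod_inner (ψ : A ≃ₐ[S] A)
    (h : ∀ i, ∃ u : (T i ⊗[S] A)ˣ, ∀ x : T i ⊗[S] A,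
      Algebra.TensorProduct.congr (AlgEquiv.refl : T i ≃ₐ[T i] T i) ψ x = ↑u * x * ↑u⁻¹) :
    ∃ u : ((Π i, T i) ⊗[S] A)ˣ, ∀ x : (Π i, T i) ⊗[S] A,
      Algebra.TensorProduct.congr (AlgEquiv.refl : (Π i, T i) ≃ₐ[Π i, T i] (Π i, T i)) ψ x =
        ↑u * x * ↑u⁻¹ := by
  choose u hu using h
  obtain ⟨w, hw, hw'⟩ := exists_unit_pi T u
  refine ⟨w, fun x => ?_⟩
  apply (piTensor (S := S) (A := A) T).injective
  funext i
  rw [piTensor_congr, hu, map_mul, map_mul, Pi.mul_apply, Pi.mul_apply, hw, hw']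

theorem prod_unitary (ψ : A ≃ₐ[S] A) (τ : A →ₗ[S] A)
    (h : ∀ i, ∃ u : (T i ⊗[S] A)ˣ, τ.baseChange (T i) (u : T i ⊗[S] A) * ↑u = 1 ∧
      ∀ x : T i ⊗[S] A,
      Algebra.TensorProduct.congr (AlgEquiv.refl : T i ≃ₐ[T i] T i) ψ x = ↑u * x * ↑u⁻¹) :
    ∃ u : ((Π i, T i) ⊗[S] A)ˣ, τ.baseChange (Π i, T i) (u : (Π i, T i) ⊗[S] A) * ↑u = 1 ∧
      ∀ x : (Π i, T i) ⊗[S] A,
      Algebra.TensorProduct.congr (AlgEquiv.refl : (Π i, T i) ≃ₐ[Π i, T i] (Π i, T i)) ψ x =
        ↑u * x * ↑u⁻¹ := by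
  choose u hu1 hu using h
  obtain ⟨w, hw, hw'⟩ := exists_unit_pi T u
  refine ⟨w, ?_, fun x => ?_⟩
  · apply (piTensor (S := S) (A := A) T).injective
    funext i
    rw [map_mul, Pi.mul_apply, piTensor_baseChange, hw, hu1, map_one, Pi.one_apply]
  · apply (piTensor (S := S) (A := A) T).injective
    funext i
    rw [piTensor_congr, hu, map_mul, map_mul, Pi.mul_apply, Pi.mul_apply, hw, hw']

end prod

end Groth.Agent.Lib.Helper15.AzInvInner
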