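import Mathlib
import Groth.Prelude.Def_AzInv

set_option linter.style.haveILetI false
set_option autoImplicit false

open TensorProduct Matrix

namespace Groth.Agent.Lib.Helper15.AzInvType

universe u

section core

variable {K : Type*} [CommRing K]

/-- The symplectic involution on `2 × 2` matrices (the adjugate). -/
def sig (x : Matrix (Fin 2) (Fin 2) K) : Matrix (Fin 2) (Fin 2) K :=
  !![x 1 1, -x 0 1; -x 1 0, x 0 0]

/-- matrix unit `e₁₂`. -/
def e12 : Matrix (Fin 2) (Fin 2) K := !![0, 1; 0, 0]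

/-- matrix unit `e₂₁`. -/
def e21 : Matrix (Fin 2) (Fin 2) K := !![0, 0; 1, 0]

theorem sig_add (x y : Matrix (Fin 2) (Fin 2) K) : sig (x + y) = sig x + sig y := by
  ext a b; fin_cases a <;> fin_cases b <;> simp [sig] <;> ring

theorem sig_zero : sig (0 : Matrix (Fin 2) (Fin 2) K) = 0 := by
  ext a b; fin_cases a <;> fin_cases b <;> simp [sig]

theorem sq_zero_of (h2 : IsUnit (2 : K)) (x : Matrix (Fin 2) (Fin 2) K)
    (h12 : x * e12 * sig x = x * sig e12 * sig x)
    (h21 : x * e21 * sig x = x * sig e21 * sig x) :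
    ∀ a b, x a b * x a b = 0 := by
  have key : ∀ c : K, c = -c → c = 0 := by
    intro c hc
    have : (2 : K) * c = 0 := by linear_combination hc
    exact (h2.mul_right_eq_zero).1 this
  have h1 := congrFun (congrFun h12 0) 1
  have h2' := congrFun (congrFun h12 1) 0
  have h3 := congrFun (congrFun h21 0) 1
  have h4 := congrFun (congrFun h21 1) 0
  simp [Matrix.mul_apply, Fin.sum_univ_two, sig, e12] at h1 h2'
  simp [Matrix.mul_apply, Fin.sum_univ_two, sig, e21] at h3 h4
  intro a b
  fin_cases a <;> fin_cases b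
  · exact key _ (by simpa using h1)
  · have := key (x 0 1 * x 0 1) (by simpa using h3.symm)
    simpa using this
  · have := key (x 1 0 * x 1 0) (by simpa using h2'.symm)
    simpa using this
  · exact key _ (by simpa using h4)

theorem core (h2 : IsUnit (2 : K)) {n : ℕ}
    (Z : Matrix (Fin n) (Fin n) (Matrix (Fin 2) (Fin 2) K))
    (h1 : Z * Z = Z) (hsym : ∀ i j, Z j i = sig (Z i j))
    (h12 : ∀ i, Z * single i i e12 * Z = Z * single i i (sig e12) * Z)
    (h21 : ∀ i, Z * single i i e21 * Z = Z * single i i (sig e21) * Z) : Z = 0 := by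
  have hsand : ∀ (i k : Fin n) (m : Matrix (Fin 2) (Fin 2) K),
      (Z * single i i m * Z) k k = Z k i * m * Z i k := by
    intro i k m
    rw [Matrix.mul_apply]
    rw [Finset.sum_eq_single i]
    · rw [Matrix.mul_single_apply_same]
    · intro l _ hl
      rw [Matrix.mul_single_apply_of_ne _ _ _ _ _ hl, zero_mul]
    · intro h; exact absurd (Finset.mem_univ i) h
  have hsq : ∀ k i a b, Z k i a b * Z k i a b = 0 := by
    intro k i
    apply sq_zero_of h2
    · have := congrFun (congrFun (h12 i) k) k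
      rw [hsand, hsand, hsym k i] at this
      exact this
    · have := congrFun (congrFun (h21 i) k) k
      rw [hsand, hsand, hsym k i] at this
      exact this
  let g : (Fin n × Fin n) × (Fin 2 × Fin 2) → K := fun p => Z p.1.1 p.1.2 p.2.1 p.2.2
  let N : Ideal K := Ideal.span (Set.range g)
  have hmem : ∀ i j a b, Z i j a b ∈ N := fun i j a b =>
    Ideal.subset_span ⟨((i, j), (a, b)), rfl⟩
  have hNfg : N.FG := Submodule.fg_span (Set.finite_range g)
  have hNnil : N ≤ nilradical K := by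
    refine Ideal.span_le.2 ?_
    rintro _ ⟨p, rfl⟩
    exact ⟨2, by rw [pow_two]; exact hsq _ _ _ _⟩
  have hNN : N ≤ N * N := by
    refine Ideal.span_le.2 ?_
    rintro _ ⟨p, rfl⟩
    have : g p = ∑ l, ∑ c, Z p.1.1 l p.2.1 c * Z l p.1.2 c p.2.2 := by
      change Z p.1.1 p.1.2 p.2.1 p.2.2 = _
      conv_lhs => rw [← h1]
      rw [Matrix.mul_apply, Matrix.sum_apply]
      refine Finset.sum_congr rfl fun l _ => ?_
      rw [Matrix.mul_apply]
    rw [this]
    exact Ideal.sum_mem _ fun l _ => Ideal.sum_mem _ fun c _ =>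
      Ideal.mul_mem_mul (hmem _ _ _ _) (hmem _ _ _ _)
  have hN0 : N = ⊥ :=
    Submodule.eq_bot_of_le_smul_of_le_jacobson_bot N N hNfg (by rwa [smul_eq_mul])
      (hNnil.trans ((nilradical_le_jacobson K).trans Ideal.jacobson_bot.ge))
  ext i j a b
  have := hmem i j a b
  rw [hN0] at this
  simpa using this

end core


section transport

variable (R : Type u) [CommRing R] (S' : Type u) [CommRing S'] [Algebra R S']

/-- Coordinates on `S' ⊗ M_{n'}(M_2(R))`. -/
noncomputable def beta (n' : ℕ) :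
    S' ⊗[R] Matrix (Fin n') (Fin n') (Matrix (Fin 2) (Fin 2) R) ≃ₐ[R]
      Matrix (Fin n') (Fin n') (Matrix (Fin 2) (Fin 2) S') :=
  (Algebra.TensorProduct.congr (AlgEquiv.refl : S' ≃ₐ[R] S')
      (Matrix.compAlgEquiv (Fin n') (Fin 2) R R)).trans
    ((matrixEquivTensor (Fin n' × Fin 2) R S').symm.trans
      (Matrix.compAlgEquiv (Fin n') (Fin 2) S' R).symm)

theorem beta_tmul (n' : ℕ) (s : S') (X : Matrix (Fin n') (Fin n') (Matrix (Fin 2) (Fin 2) R))
    (i j : Fin n') (a b : Fin 2) :
    beta R S' n' (s ⊗ₜ X) i j a b = s * algebraMap R S' (X i j a b) := by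
  simp [beta, matrixEquivTensor_apply_symm, Matrix.comp]

/-- The symplectic-type involution on `M_{n'}(M_2(K))`. -/
def Tp {K : Type*} [CommRing K] {n' : ℕ} (X : Matrix (Fin n') (Fin n') (Matrix (Fin 2) (Fin 2) K)) :
    Matrix (Fin n') (Fin n') (Matrix (Fin 2) (Fin 2) K) :=
  Matrix.of fun i j => sig (X j i)

theorem Tp_add {K : Type*} [CommRing K] {n' : ℕ}
    (X Y : Matrix (Fin n') (Fin n') (Matrix (Fin 2) (Fin 2) K)) : Tp (X + Y) = Tp X + Tp Y := by
  ext i j : 2
  simp [Tp, sig_add]

theorem Tp_zero {K : Type*} [CommRing K] {n' : ℕ} :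
    Tp (0 : Matrix (Fin n') (Fin n') (Matrix (Fin 2) (Fin 2) K)) = 0 := by
  ext i j : 2
  simp [Tp, sig_zero]

theorem Tp_single {K : Type*} [CommRing K] {n' : ℕ} (i : Fin n') (m : Matrix (Fin 2) (Fin 2) K) :
    Tp (single i i m) = single i i (sig m) := by
  ext i' j' : 2
  simp only [Tp, Matrix.of_apply, single_apply]
  by_cases h : i = i' ∧ i = j'
  · rw [if_pos h, if_pos ⟨h.2, h.1⟩]
  · rw [if_neg h, if_neg (fun h' => h ⟨h'.2, h'.1⟩), sig_zero]


theorem beta_single (n' : ℕ) (i : Fin n') (m : Matrix (Fin 2) (Fin 2) R) :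
    beta R S' n' ((1 : S') ⊗ₜ single i i m) = single i i (m.map (algebraMap R S')) := by
  ext i' j' a b
  rw [beta_tmul, one_mul]
  by_cases h : i = i' ∧ i = j'
  · rw [single_apply, single_apply, if_pos h, if_pos h, Matrix.map_apply]
  · rw [single_apply, single_apply, if_neg h, if_neg h, Matrix.zero_apply, Matrix.zero_apply,
      map_zero]

theorem e12_map : (e12 : Matrix (Fin 2) (Fin 2) R).map (algebraMap R S') = e12 := by
  ext a b; fin_cases a <;> fin_cases b <;> simp [e12]

theorem e21_map : (e21 : Matrix (Fin 2) (Fin 2) R).map (algebraMap R S') = e21 := by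
  ext a b; fin_cases a <;> fin_cases b <;> simp [e21]

end transport

section main

open AzInv

variable (R : Type u) [CommRing R]
  (hlam : ∀ r : R, (AlgEquiv.refl : R ≃ₐ[R] R) ((AlgEquiv.refl : R ≃ₐ[R] R) r) = r)
  (J : (Matrix (Fin 2) (Fin 2) R)ˣ)
  (hJ : (↑J : Matrix (Fin 2) (Fin 2) R) = Matrix.of ![![0, -1], ![1, 0]])
  (hJt : AzInv.LamInv.transpose (AlgEquiv.refl : R ≃ₐ[R] R) (Fin 2) hlam
    (↑J : Matrix (Fin 2) (Fin 2) R) = (-1 : R) • (↑J : Matrix (Fin 2) (Fin 2) R))
  (hneg : (AlgEquiv.refl : R ≃ₐ[R] R) (-1) * (-1) = 1)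

include hJ in
theorem conj_eq_sig (x : Matrix (Fin 2) (Fin 2) R) :
    (AzInv.LamInv.transpose (AlgEquiv.refl : R ≃ₐ[R] R) (Fin 2) hlam).conj J (-1) hJt hneg x
      = sig x := by
  have hinv : (↑J⁻¹ : Matrix (Fin 2) (Fin 2) R) = !![0, 1; -1, 0] := by
    apply Units.inv_eq_of_mul_eq_one_right
    rw [hJ]
    ext a b; fin_cases a <;> fin_cases b <;> simp [Matrix.mul_apply, Fin.sum_univ_two]
  rw [AzInv.LamInv.conj_apply, hinv, hJ]
  have hT : ∀ i j, (AzInv.LamInv.transpose (AlgEquiv.refl : R ≃ₐ[R] R) (Fin 2) hlam) x i j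
      = x j i := fun i j => by rw [AzInv.LamInv.transpose_apply]; rfl
  ext a b
  fin_cases a <;> fin_cases b <;>
    simp [Matrix.mul_apply, Fin.sum_univ_two, sig, Matrix.vecMul, dotProduct] <;>
    exact hT _ _


include hJ in
theorem main [Nontrivial R] (h2 : IsUnit (2 : R)) :
    ¬ AzInv.SameType R (AlgEquiv.refl : R ≃ₐ[R] R)
      (AzInv.LamInv.self (AlgEquiv.refl : R ≃ₐ[R] R) hlam)
      ((AzInv.LamInv.transpose (AlgEquiv.refl : R ≃ₐ[R] R) (Fin 2) hlam).conj J (-1) hJt hneg) := by
  rintro ⟨n, n', hn, hn', S', _, _, _, _, f, -, hf⟩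
  haveI : Nontrivial S' := (FaithfulSMul.algebraMap_injective R S').nontrivial
  set t := (AzInv.LamInv.self (AlgEquiv.refl : R ≃ₐ[R] R) hlam).matrix (Fin n) with ht
  set t' := ((AzInv.LamInv.transpose (AlgEquiv.refl : R ≃ₐ[R] R) (Fin 2) hlam).conj J (-1)
    hJt hneg).matrix (Fin n') with ht'
  have h2' : IsUnit (2 : S') := by
    have := h2.map (algebraMap R S')
    rwa [map_ofNat] at this
  have htapp : ∀ (M : Matrix (Fin n) (Fin n) R) (i j : Fin n), t M i j = M j i := by
    intro M i j
    rw [ht, AzInv.LamInv.matrix_apply, AzInv.LamInv.self_apply]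
    rfl
  let i0 : Fin n := ⟨0, hn⟩
  let e : S' ⊗[R] Matrix (Fin n) (Fin n) R := (1 : S') ⊗ₜ single i0 i0 (1 : R)
  have hee : e * e = e := by
    simp only [e, Algebra.TensorProduct.tmul_mul_tmul, mul_one, Matrix.single_mul_single_same]
  have het : t.bc R AlgEquiv.refl S' e = e := by
    simp only [e]
    rw [AzInv.LamInv.bc_tmul]
    congr 1
    ext i j
    rw [htapp, single_apply, single_apply]
    by_cases h : i0 = i ∧ i0 = j
    · rw [if_pos h, if_pos ⟨h.2, h.1⟩]
    · rw [if_neg h, if_neg (fun h' => h ⟨h'.2, h'.1⟩)]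
  have he : ∀ x, e * x * e = e * t.bc R AlgEquiv.refl S' x * e := by
    intro x
    induction x using TensorProduct.induction_on with
    | zero => simp
    | add x y hx hy => rw [mul_add, add_mul, hx, hy, map_add, mul_add, add_mul]
    | tmul s M =>
      rw [AzInv.LamInv.bc_tmul]
      simp only [e, Algebra.TensorProduct.tmul_mul_tmul, Matrix.single_mul_mul_single, htapp]
  -- transport to the symplectic side
  set z := f e with hz
  have hz1 : z * z = z := by rw [hz, ← map_mul, hee]
  have hzsym : t'.bc R AlgEquiv.refl S' z = z := by rw [hz, ← hf, het]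
  have hz3 : ∀ y, z * y * z = z * t'.bc R AlgEquiv.refl S' y * z := by
    intro y
    obtain ⟨x, rfl⟩ := f.surjective y
    rw [hz, ← map_mul, ← map_mul, he x, map_mul, map_mul, hf]
  -- coordinates
  have hbT : ∀ w, beta R S' n' (t'.bc R AlgEquiv.refl S' w) = Tp (beta R S' n' w) := by
    intro w
    induction w using TensorProduct.induction_on with
    | zero => simp [Tp_zero]
    | add x y hx hy => rw [map_add, map_add, hx, hy, map_add, Tp_add]
    | tmul s X =>
      rw [AzInv.LamInv.bc_tmul]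
      ext i j a b
      rw [beta_tmul]
      have h1 : t' X i j = sig (X j i) := by
        rw [ht', AzInv.LamInv.matrix_apply]
        exact conj_eq_sig R hlam J hJ hJt hneg (X j i)
      rw [h1]
      simp only [Tp, Matrix.of_apply]
      fin_cases a <;> fin_cases b <;> simp [sig, beta_tmul]
  set Z := beta R S' n' z with hZ
  have hZ1 : Z * Z = Z := by rw [hZ, ← map_mul, hz1]
  have hZT : Tp Z = Z := by rw [hZ, ← hbT, hzsym]
  have hZsym : ∀ i j, Z j i = sig (Z i j) := by
    intro i j
    conv_lhs => rw [← hZT]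
    rfl
  have hZ12 : ∀ i, Z * single i i e12 * Z = Z * single i i (sig e12) * Z := by
    intro i
    have := congrArg (beta R S' n') (hz3 ((1 : S') ⊗ₜ single i i (e12 : Matrix (Fin 2) (Fin 2) R)))
    rw [map_mul, map_mul, map_mul, map_mul, hbT, beta_single, e12_map, Tp_single] at this
    exact this
  have hZ21 : ∀ i, Z * single i i e21 * Z = Z * single i i (sig e21) * Z := by
    intro i
    have := congrArg (beta R S' n') (hz3 ((1 : S') ⊗ₜ single i i (e21 : Matrix (Fin 2) (Fin 2) R)))
    rw [map_mul, map_mul, map_mul, map_mul, hbT, beta_single, e21_map, Tp_single] at this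
    exact this
  have hZ0 : Z = 0 := core h2' Z hZ1 hZsym hZ12 hZ21
  have hz0 : z = 0 := by
    apply (beta R S' n').injective
    rw [← hZ, hZ0, map_zero]
  have he0 : e = 0 := by
    apply f.injective
    rw [← hz, hz0, map_zero]
  -- but `e ≠ 0`
  have := congrArg (matrixEquivTensor (Fin n) R S').symm he0
  simp only [e] at this
  rw [matrixEquivTensor_apply_symm, map_zero] at this
  have h00 := congrFun (congrFun this i0) i0
  simp at h00

end main


end Groth.Agent.Lib.Helper15.AzInvType
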