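import Mathlib
import Groth.Agent.Lib.Helper15.AzInvInner

/-!
# Automorphisms of Azumaya algebras with involution are unitary conjugations locally on the
fixed ring (helper15)
-/

set_option autoImplicit false
universe u v w u'
open scoped TensorProduct

namespace Groth.Agent.Lib.Helper15.AzInvUnitary


open Groth.Agent.Lib.Helper15.AzInvInner Groth.Agent.Lib.Helper15.Azumaya

section fibreZero

variable {R : Type*} [CommRing R] {A : Type*} [AddCommGroup A] [Module R A]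

lemma one_tmul_eq_zero_of_mem_smul_top (p : Ideal R) [p.IsPrime] (x : A)
    (hx : x ∈ p • (⊤ : Submodule R A)) : (1 : p.ResidueField) ⊗ₜ[R] x = 0 := by
  refine Submodule.smul_induction_on hx (fun r hr a _ => ?_) (fun x y hx hy => ?_)
  · rw [← TensorProduct.smul_tmul, Algebra.smul_def, mul_one,
      Ideal.algebraMap_residueField_eq_zero.mpr hr, TensorProduct.zero_tmul]
  · rw [TensorProduct.tmul_add, hx, hy, add_zero]

lemma mem_smul_top_of_one_tmul_eq_zero [Module.Projective R A] (p : Ideal R) [p.IsPrime] (x : A)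
    (hx : (1 : p.ResidueField) ⊗ₜ[R] x = 0) : x ∈ p • (⊤ : Submodule R A) := by
  obtain ⟨s, hs⟩ := (Module.projective_def' (R := R) (P := A)).mp inferInstance
  have hmem : ∀ a : A, s x a ∈ p := by
    intro a
    let φ : A →ₗ[R] R := (Finsupp.lapply a).comp s
    have h1 : (TensorProduct.rid R p.ResidueField) (LinearMap.lTensor p.ResidueField φ
        ((1 : p.ResidueField) ⊗ₜ[R] x)) = algebraMap R p.ResidueField (s x a) := by
      rw [LinearMap.lTensor_tmul, TensorProduct.rid_tmul, Algebra.smul_def, mul_one]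
      rfl
    rw [hx, map_zero, map_zero] at h1
    exact Ideal.algebraMap_residueField_eq_zero.mp h1.symm
  have h2 : x = Finsupp.linearCombination R id (s x) := by
    have := LinearMap.congr_fun hs x
    simpa using this.symm
  rw [h2, Finsupp.linearCombination_apply]
  apply Submodule.sum_mem
  intro a _
  exact Submodule.smul_mem_smul (hmem a) trivial

end fibreZero

section localUnitary

variable {S : Type u} {R : Type v} [CommRing S] [CommRing R] [Algebra S R]
  (lam : R ≃ₐ[S] R) (hlam : ∀ r, lam (lam r) = r) (hfix : RInv.IsFixedRing S R lam.toRingEquiv)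
  {A : Type w} [Ring A] [Algebra S A] [Algebra R A] [IsScalarTower S R A]

include hlam in
lemma t_mem (t : AzInv.LamInv R A lam) (𝔮 : Ideal R) (x : A)
    (hx : x ∈ 𝔮 • (⊤ : Submodule R A)) :
    t x ∈ (𝔮.comap (lam : R →+* R)) • (⊤ : Submodule R A) := by
  refine Submodule.smul_induction_on hx (fun r hr a _ => ?_) (fun x y hx hy => ?_)
  · rw [t.map_smul]
    refine Submodule.smul_mem_smul ?_ Submodule.mem_top
    rw [Ideal.mem_comap]
    simpa [hlam] using hr
  · rw [t.map_add]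
    exact Submodule.add_mem _ hx hy

variable [IsAzumaya R A]

include hlam hfix in
theorem exists_local_unitary (t : AzInv.LamInv R A lam) (ψ : A ≃ₐ[R] A)
    (hψ : AzInv.IsInvHom t t ψ) (𝔭 : Ideal S) [𝔭.IsPrime] :
    ∃ (g : A) (s s' : S), (∀ a : A, ψ a * g = g * a) ∧ t g * g = algebraMap S A s ∧
      g * t g = algebraMap S A s' ∧ s ∉ 𝔭 ∧ s' ∉ 𝔭 := by
  obtain ⟨𝔮, h𝔮, h𝔮𝔭⟩ := exists_prime_over lam hlam hfix 𝔭
  have hcases := comap_lam_cases lam hlam 𝔮
  obtain ⟨g, hg, hgu, hgu'⟩ := exists_intertwiner_two R A ψ 𝔮 (𝔮.comap (lam : R →+* R)) hcases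
  -- `t g` intertwines `ψ⁻¹`
  have hg' : ∀ a : A, ψ.symm a * t g = t g * a := by
    intro a
    have h1 := congrArg t (hg (t (ψ.symm a)))
    rw [t.map_mul, t.map_mul, t.invol, ← hψ, t.invol, AlgEquiv.apply_symm_apply] at h1
    exact h1.symm
  obtain ⟨c, c', hc, hc'⟩ := exists_central_of_intertwiners R A ψ g (t g) hg hg'
  have hinj : Function.Injective (algebraMap R A) := FaithfulSMul.algebraMap_injective R A
  have hcfix : lam c = c := by
    apply hinj
    rw [← t.map_algebraMap, hc, t.map_mul, t.invol]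
  have hcfix' : lam c' = c' := by
    apply hinj
    rw [← t.map_algebraMap, hc', t.map_mul, t.invol]
  obtain ⟨s, hs⟩ := mem_range_of_fixed lam hfix c hcfix
  obtain ⟨s', hs'⟩ := mem_range_of_fixed lam hfix c' hcfix'
  haveI : Module.Projective R A := IsAzumaya.toProjective
  have hAz : IsAzumaya (𝔮.comap (lam : R →+* R)).ResidueField
      ((𝔮.comap (lam : R →+* R)).ResidueField ⊗[R] A) :=
    isAzumaya_baseChange R _ A
  have hsr := isSimpleRing_of_isAzumaya (𝔮.comap (lam : R →+* R)).ResidueField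
      ((𝔮.comap (lam : R →+* R)).ResidueField ⊗[R] A)
  have hnt : Nontrivial ((𝔮.comap (lam : R →+* R)).ResidueField ⊗[R] A) := inferInstance
  -- `t g` does not vanish in the fibre at `𝔮`
  have htg : (1 : 𝔮.ResidueField) ⊗ₜ[R] (t g) ≠ 0 := by
    intro h0
    have h1 := mem_smul_top_of_one_tmul_eq_zero 𝔮 (t g) h0
    have h2 := t_mem lam hlam t 𝔮 (t g) h1
    rw [t.invol] at h2
    have h3 := one_tmul_eq_zero_of_mem_smul_top _ g h2
    rw [h3] at hgu'
    exact not_isUnit_zero hgu'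
  have key : ∀ (d : R) (x y : A), algebraMap R A d = x * y →
      (IsUnit ((1 : 𝔮.ResidueField) ⊗ₜ[R] x) ∧ (1 : 𝔮.ResidueField) ⊗ₜ[R] y ≠ 0 ∨
        IsUnit ((1 : 𝔮.ResidueField) ⊗ₜ[R] y) ∧ (1 : 𝔮.ResidueField) ⊗ₜ[R] x ≠ 0) → d ∉ 𝔮 := by
    intro d x y hd hxy hdq
    have h0 : ((1 : 𝔮.ResidueField) ⊗ₜ[R] x) * ((1 : 𝔮.ResidueField) ⊗ₜ[R] y) = 0 := by
      rw [← one_tmul_mul, ← hd, Algebra.algebraMap_eq_smul_one, ← TensorProduct.smul_tmul,
        Algebra.smul_def, mul_one, Ideal.algebraMap_residueField_eq_zero.mpr hdq,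
        TensorProduct.zero_tmul]
    rcases hxy with ⟨hx, hy⟩ | ⟨hy, hx⟩
    · exact hy (hx.mul_right_eq_zero.mp h0)
    · exact hx (hy.mul_left_eq_zero.mp h0)
  have hcq : c ∉ 𝔮 := key c (t g) g hc (Or.inr ⟨hgu, htg⟩)
  have hcq' : c' ∉ 𝔮 := key c' g (t g) hc' (Or.inl ⟨hgu, htg⟩)
  refine ⟨g, s, s', hg, ?_, ?_, ?_, ?_⟩
  · rw [← hc, IsScalarTower.algebraMap_apply S R A, hs]
  · rw [← hc', IsScalarTower.algebraMap_apply S R A, hs']
  · intro hsp
    rw [← h𝔮𝔭, Ideal.mem_comap, hs] at hsp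
    exact hcq hsp
  · intro hsp
    rw [← h𝔮𝔭, Ideal.mem_comap, hs'] at hsp
    exact hcq' hsp

end localUnitary




section unitaryData

variable {S : Type u} {R : Type v} [CommRing S] [CommRing R] [Algebra S R]
  (lam : R ≃ₐ[S] R)
  {A : Type w} [Ring A] [Algebra S A] [Algebra R A] [IsScalarTower S R A]

theorem exists_unitary_of_data (T : Type u') [CommRing T] [Algebra S T]
    (t : AzInv.LamInv R A lam) (ψ : A ≃ₐ[R] A) (g : A) (s s' : S)
    (hg : ∀ a : A, ψ a * g = g * a) (hc : t g * g = algebraMap S A s)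
    (hc' : g * t g = algebraMap S A s') (y : T) (hy : y * y = algebraMap S T s)
    (hs : IsUnit (algebraMap S T s)) (hs' : IsUnit (algebraMap S T s')) :
    ∃ u : (T ⊗[S] A)ˣ, t.bc S lam T (u : T ⊗[S] A) * ↑u = 1 ∧ ∀ x : T ⊗[S] A,
        Algebra.TensorProduct.congr (AlgEquiv.refl : T ≃ₐ[T] T) (ψ.restrictScalars S) x =
          ↑u * x * ↑u⁻¹ := by
  have hyu : IsUnit y := isUnit_of_mul_isUnit_left (hy ▸ hs)
  obtain ⟨υ, hυ⟩ := hyu
  obtain ⟨σ', hσ'⟩ := hs'
  have hL : ((((υ⁻¹ : Tˣ) : T)) ⊗ₜ[S] t g) * ((((υ⁻¹ : Tˣ) : T)) ⊗ₜ[S] g) = 1 := by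
    rw [Algebra.TensorProduct.tmul_mul_tmul, hc, tmul_algebraMap, ← hy, ← hυ,
      Algebra.TensorProduct.one_def]
    congr 1
    rw [mul_mul_mul_comm, Units.mul_inv, one_mul]
  have hR : ((((υ⁻¹ : Tˣ) : T)) ⊗ₜ[S] g) * (((υ : T) * ((σ'⁻¹ : Tˣ) : T)) ⊗ₜ[S] t g) = 1 := by
    rw [Algebra.TensorProduct.tmul_mul_tmul, hc', tmul_algebraMap, ← hσ',
      Algebra.TensorProduct.one_def]
    congr 1
    rw [← mul_assoc ((υ⁻¹ : Tˣ) : T), Units.inv_mul, one_mul, Units.mul_inv]
  obtain ⟨u, hu1, hu2, hu⟩ := exists_unit_of_inverses T ψ g hg ((υ⁻¹ : Tˣ) : T) _ _ hL hR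
  refine ⟨u, ?_, hu⟩
  rw [hu1, AzInv.LamInv.bc_tmul]
  exact hL

end unitaryData

end Groth.Agent.Lib.Helper15.AzInvUnitary
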