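import Mathlib
import Groth.Prelude.Def_Curves
import Groth.Agent.Lib.Helper15.CSATensor

/-!
# Base change of central simple algebras (helper15)
-/

set_option autoImplicit false
universe u v w
open scoped TensorProduct

namespace Groth.Agent.Lib.Helper15.CSA

section Splits

variable (k : Type u) [Field k] (K : Type v) [Field K] [Algebra k K]
variable (A : Type*) [Ring A] [Algebra k A] (B : Type*) [Ring B] [Algebra k B]

/-- Noncommutative version of `Algebra.TensorProduct.cancelBaseChange`. -/
noncomputable def cancelBaseChange' (C : Type*) [Ring C] [Algebra k C] [Algebra K C]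
    [IsScalarTower k K C] :
    C ⊗[K] (K ⊗[k] B) ≃ₐ[K] C ⊗[k] B :=
  AlgEquiv.symm <| AlgEquiv.ofLinearEquiv
    (TensorProduct.AlgebraTensorModule.cancelBaseChange k K K C B).symm
    (by simp [Algebra.TensorProduct.one_def]) <|
      LinearMap.map_mul_of_map_mul_tmul (fun _ _ _ _ ↦ by simp)

/-- `K ⊗ (A ⊗ B) ≃ (K ⊗ A) ⊗[K] (K ⊗ B)` as `K`-algebras. -/
noncomputable def baseChangeTensorEquiv :
    K ⊗[k] (A ⊗[k] B) ≃ₐ[K] (K ⊗[k] A) ⊗[K] (K ⊗[k] B) :=
  (Algebra.TensorProduct.assoc k k K K A B).symm.trans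
    (cancelBaseChange' k K B (K ⊗[k] A)).symm

/-- `M_n(K) ⊗[K] M_m(K) ≃ M_{nm}(K)`. -/
noncomputable def matrixTensorMatrixEquiv (n m : ℕ) :
    Matrix (Fin n) (Fin n) K ⊗[K] Matrix (Fin m) (Fin m) K ≃ₐ[K]
      Matrix (Fin (n * m)) (Fin (n * m)) K :=
  (Matrix.kroneckerTMulAlgEquiv (Fin n) (Fin m) K K K K).trans <|
    (AlgEquiv.mapMatrix (Algebra.TensorProduct.lid K K)).trans <|
      Matrix.reindexAlgEquiv K K finProdFinEquiv

variable {k K A B}

theorem splits_tensor (hA : Curves.Splits k A K) (hB : Curves.Splits k B K) :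
    Curves.Splits k (A ⊗[k] B) K := by
  obtain ⟨n, hn, ⟨eA⟩⟩ := hA
  obtain ⟨m, hm, ⟨eB⟩⟩ := hB
  exact ⟨n * m, Nat.mul_ne_zero hn hm,
    ⟨(baseChangeTensorEquiv k K A B).trans <|
      (Algebra.TensorProduct.congr eA eB).trans (matrixTensorMatrixEquiv K n m)⟩⟩

end Splits

section BaseChange

variable (k : Type u) [Field k] (K : Type v) [Field K] [Algebra k K]
variable (A : Type w) [Ring A] [Algebra k A]

/-- `1 ⊗ -` is injective. -/
theorem includeRight_injective :
    Function.Injective (Algebra.TensorProduct.includeRight : A →ₐ[k] K ⊗[k] A) :=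
  Algebra.TensorProduct.includeRight_injective (FaithfulSMul.algebraMap_injective k K)

/-- The base change of a central algebra is central. -/
theorem isCentral_baseChange [Algebra.IsCentral k A] : Algebra.IsCentral K (K ⊗[k] A) := by
  refine ⟨fun z hz => ?_⟩
  have hz' : z ∈ Subalgebra.centralizer k
      ((Algebra.TensorProduct.includeRight : A →ₐ[k] K ⊗[k] A).range : Set (K ⊗[k] A)) := by
    rw [Subalgebra.mem_centralizer_iff]
    rintro _ ⟨a, rfl⟩
    exact (Subalgebra.mem_center_iff.mp hz _)
  rw [Subalgebra.centralizer_range_includeRight_eq_center_tensorProduct] at hz'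
  obtain ⟨w, rfl⟩ := hz'
  clear hz
  induction w using TensorProduct.induction_on with
  | zero => simp
  | tmul x b =>
    obtain ⟨b, hb⟩ := b
    obtain ⟨c, rfl⟩ := (Algebra.IsCentral.mem_center_iff k).mp hb
    refine ⟨c • x, ?_⟩
    change algebraMap K (K ⊗[k] A) (c • x) = x ⊗ₜ[k] (algebraMap k A c)
    rw [Algebra.TensorProduct.algebraMap_apply, Algebra.algebraMap_eq_smul_one c,
      TensorProduct.tmul_smul, TensorProduct.smul_tmul']
    simp
  | add x y hx hy => rw [map_add]; exact Subalgebra.add_mem _ hx hy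

/-- The base change of a central simple algebra is simple. -/
theorem isSimpleRing_baseChange [Algebra.IsCentral k A] [IsSimpleRing A] :
    IsSimpleRing (K ⊗[k] A) :=
  haveI : IsSimpleRing (A ⊗[k] K) := isSimpleRing_tensorProduct
  IsSimpleRing.of_ringEquiv (Algebra.TensorProduct.comm k A K).toRingEquiv inferInstance

/-- A `k`-linear retraction of `k → K`. -/
theorem exists_retraction : ∃ g : K →ₗ[k] k, g 1 = 1 := by
  obtain ⟨g, hg⟩ := LinearMap.exists_leftInverse_of_injective (Algebra.linearMap k K)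
    (LinearMap.ker_eq_bot.mpr (FaithfulSMul.algebraMap_injective k K))
  refine ⟨g, ?_⟩
  have := LinearMap.congr_fun hg 1
  simpa using this

/-- If the base change is central then so is the algebra. -/
theorem isCentral_of_baseChange [Algebra.IsCentral K (K ⊗[k] A)] : Algebra.IsCentral k A := by
  obtain ⟨g, hg⟩ := exists_retraction k K
  let T : K ⊗[k] A →ₗ[k] A := (TensorProduct.lid k A).toLinearMap ∘ₗ g.rTensor A
  refine ⟨fun a ha => ?_⟩
  have h1 : (1 : K) ⊗ₜ[k] a ∈ Subalgebra.center K (K ⊗[k] A) := by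
    rw [Subalgebra.mem_center_iff]
    intro w
    induction w using TensorProduct.induction_on with
    | zero => simp
    | tmul x b =>
      rw [Algebra.TensorProduct.tmul_mul_tmul, Algebra.TensorProduct.tmul_mul_tmul,
        Subalgebra.mem_center_iff.mp ha b, mul_comm]
    | add x y hx hy => rw [add_mul, mul_add, hx, hy]
  obtain ⟨x, hx⟩ := (Algebra.IsCentral.mem_center_iff K).mp h1
  have h2 := congrArg T hx
  rw [Algebra.TensorProduct.algebraMap_apply] at h2
  simp only [T, LinearMap.comp_apply, LinearMap.rTensor_tmul, LinearEquiv.coe_coe,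
    TensorProduct.lid_tmul, hg, one_smul, Algebra.algebraMap_self, RingHom.id_apply] at h2
  rw [h2]
  exact ⟨g x, (Algebra.algebraMap_eq_smul_one _).trans rfl⟩

/-- If the base change is simple then so is the algebra. -/
theorem isSimpleRing_of_baseChange [IsSimpleRing (K ⊗[k] A)] : IsSimpleRing A := by
  have hinj := includeRight_injective k K A
  have hnt : Nontrivial A := by
    by_contra h
    rw [not_nontrivial_iff_subsingleton] at h
    have : (1 : K ⊗[k] A) = 0 := by
      rw [Algebra.TensorProduct.one_def, Subsingleton.elim (1 : A) 0, TensorProduct.tmul_zero]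
    exact one_ne_zero this
  refine IsSimpleRing.of_eq_bot_or_eq_top fun I => ?_
  rw [or_iff_not_imp_right]
  intro hI
  have hq : Nontrivial I.ringCon.Quotient := by
    refine ⟨⟨(1 : A), (0 : A), fun h => hI ?_⟩⟩
    have h1 : (1 : A) ∈ I := by
      rw [TwoSidedIdeal.mem_iff]
      exact Quotient.eq''.mp h
    exact (TwoSidedIdeal.one_mem_iff I).mp h1
  have hnt' : Nontrivial (K ⊗[k] I.ringCon.Quotient) :=
    (includeRight_injective k K I.ringCon.Quotient).nontrivial
  let F : K ⊗[k] A →ₐ[k] K ⊗[k] I.ringCon.Quotient :=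
    Algebra.TensorProduct.map (AlgHom.id k K) (I.ringCon.mkₐ k)
  have hF : Function.Injective F := (F : K ⊗[k] A →+* K ⊗[k] I.ringCon.Quotient).injective
  rw [eq_bot_iff]
  intro a ha
  have h0 : F ((1 : K) ⊗ₜ[k] a) = 0 := by
    have : (I.ringCon.mkₐ k) a = 0 := by
      rw [TwoSidedIdeal.mem_iff] at ha
      exact Quotient.sound ha
    simp only [F, Algebra.TensorProduct.map_tmul, this, TensorProduct.tmul_zero]
  have h1 : (1 : K) ⊗ₜ[k] a = 0 := hF (by rw [h0, map_zero])
  have h2 : a = 0 := hinj (by simpa using h1)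
  rw [h2]
  exact (⊥ : TwoSidedIdeal A).zero_mem

end BaseChange

end Groth.Agent.Lib.Helper15.CSA
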