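import Mathlib
import Groth.Agent.Lib.Helper15.CSABaseChange

/-!
# Tensor products of central (simple) algebras are central (helper15)
-/

set_option autoImplicit false
universe u v w
open scoped TensorProduct

namespace Groth.Agent.Lib.Helper15.CSA

/-- The tensor product of two central algebras over a field is central. -/
theorem isCentral_tensorProduct (k : Type u) [Field k] (A : Type v) [Ring A] [Algebra k A]
    (B : Type w) [Ring B] [Algebra k B] [Algebra.IsCentral k A] [Algebra.IsCentral k B] :
    Algebra.IsCentral k (A ⊗[k] B) := by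
  rcases subsingleton_or_nontrivial B with hB | hB
  · refine ⟨fun z _ => ?_⟩
    have : Subsingleton (A ⊗[k] B) := by
      refine ⟨fun x y => ?_⟩
      have h0 : ∀ w : A ⊗[k] B, w = 0 := by
        intro w
        induction w using TensorProduct.induction_on with
        | zero => rfl
        | tmul a b => rw [Subsingleton.elim b 0, TensorProduct.tmul_zero]
        | add x y hx hy => rw [hx, hy, add_zero]
      rw [h0 x, h0 y]
    rw [Subsingleton.elim z 0]
    exact Subalgebra.zero_mem _
  refine ⟨fun z hz => ?_⟩
  have hz' : z ∈ Subalgebra.centralizer k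
      ((Algebra.TensorProduct.includeRight : B →ₐ[k] A ⊗[k] B).range : Set (A ⊗[k] B)) := by
    rw [Subalgebra.mem_centralizer_iff]
    rintro _ ⟨a, rfl⟩
    exact (Subalgebra.mem_center_iff.mp hz _)
  rw [Subalgebra.centralizer_range_includeRight_eq_center_tensorProduct] at hz'
  obtain ⟨w, rfl⟩ := hz'
  -- every element of `A ⊗ center B` is of the form `a ⊗ 1`
  have hw : ∀ w : A ⊗[k] (Subalgebra.center k B), ∃ a : A,
      Algebra.TensorProduct.map (AlgHom.id k A) (Subalgebra.center k B).val w = a ⊗ₜ[k] (1 : B) := by
    intro w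
    induction w using TensorProduct.induction_on with
    | zero => exact ⟨0, by simp⟩
    | tmul x b =>
      obtain ⟨b, hb⟩ := b
      obtain ⟨c, rfl⟩ := (Algebra.IsCentral.mem_center_iff k).mp hb
      refine ⟨c • x, ?_⟩
      change x ⊗ₜ[k] (algebraMap k B c) = _
      rw [Algebra.algebraMap_eq_smul_one c, TensorProduct.tmul_smul, TensorProduct.smul_tmul']
    | add x y hx hy =>
      obtain ⟨a, ha⟩ := hx
      obtain ⟨a', ha'⟩ := hy
      exact ⟨a + a', by rw [map_add, ha, ha', TensorProduct.add_tmul]⟩
  obtain ⟨a, ha⟩ := hw w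
  change Algebra.TensorProduct.map (AlgHom.id k A) (Subalgebra.center k B).val w ∈ _ at hz
  change Algebra.TensorProduct.map (AlgHom.id k A) (Subalgebra.center k B).val w ∈ _
  rw [ha] at hz ⊢
  have hinj : Function.Injective (Algebra.TensorProduct.includeLeft : A →ₐ[k] A ⊗[k] B) :=
    Algebra.TensorProduct.includeLeft_injective (S := k) (FaithfulSMul.algebraMap_injective k B)
  have hac : a ∈ Subalgebra.center k A := by
    rw [Subalgebra.mem_center_iff]
    intro a'
    apply hinj
    have := Subalgebra.mem_center_iff.mp hz (a' ⊗ₜ[k] (1 : B))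
    simpa [Algebra.TensorProduct.tmul_mul_tmul] using this
  obtain ⟨c, rfl⟩ := (Algebra.IsCentral.mem_center_iff k).mp hac
  refine ⟨c, ?_⟩
  change algebraMap k (A ⊗[k] B) c = _
  rw [Algebra.TensorProduct.algebraMap_apply]

end Groth.Agent.Lib.Helper15.CSA
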