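import Mathlib
import Groth.Agent.Lib.Helper15.AzumayaFibre
import Groth.Agent.Lib.Helper15.CSATensor2

set_option autoImplicit false
universe u v w
open scoped TensorProduct

namespace Groth.Agent.Lib.Helper15.Azumaya

section tensor

/-- universe-polymorphic transport of centrality along an algebra isomorphism -/
theorem isCentral_of_algEquiv' {k : Type*} [CommRing k] {B : Type*} [Ring B] [Algebra k B]
    {C : Type*} [Ring C] [Algebra k C] (e : B ≃ₐ[k] C) [Algebra.IsCentral k B] :
    Algebra.IsCentral k C := by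
  refine ⟨fun z hz => ?_⟩
  have hz' : e.symm z ∈ Subalgebra.center k B := by
    rw [Subalgebra.mem_center_iff] at hz ⊢
    intro b
    apply e.injective
    rw [map_mul, map_mul, e.apply_symm_apply, hz]
  obtain ⟨c, hc⟩ := Algebra.IsCentral.out hz'
  refine ⟨c, ?_⟩
  have := congrArg e hc
  rw [e.apply_symm_apply] at this
  rw [← this]
  exact (e.commutes c).symm

variable (R : Type*) [CommRing R] (S : Type*) [CommRing S] [Algebra R S]
  (A : Type*) [Ring A] [Algebra R A] (B : Type*) [Ring B] [Algebra R B]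

/-- Noncommutative version of `Algebra.TensorProduct.cancelBaseChange` over rings. -/
noncomputable def cancelBaseChangeRing (T : Type*) [CommRing T] [Algebra R T] [Algebra S T]
    (C : Type*) [Ring C] [Algebra R C] [Algebra S C]
    [IsScalarTower R S C] [Algebra T C] [IsScalarTower R T C] [IsScalarTower S T C] :
    C ⊗[S] (S ⊗[R] B) ≃ₐ[T] C ⊗[R] B :=
  AlgEquiv.symm <| AlgEquiv.ofLinearEquiv
    (TensorProduct.AlgebraTensorModule.cancelBaseChange R S T C B).symm
    (by simp [Algebra.TensorProduct.one_def]) <|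
      LinearMap.map_mul_of_map_mul_tmul (fun _ _ _ _ ↦ by simp)

/-- `S ⊗ (A ⊗ B) ≃ (S ⊗ A) ⊗[S] (S ⊗ B)` as `S`-algebras. -/
noncomputable def baseChangeTensorEquivRing :
    S ⊗[R] (A ⊗[R] B) ≃ₐ[S] (S ⊗[R] A) ⊗[S] (S ⊗[R] B) :=
  (Algebra.TensorProduct.assoc R R S S A B).symm.trans
    (cancelBaseChangeRing R S B S (S ⊗[R] A)).symm

theorem isAzumaya_tensorProduct [IsAzumaya R A] [IsAzumaya R B] : IsAzumaya R (A ⊗[R] B) := by
  rw [isAzumaya_iff_fibres]
  intro p _
  obtain ⟨hA1, hA2⟩ := (isAzumaya_iff_fibres R A).mp inferInstance p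
  obtain ⟨hB1, hB2⟩ := (isAzumaya_iff_fibres R B).mp inferInstance p
  have hc := CSA.isCentral_tensorProduct p.ResidueField (p.ResidueField ⊗[R] A)
    (p.ResidueField ⊗[R] B)
  have hs : IsSimpleRing ((p.ResidueField ⊗[R] A) ⊗[p.ResidueField] (p.ResidueField ⊗[R] B)) :=
    CSA.isSimpleRing_tensorProduct
  let e := baseChangeTensorEquivRing R p.ResidueField A B
  exact ⟨isCentral_of_algEquiv' e.symm, IsSimpleRing.of_ringEquiv e.symm.toRingEquiv hs⟩

end tensor

end Groth.Agent.Lib.Helper15.Azumaya
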