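import Mathlib
import Groth.Agent.Lib.Helper15.AzumayaTensor
import Groth.Agent.Lib.Helper15.CSABaseChange

set_option autoImplicit false
universe u v w
open scoped TensorProduct

namespace Groth.Agent.Lib.Helper15.Azumaya

section specSurj

variable (R : Type*) [CommRing R] (S : Type*) [CommRing S] [Algebra R S]
  (B : Type*) [Ring B] [Algebra R B]

/-- the fibre of `S ⊗ B` over `q` is a base change of the fibre of `B` over `q ∩ R` -/
theorem csa_fibre_of_csa_fibre_baseChange (q : Ideal S) [q.IsPrime]
    (h : Algebra.IsCentral q.ResidueField (q.ResidueField ⊗[S] (S ⊗[R] B)) ∧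
      IsSimpleRing (q.ResidueField ⊗[S] (S ⊗[R] B))) :
    Algebra.IsCentral (q.comap (algebraMap R S)).ResidueField
        ((q.comap (algebraMap R S)).ResidueField ⊗[R] B) ∧
      IsSimpleRing ((q.comap (algebraMap R S)).ResidueField ⊗[R] B) := by
  obtain ⟨h1, h2⟩ := h
  let _ : Algebra (q.comap (algebraMap R S)).ResidueField q.ResidueField :=
    (Ideal.ResidueField.map (q.comap (algebraMap R S)) q (algebraMap R S) rfl).toAlgebra
  have : IsScalarTower R (q.comap (algebraMap R S)).ResidueField q.ResidueField := by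
    refine IsScalarTower.of_algebraMap_eq fun r => ?_
    rw [RingHom.algebraMap_toAlgebra, Ideal.ResidueField.map_algebraMap]
    rw [← IsScalarTower.algebraMap_apply R S q.ResidueField]
  let e1 : q.ResidueField ⊗[S] (S ⊗[R] B) ≃ₐ[q.ResidueField] q.ResidueField ⊗[R] B :=
    cancelBaseChangeRing R S B q.ResidueField q.ResidueField
  let e2 : q.ResidueField ⊗[(q.comap (algebraMap R S)).ResidueField]
      ((q.comap (algebraMap R S)).ResidueField ⊗[R] B) ≃ₐ[q.ResidueField] q.ResidueField ⊗[R] B :=
    cancelBaseChangeRing R (q.comap (algebraMap R S)).ResidueField B q.ResidueField q.ResidueField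
  let e := e1.trans e2.symm
  have h1' : Algebra.IsCentral q.ResidueField
      (q.ResidueField ⊗[(q.comap (algebraMap R S)).ResidueField]
        ((q.comap (algebraMap R S)).ResidueField ⊗[R] B)) :=
    isCentral_of_algEquiv' e
  have h2' : IsSimpleRing (q.ResidueField ⊗[(q.comap (algebraMap R S)).ResidueField]
        ((q.comap (algebraMap R S)).ResidueField ⊗[R] B)) :=
    IsSimpleRing.of_ringEquiv e.toRingEquiv h2
  exact ⟨CSA.isCentral_of_baseChange (q.comap (algebraMap R S)).ResidueField q.ResidueField
      ((q.comap (algebraMap R S)).ResidueField ⊗[R] B),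
    CSA.isSimpleRing_of_baseChange (q.comap (algebraMap R S)).ResidueField q.ResidueField
      ((q.comap (algebraMap R S)).ResidueField ⊗[R] B)⟩

theorem isAzumaya_of_baseChange_of_comap_surjective
    (hS : Function.Surjective (PrimeSpectrum.comap (algebraMap R S)))
    [Module.Finite R B] [Module.Projective R B] [IsAzumaya S (S ⊗[R] B)] : IsAzumaya R B := by
  rw [isAzumaya_iff_fibres]
  intro p hp
  obtain ⟨q, hq⟩ := hS ⟨p, hp⟩
  have hpq : p = q.asIdeal.comap (algebraMap R S) := congrArg PrimeSpectrum.asIdeal hq.symm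
  subst hpq
  exact csa_fibre_of_csa_fibre_baseChange R S B q.asIdeal
    ((isAzumaya_iff_fibres S (S ⊗[R] B)).mp inferInstance q.asIdeal)

end specSurj

end Groth.Agent.Lib.Helper15.Azumaya
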