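import Mathlib
import Groth.Agent.Lib.Helper15.AzumayaFibre
import Groth.Agent.Lib.Helper15.AzumayaTensor

/-!
# Splitting a central simple algebra by a maximal commutative subalgebra (helper15)
-/

set_option autoImplicit false
universe u v w
open scoped TensorProduct

namespace Groth.Agent.Lib.Helper15.Azumaya

section splitBySubalgebra

variable (k : Type*) [Field k] (A : Type*) [Ring A] [Algebra k A]
  (L : Type*) [CommRing L] [Algebra k L] (ι : L →ₐ[k] A) [Module L A]
  [SMulCommClass L k A] [IsScalarTower k L A]
  (hmod : ∀ (l : L) (a : A), l • a = a * ι l)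

include hmod in
/-- left multiplication by `a` is `L`-linear for the right module structure -/
theorem smul_mul_eq (l : L) (a y : A) : l • (a * y) = a * (l • y) := by
  rw [hmod, hmod, mul_assoc]

/-- left multiplication as an `L`-linear endomorphism -/
noncomputable def lmulL : A →ₐ[k] Module.End L A where
  toFun := fun a =>
      { toFun := fun y => a * y
        map_add' := fun y z => mul_add a y z
        map_smul' := fun l y => by
          rw [RingHom.id_apply]
          exact (smul_mul_eq k A L ι hmod l a y).symm }
  map_one' := by ext y; simp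
  map_mul' := fun a b => by ext y; simp [mul_assoc]
  map_zero' := by ext y; simp
  map_add' := fun a b => by ext y; simp [add_mul]
  commutes' := fun c => by
      ext y
      simp [Algebra.smul_def]

@[simp] lemma lmulL_apply (a y : A) : lmulL k A L ι hmod a y = a * y := rfl

/-- the map `L ⊗ A → End_L(A)`, `l ⊗ a ↦ (y ↦ a y l)` -/
noncomputable def splitMap : L ⊗[k] A →ₐ[L] Module.End L A :=
  Algebra.TensorProduct.lift (Algebra.ofId L (Module.End L A)) (lmulL k A L ι hmod)
    (fun l a => by
      rw [commute_iff_eq]
      apply LinearMap.ext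
      intro y
      simp only [Module.End.mul_apply, Algebra.ofId_apply, Module.algebraMap_end_apply, lmulL_apply]
      exact smul_mul_eq k A L ι hmod l a y)

lemma splitMap_tmul (l : L) (a y : A) : splitMap k A L ι hmod (l ⊗ₜ a) y = l • (a * y) := by
  rw [splitMap, Algebra.TensorProduct.lift_tmul, Module.End.mul_apply, Algebra.ofId_apply,
    Module.algebraMap_end_apply, lmulL_apply]

end splitBySubalgebra

end Groth.Agent.Lib.Helper15.Azumaya

namespace Groth.Agent.Lib.Helper15.Azumaya

section splitBij

variable (k : Type*) [Field k] (A : Type*) [Ring A] [Algebra k A]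
  (L : Type*) [CommRing L] [Algebra k L] (ι : L →ₐ[k] A) [Module L A]
  [SMulCommClass L k A] [IsScalarTower k L A]
  (hmod : ∀ (l : L) (a : A), l • a = a * ι l)

theorem splitMap_bijective [Algebra.IsCentral k A] [IsSimpleRing A] [FiniteDimensional k A]
    [Module.Free L A] (r : ℕ) (hr : 0 < r) (hA : Module.finrank k A = r ^ 2)
    (hrank : Module.finrank L A = r) : Function.Bijective (splitMap k A L ι hmod) := by
  have hntL : Nontrivial L := by
    by_contra hL
    rw [not_nontrivial_iff_subsingleton] at hL
    have : Subsingleton A := Module.subsingleton L A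
    exact not_subsingleton A this
  have hfinA : Module.Finite L A := Module.finite_of_finrank_pos (by rw [hrank]; exact hr)
  refine bijective_of_forall_residueField (splitMap k A L ι hmod).toLinearMap ?_
  intro q _
  -- the ring hom version of the base change
  let ψ : q.ResidueField ⊗[L] (L ⊗[k] A) →ₐ[q.ResidueField] q.ResidueField ⊗[L] Module.End L A :=
    Algebra.TensorProduct.map (AlgHom.id q.ResidueField q.ResidueField) (splitMap k A L ι hmod)
  have hψ : ⇑(LinearMap.baseChange q.ResidueField (splitMap k A L ι hmod).toLinearMap) = ⇑ψ := by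
    funext x
    induction x using TensorProduct.induction_on with
    | zero => simp
    | tmul c y => simp [ψ]
    | add x y hx hy => rw [map_add, map_add, hx, hy]
  rw [hψ]
  -- the source is simple
  let e : q.ResidueField ⊗[L] (L ⊗[k] A) ≃ₐ[q.ResidueField] q.ResidueField ⊗[k] A :=
    cancelBaseChangeRing k L A q.ResidueField q.ResidueField
  have hs0 : IsSimpleRing (q.ResidueField ⊗[k] A) := CSA.isSimpleRing_baseChange k q.ResidueField A
  have hs : IsSimpleRing (q.ResidueField ⊗[L] (L ⊗[k] A)) :=
    IsSimpleRing.of_ringEquiv e.symm.toRingEquiv hs0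
  have hd1 : Module.finrank q.ResidueField (q.ResidueField ⊗[L] (L ⊗[k] A)) = r ^ 2 := by
    rw [Module.finrank_baseChange, Module.finrank_baseChange, hA]
  have hd2 : Module.finrank q.ResidueField (q.ResidueField ⊗[L] Module.End L A) = r ^ 2 := by
    rw [Module.finrank_baseChange, Module.finrank_linearMap, hrank, sq]
  have hnt : Nontrivial (q.ResidueField ⊗[L] Module.End L A) := by
    apply Module.nontrivial_of_finrank_pos (R := q.ResidueField)
    rw [hd2]
    positivity
  have hinj : Function.Injective ψ :=
    RingHom.injective (ψ : q.ResidueField ⊗[L] (L ⊗[k] A) →+* q.ResidueField ⊗[L] Module.End L A)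
  refine ⟨hinj, ?_⟩
  exact (LinearMap.injective_iff_surjective_of_finrank_eq_finrank (f := ψ.toLinearMap)
    (hd1.trans hd2.symm)).mp hinj

end splitBij

end Groth.Agent.Lib.Helper15.Azumaya
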