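import Mathlib

/-!
# Triangularisation over an algebraically closed field (helper15)
-/

set_option autoImplicit false

namespace Groth.Agent.Lib.Helper15.Tri

open Module

variable {F : Type*} [Field F] [IsAlgClosed F]

/-- Every endomorphism of a finite-dimensional vector space over an algebraically closed field has
a basis in which it is lower triangular: `f (b j) ∈ span {b i | j ≤ i}`. -/
theorem exists_basis_lowerTriangular : ∀ (n : ℕ) (V : Type*) [AddCommGroup V] [Module F V]
    [FiniteDimensional F V], finrank F V = n → ∀ f : V →ₗ[F] V,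
    ∃ b : Basis (Fin n) F V, ∀ i j : Fin n, i < j → b.repr (f (b j)) i = 0 := by
  intro n
  induction n with
  | zero =>
    intro V _ _ _ hV f
    haveI : Subsingleton V := Module.finrank_zero_iff.mp hV
    exact ⟨Basis.empty V, fun i => i.elim0⟩
  | succ n ih =>
    intro V _ _ _ hV f
    haveI : Nontrivial V := Module.nontrivial_of_finrank_pos (R := F) (by omega)
    haveI : Nontrivial (Dual F V) := by
      apply Module.nontrivial_of_finrank_pos (R := F)
      rw [Subspace.dual_finrank_eq]; omega
    obtain ⟨μ, hμ⟩ := Module.End.exists_eigenvalue (f.dualMap : Module.End F (Dual F V))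
    obtain ⟨ψ, hψ⟩ := hμ.exists_hasEigenvector
    have hψ0 : ψ ≠ 0 := hψ.2
    have hψf : ∀ x, ψ (f x) = μ * ψ x := by
      intro x
      have := hψ.apply_eq_smul
      have h2 := LinearMap.congr_fun this x
      simpa using h2
    obtain ⟨y, hy⟩ : ∃ y, ψ y ≠ 0 := by
      by_contra hcon
      push Not at hcon
      exact hψ0 (LinearMap.ext hcon)
    let H : Submodule F V := LinearMap.ker ψ
    have hHf : ∀ x ∈ H, f x ∈ H := by
      intro x hx
      rw [LinearMap.mem_ker] at hx ⊢
      rw [hψf, hx, mul_zero]
    have hrange : LinearMap.range ψ = ⊤ := by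
      rw [eq_top_iff]
      intro c _
      refine ⟨(c / ψ y) • y, ?_⟩
      rw [map_smul, smul_eq_mul, div_mul_cancel₀ _ hy]
    have hHdim : finrank F H = n := by
      show finrank F (LinearMap.ker ψ) = n
      have := LinearMap.finrank_range_add_finrank_ker ψ
      rw [hrange, finrank_top, Module.finrank_self, hV] at this
      omega
    obtain ⟨bH, hbH⟩ := ih H hHdim (f.restrict hHf)
    have hli : ∀ (c : F), ∀ x ∈ H, c • y + x = 0 → c = 0 := by
      intro c x hx h0
      have := congrArg ψ h0
      rw [map_add, map_smul, LinearMap.mem_ker.mp hx, add_zero, map_zero, smul_eq_mul] at this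
      exact (mul_eq_zero.mp this).resolve_right hy
    have hsp : ∀ z : V, ∃ c : F, z + c • y ∈ H := by
      intro z
      refine ⟨-(ψ z / ψ y), ?_⟩
      rw [LinearMap.mem_ker, map_add, map_smul, smul_eq_mul, neg_mul, div_mul_cancel₀ _ hy,
        add_neg_cancel]
    let b := Basis.mkFinCons y bH hli hsp
    have hb0 : b 0 = y := by simp [b, Basis.coe_mkFinCons]
    have hbs : ∀ l : Fin n, b l.succ = (bH l : V) := by
      intro l; simp [b, Basis.coe_mkFinCons]
    refine ⟨b, ?_⟩
    intro i j hij
    obtain ⟨j', rfl⟩ : ∃ j' : Fin n, j = j'.succ := by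
      refine ⟨j.pred ?_, (Fin.succ_pred _ _).symm⟩
      intro h0
      rw [h0] at hij
      exact absurd hij (Fin.not_lt_zero _)
    have hexp : f (b j'.succ) = ∑ l : Fin (n + 1),
        (Fin.cons 0 (fun l => bH.repr (f.restrict hHf (bH j')) l) : Fin (n + 1) → F) l • b l := by
      rw [Fin.sum_univ_succ]
      simp only [Fin.cons_zero, zero_smul, zero_add, Fin.cons_succ, hbs]
      have h1 := bH.sum_repr (f.restrict hHf (bH j'))
      have h2 := congrArg (Subtype.val : H → V) h1
      rw [Submodule.coe_sum] at h2
      simp only [Submodule.coe_smul] at h2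
      rw [h2]
      rfl
    rw [hexp, b.repr_sum_self]
    revert hij
    refine Fin.cases ?_ (fun i' => ?_) i
    · intro _; rfl
    · intro hij'
      rw [Fin.cons_succ]
      exact hbH i' j' (Fin.succ_lt_succ_iff.mp hij')

end Groth.Agent.Lib.Helper15.Tri
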