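import Mathlib
import Groth.Agent.Lib.Helper15.Triangularize

/-!
# A commutator times an invertible matrix can be made regular semisimple (helper15)
-/

set_option autoImplicit false

namespace Groth.Agent.Lib.Helper15.Tri

open Matrix Polynomial Module

variable {F : Type*} [Field F]

/-- generic scalar avoiding finitely many monomial relations -/
theorem exists_generic [Infinite F] (n : ℕ) (δ : Fin n → F) (hδ : ∀ i, δ i ≠ 0)
    (p q : Fin n → Fin n → ℕ) (hpq : ∀ i j, i ≠ j → p i j ≠ q i j) :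
    ∃ x : F, x ≠ 0 ∧ ∀ i j, i ≠ j → x ^ p i j * δ i ≠ x ^ q i j * δ j := by
  classical
  let g : Fin n → Fin n → F[X] := fun i j =>
    if i = j then 1 else (C (δ i) * X ^ p i j - C (δ j) * X ^ q i j)
  have hg : ∀ i j, g i j ≠ 0 := by
    intro i j
    by_cases hij : i = j
    · simp [g, hij]
    · simp only [g, if_neg hij]
      intro h0
      have := congrArg (fun f => f.coeff (p i j)) h0
      simp only [coeff_sub, coeff_C_mul, coeff_X_pow, if_true, mul_one, coeff_zero] at this
      rw [if_neg (hpq i j hij), mul_zero, sub_zero] at this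
      exact hδ i this
  let f : F[X] := X * ∏ i, ∏ j, g i j
  have hf : f ≠ 0 := by
    apply mul_ne_zero X_ne_zero
    exact Finset.prod_ne_zero_iff.mpr fun i _ => Finset.prod_ne_zero_iff.mpr fun j _ => hg i j
  obtain ⟨x, hx⟩ : ∃ x, f.eval x ≠ 0 := by
    by_contra hcon
    push Not at hcon
    apply hf
    apply Polynomial.eq_zero_of_infinite_isRoot
    have : {x | f.IsRoot x} = Set.univ := by
      ext x; simp [Polynomial.IsRoot, hcon x]
    rw [this]
    exact Set.infinite_univ
  simp only [f, eval_mul, eval_X, eval_prod] at hx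
  have hx0 : x ≠ 0 := fun h => hx (by rw [h, zero_mul])
  refine ⟨x, hx0, fun i j hij h => hx ?_⟩
  apply mul_eq_zero_of_right
  apply Finset.prod_eq_zero (Finset.mem_univ i)
  apply Finset.prod_eq_zero (Finset.mem_univ j)
  simp only [g, if_neg hij, eval_sub, eval_mul, eval_C, eval_pow, eval_X]
  rw [mul_comm (δ i), mul_comm (δ j), h, sub_self]

theorem rotate_exponents (m : ℕ) (i j : Fin (m + 1)) (hij : i ≠ j) :
    (i : ℕ) ^ 2 + ((finRotate (m + 1) j : Fin (m + 1)) : ℕ) ^ 2 ≠
      (j : ℕ) ^ 2 + ((finRotate (m + 1) i : Fin (m + 1)) : ℕ) ^ 2 := by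
  have hi := i.isLt
  have hj := j.isLt
  have hne : (i : ℕ) ≠ j := fun h => hij (Fin.ext h)
  rw [coe_finRotate, coe_finRotate]
  by_cases h1 : i = Fin.last m <;> by_cases h2 : j = Fin.last m
  · exact absurd (h1.trans h2.symm) hij
  · rw [if_pos h1, if_neg h2]
    have : (i : ℕ) = m := by rw [h1]; rfl
    nlinarith
  · rw [if_neg h1, if_pos h2]
    have : (j : ℕ) = m := by rw [h2]; rfl
    nlinarith
  · rw [if_neg h1, if_neg h2]
    intro h
    apply hne
    nlinarith

/-- adjugate of a matrix with a right inverse -/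
theorem adjugate_eq_of_mul_eq_one {n : Type*} [Fintype n] [DecidableEq n] {R : Type*} [CommRing R]
    (X X' : Matrix n n R) (h : X * X' = 1) : X.adjugate = X.det • X' := by
  calc X.adjugate = X.adjugate * (X * X') := by rw [h, mul_one]
    _ = (X.adjugate * X) * X' := by rw [Matrix.mul_assoc]
    _ = X.det • X' := by rw [adjugate_mul, Matrix.smul_mul, Matrix.one_mul]

/-- **Base point**: over an algebraically closed field, for every invertible `Δ` there are
invertible `W`, `G` such that `W G adj(W) adj(G) Δ` has separable characteristic polynomial. -/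
theorem exists_commutator_separable [IsAlgClosed F] (n : ℕ) (Δ : Matrix (Fin n) (Fin n) F)
    (hΔ : Δ.det ≠ 0) :
    ∃ W G : Matrix (Fin n) (Fin n) F, W.det ≠ 0 ∧ G.det ≠ 0 ∧
      (W * G * W.adjugate * G.adjugate * Δ).charpoly.Separable := by
  classical
  haveI : Infinite F := IsAlgClosed.instInfinite
  obtain _ | m := n
  · refine ⟨1, 1, by simp, by simp, ?_⟩
    rw [Matrix.charpoly_isEmpty]
    exact separable_one
  -- triangularise
  let f : (Fin (m + 1) → F) →ₗ[F] (Fin (m + 1) → F) := Matrix.toLin' Δ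
  obtain ⟨b, hb⟩ := exists_basis_lowerTriangular (F := F) (m + 1) (Fin (m + 1) → F) (by simp) f
  let L := LinearMap.toMatrix b b f
  have hL : ∀ i j : Fin (m + 1), i < j → L i j = 0 := by
    intro i j hij
    show (LinearMap.toMatrix b b f) i j = 0
    rw [LinearMap.toMatrix_apply]
    exact hb i j hij
  let e := Pi.basisFun F (Fin (m + 1))
  let P := e.toMatrix b
  let P' := b.toMatrix e
  have hPP' : P * P' = 1 := Basis.toMatrix_mul_toMatrix_flip e b
  have hP'P : P' * P = 1 := Basis.toMatrix_mul_toMatrix_flip b e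
  have hΔL : P * L * P' = Δ := by
    have := basis_toMatrix_mul_linearMap_toMatrix_mul_basis_toMatrix e b e b f
    rw [this, LinearMap.toMatrix_eq_toMatrix', LinearMap.toMatrix'_toLin']
  have hLlow : L.IsLowerTriangular := by
    intro i j hij
    exact hL i j hij
  have hdetL : L.det = Δ.det := by
    rw [← hΔL, det_mul, det_mul, mul_comm, ← mul_assoc, ← det_mul, hP'P, det_one, one_mul]
  have hδ : ∀ i, L i i ≠ 0 := by
    intro i h0
    apply hΔ
    rw [← hdetL, det_of_isLowerTriangular L hLlow]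
    exact Finset.prod_eq_zero (Finset.mem_univ i) h0
  let σ : Equiv.Perm (Fin (m + 1)) := finRotate (m + 1)
  obtain ⟨x, hx0, hx⟩ := exists_generic (m + 1) (fun i => L i i) hδ
    (fun i j => (i : ℕ) ^ 2 + ((σ j : Fin (m + 1)) : ℕ) ^ 2)
    (fun i j => (j : ℕ) ^ 2 + ((σ i : Fin (m + 1)) : ℕ) ^ 2) (rotate_exponents m)
  let a : Fin (m + 1) → F := fun i => x ^ ((i : ℕ) ^ 2)
  have ha : ∀ i, a i ≠ 0 := fun i => pow_ne_zero _ hx0
  let W₁ : Matrix (Fin (m + 1)) (Fin (m + 1)) F := diagonal a
  let W₁' : Matrix (Fin (m + 1)) (Fin (m + 1)) F := diagonal fun i => (a i)⁻¹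
  let G₁ : Matrix (Fin (m + 1)) (Fin (m + 1)) F := σ.toPEquiv.toMatrix
  let G₁' : Matrix (Fin (m + 1)) (Fin (m + 1)) F := σ.symm.toPEquiv.toMatrix
  have hW₁ : W₁ * W₁' = 1 := by
    rw [diagonal_mul_diagonal, ← diagonal_one]
    congr 1
    funext i
    exact mul_inv_cancel₀ (ha i)
  have hG₁ : G₁ * G₁' = 1 := by
    rw [← PEquiv.toMatrix_trans, ← Equiv.toPEquiv_trans, Equiv.self_trans_symm,
      Equiv.toPEquiv_refl, PEquiv.toMatrix_refl]
  have hcomm : W₁ * G₁ * W₁' * G₁' = diagonal fun i => a i * (a (σ i))⁻¹ := by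
    have h1 : G₁ * W₁' * G₁' = diagonal fun i => (a (σ i))⁻¹ := by
      rw [PEquiv.toMatrix_toPEquiv_mul, PEquiv.mul_toMatrix_toPEquiv]
      ext i j
      simp only [submatrix_apply, id_eq, Equiv.symm_symm]
      show (diagonal fun i => (a i)⁻¹) (σ i) (σ j) = _
      rw [diagonal_apply, diagonal_apply]
      simp only [σ.injective.eq_iff]
    rw [Matrix.mul_assoc, Matrix.mul_assoc, ← Matrix.mul_assoc G₁, h1, diagonal_mul_diagonal]
  let t : Fin (m + 1) → F := fun i => a i * (a (σ i))⁻¹
  have hdetW₁ : W₁.det ≠ 0 := by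
    rw [det_diagonal]
    exact Finset.prod_ne_zero_iff.mpr fun i _ => ha i
  have hdetG₁ : G₁.det ≠ 0 := by
    intro h0
    have := congrArg det hG₁
    rw [det_mul, h0, zero_mul, det_one] at this
    exact zero_ne_one this
  let W := P * W₁ * P'
  let G := P * G₁ * P'
  have hW : W * (P * W₁' * P') = 1 := by
    calc W * (P * W₁' * P') = P * (W₁ * ((P' * P) * W₁')) * P' := by
          simp only [W, Matrix.mul_assoc]
      _ = 1 := by rw [hP'P, Matrix.one_mul, hW₁, Matrix.mul_one, hPP']
  have hG : G * (P * G₁' * P') = 1 := by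
    calc G * (P * G₁' * P') = P * (G₁ * ((P' * P) * G₁')) * P' := by
          simp only [G, Matrix.mul_assoc]
      _ = 1 := by rw [hP'P, Matrix.one_mul, hG₁, Matrix.mul_one, hPP']
  have hdetW : W.det = W₁.det := by
    simp only [W]
    rw [det_mul, det_mul, mul_comm, ← mul_assoc, ← det_mul, hP'P, det_one, one_mul]
  have hdetG : G.det = G₁.det := by
    simp only [G]
    rw [det_mul, det_mul, mul_comm, ← mul_assoc, ← det_mul, hP'P, det_one, one_mul]
  refine ⟨W, G, by rw [hdetW]; exact hdetW₁, by rw [hdetG]; exact hdetG₁, ?_⟩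
  set c : F := W.det * G.det with hc
  have hc0 : c ≠ 0 := mul_ne_zero (by rw [hdetW]; exact hdetW₁) (by rw [hdetG]; exact hdetG₁)
  have hQ : W * G * W.adjugate * G.adjugate * Δ = P * (c • (diagonal t * L)) * P' := by
    rw [adjugate_eq_of_mul_eq_one W _ hW, adjugate_eq_of_mul_eq_one G _ hG, ← hΔL]
    simp only [Matrix.mul_smul, Matrix.smul_mul, smul_smul]
    rw [mul_comm G.det W.det, ← hc]
    congr 1
    calc W * G * (P * W₁' * P') * (P * G₁' * P') * (P * L * P')
        = P * (W₁ * ((P' * P) * (G₁ * ((P' * P) * (W₁' * ((P' * P) * (G₁' * ((P' * P) * L)))))))) * P' := by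
          simp only [W, G, Matrix.mul_assoc]
      _ = P * (W₁ * G₁ * W₁' * G₁' * L) * P' := by
          simp only [hP'P, Matrix.one_mul, Matrix.mul_assoc]
      _ = P * (diagonal t * L) * P' := by rw [hcomm]
  rw [hQ]
  have hconj : (P * (c • (diagonal t * L)) * P').charpoly = (c • (diagonal t * L)).charpoly := by
    rw [Matrix.charpoly_mul_comm, ← Matrix.mul_assoc, hP'P, Matrix.one_mul]
  rw [hconj]
  set M := c • (diagonal t * L) with hM
  have hMentry : ∀ i j, M i j = c * (t i * L i j) := by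
    intro i j
    rw [hM, Matrix.smul_apply, Matrix.diagonal_mul, smul_eq_mul]
  have hMup : Mᵀ.IsUpperTriangular := by
    intro i j hij
    rw [transpose_apply, hMentry, hL j i hij, mul_zero, mul_zero]
  rw [← Matrix.charpoly_transpose, Matrix.charpoly_of_isUpperTriangular _ hMup,
    Polynomial.separable_prod_X_sub_C_iff]
  intro i j hij
  by_contra hne
  simp only [transpose_apply, hMentry] at hij
  have h1 : t i * L i i = t j * L j j := mul_left_cancel₀ hc0 hij
  apply hx i j hne
  simp only [t, a] at h1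
  have hai : x ^ ((σ i : Fin (m + 1)) : ℕ) ^ 2 ≠ 0 := pow_ne_zero _ hx0
  have haj : x ^ ((σ j : Fin (m + 1)) : ℕ) ^ 2 ≠ 0 := pow_ne_zero _ hx0
  field_simp at h1
  rw [pow_add, pow_add]
  linear_combination h1

end Groth.Agent.Lib.Helper15.Tri
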