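import Mathlib
import Groth.Agent.Lib.Helper15.CommBase

/-!
# Generic commutators (helper15)

For an invertible matrix `Δ` over an algebraically closed field `Ω ⊇ k` with `k` infinite, and a
family `B` spanning `M_n(Ω)`, there are `k`-rational combinations `W`, `G` of the `B i`, invertible,
with `W G adj(W) adj(G) Δ` of separable characteristic polynomial.
-/

set_option autoImplicit false

namespace Groth.Agent.Lib.Helper15.Tri

open Matrix Polynomial

/-- separability via the resultant with formal degrees -/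
theorem separable_iff_resultant_ne_zero {F : Type*} [Field F] {P : F[X]} (hP : P.Monic) (n : ℕ)
    (hn : P.natDegree = n) :
    P.Separable ↔ resultant P (derivative P) n (n - 1) ≠ 0 := by
  subst hn
  have hle : (derivative P).natDegree ≤ P.natDegree - 1 := natDegree_derivative_le P
  obtain ⟨e, he⟩ := Nat.exists_eq_add_of_le hle
  have h1 : resultant P (derivative P) P.natDegree (P.natDegree - 1) =
      resultant P (derivative P) := by
    rw [he, resultant_add_right_deg _ _ _ _ _ le_rfl, coeff_natDegree, hP.leadingCoeff, one_pow,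
      one_mul]
  rw [h1, Ne, resultant_eq_zero_iff, separable_def]
  constructor
  · intro h hcon
    exact hcon.2 h
  · intro h
    by_contra hcon
    exact h ⟨Or.inl hP.ne_zero, hcon⟩

section generic

variable {k : Type*} [Field k] [Infinite k] {Ω : Type*} [Field Ω] [Algebra k Ω] [IsAlgClosed Ω]
  {ι : Type*} [Fintype ι] [DecidableEq ι] (n : ℕ)

/-- the generic combination of the `B i` -/
noncomputable def genW (B : ι → Matrix (Fin n) (Fin n) Ω) (inj : ι → ι ⊕ ι) :
    Matrix (Fin n) (Fin n) (MvPolynomial (ι ⊕ ι) Ω) :=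
  ∑ i, (MvPolynomial.X (inj i) : MvPolynomial (ι ⊕ ι) Ω) • (B i).map MvPolynomial.C

theorem genW_map (B : ι → Matrix (Fin n) (Fin n) Ω) (inj : ι → ι ⊕ ι) (p : ι ⊕ ι → Ω) :
    (genW n B inj).map (MvPolynomial.eval p) = ∑ i, p (inj i) • B i := by
  ext a b
  simp only [genW, Matrix.map_apply, Matrix.sum_apply, Matrix.smul_apply, smul_eq_mul, map_sum,
    map_mul, MvPolynomial.eval_X, MvPolynomial.eval_C]

/-- the generic `W G adj(W) adj(G) Δ` -/
noncomputable def genQ (B : ι → Matrix (Fin n) (Fin n) Ω) (Δ : Matrix (Fin n) (Fin n) Ω) :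
    Matrix (Fin n) (Fin n) (MvPolynomial (ι ⊕ ι) Ω) :=
  genW n B Sum.inl * genW n B Sum.inr * (genW n B Sum.inl).adjugate *
    (genW n B Sum.inr).adjugate * Δ.map MvPolynomial.C

theorem genQ_map (B : ι → Matrix (Fin n) (Fin n) Ω) (Δ : Matrix (Fin n) (Fin n) Ω)
    (p : ι ⊕ ι → Ω) :
    (genQ n B Δ).map (MvPolynomial.eval p) =
      (∑ i, p (Sum.inl i) • B i) * (∑ i, p (Sum.inr i) • B i) *
        (∑ i, p (Sum.inl i) • B i).adjugate * (∑ i, p (Sum.inr i) • B i).adjugate * Δ := by
  have hadj : ∀ M : Matrix (Fin n) (Fin n) (MvPolynomial (ι ⊕ ι) Ω),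
      M.adjugate.map (MvPolynomial.eval p) = (M.map (MvPolynomial.eval p)).adjugate := fun M =>
    RingHom.map_adjugate (MvPolynomial.eval p) M
  have hΔ : (Δ.map MvPolynomial.C).map (MvPolynomial.eval p) = Δ := by
    ext a b
    simp
  rw [genQ, Matrix.map_mul, Matrix.map_mul, Matrix.map_mul, Matrix.map_mul, hadj, hadj, genW_map,
    genW_map, hΔ]

/-- the polynomial whose non-vanishing expresses that `W`, `G` are invertible and `Q` regular -/
noncomputable def genΦ (B : ι → Matrix (Fin n) (Fin n) Ω) (Δ : Matrix (Fin n) (Fin n) Ω) :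
    MvPolynomial (ι ⊕ ι) Ω :=
  resultant (genQ n B Δ).charpoly (derivative (genQ n B Δ).charpoly) n (n - 1) *
    (genW n B Sum.inl).det * (genW n B Sum.inr).det

theorem genΦ_eval (B : ι → Matrix (Fin n) (Fin n) Ω) (Δ : Matrix (Fin n) (Fin n) Ω)
    (p : ι ⊕ ι → Ω) :
    MvPolynomial.eval p (genΦ n B Δ) ≠ 0 ↔
      ((∑ i, p (Sum.inl i) • B i) * (∑ i, p (Sum.inr i) • B i) *
        (∑ i, p (Sum.inl i) • B i).adjugate * (∑ i, p (Sum.inr i) • B i).adjugate *
          Δ).charpoly.Separable ∧ (∑ i, p (Sum.inl i) • B i).det ≠ 0 ∧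
        (∑ i, p (Sum.inr i) • B i).det ≠ 0 := by
  have h1 : MvPolynomial.eval p
      (resultant (genQ n B Δ).charpoly (derivative (genQ n B Δ).charpoly) n (n - 1)) =
      resultant ((genQ n B Δ).map (MvPolynomial.eval p)).charpoly
        (derivative ((genQ n B Δ).map (MvPolynomial.eval p)).charpoly) n (n - 1) := by
    rw [Matrix.charpoly_map, Polynomial.derivative_map, resultant_map_map]
  have h2 : ∀ M : Matrix (Fin n) (Fin n) (MvPolynomial (ι ⊕ ι) Ω),
      MvPolynomial.eval p M.det = (M.map (MvPolynomial.eval p)).det := fun M =>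
    RingHom.map_det (MvPolynomial.eval p) M
  rw [genΦ, map_mul, map_mul, h1, h2, h2, genQ_map, genW_map, genW_map, mul_ne_zero_iff,
    mul_ne_zero_iff, and_assoc]
  rw [← separable_iff_resultant_ne_zero (Matrix.charpoly_monic _) n
    (by rw [Matrix.charpoly_natDegree_eq_dim, Fintype.card_fin])]

/-- **Generic commutator**: rational points where everything is invertible and regular. -/
theorem exists_rational_commutator_separable (B : ι → Matrix (Fin n) (Fin n) Ω)
    (hB : ∀ M : Matrix (Fin n) (Fin n) Ω, ∃ c : ι → Ω, M = ∑ i, c i • B i)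
    (Δ : Matrix (Fin n) (Fin n) Ω) (hΔ : Δ.det ≠ 0) :
    ∃ x y : ι → k,
      ((∑ i, algebraMap k Ω (x i) • B i) * (∑ i, algebraMap k Ω (y i) • B i) *
        (∑ i, algebraMap k Ω (x i) • B i).adjugate * (∑ i, algebraMap k Ω (y i) • B i).adjugate *
          Δ).charpoly.Separable ∧ (∑ i, algebraMap k Ω (x i) • B i).det ≠ 0 ∧
        (∑ i, algebraMap k Ω (y i) • B i).det ≠ 0 := by
  obtain ⟨W₀, G₀, hW₀, hG₀, hsep⟩ := exists_commutator_separable n Δ hΔ
  obtain ⟨cW, hcW⟩ := hB W₀
  obtain ⟨cG, hcG⟩ := hB G₀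
  have hΦ0 : genΦ n B Δ ≠ 0 := by
    intro h0
    have h1 : MvPolynomial.eval (Sum.elim cW cG) (genΦ n B Δ) ≠ 0 := by
      rw [genΦ_eval]
      simp only [Sum.elim_inl, Sum.elim_inr, ← hcW, ← hcG]
      exact ⟨hsep, hW₀, hG₀⟩
    rw [h0, map_zero] at h1
    exact h1 rfl
  have hex : ∃ p ∈ Set.univ.pi (fun _ : ι ⊕ ι => Set.range (algebraMap k Ω)),
      MvPolynomial.eval p (genΦ n B Δ) ≠ 0 := by
    by_contra hcon
    push Not at hcon
    apply hΦ0
    refine MvPolynomial.funext_set (fun _ => Set.range (algebraMap k Ω))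
      (fun _ => Set.infinite_range_of_injective (algebraMap k Ω).injective) fun p hp => ?_
    rw [hcon p hp, map_zero]
  obtain ⟨p, hp, hpΦ⟩ := hex
  have hp' : ∀ j, ∃ c : k, algebraMap k Ω c = p j := fun j => hp j (Set.mem_univ j)
  choose q hq using hp'
  rw [genΦ_eval] at hpΦ
  refine ⟨fun i => q (Sum.inl i), fun i => q (Sum.inr i), ?_⟩
  simp only [hq]
  exact hpΦ

end generic

end Groth.Agent.Lib.Helper15.Tri
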