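import Mathlib
import Groth.Prelude.Def_GSzCSA

/-!
# Reduced norm basics (helper15)
-/

set_option autoImplicit false
universe u v w
open scoped TensorProduct

namespace Groth.Agent.Lib.Helper15.CSA

section baseChange

variable (k : Type u) [Field k] (K : Type v) [Field K] [Algebra k K]
variable (A : Type w) [Ring A] [Algebra k A]

theorem mulLeft_baseChange (a : A) :
    (LinearMap.mulLeft k a).baseChange K = LinearMap.mulLeft K ((1 : K) ⊗ₜ[k] a) := by
  ext b
  simp [Algebra.TensorProduct.tmul_mul_tmul]

theorem norm_one_tmul [FiniteDimensional k A] (a : A) :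
    Algebra.norm K ((1 : K) ⊗ₜ[k] a) = algebraMap k K (Algebra.norm k a) := by
  rw [Algebra.norm_apply, Algebra.norm_apply, Algebra.coe_lmul_eq_mul, Algebra.coe_lmul_eq_mul]
  change LinearMap.det (LinearMap.mulLeft K ((1 : K) ⊗ₜ[k] a)) =
    algebraMap k K (LinearMap.det (LinearMap.mulLeft k a))
  rw [← mulLeft_baseChange, LinearMap.det_baseChange]

theorem trace_mulLeft_one_tmul [FiniteDimensional k A] (a : A) :
    LinearMap.trace K (K ⊗[k] A) (LinearMap.mulLeft K ((1 : K) ⊗ₜ[k] a)) =
      algebraMap k K (LinearMap.trace k A (LinearMap.mulLeft k a)) := by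
  rw [← mulLeft_baseChange, LinearMap.trace_baseChange]

end baseChange

section matrix

variable (K : Type v) [Field K] {n : Type*} [Fintype n] [DecidableEq n]

/-- `Matrix.vec` as a linear equivalence. -/
def vecEquiv : Matrix n n K ≃ₗ[K] (n × n → K) where
  toFun := Matrix.vec
  invFun v := Matrix.of fun i j => v (j, i)
  map_add' _ _ := rfl
  map_smul' _ _ := rfl
  left_inv _ := rfl
  right_inv _ := rfl

open Matrix Kronecker in
theorem vecEquiv_conj_mulLeft (M : Matrix n n K) :
    (vecEquiv K).conj (LinearMap.mulLeft K M) = Matrix.toLin' ((1 : Matrix n n K) ⊗ₖ M) := by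
  apply LinearMap.ext
  intro v
  obtain ⟨X, rfl⟩ := (vecEquiv K (n := n)).surjective v
  rw [LinearEquiv.conj_apply_apply, LinearEquiv.symm_apply_apply, LinearMap.mulLeft_apply,
    Matrix.toLin'_apply]
  exact Matrix.vec_mul_eq_mulVec M X

open Matrix Kronecker in
theorem det_mulLeft_matrix (M : Matrix n n K) :
    LinearMap.det (LinearMap.mulLeft K M) = M.det ^ Fintype.card n := by
  rw [← LinearMap.det_conj _ (vecEquiv K)]
  change LinearMap.det ((vecEquiv K).conj (LinearMap.mulLeft K M)) = _
  rw [vecEquiv_conj_mulLeft, LinearMap.det_toLin', Matrix.det_kronecker]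
  simp

open Matrix Kronecker in
theorem trace_mulLeft_matrix (M : Matrix n n K) :
    LinearMap.trace K _ (LinearMap.mulLeft K M) = Fintype.card n • M.trace := by
  rw [← LinearMap.trace_conj' _ (vecEquiv K), vecEquiv_conj_mulLeft, Matrix.trace_toLin'_eq,
    Matrix.trace_kronecker]
  simp

theorem norm_matrix (M : Matrix n n K) : Algebra.norm K M = M.det ^ Fintype.card n := by
  rw [Algebra.norm_apply, Algebra.coe_lmul_eq_mul]
  exact det_mulLeft_matrix K M

end matrix

section charpoly

open Matrix Kronecker Polynomial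

theorem charpoly_kronecker_one {R : Type*} [CommRing R] {m n : Type*} [Fintype m] [Fintype n]
    [DecidableEq m] [DecidableEq n] (M : Matrix m m R) :
    (M ⊗ₖ (1 : Matrix n n R)).charpoly = M.charpoly ^ Fintype.card n := by
  have h : charmatrix (M ⊗ₖ (1 : Matrix n n R)) = charmatrix M ⊗ₖ (1 : Matrix n n R[X]) := by
    ext ⟨i, j⟩ ⟨i', j'⟩
    simp only [charmatrix_apply, kroneckerMap_apply, Matrix.one_apply, Matrix.diagonal_apply,
      Prod.mk.injEq]
    by_cases h1 : i = i' <;> by_cases h2 : j = j' <;> simp [h1, h2]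
  rw [Matrix.charpoly, h, Matrix.det_kronecker]
  simp [Matrix.charpoly]

theorem charpoly_one_kronecker {R : Type*} [CommRing R] {m n : Type*} [Fintype m] [Fintype n]
    [DecidableEq m] [DecidableEq n] (M : Matrix n n R) :
    ((1 : Matrix m m R) ⊗ₖ M).charpoly = M.charpoly ^ Fintype.card m := by
  have h : charmatrix ((1 : Matrix m m R) ⊗ₖ M) = (1 : Matrix m m R[X]) ⊗ₖ charmatrix M := by
    ext ⟨i, j⟩ ⟨i', j'⟩
    simp only [charmatrix_apply, kroneckerMap_apply, Matrix.one_apply, Matrix.diagonal_apply,
      Prod.mk.injEq]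
    by_cases h1 : i = i' <;> by_cases h2 : j = j' <;> simp [h1, h2]
  rw [Matrix.charpoly, h, Matrix.det_kronecker]
  simp [Matrix.charpoly]

theorem monic_eq_of_pow_eq {F : Type*} [Field F] {P Q : F[X]} (hP : P.Monic) (hQ : Q.Monic)
    {n : ℕ} (hn : n ≠ 0) (h : P ^ n = Q ^ n) : P = Q := by
  have h1 : P ∣ Q := (IsIntegrallyClosed.pow_dvd_pow_iff hn).mp (h ▸ dvd_rfl)
  have h2 : Q ∣ P := (IsIntegrallyClosed.pow_dvd_pow_iff hn).mp (h ▸ dvd_rfl)
  exact eq_of_monic_of_associated hP hQ (associated_of_dvd_dvd h1 h2)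

/-- The characteristic polynomial of left multiplication by `M` on the matrix algebra. -/
theorem charpoly_mulLeft_matrix (K : Type v) [Field K] {n : Type*} [Fintype n] [DecidableEq n]
    (M : Matrix n n K) :
    (LinearMap.mulLeft K M).charpoly = M.charpoly ^ Fintype.card n := by
  rw [← LinearEquiv.charpoly_conj (vecEquiv K), vecEquiv_conj_mulLeft, Matrix.charpoly_toLin',
    charpoly_one_kronecker]

theorem charpoly_mulLeft_one_tmul (k : Type u) [Field k] (K : Type v) [Field K] [Algebra k K]
    (A : Type w) [Ring A] [Algebra k A] [FiniteDimensional k A] (a : A) :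
    (LinearMap.mulLeft K ((1 : K) ⊗ₜ[k] a)).charpoly =
      (LinearMap.mulLeft k a).charpoly.map (algebraMap k K) := by
  rw [← mulLeft_baseChange, LinearMap.charpoly_baseChange]

/-- If `K` is a field extension of `k` mapping into a finite-dimensional `k`-algebra `A`, then `A` is
free over `K` of some rank `r` and the characteristic polynomial of left multiplication by `ι x` on
`A` is the `r`-th power of that of `x` on `K`. -/
theorem charpoly_mulLeft_of_subfield (k : Type*) [Field k] (A : Type*) [Ring A] [Algebra k A]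
    [FiniteDimensional k A] (K : Type*) [Field K] [Algebra k K] [FiniteDimensional k K]
    (ι : K →ₐ[k] A) :
    ∃ r : ℕ, Module.finrank k A = Module.finrank k K * r ∧
      ∀ x : K, (LinearMap.mulLeft k (ι x)).charpoly = (LinearMap.mulLeft k x).charpoly ^ r := by
  classical
  let _ : Module K A := Module.compHom A (ι : K →+* A)
  have hsmul : ∀ (x : K) (a : A), x • a = ι x * a := fun _ _ => rfl
  have : IsScalarTower k K A := ⟨fun c x a => by
    rw [hsmul, hsmul, map_smul, smul_mul_assoc]⟩
  have : Module.Finite K A := Module.Finite.of_restrictScalars_finite k K A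
  let b := Module.finBasis k K
  let c := Module.finBasis K A
  refine ⟨Module.finrank K A, (Module.finrank_mul_finrank k K A).symm, fun x => ?_⟩
  have hmat : LinearMap.toMatrix (b.smulTower c) (b.smulTower c) (LinearMap.mulLeft k (ι x)) =
      (LinearMap.toMatrix b b (LinearMap.mulLeft k x)) ⊗ₖ
        (1 : Matrix (Fin (Module.finrank K A)) (Fin (Module.finrank K A)) k) := by
    ext ⟨i, j⟩ ⟨i', j'⟩
    rw [LinearMap.toMatrix_apply, kroneckerMap_apply, LinearMap.toMatrix_apply,
      Module.Basis.smulTower_repr, Module.Basis.smulTower_apply, LinearMap.mulLeft_apply,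
      LinearMap.mulLeft_apply]
    simp only
    rw [hsmul, ← mul_assoc, ← map_mul, ← hsmul, map_smul, Module.Basis.repr_self,
      Finsupp.smul_apply, Finsupp.single_apply, Matrix.one_apply]
    by_cases hj : j' = j
    · subst hj; simp
    · simp [hj, Ne.symm hj]
  rw [← LinearMap.charpoly_toMatrix _ (b.smulTower c), hmat, charpoly_kronecker_one,
    LinearMap.charpoly_toMatrix, Fintype.card_fin]

end charpoly

section degree

variable (k : Type u) [Field k] (K : Type v) [Field K] [Algebra k K]
variable (A : Type w) [Ring A] [Algebra k A]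

theorem finrank_eq_sq_of_algEquiv_matrix {n : ℕ} (φ : K ⊗[k] A ≃ₐ[K] Matrix (Fin n) (Fin n) K) :
    Module.finrank k A = n ^ 2 := by
  have h1 : Module.finrank K (K ⊗[k] A) = Module.finrank k A := Module.finrank_baseChange
  have h2 := φ.toLinearEquiv.finrank_eq
  rw [Module.finrank_matrix] at h2
  simp at h2
  rw [h2, sq]

theorem conj_mulLeft {n : ℕ} (φ : K ⊗[k] A ≃ₐ[K] Matrix (Fin n) (Fin n) K) (w : K ⊗[k] A) :
    φ.toLinearEquiv.conj (LinearMap.mulLeft K w) = LinearMap.mulLeft K (φ w) := by
  apply LinearMap.ext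
  intro X
  obtain ⟨Y, rfl⟩ := φ.surjective X
  simp

end degree

section subfield

open Polynomial

/-- For a splitting `φ : K' ⊗ A ≃ M_n(K')` and a subfield `ι : K → A` of degree `n`, the reduced
characteristic polynomial of `ι x` is the characteristic polynomial of `x` over `k`. -/
theorem charpoly_eq_of_subfield (k : Type u) [Field k] (A : Type w) [Ring A] [Algebra k A]
    [FiniteDimensional k A] (K' : Type v) [Field K'] [Algebra k K'] (n : ℕ) (hn : n ≠ 0)
    (φ : K' ⊗[k] A ≃ₐ[K'] Matrix (Fin n) (Fin n) K')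
    (K : Type*) [Field K] [Algebra k K] [FiniteDimensional k K]
    (hK : Module.finrank k K = n) (ι : K →ₐ[k] A) (x : K) :
    (φ ((1 : K') ⊗ₜ[k] ι x)).charpoly =
      ((LinearMap.mulLeft k x).charpoly).map (algebraMap k K') := by
  obtain ⟨r, hr, hcp⟩ := charpoly_mulLeft_of_subfield k A K ι
  have hA := finrank_eq_sq_of_algEquiv_matrix k K' A φ
  have hrn : r = n := by
    rw [hA, hK, sq] at hr
    exact (Nat.eq_of_mul_eq_mul_left (Nat.pos_of_ne_zero hn) hr).symm
  subst hrn
  refine monic_eq_of_pow_eq (Matrix.charpoly_monic _)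
    ((LinearMap.charpoly_monic _).map _) hn ?_
  have h1 := charpoly_mulLeft_matrix K' (φ ((1 : K') ⊗ₜ[k] ι x))
  rw [Fintype.card_fin] at h1
  rw [← h1, ← conj_mulLeft, LinearEquiv.charpoly_conj, charpoly_mulLeft_one_tmul, hcp,
    Polynomial.map_pow]

theorem _root_.LinearMap.trace_eq_neg_charpoly_coeff' {k : Type*} [Field k] {V : Type*}
    [AddCommGroup V] [Module k V] [FiniteDimensional k V] [Nontrivial V] (f : V →ₗ[k] V) :
    LinearMap.trace k V f = -f.charpoly.coeff (Module.finrank k V - 1) := by
  have : Nonempty (Fin (Module.finrank k V)) := ⟨⟨0, Module.finrank_pos⟩⟩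
  rw [LinearMap.trace_eq_matrix_trace k (Module.finBasis k V) f,
    Matrix.trace_eq_neg_charpoly_coeff, LinearMap.charpoly_toMatrix, Fintype.card_fin]

end subfield

end Groth.Agent.Lib.Helper15.CSA
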