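import Mathlib
import Groth.Agent.Lib.Helper15.RedNorm

set_option autoImplicit false
universe u v w
open scoped TensorProduct
open Polynomial

namespace Groth.Agent.Lib.Helper15.CSA

section subfieldGeneral

/-- For a splitting `φ : K' ⊗ A ≃ M_n(K')` and a subfield `ι : K → A` of degree `d` with `d * t = n`,
the reduced characteristic polynomial of `ι x` is the `t`-th power of the characteristic polynomial
of `x` over `k`. -/
theorem charpoly_eq_of_subfield_pow (k : Type u) [Field k] (A : Type w) [Ring A] [Algebra k A]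
    [FiniteDimensional k A] (K' : Type v) [Field K'] [Algebra k K'] (n : ℕ) (hn : n ≠ 0)
    (φ : K' ⊗[k] A ≃ₐ[K'] Matrix (Fin n) (Fin n) K')
    (K : Type*) [Field K] [Algebra k K] [FiniteDimensional k K] (t : ℕ)
    (hK : Module.finrank k K * t = n) (ι : K →ₐ[k] A) (x : K) :
    (φ ((1 : K') ⊗ₜ[k] ι x)).charpoly =
      (((LinearMap.mulLeft k x).charpoly).map (algebraMap k K')) ^ t := by
  obtain ⟨r, hr, hcp⟩ := charpoly_mulLeft_of_subfield k A K ι
  have hA := finrank_eq_sq_of_algEquiv_matrix k K' A φ
  have hdpos : 0 < Module.finrank k K := Module.finrank_pos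
  have hrn : r = t * n := by
    rw [hA, sq] at hr
    have : Module.finrank k K * r = Module.finrank k K * (t * n) := by
      rw [← hr, ← mul_assoc, hK]
    exact Nat.eq_of_mul_eq_mul_left hdpos this
  refine monic_eq_of_pow_eq (Matrix.charpoly_monic _)
    (((LinearMap.charpoly_monic _).map _).pow _) hn ?_
  have h1 := charpoly_mulLeft_matrix K' (φ ((1 : K') ⊗ₜ[k] ι x))
  rw [Fintype.card_fin] at h1
  rw [← h1, ← conj_mulLeft, LinearEquiv.charpoly_conj, charpoly_mulLeft_one_tmul, hcp,
    Polynomial.map_pow, hrn, pow_mul]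

/-- the reduced norm restricted to a subfield of degree `d`, `d * t = n`, is the `t`-th power of
the field norm -/
theorem redNorm_of_subfield_pow {k : Type u} [Field k] {A : Type v} [Ring A] [Algebra k A]
    [FiniteDimensional k A] [Nontrivial A]
    {N : A →* k} (hN : CSAGal.IsRedNorm k A N)
    {K : Type w} [Field K] [Algebra k K] [FiniteDimensional k K] (n t : ℕ)
    (hA : Module.finrank k A = n ^ 2) (hK : Module.finrank k K * t = n) (ι : K →ₐ[k] A) (x : K) :
    N (ι x) = (Algebra.norm k x) ^ t := by
  obtain ⟨K', _, _, _, n', φ, hφ⟩ := hN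
  have hdpos : 0 < Module.finrank k K := Module.finrank_pos
  have hn' : n' = n := by
    have := finrank_eq_sq_of_algEquiv_matrix k K' A φ
    rw [hA] at this
    exact (Nat.pow_left_injective (n := 2) (by norm_num) this).symm
  subst hn'
  have hn0 : n' ≠ 0 := by
    intro h
    have hA0 : Module.finrank k A = 0 := by rw [hA, h]; rfl
    have : 0 < Module.finrank k A := Module.finrank_pos
    omega
  apply FaithfulSMul.algebraMap_injective k K'
  have hcp := charpoly_eq_of_subfield_pow k A K' n' hn0 φ K t hK ι x
  rw [hφ, Matrix.det_eq_sign_charpoly_coeff, hcp, map_pow, Algebra.norm_apply,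
    LinearMap.det_eq_sign_charpoly_coeff, Algebra.coe_lmul_eq_mul, Fintype.card_fin,
    ← Polynomial.map_pow, Polynomial.coeff_map, Polynomial.coeff_zero_eq_eval_zero,
    Polynomial.eval_pow, ← Polynomial.coeff_zero_eq_eval_zero]
  rw [map_pow, map_mul, map_pow, mul_pow, ← pow_mul, hK, map_neg, map_one]
  rfl

end subfieldGeneral

end Groth.Agent.Lib.Helper15.CSA
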