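import Mathlib
import Groth.Agent.Lib.Helper5.DoubleCentralizer

/-!
# Degrees of subfields of central simple algebras; roots of unity (helper15)
-/

set_option autoImplicit false
universe u v w
open scoped TensorProduct
open Polynomial

namespace Groth.Agent.Lib.Helper15.SubfieldDegree

open Groth.Agent.Lib.Helper5.DoubleCentralizer

variable (K : Type*) [Field K] (A : Type*) [Ring A] [Algebra K A]
    [Algebra.IsCentral K A] [IsSimpleRing A] [FiniteDimensional K A]

/-- the degree of a subfield of a central simple algebra of degree `n` divides `n` -/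
theorem finrank_dvd_of_algHom (n : ℕ) (hn : Module.finrank K A = n ^ 2)
    (L : Type*) [Field L] [Algebra K L] [FiniteDimensional K L] (ι : L →ₐ[K] A) :
    Module.finrank K L ∣ n := by
  let B : Subalgebra K A := ι.range
  have hinj : Function.Injective ι := ι.toRingHom.injective
  let eB : L ≃ₐ[K] B := AlgEquiv.ofInjective ι hinj
  have hBs : IsSimpleRing B := IsSimpleRing.of_ringEquiv eB.toRingEquiv inferInstance
  have hBfin : Module.finrank K B = Module.finrank K L := eB.toLinearEquiv.finrank_eq.symm
  have hformula := finrank_eq_mul_centralizer K A B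
  -- the centralizer is an `L`-algebra
  have hcen : ∀ (l : L) (c : Subalgebra.centralizer K (B : Set A)), (ι l) * (c : A) = (c : A) * ι l := by
    intro l c
    exact ((Subalgebra.mem_centralizer_iff K).mp c.2 (ι l) ⟨l, rfl⟩)
  have hBC : B ≤ Subalgebra.centralizer K (B : Set A) := by
    rintro _ ⟨l, rfl⟩
    rw [Subalgebra.mem_centralizer_iff]
    rintro _ ⟨l', rfl⟩
    change ι l' * ι l = ι l * ι l'
    rw [← map_mul, ← map_mul, mul_comm]
  let φ : L →+* Subalgebra.centralizer K (B : Set A) :=
    { toFun := fun l => ⟨ι l, hBC ⟨l, rfl⟩⟩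
      map_one' := Subtype.ext (map_one ι)
      map_mul' := fun a b => Subtype.ext (map_mul ι a b)
      map_zero' := Subtype.ext (map_zero ι)
      map_add' := fun a b => Subtype.ext (map_add ι a b) }
  letI : Algebra L (Subalgebra.centralizer K (B : Set A)) :=
    RingHom.toAlgebra' φ (fun l c => Subtype.ext (hcen l c))
  haveI : IsScalarTower K L (Subalgebra.centralizer K (B : Set A)) :=
    IsScalarTower.of_algebraMap_eq fun c => Subtype.ext (by
      change algebraMap K A c = ι (algebraMap K L c)
      rw [AlgHom.commutes])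
  have htower := Module.finrank_mul_finrank K L (Subalgebra.centralizer K (B : Set A))
  rw [hn, hBfin, ← htower, ← mul_assoc, ← sq] at hformula
  have : Module.finrank K L ^ 2 ∣ n ^ 2 := ⟨_, hformula⟩
  exact (Nat.pow_dvd_pow_iff (by norm_num)).mp this

section rootsOfUnity

variable (K : Type*) [Field K] (hK : ∀ n : ℕ, 0 < n → (X ^ n - 1 : K[X]).Splits)
  (A : Type*) [Ring A] [IsDomain A] [Algebra K A]

include hK in
/-- If `K` contains all roots of unity and `x ^ m ∈ K` then `x ^ deg(minpoly x) ∈ K`. -/
theorem pow_natDegree_minpoly_mem (x : A) (hx0 : x ≠ 0) (m : ℕ) (hm : 0 < m) (a : K)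
    (hxm : x ^ m = algebraMap K A a) :
    ∃ c : K, x ^ (minpoly K x).natDegree = algebraMap K A c := by
  have hdvd : minpoly K x ∣ X ^ m - C a := by
    apply minpoly.dvd
    simp [hxm]
  have ha0 : a ≠ 0 := by
    rintro rfl
    rw [map_zero] at hxm
    exact hx0 ((pow_eq_zero_iff hm.ne').mp hxm)
  have hXm : (X ^ m - C a : K[X]) ≠ 0 := by
    intro h
    have := congrArg natDegree h
    rw [natDegree_X_pow_sub_C, natDegree_zero] at this
    omega
  have hint : IsIntegral K x := ⟨X ^ m - C a, monic_X_pow_sub_C a hm.ne', by simp [hxm]⟩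
  have hirr : Irreducible (minpoly K x) := minpoly.irreducible hint
  have hmonic : (minpoly K x).Monic := minpoly.monic hint
  set f := minpoly K x with hf
  set Ω := AlgebraicClosure K
  have hsplit : (f.map (algebraMap K Ω)).Splits := IsAlgClosed.splits _
  set S := (f.map (algebraMap K Ω)).roots with hS
  have hcard : S.card = f.natDegree := by
    rw [hS, ← natDegree_map (algebraMap K Ω)]
    exact (splits_iff_card_roots.mp hsplit)
  have hprod : f.map (algebraMap K Ω) = (S.map fun y => X - C y).prod := by
    rw [hS]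
    exact (Splits.eq_prod_roots_of_monic hsplit (hmonic.map _))
  have hrootm : ∀ y ∈ S, y ^ m = algebraMap K Ω a := by
    intro y hy
    rw [hS, mem_roots (by exact (hmonic.map _).ne_zero)] at hy
    have h2 : IsRoot ((X ^ m - C a : K[X]).map (algebraMap K Ω)) y :=
      hy.dvd (Polynomial.map_dvd _ hdvd)
    simpa [sub_eq_zero] using h2
  have hdegpos : 0 < f.natDegree := minpoly.natDegree_pos hint
  obtain ⟨y₀, hy₀⟩ : ∃ y, y ∈ S := by
    apply Multiset.card_pos_iff_exists_mem.mp
    rw [hcard]; exact hdegpos
  have hy₀0 : y₀ ≠ 0 := by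
    intro h
    have := hrootm y₀ hy₀
    rw [h, zero_pow hm.ne'] at this
    exact ha0 ((_root_.map_eq_zero _).mp this.symm)
  -- ratios of roots lie in the image of `K`
  have hratio : ∀ y ∈ S, y / y₀ ∈ (algebraMap K Ω).fieldRange := by
    intro y hy
    have h1 : (y / y₀) ^ m = 1 := by
      rw [div_pow, hrootm y hy, hrootm y₀ hy₀, div_self]
      exact (_root_.map_ne_zero _).mpr ha0
    have h2 : y / y₀ ∈ ((X ^ m - 1 : K[X]).map (algebraMap K Ω)).roots := by
      rw [mem_roots]
      · simp [h1]
      · rw [Polynomial.map_ne_zero_iff (algebraMap K Ω).injective]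
        exact X_pow_sub_C_ne_zero hm 1
    rw [(hK m hm).roots_map] at h2
    obtain ⟨z, -, hz⟩ := Multiset.mem_map.mp h2
    exact ⟨z, hz⟩
  -- the product of the roots
  have hprodroots : S.prod ∈ (algebraMap K Ω).fieldRange := by
    have h1 : (f.map (algebraMap K Ω)).eval 0 = (-1) ^ S.card * S.prod := by
      rw [hprod, eval_multiset_prod, Multiset.map_map]
      have : (S.map ((fun p => eval 0 p) ∘ fun y => X - C y)) = S.map (fun y => -y) := by
        apply Multiset.map_congr rfl
        intro y _
        simp
      rw [this, Multiset.prod_map_neg]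
    rw [eval_zero_map] at h1
    have h2 : S.prod = (-1) ^ S.card * algebraMap K Ω (f.eval 0) := by
      rw [h1, ← mul_assoc, ← mul_pow, neg_one_mul, neg_neg, one_pow, one_mul]
    rw [h2]
    refine Subfield.mul_mem _ (Subfield.pow_mem _ (Subfield.neg_mem _ (Subfield.one_mem _)) _) ⟨_, rfl⟩
  have hS0 : ∀ y ∈ S, y ≠ 0 := by
    intro y hy h
    have := hrootm y hy
    rw [h, zero_pow hm.ne'] at this
    exact ha0 ((_root_.map_eq_zero _).mp this.symm)
  set P := (S.map fun y => y / y₀).prod with hP
  have hPmem : P ∈ (algebraMap K Ω).fieldRange := by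
    apply Subfield.multiset_prod_mem
    intro t ht
    obtain ⟨y, hy, rfl⟩ := Multiset.mem_map.mp ht
    exact hratio y hy
  have hP0 : P ≠ 0 := by
    rw [hP]
    apply Multiset.prod_ne_zero
    intro h0
    obtain ⟨y, hy, hy0⟩ := Multiset.mem_map.mp h0
    rw [div_eq_zero_iff] at hy0
    rcases hy0 with h | h
    · exact hS0 y hy h
    · exact hy₀0 h
  have hSP : S.prod = P * y₀ ^ f.natDegree := by
    have : S = S.map fun y => (y / y₀) * y₀ := by
      conv_lhs => rw [← Multiset.map_id S]
      apply Multiset.map_congr rfl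
      intro y _
      rw [id, div_mul_cancel₀ _ hy₀0]
    conv_lhs => rw [this]
    rw [Multiset.prod_map_mul, Multiset.map_const', Multiset.prod_replicate, hcard]
  have hy₀r : y₀ ^ f.natDegree ∈ (algebraMap K Ω).fieldRange := by
    have : y₀ ^ f.natDegree = S.prod / P := by
      rw [hSP, mul_div_cancel_left₀ _ hP0]
    rw [this]
    exact Subfield.div_mem _ hprodroots hPmem
  obtain ⟨c, hc⟩ := hy₀r
  refine ⟨c, ?_⟩
  have hy₀root : aeval y₀ f = 0 := by
    rw [aeval_def, ← eval_map]
    have := hy₀
    rw [hS, mem_roots (hmonic.map _).ne_zero] at this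
    exact this
  have hfmin : f = minpoly K y₀ := minpoly.eq_of_irreducible_of_monic hirr hy₀root hmonic
  have hdvd2 : f ∣ X ^ f.natDegree - C c := by
    rw [hfmin]
    apply minpoly.dvd
    rw [← hfmin]
    simp [hc]
  obtain ⟨q, hq⟩ := hdvd2
  have := congrArg (aeval x) hq
  rw [map_mul, hf, minpoly.aeval, zero_mul] at this
  simpa [sub_eq_zero] using this

end rootsOfUnity

section minpolyDegree

variable (K : Type*) [Field K] (A : Type*) [DivisionRing A] [Algebra K A]
    [Algebra.IsCentral K A] [FiniteDimensional K A]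

/-- in a central division algebra of degree `n`, the degree of every element divides `n` -/
theorem natDegree_minpoly_dvd (n : ℕ) (hn : Module.finrank K A = n ^ 2) (x : A) :
    (minpoly K x).natDegree ∣ n := by
  have hint : IsIntegral K x := Algebra.IsIntegral.isIntegral x
  have hirr : Irreducible (minpoly K x) := minpoly.irreducible hint
  haveI : Fact (Irreducible (minpoly K x)) := ⟨hirr⟩
  let ι : AdjoinRoot (minpoly K x) →ₐ[K] A :=
    Ideal.Quotient.liftₐ (Ideal.span {minpoly K x}) (aeval x) (fun p hp => by
      obtain ⟨q, rfl⟩ := Ideal.mem_span_singleton.mp hp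
      rw [map_mul, minpoly.aeval, zero_mul])
  have hfd : FiniteDimensional K (AdjoinRoot (minpoly K x)) :=
    (AdjoinRoot.powerBasis hirr.ne_zero).finite
  have := finrank_dvd_of_algHom K A n hn (AdjoinRoot (minpoly K x)) ι
  rwa [(AdjoinRoot.powerBasis hirr.ne_zero).finrank, AdjoinRoot.powerBasis_dim] at this

end minpolyDegree

end Groth.Agent.Lib.Helper15.SubfieldDegree
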