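import Mathlib
import Groth.Agent.Lib.Helper15.SubfieldDegree
import Groth.Agent.Lib.Helper15.RedNormSubfield
import Groth.Agent.Lib.Helper8.DivSub

/-!
# Elements of finite order modulo the centre in division algebras (helper15)
-/

set_option autoImplicit false
universe u v w
open Polynomial

namespace Groth.Agent.Lib.Helper15.BddFinDiv

open Groth.Agent.Lib.Helper15.SubfieldDegree

section frob

variable (K : Type*) [Field K] (p : ℕ) [Fact p.Prime]

/-- `u ≠ 0`, `u ^ s` a `p`-th power with `s` prime to `p` ⟹ `u` is a `p`-th power -/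
theorem exists_pow_eq_of_pow_coprime (u : K) (hu : u ≠ 0) (s : ℕ) (hs : ¬ p ∣ s)
    (h : ∃ w : K, w ^ p = u ^ s) : ∃ w : K, w ^ p = u := by
  obtain ⟨w, hw⟩ := h
  have hp : p.Prime := Fact.out
  have hcop : Nat.Coprime s p := (Nat.Coprime.symm ((Nat.Prime.coprime_iff_not_dvd hp).mpr hs))
  obtain ⟨α, -, hα⟩ := Nat.exists_mul_mod_eq_one_of_coprime hcop hp.one_lt
  have hdiv := Nat.div_add_mod (s * α) p
  rw [hα] at hdiv
  -- s α = p β + 1
  set β := s * α / p
  refine ⟨w ^ α / u ^ β, ?_⟩
  rw [div_pow, ← pow_mul, mul_comm α p, pow_mul, hw, ← pow_mul, ← pow_mul, ← hdiv, pow_succ,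
    mul_comm β p]
  field_simp

end frob

section minpolyForm

variable (K : Type*) [Field K] (A : Type*) [Ring A] [IsDomain A] [Algebra K A]

/-- if `x ^ d = c` with `d` the degree of the minimal polynomial then `minpoly = X ^ d - c` -/
theorem minpoly_eq_X_pow_sub_C (x : A) (hint : IsIntegral K x) (c : K)
    (hc : x ^ (minpoly K x).natDegree = algebraMap K A c) :
    minpoly K x = X ^ (minpoly K x).natDegree - C c := by
  have hd : 0 < (minpoly K x).natDegree := minpoly.natDegree_pos hint
  have hdvd : minpoly K x ∣ X ^ (minpoly K x).natDegree - C c := by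
    apply minpoly.dvd
    simp [hc]
  have hmonic : (X ^ (minpoly K x).natDegree - C c : K[X]).Monic := monic_X_pow_sub_C c hd.ne'
  symm
  apply Polynomial.eq_of_monic_of_dvd_of_natDegree_le (minpoly.monic hint) hmonic hdvd
  rw [natDegree_X_pow_sub_C]

end minpolyForm

section coprimePart

variable (K : Type u) [Field K] (p : ℕ) [Fact p.Prime] [CharP K p]
  (hK : ∀ n : ℕ, 0 < n → (X ^ n - 1 : K[X]).Splits)
  (A : Type v) [DivisionRing A] [Algebra K A] [Algebra.IsCentral K A] [FiniteDimensional K A]

include hK in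
theorem pow_coprimePart_mem (n n' m : ℕ) (hA : Module.finrank K A = n ^ 2) (hn : n = n' * p ^ m)
    (hn' : ¬ p ∣ n') (N : A →* K) (hN : CSAGal.IsRedNorm K A N)
    (x : A) (hx : x ≠ 0) (hxr : ∃ r : ℕ, 0 < r ∧ x ^ r ∈ (algebraMap K A).range)
    (hNx : ∃ b : K, b ≠ 0 ∧ N x = b ^ (p ^ m)) :
    x ^ n' ∈ (algebraMap K A).range := by
  have hp : p.Prime := Fact.out
  obtain ⟨r, hr, a, ha⟩ := hxr
  obtain ⟨b, hb0, hNb⟩ := hNx
  have hint : IsIntegral K x := Algebra.IsIntegral.isIntegral x
  obtain ⟨c, hc⟩ := pow_natDegree_minpoly_mem K hK A x hx r hr a ha.symm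
  have hdn := natDegree_minpoly_dvd K A n hA x
  have hmin := minpoly_eq_X_pow_sub_C K A x hint c hc
  set d := (minpoly K x).natDegree with hd
  have hdpos : 0 < d := minpoly.natDegree_pos hint
  have hc0 : c ≠ 0 := by
    rintro rfl
    rw [map_zero] at hc
    exact hx ((pow_eq_zero_iff hdpos.ne').mp hc)
  -- decompose `d = p ^ e * d'`
  obtain ⟨e, d', hd', hde⟩ := Nat.exists_eq_pow_mul_and_not_dvd hdpos.ne' p hp.ne_one
  have hd'n' : d' ∣ n' := by
    have h1 : d' ∣ n' * p ^ m := hn ▸ (Dvd.intro_left _ hde.symm).trans hdn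
    exact (Nat.Coprime.dvd_of_dvd_mul_right
      (Nat.Coprime.pow_right m ((Nat.Coprime.symm ((Nat.Prime.coprime_iff_not_dvd hp).mpr hd')))) h1)
  have hem : e ≤ m := by
    have h1 : p ^ e ∣ n' * p ^ m := hn ▸ (Dvd.intro _ hde.symm).trans hdn
    have h2 : p ^ e ∣ p ^ m :=
      Nat.Coprime.dvd_of_dvd_mul_left
        (Nat.Coprime.pow_left e ((Nat.Prime.coprime_iff_not_dvd hp).mpr hn')) h1
    exact (Nat.pow_dvd_pow_iff_le_right hp.one_lt).mp h2
  obtain ⟨s, hs⟩ := hd'n'
  have hps : ¬ p ∣ s := fun h => hn' (hs ▸ Dvd.dvd.mul_left h d')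
  rcases Nat.eq_zero_or_pos e with he0 | hepos
  · -- `d ∣ n'`
    rw [he0, pow_zero, one_mul] at hde
    refine ⟨c ^ s, ?_⟩
    rw [map_pow, ← hc, ← pow_mul, hde, ← hs]
  exfalso
  -- (1) `c` is not a `p`-th power
  have hcp : ¬ ∃ g : K, g ^ p = c := by
    rintro ⟨g, hg⟩
    haveI : CharP A p := charP_of_injective_algebraMap (algebraMap K A).injective p
    have hdeq : d = (p ^ (e - 1) * d') * p := by
      rw [hde]
      conv_lhs => rw [show e = (e - 1) + 1 by omega, pow_succ]
      ring
    have hy : (x ^ (p ^ (e - 1) * d') - algebraMap K A g) ^ p = 0 := by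
      rw [sub_pow_char_of_commute (p := p) (Algebra.commutes g _).symm, ← pow_mul, ← hdeq, hc,
        ← map_pow, hg, sub_self]
    have hy' : x ^ (p ^ (e - 1) * d') = algebraMap K A g := by
      have := pow_eq_zero_iff (hp.ne_zero) |>.mp hy
      exact sub_eq_zero.mp this
    have hd1pos : 0 < p ^ (e - 1) * d' := by
      apply Nat.mul_pos (pow_pos hp.pos _)
      exact Nat.pos_of_ne_zero fun h => hd' (h ▸ dvd_zero p)
    have hle := natDegree_le_natDegree (minpoly.degree_le_of_ne_zero K x
      (p := X ^ (p ^ (e - 1) * d') - C g) (X_pow_sub_C_ne_zero hd1pos g) (by simp [hy']))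
    rw [natDegree_X_pow_sub_C, ← hd, hdeq] at hle
    have : 2 ≤ p := hp.two_le
    nlinarith
  -- (2) the reduced norm of `x`
  have hirr : Irreducible (minpoly K x) := minpoly.irreducible hint
  haveI : Fact (Irreducible (minpoly K x)) := ⟨hirr⟩
  let ι : AdjoinRoot (minpoly K x) →ₐ[K] A :=
    Ideal.Quotient.liftₐ (Ideal.span {minpoly K x}) (aeval x) (fun q hq => by
      obtain ⟨q', rfl⟩ := Ideal.mem_span_singleton.mp hq
      rw [map_mul, minpoly.aeval, zero_mul])
  have hιroot : ι (AdjoinRoot.root (minpoly K x)) = x := by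
    change Ideal.Quotient.liftₐ _ _ _ (Ideal.Quotient.mk _ X) = x
    rw [Ideal.Quotient.liftₐ_apply]
    exact (Ideal.Quotient.lift_mk _ _ _).trans (aeval_X x)
  have hfd : FiniteDimensional K (AdjoinRoot (minpoly K x)) :=
    (AdjoinRoot.powerBasis hirr.ne_zero).finite
  have hfr : Module.finrank K (AdjoinRoot (minpoly K x)) = d := by
    rw [(AdjoinRoot.powerBasis hirr.ne_zero).finrank, AdjoinRoot.powerBasis_dim]
  have hdt : Module.finrank K (AdjoinRoot (minpoly K x)) * (s * p ^ (m - e)) = n := by
    rw [hfr, hn, hs, hde]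
    conv_rhs => rw [show m = e + (m - e) by omega, pow_add]
    ring
  have hNorm := CSA.redNorm_of_subfield_pow hN n (s * p ^ (m - e)) hA hdt ι
    (AdjoinRoot.root (minpoly K x))
  rw [hιroot] at hNorm
  have hnormroot : Algebra.norm K (AdjoinRoot.root (minpoly K x)) = (-1) ^ d * (-c) := by
    have h1 := Algebra.PowerBasis.norm_gen_eq_coeff_zero_minpoly (AdjoinRoot.powerBasis hirr.ne_zero)
    rw [AdjoinRoot.powerBasis_gen, AdjoinRoot.powerBasis_dim, AdjoinRoot.minpoly_root hirr.ne_zero,
      (minpoly.monic hint).leadingCoeff, inv_one, map_one, mul_one] at h1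
    rw [h1, ← hd]
    congr 1
    rw [hmin, coeff_sub, coeff_X_pow, coeff_C_zero, if_neg hdpos.ne, zero_sub]
  set u := (-1 : K) ^ d * (-c) with hu
  have hu0 : u ≠ 0 := by
    rw [hu]
    exact mul_ne_zero (pow_ne_zero _ (neg_ne_zero.mpr one_ne_zero)) (neg_ne_zero.mpr hc0)
  -- (3) `u ^ s` is a `p`-th power
  have hfrobinj : ∀ (j : ℕ) (y z : K), y ^ p ^ j = z ^ p ^ j → y = z := by
    intro j
    induction j with
    | zero => intro y z h; simpa using h
    | succ j ih =>
      intro y z h
      rw [pow_succ, pow_mul, pow_mul] at h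
      exact ih y z (frobenius_inj K p h)
  have hus : u ^ s = b ^ p ^ e := by
    apply hfrobinj (m - e)
    rw [← pow_mul, ← pow_mul, ← pow_add, show e + (m - e) = m by omega, ← hNb, hNorm, hnormroot]
  have hw : ∃ w : K, w ^ p = u := by
    apply exists_pow_eq_of_pow_coprime K p u hu0 s hps
    refine ⟨b ^ p ^ (e - 1), ?_⟩
    rw [hus, ← pow_mul, ← pow_succ, show e - 1 + 1 = e by omega]
  obtain ⟨w, hw⟩ := hw
  -- (4) hence `c` is a `p`-th power
  apply hcp
  refine ⟨(-1) ^ (d + 1) * w, ?_⟩
  rw [mul_pow, hw, ← pow_mul, mul_comm (d + 1) p, pow_mul, neg_one_pow_char, hu, ← mul_assoc,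
    ← pow_add]
  have : (-1 : K) ^ (d + 1 + d) = -1 := by
    rw [show d + 1 + d = 2 * d + 1 by ring, pow_succ, pow_mul]
    simp
  rw [this]
  ring

end coprimePart

section artinSchreier

variable (K : Type u) [Field K] (p : ℕ) [Fact p.Prime] [CharP K p]
  (A : Type v) [DivisionRing A] [Algebra K A] [Algebra.IsCentral K A] [FiniteDimensional K A]

/-- if `w θ w⁻¹ = θ + 1` in a central division algebra of degree `p` in characteristic `p`, then
`K(θ)` is a Galois subfield of degree `p` -/
theorem exists_galois_subfield_of_conj (hA : Module.finrank K A = p ^ 2) (θ w : A) (hw : w ≠ 0)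
    (hconj : w * θ = (θ + 1) * w) :
    ∃ (L : Type v) (_ : Field L) (_ : Algebra K L), IsGalois K L ∧ Module.finrank K L = p ∧
      Nonempty (L →ₐ[K] A) := by
  have hp : p.Prime := Fact.out
  have hint : IsIntegral K θ := Algebra.IsIntegral.isIntegral θ
  have hirr : Irreducible (minpoly K θ) := minpoly.irreducible hint
  haveI : Fact (Irreducible (minpoly K θ)) := ⟨hirr⟩
  set f := minpoly K θ with hf
  -- the embedding
  let ι : AdjoinRoot f →ₐ[K] A :=
    Ideal.Quotient.liftₐ (Ideal.span {f}) (aeval θ) (fun q hq => by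
      obtain ⟨q', rfl⟩ := Ideal.mem_span_singleton.mp hq
      rw [map_mul, hf, minpoly.aeval, zero_mul])
  have hfd : FiniteDimensional K (AdjoinRoot f) := (AdjoinRoot.powerBasis hirr.ne_zero).finite
  have hfr : Module.finrank K (AdjoinRoot f) = f.natDegree := by
    rw [(AdjoinRoot.powerBasis hirr.ne_zero).finrank, AdjoinRoot.powerBasis_dim]
  -- `f (θ + 1) = 0`
  have hpoly : ∀ q : K[X], w * aeval θ q = aeval (θ + 1) q * w := by
    intro q
    induction q using Polynomial.induction_on' with
    | add q r hq hr => rw [map_add, map_add, mul_add, add_mul, hq, hr]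
    | monomial n c =>
      have hpow : ∀ n : ℕ, w * θ ^ n = (θ + 1) ^ n * w := by
        intro n
        induction n with
        | zero => simp
        | succ n ih => rw [pow_succ, ← mul_assoc, ih, mul_assoc, hconj, ← mul_assoc, ← pow_succ]
      rw [aeval_monomial, aeval_monomial, ← mul_assoc, ← Algebra.commutes c w, mul_assoc, hpow,
        mul_assoc]
  have hroot1 : aeval (θ + 1) f = 0 := by
    have h1 := hpoly f
    rw [hf, minpoly.aeval, mul_zero] at h1
    exact (mul_eq_zero.mp h1.symm).resolve_right hw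
  -- `f ∣ f.comp (X + 1)`
  have hdvd : f ∣ f.comp (X + 1) := by
    apply minpoly.dvd
    rw [aeval_comp]
    simpa using hroot1
  -- the degree of `f` is `p`
  have hdeg : f.natDegree = p := by
    have h1 := natDegree_minpoly_dvd K A p hA θ
    rcases (Nat.dvd_prime hp).mp h1 with h | h
    · exfalso
      obtain ⟨c, hc⟩ := minpoly.natDegree_eq_one_iff.mp h
      have h2 : w * θ = θ * w := by rw [← hc]; exact (Algebra.commutes c w).symm
      rw [hconj, add_mul, one_mul] at h2
      exact hw (by simpa using h2)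
    · exact h
  -- the automorphism `root ↦ root + 1`
  have hev : f.eval₂ (Algebra.ofId K (AdjoinRoot f)) (AdjoinRoot.root f + 1) = 0 := by
    obtain ⟨q, hq⟩ := hdvd
    have h1 : aeval (AdjoinRoot.root f) (f.comp (X + 1)) = 0 := by
      rw [hq, map_mul, AdjoinRoot.aeval_eq, AdjoinRoot.mk_self, zero_mul]
    rw [aeval_comp] at h1
    simpa [aeval_def] using h1
  let σ₀ : AdjoinRoot f →ₐ[K] AdjoinRoot f :=
    AdjoinRoot.liftAlgHom f (Algebra.ofId K (AdjoinRoot f)) (AdjoinRoot.root f + 1) hev
  have hσ₀ : σ₀ (AdjoinRoot.root f) = AdjoinRoot.root f + 1 := AdjoinRoot.liftAlgHom_root _ _ _ _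
  let σ : AdjoinRoot f ≃ₐ[K] AdjoinRoot f := AlgEquiv.ofBijective σ₀ (AlgHom.bijective σ₀)
  have hσ : σ (AdjoinRoot.root f) = AdjoinRoot.root f + 1 := hσ₀
  haveI : CharP (AdjoinRoot f) p :=
    charP_of_injective_algebraMap (algebraMap K (AdjoinRoot f)).injective p
  have hσpow : ∀ j : ℕ, (σ ^ j) (AdjoinRoot.root f) = AdjoinRoot.root f + (j : AdjoinRoot f) := by
    intro j
    induction j with
    | zero => simp
    | succ j ih =>
      rw [pow_succ', AlgEquiv.mul_apply, ih, map_add, hσ, map_natCast]
      push_cast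
      ring
  have hσne : σ ≠ 1 := by
    intro h
    have h1 := hσ
    rw [h, AlgEquiv.one_apply] at h1
    exact one_ne_zero (α := AdjoinRoot f) (by simpa using h1.symm)
  have hσp : σ ^ p = 1 := by
    apply AlgEquiv.coe_toAlgHom_injective
    apply AdjoinRoot.algHom_ext
    change (σ ^ p) (AdjoinRoot.root f) = AdjoinRoot.root f
    rw [hσpow, CharP.cast_eq_zero, add_zero]
  have hord : orderOf σ = p := orderOf_eq_prime hσp hσne
  have hcard : Nat.card (AdjoinRoot f ≃ₐ[K] AdjoinRoot f) = Module.finrank K (AdjoinRoot f) := by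
    rw [hfr, hdeg]
    have h1 : p ∣ Nat.card (AdjoinRoot f ≃ₐ[K] AdjoinRoot f) := hord ▸ orderOf_dvd_natCard σ
    have h2 : Nat.card (AdjoinRoot f ≃ₐ[K] AdjoinRoot f) ≤ p := by
      rw [Nat.card_eq_fintype_card, ← hdeg, ← hfr]
      exact AlgEquiv.card_le
    have h3 : 0 < Nat.card (AdjoinRoot f ≃ₐ[K] AdjoinRoot f) := Nat.card_pos
    exact le_antisymm h2 (Nat.le_of_dvd h3 h1)
  have hgal : IsGalois K (AdjoinRoot f) := IsGalois.of_card_aut_eq_finrank K _ hcard
  haveI : Small.{v} (AdjoinRoot f) := small_of_injective ι.toRingHom.injective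
  let e : Shrink.{v} (AdjoinRoot f) ≃ₐ[K] AdjoinRoot f := Shrink.algEquiv K (AdjoinRoot f)
  exact ⟨Shrink.{v} (AdjoinRoot f), inferInstance, inferInstance, IsGalois.of_algEquiv e.symm,
    e.toLinearEquiv.finrank_eq.trans (hfr.trans hdeg), ⟨ι.comp e.toAlgHom⟩⟩

end artinSchreier

section pSymbol

variable (K : Type u) [Field K] (p : ℕ) [Fact p.Prime] [CharP K p]
  (A : Type v) [DivisionRing A] [Algebra K A] [Algebra.IsCentral K A] [FiniteDimensional K A]

/-- an inseparable element of a central division algebra of degree `p` has `p`-th power in `K` -/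
theorem pow_mem_of_not_isSeparable (hA : Module.finrank K A = p ^ 2) (x : A)
    (hx : ¬ IsSeparable K x) : x ^ p ∈ (algebraMap K A).range ∧ x ∉ (algebraMap K A).range := by
  have hp : p.Prime := Fact.out
  have hint : IsIntegral K x := Algebra.IsIntegral.isIntegral x
  have hirr : Irreducible (minpoly K x) := minpoly.irreducible hint
  rcases separable_or p hirr with h | ⟨-, g, hg, hgf⟩
  · exact absurd h hx
  have hdeg := natDegree_minpoly_dvd K A p hA x
  have hdeg2 : (minpoly K x).natDegree = g.natDegree * p := by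
    rw [← hgf, natDegree_expand]
  have hg1 : g.natDegree = 1 := by
    have hgpos : 0 < g.natDegree := by
      rcases Nat.eq_zero_or_pos g.natDegree with h0 | h0
      · exfalso
        have := minpoly.natDegree_pos hint
        rw [hdeg2, h0, zero_mul] at this
        exact lt_irrefl _ this
      · exact h0
    rw [hdeg2] at hdeg
    have : g.natDegree * p ≤ p := Nat.le_of_dvd hp.pos hdeg
    nlinarith [hp.pos]
  have hroot : aeval (x ^ p) g = 0 := by
    rw [← expand_aeval, hgf, minpoly.aeval]
  constructor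
  · have hle := natDegree_le_natDegree (minpoly.degree_le_of_ne_zero K (x ^ p) hg.ne_zero hroot)
    rw [hg1] at hle
    have hpos := minpoly.natDegree_pos (Algebra.IsIntegral.isIntegral (R := K) (x ^ p))
    exact minpoly.natDegree_eq_one_iff.mp (le_antisymm hle hpos)
  · intro hmem
    have := minpoly.natDegree_eq_one_iff.mpr hmem
    rw [hdeg2, hg1, one_mul] at this
    exact hp.one_lt.ne' this

end pSymbol

section derivation

variable (K : Type u) [Field K] (p : ℕ) [Fact p.Prime] [CharP K p]
  (A : Type v) [DivisionRing A] [Algebra K A]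

/-- the inner derivation -/
def adv (t : A) : A →ₗ[K] A := LinearMap.mulLeft K t - LinearMap.mulRight K t

variable {K A}

theorem adv_apply (t y : A) : adv K A t y = t * y - y * t := rfl

theorem adv_mul (t x y : A) : adv K A t (x * y) = adv K A t x * y + x * adv K A t y := by
  simp only [adv_apply]; noncomm_ring

theorem mulLeft_pow_apply' (t y : A) (n : ℕ) :
    ((LinearMap.mulLeft K t) ^ n) y = t ^ n * y := by
  induction n generalizing y with
  | zero => simp
  | succ n ih => rw [pow_succ, Module.End.mul_apply, ih, LinearMap.mulLeft_apply, pow_succ, mul_assoc]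

theorem mulRight_pow_apply' (t y : A) (n : ℕ) :
    ((LinearMap.mulRight K t) ^ n) y = y * t ^ n := by
  induction n generalizing y with
  | zero => simp
  | succ n ih =>
    rw [pow_succ, Module.End.mul_apply, ih, LinearMap.mulRight_apply, pow_succ', mul_assoc]

include p in
theorem adv_pow_char_eq_zero (t : A) (c : K) (ht : t ^ p = algebraMap K A c) (y : A) :
    ((adv K A t) ^ p) y = 0 := by
  have : CharP (Module.End K A) p :=
    charP_of_injective_algebraMap (algebraMap K (Module.End K A)).injective p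
  unfold adv
  rw [sub_pow_char_of_commute (p := p) (LinearMap.commute_mulLeft_right t t), LinearMap.sub_apply,
    mulLeft_pow_apply', mulRight_pow_apply', ht, Algebra.commutes, sub_self]

include p in
/-- if `t ^ p ∈ K` and `t` is not central there is `u` with `t u - u t = 1` -/
theorem exists_adv_eq_one (t : A) (c : K) (ht : t ^ p = algebraMap K A c)
    (hnc : ∃ y : A, t * y ≠ y * t) : ∃ u : A, t * u - u * t = 1 := by
  obtain ⟨y, hy⟩ := hnc
  have hp : p.Prime := Fact.out
  have hex : ∃ k : ℕ, ((adv K A t) ^ (k + 1)) y = 0 :=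
    ⟨p - 1, by rw [Nat.sub_add_cancel hp.pos]; exact adv_pow_char_eq_zero p t c ht y⟩
  classical
  set k := Nat.find hex with hk
  have hk0 : ((adv K A t) ^ (k + 1)) y = 0 := Nat.find_spec hex
  have hkpos : 0 < k := by
    rcases Nat.eq_zero_or_pos k with h0 | h0
    · exfalso
      rw [h0, zero_add, pow_one, adv_apply, sub_eq_zero] at hk0
      exact hy hk0
    · exact h0
  have hkmin : ((adv K A t) ^ k) y ≠ 0 := by
    have := Nat.find_min hex (m := k - 1) (by omega)
    rwa [Nat.sub_add_cancel hkpos] at this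
  set z := ((adv K A t) ^ (k - 1)) y with hz
  set s := ((adv K A t) ^ k) y with hs
  have hzs : adv K A t z = s := by
    rw [hz, hs, ← Module.End.mul_apply, ← pow_succ', Nat.sub_add_cancel hkpos]
  have hs0 : adv K A t s = 0 := by
    rw [hs, ← Module.End.mul_apply, ← pow_succ']
    exact hk0
  have hcomm : t * s = s * t := by
    rw [adv_apply, sub_eq_zero] at hs0
    exact hs0
  have hcomm' : t * s⁻¹ = s⁻¹ * t := by
    calc t * s⁻¹ = s⁻¹ * (s * t) * s⁻¹ := by
          rw [← mul_assoc, inv_mul_cancel₀ hkmin, one_mul]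
      _ = s⁻¹ * (t * s) * s⁻¹ := by rw [hcomm]
      _ = s⁻¹ * t := by rw [mul_assoc, mul_assoc, mul_inv_cancel₀ hkmin, mul_one]
  refine ⟨s⁻¹ * z, ?_⟩
  rw [← mul_assoc, hcomm', mul_assoc, mul_assoc, ← mul_sub, ← adv_apply (K := K), hzs,
    inv_mul_cancel₀ hkmin]

end derivation

section weyl

variable {K : Type u} [Field K] {A : Type v} [Ring A] [Algebra K A]

/-- if `v u - u v = 1` then `[q(v), u] = q'(v)` -/
theorem aeval_mul_sub_mul_aeval (v u : A) (h : v * u - u * v = 1) (q : K[X]) :
    aeval v q * u - u * aeval v q = aeval v (derivative q) := by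
  have hpow : ∀ n : ℕ, v ^ (n + 1) * u - u * v ^ (n + 1) = ((n + 1 : ℕ) : A) * v ^ n := by
    intro n
    induction n with
    | zero => simpa using h
    | succ n ih =>
      have h1 : v ^ (n + 1 + 1) * u - u * v ^ (n + 1 + 1) =
          v * (v ^ (n + 1) * u - u * v ^ (n + 1)) + (v * u - u * v) * v ^ (n + 1) := by
        rw [pow_succ' v (n + 1)]; noncomm_ring
      rw [h1, ih, h, one_mul]
      have hc : v * (((n + 1 : ℕ) : A) * v ^ n) = ((n + 1 : ℕ) : A) * v ^ (n + 1) := by
        rw [← mul_assoc, (Nat.cast_commute (n + 1) v).symm.eq, mul_assoc, ← pow_succ']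
      rw [hc]
      push_cast
      rw [add_mul (↑n + 1 : A) 1, one_mul]
  induction q using Polynomial.induction_on' with
  | add q r hq hr =>
    rw [map_add, derivative_add, map_add, add_mul, mul_add, ← hq, ← hr]; abel
  | monomial n c =>
    rcases n with _ | n
    · simp [Algebra.commutes]
    · rw [derivative_monomial, aeval_monomial, aeval_monomial, Nat.add_sub_cancel, map_mul,
        mul_assoc, ← mul_assoc u, ← Algebra.commutes c u, mul_assoc, ← mul_sub, hpow]
      rw [map_natCast, mul_assoc]

end weyl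

section generate

variable (K : Type u) [Field K] (p : ℕ) [Fact p.Prime] [CharP K p]
  (A : Type v) [DivisionRing A] [Algebra K A] [Algebra.IsCentral K A] [FiniteDimensional K A]

open Groth.Agent.Lib.Helper5.DoubleCentralizer in
/-- anything commuting with `v` is a polynomial in `v`, when `K(v)` is a maximal subfield -/
theorem exists_aeval_eq_of_commute (hA : Module.finrank K A = p ^ 2) (v : A)
    (hdeg : (minpoly K v).natDegree = p) (y : A) (hy : v * y = y * v) :
    ∃ g : K[X], aeval v g = y := by
  have hint : IsIntegral K v := Algebra.IsIntegral.isIntegral v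
  have hirr : Irreducible (minpoly K v) := minpoly.irreducible hint
  haveI : Fact (Irreducible (minpoly K v)) := ⟨hirr⟩
  let ι : AdjoinRoot (minpoly K v) →ₐ[K] A :=
    Ideal.Quotient.liftₐ (Ideal.span {minpoly K v}) (aeval v) (fun q hq => by
      obtain ⟨q', rfl⟩ := Ideal.mem_span_singleton.mp hq
      rw [map_mul, minpoly.aeval, zero_mul])
  have hιmk : ∀ q : K[X], ι (AdjoinRoot.mk _ q) = aeval v q := fun q => rfl
  have hfd : FiniteDimensional K (AdjoinRoot (minpoly K v)) :=
    (AdjoinRoot.powerBasis hirr.ne_zero).finite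
  have hfr : Module.finrank K (AdjoinRoot (minpoly K v)) = p := by
    rw [(AdjoinRoot.powerBasis hirr.ne_zero).finrank, AdjoinRoot.powerBasis_dim, hdeg]
  let M : Subalgebra K A := ι.range
  have hinj : Function.Injective ι := ι.toRingHom.injective
  let eM : AdjoinRoot (minpoly K v) ≃ₐ[K] M := AlgEquiv.ofInjective ι hinj
  have hMs : IsSimpleRing M := IsSimpleRing.of_ringEquiv eM.toRingEquiv inferInstance
  have hMfin : Module.finrank K M = p := by rw [← eM.toLinearEquiv.finrank_eq, hfr]
  have hformula := finrank_eq_mul_centralizer K A M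
  rw [hA, hMfin, sq] at hformula
  have hCfin : Module.finrank K (Subalgebra.centralizer K (M : Set A)) = p :=
    (Nat.eq_of_mul_eq_mul_left (Fact.out : p.Prime).pos hformula).symm
  have hMC : M ≤ Subalgebra.centralizer K (M : Set A) := by
    rintro _ ⟨l, rfl⟩
    rw [Subalgebra.mem_centralizer_iff]
    rintro _ ⟨l', rfl⟩
    change ι l' * ι l = ι l * ι l'
    rw [← map_mul, ← map_mul, mul_comm]
  have hMeq : Subalgebra.toSubmodule M = Subalgebra.toSubmodule (Subalgebra.centralizer K (M : Set A)) :=
    Submodule.eq_of_le_of_finrank_eq hMC (by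
      change Module.finrank K M = Module.finrank K (Subalgebra.centralizer K (M : Set A))
      rw [hMfin, hCfin])
  have hyC : y ∈ Subalgebra.centralizer K (M : Set A) := by
    rw [Subalgebra.mem_centralizer_iff]
    rintro _ ⟨l, rfl⟩
    obtain ⟨q, rfl⟩ := AdjoinRoot.mk_surjective l
    change ι (AdjoinRoot.mk _ q) * y = y * ι (AdjoinRoot.mk _ q)
    rw [hιmk]
    induction q using Polynomial.induction_on' with
    | add q r hq hr => rw [map_add, add_mul, mul_add, hq, hr]
    | monomial n c =>
      have hpow : ∀ n : ℕ, v ^ n * y = y * v ^ n := by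
        intro n
        induction n with
        | zero => simp
        | succ n ih => rw [pow_succ, mul_assoc, hy, ← mul_assoc, ih, mul_assoc]
      rw [aeval_monomial, mul_assoc, hpow, ← mul_assoc, Algebra.commutes c y, mul_assoc]
  have hyM : y ∈ M := by
    have : y ∈ Subalgebra.toSubmodule (Subalgebra.centralizer K (M : Set A)) := hyC
    rw [← hMeq] at this
    exact this
  obtain ⟨l, rfl⟩ := hyM
  obtain ⟨q, rfl⟩ := AdjoinRoot.mk_surjective l
  exact ⟨q, rfl⟩

end generate

section pSymbolMain

variable (K : Type u) [Field K] (p : ℕ) [Fact p.Prime] [CharP K p]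
  (A : Type v) [DivisionRing A] [Algebra K A] [Algebra.IsCentral K A] [FiniteDimensional K A]

open Groth.Agent.Lib.Helper5.DoubleCentralizer in
/-- `v, u` with `[v,u] = 1`, `v ^ p ∈ K`, `v ∉ K` generate a central division algebra of degree `p`
and `u ^ p ∈ K` -/
theorem adjoin_eq_top_of_commutator (hA : Module.finrank K A = p ^ 2) (v u : A)
    (hvK : v ∉ (algebraMap K A).range) (hvu : v * u - u * v = 1) :
    Algebra.adjoin K {v, u} = ⊤ := by
  have hp : p.Prime := Fact.out
  have hint : IsIntegral K v := Algebra.IsIntegral.isIntegral v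
  have hdeg : (minpoly K v).natDegree = p := by
    rcases (Nat.dvd_prime hp).mp (natDegree_minpoly_dvd K A p hA v) with h | h
    · exact absurd (minpoly.natDegree_eq_one_iff.mp h) hvK
    · exact h
  set B := Algebra.adjoin K ({v, u} : Set A) with hB
  have hBs : IsSimpleRing B := Groth.Agent.Lib.Helper8.DivSub.isSimpleRing_subalgebra K A B
  have hvB : v ∈ B := Algebra.subset_adjoin (by simp)
  have huB : u ∈ B := Algebra.subset_adjoin (by simp)
  have hCB : Subalgebra.centralizer K (B : Set A) = ⊥ := by
    rw [eq_bot_iff]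
    intro y hy
    rw [Subalgebra.mem_centralizer_iff] at hy
    have hyv : v * y = y * v := hy v hvB
    have hyu : u * y = y * u := hy u huB
    obtain ⟨g, rfl⟩ := exists_aeval_eq_of_commute K p A hA v hdeg y hyv
    set f := minpoly K v with hf
    have hfm : f.Monic := minpoly.monic hint
    set g₁ := g %ₘ f with hg₁
    have hg₁v : aeval v g₁ = aeval v g := aeval_modByMonic_eq_self_of_root (minpoly.aeval K v)
    have hg₁deg : g₁.natDegree < p := by
      rw [← hdeg]
      exact natDegree_modByMonic_lt g hfm (fun h => by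
        have := hdeg
        rw [h, natDegree_one] at this
        exact hp.ne_zero this.symm)
    have hder : aeval v (derivative g₁) = 0 := by
      rw [← aeval_mul_sub_mul_aeval v u hvu g₁, hg₁v, hyu, sub_self]
    have hder0 : derivative g₁ = 0 := by
      apply eq_zero_of_dvd_of_natDegree_lt (minpoly.dvd K v hder)
      rw [hdeg]
      exact lt_of_le_of_lt (natDegree_derivative_le g₁) (by omega)
    have hconst : g₁ = C (g₁.coeff 0) := by
      ext n
      rcases n with _ | n
      · simp
      · rw [coeff_C_succ]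
        by_cases hn : n + 1 ≤ g₁.natDegree
        · have h1 := congrArg (fun q => q.coeff n) hder0
          simp only [coeff_derivative, coeff_zero] at h1
          have h2 : ((n : K) + 1) ≠ 0 := by
            have : ((n + 1 : ℕ) : K) ≠ 0 := by
              rw [Ne, CharP.cast_eq_zero_iff K p]
              intro hdvd
              have := Nat.le_of_dvd (Nat.succ_pos n) hdvd
              omega
            simpa using this
          exact (mul_eq_zero.mp h1).resolve_right h2
        · exact coeff_eq_zero_of_natDegree_lt (by omega)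
    rw [← hg₁v, hconst, aeval_C]
    exact ⟨_, rfl⟩
  have hdc := centralizer_centralizer_eq K A B
  rw [hCB] at hdc
  rw [← hdc, Subalgebra.centralizer_eq_top_iff_subset]
  rintro _ ⟨c, rfl⟩
  rw [SetLike.mem_coe, Subalgebra.mem_center_iff]
  intro b
  exact (Algebra.commutes c b).symm

/-- `[v,u] = 1` implies `u ^ p` commutes with `v` in characteristic `p` -/
theorem commute_pow_char_of_commutator [CharP A p] (v u : A) (hvu : v * u - u * v = 1) :
    v * u ^ p = u ^ p * v := by
  have hp : p.Prime := Fact.out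
  have key : ∀ n : ℕ, v * u ^ (n + 1) - u ^ (n + 1) * v = ((n + 1 : ℕ) : A) * u ^ n := by
    intro n
    induction n with
    | zero => simpa using hvu
    | succ n ih =>
      have h1 : v * u ^ (n + 1 + 1) - u ^ (n + 1 + 1) * v =
          (v * u ^ (n + 1) - u ^ (n + 1) * v) * u + u ^ (n + 1) * (v * u - u * v) := by
        rw [pow_succ u (n + 1)]; noncomm_ring
      rw [h1, ih, hvu, mul_one, mul_assoc, ← pow_succ]
      push_cast
      rw [add_mul (↑n + 1 : A) 1, one_mul]
  have := key (p - 1)
  rw [Nat.sub_add_cancel hp.pos, CharP.cast_eq_zero, zero_mul, sub_eq_zero] at this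
  exact this

theorem exists_pSymbol_generators (hA : Module.finrank K A = p ^ 2)
    (h : ∃ x : A, ¬ IsSeparable K x) :
    ∃ v u : A, v ^ p ∈ (algebraMap K A).range ∧ u ^ p ∈ (algebraMap K A).range ∧
      v * u - u * v = 1 ∧ Algebra.adjoin K {v, u} = ⊤ := by
  obtain ⟨v, hv⟩ := h
  obtain ⟨⟨c, hc⟩, hvK⟩ := pow_mem_of_not_isSeparable K p A hA v hv
  have hnc : ∃ y : A, v * y ≠ y * v := by
    by_contra hcon
    push Not at hcon
    apply hvK
    have hcen : v ∈ Subalgebra.center K A := Subalgebra.mem_center_iff.mpr fun b => (hcon b).symm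
    exact Algebra.IsCentral.out hcen
  obtain ⟨u, hu⟩ := exists_adv_eq_one p v c hc.symm hnc
  have htop := adjoin_eq_top_of_commutator K p A hA v u hvK hu
  refine ⟨v, u, ⟨c, hc⟩, ?_, hu, htop⟩
  haveI : CharP A p := charP_of_injective_algebraMap (algebraMap K A).injective p
  have h1 := commute_pow_char_of_commutator p A v u hu
  -- `u ^ p` is central
  have hcen : u ^ p ∈ Subalgebra.center K A := by
    have hle : Algebra.adjoin K ({v, u} : Set A) ≤ Subalgebra.centralizer K {u ^ p} := by
      rw [Algebra.adjoin_le_iff]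
      intro z hz
      rw [SetLike.mem_coe, Subalgebra.mem_centralizer_iff]
      intro g hg
      rw [Set.mem_singleton_iff] at hg
      subst hg
      rcases hz with rfl | rfl
      · exact h1.symm
      · rw [← pow_succ, ← pow_succ']
    rw [htop] at hle
    rw [Subalgebra.mem_center_iff]
    intro b
    have := hle (Algebra.mem_top (x := b))
    rw [Subalgebra.mem_centralizer_iff] at this
    exact (this (u ^ p) rfl).symm
  exact Algebra.IsCentral.out hcen

end pSymbolMain

end Groth.Agent.Lib.Helper15.BddFinDiv
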