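import Mathlib
import Groth.Agent.Lib.Helper15.BddFinDiv

/-!
# Minimal polynomials of torsion elements modulo the centre in central simple algebras (helper15)

`K` contains all roots of unity, `A` central simple of degree `n`, `x ^ m ∈ Kˣ`: the minimal
polynomial of `x` is a product of `X ^ r - a_i` with `r ∣ n`.
-/

set_option autoImplicit false

open Polynomial
universe u v w

namespace Groth.Agent.Lib.Helper15.TorsionMinpoly

open Groth.Agent.Lib.Helper15.SubfieldDegree Groth.Agent.Lib.Helper15.BddFinDiv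
open Groth.Agent.Lib.Helper15.CSA Groth.Agent.Lib.Helper5.DoubleCentralizer
open scoped TensorProduct

section part1

variable (K : Type*) [Field K] (hK : ∀ n : ℕ, 0 < n → (X ^ n - 1 : K[X]).Splits)

include hK in
theorem natDegree_minpoly_le_of_pow_eq {Ω : Type*} [Field Ω] [Algebra K Ω] (θ θ' : Ω) (m : ℕ)
    (hm : 0 < m) (a : K) (ha : a ≠ 0) (h : θ ^ m = algebraMap K Ω a)
    (h' : θ' ^ m = algebraMap K Ω a) :
    (minpoly K θ').natDegree ≤ (minpoly K θ).natDegree := by
  have ha' : algebraMap K Ω a ≠ 0 := (_root_.map_ne_zero _).mpr ha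
  have hθ0 : θ ≠ 0 := by
    rintro rfl
    rw [zero_pow hm.ne'] at h
    exact ha' h.symm
  have hint : IsIntegral K θ := ⟨X ^ m - C a, monic_X_pow_sub_C a hm.ne', by simp [h]⟩
  obtain ⟨c, hc⟩ := pow_natDegree_minpoly_mem K hK Ω θ hθ0 m hm a h
  have hd : 0 < (minpoly K θ).natDegree := minpoly.natDegree_pos hint
  set d := (minpoly K θ).natDegree with hd_def
  have h1 : (θ' / θ) ^ m = 1 := by
    rw [div_pow, h, h', div_self ha']
  have h2 : θ' / θ ∈ ((X ^ m - 1 : K[X]).map (algebraMap K Ω)).roots := by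
    rw [mem_roots]
    · simp [h1]
    · rw [Polynomial.map_ne_zero_iff (algebraMap K Ω).injective]
      exact X_pow_sub_C_ne_zero hm 1
  rw [(hK m hm).roots_map] at h2
  obtain ⟨z, -, hz⟩ := Multiset.mem_map.mp h2
  have hθ' : θ' = algebraMap K Ω z * θ := by rw [hz, div_mul_cancel₀ _ hθ0]
  have hpow : θ' ^ d = algebraMap K Ω (z ^ d * c) := by
    rw [hθ', mul_pow, hc, map_mul, map_pow]
  have hroot : aeval θ' (X ^ d - C (z ^ d * c) : K[X]) = 0 := by simp [hpow]
  have hne : (X ^ d - C (z ^ d * c) : K[X]) ≠ 0 := X_pow_sub_C_ne_zero hd _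
  have := natDegree_le_natDegree (minpoly.degree_le_of_ne_zero K θ' hne hroot)
  rwa [natDegree_X_pow_sub_C] at this

include hK in
/-- monic irreducible factors of `X ^ m - a` are of the form `X ^ d - c`, with the same `d` -/
theorem factor_form (m : ℕ) (hm : 0 < m) (a : K) (ha : a ≠ 0) (P : K[X]) (hP : Irreducible P)
    (hPm : P.Monic) (hdvd : P ∣ X ^ m - C a) :
    (∃ c : K, P = X ^ P.natDegree - C c) ∧
    ∀ P' : K[X], Irreducible P' → P'.Monic → P' ∣ X ^ m - C a → P'.natDegree ≤ P.natDegree := by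
  set Ω := AlgebraicClosure K
  have key : ∀ Q : K[X], Irreducible Q → Q.Monic → Q ∣ X ^ m - C a →
      ∃ θ : Ω, θ ^ m = algebraMap K Ω a ∧ minpoly K θ = Q := by
    intro Q hQ hQm hQd
    obtain ⟨θ, hθ⟩ := IsAlgClosed.exists_aeval_eq_zero Ω Q (degree_pos_of_irreducible hQ).ne'
    refine ⟨θ, ?_, (minpoly.eq_of_irreducible_of_monic hQ hθ hQm).symm⟩
    obtain ⟨q, hq⟩ := hQd
    have := congrArg (aeval θ) hq
    rw [map_mul, hθ, zero_mul] at this
    simpa [sub_eq_zero] using this
  obtain ⟨θ, hθm, hθP⟩ := key P hP hPm hdvd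
  have hθ0 : θ ≠ 0 := by
    rintro rfl
    rw [zero_pow hm.ne'] at hθm
    exact (_root_.map_ne_zero _).mpr ha hθm.symm
  have hint : IsIntegral K θ := ⟨X ^ m - C a, monic_X_pow_sub_C a hm.ne', by simp [hθm]⟩
  constructor
  · obtain ⟨c, hc⟩ := pow_natDegree_minpoly_mem K hK Ω θ hθ0 m hm a hθm
    refine ⟨c, ?_⟩
    have := minpoly_eq_X_pow_sub_C K Ω θ hint c hc
    rwa [hθP] at this
  · intro P' hP' hP'm hP'd
    obtain ⟨θ', hθ'm, hθ'P⟩ := key P' hP' hP'm hP'd
    have := natDegree_minpoly_le_of_pow_eq K hK θ θ' m hm a ha hθm hθ'm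
    rwa [hθP, hθ'P] at this

include hK in
theorem exists_factorization (m : ℕ) (hm : 0 < m) (a : K) (ha : a ≠ 0) (μ : K[X]) (hμ : μ.Monic)
    (hdeg : 0 < μ.natDegree) (hdvd : μ ∣ X ^ m - C a) :
    ∃ r : ℕ, 0 < r ∧ ∃ l : Multiset K[X], l.prod = μ ∧
      ∀ P ∈ l, Irreducible P ∧ P.natDegree = r ∧ ∃ c : K, P = X ^ r - C c := by
  classical
  have hμ0 : μ ≠ 0 := hμ.ne_zero
  set l := UniqueFactorizationMonoid.normalizedFactors μ with hl
  have hprod : l.prod = μ := by
    rw [hl, UniqueFactorizationMonoid.prod_normalizedFactors_eq hμ0, hμ.normalize_eq_self]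
  have hirr : ∀ P ∈ l, Irreducible P := fun P hP =>
    UniqueFactorizationMonoid.irreducible_of_normalized_factor P hP
  have hmon : ∀ P ∈ l, P.Monic := fun P hP => by
    have h1 := UniqueFactorizationMonoid.normalize_normalized_factor P hP
    rw [← h1]
    exact monic_normalize (hirr P hP).ne_zero
  have hd : ∀ P ∈ l, P ∣ X ^ m - C a := fun P hP =>
    (UniqueFactorizationMonoid.dvd_of_mem_normalizedFactors hP).trans hdvd
  obtain ⟨P₀, hP₀⟩ : ∃ P, P ∈ l := by
    apply Multiset.exists_mem_of_ne_zero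
    intro h0
    rw [h0, Multiset.prod_zero] at hprod
    rw [← hprod, natDegree_one] at hdeg
    exact lt_irrefl _ hdeg
  refine ⟨P₀.natDegree, (natDegree_pos_iff_degree_pos.mpr (degree_pos_of_irreducible (hirr P₀ hP₀))),
    l, hprod, fun P hP => ?_⟩
  obtain ⟨⟨c, hc⟩, h1⟩ := factor_form K hK m hm a ha P (hirr P hP) (hmon P hP) (hd P hP)
  obtain ⟨-, h2⟩ := factor_form K hK m hm a ha P₀ (hirr P₀ hP₀) (hmon P₀ hP₀) (hd P₀ hP₀)
  have heq : P.natDegree = P₀.natDegree :=
    le_antisymm (h2 P (hirr P hP) (hmon P hP) (hd P hP)) (h1 P₀ (hirr P₀ hP₀) (hmon P₀ hP₀) (hd P₀ hP₀))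
  exact ⟨hirr P hP, heq, c, heq ▸ hc⟩

end part1


section moduleC

variable (K : Type u) [Field K] (A : Type v) [Ring A] [Algebra K A] [Algebra.IsCentral K A]
  [IsSimpleRing A] [FiniteDimensional K A]

/-- a finite-dimensional `(F, A)`-bimodule has `K`-dimension divisible by `[F : K] * deg A` -/
theorem dvd_finrank_of_bimodule (n : ℕ) (hn : Module.finrank K A = n ^ 2)
    (F : Type w) [Field F] [Algebra K F] [FiniteDimensional K F]
    (M : Type*) [AddCommGroup M] [Module K M] [FiniteDimensional K M]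
    (ρ₂ : F →ₐ[K] Module.End K M) (ρ₁ : Aᵐᵒᵖ →ₐ[K] Module.End K M)
    (hcomm : ∀ f a, Commute (ρ₂ f) (ρ₁ a)) :
    Module.finrank K F * n ∣ Module.finrank K M := by
  let ρ : F ⊗[K] Aᵐᵒᵖ →ₐ[K] Module.End K M := Algebra.TensorProduct.lift ρ₂ ρ₁ hcomm
  letI : Module (F ⊗[K] Aᵐᵒᵖ) M := Module.compHom M ρ.toRingHom
  letI : Module F M := Module.compHom M (ρ.toRingHom.comp (algebraMap F (F ⊗[K] Aᵐᵒᵖ)))
  have hE : ∀ (e : F ⊗[K] Aᵐᵒᵖ) (m : M), e • m = ρ e m := fun e m => rfl
  have hF : ∀ (f : F) (m : M), f • m = ρ (algebraMap F (F ⊗[K] Aᵐᵒᵖ) f) m := fun f m => rfl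
  haveI : IsScalarTower F (F ⊗[K] Aᵐᵒᵖ) M := ⟨fun f e m => by
    have h : f • e = algebraMap F (F ⊗[K] Aᵐᵒᵖ) f * e := Algebra.smul_def f e
    rw [hE, hF, hE, h, map_mul]; rfl⟩
  haveI : IsScalarTower K F M := ⟨fun c f m => by
    have h : c • f = algebraMap K F c * f := Algebra.smul_def c f
    rw [hF, hF, h, map_mul, map_mul, ← IsScalarTower.algebraMap_apply,
      AlgHom.commutes, Module.algebraMap_end_eq_smul_id]
    rfl⟩
  haveI : IsScalarTower K (F ⊗[K] Aᵐᵒᵖ) M := ⟨fun c e m => by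
    rw [hE, hE, map_smul]; rfl⟩
  haveI : FiniteDimensional F M := Module.Finite.of_restrictScalars_finite K F M
  have hsimple : IsSimpleRing (Aᵐᵒᵖ ⊗[K] F) := isSimpleRing_tensorProduct
  haveI hsimple' : IsSimpleRing (F ⊗[K] Aᵐᵒᵖ) := by
    have e : (Aᵐᵒᵖ ⊗[K] F) ≃+* (F ⊗[K] Aᵐᵒᵖ) := (Algebra.TensorProduct.comm K Aᵐᵒᵖ F).toRingEquiv
    exact IsSimpleRing.of_ringEquiv e hsimple
  have key := finrank_end_mul_finrank F (F ⊗[K] Aᵐᵒᵖ) M
  have h1 : Module.finrank F (F ⊗[K] Aᵐᵒᵖ) = n ^ 2 := by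
    rw [Module.finrank_baseChange, ← hn]
    exact (MulOpposite.opLinearEquiv K (M := A)).symm.finrank_eq
  rw [h1] at key
  have h2 : n ∣ Module.finrank F M :=
    (Nat.pow_dvd_pow_iff two_ne_zero).mp ⟨_, (key.symm.trans (mul_comm _ _))⟩
  rw [← Module.finrank_mul_finrank K F M]
  exact Nat.mul_dvd_mul_left _ h2

end moduleC



section filtration

variable (K : Type u) [Field K] (A : Type v) [Ring A] [Algebra K A] [Algebra.IsCentral K A]
  [IsSimpleRing A] [FiniteDimensional K A]

theorem dvd_finrank_of_annihilated (n : ℕ) (hn : Module.finrank K A = n ^ 2) (x : A) (P : K[X])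
    (hP : Irreducible P) (M : Submodule K A) (hxM : ∀ y ∈ M, x * y ∈ M)
    (hMA : ∀ y ∈ M, ∀ a : A, y * a ∈ M) (hPM : ∀ y ∈ M, aeval x P * y = 0) :
    P.natDegree * n ∣ Module.finrank K M := by
  haveI : Fact (Irreducible P) := ⟨hP⟩
  let Lx : Module.End K M := (LinearMap.mulLeft K x).restrict hxM
  have hLx1 : ∀ (k : ℕ) (m : M), ((Lx ^ k) m : A) = x ^ k * m := by
    intro k
    induction k with
    | zero => intro m; simp
    | succ k ih =>
      intro m
      rw [pow_succ, Module.End.mul_apply, ih, pow_succ, mul_assoc]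
      rfl
  have hLx : ∀ (q : K[X]) (m : M), ((aeval Lx q) m : A) = aeval x q * m := by
    intro q m
    induction q using Polynomial.induction_on' with
    | add p q hp hq => rw [map_add, map_add, LinearMap.add_apply, Submodule.coe_add, hp, hq, add_mul]
    | monomial k c =>
      rw [aeval_monomial, aeval_monomial, Module.algebraMap_end_eq_smul_id, Module.End.mul_apply,
        LinearMap.smul_apply, LinearMap.id_apply, Submodule.coe_smul, hLx1,
        Algebra.algebraMap_eq_smul_one, smul_mul_assoc, one_mul, smul_mul_assoc]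
  let ρ₂ : AdjoinRoot P →ₐ[K] Module.End K M :=
    Ideal.Quotient.liftₐ (Ideal.span {P}) (aeval Lx) (fun q hq => by
      obtain ⟨r, rfl⟩ := Ideal.mem_span_singleton.mp hq
      have : aeval Lx P = 0 := by
        ext m
        rw [hLx, hPM m m.2]; rfl
      rw [map_mul, this, zero_mul])
  have hρ₂ : ∀ q : K[X], ρ₂ (AdjoinRoot.mk P q) = aeval Lx q := fun q => rfl
  let ρ₁ : Aᵐᵒᵖ →ₐ[K] Module.End K M :=
    { toFun := fun a => (LinearMap.mulRight K a.unop).restrict (fun y hy => hMA y hy a.unop)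
      map_one' := by ext m; simp
      map_mul' := fun a b => by
        ext m
        change (m : A) * (a * b).unop = ((m : A) * b.unop) * a.unop
        rw [MulOpposite.unop_mul, mul_assoc]
      map_zero' := by ext m; simp
      map_add' := fun a b => by
        ext m
        change (m : A) * (a + b).unop = (m : A) * a.unop + (m : A) * b.unop
        rw [MulOpposite.unop_add, mul_add]
      commutes' := fun c => by
        ext m
        simp [Algebra.algebraMap_eq_smul_one] }
  have hρ₁ : ∀ (a : Aᵐᵒᵖ) (m : M), ((ρ₁ a) m : A) = m * a.unop := fun a m => rfl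
  have hfd : FiniteDimensional K (AdjoinRoot P) := (AdjoinRoot.powerBasis hP.ne_zero).finite
  have hfr : Module.finrank K (AdjoinRoot P) = P.natDegree := by
    rw [(AdjoinRoot.powerBasis hP.ne_zero).finrank, AdjoinRoot.powerBasis_dim]
  have := dvd_finrank_of_bimodule K A n hn (AdjoinRoot P) M ρ₂ ρ₁ (by
    intro f a
    obtain ⟨q, rfl⟩ := AdjoinRoot.mk_surjective f
    rw [hρ₂, commute_iff_eq]
    ext m
    rw [Module.End.mul_apply, Module.End.mul_apply, hLx, hρ₁, hρ₁, hLx, mul_assoc])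
  rwa [hfr] at this





theorem dvd_finrank_of_annihilated_prod (n : ℕ) (hn : Module.finrank K A = n ^ 2) (x : A) (d : ℕ)
    (l : Multiset K[X]) (hl : ∀ P ∈ l, Irreducible P ∧ P.natDegree = d) :
    ∀ N : Submodule K A, (∀ y ∈ N, x * y ∈ N) → (∀ y ∈ N, ∀ a : A, y * a ∈ N) →
      (∀ y ∈ N, aeval x l.prod * y = 0) → d * n ∣ Module.finrank K N := by
  induction l using Multiset.induction_on with
  | empty =>
    intro N _ _ h0
    have : N = ⊥ := by
      rw [Submodule.eq_bot_iff]
      intro y hy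
      have := h0 y hy
      rwa [Multiset.prod_zero, map_one, one_mul] at this
    rw [this, finrank_bot]
    exact dvd_zero _
  | cons P l ih =>
    intro N hxN hNA hN0
    have hl' : ∀ Q ∈ l, Irreducible Q ∧ Q.natDegree = d := fun Q hQ =>
      hl Q (Multiset.mem_cons_of_mem hQ)
    obtain ⟨hPirr, hPd⟩ := hl P (Multiset.mem_cons_self P l)
    have hcomm : x * aeval x P = aeval x P * x := by
      have h1 : aeval x (X * P) = x * aeval x P := by rw [map_mul, aeval_X]
      have h2 : aeval x (P * X) = aeval x P * x := by rw [map_mul, aeval_X]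
      rw [← h1, ← h2, mul_comm]
    let φ : A →ₗ[K] A := LinearMap.mulLeft K (aeval x P)
    have hφ : ∀ y, φ y = aeval x P * y := fun y => rfl
    let N' : Submodule K A := N.map φ
    let M' : Submodule K N := LinearMap.ker (φ.domRestrict N)
    let M : Submodule K A := M'.map N.subtype
    have hM : ∀ y, y ∈ M ↔ y ∈ N ∧ aeval x P * y = 0 := by
      intro y
      constructor
      · rintro ⟨y', hy', rfl⟩
        exact ⟨y'.2, LinearMap.mem_ker.mp hy'⟩
      · rintro ⟨h1, h2⟩
        exact ⟨⟨y, h1⟩, LinearMap.mem_ker.mpr h2, rfl⟩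
    have hrank : Module.finrank K N = Module.finrank K N' + Module.finrank K M := by
      have h1 := LinearMap.finrank_range_add_finrank_ker (φ.domRestrict N)
      rw [LinearMap.range_domRestrict] at h1
      rw [← h1, Submodule.finrank_map_subtype_eq]
    have h1 : d * n ∣ Module.finrank K N' := by
      apply ih hl' N'
      · rintro _ ⟨y, hy, rfl⟩
        exact ⟨x * y, hxN y hy, by rw [hφ, hφ, ← mul_assoc, ← hcomm, mul_assoc]⟩
      · rintro _ ⟨y, hy, rfl⟩ a
        exact ⟨y * a, hNA y hy a, by rw [hφ, hφ, mul_assoc]⟩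
      · rintro _ ⟨y, hy, rfl⟩
        have := hN0 y hy
        rw [Multiset.prod_cons, mul_comm, map_mul, mul_assoc] at this
        exact this
    have h2 : d * n ∣ Module.finrank K M := by
      rw [← hPd]
      apply dvd_finrank_of_annihilated K A n hn x P hPirr M
      · intro y hy
        rw [hM] at hy ⊢
        exact ⟨hxN y hy.1, by rw [← mul_assoc, ← hcomm, mul_assoc, hy.2, mul_zero]⟩
      · intro y hy a
        rw [hM] at hy ⊢
        exact ⟨hNA y hy.1 a, by rw [← mul_assoc, hy.2, zero_mul]⟩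
      · intro y hy
        exact ((hM y).mp hy).2
    rw [hrank]
    exact dvd_add h1 h2

end filtration


end Groth.Agent.Lib.Helper15.TorsionMinpoly
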