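import Mathlib
import Groth.Agent.Lib.Helper15.TorsionMinpoly

/-!
# Central simple algebras are free over maximal étale subalgebras (helper15)
-/

set_option autoImplicit false

universe u v w

namespace Groth.Agent.Lib.Helper15.EtaleSub

open Groth.Agent.Lib.Helper15.CSA Groth.Agent.Lib.Helper5.DoubleCentralizer
open scoped TensorProduct

section moduleC

variable (K : Type u) [Field K] (B : Type v) [Ring B] [Algebra K B] [Algebra.IsCentral K B]
  [IsSimpleRing B] [FiniteDimensional K B]

/-- a finite-dimensional module with commuting actions of a field `F` and of a central simple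
algebra `B` of degree `n` has `K`-dimension divisible by `[F : K] * n` -/
theorem dvd_finrank_of_commuting (n : ℕ) (hn : Module.finrank K B = n ^ 2)
    (F : Type w) [Field F] [Algebra K F] [FiniteDimensional K F]
    (M : Type*) [AddCommGroup M] [Module K M] [FiniteDimensional K M]
    (ρ₂ : F →ₐ[K] Module.End K M) (ρ₁ : B →ₐ[K] Module.End K M)
    (hcomm : ∀ f a, Commute (ρ₂ f) (ρ₁ a)) :
    Module.finrank K F * n ∣ Module.finrank K M := by
  let ρ : F ⊗[K] B →ₐ[K] Module.End K M := Algebra.TensorProduct.lift ρ₂ ρ₁ hcomm
  letI : Module (F ⊗[K] B) M := Module.compHom M ρ.toRingHom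
  letI : Module F M := Module.compHom M (ρ.toRingHom.comp (algebraMap F (F ⊗[K] B)))
  have hE : ∀ (e : F ⊗[K] B) (m : M), e • m = ρ e m := fun e m => rfl
  have hF : ∀ (f : F) (m : M), f • m = ρ (algebraMap F (F ⊗[K] B) f) m := fun f m => rfl
  haveI : IsScalarTower F (F ⊗[K] B) M := ⟨fun f e m => by
    have h : f • e = algebraMap F (F ⊗[K] B) f * e := Algebra.smul_def f e
    rw [hE, hF, hE, h, map_mul]; rfl⟩
  haveI : IsScalarTower K F M := ⟨fun c f m => by
    have h : c • f = algebraMap K F c * f := Algebra.smul_def c f
    rw [hF, hF, h, map_mul, map_mul, ← IsScalarTower.algebraMap_apply,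
      AlgHom.commutes, Module.algebraMap_end_eq_smul_id]
    rfl⟩
  haveI : IsScalarTower K (F ⊗[K] B) M := ⟨fun c e m => by
    rw [hE, hE, map_smul]; rfl⟩
  haveI : FiniteDimensional F M := Module.Finite.of_restrictScalars_finite K F M
  have hsimple : IsSimpleRing (B ⊗[K] F) := isSimpleRing_tensorProduct
  haveI hsimple' : IsSimpleRing (F ⊗[K] B) := by
    have e : (B ⊗[K] F) ≃+* (F ⊗[K] B) := (Algebra.TensorProduct.comm K B F).toRingEquiv
    exact IsSimpleRing.of_ringEquiv e hsimple
  have key := finrank_end_mul_finrank F (F ⊗[K] B) M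
  have h1 : Module.finrank F (F ⊗[K] B) = n ^ 2 := by
    rw [Module.finrank_baseChange, ← hn]
  rw [h1] at key
  have h2 : n ∣ Module.finrank F M :=
    (Nat.pow_dvd_pow_iff two_ne_zero).mp ⟨_, (key.symm.trans (mul_comm _ _))⟩
  rw [← Module.finrank_mul_finrank K F M]
  exact Nat.mul_dvd_mul_left _ h2

end moduleC

section crt

variable (L : Type v) [CommRing L] [IsArtinianRing L] [IsReduced L]
  (M : Type w) [AddCommGroup M] [Module L M]

/-- Chinese remainder theorem for a module over a reduced artinian ring -/
theorem pi_mk_bijective :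
    Function.Bijective (LinearMap.pi fun P : MaximalSpectrum L =>
      TensorProduct.mk L (L ⧸ P.asIdeal) M 1) := by
  have hcop : Pairwise (Function.onFun IsCoprime fun P : MaximalSpectrum L => P.asIdeal) :=
    fun I J hIJ => I.isCoprime_of_ne hIJ
  refine ⟨?_, Ideal.pi_tensorProductMk_quotient_surjective M _ hcop⟩
  rw [← LinearMap.ker_eq_bot, Ideal.ker_tensorProductMk_quotient M _ hcop,
    ← IsArtinianRing.nilradical_eq_iInf, nilradical_eq_zero]
  exact Submodule.bot_smul _

omit [IsArtinianRing L] [IsReduced L] in
theorem mk_one_surjective (P : Ideal L) :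
    Function.Surjective (TensorProduct.mk L (L ⧸ P) M 1) := by
  intro t
  induction t using TensorProduct.induction_on with
  | zero => exact ⟨0, by simp⟩
  | tmul c m =>
    obtain ⟨l, rfl⟩ := Ideal.Quotient.mk_surjective c
    refine ⟨l • m, ?_⟩
    rw [TensorProduct.mk_apply, TensorProduct.tmul_smul, TensorProduct.smul_tmul']
    congr 1
    rw [← Ideal.Quotient.algebraMap_eq, Algebra.smul_def, mul_one]
  | add x y hx hy =>
    obtain ⟨a, rfl⟩ := hx
    obtain ⟨b, rfl⟩ := hy
    exact ⟨a + b, map_add _ _ _⟩

variable (k : Type u) [Field k] [Algebra k L] [Module k M] [IsScalarTower k L M]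
  [Module.Finite k M]

omit [IsArtinianRing L] [IsReduced L] in
theorem finite_fibre (P : Ideal L) : Module.Finite k ((L ⧸ P) ⊗[L] M) :=
  Module.Finite.of_surjective ((TensorProduct.mk L (L ⧸ P) M 1).restrictScalars k)
    (mk_one_surjective L M P)

theorem finrank_eq_sum [Fintype (MaximalSpectrum L)] :
    Module.finrank k M =
      ∑ P : MaximalSpectrum L, Module.finrank k ((L ⧸ P.asIdeal) ⊗[L] M) := by
  have hbij := pi_mk_bijective L M
  let e : M ≃ₗ[k] (Π P : MaximalSpectrum L, (L ⧸ P.asIdeal) ⊗[L] M) :=
    LinearEquiv.ofBijective ((LinearMap.pi fun P : MaximalSpectrum L =>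
      TensorProduct.mk L (L ⧸ P.asIdeal) M 1).restrictScalars k) hbij
  haveI : ∀ P : MaximalSpectrum L, Module.Finite k ((L ⧸ P.asIdeal) ⊗[L] M) :=
    fun P => finite_fibre L M k P.asIdeal
  rw [e.finrank_eq, Module.finrank_pi_fintype]

end crt

section main

variable (k : Type u) [Field k] (A : Type v) [Ring A] [Algebra k A]
  (L : Type w) [CommRing L] [Algebra k L]
  (u : L →ₐ[k] A) [Module L A] (hmod : ∀ (l : L) (a : A), l • a = a * u l)

include hmod in
theorem isScalarTower_of_hmod : IsScalarTower k L A :=
  ⟨fun c l a => by rw [hmod, hmod, map_smul, mul_smul_comm]⟩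

/-- left multiplication as an `L`-linear map (for the right-multiplication module structure) -/
def lmul (a : A) : A →ₗ[L] A where
  toFun y := a * y
  map_add' := mul_add a
  map_smul' l y := by
    simp only [RingHom.id_apply]
    rw [hmod, hmod, mul_assoc]

@[simp] lemma lmul_apply (a y : A) : lmul k A L u hmod a y = a * y := rfl

/-- the commuting action of `A` on a fibre -/
noncomputable def fibreAct (P : Ideal L) (a : A) : Module.End k ((L ⧸ P) ⊗[L] A) :=
  haveI := isScalarTower_of_hmod k A L u hmod
  ((lmul k A L u hmod a).lTensor (L ⧸ P)).restrictScalars k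

lemma fibreAct_tmul (P : Ideal L) (a : A) (c : L ⧸ P) (y : A) :
    fibreAct k A L u hmod P a (c ⊗ₜ y) = c ⊗ₜ (a * y) := rfl

/-- the commuting action of `A` on a fibre, as an algebra map -/
noncomputable def fibreActHom (P : Ideal L) : A →ₐ[k] Module.End k ((L ⧸ P) ⊗[L] A) where
  toFun := fibreAct k A L u hmod P
  map_one' := by
    ext t
    induction t using TensorProduct.induction_on with
    | zero => simp
    | tmul c y => rw [fibreAct_tmul, one_mul, Module.End.one_apply]
    | add x y hx hy => rw [map_add, hx, hy, map_add]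
  map_mul' a b := by
    ext t
    induction t using TensorProduct.induction_on with
    | zero => simp
    | tmul c y =>
      rw [fibreAct_tmul, Module.End.mul_apply, fibreAct_tmul, fibreAct_tmul, mul_assoc]
    | add x y hx hy => rw [map_add, hx, hy, map_add]
  map_zero' := by
    ext t
    induction t using TensorProduct.induction_on with
    | zero => simp
    | tmul c y => rw [fibreAct_tmul, zero_mul, TensorProduct.tmul_zero, LinearMap.zero_apply]
    | add x y hx hy => rw [map_add, hx, hy, map_add]
  map_add' a b := by
    ext t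
    induction t using TensorProduct.induction_on with
    | zero => simp
    | tmul c y =>
      rw [fibreAct_tmul, LinearMap.add_apply, fibreAct_tmul, fibreAct_tmul, add_mul,
        TensorProduct.tmul_add]
    | add x y hx hy => rw [map_add, hx, hy, map_add]
  commutes' c := by
    ext t
    induction t using TensorProduct.induction_on with
    | zero => simp
    | tmul d y =>
      rw [fibreAct_tmul, Module.algebraMap_end_apply, Algebra.algebraMap_eq_smul_one,
        smul_mul_assoc, one_mul]
      haveI := isScalarTower_of_hmod k A L u hmod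
      exact TensorProduct.tmul_smul c d y
    | add x y hx hy => rw [map_add, hx, hy, map_add]

variable [Algebra.IsCentral k A] [IsSimpleRing A] [FiniteDimensional k A]
  [Module.Finite k L] [IsReduced L]

include hmod in
/-- a fibre of `A` over a maximal ideal of `L` is nonzero -/
theorem nontrivial_fibre (hu : Function.Injective u) (P : Ideal L) (hP : P ≠ ⊤) :
    Nontrivial ((L ⧸ P) ⊗[L] A) := by
  haveI := isScalarTower_of_hmod k A L u hmod
  haveI : Module.Finite L A := Module.Finite.of_restrictScalars_finite k L A
  by_contra hnt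
  rw [not_nontrivial_iff_subsingleton] at hnt
  have e := TensorProduct.quotTensorEquivQuotSMul A P
  have hsub : Subsingleton (A ⧸ (P • ⊤ : Submodule L A)) := e.symm.injective.subsingleton
  rw [Submodule.Quotient.subsingleton_iff] at hsub
  obtain ⟨r, hr1, hr⟩ := Submodule.exists_sub_one_mem_and_smul_eq_zero_of_fg_of_le_smul
    P (⊤ : Submodule L A) Module.Finite.fg_top (by rw [hsub])
  have h1 := hr 1 Submodule.mem_top
  rw [hmod, one_mul] at h1
  have hr0 : r = 0 := hu (by rw [h1, map_zero])
  rw [hr0, zero_sub] at hr1
  apply hP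
  rw [Ideal.eq_top_iff_one]
  simpa using P.neg_mem hr1

include hmod in
/-- **Freeness over a maximal étale subalgebra**: a central simple algebra of degree `r` is
free of rank `r` over a reduced commutative subalgebra of dimension `r`. -/
theorem free_of_csa (r : ℕ) (hA : Module.finrank k A = r ^ 2) (hL : Module.finrank k L = r)
    (hu : Function.Injective u) :
    Module.Free L A ∧ Module.finrank L A = r := by
  classical
  haveI := isScalarTower_of_hmod k A L u hmod
  haveI : IsArtinianRing L := IsArtinianRing.of_finite k L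
  haveI : IsSemisimpleRing L := IsArtinianRing.isSemisimpleRing_of_isReduced L
  haveI : Module.Finite L A := Module.Finite.of_restrictScalars_finite k L A
  haveI : Module.Projective L A := Module.projective_of_isSemisimpleRing L A
  letI : Fintype (MaximalSpectrum L) := Fintype.ofFinite _
  have hr : 0 < r := by
    rcases Nat.eq_zero_or_pos r with h | h
    · exfalso
      rw [h] at hA
      have : Subsingleton A := Module.finrank_zero_iff.mp (by simpa using hA)
      exact not_subsingleton A this
    · exact h
  haveI : Nontrivial L := by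
    by_contra hL'
    rw [not_nontrivial_iff_subsingleton] at hL'
    have : Module.finrank k L = 0 := Module.finrank_zero_of_subsingleton
    omega
  -- the numerics
  have hsumA := finrank_eq_sum L A k
  have hsumL := finrank_eq_sum L L k
  have hfib : ∀ P : MaximalSpectrum L,
      Module.finrank k ((L ⧸ P.asIdeal) ⊗[L] L) = Module.finrank k (L ⧸ P.asIdeal) := fun P =>
    ((TensorProduct.rid L (L ⧸ P.asIdeal)).restrictScalars k).finrank_eq
  simp_rw [hfib] at hsumL
  have key : ∀ P : MaximalSpectrum L,
      Module.finrank (L ⧸ P.asIdeal) ((L ⧸ P.asIdeal) ⊗[L] A) = r := by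
    have hdvd : ∀ P : MaximalSpectrum L, Module.finrank k (L ⧸ P.asIdeal) * r ∣
        Module.finrank k ((L ⧸ P.asIdeal) ⊗[L] A) := by
      intro P
      haveI := P.isMaximal
      letI : Field (L ⧸ P.asIdeal) := Ideal.Quotient.field P.asIdeal
      haveI : Module.Finite k ((L ⧸ P.asIdeal) ⊗[L] A) := finite_fibre L A k P.asIdeal
      refine dvd_finrank_of_commuting k A r hA (L ⧸ P.asIdeal) ((L ⧸ P.asIdeal) ⊗[L] A)
        (Algebra.lsmul k k ((L ⧸ P.asIdeal) ⊗[L] A)) (fibreActHom k A L u hmod P.asIdeal) ?_
      intro f a
      rw [commute_iff_eq]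
      ext t
      induction t using TensorProduct.induction_on with
      | zero => simp
      | tmul c y =>
        simp only [Module.End.mul_apply, Algebra.lsmul_coe]
        change f • fibreAct k A L u hmod P.asIdeal a (c ⊗ₜ y) =
          fibreAct k A L u hmod P.asIdeal a (f • (c ⊗ₜ y))
        rw [fibreAct_tmul, TensorProduct.smul_tmul', TensorProduct.smul_tmul', fibreAct_tmul]
      | add x y hx hy => rw [map_add, hx, hy, map_add]
    have hpos : ∀ P : MaximalSpectrum L,
        0 < Module.finrank k ((L ⧸ P.asIdeal) ⊗[L] A) := by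
      intro P
      haveI : Module.Finite k ((L ⧸ P.asIdeal) ⊗[L] A) := finite_fibre L A k P.asIdeal
      haveI := nontrivial_fibre k A L u hmod hu P.asIdeal P.isMaximal.ne_top
      exact Module.finrank_pos
    have hle : ∀ P ∈ (Finset.univ : Finset (MaximalSpectrum L)),
        Module.finrank k (L ⧸ P.asIdeal) * r ≤ Module.finrank k ((L ⧸ P.asIdeal) ⊗[L] A) :=
      fun P _ => Nat.le_of_dvd (hpos P) (hdvd P)
    have hsum : ∑ P : MaximalSpectrum L, Module.finrank k (L ⧸ P.asIdeal) * r =
        ∑ P : MaximalSpectrum L, Module.finrank k ((L ⧸ P.asIdeal) ⊗[L] A) := by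
      rw [← Finset.sum_mul, ← hsumL, ← hsumA, hL, hA, sq]
    have heq := (Finset.sum_eq_sum_iff_of_le hle).mp hsum
    intro P
    haveI := P.isMaximal
    letI : Field (L ⧸ P.asIdeal) := Ideal.Quotient.field P.asIdeal
    haveI : Module.Finite k ((L ⧸ P.asIdeal) ⊗[L] A) := finite_fibre L A k P.asIdeal
    have h1 := heq P (Finset.mem_univ P)
    have h2 := Module.finrank_mul_finrank k (L ⧸ P.asIdeal) ((L ⧸ P.asIdeal) ⊗[L] A)
    have hd : 0 < Module.finrank k (L ⧸ P.asIdeal) := by
      haveI : Module.Finite k (L ⧸ P.asIdeal) :=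
        Module.Finite.of_surjective (Algebra.linearMap L (L ⧸ P.asIdeal) |>.restrictScalars k)
          Ideal.Quotient.mk_surjective
      exact Module.finrank_pos
    rw [← h1] at h2
    exact Nat.eq_of_mul_eq_mul_left hd h2
  obtain ⟨b⟩ := Module.nonempty_basis_of_flat_of_finrank_eq L A r key
  exact ⟨Module.Free.of_basis b, by rw [Module.finrank_eq_card_basis b, Fintype.card_fin]⟩

end main

end Groth.Agent.Lib.Helper15.EtaleSub
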