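import Mathlib
import Groth.Agent.Lib.Helper15.EtaleSub
import Groth.Agent.Lib.Helper15.AzumayaInner
import Groth.Agent.S19589

/-!
# Azumaya algebras over local rings and their maximal étale subalgebras (helper15)
-/

set_option autoImplicit false

universe u v w

namespace Groth.Agent.Lib.Helper15.EtaleSubLocal

open Groth.Agent.Lib.Helper15.Azumaya Groth.Agent.Lib.Helper15.EtaleSub
open scoped TensorProduct

/-- the module structure by right multiplication through a ring homomorphism from a
commutative ring -/
@[reducible] def rightModule {L : Type*} {A : Type*} [CommRing L] [Ring A] (u : L →+* A) :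
    Module L A where
  smul l a := a * u l
  one_smul a := by change a * u 1 = a; rw [map_one, mul_one]
  mul_smul l l' a := by
    change a * u (l * l') = (a * u l') * u l
    rw [mul_comm l l', map_mul, mul_assoc]
  smul_zero l := by change 0 * u l = 0; rw [zero_mul]
  smul_add l a b := by change (a + b) * u l = a * u l + b * u l; rw [add_mul]
  add_smul l l' a := by change a * u (l + l') = a * u l + a * u l'; rw [map_add, mul_add]
  zero_smul a := by change a * u 0 = 0; rw [map_zero, mul_zero]

section local_lemmas

variable (R : Type*) [CommRing R] [IsLocalRing R]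

theorem surjective_of_baseChange_residue {M N : Type*} [AddCommGroup M] [Module R M]
    [AddCommGroup N] [Module R N] [Module.Finite R N] (φ : M →ₗ[R] N)
    (h : Function.Surjective (φ.baseChange (IsLocalRing.ResidueField R))) :
    Function.Surjective φ := by
  have : Subsingleton (N ⧸ LinearMap.range φ) :=
    IsLocalRing.subsingleton_tensorProduct.mp (subsingleton_baseChange_coker _ _ h)
  rw [← LinearMap.range_eq_top]
  exact Submodule.Quotient.subsingleton_iff.mp this

theorem exists_one_tmul {M : Type*} [AddCommGroup M] [Module R M]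
    (t : IsLocalRing.ResidueField R ⊗[R] M) :
    ∃ m : M, t = (1 : IsLocalRing.ResidueField R) ⊗ₜ[R] m := by
  induction t using TensorProduct.induction_on with
  | zero => exact ⟨0, by simp⟩
  | tmul c m =>
    obtain ⟨c', rfl⟩ := IsLocalRing.residue_surjective c
    refine ⟨c' • m, ?_⟩
    rw [TensorProduct.tmul_smul, TensorProduct.smul_tmul']
    congr 1
    rw [← IsLocalRing.ResidueField.algebraMap_eq, Algebra.smul_def, mul_one]
  | add x y hx hy =>
    obtain ⟨a, rfl⟩ := hx
    obtain ⟨b, rfl⟩ := hy
    exact ⟨a + b, by rw [TensorProduct.tmul_add]⟩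

end local_lemmas

section main

variable (R : Type u) [CommRing R] [IsLocalRing R] (A : Type u) [Ring A] [Algebra R A]
  [IsAzumaya R A]
  (E : Type u) [CommRing E] [Algebra R E] [Algebra.Etale R E] [Module.Finite R E]
  [Module.Free R E]
  (u : E →ₐ[R] A) [Module E A] (hmod : ∀ (e : E) (a : A), e • a = a * u e)

include hmod in
theorem isScalarTower_of_hmod : IsScalarTower R E A :=
  ⟨fun c l a => by rw [hmod, hmod, map_smul, mul_smul_comm]⟩

/-- the closed fibre of `u` -/
noncomputable def ubar : (IsLocalRing.ResidueField R ⊗[R] E) →ₐ[IsLocalRing.ResidueField R]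
    (IsLocalRing.ResidueField R ⊗[R] A) :=
  Algebra.TensorProduct.map (AlgHom.id _ _) u

omit [IsAzumaya R A] [Algebra.Etale R E] [Module.Finite R E] [Module.Free R E] in
lemma ubar_tmul (c : IsLocalRing.ResidueField R) (e : E) :
    ubar R A E u (c ⊗ₜ e) = c ⊗ₜ u e := by
  simp [ubar]

omit [IsAzumaya R A] [Algebra.Etale R E] [Module.Finite R E] [Module.Free R E] in
lemma ubar_injective
    (hu : Function.Injective (u.toLinearMap.lTensor (IsLocalRing.ResidueField R))) :
    Function.Injective (ubar R A E u) := by
  have : ⇑(ubar R A E u) = ⇑(u.toLinearMap.lTensor (IsLocalRing.ResidueField R)) := by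
    funext t
    induction t using TensorProduct.induction_on with
    | zero => simp
    | tmul c e => rw [ubar_tmul]; rfl
    | add x y hx hy => rw [map_add, hx, hy, map_add]
  rw [this]
  exact hu

/-- a spanning family in the closed fibre -/
theorem exists_fibre_span (r : ℕ) (hA : Module.finrank R A = r ^ 2)
    (hE : Module.finrank R E = r)
    (hu : Function.Injective (u.toLinearMap.lTensor (IsLocalRing.ResidueField R))) :
    ∃ b : Fin r → A, ∀ y : IsLocalRing.ResidueField R ⊗[R] A,
      ∃ c : Fin r → (IsLocalRing.ResidueField R ⊗[R] E),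
        y = ∑ j, ((1 : IsLocalRing.ResidueField R) ⊗ₜ[R] b j) * ubar R A E u (c j) := by
  have hAz : IsAzumaya (IsLocalRing.ResidueField R) (IsLocalRing.ResidueField R ⊗[R] A) :=
    isAzumaya_baseChange R (IsLocalRing.ResidueField R) A
  haveI := isCentral_of_isAzumaya (IsLocalRing.ResidueField R)
    (IsLocalRing.ResidueField R ⊗[R] A)
  haveI := isSimpleRing_of_isAzumaya (IsLocalRing.ResidueField R)
    (IsLocalRing.ResidueField R ⊗[R] A)
  haveI : IsReduced (IsLocalRing.ResidueField R ⊗[R] E) :=
    Algebra.FormallyUnramified.isReduced_of_field (IsLocalRing.ResidueField R) _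
  letI := rightModule ((ubar R A E u : (IsLocalRing.ResidueField R ⊗[R] E) →+*
    (IsLocalRing.ResidueField R ⊗[R] A)))
  have hmod' : ∀ (l : IsLocalRing.ResidueField R ⊗[R] E)
      (a : IsLocalRing.ResidueField R ⊗[R] A), l • a = a * ubar R A E u l := fun _ _ => rfl
  haveI : Module.Free R A := Module.free_of_flat_of_isLocalRing
  have hA' : Module.finrank (IsLocalRing.ResidueField R)
      (IsLocalRing.ResidueField R ⊗[R] A) = r ^ 2 := by
    rw [Module.finrank_baseChange, hA]
  have hr : 0 < r := by
    rcases Nat.eq_zero_or_pos r with h | h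
    · exfalso
      rw [h] at hA'
      have : Subsingleton (IsLocalRing.ResidueField R ⊗[R] A) :=
        Module.finrank_zero_iff (R := IsLocalRing.ResidueField R).mp
          (by rw [hA', zero_pow two_ne_zero])
      exact not_subsingleton _ this
    · exact h
  have hE' : Module.finrank (IsLocalRing.ResidueField R)
      (IsLocalRing.ResidueField R ⊗[R] E) = r := by
    rw [Module.finrank_baseChange, hE]
  obtain ⟨hfree, hrk⟩ := free_of_csa (IsLocalRing.ResidueField R)
    (IsLocalRing.ResidueField R ⊗[R] A) (IsLocalRing.ResidueField R ⊗[R] E)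
    (ubar R A E u) hmod' r hA' hE' (ubar_injective R A E u hu)
  haveI : IsScalarTower (IsLocalRing.ResidueField R) (IsLocalRing.ResidueField R ⊗[R] E)
      (IsLocalRing.ResidueField R ⊗[R] A) :=
    EtaleSub.isScalarTower_of_hmod (IsLocalRing.ResidueField R)
      (IsLocalRing.ResidueField R ⊗[R] A) (IsLocalRing.ResidueField R ⊗[R] E)
      (ubar R A E u) hmod'
  haveI : Module.Finite (IsLocalRing.ResidueField R ⊗[R] E)
      (IsLocalRing.ResidueField R ⊗[R] A) :=
    Module.Finite.of_restrictScalars_finite (IsLocalRing.ResidueField R) _ _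
  haveI : Nontrivial (IsLocalRing.ResidueField R ⊗[R] E) :=
    Module.nontrivial_of_finrank_pos (R := IsLocalRing.ResidueField R) (by rw [hE']; exact hr)
  let bb := Module.finBasisOfFinrankEq (IsLocalRing.ResidueField R ⊗[R] E)
    (IsLocalRing.ResidueField R ⊗[R] A) hrk
  choose b hb using fun j => exists_one_tmul R (bb j)
  refine ⟨b, fun y => ⟨fun j => bb.repr y j, ?_⟩⟩
  conv_lhs => rw [← bb.sum_repr y]
  refine Finset.sum_congr rfl fun j _ => ?_
  rw [hmod', hb j]

include hmod in
/-- `A` is free of rank `r` over a maximal étale subalgebra -/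
theorem exists_basis (r : ℕ) (hA : Module.finrank R A = r ^ 2)
    (hE : Module.finrank R E = r)
    (hu : Function.Injective (u.toLinearMap.lTensor (IsLocalRing.ResidueField R))) :
    Nonempty (Module.Basis (Fin r) E A) := by
  obtain ⟨b, hb⟩ := exists_fibre_span R A E u r hA hE hu
  haveI := isScalarTower_of_hmod R A E u hmod
  haveI : Module.Free R A := Module.free_of_flat_of_isLocalRing
  let φ : (Fin r → E) →ₗ[E] A := Fintype.linearCombination E b
  let φR : (Fin r → E) →ₗ[R] A := φ.restrictScalars R
  have key : ∀ (j : Fin r) (t : IsLocalRing.ResidueField R ⊗[R] E),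
      (φR.baseChange (IsLocalRing.ResidueField R))
        (((LinearMap.single R (fun _ : Fin r => E) j).baseChange (IsLocalRing.ResidueField R)) t) =
      ((1 : IsLocalRing.ResidueField R) ⊗ₜ[R] b j) * ubar R A E u t := by
    intro j t
    induction t using TensorProduct.induction_on with
    | zero => simp
    | tmul c e =>
      rw [LinearMap.baseChange_tmul, LinearMap.baseChange_tmul, ubar_tmul,
        Algebra.TensorProduct.tmul_mul_tmul, one_mul]
      congr 1
      change Fintype.linearCombination E b (Pi.single j e) = b j * u e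
      rw [Fintype.linearCombination_apply_single, hmod]
    | add x y hx hy => rw [map_add, map_add, hx, hy, map_add, mul_add]
  have hsurjK : Function.Surjective (φR.baseChange (IsLocalRing.ResidueField R)) := by
    intro y
    obtain ⟨c, hc⟩ := hb y
    refine ⟨∑ j, ((LinearMap.single R (fun _ : Fin r => E) j).baseChange
      (IsLocalRing.ResidueField R)) (c j), ?_⟩
    rw [map_sum, hc]
    exact Finset.sum_congr rfl fun j _ => key j (c j)
  have hsurj : Function.Surjective φR := surjective_of_baseChange_residue R φR hsurjK
  have hrank : Module.finrank R (Fin r → E) = Module.finrank R A := by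
    rw [Module.finrank_pi_fintype, hA]
    simp [hE, sq]
  obtain ⟨i⟩ := FiniteDimensional.nonempty_linearEquiv_of_finrank_eq (R := R) hrank
  have hinj : Function.Injective φR :=
    OrzechProperty.injective_of_surjective_of_injective i.toLinearMap φR i.injective hsurj
  exact ⟨Module.Basis.ofEquivFun (LinearEquiv.ofBijective φ ⟨hinj, hsurj⟩).symm⟩

end main

section splitting

variable (R : Type u) [CommRing R] (A : Type u) [Ring A] [Algebra R A]
  (E : Type u) [CommRing E] [Algebra R E]
  (u : E →ₐ[R] A) [Module E A] [IsScalarTower R E A]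
  (hmod : ∀ (e : E) (a : A), e • a = a * u e)

/-- left multiplication as an `R`-algebra map into the `E`-linear endomorphisms -/
noncomputable def lmulAlg : A →ₐ[R] Module.End E A where
  toFun a :=
    { toFun := fun y => a * y
      map_add' := mul_add a
      map_smul' := fun e y => by
        simp only [RingHom.id_apply]
        rw [hmod, hmod, mul_assoc] }
  map_one' := by ext y; simp
  map_mul' a b := by ext y; simp [mul_assoc]
  map_zero' := by ext y; simp
  map_add' a b := by ext y; simp [add_mul]
  commutes' c := by
    ext y
    simp [Algebra.algebraMap_eq_smul_one]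

@[simp] lemma lmulAlg_apply (a y : A) : lmulAlg R A E u hmod a y = a * y := rfl

/-- the canonical map `E ⊗ A → End_E(A)`, `e ⊗ a ↦ (y ↦ a y u(e))` -/
noncomputable def splitHom : E ⊗[R] A →ₐ[E] Module.End E A :=
  Algebra.TensorProduct.lift (Algebra.ofId E (Module.End E A)) (lmulAlg R A E u hmod)
    (fun e a => by
      rw [commute_iff_eq]
      ext y
      simp only [Module.End.mul_apply, Algebra.ofId_apply, Module.algebraMap_end_apply,
        lmulAlg_apply]
      rw [hmod, hmod, mul_assoc])

lemma splitHom_tmul (e : E) (a y : A) : splitHom R A E u hmod (e ⊗ₜ a) y = a * y * u e := by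
  simp only [splitHom, Algebra.TensorProduct.lift_tmul, Module.End.mul_apply, Algebra.ofId_apply,
    Module.algebraMap_end_apply, lmulAlg_apply]
  rw [hmod]

variable [IsAzumaya R A]

/-- if `A` is free of rank `r` over `E`, where `A` is Azumaya of rank `r ^ 2` over `R`, then
`E ⊗ A → End_E(A)` is an isomorphism -/
theorem splitHom_bijective (r : ℕ) (hr : 0 < r) (b : Module.Basis (Fin r) E A)
    (hrank : ∀ (q : Ideal E) [q.IsPrime],
      Module.finrank q.ResidueField (q.ResidueField ⊗[E] (E ⊗[R] A)) = r ^ 2) :
    Function.Bijective (splitHom R A E u hmod) := by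
  haveI : Module.Free E A := Module.Free.of_basis b
  haveI : Module.Finite E A := Module.Finite.of_basis b
  rcases subsingleton_or_nontrivial E with hE | hE
  · have h1 : Subsingleton (E ⊗[R] A) := Module.subsingleton E _
    have h2 : Subsingleton (Module.End E A) := Module.subsingleton E _
    exact ⟨fun x y _ => Subsingleton.elim _ _, fun y => ⟨0, Subsingleton.elim _ _⟩⟩
  haveI : FaithfulSMul E A := by
    refine ⟨fun {e e'} h => ?_⟩
    have h1 := h (b ⟨0, hr⟩)
    have h2 := congrArg (fun x => b.repr x ⟨0, hr⟩) h1
    simpa using h2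
  have hAzE : IsAzumaya E (E ⊗[R] A) := isAzumaya_baseChange R E A
  have hAzEnd : IsAzumaya E (Module.End E A) := Groth.Agent.S19589.result E A
  have hrkA : Module.finrank E A = r := by
    rw [Module.finrank_eq_card_basis b, Fintype.card_fin]
  have hbij : Function.Bijective (splitHom R A E u hmod).toLinearMap := by
    refine bijective_of_forall_residueField (R := E) _ fun q _ => ?_
    have hAz1 : IsAzumaya q.ResidueField (q.ResidueField ⊗[E] (E ⊗[R] A)) :=
      isAzumaya_baseChange E q.ResidueField _
    have hAz2 : IsAzumaya q.ResidueField (q.ResidueField ⊗[E] (Module.End E A)) :=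
      isAzumaya_baseChange E q.ResidueField _
    haveI hs1 := isSimpleRing_of_isAzumaya q.ResidueField (q.ResidueField ⊗[E] (E ⊗[R] A))
    haveI hs2 := isSimpleRing_of_isAzumaya q.ResidueField
      (q.ResidueField ⊗[E] (Module.End E A))
    let ΦK : (q.ResidueField ⊗[E] (E ⊗[R] A)) →ₐ[q.ResidueField]
        (q.ResidueField ⊗[E] (Module.End E A)) :=
      Algebra.TensorProduct.map (AlgHom.id _ _) (splitHom R A E u hmod)
    have hfun : ⇑((splitHom R A E u hmod).toLinearMap.baseChange q.ResidueField) = ⇑ΦK := by
      funext t
      induction t using TensorProduct.induction_on with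
      | zero => simp
      | tmul c x => simp [ΦK]
      | add x y hx hy => rw [map_add, hx, hy, map_add]
    have hinj : Function.Injective ((splitHom R A E u hmod).toLinearMap.baseChange
        q.ResidueField) := by
      rw [hfun]
      exact (ΦK.toRingHom).injective
    have hdim : Module.finrank q.ResidueField (q.ResidueField ⊗[E] (E ⊗[R] A)) =
        Module.finrank q.ResidueField (q.ResidueField ⊗[E] (Module.End E A)) := by
      rw [hrank q, Module.finrank_baseChange, Module.finrank_linearMap, hrkA, sq]
    exact ⟨hinj, (LinearMap.injective_iff_surjective_of_finrank_eq_finrank hdim).mp hinj⟩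
  exact hbij

end splitting

end Groth.Agent.Lib.Helper15.EtaleSubLocal
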