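import Mathlib
import Groth.Agent.Lib.Helper15.AzumayaFibre

/-!
# Isomorphisms of endomorphism algebras come from twisting by an invertible module

`φ : End_A(F) ≃ₐ End_A(G)` with `F`, `G` finite projective faithfully flat: the module `L` of
intertwiners `ξ : F → G` (`ξ ∘ f = φ f ∘ ξ`) is invertible and `F ⊗ L ≃ G`.
-/

set_option autoImplicit false

open TensorProduct

namespace Groth.Agent.Lib.Helper15.MoritaEnd

universe u v w

variable {A : Type u} [CommRing A] {F : Type v} {G : Type w}
  [AddCommGroup F] [Module A F] [AddCommGroup G] [Module A G]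

/-- the module of intertwiners -/
def inter (φ : Module.End A F ≃ₐ[A] Module.End A G) : Submodule A (F →ₗ[A] G) where
  carrier := {ξ | ∀ f : Module.End A F, ξ ∘ₗ f = φ f ∘ₗ ξ}
  add_mem' := by
    intro a b ha hb f
    rw [LinearMap.add_comp, LinearMap.comp_add, ha f, hb f]
  zero_mem' := by
    intro f
    rw [LinearMap.zero_comp, LinearMap.comp_zero]
  smul_mem' := by
    intro c a ha f
    rw [LinearMap.smul_comp, LinearMap.comp_smul, ha f]

lemma mem_inter (φ : Module.End A F ≃ₐ[A] Module.End A G) (ξ : F →ₗ[A] G) :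
    ξ ∈ inter φ ↔ ∀ f : Module.End A F, ξ ∘ₗ f = φ f ∘ₗ ξ := Iff.rfl

lemma inter_apply (φ : Module.End A F ≃ₐ[A] Module.End A G) (ξ : inter φ) (f : Module.End A F)
    (x : F) : (ξ : F →ₗ[A] G) (f x) = φ f ((ξ : F →ₗ[A] G) x) :=
  LinearMap.congr_fun (ξ.2 f) x

/-- evaluation `F ⊗ L → G` -/
noncomputable def ev (φ : Module.End A F ≃ₐ[A] Module.End A G) : F ⊗[A] (inter φ) →ₗ[A] G :=
  TensorProduct.lift ((inter φ).subtype.flip : F →ₗ[A] (inter φ) →ₗ[A] G)

@[simp] lemma ev_tmul (φ : Module.End A F ≃ₐ[A] Module.End A G) (x : F) (ξ : inter φ) :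
    ev φ (x ⊗ₜ ξ) = (ξ : F →ₗ[A] G) x := by
  simp [ev]

/-- the intertwiner attached to a functional and a vector -/
noncomputable def xi (φ : Module.End A F ≃ₐ[A] Module.End A G) (l : Module.Dual A F) :
    G →ₗ[A] inter φ where
  toFun y :=
    ⟨{ toFun := fun x => φ (l.smulRight x) y
       map_add' := by
        intro x x'
        have : l.smulRight (x + x') = l.smulRight x + l.smulRight x' := by
          ext z; simp
        rw [this, map_add, LinearMap.add_apply]
       map_smul' := by
        intro c x
        have : l.smulRight (c • x) = c • l.smulRight x := by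
          ext z
          simp only [LinearMap.smulRight_apply, LinearMap.smul_apply]
          rw [smul_comm]
        rw [this, map_smul, LinearMap.smul_apply, RingHom.id_apply] }, by
      intro f
      ext x
      simp only [LinearMap.coe_comp, LinearMap.coe_mk, AddHom.coe_mk, Function.comp_apply]
      have : l.smulRight (f x) = f * l.smulRight x := by
        ext z; simp
      rw [this, map_mul, Module.End.mul_apply]⟩
  map_add' := by
    intro y y'
    ext x
    simp
  map_smul' := by
    intro c y
    ext x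
    simp

@[simp] lemma xi_apply (φ : Module.End A F ≃ₐ[A] Module.End A G) (l : Module.Dual A F) (y : G)
    (x : F) : ((xi φ l y : inter φ) : F →ₗ[A] G) x = φ (l.smulRight x) y := rfl

lemma xi_inter (φ : Module.End A F ≃ₐ[A] Module.End A G) (l : Module.Dual A F) (ξ : inter φ)
    (x : F) : xi φ l ((ξ : F →ₗ[A] G) x) = l x • ξ := by
  ext x'
  rw [xi_apply, ← inter_apply]
  simp

variable [Module.Finite A F] [Module.Projective A F]

/-- the evaluation map is an isomorphism -/
theorem exists_evEquiv (φ : Module.End A F ≃ₐ[A] Module.End A G) :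
    ∃ e : F ⊗[A] (inter φ) ≃ₗ[A] G, ∀ (x : F) (ξ : inter φ), e (x ⊗ₜ ξ) = (ξ : F →ₗ[A] G) x := by
  obtain ⟨n, p, i, -, -, hpi⟩ := Module.Finite.exists_comp_eq_id_of_projective A F
  have hx : ∀ x : F, x = ∑ j, (i x j) • p (Pi.single j 1) := by
    intro x
    have h1 : p (i x) = x := LinearMap.congr_fun hpi x
    conv_lhs => rw [← h1, ← Finset.univ_sum_single (i x)]
    rw [map_sum]
    refine Finset.sum_congr rfl fun j _ => ?_
    rw [← map_smul]
    congr 1
    ext l
    simp [Pi.single_apply]
  let μ : Fin n → Module.Dual A F := fun j => (LinearMap.proj j).comp i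
  let yv : Fin n → F := fun j => p (Pi.single j 1)
  have hx' : ∀ x : F, x = ∑ j, (μ j x) • yv j := hx
  have hid : (∑ j, (μ j).smulRight (yv j) : Module.End A F) = 1 := by
    ext x
    rw [LinearMap.sum_apply, Module.End.one_apply]
    conv_rhs => rw [hx' x]
    rfl
  let inv : G →ₗ[A] F ⊗[A] (inter φ) :=
    ∑ j, (TensorProduct.mk A F (inter φ) (yv j)).comp (xi φ (μ j))
  have h1 : (ev φ).comp inv = LinearMap.id := by
    ext y
    simp only [inv, LinearMap.comp_apply, LinearMap.sum_apply, map_sum, TensorProduct.mk_apply,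
      ev_tmul, xi_apply, LinearMap.id_apply]
    rw [← LinearMap.sum_apply, ← map_sum, hid, map_one, Module.End.one_apply]
  have h2 : inv.comp (ev φ) = LinearMap.id := by
    ext x ξ
    simp only [inv, TensorProduct.AlgebraTensorModule.curry_apply, LinearMap.restrictScalars_self,
      TensorProduct.curry_apply, LinearMap.comp_apply, ev_tmul, LinearMap.sum_apply,
      TensorProduct.mk_apply, LinearMap.id_apply, xi_inter]
    have : ∀ j, yv j ⊗ₜ[A] ((μ j) x • ξ) = ((μ j) x • yv j) ⊗ₜ[A] ξ := by
      intro j
      rw [TensorProduct.tmul_smul, TensorProduct.smul_tmul']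
    simp_rw [this]
    rw [← TensorProduct.sum_tmul, ← hx' x]
  exact ⟨LinearEquiv.ofLinearMap (ev φ) inv h1 h2, fun x ξ => ev_tmul φ x ξ⟩

variable [Module.FaithfullyFlat A F]

omit [Module.Finite A F] [Module.Projective A F] in
theorem faithfulSMul_of_faithfullyFlat : FaithfulSMul A F := by
  refine ⟨fun {a b} h => ?_⟩
  have h0 : (LinearMap.lsmul A A (a - b) : A →ₗ[A] A) = 0 := by
    rw [Module.FaithfullyFlat.zero_iff_lTensor_zero A F]
    ext x
    simp only [TensorProduct.AlgebraTensorModule.curry_apply, LinearMap.restrictScalars_self,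
      TensorProduct.curry_apply, LinearMap.lTensor_tmul, LinearMap.lsmul_apply, smul_eq_mul,
      mul_one, LinearMap.zero_apply]
    rw [← mul_one (a - b), ← smul_eq_mul, ← TensorProduct.smul_tmul, sub_smul, h x, sub_self,
      TensorProduct.zero_tmul]
  have := LinearMap.congr_fun h0 1
  simpa [sub_eq_zero] using this

/-- an element of `F* ⊗ F` of trace one -/
theorem exists_trace_one : ∃ t : Module.Dual A F ⊗[A] F, contractLeft A F t = 1 := by
  have := faithfulSMul_of_faithfullyFlat (A := A) (F := F)
  have hT := Groth.Agent.Lib.Helper15.Azumaya.traceIdeal_eq_top_of_faithful (R := A) (P := F)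
  have h1 : (1 : A) ∈ Groth.Agent.Lib.Helper15.Azumaya.traceIdeal A F := by rw [hT]; trivial
  have key : ∀ s ∈ Groth.Agent.Lib.Helper15.Azumaya.traceIdeal A F,
      ∃ t : Module.Dual A F ⊗[A] F, contractLeft A F t = s := by
    intro s hs
    refine Submodule.span_induction (p := fun s _ => ∃ t : Module.Dual A F ⊗[A] F,
      contractLeft A F t = s) ?_ ?_ ?_ ?_ hs
    · rintro _ ⟨f, x, rfl⟩
      exact ⟨f ⊗ₜ x, by simp⟩
    · exact ⟨0, by simp⟩
    · rintro a b _ _ ⟨t, ht⟩ ⟨t', ht'⟩
      exact ⟨t + t', by rw [map_add, ht, ht']⟩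
    · rintro c a _ ⟨t, ht⟩
      exact ⟨c • t, by rw [map_smul, ht]⟩
  exact key 1 h1

omit [Module.Finite A F] [Module.Projective A F] [Module.FaithfullyFlat A F] in
/-- endomorphisms commuting with everything are scalars (quantitative form) -/
theorem central_apply (z : Module.End A F) (hz : ∀ f : Module.End A F, z * f = f * z)
    (t : Module.Dual A F ⊗[A] F) (x : F) :
    contractLeft A F (z.lTensor (Module.Dual A F) t) • x = contractLeft A F t • z x := by
  induction t using TensorProduct.induction_on with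
  | zero => simp
  | tmul l x' =>
    have := LinearMap.congr_fun (hz (l.smulRight x)) x'
    simp only [Module.End.mul_apply, LinearMap.smulRight_apply, map_smul] at this
    simp only [LinearMap.lTensor_tmul, contractLeft_apply]
    exact this.symm
  | add t t' h h' => rw [map_add, map_add, add_smul, h, h', map_add, add_smul]

/-- the module of intertwiners is invertible -/
theorem invertible_inter [Module.Finite A G] [Module.Projective A G]
    (φ : Module.End A F ≃ₐ[A] Module.End A G) : Module.Invertible A (inter φ) := by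
  obtain ⟨t, ht⟩ := exists_trace_one (A := A) (F := F)
  obtain ⟨e, he⟩ := exists_evEquiv φ
  obtain ⟨e', he'⟩ := exists_evEquiv φ.symm
  -- the pairing
  let c : inter φ →ₗ[A] inter φ.symm →ₗ[A] A :=
    LinearMap.mk₂ A (fun ξ ξ' => contractLeft A F
      (((ξ' : G →ₗ[A] F) ∘ₗ (ξ : F →ₗ[A] G)).lTensor (Module.Dual A F) t))
      (by intro a b c; simp [LinearMap.comp_add, LinearMap.lTensor_add])
      (by intro r a b; simp [LinearMap.comp_smul, LinearMap.lTensor_smul])
      (by intro a b c; simp [LinearMap.add_comp, LinearMap.lTensor_add])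
      (by intro r a b; simp [LinearMap.smul_comp, LinearMap.lTensor_smul])
  have hcentral : ∀ (ξ : inter φ) (ξ' : inter φ.symm) (f : Module.End A F),
      ((ξ' : G →ₗ[A] F) ∘ₗ (ξ : F →ₗ[A] G)) * f = f * ((ξ' : G →ₗ[A] F) ∘ₗ (ξ : F →ₗ[A] G)) := by
    intro ξ ξ' f
    ext x
    simp only [Module.End.mul_apply, LinearMap.comp_apply]
    rw [inter_apply φ ξ f x, inter_apply φ.symm ξ' (φ f), AlgEquiv.symm_apply_apply]
  have hc : ∀ (ξ : inter φ) (ξ' : inter φ.symm) (x : F),
      c ξ ξ' • x = (ξ' : G →ₗ[A] F) ((ξ : F →ₗ[A] G) x) := by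
    intro ξ ξ' x
    have := central_apply ((ξ' : G →ₗ[A] F) ∘ₗ (ξ : F →ₗ[A] G)) (hcentral ξ ξ') t x
    rw [ht, one_smul] at this
    exact this
  let c' : inter φ ⊗[A] inter φ.symm →ₗ[A] A := TensorProduct.lift c
  have hcomp : c'.lTensor F =
      ((TensorProduct.rid A F).symm.toLinearMap ∘ₗ e'.toLinearMap ∘ₗ
        (e.toLinearMap.rTensor (inter φ.symm)) ∘ₗ
          (TensorProduct.assoc A F (inter φ) (inter φ.symm)).symm.toLinearMap) := by
    ext x ξ ξ'
    simp only [TensorProduct.AlgebraTensorModule.curry_apply, LinearMap.restrictScalars_self,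
      TensorProduct.curry_apply, LinearMap.lTensor_tmul, LinearMap.comp_apply, LinearEquiv.coe_coe,
      TensorProduct.assoc_symm_tmul, LinearMap.rTensor_tmul, he, he', TensorProduct.rid_symm_apply,
      c', TensorProduct.lift.tmul]
    rw [← hc ξ ξ' x, TensorProduct.smul_tmul, smul_eq_mul, mul_one]
  have hbij : Function.Bijective c' := by
    refine (Module.FaithfullyFlat.lTensor_bijective_iff_bijective A F
      (N := inter φ ⊗[A] inter φ.symm) (N' := A) c').mp ?_
    rw [hcomp]
    simp only [LinearMap.coe_comp, LinearEquiv.coe_coe]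
    refine (TensorProduct.rid A F).symm.bijective.comp (e'.bijective.comp (Function.Bijective.comp ?_
      (TensorProduct.assoc A F (inter φ) (inter φ.symm)).symm.bijective))
    exact (TensorProduct.congr e (LinearEquiv.refl A _)).bijective
  exact Module.Invertible.left (LinearEquiv.ofBijective c' hbij)

end Groth.Agent.Lib.Helper15.MoritaEnd
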