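import Mathlib
import Groth.Agent.Lib.Helper15.EtaleSubLocal
import Groth.Agent.Lib.Helper15.MoritaEnd

/-!
# Regular (separable, maximal degree) elements of central simple algebras (helper15)
-/

set_option autoImplicit false

universe u v w

namespace Groth.Agent.Lib.Helper15.RegularElt

open Groth.Agent.Lib.Helper15.Azumaya Groth.Agent.Lib.Helper15.EtaleSub
  Groth.Agent.Lib.Helper15.EtaleSubLocal
open scoped TensorProduct
open Polynomial

section adjoin

variable (K : Type*) [Field K] {A : Type*} [Ring A] [Algebra K A]

theorem span_pow_eq_adjoin (x : A) (hx : IsIntegral K x) :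
    Submodule.span K (Set.range fun i : Fin (minpoly K x).natDegree => x ^ (i : ℕ)) =
      Subalgebra.toSubmodule (Algebra.adjoin K {x}) := by
  apply le_antisymm
  · rw [Submodule.span_le]
    rintro _ ⟨i, rfl⟩
    exact Subalgebra.pow_mem _ (Algebra.self_mem_adjoin_singleton K x) i
  · intro y hy
    rw [Subalgebra.mem_toSubmodule, Algebra.adjoin_singleton_eq_range_aeval] at hy
    obtain ⟨p, rfl⟩ := hy
    have hmon := minpoly.monic hx
    rcases subsingleton_or_nontrivial A with hA | hA
    · rw [Subsingleton.elim ((aeval x).toRingHom p) 0]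
      exact Submodule.zero_mem _
    have hne1 : minpoly K x ≠ 1 := minpoly.ne_one K x
    have h1 : aeval x (p %ₘ minpoly K x) = aeval x p :=
      aeval_modByMonic_eq_self_of_root (minpoly.aeval K x)
    have h2 : (p %ₘ minpoly K x).natDegree < (minpoly K x).natDegree :=
      natDegree_modByMonic_lt p hmon hne1
    change aeval x p ∈ _
    rw [← h1, aeval_eq_sum_range' h2]
    refine Submodule.sum_mem _ fun i hi => Submodule.smul_mem _ _ ?_
    exact Submodule.subset_span ⟨⟨i, Finset.mem_range.mp hi⟩, rfl⟩

theorem finrank_adjoin_eq (x : A) (hx : IsIntegral K x) :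
    Module.finrank K (Algebra.adjoin K {x}) = (minpoly K x).natDegree := by
  rw [← Subalgebra.finrank_toSubmodule, ← span_pow_eq_adjoin K x hx,
    finrank_span_eq_card (linearIndependent_pow x), Fintype.card_fin]

end adjoin

section reduced

theorem isReduced_of_isSeparable (K : Type*) [Field K] (L : Type*) [CommRing L] [Algebra K L]
    [Algebra.IsSeparable K L] : IsReduced L := by
  refine ⟨fun z hz => ?_⟩
  obtain ⟨n, hn⟩ := hz
  have hsep : (minpoly K z).Separable := Algebra.IsSeparable.isSeparable K z
  have hint : IsIntegral K z := (Algebra.IsSeparable.isSeparable K z).isIntegral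
  have hdvd : minpoly K z ∣ (X : K[X]) ^ n := minpoly.dvd K z (by simp [hn])
  obtain ⟨m, -, hm⟩ := (dvd_prime_pow prime_X n).mp hdvd
  have hmu : minpoly K z = X ^ m :=
    eq_of_monic_of_associated (minpoly.monic hint) (monic_X_pow m) hm
  have hm1 : m ≤ 1 := by
    by_contra hcon
    push Not at hcon
    have hsq := hsep.squarefree
    rw [hmu] at hsq
    have : (X : K[X]) * X ∣ X ^ m := by
      rw [← sq]
      exact pow_dvd_pow X hcon
    exact not_isUnit_X (hsq X this)
  have h0 := minpoly.aeval K z
  rw [hmu] at h0
  interval_cases m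
  · rw [pow_zero, map_one] at h0
    have : Subsingleton L := subsingleton_of_zero_eq_one h0.symm
    exact Subsingleton.elim _ _
  · simpa using h0

end reduced

section centralizer

variable (K : Type u) [Field K] (A : Type u) [Ring A] [Algebra K A] [Algebra.IsCentral K A]
  [IsSimpleRing A] [FiniteDimensional K A]

/-- the centralizer of a commutative reduced subalgebra of maximal dimension is itself -/
theorem mem_range_of_commute (r : ℕ) (hA : Module.finrank K A = r ^ 2)
    (L : Type u) [CommRing L] [Algebra K L] [Module.Finite K L] [IsReduced L]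
    (hL : Module.finrank K L = r) (u : L →ₐ[K] A) (hu : Function.Injective u)
    (y : A) (hy : ∀ l : L, y * u l = u l * y) : y ∈ Set.range u := by
  letI := rightModule (u : L →+* A)
  have hmod : ∀ (l : L) (a : A), l • a = a * u l := fun _ _ => rfl
  haveI := EtaleSub.isScalarTower_of_hmod K A L u hmod
  obtain ⟨hfree, hrk⟩ := free_of_csa K A L u hmod r hA hL hu
  have hr : 0 < r := by
    rcases Nat.eq_zero_or_pos r with h | h
    · exfalso
      rw [h] at hA
      have : Subsingleton A :=
        (Module.finrank_eq_zero_iff_of_free K A).mp (by rw [hA, zero_pow two_ne_zero])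
      exact not_subsingleton A this
    · exact h
  haveI : Nontrivial L := by
    by_contra hL'
    rw [not_nontrivial_iff_subsingleton] at hL'
    have : Module.finrank K L = 0 := Module.finrank_zero_of_subsingleton
    omega
  haveI : Module.Finite L A := Module.Finite.of_restrictScalars_finite K L A
  let b := Module.finBasisOfFinrankEq L A hrk
  haveI : IsAzumaya K A := isAzumaya_of_csa K A
  have hbij := splitHom_bijective K A L u hmod r hr b (fun q _ => by
    rw [Module.finrank_baseChange, Module.finrank_baseChange, hA])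
  -- right multiplication by `y`
  let ρ : Module.End L A :=
    { toFun := fun z => z * y
      map_add' := fun a c => add_mul a c y
      map_smul' := fun l z => by
        simp only [RingHom.id_apply]
        rw [hmod, hmod, mul_assoc, mul_assoc, hy l] }
  have hcentral : ∀ f : Module.End L A, ρ * f = f * ρ := by
    intro f
    obtain ⟨t, rfl⟩ := hbij.2 f
    induction t using TensorProduct.induction_on with
    | zero => simp
    | tmul e a =>
      ext z
      simp only [Module.End.mul_apply]
      change splitHom K A L u hmod (e ⊗ₜ a) z * y = splitHom K A L u hmod (e ⊗ₜ a) (z * y)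
      rw [splitHom_tmul, splitHom_tmul, mul_assoc, ← hy e]
      simp only [mul_assoc]
    | add t t' ht ht' => rw [map_add, mul_add, add_mul, ht, ht']
  let t : Module.Dual L A ⊗[L] A := (b.coord ⟨0, hr⟩) ⊗ₜ (b ⟨0, hr⟩)
  have ht : contractLeft L A t = 1 := by
    simp [t]
  have key := Groth.Agent.Lib.Helper15.MoritaEnd.central_apply ρ hcentral t 1
  rw [ht, one_smul] at key
  refine ⟨contractLeft L A (LinearMap.lTensor (Module.Dual L A) ρ t), ?_⟩
  have h1 : ρ 1 = y := one_mul y
  rw [← h1, ← key, hmod, one_mul]

/-- the centralizer of a regular separable element is the algebra it generates -/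
theorem mem_adjoin_of_commute (r : ℕ) (hA : Module.finrank K A = r ^ 2) (x : A)
    [hsep : Algebra.IsSeparable K (Algebra.adjoin K ({x} : Set A))]
    (hrk : Module.finrank K (Algebra.adjoin K ({x} : Set A)) = r) (y : A)
    (hy : y * x = x * y) : y ∈ Algebra.adjoin K ({x} : Set A) := by
  letI : CommRing (Algebra.adjoin K ({x} : Set A)) :=
    Algebra.adjoinCommRingOfComm K (fun a ha b hb => by
      rw [Set.mem_singleton_iff] at ha hb
      rw [ha, hb])
  haveI : IsReduced (Algebra.adjoin K ({x} : Set A)) :=
    isReduced_of_isSeparable K (Algebra.adjoin K ({x} : Set A))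
  have hcomm : ∀ l : Algebra.adjoin K ({x} : Set A), y * (l : A) = (l : A) * y := by
    intro l
    have hle : Algebra.adjoin K ({x} : Set A) ≤ Subalgebra.centralizer K {y} := by
      apply Algebra.adjoin_le
      intro z hz
      rw [Set.mem_singleton_iff] at hz
      rw [hz, SetLike.mem_coe, Subalgebra.mem_centralizer_iff]
      intro g hg
      rw [Set.mem_singleton_iff] at hg
      rw [hg, hy]
    have := (Subalgebra.mem_centralizer_iff K).mp (hle l.2) y (Set.mem_singleton y)
    exact this
  obtain ⟨l, hl⟩ := mem_range_of_commute K A r hA (Algebra.adjoin K ({x} : Set A)) hrk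
    (Algebra.adjoin K ({x} : Set A)).val Subtype.val_injective y hcomm
  rw [← hl]
  exact l.2

end centralizer

section regularSection

variable (R : Type u) [CommRing R] [IsLocalRing R] (A : Type u) [Ring A] [Algebra R A]
  [IsAzumaya R A]

/-- **Regular sections**: an element whose image in the closed fibre is regular has linearly
independent powers `1, ξ, …, ξ^(r-1)` spanning its centralizer. -/
theorem regular_section (r : ℕ) (hA : Module.finrank R A = r ^ 2) (ξ : A)
    (hsep : Algebra.IsSeparable (IsLocalRing.ResidueField R)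
      (Algebra.adjoin (IsLocalRing.ResidueField R)
        ({(1 : IsLocalRing.ResidueField R) ⊗ₜ[R] ξ} : Set (IsLocalRing.ResidueField R ⊗[R] A))))
    (hrk : Module.finrank (IsLocalRing.ResidueField R)
      (Algebra.adjoin (IsLocalRing.ResidueField R)
        ({(1 : IsLocalRing.ResidueField R) ⊗ₜ[R] ξ} : Set (IsLocalRing.ResidueField R ⊗[R] A))) = r) :
    LinearIndependent R (fun i : Fin r => ξ ^ (i : ℕ)) ∧
      ∀ a : A, ξ * a = a * ξ → a ∈ Submodule.span R (Set.range (fun i : Fin r => ξ ^ (i : ℕ))) := by
  have hAz : IsAzumaya (IsLocalRing.ResidueField R) (IsLocalRing.ResidueField R ⊗[R] A) :=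
    isAzumaya_baseChange R (IsLocalRing.ResidueField R) A
  haveI := isCentral_of_isAzumaya (IsLocalRing.ResidueField R)
    (IsLocalRing.ResidueField R ⊗[R] A)
  haveI := isSimpleRing_of_isAzumaya (IsLocalRing.ResidueField R)
    (IsLocalRing.ResidueField R ⊗[R] A)
  haveI : Module.Free R A := Module.free_of_flat_of_isLocalRing
  have hA' : Module.finrank (IsLocalRing.ResidueField R)
      (IsLocalRing.ResidueField R ⊗[R] A) = r ^ 2 := by
    rw [Module.finrank_baseChange, hA]
  set x : IsLocalRing.ResidueField R ⊗[R] A := (1 : IsLocalRing.ResidueField R) ⊗ₜ[R] ξ with hx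
  have hint : IsIntegral (IsLocalRing.ResidueField R) x := Algebra.IsIntegral.isIntegral x
  have hdeg : (minpoly (IsLocalRing.ResidueField R) x).natDegree = r :=
    (finrank_adjoin_eq (IsLocalRing.ResidueField R) x hint).symm.trans hrk
  let π : A →ₗ[R] IsLocalRing.ResidueField R ⊗[R] A :=
    TensorProduct.mk R (IsLocalRing.ResidueField R) A 1
  have hπ : ∀ a, π a = (1 : IsLocalRing.ResidueField R) ⊗ₜ[R] a := fun a => rfl
  have hπpow : ∀ i : ℕ, π (ξ ^ i) = x ^ i := by
    intro i
    rw [hπ, hx, Algebra.TensorProduct.tmul_pow, one_pow]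
  have hπmul : ∀ a c, π (a * c) = π a * π c := by
    intro a c
    rw [hπ, hπ, hπ, Algebra.TensorProduct.tmul_mul_tmul, one_mul]
  subst hdeg
  set v : Fin (minpoly (IsLocalRing.ResidueField R) x).natDegree → A := fun i => ξ ^ (i : ℕ)
    with hv
  have hπv : (π ∘ v) = fun i : Fin (minpoly (IsLocalRing.ResidueField R) x).natDegree =>
      x ^ (i : ℕ) := by
    funext i
    exact hπpow i
  have hliK : LinearIndependent (IsLocalRing.ResidueField R) (π ∘ v) := by
    rw [hπv]
    exact linearIndependent_pow x
  have hli : LinearIndependent R v := Module.IsLocalRing.linearIndependent_of_flat v hliK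
  refine ⟨hli, ?_⟩
  -- the span of the images is the algebra generated by `x`
  have hspan : Submodule.span (IsLocalRing.ResidueField R) (Set.range (π ∘ v)) =
      Subalgebra.toSubmodule (Algebra.adjoin (IsLocalRing.ResidueField R) {x}) := by
    rw [hπv]
    exact span_pow_eq_adjoin (IsLocalRing.ResidueField R) x hint
  obtain ⟨W, hW⟩ := Submodule.exists_isCompl
    (Submodule.span (IsLocalRing.ResidueField R) (Set.range (π ∘ v)))
  let bw := Module.finBasis (IsLocalRing.ResidueField R) W
  choose w hw using fun j => exists_one_tmul R ((bw j : W) : IsLocalRing.ResidueField R ⊗[R] A)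
  let T : A →ₗ[R] A := LinearMap.mulLeft R ξ - LinearMap.mulRight R ξ
  have hT : ∀ a, T a = ξ * a - a * ξ := fun a => rfl
  have hπT : ∀ a, π (T a) = x * π a - π a * x := by
    intro a
    rw [hT, map_sub, hπmul, hπmul]
    rfl
  -- independence of the `T (w j)`
  have hliT : LinearIndependent R (fun j => T (w j)) := by
    apply Module.IsLocalRing.linearIndependent_of_flat
    rw [Fintype.linearIndependent_iff]
    intro c hc
    have h1 : ∀ j, (π ∘ fun j => T (w j)) j = x * (bw j : W) - (bw j : W) * x := by
      intro j
      change π (T (w j)) = _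
      rw [hπT, hπ, ← hw j]
    replace hc : ∑ j, c j • (x * ((bw j : W) : IsLocalRing.ResidueField R ⊗[R] A) -
        ((bw j : W) : IsLocalRing.ResidueField R ⊗[R] A) * x) = 0 := by
      rw [← hc]
      refine Finset.sum_congr rfl fun j _ => ?_
      rw [← h1 j]
    set z : W := ∑ j, c j • bw j with hz
    have hzc : x * (z : IsLocalRing.ResidueField R ⊗[R] A) - (z : _) * x = 0 := by
      rw [hz, Submodule.coe_sum, Finset.mul_sum, Finset.sum_mul, ← Finset.sum_sub_distrib, ← hc]
      refine Finset.sum_congr rfl fun j _ => ?_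
      rw [Submodule.coe_smul, mul_smul_comm, smul_mul_assoc, smul_sub]
    have hzmem : (z : IsLocalRing.ResidueField R ⊗[R] A) ∈
        Algebra.adjoin (IsLocalRing.ResidueField R) {x} :=
      mem_adjoin_of_commute (IsLocalRing.ResidueField R) (IsLocalRing.ResidueField R ⊗[R] A) _
        hA' x hrk z (by rw [← sub_eq_zero, ← neg_eq_zero, neg_sub]; exact hzc)
    have hz0 : (z : IsLocalRing.ResidueField R ⊗[R] A) = 0 := by
      have h2 : (z : IsLocalRing.ResidueField R ⊗[R] A) ∈
          Submodule.span (IsLocalRing.ResidueField R) (Set.range (π ∘ v)) ⊓ W := by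
        refine ⟨?_, z.2⟩
        rw [hspan]
        exact hzmem
      rw [hW.inf_eq_bot] at h2
      exact (Submodule.mem_bot _).mp h2
    have hz0' : z = 0 := Subtype.ext hz0
    rw [hz] at hz0'
    exact Fintype.linearIndependent_iff.mp bw.linearIndependent c hz0'
  -- spanning
  let φ : (Fin (minpoly (IsLocalRing.ResidueField R) x).natDegree ⊕
      Fin (Module.finrank (IsLocalRing.ResidueField R) W) → R) →ₗ[R] A :=
    Fintype.linearCombination R (Sum.elim v w)
  have hφsingle : ∀ k, φ (Pi.single k 1) = Sum.elim v w k := by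
    intro k
    rw [Fintype.linearCombination_apply_single, one_smul]
  have hsurjK : Function.Surjective (φ.baseChange (IsLocalRing.ResidueField R)) := by
    intro y
    obtain ⟨n, hn, ww, rfl⟩ : ∃ n ∈ Submodule.span (IsLocalRing.ResidueField R)
        (Set.range (π ∘ v)), ∃ ww : W, n + (ww : IsLocalRing.ResidueField R ⊗[R] A) = y := by
      have : y ∈ Submodule.span (IsLocalRing.ResidueField R) (Set.range (π ∘ v)) ⊔ W := by
        rw [hW.sup_eq_top]; trivial
      obtain ⟨n, hn, w', hw', h⟩ := Submodule.mem_sup.mp this
      exact ⟨n, hn, ⟨w', hw'⟩, h⟩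
    obtain ⟨c, rfl⟩ := (Submodule.mem_span_range_iff_exists_fun _).mp hn
    refine ⟨∑ i, c i ⊗ₜ[R] (Pi.single (Sum.inl i) (1 : R)) +
      ∑ j, (bw.repr ww j) ⊗ₜ[R] (Pi.single (Sum.inr j) (1 : R)), ?_⟩
    rw [map_add, map_sum, map_sum]
    congr 1
    · refine Finset.sum_congr rfl fun i _ => ?_
      rw [LinearMap.baseChange_tmul, hφsingle, Sum.elim_inl, Function.comp_apply, hπ,
        TensorProduct.smul_tmul', smul_eq_mul, mul_one]
    · have h3 : (ww : IsLocalRing.ResidueField R ⊗[R] A) =
          ((∑ j, bw.repr ww j • bw j : W) : IsLocalRing.ResidueField R ⊗[R] A) := by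
        rw [bw.sum_repr]
      rw [h3, Submodule.coe_sum]
      refine Finset.sum_congr rfl fun j _ => ?_
      rw [LinearMap.baseChange_tmul, hφsingle, Sum.elim_inr, Submodule.coe_smul, hw j,
        TensorProduct.smul_tmul', smul_eq_mul, mul_one]
  have hsurj : Function.Surjective φ := surjective_of_baseChange_residue R φ hsurjK
  intro a ha
  obtain ⟨f, rfl⟩ := hsurj a
  have hφf : φ f = ∑ i, f (Sum.inl i) • v i + ∑ j, f (Sum.inr j) • w j := by
    change Fintype.linearCombination R (Sum.elim v w) f = _
    rw [Fintype.linearCombination_apply, Fintype.sum_sum_type]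
    simp
  have hTv : ∀ i, T (v i) = 0 := by
    intro i
    rw [hT, hv]
    simp only
    rw [← pow_succ', ← pow_succ, sub_self]
  have hT0 : T (φ f) = 0 := by rw [hT, ha, sub_self]
  rw [hφf, map_add, map_sum, map_sum] at hT0
  simp_rw [map_smul, hTv, smul_zero] at hT0
  rw [Finset.sum_const_zero, zero_add] at hT0
  have hf0 := Fintype.linearIndependent_iff.mp hliT (fun j => f (Sum.inr j)) hT0
  rw [hφf]
  simp_rw [hf0, zero_smul]
  rw [Finset.sum_const_zero, add_zero]
  exact Submodule.sum_mem _ fun i _ => Submodule.smul_mem _ _ (Submodule.subset_span ⟨i, rfl⟩)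

end regularSection

end Groth.Agent.Lib.Helper15.RegularElt
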