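import Mathlib

/-!
# Separability of all elements of `k[x]` when `x` has separable minimal polynomial (helper15)
-/

set_option autoImplicit false

universe u v w

namespace Groth.Agent.Lib.Helper15.SepAdjoin

open scoped TensorProduct
open Polynomial

section basechange

variable (k : Type u) [Field k] (K : Type v) [Field K] [Algebra k K]
  {A : Type w} [Ring A] [Algebra k A]

/-- the minimal polynomial is stable under extension of the base field -/
theorem minpoly_one_tmul (y : A) (hy : IsIntegral k y) :
    minpoly K ((1 : K) ⊗ₜ[k] y : K ⊗[k] A) = (minpoly k y).map (algebraMap k K) := by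
  symm
  have hmon : ((minpoly k y).map (algebraMap k K)).Monic := (minpoly.monic hy).map _
  have haeval : ∀ p : k[X], aeval ((1 : K) ⊗ₜ[k] y : K ⊗[k] A) (p.map (algebraMap k K)) =
      (1 : K) ⊗ₜ[k] (aeval y p) := by
    intro p
    rw [aeval_map_algebraMap]
    exact (aeval_algHom_apply (Algebra.TensorProduct.includeRight (R := k) (A := K) (B := A))
      y p)
  refine minpoly.unique K _ hmon ?_ ?_
  · rw [haeval, minpoly.aeval, TensorProduct.tmul_zero]
  · intro q hq hq0
    by_contra hlt
    push Not at hlt
    rw [degree_map] at hlt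
    have hnat : q.natDegree < (minpoly k y).natDegree :=
      natDegree_lt_natDegree hq.ne_zero hlt
    have hli : LinearIndependent K (fun i : Fin (minpoly k y).natDegree =>
        ((1 : K) ⊗ₜ[k] (y ^ (i : ℕ)) : K ⊗[k] A)) :=
      Module.Flat.linearIndependent_one_tmul (S := K) (linearIndependent_pow y)
    rw [aeval_eq_sum_range' hnat] at hq0
    have hsum : ∑ i : Fin (minpoly k y).natDegree,
        q.coeff i • ((1 : K) ⊗ₜ[k] (y ^ (i : ℕ)) : K ⊗[k] A) = 0 := by
      rw [← hq0, Finset.sum_range]
      refine Finset.sum_congr rfl fun i _ => ?_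
      rw [Algebra.TensorProduct.tmul_pow, one_pow]
    have h0 := Fintype.linearIndependent_iff.mp hli (fun i => q.coeff i) hsum ⟨q.natDegree, hnat⟩
    simp only at h0
    rw [coeff_natDegree, hq.leadingCoeff] at h0
    exact one_ne_zero h0

end basechange

section sep

variable (k : Type u) [Field k] {A : Type w} [Ring A] [Algebra k A]

/-- polynomials in an element with separable minimal polynomial are separable -/
theorem isSeparable_of_mem_adjoin (x : A) (hx : IsIntegral k x)
    (hsep : (minpoly k x).Separable) (y : A) (hy : y ∈ Algebra.adjoin k ({x} : Set A))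
    (hyint : IsIntegral k y) : (minpoly k y).Separable := by
  classical
  rw [Algebra.adjoin_singleton_eq_range_aeval] at hy
  obtain ⟨q, rfl⟩ := hy
  let K := AlgebraicClosure k
  set X' : K ⊗[k] A := (1 : K) ⊗ₜ[k] x with hX'
  have haeval : ∀ p : k[X], aeval X' (p.map (algebraMap k K)) = (1 : K) ⊗ₜ[k] (aeval x p) := by
    intro p
    rw [aeval_map_algebraMap]
    exact (aeval_algHom_apply (Algebra.TensorProduct.includeRight (R := k) (A := K) (B := A))
      x p)
  set μK := (minpoly k x).map (algebraMap k K) with hμK
  have hμmin : minpoly K X' = μK := minpoly_one_tmul k K x hx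
  have hμsep : μK.Separable := hsep.map
  have hμne : μK ≠ 0 := hμsep.ne_zero
  have hμsplits : μK.Splits := IsAlgClosed.splits μK
  set qK := q.map (algebraMap k K) with hqK
  let S : Finset K := (μK.roots.map (fun α => eval α qK)).toFinset
  let P : K[X] := ∏ β ∈ S, (X - C β)
  have hPsep : P.Separable := separable_prod_X_sub_C_iff'.mpr (fun a _ b _ h => h)
  have hdvd : μK ∣ P.comp qK := by
    by_cases hG : P.comp qK = 0
    · rw [hG]; exact dvd_zero _
    refine hμsplits.dvd_of_roots_le_roots hμne ?_
    rw [Multiset.le_iff_subset (nodup_roots hμsep)]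
    intro α hα
    rw [mem_roots hG, IsRoot.def, eval_comp, eval_prod]
    refine Finset.prod_eq_zero (i := eval α qK) ?_ (by simp)
    rw [Multiset.mem_toFinset, Multiset.mem_map]
    exact ⟨α, hα, rfl⟩
  have hY : aeval X' qK = (1 : K) ⊗ₜ[k] ((aeval x).toRingHom q) := haeval q
  have hP0 : aeval ((1 : K) ⊗ₜ[k] ((aeval x).toRingHom q) : K ⊗[k] A) P = 0 := by
    rw [← hY, ← aeval_comp]
    obtain ⟨h, hh⟩ := hdvd
    rw [hh, map_mul, ← hμmin, minpoly.aeval, zero_mul]
  have h1 : minpoly K ((1 : K) ⊗ₜ[k] ((aeval x).toRingHom q) : K ⊗[k] A) ∣ P :=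
    minpoly.dvd K _ hP0
  have h2 := hPsep.of_dvd h1
  rw [minpoly_one_tmul k K _ hyint] at h2
  exact (separable_map (algebraMap k K)).mp h2

/-- if `x` has separable minimal polynomial then `k[x]` is a separable algebra -/
theorem isSeparable_adjoin [FiniteDimensional k A] (x : A) (hsep : (minpoly k x).Separable) :
    Algebra.IsSeparable k (Algebra.adjoin k ({x} : Set A)) := by
  refine ⟨fun y => ?_⟩
  have hyint : IsIntegral k (y : A) := Algebra.IsIntegral.isIntegral _
  have h := isSeparable_of_mem_adjoin k x (Algebra.IsIntegral.isIntegral x) hsep y y.2 hyint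
  have heq : minpoly k y = minpoly k (y : A) :=
    (minpoly.algHom_eq (Algebra.adjoin k ({x} : Set A)).val Subtype.val_injective y).symm
  rw [IsSeparable, heq]
  exact h

end sep

end Groth.Agent.Lib.Helper15.SepAdjoin
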