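import Mathlib
import Groth.Agent.Lib.Helper15.SkolemNoether

/-!
# Cancelling matrix algebras (helper15)

`M_n(A) ≃ M_n(A')` implies `A ≃ A'` for finite-dimensional (central) simple algebras.
-/

set_option autoImplicit false
universe u v w
open scoped TensorProduct

namespace Groth.Agent.Lib.Helper15.CSA

open Matrix in
theorem nonempty_algEquiv_of_matrix_algEquiv (k : Type u) [Field k]
    (A : Type v) [Ring A] [Algebra k A] [IsSimpleRing A] [FiniteDimensional k A]
    (A' : Type w) [Ring A'] [Algebra k A'] [Algebra.IsCentral k A'] [IsSimpleRing A']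
    [FiniteDimensional k A']
    (n : ℕ) (hn : n ≠ 0) (e : Matrix (Fin n) (Fin n) A ≃ₐ[k] Matrix (Fin n) (Fin n) A') :
    Nonempty (A ≃ₐ[k] A') := by
  classical
  have : NeZero n := ⟨hn⟩
  let f : Matrix (Fin n) (Fin n) k →ₐ[k] Matrix (Fin n) (Fin n) A' := (Algebra.ofId k A').mapMatrix
  let f₀ : Matrix (Fin n) (Fin n) k →ₐ[k] Matrix (Fin n) (Fin n) A := (Algebra.ofId k A).mapMatrix
  let g : Matrix (Fin n) (Fin n) k →ₐ[k] Matrix (Fin n) (Fin n) A' := (e : _ →ₐ[k] _).comp f₀
  obtain ⟨u, hu⟩ := skolem_noether f g
  -- the conjugated map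
  let X : A → Matrix (Fin n) (Fin n) A' := fun a =>
    ((u⁻¹ : (Matrix (Fin n) (Fin n) A')ˣ) : Matrix (Fin n) (Fin n) A') * e (scalar (Fin n) a) * u
  have hXone : X 1 = 1 := by simp [X]
  have hXmul : ∀ a b, X (a * b) = X a * X b := by
    intro a b
    simp only [X, map_mul]
    simp only [mul_assoc, Units.mul_inv_cancel_left]
  have hXadd : ∀ a b, X (a + b) = X a + X b := by
    intro a b
    simp only [X, map_add, mul_add, add_mul]
  have hXsmul : ∀ (c : k) a, X (c • a) = c • X a := by
    intro c a
    have : scalar (Fin n) (c • a) = c • scalar (Fin n) a := by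
      ext i j; simp [Matrix.diagonal_apply]
    simp only [X, this, map_smul, Algebra.mul_smul_comm, Algebra.smul_mul_assoc]
  have hf0comm : ∀ (a : A) (b : Matrix (Fin n) (Fin n) k), f₀ b * scalar (Fin n) a =
      scalar (Fin n) a * f₀ b := by
    intro a b
    refine ((Matrix.scalar_commute_iff.mpr ?_).symm).eq
    ext i j
    simp only [f₀, AlgHom.mapMatrix_apply, Matrix.smul_apply, Matrix.map_apply, smul_eq_mul,
      MulOpposite.smul_eq_mul_unop, MulOpposite.unop_op]
    exact ((Algebra.commutes (b i j) a).symm)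
  have hXcomm : ∀ a (b : Matrix (Fin n) (Fin n) k), f b * X a = X a * f b := by
    intro a b
    have h1 : f b = ((u⁻¹ : (Matrix (Fin n) (Fin n) A')ˣ) : Matrix (Fin n) (Fin n) A') * g b * u := by
      rw [hu b]; simp [mul_assoc]
    rw [h1]
    simp only [X, g, AlgHom.comp_apply, AlgEquiv.coe_toAlgHom]
    simp only [mul_assoc, Units.mul_inv_cancel_left]
    rw [← mul_assoc (e (f₀ b)), ← map_mul, hf0comm, map_mul]
    simp only [mul_assoc]
  have hXscalar : ∀ a, ∃ a', X a = scalar (Fin n) a' := by
    intro a
    have : X a ∈ Set.range (scalar (Fin n)) := by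
      rw [Matrix.mem_range_scalar_iff_commute_single']
      intro i j
      have := hXcomm a (Matrix.single i j 1)
      have hf : f (Matrix.single i j 1) = Matrix.single i j 1 := by
        simp [f]
      rw [hf] at this
      exact this
    obtain ⟨a', ha'⟩ := this
    exact ⟨a', ha'.symm⟩
  choose F hF using hXscalar
  have hsinj : Function.Injective (scalar (Fin n) : A' → Matrix (Fin n) (Fin n) A') := by
    intro x y hxy
    have := congrFun (congrFun hxy 0) 0
    simpa using this
  let Fa : A →ₐ[k] A' := AlgHom.ofLinearMap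
    { toFun := F
      map_add' := fun a b => hsinj (by rw [← hF, hXadd, hF, hF, map_add])
      map_smul' := fun c a => hsinj (by
        rw [← hF, hXsmul, hF]
        ext i j; simp [Matrix.diagonal_apply]) }
    (hsinj (by
      change scalar (Fin n) (F 1) = _
      rw [← hF, hXone, map_one]))
    (fun a b => hsinj (by
      change scalar (Fin n) (F (a * b)) = scalar (Fin n) (F a * F b)
      rw [← hF, hXmul, hF, hF, map_mul]))
  have hinj : Function.Injective Fa := (Fa : A →+* A').injective
  have hdim : Module.finrank k A = Module.finrank k A' := by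
    have h1 := e.toLinearEquiv.finrank_eq
    rw [Module.finrank_matrix, Module.finrank_matrix] at h1
    have hpos : 0 < Fintype.card (Fin n) * Fintype.card (Fin n) := by
      simp; exact hn
    exact Nat.eq_of_mul_eq_mul_left hpos h1
  have hsurj : Function.Surjective Fa :=
    (LinearMap.injective_iff_surjective_of_finrank_eq_finrank (f := Fa.toLinearMap) hdim).mp hinj
  exact ⟨AlgEquiv.ofBijective Fa ⟨hinj, hsurj⟩⟩

end Groth.Agent.Lib.Helper15.CSA
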