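import Mathlib
import Groth.Agent.Lib.Helper15.CSAMatrix

/-!
# Wedderburn structure theory for central simple algebras (helper15)
-/

set_option autoImplicit false
universe u v w
open scoped TensorProduct

namespace Groth.Agent.Lib.Helper15.CSA

/-- If `M_n(D)` is central over `k` (with `n ≠ 0`) then so is `D`. -/
theorem isCentral_of_matrix (k : Type u) [Field k] (D : Type v) [Ring D] [Algebra k D]
    (n : ℕ) [NeZero n] [Algebra.IsCentral k (Matrix (Fin n) (Fin n) D)] :
    Algebra.IsCentral k D := by
  refine ⟨fun d hd => ?_⟩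
  have h1 : Matrix.scalar (Fin n) d ∈ Subalgebra.center k (Matrix (Fin n) (Fin n) D) := by
    rw [Subalgebra.mem_center_iff]
    intro M
    exact ((Matrix.scalar_commute d (fun r => (Subalgebra.mem_center_iff.mp hd r).symm) M).eq).symm
  obtain ⟨c, hc⟩ := (Algebra.IsCentral.mem_center_iff k).mp h1
  have h2 := congrFun (congrFun hc 0) 0
  rw [Matrix.algebraMap_matrix_apply] at h2
  simp at h2
  exact ⟨c, h2.symm⟩

/-- Wedderburn: a finite-dimensional central simple algebra is a matrix algebra over a
finite-dimensional central division algebra. -/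
theorem exists_algEquiv_matrix_central_division (k : Type u) [Field k] (A : Type v) [Ring A]
    [Algebra k A] [Algebra.IsCentral k A] [IsSimpleRing A] [FiniteDimensional k A] :
    ∃ (n : ℕ) (_ : NeZero n) (D : Type v) (_ : DivisionRing D) (_ : Algebra k D)
      (_ : Algebra.IsCentral k D) (_ : FiniteDimensional k D),
      Nonempty (A ≃ₐ[k] Matrix (Fin n) (Fin n) D) := by
  have : IsArtinianRing A := IsArtinianRing.of_finite k A
  obtain ⟨n, hn, D, hD, hkD, hfin, ⟨e⟩⟩ := IsSimpleRing.exists_algEquiv_matrix_divisionRing_finite k A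
  have : Algebra.IsCentral k (Matrix (Fin n) (Fin n) D) := Algebra.IsCentral.of_algEquiv k _ _ e
  exact ⟨n, hn, D, hD, hkD, isCentral_of_matrix k D n, hfin, ⟨e⟩⟩

/-- A finite-dimensional central division algebra over a separably closed field is the field. -/
theorem bot_eq_top_of_isSepClosed (k : Type u) [Field k] [IsSepClosed k] (D : Type v)
    [DivisionRing D] [Algebra k D] [Algebra.IsCentral k D] [FiniteDimensional k D] :
    (⊥ : Subalgebra k D) = ⊤ := by
  by_contra hne
  have : Algebra.IsAlgebraic k D := Algebra.IsAlgebraic.of_finite k D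
  obtain ⟨x, hx, hsep⟩ := JacobsonNoether.exists_separable_and_not_isCentral' hne
  apply hx
  have hint : IsIntegral k x := Algebra.IsIntegral.isIntegral x
  have hsplits := IsSepClosed.splits_of_separable (minpoly k x) hsep
  have hdeg : (minpoly k x).degree = 1 :=
    Polynomial.Splits.degree_eq_one_of_irreducible hsplits (minpoly.irreducible hint)
  have := minpoly.mem_range_of_degree_eq_one k x hdeg
  exact this

theorem exists_algEquiv_matrix_of_isSepClosed (k : Type u) [Field k] [IsSepClosed k]
    (A : Type v) [Ring A] [Algebra k A] [Algebra.IsCentral k A] [IsSimpleRing A]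
    [FiniteDimensional k A] :
    ∃ (n : ℕ) (_ : NeZero n), Nonempty (A ≃ₐ[k] Matrix (Fin n) (Fin n) k) := by
  obtain ⟨n, hn, D, _, _, _, _, ⟨e⟩⟩ := exists_algEquiv_matrix_central_division k A
  have hbt := bot_eq_top_of_isSepClosed k D
  have hbij : Function.Bijective (Algebra.ofId k D) := by
    refine ⟨(Algebra.ofId k D : k →+* D).injective, fun d => ?_⟩
    have : d ∈ (⊥ : Subalgebra k D) := hbt ▸ Algebra.mem_top
    exact Algebra.mem_bot.mp this
  exact ⟨n, hn, ⟨e.trans (AlgEquiv.mapMatrix (AlgEquiv.ofBijective (Algebra.ofId k D) hbij).symm)⟩⟩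

end Groth.Agent.Lib.Helper15.CSA
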