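import Mathlib
import Groth.Agent.Lib.Helper15.GenericComm
import Groth.Agent.Lib.Helper15.SepAdjoin
import Groth.Agent.Lib.Helper15.RegularElt
import Groth.Agent.Lib.Helper8.CSASplit

/-!
# Existence of regular separable elements in central simple algebras (helper15)
-/

set_option autoImplicit false

universe u v w

namespace Groth.Agent.Lib.Helper15.RegularExists

open scoped TensorProduct
open Polynomial Matrix Groth.Agent.Lib.Helper15.Tri

section generic

variable {k : Type*} [Field k] [Infinite k] {Ω : Type*} [Field Ω] [Algebra k Ω] [IsAlgClosed Ω]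
  {ι : Type*} [Fintype ι] [DecidableEq ι] (n : ℕ)

/-- the generic combination of the `B i` -/
noncomputable def genM (B : ι → Matrix (Fin n) (Fin n) Ω) :
    Matrix (Fin n) (Fin n) (MvPolynomial ι Ω) :=
  ∑ i, (MvPolynomial.X i : MvPolynomial ι Ω) • (B i).map MvPolynomial.C

theorem genM_map (B : ι → Matrix (Fin n) (Fin n) Ω) (p : ι → Ω) :
    (genM n B).map (MvPolynomial.eval p) = ∑ i, p i • B i := by
  ext a b
  simp only [genM, Matrix.map_apply, Matrix.sum_apply, Matrix.smul_apply, smul_eq_mul, map_sum,
    map_mul, MvPolynomial.eval_X, MvPolynomial.eval_C]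

/-- the discriminant of the generic characteristic polynomial -/
noncomputable def genDisc (B : ι → Matrix (Fin n) (Fin n) Ω) : MvPolynomial ι Ω :=
  resultant (genM n B).charpoly (derivative (genM n B).charpoly) n (n - 1)

theorem genDisc_eval (B : ι → Matrix (Fin n) (Fin n) Ω) (p : ι → Ω) :
    MvPolynomial.eval p (genDisc n B) ≠ 0 ↔ (∑ i, p i • B i).charpoly.Separable := by
  have h1 : MvPolynomial.eval p (genDisc n B) =
      resultant ((genM n B).map (MvPolynomial.eval p)).charpoly
        (derivative ((genM n B).map (MvPolynomial.eval p)).charpoly) n (n - 1) := by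
    rw [genDisc, Matrix.charpoly_map, Polynomial.derivative_map, resultant_map_map]
  rw [h1, genM_map]
  rw [← separable_iff_resultant_ne_zero (Matrix.charpoly_monic _) n
    (by rw [Matrix.charpoly_natDegree_eq_dim, Fintype.card_fin])]

omit [Infinite k] [Algebra k Ω] in
theorem exists_separable_charpoly : ∃ M : Matrix (Fin n) (Fin n) Ω, M.charpoly.Separable := by
  haveI : Infinite Ω := IsAlgClosed.instInfinite
  let d : Fin n → Ω := fun i => Infinite.natEmbedding Ω i
  have hd : Function.Injective d := fun i j h =>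
    Fin.val_injective ((Infinite.natEmbedding Ω).injective h)
  refine ⟨Matrix.diagonal d, ?_⟩
  rw [Matrix.charpoly_diagonal]
  exact separable_prod_X_sub_C_iff.mpr hd

/-- rational points with separable characteristic polynomial -/
theorem exists_rational_separable (B : ι → Matrix (Fin n) (Fin n) Ω)
    (hB : ∀ M : Matrix (Fin n) (Fin n) Ω, ∃ c : ι → Ω, M = ∑ i, c i • B i) :
    ∃ x : ι → k, (∑ i, algebraMap k Ω (x i) • B i).charpoly.Separable := by
  obtain ⟨M₀, hM₀⟩ := exists_separable_charpoly (Ω := Ω) n
  obtain ⟨c, hc⟩ := hB M₀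
  have hΦ0 : genDisc n B ≠ 0 := by
    intro h0
    have h1 : MvPolynomial.eval c (genDisc n B) ≠ 0 := by
      rw [genDisc_eval, ← hc]
      exact hM₀
    rw [h0, map_zero] at h1
    exact h1 rfl
  have hex : ∃ p ∈ Set.univ.pi (fun _ : ι => Set.range (algebraMap k Ω)),
      MvPolynomial.eval p (genDisc n B) ≠ 0 := by
    by_contra hcon
    push Not at hcon
    apply hΦ0
    refine MvPolynomial.funext_set (fun _ => Set.range (algebraMap k Ω))
      (fun _ => Set.infinite_range_of_injective (algebraMap k Ω).injective) fun p hp => ?_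
    rw [hcon p hp, map_zero]
  obtain ⟨p, hp, hpΦ⟩ := hex
  have hp' : ∀ j, ∃ c : k, algebraMap k Ω c = p j := fun j => hp j (Set.mem_univ j)
  choose q hq using hp'
  rw [genDisc_eval] at hpΦ
  refine ⟨q, ?_⟩
  simp only [hq]
  exact hpΦ

end generic

section minpolyCharpoly

/-- a matrix with separable characteristic polynomial has it as minimal polynomial -/
theorem minpoly_eq_charpoly_of_separable {Ω : Type*} [Field Ω] [IsAlgClosed Ω] {n : ℕ}
    (M : Matrix (Fin n) (Fin n) Ω) (h : M.charpoly.Separable) : minpoly Ω M = M.charpoly := by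
  have hdvd := Matrix.minpoly_dvd_charpoly M
  have hint : IsIntegral Ω M := Matrix.isIntegral M
  have hne : minpoly Ω M ≠ 0 := minpoly.ne_zero hint
  have hdvd' : M.charpoly ∣ minpoly Ω M := by
    refine (IsAlgClosed.splits M.charpoly).dvd_of_roots_le_roots h.ne_zero ?_
    rw [Multiset.le_iff_subset (nodup_roots h)]
    intro α hα
    rw [mem_roots h.ne_zero] at hα
    rw [mem_roots hne, ← Matrix.minpoly_toLin', ← Module.End.hasEigenvalue_iff_isRoot,
      Module.End.hasEigenvalue_iff_isRoot_charpoly, Matrix.charpoly_toLin']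
    exact hα
  exact eq_of_monic_of_associated (minpoly.monic hint) (Matrix.charpoly_monic M)
    (associated_of_dvd_dvd hdvd hdvd')

end minpolyCharpoly

section infinite

variable (k : Type u) [Field k] (A : Type v) [Ring A] [Algebra k A] [Algebra.IsCentral k A]
  [IsSimpleRing A] [FiniteDimensional k A]

theorem exists_regular_of_infinite [Infinite k] (r : ℕ) (hA : Module.finrank k A = r ^ 2) :
    ∃ z : A, (minpoly k z).Separable ∧ (minpoly k z).natDegree = r := by
  classical
  let Ω := AlgebraicClosure k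
  obtain ⟨n, hn, ⟨φ⟩⟩ := Groth.Agent.Lib.Helper8.CSASplit.splits_of_isSepClosed k A Ω
  have hnr : n = r := by
    have h1 : Module.finrank Ω (Ω ⊗[k] A) = r ^ 2 := by rw [Module.finrank_baseChange, hA]
    have h2 := φ.toLinearEquiv.finrank_eq
    rw [h1, Module.finrank_matrix] at h2
    simp only [Fintype.card_fin, Module.finrank_self, mul_one] at h2
    have h3 : r ^ 2 = n ^ 2 := by rw [h2, sq]
    exact (Nat.pow_left_injective two_ne_zero h3).symm
  let b := Module.finBasis k A
  let B : Fin (Module.finrank k A) → Matrix (Fin n) (Fin n) Ω := fun i => φ ((1 : Ω) ⊗ₜ[k] b i)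
  have hB : ∀ M : Matrix (Fin n) (Fin n) Ω, ∃ c : Fin (Module.finrank k A) → Ω,
      M = ∑ i, c i • B i := by
    intro M
    let bΩ := Algebra.TensorProduct.basis Ω b
    refine ⟨fun i => bΩ.repr (φ.symm M) i, ?_⟩
    have h1 := bΩ.sum_repr (φ.symm M)
    have h2 := congrArg φ h1
    rw [φ.apply_symm_apply, map_sum] at h2
    refine h2.symm.trans ?_
    refine Finset.sum_congr rfl fun i _ => ?_
    rw [map_smul, Algebra.TensorProduct.basis_apply]
  have hφsum : ∀ x : Fin (Module.finrank k A) → k,
      φ ((1 : Ω) ⊗ₜ[k] (∑ i, x i • b i)) = ∑ i, algebraMap k Ω (x i) • B i := by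
    intro x
    rw [TensorProduct.tmul_sum, map_sum]
    refine Finset.sum_congr rfl fun i _ => ?_
    rw [TensorProduct.tmul_smul, ← algebraMap_smul Ω (x i) ((1 : Ω) ⊗ₜ[k] b i), map_smul]
  obtain ⟨x, hx⟩ := exists_rational_separable (k := k) n B hB
  rw [← hφsum x] at hx
  set z : A := ∑ i, x i • b i with hz
  have hzint : IsIntegral k z := Algebra.IsIntegral.isIntegral z
  have h1 : minpoly Ω (φ ((1 : Ω) ⊗ₜ[k] z)) = (φ ((1 : Ω) ⊗ₜ[k] z)).charpoly :=
    minpoly_eq_charpoly_of_separable _ hx
  have h2 : minpoly Ω (φ ((1 : Ω) ⊗ₜ[k] z)) = minpoly Ω ((1 : Ω) ⊗ₜ[k] z : Ω ⊗[k] A) :=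
    minpoly.algEquiv_eq φ _
  have h3 := Groth.Agent.Lib.Helper15.SepAdjoin.minpoly_one_tmul k Ω z hzint
  have h4 : (minpoly k z).map (algebraMap k Ω) = (φ ((1 : Ω) ⊗ₜ[k] z)).charpoly := by
    rw [← h3, ← h2, h1]
  refine ⟨z, ?_, ?_⟩
  · rw [← separable_map (algebraMap k Ω), h4]
    exact hx
  · have := congrArg natDegree h4
    rw [natDegree_map, Matrix.charpoly_natDegree_eq_dim, Fintype.card_fin] at this
    rw [this, hnr]

end infinite

section finite

theorem exists_separable_monic (k : Type u) [Field k] (n : ℕ) (hn : 0 < n) :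
    ∃ f : k[X], f.Monic ∧ f.natDegree = n ∧ f.Separable := by
  by_cases hnk : (n : k) = 0
  · -- positive characteristic dividing `n`
    obtain ⟨p, hp⟩ := CharP.exists k
    have hpn : p ∣ n := (CharP.cast_eq_zero_iff k p n).mp hnk
    have hp0 : p ≠ 0 := by
      rintro rfl
      rw [zero_dvd_iff] at hpn
      omega
    haveI : Fact p.Prime := ⟨(CharP.char_is_prime_or_zero k p).resolve_right hp0⟩
    have hn2 : 2 ≤ n := le_trans (Fact.out : p.Prime).two_le (Nat.le_of_dvd hn hpn)
    have hdeg : (X : k[X]).degree < (n : WithBot ℕ) := by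
      rw [degree_X]
      exact_mod_cast hn2
    refine ⟨X ^ n - X, monic_X_pow_sub hdeg, ?_, galois_poly_separable p n hpn⟩
    rw [natDegree_sub_eq_left_of_natDegree_lt, natDegree_X_pow]
    rw [natDegree_X, natDegree_X_pow]
    omega
  · refine ⟨X ^ n - C 1, monic_X_pow_sub_C 1 hn.ne', natDegree_X_pow_sub_C,
      separable_X_pow_sub_C 1 hnk one_ne_zero⟩

variable (k : Type u) [Field k] (A : Type v) [Ring A] [Algebra k A] [Algebra.IsCentral k A]
  [IsSimpleRing A] [FiniteDimensional k A]

theorem exists_regular_of_finite [Finite k] (r : ℕ) (hA : Module.finrank k A = r ^ 2) :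
    ∃ z : A, (minpoly k z).Separable ∧ (minpoly k z).natDegree = r := by
  classical
  obtain ⟨n, hn, D, _, _, hDc, hDf, ⟨e⟩⟩ :=
    Groth.Agent.Lib.Helper15.CSA.exists_algEquiv_matrix_central_division k A
  haveI : Finite D := Module.finite_of_finite k
  have hcomm : ∀ a b : D, a * b = b * a := by
    letI := littleWedderburn D
    exact fun a b => mul_comm a b
  have hsurj : Function.Surjective (Algebra.ofId k D) := by
    intro d
    have hd : d ∈ Subalgebra.center k D := by
      rw [Subalgebra.mem_center_iff]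
      exact fun b => hcomm b d
    have := Algebra.IsCentral.out hd
    obtain ⟨c, hc⟩ := Algebra.mem_bot.mp this
    exact ⟨c, hc⟩
  let σ : k ≃ₐ[k] D := AlgEquiv.ofBijective (Algebra.ofId k D)
    ⟨(Algebra.ofId k D : k →+* D).injective, hsurj⟩
  have hD1 : Module.finrank k D = 1 := by
    rw [← σ.toLinearEquiv.finrank_eq, Module.finrank_self]
  have hnr : n = r := by
    have h2 := e.toLinearEquiv.finrank_eq
    rw [hA, Module.finrank_matrix] at h2
    simp only [Fintype.card_fin, hD1, mul_one] at h2
    have h3 : r ^ 2 = n ^ 2 := by rw [h2, sq]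
    exact (Nat.pow_left_injective two_ne_zero h3).symm
  obtain ⟨f, hfm, hfd, hfs⟩ := exists_separable_monic k n (Nat.pos_of_ne_zero hn.out)
  have hfin : Module.finrank k (AdjoinRoot f) = n := by
    rw [(AdjoinRoot.powerBasis' hfm).finrank, AdjoinRoot.powerBasis'_dim, hfd]
  haveI : Module.Finite k (AdjoinRoot f) := (AdjoinRoot.powerBasis' hfm).finite
  let bS := Module.finBasisOfFinrankEq k (AdjoinRoot f) hfin
  let u : AdjoinRoot f →ₐ[k] A :=
    (e.symm : Matrix (Fin n) (Fin n) D →ₐ[k] A).comp
      ((σ.mapMatrix (m := Fin n) : Matrix (Fin n) (Fin n) k →ₐ[k] Matrix (Fin n) (Fin n) D).comp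
        ((LinearMap.toMatrixAlgEquiv bS : Module.End k (AdjoinRoot f) →ₐ[k] _).comp
          (Algebra.lmul k (AdjoinRoot f))))
  have hu : Function.Injective u := by
    intro a b hab
    simp only [u, AlgHom.comp_apply, AlgEquiv.coe_algHom] at hab
    have h1 := e.symm.injective hab
    have h2 := (σ.mapMatrix (m := Fin n)).injective h1
    have h3 := (LinearMap.toMatrixAlgEquiv bS).injective h2
    exact Algebra.lmul_injective h3
  refine ⟨u (AdjoinRoot.root f), ?_, ?_⟩
  · rw [minpoly.algHom_eq u hu, AdjoinRoot.minpoly_root hfm.ne_zero, hfm.leadingCoeff, inv_one,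
      map_one, mul_one]
    exact hfs
  · rw [minpoly.algHom_eq u hu, AdjoinRoot.minpoly_root hfm.ne_zero, hfm.leadingCoeff, inv_one,
      map_one, mul_one, hfd, hnr]

end finite

section final

variable (k : Type u) [Field k] (A : Type v) [Ring A] [Algebra k A] [Algebra.IsCentral k A]
  [IsSimpleRing A] [FiniteDimensional k A]

/-- a central simple algebra of degree `r` contains an element with separable minimal polynomial
of degree `r` -/
theorem exists_regular (r : ℕ) (hA : Module.finrank k A = r ^ 2) :
    ∃ z : A, (minpoly k z).Separable ∧ (minpoly k z).natDegree = r := by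
  rcases finite_or_infinite k with h | h
  · exact exists_regular_of_finite k A r hA
  · exact exists_regular_of_infinite k A r hA

end final

end Groth.Agent.Lib.Helper15.RegularExists
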