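import Mathlib
import Groth.Agent.Lib.Helper15.RegularExists
import Groth.Agent.S14457

/-!
# Maximal étale subalgebras of Azumaya algebras over local rings (helper15)
-/

set_option autoImplicit false

universe u v w

namespace Groth.Agent.Lib.Helper15.MaxEtale

open Groth.Agent.Lib.Helper15.Azumaya Groth.Agent.Lib.Helper15.EtaleSub
  Groth.Agent.Lib.Helper15.EtaleSubLocal Groth.Agent.Lib.Helper15.RegularElt
open scoped TensorProduct
open Polynomial

section

variable (R : Type u) [CommRing R] [IsLocalRing R] (A : Type u) [Ring A] [Algebra R A]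
  [IsAzumaya R A]

/-- over a local ring, an element `ξ` of an Azumaya algebra of rank `r ^ 2` whose image in the
closed fibre is regular (separable minimal polynomial of degree `r`) is killed by a
monic separable polynomial of degree `r`, and its first `r` powers are linearly independent -/
theorem exists_poly_of_regular (r : ℕ) (hA : Module.finrank R A = r ^ 2) (ξ : A)
    (hzsep : (minpoly (IsLocalRing.ResidueField R)
      ((1 : IsLocalRing.ResidueField R) ⊗ₜ[R] ξ : IsLocalRing.ResidueField R ⊗[R] A)).Separable)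
    (hzdeg : (minpoly (IsLocalRing.ResidueField R)
      ((1 : IsLocalRing.ResidueField R) ⊗ₜ[R] ξ :
        IsLocalRing.ResidueField R ⊗[R] A)).natDegree = r) :
    ∃ (P : R[X]), P.Monic ∧ P.natDegree = r ∧ aeval ξ P = 0 ∧
      (∃ p₁ p₂ : R[X], derivative P * p₁ + P * p₂ = 1) ∧
      LinearIndependent R (fun i : Fin r => ξ ^ (i : ℕ)) ∧
      LinearIndependent (IsLocalRing.ResidueField R)
        (fun i : Fin r => ((1 : IsLocalRing.ResidueField R) ⊗ₜ[R] (ξ ^ (i : ℕ)) :
          IsLocalRing.ResidueField R ⊗[R] A)) := by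
  have hAz : IsAzumaya (IsLocalRing.ResidueField R) (IsLocalRing.ResidueField R ⊗[R] A) :=
    isAzumaya_baseChange R (IsLocalRing.ResidueField R) A
  haveI := isCentral_of_isAzumaya (IsLocalRing.ResidueField R)
    (IsLocalRing.ResidueField R ⊗[R] A)
  haveI := isSimpleRing_of_isAzumaya (IsLocalRing.ResidueField R)
    (IsLocalRing.ResidueField R ⊗[R] A)
  haveI : Module.Free R A := Module.free_of_flat_of_isLocalRing
  have hint : IsIntegral (IsLocalRing.ResidueField R)
      ((1 : IsLocalRing.ResidueField R) ⊗ₜ[R] ξ : IsLocalRing.ResidueField R ⊗[R] A) :=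
    Algebra.IsIntegral.isIntegral _
  have hsep := Groth.Agent.Lib.Helper15.SepAdjoin.isSeparable_adjoin
    (IsLocalRing.ResidueField R) _ hzsep
  have hrk : Module.finrank (IsLocalRing.ResidueField R)
      (Algebra.adjoin (IsLocalRing.ResidueField R)
        ({(1 : IsLocalRing.ResidueField R) ⊗ₜ[R] ξ} :
          Set (IsLocalRing.ResidueField R ⊗[R] A))) = r := by
    rw [finrank_adjoin_eq _ _ hint, hzdeg]
  obtain ⟨hli, hcent⟩ := regular_section R A r hA ξ hsep hrk
  have hmem := hcent (ξ ^ r) (by rw [← pow_succ', ← pow_succ])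
  obtain ⟨c, hc⟩ := (Submodule.mem_span_range_iff_exists_fun R).mp hmem
  let Q : R[X] := ∑ i : Fin r, C (c i) * X ^ (i : ℕ)
  have hQdeg : Q.degree < (r : WithBot ℕ) := degree_sum_fin_lt c
  let P : R[X] := X ^ r - Q
  have hPmonic : P.Monic := monic_X_pow_sub hQdeg
  have hPdeg : P.natDegree = r := by
    have h1 : P.degree = (r : WithBot ℕ) := by
      rw [degree_sub_eq_left_of_degree_lt (by rw [degree_X_pow]; exact hQdeg), degree_X_pow]
    exact natDegree_eq_of_degree_eq_some h1
  have hPξ : aeval ξ P = 0 := by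
    simp only [P, Q, map_sub, map_pow, aeval_X, map_sum, map_mul, aeval_C]
    rw [sub_eq_zero, ← hc]
    refine Finset.sum_congr rfl fun i _ => ?_
    rw [Algebra.smul_def]
  -- the reduction of `P` is the minimal polynomial of the image of `ξ`
  set x : IsLocalRing.ResidueField R ⊗[R] A := (1 : IsLocalRing.ResidueField R) ⊗ₜ[R] ξ with hx
  have haeval : ∀ p : R[X], aeval x (p.map (algebraMap R (IsLocalRing.ResidueField R))) =
      (1 : IsLocalRing.ResidueField R) ⊗ₜ[R] (aeval ξ p) := by
    intro p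
    rw [aeval_map_algebraMap]
    exact (aeval_algHom_apply (Algebra.TensorProduct.includeRight (R := R)
      (A := IsLocalRing.ResidueField R) (B := A)) ξ p)
  have hPbar : P.map (algebraMap R (IsLocalRing.ResidueField R)) =
      minpoly (IsLocalRing.ResidueField R) x := by
    have h0 : aeval x (P.map (algebraMap R (IsLocalRing.ResidueField R))) = 0 := by
      rw [haeval, hPξ, TensorProduct.tmul_zero]
    have hdvd := minpoly.dvd (IsLocalRing.ResidueField R) x h0
    refine eq_of_monic_of_dvd_of_natDegree_le (minpoly.monic hint) (hPmonic.map _) hdvd ?_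
    rw [hPmonic.natDegree_map, hPdeg, hzdeg]
  have hliK : LinearIndependent (IsLocalRing.ResidueField R)
      (fun i : Fin r => ((1 : IsLocalRing.ResidueField R) ⊗ₜ[R] (ξ ^ (i : ℕ)) :
        IsLocalRing.ResidueField R ⊗[R] A)) := by
    have h1 := linearIndependent_pow (K := IsLocalRing.ResidueField R) x
    rw [hzdeg] at h1
    have h2 : (fun i : Fin r => ((1 : IsLocalRing.ResidueField R) ⊗ₜ[R] (ξ ^ (i : ℕ)) :
        IsLocalRing.ResidueField R ⊗[R] A)) = fun i : Fin r => x ^ (i : ℕ) := by
      funext i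
      rw [hx, Algebra.TensorProduct.tmul_pow, one_pow]
    rw [h2]
    exact h1
  refine ⟨P, hPmonic, hPdeg, hPξ, ?_, hli, hliK⟩
  -- separability over `R`
  haveI : Module.Finite R (AdjoinRoot P) := (AdjoinRoot.powerBasis' hPmonic).finite
  have hunit : IsUnit (AdjoinRoot.mk P (derivative P)) := by
    apply isUnit_of_isUnit_residue R (AdjoinRoot P)
    obtain ⟨a, b, hab⟩ := hzsep
    rw [← hPbar, derivative_map] at hab
    set θ : IsLocalRing.ResidueField R ⊗[R] AdjoinRoot P :=
      (1 : IsLocalRing.ResidueField R) ⊗ₜ[R] AdjoinRoot.root P with hθ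
    have haeval' : ∀ p : R[X], aeval θ (p.map (algebraMap R (IsLocalRing.ResidueField R))) =
        (1 : IsLocalRing.ResidueField R) ⊗ₜ[R] (AdjoinRoot.mk P p) := by
      intro p
      rw [aeval_map_algebraMap]
      have := (aeval_algHom_apply (Algebra.TensorProduct.includeRight (R := R)
        (A := IsLocalRing.ResidueField R) (B := AdjoinRoot P)) (AdjoinRoot.root P) p)
      rw [AdjoinRoot.aeval_eq] at this
      exact this
    have h1 := congrArg (aeval θ) hab
    rw [map_add, map_mul, map_mul, haeval' P, AdjoinRoot.mk_self, TensorProduct.tmul_zero,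
      mul_zero, zero_add, haeval', map_one] at h1
    exact IsUnit.of_mul_eq_one_right _ h1
  obtain ⟨g, hg⟩ := hunit.exists_right_inv
  obtain ⟨G, rfl⟩ := AdjoinRoot.mk_surjective g
  rw [← map_mul, ← sub_eq_zero, ← map_one (AdjoinRoot.mk P), ← map_sub,
    AdjoinRoot.mk_eq_zero] at hg
  obtain ⟨H, hH⟩ := hg
  refine ⟨G, -H, ?_⟩
  rw [mul_neg, ← hH]
  ring

/-- over a local ring, an Azumaya algebra of rank `r ^ 2` contains an element `ξ` killed by a
monic separable polynomial of degree `r`, whose first `r` powers are linearly independent -/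
theorem exists_regular_poly (r : ℕ) (hA : Module.finrank R A = r ^ 2) :
    ∃ (ξ : A) (P : R[X]), P.Monic ∧ P.natDegree = r ∧ aeval ξ P = 0 ∧
      (∃ p₁ p₂ : R[X], derivative P * p₁ + P * p₂ = 1) ∧
      LinearIndependent R (fun i : Fin r => ξ ^ (i : ℕ)) ∧
      LinearIndependent (IsLocalRing.ResidueField R)
        (fun i : Fin r => ((1 : IsLocalRing.ResidueField R) ⊗ₜ[R] (ξ ^ (i : ℕ)) :
          IsLocalRing.ResidueField R ⊗[R] A)) := by
  have hAz : IsAzumaya (IsLocalRing.ResidueField R) (IsLocalRing.ResidueField R ⊗[R] A) :=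
    isAzumaya_baseChange R (IsLocalRing.ResidueField R) A
  haveI := isCentral_of_isAzumaya (IsLocalRing.ResidueField R)
    (IsLocalRing.ResidueField R ⊗[R] A)
  haveI := isSimpleRing_of_isAzumaya (IsLocalRing.ResidueField R)
    (IsLocalRing.ResidueField R ⊗[R] A)
  haveI : Module.Free R A := Module.free_of_flat_of_isLocalRing
  have hA' : Module.finrank (IsLocalRing.ResidueField R)
      (IsLocalRing.ResidueField R ⊗[R] A) = r ^ 2 := by
    rw [Module.finrank_baseChange, hA]
  obtain ⟨z, hzsep, hzdeg⟩ := Groth.Agent.Lib.Helper15.RegularExists.exists_regular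
    (IsLocalRing.ResidueField R) (IsLocalRing.ResidueField R ⊗[R] A) r hA'
  obtain ⟨ξ, rfl⟩ := exists_one_tmul R z
  obtain ⟨P, h⟩ := exists_poly_of_regular R A r hA ξ hzsep hzdeg
  exact ⟨ξ, P, h⟩

/-- the evaluation map `R[X]/(P) → A` at a root `ξ` of `P` -/
noncomputable def evalRoot {R : Type*} [CommRing R] {A : Type*} [Ring A] [Algebra R A]
    (P : R[X]) (ξ : A) (hPξ : aeval ξ P = 0) : AdjoinRoot P →ₐ[R] A :=
  Ideal.Quotient.liftₐ (Ideal.span {P}) (Polynomial.aeval ξ) (fun q hq => by
    obtain ⟨s, rfl⟩ := Ideal.mem_span_singleton.mp hq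
    rw [map_mul, hPξ, zero_mul])

lemma evalRoot_mk {R : Type*} [CommRing R] {A : Type*} [Ring A] [Algebra R A]
    (P : R[X]) (ξ : A) (hPξ : aeval ξ P = 0) (q : R[X]) :
    evalRoot P ξ hPξ (AdjoinRoot.mk P q) = aeval ξ q := rfl

lemma evalRoot_root {R : Type*} [CommRing R] {A : Type*} [Ring A] [Algebra R A]
    (P : R[X]) (ξ : A) (hPξ : aeval ξ P = 0) :
    evalRoot P ξ hPξ (AdjoinRoot.root P) = ξ := by
  have := evalRoot_mk P ξ hPξ X
  rwa [aeval_X] at this

/-- the power basis of `R[X]/(P)` indexed by `Fin r` -/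
noncomputable def powBasis {R : Type*} [CommRing R] (P : R[X]) (hPm : P.Monic) (r : ℕ)
    (hPd : P.natDegree = r) : Module.Basis (Fin r) R (AdjoinRoot P) :=
  (AdjoinRoot.powerBasis' hPm).basis.reindex
    (finCongr ((AdjoinRoot.powerBasis'_dim hPm).trans hPd))

lemma powBasis_apply {R : Type*} [CommRing R] (P : R[X]) (hPm : P.Monic) (r : ℕ)
    (hPd : P.natDegree = r) (i : Fin r) :
    powBasis P hPm r hPd i = AdjoinRoot.root P ^ (i : ℕ) := by
  simp only [powBasis, Module.Basis.reindex_apply, PowerBasis.coe_basis, finCongr_symm,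
    finCongr_apply, Fin.val_cast]
  rw [AdjoinRoot.powerBasis'_gen]

/-- if the powers of the image of `ξ` in the closed fibre are independent, then `evalRoot` is
injective on the closed fibre -/
theorem evalRoot_injective_fibre (r : ℕ) (ξ : A) (P : R[X]) (hPm : P.Monic)
    (hPd : P.natDegree = r) (hPξ : aeval ξ P = 0)
    (hliK : LinearIndependent (IsLocalRing.ResidueField R)
        (fun i : Fin r => ((1 : IsLocalRing.ResidueField R) ⊗ₜ[R] (ξ ^ (i : ℕ)) :
          IsLocalRing.ResidueField R ⊗[R] A))) :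
    Function.Injective ((evalRoot P ξ hPξ).toLinearMap.lTensor (IsLocalRing.ResidueField R)) := by
  classical
  let b := powBasis P hPm r hPd
  have hb : ∀ i : Fin r, b i = AdjoinRoot.root P ^ (i : ℕ) := powBasis_apply P hPm r hPd
  let bκ := Algebra.TensorProduct.basis (IsLocalRing.ResidueField R) b
  rw [injective_iff_map_eq_zero]
  intro t ht
  have h1 := bκ.sum_repr t
  rw [← h1, map_sum] at ht
  have h2 : ∀ i, ((evalRoot P ξ hPξ).toLinearMap.lTensor (IsLocalRing.ResidueField R))
      (bκ.repr t i • bκ i) = bκ.repr t i •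
        ((1 : IsLocalRing.ResidueField R) ⊗ₜ[R] (ξ ^ (i : ℕ)) :
          IsLocalRing.ResidueField R ⊗[R] A) := by
    intro i
    rw [Algebra.TensorProduct.basis_apply, hb, TensorProduct.smul_tmul', LinearMap.lTensor_tmul,
      TensorProduct.smul_tmul']
    congr 1
    change evalRoot P ξ hPξ (AdjoinRoot.root P ^ (i : ℕ)) = ξ ^ (i : ℕ)
    rw [map_pow, evalRoot_root]
  simp_rw [h2] at ht
  have h3 := Fintype.linearIndependent_iff.mp hliK (fun i => bκ.repr t i) ht
  rw [← h1]
  exact Finset.sum_eq_zero fun i _ => by rw [h3 i, zero_smul]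

end

end Groth.Agent.Lib.Helper15.MaxEtale
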