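import Mathlib
import Groth.Agent.Lib.Helper15.MaxEtale
import Groth.Agent.Lib.Helper15.AzumayaTensor

/-!
# Splitting an Azumaya algebra by an explicit finite étale algebra (helper15)

* `regular_smul`: regular elements of a finite-dimensional algebra are stable under scaling.
* `basis_of_smulTower`: converse of `Basis.smulTower`.
* `split_of_data`: an Azumaya algebra `A` over any commutative ring `R` with an element `ξ` killed
  by a monic separable polynomial `P` of degree `r`, and elements `a j` such that
  `a j * ξ ^ i` is an `R`-basis of `A`, is split by the finite étale algebra `R[X]/(P)`.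
-/

set_option autoImplicit false
universe u v w
open scoped TensorProduct
open Polynomial

namespace Groth.Agent.Lib.Helper15.AzumayaSpread

open Groth.Agent.Lib.Helper15.Azumaya Groth.Agent.Lib.Helper15.EtaleSubLocal
  Groth.Agent.Lib.Helper15.MaxEtale

section scaling

variable (K : Type*) [Field K] {B : Type*} [Ring B] [Algebra K B] [FiniteDimensional K B]

theorem regular_smul (z : B) (c : K) (hc : c ≠ 0) (hsep : (minpoly K z).Separable) :
    (minpoly K (c • z)).Separable ∧ (minpoly K (c • z)).natDegree = (minpoly K z).natDegree := by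
  have hint : ∀ y : B, IsIntegral K y := fun y => Algebra.IsIntegral.isIntegral y
  have hmem : c • z ∈ Algebra.adjoin K ({z} : Set B) :=
    Subalgebra.smul_mem _ (Algebra.self_mem_adjoin_singleton K z) c
  refine ⟨Groth.Agent.Lib.Helper15.SepAdjoin.isSeparable_of_mem_adjoin K z (hint z) hsep _ hmem
    (hint _), ?_⟩
  have heq : Algebra.adjoin K ({c • z} : Set B) = Algebra.adjoin K ({z} : Set B) := by
    apply le_antisymm
    · apply Algebra.adjoin_le (R := K) (A := B)
      intro y hy
      rw [Set.mem_singleton_iff] at hy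
      rw [hy]
      exact hmem
    · apply Algebra.adjoin_le (R := K) (A := B)
      intro y hy
      rw [Set.mem_singleton_iff] at hy
      rw [hy]
      have h1 : c⁻¹ • (c • z) ∈ Algebra.adjoin K ({c • z} : Set B) :=
        Subalgebra.smul_mem _ (Algebra.self_mem_adjoin_singleton K (c • z)) c⁻¹
      rw [smul_smul, inv_mul_cancel₀ hc, one_smul] at h1
      exact h1
  rw [← Groth.Agent.Lib.Helper15.RegularElt.finrank_adjoin_eq K _ (hint _),
    ← Groth.Agent.Lib.Helper15.RegularElt.finrank_adjoin_eq K _ (hint _), heq]

end scaling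

section tower

variable {R : Type*} [CommRing R] {E : Type*} [CommRing E] [Algebra R E]
  {M : Type*} [AddCommGroup M] [Module R M] [Module E M] [IsScalarTower R E M]
  {ι ι' : Type*} [Fintype ι] [Fintype ι']

/-- converse of `Basis.smulTower` -/
theorem basis_of_smulTower (ε : Module.Basis ι R E) (b : ι' → M)
    (B : Module.Basis (ι × ι') R M) (hB : ∀ i j, B (i, j) = ε i • b j) :
    ∃ b' : Module.Basis ι' E M, ∀ j, b' j = b j := by
  have hli : LinearIndependent E b := by
    rw [Fintype.linearIndependent_iff]
    intro g hg j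
    have h1 : ∑ ij : ι × ι', (ε.repr (g ij.2) ij.1) • B ij = 0 := by
      rw [Fintype.sum_prod_type, Finset.sum_comm]
      rw [← hg]
      refine Finset.sum_congr rfl fun j _ => ?_
      conv_rhs => rw [← ε.sum_repr (g j), Finset.sum_smul]
      refine Finset.sum_congr rfl fun i _ => ?_
      rw [hB, smul_assoc]
    have h2 := Fintype.linearIndependent_iff.mp B.linearIndependent _ h1
    have h3 : ε.repr (g j) = 0 := by
      ext i
      exact h2 (i, j)
    exact ε.repr.map_eq_zero_iff.mp h3
  have hsp : ⊤ ≤ Submodule.span E (Set.range b) := by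
    intro m _
    rw [← B.sum_repr m, Fintype.sum_prod_type, Finset.sum_comm]
    refine Submodule.sum_mem _ fun j _ => ?_
    have : ∑ i, (B.repr m (i, j)) • B (i, j) = (∑ i, (B.repr m (i, j)) • ε i) • b j := by
      rw [Finset.sum_smul]
      refine Finset.sum_congr rfl fun i _ => ?_
      rw [hB, smul_assoc]
    rw [this]
    exact Submodule.smul_mem _ _ (Submodule.subset_span ⟨j, rfl⟩)
  exact ⟨Module.Basis.mk hli hsp, fun j => Module.Basis.mk_apply hli hsp j⟩

end tower

section lemmaG

variable (R : Type u) [CommRing R] (A : Type u) [Ring A] [Algebra R A] [IsAzumaya R A]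

/-- **Explicit splitting**: if `ξ ∈ A` is killed by a monic separable polynomial `P` of degree
`r ≥ 1` and the elements `a j * ξ ^ i` form an `R`-basis of the Azumaya algebra `A`, then the
finite étale faithfully flat `R`-algebra `R[X]/(P)` splits `A`. -/
theorem split_of_data (r : ℕ) (hr : 0 < r) (ξ : A) (P : R[X]) (hPm : P.Monic)
    (hPd : P.natDegree = r) (hPξ : aeval ξ P = 0)
    (hbez : ∃ p₁ p₂ : R[X], derivative P * p₁ + P * p₂ = 1)
    (a : Fin r → A) (B : Module.Basis (Fin r × Fin r) R A)
    (hB : ∀ i j, B (i, j) = a j * ξ ^ (i : ℕ)) :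
    Algebra.Etale R (AdjoinRoot P) ∧ Module.Finite R (AdjoinRoot P) ∧
      Module.FaithfullyFlat R (AdjoinRoot P) ∧
      Nonempty ((AdjoinRoot P ⊗[R] A) ≃ₐ[AdjoinRoot P]
        Matrix (Fin r) (Fin r) (AdjoinRoot P)) := by
  classical
  obtain ⟨p₁, p₂, hbez⟩ := hbez
  let ε := powBasis P hPm r hPd
  have hε : ∀ i : Fin r, ε i = AdjoinRoot.root P ^ (i : ℕ) := powBasis_apply P hPm r hPd
  haveI hfin : Module.Finite R (AdjoinRoot P) := Module.Finite.of_basis ε
  haveI hfree : Module.Free R (AdjoinRoot P) := Module.Free.of_basis ε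
  haveI hfreeA : Module.Free R A := Module.Free.of_basis B
  haveI hfinA : Module.Finite R A := Module.Finite.of_basis B
  have het : Algebra.Etale R (AdjoinRoot P) :=
    Groth.Agent.S14457.etale_of_bezout P hPm p₁ p₂ hbez
  rcases subsingleton_or_nontrivial R with hR | hR
  · -- trivial ring
    haveI : Subsingleton (AdjoinRoot P) := Module.subsingleton R _
    haveI : Subsingleton (AdjoinRoot P ⊗[R] A) := Module.subsingleton R _
    haveI : Subsingleton (Matrix (Fin r) (Fin r) (AdjoinRoot P)) := Module.subsingleton R _
    refine ⟨het, hfin, ?_, ⟨?_⟩⟩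
    · refine ⟨fun {m} hm => ?_⟩
      exfalso
      exact hm.ne_top (Subsingleton.elim _ _)
    · exact
        { toFun := fun _ => 0
          invFun := fun _ => 0
          left_inv := fun x => Subsingleton.elim _ _
          right_inv := fun x => Subsingleton.elim _ _
          map_mul' := fun _ _ => Subsingleton.elim _ _
          map_add' := fun _ _ => Subsingleton.elim _ _
          commutes' := fun _ => Subsingleton.elim _ _ }
  have hrkA : Module.finrank R A = r ^ 2 := by
    rw [Module.finrank_eq_card_basis B, Fintype.card_prod, Fintype.card_fin, sq]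
  haveI : Nontrivial (AdjoinRoot P) := by
    have h1 : Module.finrank R (AdjoinRoot P) = r := by
      rw [Module.finrank_eq_card_basis ε, Fintype.card_fin]
    by_contra hE'
    rw [not_nontrivial_iff_subsingleton] at hE'
    have : Module.finrank R (AdjoinRoot P) = 0 := Module.finrank_zero_of_subsingleton
    omega
  refine ⟨het, hfin, inferInstance, ?_⟩
  let u : AdjoinRoot P →ₐ[R] A := evalRoot P ξ hPξ
  letI : Module (AdjoinRoot P) A := rightModule (u : AdjoinRoot P →+* A)
  have hmod : ∀ (e : AdjoinRoot P) (y : A), e • y = y * u e := fun e y => rfl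
  haveI : IsScalarTower R (AdjoinRoot P) A :=
    ⟨fun c l y => by rw [hmod, hmod, map_smul, mul_smul_comm]⟩
  obtain ⟨b, hb⟩ := basis_of_smulTower ε a B (fun i j => by
    rw [hB, hmod, hε, map_pow, evalRoot_root])
  have hbij := splitHom_bijective R A (AdjoinRoot P) u hmod r hr b
    (fun q _ => by rw [Module.finrank_baseChange, Module.finrank_baseChange, hrkA])
  exact ⟨(AlgEquiv.ofBijective _ hbij).trans (algEquivMatrix b)⟩

end lemmaG

end Groth.Agent.Lib.Helper15.AzumayaSpread
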