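import Mathlib
import Groth.Agent.Lib.Helper15.AzumayaSpread

/-!
# Local data at a prime for an Azumaya algebra, with global elements (helper15)
-/

set_option autoImplicit false
universe u v w
open scoped TensorProduct
open Polynomial

namespace Groth.Agent.Lib.Helper15.AzumayaSpread

open Groth.Agent.Lib.Helper15.Azumaya Groth.Agent.Lib.Helper15.EtaleSubLocal
  Groth.Agent.Lib.Helper15.MaxEtale

section localdata

variable (R : Type u) [CommRing R] (A : Type u) [Ring A] [Algebra R A] [IsAzumaya R A]
  (p : Ideal R) [p.IsPrime]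

/-- an element of `R_p ⊗ M` times a suitable `s ∉ p` is of the form `1 ⊗ m` -/
theorem exists_smul_eq_one_tmul' {M : Type*} [AddCommGroup M] [Module R M]
    (y : Localization.AtPrime p ⊗[R] M) :
    ∃ (m : M) (s : R), s ∉ p ∧
      algebraMap R (Localization.AtPrime p) s • y = (1 : Localization.AtPrime p) ⊗ₜ[R] m := by
  obtain ⟨⟨m, s⟩, hs⟩ := IsLocalizedModule.surj p.primeCompl
    (TensorProduct.mk R (Localization.AtPrime p) M 1) y
  refine ⟨m, s, s.2, ?_⟩
  rw [algebraMap_smul]
  exact hs

/-- a global element whose image in the fibre at `p` is regular -/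
theorem exists_global_regular (r : ℕ)
    (hA : Module.finrank (Localization.AtPrime p) (Localization.AtPrime p ⊗[R] A) = r ^ 2) :
    ∃ a : A,
      (minpoly (IsLocalRing.ResidueField (Localization.AtPrime p))
        ((1 : IsLocalRing.ResidueField (Localization.AtPrime p)) ⊗ₜ[Localization.AtPrime p]
          ((1 : Localization.AtPrime p) ⊗ₜ[R] a))).Separable ∧
      (minpoly (IsLocalRing.ResidueField (Localization.AtPrime p))
        ((1 : IsLocalRing.ResidueField (Localization.AtPrime p)) ⊗ₜ[Localization.AtPrime p]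
          ((1 : Localization.AtPrime p) ⊗ₜ[R] a))).natDegree = r := by
  haveI : IsAzumaya (Localization.AtPrime p) (Localization.AtPrime p ⊗[R] A) :=
    isAzumaya_baseChange R (Localization.AtPrime p) A
  have hAz : IsAzumaya (IsLocalRing.ResidueField (Localization.AtPrime p))
      (IsLocalRing.ResidueField (Localization.AtPrime p) ⊗[Localization.AtPrime p]
        (Localization.AtPrime p ⊗[R] A)) :=
    isAzumaya_baseChange (Localization.AtPrime p) _ _
  haveI := isCentral_of_isAzumaya (IsLocalRing.ResidueField (Localization.AtPrime p))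
    (IsLocalRing.ResidueField (Localization.AtPrime p) ⊗[Localization.AtPrime p]
        (Localization.AtPrime p ⊗[R] A))
  haveI := isSimpleRing_of_isAzumaya (IsLocalRing.ResidueField (Localization.AtPrime p))
    (IsLocalRing.ResidueField (Localization.AtPrime p) ⊗[Localization.AtPrime p]
        (Localization.AtPrime p ⊗[R] A))
  haveI : Module.Free (Localization.AtPrime p) (Localization.AtPrime p ⊗[R] A) :=
    Module.free_of_flat_of_isLocalRing
  have hA' : Module.finrank (IsLocalRing.ResidueField (Localization.AtPrime p))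
      (IsLocalRing.ResidueField (Localization.AtPrime p) ⊗[Localization.AtPrime p]
        (Localization.AtPrime p ⊗[R] A)) = r ^ 2 := by
    rw [Module.finrank_baseChange, hA]
  obtain ⟨z, hzsep, hzdeg⟩ := Groth.Agent.Lib.Helper15.RegularExists.exists_regular
    (IsLocalRing.ResidueField (Localization.AtPrime p))
    (IsLocalRing.ResidueField (Localization.AtPrime p) ⊗[Localization.AtPrime p]
        (Localization.AtPrime p ⊗[R] A)) r hA'
  obtain ⟨ξ, rfl⟩ := exists_one_tmul (Localization.AtPrime p) z
  obtain ⟨a, s, hs, hsa⟩ := exists_smul_eq_one_tmul' R p ξ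
  refine ⟨a, ?_⟩
  have hunit : IsUnit (algebraMap R (Localization.AtPrime p) s) :=
    IsLocalization.map_units (Localization.AtPrime p) (⟨s, hs⟩ : p.primeCompl)
  have hc0 : IsLocalRing.residue (Localization.AtPrime p)
      (algebraMap R (Localization.AtPrime p) s) ≠ 0 :=
    (IsLocalRing.residue_ne_zero_iff_isUnit _).mpr hunit
  have hc : (1 : IsLocalRing.ResidueField (Localization.AtPrime p)) ⊗ₜ[Localization.AtPrime p]
      ((1 : Localization.AtPrime p) ⊗ₜ[R] a) =
      IsLocalRing.residue (Localization.AtPrime p) (algebraMap R (Localization.AtPrime p) s) •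
        ((1 : IsLocalRing.ResidueField (Localization.AtPrime p)) ⊗ₜ[Localization.AtPrime p] ξ) := by
    rw [← hsa, TensorProduct.tmul_smul, ← IsLocalRing.ResidueField.algebraMap_eq]
    exact (algebraMap_smul (IsLocalRing.ResidueField (Localization.AtPrime p))
      (algebraMap R (Localization.AtPrime p) s) _).symm
  rw [hc]
  have := regular_smul (IsLocalRing.ResidueField (Localization.AtPrime p)) _ _ hc0 hzsep
  exact ⟨this.1, this.2.trans hzdeg⟩

/-- local data at `p` built from global elements -/
theorem exists_local_data (r : ℕ)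
    (hA : Module.finrank (Localization.AtPrime p) (Localization.AtPrime p ⊗[R] A) = r ^ 2) :
    ∃ (a : A) (aj : Fin r → A) (P : (Localization.AtPrime p)[X]), P.Monic ∧ P.natDegree = r ∧
      aeval ((1 : Localization.AtPrime p) ⊗ₜ[R] a) P = 0 ∧
      (∃ p₁ p₂ : (Localization.AtPrime p)[X], derivative P * p₁ + P * p₂ = 1) ∧
      ∃ B : Module.Basis (Fin r × Fin r) (Localization.AtPrime p) (Localization.AtPrime p ⊗[R] A),
        ∀ i j, B (i, j) = (1 : Localization.AtPrime p) ⊗ₜ[R] (aj j * a ^ (i : ℕ)) := by
  classical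
  haveI : IsAzumaya (Localization.AtPrime p) (Localization.AtPrime p ⊗[R] A) :=
    isAzumaya_baseChange R (Localization.AtPrime p) A
  obtain ⟨a, hsep, hdeg⟩ := exists_global_regular R A p r hA
  obtain ⟨P, hPm, hPd, hPξ, ⟨p₁, p₂, hbez⟩, hli, hliK⟩ :=
    exists_poly_of_regular (Localization.AtPrime p) (Localization.AtPrime p ⊗[R] A) r hA
      ((1 : Localization.AtPrime p) ⊗ₜ[R] a) hsep hdeg
  refine ⟨a, ?_⟩
  set ξ : Localization.AtPrime p ⊗[R] A := (1 : Localization.AtPrime p) ⊗ₜ[R] a with hξ
  let ε := powBasis P hPm r hPd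
  have hε : ∀ i : Fin r, ε i = AdjoinRoot.root P ^ (i : ℕ) := powBasis_apply P hPm r hPd
  haveI hfin : Module.Finite (Localization.AtPrime p) (AdjoinRoot P) := Module.Finite.of_basis ε
  haveI hfree : Module.Free (Localization.AtPrime p) (AdjoinRoot P) := Module.Free.of_basis ε
  haveI het : Algebra.Etale (Localization.AtPrime p) (AdjoinRoot P) :=
    Groth.Agent.S14457.etale_of_bezout P hPm p₁ p₂ hbez
  have hE : Module.finrank (Localization.AtPrime p) (AdjoinRoot P) = r := by
    rw [Module.finrank_eq_card_basis ε, Fintype.card_fin]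
  let u : AdjoinRoot P →ₐ[Localization.AtPrime p] (Localization.AtPrime p ⊗[R] A) :=
    evalRoot P ξ hPξ
  have hu := evalRoot_injective_fibre (Localization.AtPrime p) (Localization.AtPrime p ⊗[R] A)
    r ξ P hPm hPd hPξ hliK
  letI : Module (AdjoinRoot P) (Localization.AtPrime p ⊗[R] A) :=
    rightModule (u : AdjoinRoot P →+* (Localization.AtPrime p ⊗[R] A))
  have hmod : ∀ (e : AdjoinRoot P) (y : Localization.AtPrime p ⊗[R] A), e • y = y * u e :=
    fun e y => rfl
  haveI : IsScalarTower (Localization.AtPrime p) (AdjoinRoot P) (Localization.AtPrime p ⊗[R] A) :=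
    ⟨fun c l y => by rw [hmod, hmod, map_smul, mul_smul_comm]⟩
  obtain ⟨b⟩ := exists_basis (Localization.AtPrime p) (Localization.AtPrime p ⊗[R] A)
    (AdjoinRoot P) u hmod r hA hE hu
  let T := ε.smulTower b
  have hT : ∀ i j, T (i, j) = b j * ξ ^ (i : ℕ) := by
    intro i j
    rw [Module.Basis.smulTower_apply, hmod, hε, map_pow, evalRoot_root]
  choose aj sj hsj hsj' using fun j => exists_smul_eq_one_tmul' R p (b j)
  have hw : ∀ ij : Fin r × Fin r,
      IsUnit (algebraMap R (Localization.AtPrime p) (sj ij.2)) := fun ij =>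
    IsLocalization.map_units (Localization.AtPrime p) (⟨sj ij.2, hsj ij.2⟩ : p.primeCompl)
  refine ⟨aj, P, hPm, hPd, hPξ, ⟨p₁, p₂, hbez⟩, T.isUnitSMul hw, fun i j => ?_⟩
  rw [Module.Basis.isUnitSMul_apply, hT, ← smul_mul_assoc, hsj', hξ,
    Algebra.TensorProduct.tmul_pow, one_pow, Algebra.TensorProduct.tmul_mul_tmul, one_mul]

end localdata

end Groth.Agent.Lib.Helper15.AzumayaSpread
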