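import Mathlib
import Groth.Agent.Lib.Helper15.AzumayaSpread2

/-!
# Spreading out local data of an Azumaya algebra to a basic open neighbourhood (helper15)
-/

set_option autoImplicit false
universe u v w
open scoped TensorProduct
open Polynomial

namespace Groth.Agent.Lib.Helper15.AzumayaSpread

open Groth.Agent.Lib.Helper15.Azumaya

section spreadBasis

variable (R : Type u) [CommRing R] (A : Type u) [Ring A] [Algebra R A] [IsAzumaya R A]
  (p : Ideal R) [p.IsPrime]

theorem spread_basis {ι : Type*} [Finite ι] (v : ι → A)
    (B : Module.Basis ι (Localization.AtPrime p) (Localization.AtPrime p ⊗[R] A))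
    (hB : ∀ k, B k = (1 : Localization.AtPrime p) ⊗ₜ[R] v k) :
    ∃ g : R, g ∉ p ∧ ∀ t : R, g ∣ t →
      ∃ Bt : Module.Basis ι (Localization.Away t) (Localization.Away t ⊗[R] A),
        ∀ k, Bt k = (1 : Localization.Away t) ⊗ₜ[R] v k := by
  classical
  let Ψ : (ι →₀ R) →ₗ[R] A := Finsupp.linearCombination R v
  have h1 := IsLocalizedModule.map_linearCombination p.primeCompl (Localization.AtPrime p)
    (TensorProduct.mk R (Localization.AtPrime p) A 1) (v := v)
  have hBv : (TensorProduct.mk R (Localization.AtPrime p) A 1) ∘ v = B := by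
    funext k
    rw [hB]
    rfl
  have hbij : Function.Bijective (IsLocalizedModule.map p.primeCompl
      (Finsupp.mapRange.linearMap (Algebra.linearMap R (Localization.AtPrime p)))
      (TensorProduct.mk R (Localization.AtPrime p) A 1) Ψ) := by
    have h2 : ⇑(IsLocalizedModule.map p.primeCompl
      (Finsupp.mapRange.linearMap (Algebra.linearMap R (Localization.AtPrime p)))
      (TensorProduct.mk R (Localization.AtPrime p) A 1) Ψ) = ⇑B.repr.symm := by
      funext x
      have := DFunLike.congr_fun h1 x
      rw [hBv] at this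
      rw [Module.Basis.repr_symm_apply]
      exact this
    rw [h2]
    exact B.repr.symm.bijective
  haveI : Module.Finite R A := IsAzumaya.toFinite
  haveI : Module.Projective R A := IsAzumaya.toProjective
  haveI : Module.FinitePresentation R A := Module.finitePresentation_of_projective R A
  obtain ⟨g, hg, hgt⟩ := exists_bijective_map_powers p.primeCompl
    (Finsupp.mapRange.linearMap (Algebra.linearMap R (Localization.AtPrime p)))
    (TensorProduct.mk R (Localization.AtPrime p) A 1) Ψ hbij
  refine ⟨g, hg, fun t ht => ?_⟩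
  have h3 := hgt t ht
  rw [← IsLocalizedModule.map_bijective_iff_localizedModuleMap_bijective
    (Finsupp.mapRange.linearMap (Algebra.linearMap R (Localization.Away t)))
    (TensorProduct.mk R (Localization.Away t) A 1)] at h3
  have h4 := IsLocalizedModule.map_linearCombination (Submonoid.powers t) (Localization.Away t)
    (TensorProduct.mk R (Localization.Away t) A 1) (v := v)
  have h5 : Function.Bijective (Finsupp.linearCombination (Localization.Away t)
      ((TensorProduct.mk R (Localization.Away t) A 1) ∘ v)) := by
    have h6 : ⇑(Finsupp.linearCombination (Localization.Away t)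
      ((TensorProduct.mk R (Localization.Away t) A 1) ∘ v)) =
        ⇑(IsLocalizedModule.map (Submonoid.powers t)
      (Finsupp.mapRange.linearMap (Algebra.linearMap R (Localization.Away t)))
      (TensorProduct.mk R (Localization.Away t) A 1) Ψ) := by
      funext x
      exact (DFunLike.congr_fun h4 x).symm
    rw [h6]
    exact h3
  have hli : LinearIndependent (Localization.Away t)
      ((TensorProduct.mk R (Localization.Away t) A 1) ∘ v) := h5.1
  have hsp : ⊤ ≤ Submodule.span (Localization.Away t)
      (Set.range ((TensorProduct.mk R (Localization.Away t) A 1) ∘ v)) := by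
    rw [← Finsupp.range_linearCombination, LinearMap.range_eq_top.mpr h5.2]
  exact ⟨Module.Basis.mk hli hsp, fun k => by rw [Module.Basis.mk_apply]; rfl⟩

end spreadBasis

section spreadPoly

variable (R : Type u) [CommRing R] (A : Type u) [Ring A] [Algebra R A]
  (p : Ideal R) [p.IsPrime]

omit [Ring A] [Algebra R A] in
theorem exists_C_mul_eq_zero (D : R[X])
    (hD : D.map (algebraMap R (Localization.AtPrime p)) = 0) :
    ∃ t : R, t ∉ p ∧ C t * D = 0 := by
  classical
  have h : ∀ k, ∃ m : p.primeCompl, (m : R) * D.coeff k = 0 := by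
    intro k
    have hk : algebraMap R (Localization.AtPrime p) (D.coeff k) = 0 := by
      have := congrArg (fun q => q.coeff k) hD
      simpa [coeff_map] using this
    exact (IsLocalization.map_eq_zero_iff p.primeCompl (Localization.AtPrime p) _).mp hk
  choose m hm using h
  refine ⟨((∏ k ∈ D.support, m k : p.primeCompl) : R), (∏ k ∈ D.support, m k).2, ?_⟩
  ext k
  rw [coeff_C_mul, coeff_zero, Submonoid.coe_finset_prod]
  by_cases hk : k ∈ D.support
  · rw [← Finset.prod_erase_mul _ _ hk, mul_assoc, hm k, mul_zero]
  · rw [notMem_support_iff.mp hk, mul_zero]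

/-- evaluation of a base-changed polynomial at `1 ⊗ a` -/
theorem aeval_one_tmul (T : Type*) [CommRing T] [Algebra R T] (a : A) (q : R[X]) :
    aeval ((1 : T) ⊗ₜ[R] a) (q.map (algebraMap R T)) = (1 : T) ⊗ₜ[R] (aeval a q) := by
  rw [aeval_map_algebraMap]
  exact (aeval_algHom_apply (Algebra.TensorProduct.includeRight (R := R) (A := T) (B := A)) a q)

theorem spread_poly (a : A) (r : ℕ) (P : (Localization.AtPrime p)[X]) (hPm : P.Monic)
    (hPd : P.natDegree = r)
    (hPξ : aeval ((1 : Localization.AtPrime p) ⊗ₜ[R] a) P = 0)
    (hbez : ∃ p₁ p₂ : (Localization.AtPrime p)[X], derivative P * p₁ + P * p₂ = 1) :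
    ∃ g : R, g ∉ p ∧ ∀ t : R, t ∉ p → g ∣ t →
      ∃ Pt : (Localization.Away t)[X], Pt.Monic ∧ Pt.natDegree = r ∧
        aeval ((1 : Localization.Away t) ⊗ₜ[R] a) Pt = 0 ∧
        ∃ q₁ q₂ : (Localization.Away t)[X], derivative Pt * q₁ + Pt * q₂ = 1 := by
  classical
  obtain ⟨p₁, p₂, hbez⟩ := hbez
  -- denominators of `P`
  obtain ⟨s, hs⟩ := IsLocalization.exist_integer_multiples p.primeCompl
    (Finset.univ : Finset (Fin r)) (fun i => P.coeff (i : ℕ))
  have hs' : ∀ i : Fin r, ∃ n : R, algebraMap R (Localization.AtPrime p) n =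
      algebraMap R (Localization.AtPrime p) s * P.coeff (i : ℕ) := by
    intro i
    obtain ⟨n, hn⟩ := hs i (Finset.mem_univ i)
    exact ⟨n, by rw [hn, Algebra.smul_def]⟩
  choose n hn using hs'
  let P₀ : R[X] := C (s : R) * X ^ r + ∑ i : Fin r, C (n i) * X ^ (i : ℕ)
  have hP₀ : P₀.map (algebraMap R (Localization.AtPrime p)) =
      C (algebraMap R (Localization.AtPrime p) s) * P := by
    have hPsum := hPm.as_sum
    rw [hPd, Finset.sum_range] at hPsum
    have h1 : C (algebraMap R (Localization.AtPrime p) s) * P =
        C (algebraMap R (Localization.AtPrime p) s) *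
          (X ^ r + ∑ i : Fin r, C (P.coeff (i : ℕ)) * X ^ (i : ℕ)) :=
      congrArg (fun q => C (algebraMap R (Localization.AtPrime p) s) * q) hPsum
    rw [h1]
    simp only [P₀, Polynomial.map_add, Polynomial.map_mul, Polynomial.map_sum, map_C,
      Polynomial.map_pow, map_X, mul_add, Finset.mul_sum]
    congr 1
    refine Finset.sum_congr rfl fun i _ => ?_
    rw [hn i, C_mul, mul_assoc]
  -- the equation `P₀(a) = 0` up to an element outside `p`
  have h1 : (1 : Localization.AtPrime p) ⊗ₜ[R] (aeval a P₀) = 0 := by
    rw [← aeval_one_tmul, hP₀, map_mul, hPξ, mul_zero]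
  obtain ⟨t₁, ht₁⟩ := (IsLocalizedModule.eq_zero_iff p.primeCompl
    (TensorProduct.mk R (Localization.AtPrime p) A 1)).mp h1
  -- Bezout with cleared denominators
  obtain ⟨b₁, hb₁⟩ := IsLocalization.integerNormalization_map_to_map p.primeCompl p₁
  obtain ⟨b₂, hb₂⟩ := IsLocalization.integerNormalization_map_to_map p.primeCompl p₂
  set q₁ := IsLocalization.integerNormalization p.primeCompl p₁ with hq₁
  set q₂ := IsLocalization.integerNormalization p.primeCompl p₂ with hq₂
  let D : R[X] := derivative P₀ * (C (b₂ : R) * q₁) + P₀ * (C (b₁ : R) * q₂) -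
    C ((s : R) * b₁ * b₂)
  have hD : D.map (algebraMap R (Localization.AtPrime p)) = 0 := by
    simp only [D, Polynomial.map_sub, Polynomial.map_add, Polynomial.map_mul, map_C,
      ← derivative_map, hP₀, hb₁, hb₂, derivative_C_mul]
    rw [← algebraMap_smul (Localization.AtPrime p) (b₁ : R) p₁,
      ← algebraMap_smul (Localization.AtPrime p) (b₂ : R) p₂, smul_eq_C_mul, smul_eq_C_mul]
    have : C (algebraMap R (Localization.AtPrime p) s) * derivative P *
        (C (algebraMap R (Localization.AtPrime p) b₂) *
          (C (algebraMap R (Localization.AtPrime p) b₁) * p₁)) +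
        C (algebraMap R (Localization.AtPrime p) s) * P *
        (C (algebraMap R (Localization.AtPrime p) b₁) *
          (C (algebraMap R (Localization.AtPrime p) b₂) * p₂)) =
        C (algebraMap R (Localization.AtPrime p) s) *
          C (algebraMap R (Localization.AtPrime p) b₁) *
          C (algebraMap R (Localization.AtPrime p) b₂) * (derivative P * p₁ + P * p₂) := by
      ring
    rw [this, hbez, mul_one]
    simp only [map_mul, C_mul, sub_self]
  obtain ⟨t₃, ht₃, hDt⟩ := exists_C_mul_eq_zero R p D hD
  refine ⟨s * t₁ * b₁ * b₂ * t₃, ?_, ?_⟩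
  · intro hmem
    have := p.primeCompl.mul_mem (p.primeCompl.mul_mem (p.primeCompl.mul_mem
      (p.primeCompl.mul_mem s.2 t₁.2) b₁.2) b₂.2) (show t₃ ∈ p.primeCompl from ht₃)
    exact this hmem
  intro t htp hdvd
  have hut : IsUnit (algebraMap R (Localization.Away t) t) :=
    IsLocalization.Away.algebraMap_isUnit t
  have hu : ∀ x : R, x ∣ s * t₁ * b₁ * b₂ * t₃ → IsUnit (algebraMap R (Localization.Away t) x) :=
    fun x hx => isUnit_of_dvd_unit (map_dvd _ (hx.trans hdvd)) hut
  have hus := hu s ⟨t₁ * b₁ * b₂ * t₃, by ring⟩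
  have hut₁ := hu t₁ ⟨s * b₁ * b₂ * t₃, by ring⟩
  have hub₁ := hu b₁ ⟨s * t₁ * b₂ * t₃, by ring⟩
  have hub₂ := hu b₂ ⟨s * t₁ * b₁ * t₃, by ring⟩
  have hut₃ := hu t₃ ⟨s * t₁ * b₁ * b₂, by ring⟩
  -- nontriviality of `R_t`
  haveI : Nontrivial (Localization.Away t) := by
    have hunit : IsUnit (algebraMap R (Localization.AtPrime p) t) :=
      IsLocalization.map_units (Localization.AtPrime p) (⟨t, htp⟩ : p.primeCompl)
    exact RingHom.domain_nontrivial (IsLocalization.Away.lift t hunit :
      Localization.Away t →+* Localization.AtPrime p)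
  obtain ⟨ρ, hρ⟩ := id hus
  let Q : (Localization.Away t)[X] :=
    ∑ i : Fin r, C ((↑ρ⁻¹ : Localization.Away t) * algebraMap R (Localization.Away t) (n i)) *
      X ^ (i : ℕ)
  have hQdeg : Q.degree < (r : WithBot ℕ) := degree_sum_fin_lt _
  let Pt : (Localization.Away t)[X] := X ^ r + Q
  have hPtm : Pt.Monic := monic_X_pow_add hQdeg
  have hPtd : Pt.natDegree = r := by
    have h1 : Pt.degree = (r : WithBot ℕ) := by
      rw [degree_add_eq_left_of_degree_lt (by rw [degree_X_pow]; exact hQdeg), degree_X_pow]
    exact natDegree_eq_of_degree_eq_some h1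
  have hrel : P₀.map (algebraMap R (Localization.Away t)) =
      C (algebraMap R (Localization.Away t) s) * Pt := by
    simp only [P₀, Pt, Q, Polynomial.map_add, Polynomial.map_mul, Polynomial.map_sum, map_C,
      Polynomial.map_pow, map_X, mul_add, Finset.mul_sum]
    congr 1
    refine Finset.sum_congr rfl fun i _ => ?_
    rw [← mul_assoc, ← C_mul, ← mul_assoc, ← hρ, Units.mul_inv, one_mul]
  refine ⟨Pt, hPtm, hPtd, ?_, ?_⟩
  · -- `Pt(1 ⊗ a) = 0`
    have h2 : (1 : Localization.Away t) ⊗ₜ[R] (aeval a P₀) = 0 := by
      have h3 : algebraMap R (Localization.Away t) t₁ •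
          ((1 : Localization.Away t) ⊗ₜ[R] (aeval a P₀)) = 0 := by
        rw [algebraMap_smul, ← TensorProduct.tmul_smul]
        have : (t₁ : R) • aeval a P₀ = 0 := ht₁
        rw [this, TensorProduct.tmul_zero]
      exact (IsUnit.smul_eq_zero hut₁).mp h3
    rw [← aeval_one_tmul, hrel, map_mul, aeval_C, ← Algebra.smul_def] at h2
    exact (IsUnit.smul_eq_zero hus).mp h2
  · -- Bezout
    have hD0 : D.map (algebraMap R (Localization.Away t)) = 0 := by
      have h4 : C (algebraMap R (Localization.Away t) t₃) *
          D.map (algebraMap R (Localization.Away t)) = 0 := by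
        have := congrArg (Polynomial.map (algebraMap R (Localization.Away t))) hDt
        rwa [Polynomial.map_mul, map_C, Polynomial.map_zero] at this
      exact (IsUnit.mul_right_eq_zero (hut₃.map C)).mp h4
    simp only [D, Polynomial.map_sub, Polynomial.map_add, Polynomial.map_mul, map_C,
      ← derivative_map, hrel, derivative_C_mul] at hD0
    rw [sub_eq_zero] at hD0
    have hw : IsUnit (algebraMap R (Localization.Away t) ((s : R) * b₁ * b₂)) := by
      rw [map_mul, map_mul]
      exact (hus.mul hub₁).mul hub₂
    obtain ⟨ω, hω⟩ := hw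
    refine ⟨C (↑ω⁻¹ : Localization.Away t) * C (algebraMap R (Localization.Away t) s) *
        (C (algebraMap R (Localization.Away t) b₂) *
          q₁.map (algebraMap R (Localization.Away t))),
      C (↑ω⁻¹ : Localization.Away t) * C (algebraMap R (Localization.Away t) s) *
        (C (algebraMap R (Localization.Away t) b₁) *
          q₂.map (algebraMap R (Localization.Away t))), ?_⟩
    calc derivative Pt * (C (↑ω⁻¹ : Localization.Away t) *
            C (algebraMap R (Localization.Away t) s) *
          (C (algebraMap R (Localization.Away t) b₂) *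
            q₁.map (algebraMap R (Localization.Away t)))) +
          Pt * (C (↑ω⁻¹ : Localization.Away t) * C (algebraMap R (Localization.Away t) s) *
          (C (algebraMap R (Localization.Away t) b₁) *
            q₂.map (algebraMap R (Localization.Away t))))
        = C (↑ω⁻¹ : Localization.Away t) *
          (C (algebraMap R (Localization.Away t) s) * derivative Pt *
            (C (algebraMap R (Localization.Away t) b₂) *
              q₁.map (algebraMap R (Localization.Away t))) +
          C (algebraMap R (Localization.Away t) s) * Pt *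
            (C (algebraMap R (Localization.Away t) b₁) *
              q₂.map (algebraMap R (Localization.Away t)))) := by ring
      _ = C (↑ω⁻¹ : Localization.Away t) *
          C (algebraMap R (Localization.Away t) ((s : R) * b₁ * b₂)) := by rw [hD0]
      _ = 1 := by rw [← C_mul, ← hω, Units.inv_mul, C_1]

end spreadPoly

end Groth.Agent.Lib.Helper15.AzumayaSpread
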