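import Mathlib
import Groth.Prelude.Def_PolLaw
import Groth.Prelude.Def_PolLaw2

/-!
# Base change of a multiplicative polynomial law `B → C'` along `A → A'`, for an `A'`-algebra `C'`
(helper15)

`bcLaw A' F : MulLaw A' (A' ⊗[A] B) C' d`.
-/

set_option autoImplicit false
universe u
open scoped TensorProduct

namespace Groth.Agent.Lib.Helper15.BCLawG

variable {A : Type u} [CommRing A] {B : Type u} [CommRing B] [Algebra A B]
  (A' : Type u) [CommRing A'] [Algebra A A']
  {C' : Type u} [CommRing C'] [Algebra A' C'] [Algebra A C'] [IsScalarTower A A' C']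

section onS

variable (S' : Type u) [CommSemiring S'] [Algebra A' S'] [Algebra A S'] [IsScalarTower A A' S']

/-- `S' ⊗[A'] (A' ⊗[A] B) ≃ S' ⊗[A] B` -/
noncomputable abbrev cb : S' ⊗[A'] (A' ⊗[A] B) ≃ₐ[S'] S' ⊗[A] B :=
  Algebra.TensorProduct.cancelBaseChange A A' S' S' B

variable (C') in
/-- `S' ⊗[A] C' → S' ⊗[A'] C'` -/
noncomputable abbrev mu : S' ⊗[A] C' →ₐ[S'] S' ⊗[A'] C' :=
  Algebra.TensorProduct.mapOfCompatibleSMul A' A S' S' C'

variable (F : B →ₚₗ[A] C')

/-- the member of the base-changed law over `S'`, for a compatible `A`-algebra structure -/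
noncomputable def bcFun (z : S' ⊗[A'] (A' ⊗[A] B)) : S' ⊗[A'] C' :=
  mu A' C' S' (F.toFun' S' (cb (B := B) A' S' z))

theorem cb_tmul (s : S') (a' : A') (b : B) :
    cb (B := B) A' S' (s ⊗ₜ[A'] (a' ⊗ₜ[A] b)) = (a' • s) ⊗ₜ[A] b :=
  Algebra.TensorProduct.cancelBaseChange_tmul _ _ _ _ _ s a' b

theorem mu_tmul (s : S') (c : C') : mu A' C' S' (s ⊗ₜ[A] c) = s ⊗ₜ[A'] c := rfl

end onS

section compat

variable {S' S'' : Type u} [CommSemiring S'] [Algebra A' S'] [Algebra A S'] [IsScalarTower A A' S']
  [CommSemiring S''] [Algebra A' S''] [Algebra A S''] [IsScalarTower A A' S'']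
  (F : B →ₚₗ[A] C')

theorem bcFun_compat (φ : S' →ₐ[A'] S'') (φA : S' →ₐ[A] S'') (hφ : ∀ s, φA s = φ s)
    (z : S' ⊗[A'] (A' ⊗[A] B)) :
    φ.toLinearMap.rTensor C' (bcFun A' S' F z) =
      bcFun A' S'' F (φ.toLinearMap.rTensor (A' ⊗[A] B) z) := by
  unfold bcFun
  have ha : cb (B := B) A' S'' (φ.toLinearMap.rTensor (A' ⊗[A] B) z) =
      φA.toLinearMap.rTensor B (cb (B := B) A' S' z) := by
    induction z using TensorProduct.induction_on with
    | zero => simp
    | tmul s y =>
      induction y using TensorProduct.induction_on with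
      | zero => simp
      | tmul a' b =>
        rw [LinearMap.rTensor_tmul, cb_tmul, cb_tmul, LinearMap.rTensor_tmul,
          AlgHom.toLinearMap_apply, AlgHom.toLinearMap_apply, hφ, map_smul]
      | add y y' hy hy' =>
        rw [TensorProduct.tmul_add, map_add, map_add, hy, hy', map_add, map_add]
    | add z z' hz hz' => rw [map_add, map_add, hz, hz', map_add, map_add]
  have hc : ∀ v : S' ⊗[A] C', mu A' C' S'' (φA.toLinearMap.rTensor C' v) =
      φ.toLinearMap.rTensor C' (mu A' C' S' v) := by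
    intro v
    induction v using TensorProduct.induction_on with
    | zero => simp
    | tmul s c =>
      rw [LinearMap.rTensor_tmul, mu_tmul, mu_tmul, LinearMap.rTensor_tmul,
        AlgHom.toLinearMap_apply, AlgHom.toLinearMap_apply, ← hφ]
    | add v v' hv hv' => rw [map_add, map_add, hv, hv', map_add, map_add]
  rw [ha, ← PolynomialLaw.isCompat_apply' (f := F), hc]

end compat

/-- the base change of a polynomial law `B → C'` to `A'` -/
noncomputable def bcPLaw (F : B →ₚₗ[A] C') : (A' ⊗[A] B) →ₚₗ[A'] C' where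
  toFun' S' _ _ :=
    letI : Algebra A S' := Algebra.compHom S' (algebraMap A A')
    haveI : IsScalarTower A A' S' := IsScalarTower.of_algebraMap_eq (fun _ => rfl)
    bcFun A' S' F
  isCompat' {S'} _ _ {S''} _ _ φ := by
    letI : Algebra A S' := Algebra.compHom S' (algebraMap A A')
    haveI : IsScalarTower A A' S' := IsScalarTower.of_algebraMap_eq (fun _ => rfl)
    letI : Algebra A S'' := Algebra.compHom S'' (algebraMap A A')
    haveI : IsScalarTower A A' S'' := IsScalarTower.of_algebraMap_eq (fun _ => rfl)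
    funext z
    exact bcFun_compat A' F φ
      { φ.toRingHom with commutes' := fun a => φ.commutes (algebraMap A A' a) } (fun _ => rfl) z

/-- the members of the base-changed law, for any compatible `A`-algebra structure -/
theorem bcPLaw_toFun' (F : B →ₚₗ[A] C') (R : Type u) [CommSemiring R] [Algebra A' R]
    [instA : Algebra A R] [IsScalarTower A A' R] (z : R ⊗[A'] (A' ⊗[A] B)) :
    (bcPLaw A' F).toFun' R z = bcFun A' R F z := by
  have e : instA = Algebra.compHom R (algebraMap A A') :=
    Algebra.algebra_ext _ _ (fun a => IsScalarTower.algebraMap_apply A A' R a)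
  subst e
  rfl

section mul

variable {d : ℕ} (F : PolLaw.MulLaw A B C' d)
  (S' : Type u) [CommSemiring S'] [Algebra A' S'] [Algebra A S'] [IsScalarTower A A' S']

theorem bcFun_smul (s : S') (z : S' ⊗[A'] (A' ⊗[A] B)) :
    bcFun A' S' F.law (s • z) = s ^ d • bcFun A' S' F.law z := by
  unfold bcFun
  rw [map_smul, F.homog, map_smul]

theorem bcFun_one : bcFun A' S' F.law (1 : S' ⊗[A'] (A' ⊗[A] B)) = 1 := by
  unfold bcFun
  rw [map_one, (F.mult S').1, map_one]

theorem bcFun_mul (z z' : S' ⊗[A'] (A' ⊗[A] B)) :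
    bcFun A' S' F.law (z * z') = bcFun A' S' F.law z * bcFun A' S' F.law z' := by
  unfold bcFun
  rw [map_mul, (F.mult S').2, map_mul]

end mul

/-- the base change of a multiplicative law `B → C'` to `A'` -/
noncomputable def bcLaw {d : ℕ} (F : PolLaw.MulLaw A B C' d) :
    PolLaw.MulLaw A' (A' ⊗[A] B) C' d where
  law := bcPLaw A' F.law
  homog S' _ _ s z := by
    letI : Algebra A S' := Algebra.compHom S' (algebraMap A A')
    haveI : IsScalarTower A A' S' := IsScalarTower.of_algebraMap_eq (fun _ => rfl)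
    exact bcFun_smul A' F S' s z
  mult S' _ _ := by
    letI : Algebra A S' := Algebra.compHom S' (algebraMap A A')
    haveI : IsScalarTower A A' S' := IsScalarTower.of_algebraMap_eq (fun _ => rfl)
    exact ⟨bcFun_one A' F S', bcFun_mul A' F S'⟩

theorem bcLaw_toFun' {d : ℕ} (F : PolLaw.MulLaw A B C' d) (R : Type u) [CommSemiring R]
    [Algebra A' R] [Algebra A R] [IsScalarTower A A' R] (z : R ⊗[A'] (A' ⊗[A] B)) :
    (bcLaw A' F).law.toFun' R z = bcFun A' R F.law z :=
  bcPLaw_toFun' A' F.law R z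

end Groth.Agent.Lib.Helper15.BCLawG
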