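import Mathlib
import Groth.Prelude.Def_PolLaw
import Groth.Prelude.Def_PolLaw2

/-!
# The generic element technique for multiplicative polynomial laws on a finite free algebra
(helper15)

For a finite free `R`-algebra `B` with basis `b` and a universal multiplicative law
`γ : B → C` of degree `d` (`PolLaw.IsGammaD γ`), the algebra `C` is generated by the coefficients
of `γ` at the generic element `∑ X_i ⊗ b_i`.
-/

set_option autoImplicit false
universe u
open scoped TensorProduct
open MvPolynomial

namespace Groth.Agent.Lib.Helper15.PolLawGeneric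

section basics

variable {R : Type u} [CommRing R] {M : Type u} [AddCommGroup M] [Module R M]

theorem rTensor_smul {S S' : Type u} [CommSemiring S] [Algebra R S] [CommSemiring S']
    [Algebra R S'] (φ : S →ₐ[R] S') (s : S) (z : S ⊗[R] M) :
    φ.toLinearMap.rTensor M (s • z) = φ s • φ.toLinearMap.rTensor M z := by
  induction z using TensorProduct.induction_on with
  | zero => simp
  | tmul t m =>
    rw [TensorProduct.smul_tmul', LinearMap.rTensor_tmul, LinearMap.rTensor_tmul,
      TensorProduct.smul_tmul']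
    simp
  | add x y hx hy => rw [smul_add, map_add, map_add, smul_add, hx, hy]

variable {ι : Type} [Fintype ι] [DecidableEq ι] (b : Module.Basis ι R M)

/-- coordinates in `S ⊗ M` -/
noncomputable def coords (S : Type u) [CommSemiring S] [Algebra R S] (z : S ⊗[R] M) : ι → S :=
  fun i => (Algebra.TensorProduct.basis S b).repr z i

theorem sum_coords (S : Type u) [CommSemiring S] [Algebra R S] (z : S ⊗[R] M) :
    ∑ i, coords b S z i ⊗ₜ[R] b i = z := by
  have h := (Algebra.TensorProduct.basis S b).sum_repr z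
  rw [← h]
  refine Finset.sum_congr rfl fun i _ => ?_
  rw [Algebra.TensorProduct.basis_apply, TensorProduct.smul_tmul', smul_eq_mul, mul_one, h]
  rfl

theorem coords_sum (S : Type u) [CommSemiring S] [Algebra R S] (s : ι → S) :
    coords b S (∑ i, s i ⊗ₜ[R] b i) = s := by
  funext j
  unfold coords
  rw [map_sum, Finsupp.finset_sum_apply]
  simp only [Algebra.TensorProduct.basis_repr_tmul, Module.Basis.repr_self, Finsupp.smul_apply,
    Finsupp.mapRange_apply]
  rw [Finset.sum_eq_single j]
  · simp
  · intro i _ hij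
    simp [Finsupp.single_apply, hij]
  · intro h; exact absurd (Finset.mem_univ j) h

theorem coords_rTensor {S S' : Type u} [CommSemiring S] [Algebra R S] [CommSemiring S']
    [Algebra R S'] (φ : S →ₐ[R] S') (z : S ⊗[R] M) (i : ι) :
    coords b S' (φ.toLinearMap.rTensor M z) i = φ (coords b S z i) := by
  unfold coords
  induction z using TensorProduct.induction_on with
  | zero => simp
  | tmul t m =>
      simp [LinearMap.rTensor_tmul, Algebra.TensorProduct.basis_repr_tmul, Finsupp.smul_apply,
        Finsupp.mapRange_apply]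
  | add z z' hz hz' => simp only [map_add, Finsupp.add_apply, hz, hz']

end basics

section repr

variable {R : Type u} [CommRing R] {σ : Type} {C : Type u} [AddCommGroup C] [Module R C]

/-- every element of `R[X] ⊗ C` is a finite sum `∑ X^α ⊗ c_α` -/
theorem exists_finsupp_repr (g : MvPolynomial σ R ⊗[R] C) :
    ∃ f : (σ →₀ ℕ) →₀ C, g = ∑ α ∈ f.support, (monomial α (1 : R)) ⊗ₜ[R] f α := by
  classical
  have key : ∀ f : (σ →₀ ℕ) →₀ C, (∑ α ∈ f.support, (monomial α (1 : R)) ⊗ₜ[R] f α) =
      f.sum (fun α c => (monomial α (1 : R)) ⊗ₜ[R] c) := fun f => rfl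
  induction g using TensorProduct.induction_on with
  | zero => exact ⟨0, by simp⟩
  | tmul p c =>
    refine ⟨∑ α ∈ p.support, Finsupp.single α (coeff α p • c), ?_⟩
    rw [key, ← Finsupp.sum_finset_sum_index (by simp) (by intro α c c'; rw [TensorProduct.tmul_add])]
    conv_lhs => rw [p.as_sum, TensorProduct.sum_tmul]
    refine Finset.sum_congr rfl fun α _ => ?_
    rw [Finsupp.sum_single_index (by simp)]
    first
      | rw [TensorProduct.smul_tmul', smul_monomial, smul_eq_mul, mul_one]
      | rw [TensorProduct.tmul_smul, TensorProduct.smul_tmul', smul_monomial, smul_eq_mul, mul_one]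
  | add x y hx hy =>
    obtain ⟨f, rfl⟩ := hx
    obtain ⟨f', rfl⟩ := hy
    refine ⟨f + f', ?_⟩
    rw [key, key, key, Finsupp.sum_add_index' (by simp)
      (by intro α c c'; rw [TensorProduct.tmul_add])]

end repr

section generic

variable {R : Type u} [CommRing R] {B : Type u} [CommRing B] [Algebra R B]
  {C : Type u} [CommRing C] [Algebra R C]
  {ι : Type} [Fintype ι] [DecidableEq ι] (b : Module.Basis ι R B)

/-- the generic element `∑ X_i ⊗ b_i` -/
noncomputable def gen : MvPolynomial ι R ⊗[R] B := ∑ i, (X i : MvPolynomial ι R) ⊗ₜ[R] b i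

/-- the monomial `s^α` -/
noncomputable def mon {S : Type u} [CommSemiring S] (s : ι → S) (α : ι →₀ ℕ) : S :=
  α.prod fun i k => s i ^ k

theorem aeval_monomial_one {S : Type u} [CommSemiring S] [Algebra R S] (s : ι → S)
    (α : ι →₀ ℕ) : aeval s (monomial α (1 : R)) = mon s α := by
  rw [aeval_monomial, map_one, one_mul]
  rfl

theorem map_mon {S S' : Type u} [CommSemiring S] [CommSemiring S'] (φ : S →+* S') (s : ι → S)
    (α : ι →₀ ℕ) : φ (mon s α) = mon (fun i => φ (s i)) α := by
  unfold mon
  rw [Finsupp.prod, map_prod]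
  simp only [map_pow]
  rfl

theorem rTensor_gen {S : Type u} [CommSemiring S] [Algebra R S] (s : ι → S) :
    (aeval s : MvPolynomial ι R →ₐ[R] S).toLinearMap.rTensor B (gen b) =
      ∑ i, s i ⊗ₜ[R] b i := by
  unfold gen
  rw [map_sum]
  refine Finset.sum_congr rfl fun i _ => ?_
  rw [LinearMap.rTensor_tmul, AlgHom.toLinearMap_apply, aeval_X]

variable {d : ℕ} (γ : PolLaw.MulLaw R B C d)

/-- the coefficients of `γ` at the generic element -/
noncomputable def gcoeff : (ι →₀ ℕ) →₀ C :=
  (exists_finsupp_repr (γ.law.toFun' (MvPolynomial ι R) (gen b))).choose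

theorem gcoeff_spec : γ.law.toFun' (MvPolynomial ι R) (gen b) =
    ∑ α ∈ (gcoeff b γ).support, (monomial α (1 : R)) ⊗ₜ[R] gcoeff b γ α :=
  (exists_finsupp_repr (γ.law.toFun' (MvPolynomial ι R) (gen b))).choose_spec

/-- **Formula (F)**: the law is determined by its generic coefficients -/
theorem law_eq_sum (S : Type u) [CommSemiring S] [Algebra R S] (z : S ⊗[R] B) :
    γ.law.toFun' S z =
      ∑ α ∈ (gcoeff b γ).support, mon (coords b S z) α ⊗ₜ[R] gcoeff b γ α := by
  have h1 := PolynomialLaw.isCompat_apply' (f := γ.law)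
    (aeval (coords b S z) : MvPolynomial ι R →ₐ[R] S) (gen b)
  rw [rTensor_gen, sum_coords, gcoeff_spec, map_sum] at h1
  rw [← h1]
  refine Finset.sum_congr rfl fun α _ => ?_
  rw [LinearMap.rTensor_tmul, AlgHom.toLinearMap_apply, aeval_monomial_one]

/-- the subalgebra generated by the generic coefficients -/
noncomputable def C₀ : Subalgebra R C := Algebra.adjoin R (Set.range (gcoeff b γ))

/-- the generic coefficients as elements of `C₀` -/
noncomputable def gcoeff₀ (α : ι →₀ ℕ) : C₀ b γ :=
  ⟨gcoeff b γ α, Algebra.subset_adjoin ⟨α, rfl⟩⟩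

/-- the law `γ` corestricted to `C₀` -/
noncomputable def law₀ : B →ₚₗ[R] (C₀ b γ) where
  toFun' S _ _ := fun z =>
    ∑ α ∈ (gcoeff b γ).support, mon (coords b S z) α ⊗ₜ[R] gcoeff₀ b γ α
  isCompat' {S} _ _ {S'} _ _ φ := by
    funext z
    simp only [Function.comp_apply]
    rw [map_sum]
    refine Finset.sum_congr rfl fun α _ => ?_
    rw [LinearMap.rTensor_tmul, AlgHom.toLinearMap_apply]
    have h := map_mon (φ : S →+* S') (coords b S z) α
    rw [RingHom.coe_coe] at h
    rw [h]
    congr 2
    funext i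
    exact (coords_rTensor b φ z i).symm

theorem law₀_toFun' (S : Type u) [CommSemiring S] [Algebra R S] (z : S ⊗[R] B) :
    (law₀ b γ).toFun' S z =
      ∑ α ∈ (gcoeff b γ).support, mon (coords b S z) α ⊗ₜ[R] gcoeff₀ b γ α := rfl

/-- `incl ∘ law₀ = γ` -/
theorem val_law₀ (S : Type u) [CommSemiring S] [Algebra R S] (z : S ⊗[R] B) :
    (C₀ b γ).val.toLinearMap.lTensor S ((law₀ b γ).toFun' S z) = γ.law.toFun' S z := by
  rw [law₀_toFun', law_eq_sum b γ S z, map_sum]
  refine Finset.sum_congr rfl fun α _ => ?_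
  rw [LinearMap.lTensor_tmul]
  rfl

theorem postcomp_val_law₀ : PolLaw.postcomp (C₀ b γ).val.toLinearMap (law₀ b γ) = γ.law := by
  ext S _ _ z
  exact val_law₀ b γ S z

/-- injectivity of `P ⊗ C₀ → P ⊗ C` for polynomial rings `P` -/
theorem lTensor_val_injective (κ : Type) :
    Function.Injective ((C₀ b γ).val.toLinearMap.lTensor (MvPolynomial κ R)) :=
  Module.Flat.lTensor_preserves_injective_linearMap _ Subtype.val_injective

/-- `S ⊗ incl` as an algebra map -/
theorem lTensor_val_eq (S : Type u) [CommSemiring S] [Algebra R S] (y : S ⊗[R] C₀ b γ) :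
    (C₀ b γ).val.toLinearMap.lTensor S y =
      Algebra.TensorProduct.map (AlgHom.id S S) (C₀ b γ).val y :=
  PolLaw.lTensor_algHom_apply (C₀ b γ).val S y

theorem law₀_mult : PolLaw.IsMult (law₀ b γ) := by
  intro S _ _
  constructor
  · -- `1` comes from `R`
    have h1 : (law₀ b γ).toFun' R 1 = 1 := by
      have hinj : Function.Injective ((C₀ b γ).val.toLinearMap.lTensor R) :=
        Module.Flat.lTensor_preserves_injective_linearMap _ Subtype.val_injective
      apply hinj
      rw [val_law₀, (γ.mult R).1, lTensor_val_eq, map_one]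
    have h2 := PolynomialLaw.isCompat_apply' (f := law₀ b γ) (Algebra.ofId R S) (1 : R ⊗[R] B)
    rw [h1, PolLaw.rTensor_algHom_apply, PolLaw.rTensor_algHom_apply, map_one, map_one] at h2
    exact h2.symm
  · intro x y
    let ψ : MvPolynomial (ι ⊕ ι) R →ₐ[R] S := aeval (Sum.elim (coords b S x) (coords b S y))
    let zx : MvPolynomial (ι ⊕ ι) R ⊗[R] B := ∑ i, (X (Sum.inl i) : MvPolynomial (ι ⊕ ι) R) ⊗ₜ[R] b i
    let zy : MvPolynomial (ι ⊕ ι) R ⊗[R] B := ∑ i, (X (Sum.inr i) : MvPolynomial (ι ⊕ ι) R) ⊗ₜ[R] b i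
    have hzx : ψ.toLinearMap.rTensor B zx = x := by
      simp only [zx, map_sum, LinearMap.rTensor_tmul, AlgHom.toLinearMap_apply, ψ, aeval_X,
        Sum.elim_inl]
      exact sum_coords b S x
    have hzy : ψ.toLinearMap.rTensor B zy = y := by
      simp only [zy, map_sum, LinearMap.rTensor_tmul, AlgHom.toLinearMap_apply, ψ, aeval_X,
        Sum.elim_inr]
      exact sum_coords b S y
    have hgen : (law₀ b γ).toFun' _ (zx * zy) =
        (law₀ b γ).toFun' _ zx * (law₀ b γ).toFun' _ zy := by
      apply lTensor_val_injective b γ (ι ⊕ ι)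
      rw [val_law₀, (γ.mult _).2, lTensor_val_eq, map_mul, ← lTensor_val_eq, ← lTensor_val_eq,
        val_law₀, val_law₀]
    have hxy : ψ.toLinearMap.rTensor B (zx * zy) = x * y := by
      rw [PolLaw.rTensor_algHom_apply, map_mul, ← PolLaw.rTensor_algHom_apply,
        ← PolLaw.rTensor_algHom_apply, hzx, hzy]
    rw [← hxy, ← PolynomialLaw.isCompat_apply' (f := law₀ b γ), hgen,
      PolLaw.rTensor_algHom_apply, map_mul, ← PolLaw.rTensor_algHom_apply,
      ← PolLaw.rTensor_algHom_apply, PolynomialLaw.isCompat_apply' (f := law₀ b γ),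
      PolynomialLaw.isCompat_apply' (f := law₀ b γ), hzx, hzy]

theorem law₀_homog : PolLaw.IsHomog (law₀ b γ) d := by
  intro S _ _ s x
  let ψ : MvPolynomial (Option ι) R →ₐ[R] S :=
    aeval (fun o : Option ι => o.elim s (coords b S x))
  let u : MvPolynomial (Option ι) R := X none
  let z : MvPolynomial (Option ι) R ⊗[R] B :=
    ∑ i, (X (some i) : MvPolynomial (Option ι) R) ⊗ₜ[R] b i
  have hz : ψ.toLinearMap.rTensor B z = x := by
    simp only [z, map_sum, LinearMap.rTensor_tmul, AlgHom.toLinearMap_apply, ψ, aeval_X,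
      Option.elim_some]
    exact sum_coords b S x
  have hu : ψ u = s := by simp [ψ, u]
  have hgen : (law₀ b γ).toFun' _ (u • z) = u ^ d • (law₀ b γ).toFun' _ z := by
    apply lTensor_val_injective b γ (Option ι)
    rw [val_law₀, γ.homog, lTensor_val_eq, map_smul, ← lTensor_val_eq, val_law₀]
  have h1 : ψ.toLinearMap.rTensor B (u • z) = s • x := by rw [rTensor_smul, hz, hu]
  rw [← h1, ← PolynomialLaw.isCompat_apply' (f := law₀ b γ), hgen, rTensor_smul, map_pow, hu,
    PolynomialLaw.isCompat_apply' (f := law₀ b γ), hz]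

/-- `γ` corestricted to `C₀`, as a multiplicative law -/
noncomputable def mulLaw₀ : PolLaw.MulLaw R B (C₀ b γ) d where
  law := law₀ b γ
  homog := law₀_homog b γ
  mult := law₀_mult b γ

/-- **`C` is generated by the generic coefficients.** -/
theorem adjoin_gcoeff_eq_top (hγ : PolLaw.IsGammaD γ) :
    Algebra.adjoin R (Set.range (gcoeff b γ)) = ⊤ := by
  obtain ⟨f, hf, -⟩ := hγ (C₀ b γ) (mulLaw₀ b γ)
  obtain ⟨g, -, hguniq⟩ := hγ C γ
  have h1 : PolLaw.postcomp (((C₀ b γ).val.comp f).toLinearMap) γ.law = γ.law := by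
    have : PolLaw.postcomp (((C₀ b γ).val.comp f).toLinearMap) γ.law =
        PolLaw.postcomp (C₀ b γ).val.toLinearMap (PolLaw.postcomp f.toLinearMap γ.law) := by
      ext S _ _ z
      change ((C₀ b γ).val.comp f).toLinearMap.lTensor S (γ.law.toFun' S z) =
        (C₀ b γ).val.toLinearMap.lTensor S (f.toLinearMap.lTensor S (γ.law.toFun' S z))
      rw [← LinearMap.comp_apply, ← LinearMap.lTensor_comp]
      rfl
    rw [this, hf]
    exact postcomp_val_law₀ b γ
  have h2 : PolLaw.postcomp (AlgHom.id R C).toLinearMap γ.law = γ.law := by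
    ext S _ _ z
    change (AlgHom.id R C).toLinearMap.lTensor S (γ.law.toFun' S z) = _
    have : (AlgHom.id R C).toLinearMap = LinearMap.id := rfl
    rw [this, LinearMap.lTensor_id]
    rfl
  have h3 : (C₀ b γ).val.comp f = AlgHom.id R C := (hguniq _ h1).trans (hguniq _ h2).symm
  rw [eq_top_iff]
  intro c _
  have : c = (C₀ b γ).val (f c) := by
    have := DFunLike.congr_fun h3 c
    exact this.symm
  rw [this]
  exact (f c).2

end generic

end Groth.Agent.Lib.Helper15.PolLawGeneric
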