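import Mathlib
import Groth.Prelude.Def_PolLaw
import Groth.Prelude.Def_PolLaw2

/-!
# Polynomial test rings for polynomial laws (helper15)

* `exists_lift`: every element of `S ⊗ B` is the specialisation of an element of `P ⊗ B` for the
  polynomial ring `P = A[S]`.
* `polyT : P[X] ⊗ C → (P ⊗ C)[X]` and its naturality properties.
-/

set_option autoImplicit false
universe u
open scoped TensorProduct
open Polynomial

namespace Groth.Agent.Lib.Helper15.PolLawPoly

section lift

variable {A : Type u} [CommRing A] {B : Type u} [AddCommGroup B] [Module A B]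

/-- the evaluation map `A[S] → S` -/
noncomputable def evS (S : Type u) [CommSemiring S] [Algebra A S] : MvPolynomial S A →ₐ[A] S :=
  MvPolynomial.aeval id

theorem evS_surjective (S : Type u) [CommSemiring S] [Algebra A S] :
    Function.Surjective (evS (A := A) S) := fun s => ⟨MvPolynomial.X s, by simp [evS]⟩

theorem exists_lift (S : Type u) [CommSemiring S] [Algebra A S] (z : S ⊗[A] B) :
    ∃ z' : MvPolynomial S A ⊗[A] B, (evS (A := A) S).toLinearMap.rTensor B z' = z :=
  LinearMap.rTensor_surjective B (evS_surjective (A := A) S) z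

end lift

section polyT

variable {A : Type u} [CommRing A] (P : Type u) [CommRing P] [Algebra A P]
  (C : Type u) [CommRing C] [Algebra A C]

/-- `P[X] ⊗ C → (P ⊗ C)[X]` -/
noncomputable def polyT : P[X] ⊗[A] C →ₐ[A] (P ⊗[A] C)[X] :=
  Algebra.TensorProduct.lift
    (Polynomial.mapAlgHom (Algebra.TensorProduct.includeLeft : P →ₐ[A] P ⊗[A] C))
    ((Polynomial.CAlgHom (R := A) (A := P ⊗[A] C)).comp
      (Algebra.TensorProduct.includeRight : C →ₐ[A] P ⊗[A] C))
    (fun _ _ => Commute.all _ _)

variable {P C}

theorem polyT_tmul (q : P[X]) (c : C) :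
    polyT P C (q ⊗ₜ[A] c) =
      q.map (Algebra.TensorProduct.includeLeft : P →ₐ[A] P ⊗[A] C).toRingHom *
        Polynomial.C ((1 : P) ⊗ₜ[A] c) := by
  unfold polyT
  rw [Algebra.TensorProduct.lift_tmul]
  rfl

/-- constants -/
theorem polyT_C (l : P ⊗[A] C) :
    polyT P C (Algebra.TensorProduct.map (Polynomial.CAlgHom (R := A) (A := P)) (AlgHom.id A C) l) =
      Polynomial.C l := by
  induction l using TensorProduct.induction_on with
  | zero => simp
  | tmul p c =>
    rw [Algebra.TensorProduct.map_tmul, polyT_tmul, AlgHom.id_apply, Polynomial.CAlgHom_apply,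
      Polynomial.map_C, ← Polynomial.C_mul]
    congr 1
    simp [Algebra.TensorProduct.tmul_mul_tmul]
  | add x y hx hy => rw [map_add, map_add, hx, hy, Polynomial.C_add]

/-- substitution `X ↦ r` -/
noncomputable def subst (r : P[X]) : P[X] →ₐ[A] P[X] :=
  (Polynomial.aeval r : P[X] →ₐ[P] P[X]).restrictScalars A

theorem subst_apply (r q : P[X]) : subst (A := A) r q = q.comp r := by
  rfl

theorem polyT_subst (r : P[X]) (z : P[X] ⊗[A] C) :
    polyT P C (Algebra.TensorProduct.map (subst (A := A) r) (AlgHom.id A C) z) =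
      (polyT P C z).comp
        (r.map (Algebra.TensorProduct.includeLeft : P →ₐ[A] P ⊗[A] C).toRingHom) := by
  induction z using TensorProduct.induction_on with
  | zero => simp
  | tmul q c =>
    rw [Algebra.TensorProduct.map_tmul, polyT_tmul, polyT_tmul, AlgHom.id_apply, subst_apply,
      Polynomial.map_comp, Polynomial.mul_comp, Polynomial.C_comp]
  | add x y hx hy => rw [map_add, map_add, hx, hy, map_add, Polynomial.add_comp]

/-- evaluation `X ↦ a` -/
noncomputable def evalAt (a : P) : P[X] →ₐ[A] P :=
  (Polynomial.aeval a : P[X] →ₐ[P] P).restrictScalars A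

theorem evalAt_apply (a : P) (q : P[X]) : evalAt (A := A) a q = q.eval a := by
  show Polynomial.aeval a q = q.eval a
  rw [Polynomial.coe_aeval_eq_eval]

theorem polyT_eval (a : P) (z : P[X] ⊗[A] C) :
    (polyT P C z).eval (a ⊗ₜ[A] (1 : C)) =
      Algebra.TensorProduct.map (evalAt (A := A) a) (AlgHom.id A C) z := by
  induction z using TensorProduct.induction_on with
  | zero => simp
  | tmul q c =>
    rw [Algebra.TensorProduct.map_tmul, polyT_tmul, AlgHom.id_apply, evalAt_apply,
      Polynomial.eval_mul, Polynomial.eval_C]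
    have : (q.map (Algebra.TensorProduct.includeLeft : P →ₐ[A] P ⊗[A] C).toRingHom).eval
        (a ⊗ₜ[A] (1 : C)) = (q.eval a) ⊗ₜ[A] (1 : C) := by
      rw [Polynomial.eval_map]
      exact Polynomial.eval₂_at_apply
        (Algebra.TensorProduct.includeLeft : P →ₐ[A] P ⊗[A] C).toRingHom a
    rw [this, Algebra.TensorProduct.tmul_mul_tmul, mul_one, one_mul]
  | add x y hx hy => rw [map_add, map_add, Polynomial.eval_add, hx, hy]

end polyT

end Groth.Agent.Lib.Helper15.PolLawPoly
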