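import Mathlib
import Groth.Agent.Lib.Helper15.PolLawPoly
import Groth.Agent.Lib.Helper15.PolLawGeneric

/-!
# Corestricting a multiplicative law to a subalgebra (helper15)

If the values of a multiplicative law `γ : B → C` over all polynomial test rings lie in (the image
of) `P ⊗ C₀` for a subalgebra `C₀ ⊆ C`, then `γ` corestricts to a multiplicative law `B → C₀`.
If moreover `γ` is universal (`IsGammaD`), then `C₀ = ⊤`.
-/

set_option autoImplicit false
universe u
open scoped TensorProduct

namespace Groth.Agent.Lib.Helper15.Corestrict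

open Groth.Agent.Lib.Helper15.PolLawPoly

variable {A : Type u} [CommRing A] {B : Type u} [CommRing B] [Algebra A B]
  {C : Type u} [CommRing C] [Algebra A C] {d : ℕ}

section basics

theorem rTensor_lTensor {M N : Type u} [AddCommGroup M] [Module A M] [AddCommGroup N] [Module A N]
    {S S' : Type u} [CommSemiring S] [Algebra A S] [CommSemiring S'] [Algebra A S']
    (φ : S →ₐ[A] S') (g : M →ₗ[A] N) (x : S ⊗[A] M) :
    φ.toLinearMap.rTensor N (g.lTensor S x) = g.lTensor S' (φ.toLinearMap.rTensor M x) := by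
  rw [← LinearMap.comp_apply, LinearMap.rTensor_comp_lTensor, ← LinearMap.lTensor_comp_rTensor,
    LinearMap.comp_apply]

theorem rTensor_rTensor {M : Type u} [AddCommGroup M] [Module A M]
    {S S' S'' : Type u} [CommSemiring S] [Algebra A S] [CommSemiring S'] [Algebra A S']
    [CommSemiring S''] [Algebra A S'']
    (φ : S →ₐ[A] S') (φ' : S' →ₐ[A] S'') (x : S ⊗[A] M) :
    φ'.toLinearMap.rTensor M (φ.toLinearMap.rTensor M x) =
      (φ'.comp φ).toLinearMap.rTensor M x := by
  rw [← LinearMap.comp_apply, ← LinearMap.rTensor_comp]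
  rfl

theorem rTensor_id_apply {M : Type u} [AddCommGroup M] [Module A M]
    {S : Type u} [CommSemiring S] [Algebra A S] (x : S ⊗[A] M) :
    (AlgHom.id A S).toLinearMap.rTensor M x = x := by
  have : (AlgHom.id A S).toLinearMap = LinearMap.id := rfl
  rw [this, LinearMap.rTensor_id, LinearMap.id_apply]

end basics

variable (γ : PolLaw.MulLaw A B C d) (C₀ : Subalgebra A C)

/-- `S ⊗ C₀ → S ⊗ C` -/
noncomputable def inc (S : Type u) [CommSemiring S] [Algebra A S] : S ⊗[A] C₀ →ₗ[A] S ⊗[A] C :=
  C₀.val.toLinearMap.lTensor S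

theorem inc_eq (S : Type u) [CommSemiring S] [Algebra A S] (y : S ⊗[A] C₀) :
    inc C₀ S y = Algebra.TensorProduct.map (AlgHom.id S S) C₀.val y :=
  PolLaw.lTensor_algHom_apply C₀.val S y

theorem inc_injective (σ : Type u) : Function.Injective (inc C₀ (MvPolynomial σ A)) :=
  Module.Flat.lTensor_preserves_injective_linearMap _ Subtype.val_injective

theorem inc_nat {S S' : Type u} [CommSemiring S] [Algebra A S] [CommSemiring S'] [Algebra A S']
    (φ : S →ₐ[A] S') (y : S ⊗[A] C₀) :
    φ.toLinearMap.rTensor C (inc C₀ S y) = inc C₀ S' (φ.toLinearMap.rTensor C₀ y) :=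
  rTensor_lTensor φ _ y

variable (H : ∀ (σ : Type u) (z : MvPolynomial σ A ⊗[A] B),
    γ.law.toFun' (MvPolynomial σ A) z ∈ LinearMap.range (inc C₀ (MvPolynomial σ A)))

/-- the preimage in `P ⊗ C₀` of the value of the law -/
noncomputable def pre (σ : Type u) (z : MvPolynomial σ A ⊗[A] B) : MvPolynomial σ A ⊗[A] C₀ :=
  (H σ z).choose

theorem inc_pre (σ : Type u) (z : MvPolynomial σ A ⊗[A] B) :
    inc C₀ _ (pre γ C₀ H σ z) = γ.law.toFun' (MvPolynomial σ A) z :=
  (H σ z).choose_spec

theorem pre_map {σ τ : Type u} (χ : MvPolynomial σ A →ₐ[A] MvPolynomial τ A)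
    (z : MvPolynomial σ A ⊗[A] B) :
    χ.toLinearMap.rTensor C₀ (pre γ C₀ H σ z) = pre γ C₀ H τ (χ.toLinearMap.rTensor B z) := by
  apply inc_injective C₀ τ
  rw [← inc_nat, inc_pre, inc_pre, PolynomialLaw.isCompat_apply' (f := γ.law)]

theorem pre_mul (σ : Type u) (z z' : MvPolynomial σ A ⊗[A] B) :
    pre γ C₀ H σ (z * z') = pre γ C₀ H σ z * pre γ C₀ H σ z' := by
  apply inc_injective C₀ σ
  rw [inc_pre, inc_eq, map_mul, ← inc_eq, ← inc_eq, inc_pre, inc_pre, (γ.mult _).2]

theorem pre_one (σ : Type u) : pre γ C₀ H σ 1 = 1 := by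
  apply inc_injective C₀ σ
  rw [inc_pre, inc_eq, map_one, (γ.mult _).1]

theorem pre_smul (σ : Type u) (p : MvPolynomial σ A) (z : MvPolynomial σ A ⊗[A] B) :
    pre γ C₀ H σ (p • z) = p ^ d • pre γ C₀ H σ z := by
  apply inc_injective C₀ σ
  rw [inc_pre, inc_eq, map_smul, ← inc_eq, inc_pre, γ.homog]

/-- a chosen lift to the polynomial ring `A[S]` -/
noncomputable def lift (S : Type u) [CommSemiring S] [Algebra A S] (z : S ⊗[A] B) :
    MvPolynomial S A ⊗[A] B :=
  (exists_lift (A := A) (B := B) S z).choose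

theorem lift_spec (S : Type u) [CommSemiring S] [Algebra A S] (z : S ⊗[A] B) :
    (evS (A := A) S).toLinearMap.rTensor B (lift S z) = z :=
  (exists_lift (A := A) (B := B) S z).choose_spec

/-- the corestricted law on a test algebra -/
noncomputable def cfun (S : Type u) [CommSemiring S] [Algebra A S] (z : S ⊗[A] B) : S ⊗[A] C₀ :=
  (evS (A := A) S).toLinearMap.rTensor C₀ (pre γ C₀ H S (lift S z))

/-- specialisation `U ↦ a` -/
noncomputable def sp (S : Type u) (a : MvPolynomial S A) :
    MvPolynomial (Option S) A →ₐ[A] MvPolynomial S A :=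
  MvPolynomial.aeval (fun o : Option S => o.elim a MvPolynomial.X)

theorem sp_comp_rename (S : Type u) (a : MvPolynomial S A) :
    (sp S a).comp (MvPolynomial.rename (some : S → Option S)) = AlgHom.id A _ := by
  apply MvPolynomial.algHom_ext
  intro s
  simp [sp]

theorem wd_step (S : Type u) [CommSemiring S] [Algebra A S] (i : MvPolynomial S A)
    (hi : evS (A := A) S i = 0) (b' : B) (zt : MvPolynomial S A ⊗[A] B) :
    (evS (A := A) S).toLinearMap.rTensor C₀ (pre γ C₀ H S (zt + i ⊗ₜ[A] b')) =
      (evS (A := A) S).toLinearMap.rTensor C₀ (pre γ C₀ H S zt) := by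
  let ιT : MvPolynomial S A →ₐ[A] MvPolynomial (Option S) A := MvPolynomial.rename some
  let Z : MvPolynomial (Option S) A ⊗[A] B :=
    ιT.toLinearMap.rTensor B zt + (MvPolynomial.X none) ⊗ₜ[A] b'
  have hZ : ∀ a : MvPolynomial S A, (sp S a).toLinearMap.rTensor B Z = zt + a ⊗ₜ[A] b' := by
    intro a
    simp only [Z, map_add, rTensor_rTensor, ιT, sp_comp_rename, rTensor_id_apply,
      LinearMap.rTensor_tmul, AlgHom.toLinearMap_apply]
    congr 2
    simp [sp]
  have hev : (evS (A := A) S).comp (sp S i) = (evS (A := A) S).comp (sp S 0) := by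
    apply MvPolynomial.algHom_ext
    intro o
    cases o with
    | none => simp [sp, hi]
    | some s => simp [sp]
  have h1 := pre_map γ C₀ H (sp S i) Z
  have h0 := pre_map γ C₀ H (sp S 0) Z
  rw [hZ] at h1 h0
  rw [TensorProduct.zero_tmul, add_zero] at h0
  rw [← h1, ← h0, rTensor_rTensor, rTensor_rTensor, hev]

theorem wd (S : Type u) [CommSemiring S] [Algebra A S] (zt zt' : MvPolynomial S A ⊗[A] B)
    (h : (evS (A := A) S).toLinearMap.rTensor B zt = (evS (A := A) S).toLinearMap.rTensor B zt') :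
    (evS (A := A) S).toLinearMap.rTensor C₀ (pre γ C₀ H S zt) =
      (evS (A := A) S).toLinearMap.rTensor C₀ (pre γ C₀ H S zt') := by
  letI : AddCommGroup S := Module.addCommMonoidToAddCommGroup A
  let I : Submodule A (MvPolynomial S A) := LinearMap.ker (evS (A := A) S).toLinearMap
  have hex := rTensor_exact B (LinearMap.exact_subtype_ker_map (evS (A := A) S).toLinearMap)
    (show Function.Surjective (evS (A := A) S).toLinearMap from evS_surjective S)
  have h0 : (evS (A := A) S).toLinearMap.rTensor B (zt' - zt) = 0 := by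
    rw [map_sub, h, sub_self]
  obtain ⟨κ, hκ⟩ := (hex (zt' - zt)).mp h0
  have key : ∀ (κ : I ⊗[A] B) (zt : MvPolynomial S A ⊗[A] B),
      (evS (A := A) S).toLinearMap.rTensor C₀ (pre γ C₀ H S (zt + I.subtype.rTensor B κ)) =
        (evS (A := A) S).toLinearMap.rTensor C₀ (pre γ C₀ H S zt) := by
    intro κ
    induction κ using TensorProduct.induction_on with
    | zero => intro zt; rw [map_zero, add_zero]
    | tmul i b' =>
      intro zt
      rw [LinearMap.rTensor_tmul]
      exact wd_step γ C₀ H S i.1 i.2 b' zt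
    | add κ₁ κ₂ h₁ h₂ =>
      intro zt
      rw [map_add, ← add_assoc, h₂, h₁]
  have : zt' = zt + I.subtype.rTensor B κ := by rw [hκ]; abel
  rw [this, key]

/-- the corestricted law is computed by any polynomial presentation -/
theorem cfun_eq (S : Type u) [CommSemiring S] [Algebra A S] {σ : Type u}
    (φ : MvPolynomial σ A →ₐ[A] S) (zt : MvPolynomial σ A ⊗[A] B) :
    cfun γ C₀ H S (φ.toLinearMap.rTensor B zt) = φ.toLinearMap.rTensor C₀ (pre γ C₀ H σ zt) := by
  let ψ : MvPolynomial σ A →ₐ[A] MvPolynomial S A :=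
    MvPolynomial.aeval (fun i => MvPolynomial.X (φ (MvPolynomial.X i)))
  have hψ : (evS (A := A) S).comp ψ = φ := by
    apply MvPolynomial.algHom_ext
    intro i
    simp [ψ, evS]
  unfold cfun
  rw [wd γ C₀ H S (lift S (φ.toLinearMap.rTensor B zt)) (ψ.toLinearMap.rTensor B zt)
    (by rw [lift_spec, rTensor_rTensor, hψ]), ← pre_map, rTensor_rTensor, hψ]

theorem cfun_ev (S : Type u) [CommSemiring S] [Algebra A S] (zt : MvPolynomial S A ⊗[A] B) :
    cfun γ C₀ H S ((evS (A := A) S).toLinearMap.rTensor B zt) =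
      (evS (A := A) S).toLinearMap.rTensor C₀ (pre γ C₀ H S zt) :=
  cfun_eq γ C₀ H S (evS (A := A) S) zt

theorem inc_cfun (S : Type u) [CommSemiring S] [Algebra A S] (z : S ⊗[A] B) :
    inc C₀ S (cfun γ C₀ H S z) = γ.law.toFun' S z := by
  unfold cfun
  rw [← inc_nat, inc_pre, PolynomialLaw.isCompat_apply' (f := γ.law), lift_spec]

/-- the corestricted law -/
noncomputable def law₀ : PolLaw.MulLaw A B C₀ d where
  law :=
  { toFun' := fun S _ _ => cfun γ C₀ H S
    isCompat' := fun {S} _ _ {S'} _ _ φ => by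
      funext z
      simp only [Function.comp_apply]
      conv_rhs => rw [← lift_spec S z, rTensor_rTensor, cfun_eq, ← rTensor_rTensor]
      rfl }
  homog S _ _ s z := by
    show cfun γ C₀ H S (s • z) = s ^ d • cfun γ C₀ H S z
    have h1 : s • z = (evS (A := A) S).toLinearMap.rTensor B
        ((MvPolynomial.X s : MvPolynomial S A) • lift S z) := by
      rw [PolLawGeneric.rTensor_smul, lift_spec]
      simp [evS]
    rw [h1, cfun_ev, pre_smul, PolLawGeneric.rTensor_smul, map_pow]
    congr 1
    · simp [evS]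
  mult S _ _ := by
    constructor
    · show cfun γ C₀ H S 1 = 1
      have h1 : (1 : S ⊗[A] B) = (evS (A := A) S).toLinearMap.rTensor B 1 := by
        rw [PolLaw.rTensor_algHom_apply, map_one]
      rw [h1, cfun_ev, pre_one, PolLaw.rTensor_algHom_apply, map_one]
    · intro z z'
      show cfun γ C₀ H S (z * z') = cfun γ C₀ H S z * cfun γ C₀ H S z'
      have h1 : z * z' = (evS (A := A) S).toLinearMap.rTensor B (lift S z * lift S z') := by
        rw [PolLaw.rTensor_algHom_apply, map_mul, ← PolLaw.rTensor_algHom_apply,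
          ← PolLaw.rTensor_algHom_apply, lift_spec, lift_spec]
      rw [h1, cfun_ev, pre_mul, PolLaw.rTensor_algHom_apply, map_mul,
        ← PolLaw.rTensor_algHom_apply, ← PolLaw.rTensor_algHom_apply]
      rfl

theorem postcomp_law₀ :
    PolLaw.postcomp C₀.val.toLinearMap (law₀ γ C₀ H).law = γ.law := by
  ext S _ _ z
  exact inc_cfun γ C₀ H S z

include H in
/-- **a subalgebra containing all values of a universal law over polynomial rings is everything** -/
theorem eq_top_of_isGammaD (hγ : PolLaw.IsGammaD γ) : C₀ = ⊤ := by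
  obtain ⟨f, hf, -⟩ := hγ C₀ (law₀ γ C₀ H)
  obtain ⟨g, -, hguniq⟩ := hγ C γ
  have h1 : PolLaw.postcomp ((C₀.val.comp f).toLinearMap) γ.law = γ.law := by
    have : PolLaw.postcomp ((C₀.val.comp f).toLinearMap) γ.law =
        PolLaw.postcomp C₀.val.toLinearMap (PolLaw.postcomp f.toLinearMap γ.law) := by
      ext S _ _ z
      change (C₀.val.comp f).toLinearMap.lTensor S (γ.law.toFun' S z) =
        C₀.val.toLinearMap.lTensor S (f.toLinearMap.lTensor S (γ.law.toFun' S z))
      rw [← LinearMap.comp_apply, ← LinearMap.lTensor_comp]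
      rfl
    rw [this, hf]
    exact postcomp_law₀ γ C₀ H
  have h2 : PolLaw.postcomp (AlgHom.id A C).toLinearMap γ.law = γ.law := by
    ext S _ _ z
    change (AlgHom.id A C).toLinearMap.lTensor S (γ.law.toFun' S z) = _
    have : (AlgHom.id A C).toLinearMap = LinearMap.id := rfl
    rw [this, LinearMap.lTensor_id]
    rfl
  have h3 : C₀.val.comp f = AlgHom.id A C := (hguniq _ h1).trans (hguniq _ h2).symm
  rw [eq_top_iff]
  intro c _
  have : c = C₀.val (f c) := (DFunLike.congr_fun h3 c).symm
  rw [this]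
  exact (f c).2

end Groth.Agent.Lib.Helper15.Corestrict
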