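import Mathlib
import Groth.Prelude.Def_PolLaw
import Groth.Prelude.Def_PolLaw2

/-!
# Homogeneous polynomial laws on a free module: global coefficients (helper15)

For a free `A`-module `M` with basis `e : Basis I A M` (`I` possibly infinite) and a polynomial law
`G : M → N` homogeneous of degree `d`, there are global coefficients `gco e G α ∈ N`
(`α : I →₀ ℕ`) with
`G_S (∑ i ∈ J, s i ⊗ e i) = ∑ α ∈ finsuppAntidiag J d, s^α ⊗ gco e G α`.
-/

set_option autoImplicit false
universe u
open scoped TensorProduct
open MvPolynomial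

namespace Groth.Agent.Lib.Helper15.LawFree

variable {A : Type u} [CommRing A]

section ext

variable {N : Type u} [AddCommGroup N] [Module A N]

/-- linear extraction: `p ⊗ n ↦ ℓ p • n` -/
noncomputable def ext {S : Type u} [CommSemiring S] [Algebra A S] (ℓ : S →ₗ[A] A) :
    S ⊗[A] N →ₗ[A] N :=
  (TensorProduct.lid A N).toLinearMap ∘ₗ ℓ.rTensor N

theorem ext_tmul {S : Type u} [CommSemiring S] [Algebra A S] (ℓ : S →ₗ[A] A) (p : S) (n : N) :
    ext ℓ (p ⊗ₜ[A] n) = ℓ p • n := by
  simp [ext]

variable {I : Type u}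

/-- coefficient extraction -/
noncomputable def tcoeff (α : I →₀ ℕ) : MvPolynomial I A ⊗[A] N →ₗ[A] N :=
  ext (MvPolynomial.lcoeff A α)

theorem tcoeff_tmul (α : I →₀ ℕ) (p : MvPolynomial I A) (n : N) :
    tcoeff α (p ⊗ₜ[A] n) = coeff α p • n := by
  unfold tcoeff
  rw [ext_tmul]
  rfl

/-- every element of `A[X_I] ⊗ N` is a finite sum `∑ X^α ⊗ n_α` -/
theorem exists_repr (g : MvPolynomial I A ⊗[A] N) :
    ∃ f : (I →₀ ℕ) →₀ N, g = ∑ α ∈ f.support, (monomial α (1 : A)) ⊗ₜ[A] f α := by
  classical
  have key : ∀ f : (I →₀ ℕ) →₀ N, (∑ α ∈ f.support, (monomial α (1 : A)) ⊗ₜ[A] f α) =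
      f.sum (fun α c => (monomial α (1 : A)) ⊗ₜ[A] c) := fun f => rfl
  induction g using TensorProduct.induction_on with
  | zero => exact ⟨0, by simp⟩
  | tmul p c =>
    refine ⟨∑ α ∈ p.support, Finsupp.single α (coeff α p • c), ?_⟩
    rw [key, ← Finsupp.sum_finset_sum_index (by simp) (by intro α c c'; rw [TensorProduct.tmul_add])]
    conv_lhs => rw [p.as_sum, TensorProduct.sum_tmul]
    refine Finset.sum_congr rfl fun α _ => ?_
    rw [Finsupp.sum_single_index (by simp)]
    first
      | rw [TensorProduct.smul_tmul', smul_monomial, smul_eq_mul, mul_one]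
      | rw [TensorProduct.tmul_smul, TensorProduct.smul_tmul', smul_monomial, smul_eq_mul, mul_one]
  | add x y hx hy =>
    obtain ⟨f, rfl⟩ := hx
    obtain ⟨f', rfl⟩ := hy
    refine ⟨f + f', ?_⟩
    rw [key, key, key, Finsupp.sum_add_index' (by simp)
      (by intro α c c'; rw [TensorProduct.tmul_add])]

/-- ... and the coefficients are given by `tcoeff` -/
theorem exists_repr_tcoeff (g : MvPolynomial I A ⊗[A] N) :
    ∃ f : (I →₀ ℕ) →₀ N, (∀ α, f α = tcoeff α g) ∧
      g = ∑ α ∈ f.support, (monomial α (1 : A)) ⊗ₜ[A] f α := by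
  classical
  obtain ⟨f, hf⟩ := exists_repr g
  refine ⟨f, fun α => ?_, hf⟩
  rw [hf, map_sum]
  simp only [tcoeff_tmul, coeff_monomial]
  by_cases hα : α ∈ f.support
  · rw [Finset.sum_eq_single α]
    · rw [if_pos rfl, one_smul]
    · intro β _ hβ
      rw [if_neg hβ, zero_smul]
    · intro h; exact absurd hα h
  · rw [Finsupp.notMem_support_iff.mp hα]
    symm
    refine Finset.sum_eq_zero fun β hβ => ?_
    have : β ≠ α := fun h => hα (h ▸ hβ)
    rw [if_neg this, zero_smul]

end ext

section mon

variable {I : Type u}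

/-- the monomial `s^α` -/
noncomputable def mon {S : Type u} [CommSemiring S] (s : I → S) (α : I →₀ ℕ) : S :=
  α.prod fun i k => s i ^ k

theorem aeval_monomial_one {S : Type u} [CommSemiring S] [Algebra A S] (s : I → S)
    (α : I →₀ ℕ) : aeval s (monomial α (1 : A)) = mon s α := by
  rw [aeval_monomial, map_one, one_mul]
  rfl

theorem mon_X (α : I →₀ ℕ) : mon (X : I → MvPolynomial I A) α = monomial α (1 : A) := by
  unfold mon
  rw [monomial_eq, C_1, one_mul]

end mon

section el

variable {I : Type u} {M : Type u} [AddCommGroup M] [Module A M] (e : Module.Basis I A M)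

/-- the element with coordinates `s` on the finite set `J` -/
noncomputable def el (J : Finset I) {S : Type u} [CommSemiring S] [Algebra A S] (s : I → S) :
    S ⊗[A] M :=
  ∑ i ∈ J, s i ⊗ₜ[A] e i

theorem rTensor_el {S S' : Type u} [CommSemiring S] [Algebra A S] [CommSemiring S'] [Algebra A S']
    (φ : S →ₐ[A] S') (J : Finset I) (s : I → S) :
    φ.toLinearMap.rTensor M (el e J s) = el e J (fun i => φ (s i)) := by
  unfold el
  rw [map_sum]
  refine Finset.sum_congr rfl fun i _ => ?_
  rw [LinearMap.rTensor_tmul, AlgHom.toLinearMap_apply]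

theorem exists_el (S : Type u) [CommSemiring S] [Algebra A S] (z : S ⊗[A] M) :
    ∃ (J : Finset I) (s : I → S), z = el e J s := by
  classical
  refine ⟨((Algebra.TensorProduct.basis S e).repr z).support,
    fun i => (Algebra.TensorProduct.basis S e).repr z i, ?_⟩
  have h := (Algebra.TensorProduct.basis S e).linearCombination_repr z
  rw [Finsupp.linearCombination_apply, Finsupp.sum] at h
  conv_lhs => rw [← h]
  unfold el
  refine Finset.sum_congr rfl fun i _ => ?_
  rw [Algebra.TensorProduct.basis_apply, TensorProduct.smul_tmul', smul_eq_mul, mul_one]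

variable {N : Type u} [AddCommGroup N] [Module A N] (G : M →ₚₗ[A] N)

theorem law_el (J : Finset I) (S : Type u) [CommSemiring S] [Algebra A S] (s : I → S) :
    G.toFun' S (el e J s) = (aeval s : MvPolynomial I A →ₐ[A] S).toLinearMap.rTensor N
      (G.toFun' (MvPolynomial I A) (el e J (X : I → MvPolynomial I A))) := by
  rw [PolynomialLaw.isCompat_apply' (f := G), rTensor_el]
  congr 2
  funext i
  rw [aeval_X]

end el

section kill

variable {I : Type u} [DecidableEq I]

/-- kill the variables outside `K` -/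
noncomputable def kill (K : Finset I) : MvPolynomial I A →ₐ[A] MvPolynomial I A :=
  aeval (fun i => if i ∈ K then (X i : MvPolynomial I A) else 0)

theorem kill_monomial (K : Finset I) (β : I →₀ ℕ) (a : A) :
    kill K (monomial β a) = if β.support ⊆ K then monomial β a else 0 := by
  unfold kill
  rw [aeval_monomial]
  split_ifs with h
  · rw [monomial_eq, Finsupp.prod, Finsupp.prod]
    congr 1
    refine Finset.prod_congr rfl fun i hi => ?_
    rw [if_pos (h hi)]
  · obtain ⟨i, hi, hiK⟩ := Finset.not_subset.mp h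
    rw [Finsupp.prod, Finset.prod_eq_zero hi, mul_zero]
    rw [if_neg hiK, zero_pow (Finsupp.mem_support_iff.mp hi)]

theorem coeff_kill (K : Finset I) (α : I →₀ ℕ) (p : MvPolynomial I A) :
    coeff α (kill K p) = if α.support ⊆ K then coeff α p else 0 := by
  induction p using MvPolynomial.induction_on' with
  | monomial β a =>
    rw [kill_monomial]
    by_cases hβ : β = α
    · subst hβ
      split_ifs <;> simp
    · rw [coeff_monomial, if_neg hβ]
      split_ifs <;> simp [coeff_monomial, hβ]
  | add p q hp hq =>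
    rw [map_add, coeff_add, hp, hq, coeff_add]
    split_ifs <;> simp

variable {N : Type u} [AddCommGroup N] [Module A N]

theorem tcoeff_kill (K : Finset I) (α : I →₀ ℕ) (z : MvPolynomial I A ⊗[A] N) :
    tcoeff α ((kill K).toLinearMap.rTensor N z) = if α.support ⊆ K then tcoeff α z else 0 := by
  induction z using TensorProduct.induction_on with
  | zero => simp
  | tmul p n =>
    rw [LinearMap.rTensor_tmul, AlgHom.toLinearMap_apply, tcoeff_tmul, tcoeff_tmul, coeff_kill]
    split_ifs <;> simp
  | add x y hx hy =>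
    rw [map_add, map_add, hx, hy, map_add]
    split_ifs <;> simp

variable {M : Type u} [AddCommGroup M] [Module A M] (e : Module.Basis I A M)

theorem kill_el {J J' : Finset I} (h : J ⊆ J') :
    (kill J).toLinearMap.rTensor M (el e J' (X : I → MvPolynomial I A)) =
      el e J (X : I → MvPolynomial I A) := by
  rw [rTensor_el]
  unfold el kill
  simp only [aeval_X]
  rw [← Finset.sum_subset h]
  · refine Finset.sum_congr rfl fun i hi => ?_
    rw [if_pos hi]
  · intro i _ hi
    rw [if_neg hi, TensorProduct.zero_tmul]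

end kill

section homog

variable {I : Type u}

/-- scale all variables by `T` -/
noncomputable def scaleT : MvPolynomial I A →ₐ[A] Polynomial (MvPolynomial I A) :=
  aeval (fun i => (Polynomial.X : Polynomial (MvPolynomial I A)) * Polynomial.C (X i))

theorem scaleT_monomial (β : I →₀ ℕ) (a : A) :
    scaleT (monomial β a) = Polynomial.monomial β.degree (monomial β a) := by
  unfold scaleT
  rw [aeval_monomial, Finsupp.prod]
  simp only [mul_pow]
  rw [Finset.prod_mul_distrib, Finset.prod_pow_eq_pow_sum, ← Finsupp.degree_apply]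
  simp only [← map_pow]
  rw [← map_prod, ← Polynomial.C_mul_X_pow_eq_monomial, monomial_eq, Polynomial.C_mul,
    Polynomial.algebraMap_apply, MvPolynomial.algebraMap_eq, Finsupp.prod]
  ring

/-- the coefficient functional on `A[X_I][T]` -/
noncomputable def lco (k : ℕ) (α : I →₀ ℕ) : Polynomial (MvPolynomial I A) →ₗ[A] A :=
  (MvPolynomial.lcoeff A α) ∘ₗ ((Polynomial.lcoeff (MvPolynomial I A) k).restrictScalars A)

theorem lco_apply (k : ℕ) (α : I →₀ ℕ) (q : Polynomial (MvPolynomial I A)) :
    lco k α q = coeff α (q.coeff k) := rfl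

theorem lco_scaleT (k : ℕ) (α : I →₀ ℕ) (p : MvPolynomial I A) :
    lco k α (scaleT p) = if α.degree = k then coeff α p else 0 := by
  classical
  induction p using MvPolynomial.induction_on' with
  | monomial β a =>
    rw [scaleT_monomial, lco_apply, Polynomial.coeff_monomial]
    by_cases hβ : β = α
    · subst hβ
      split_ifs <;> simp
    · split_ifs <;> simp [coeff_monomial, hβ]
  | add p q hp hq =>
    rw [map_add, map_add, hp, hq, coeff_add]
    split_ifs <;> simp

theorem lco_monomial (k d : ℕ) (α : I →₀ ℕ) (p : MvPolynomial I A) :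
    lco k α (Polynomial.X ^ d * Polynomial.C p) = if d = k then coeff α p else 0 := by
  rw [mul_comm, Polynomial.C_mul_X_pow_eq_monomial, lco_apply, Polynomial.coeff_monomial]
  split_ifs <;> simp

variable {M : Type u} [AddCommGroup M] [Module A M] (e : Module.Basis I A M)
  {N : Type u} [AddCommGroup N] [Module A N] (G : M →ₚₗ[A] N)

theorem ext_lco_scaleT (k : ℕ) (α : I →₀ ℕ) (z : MvPolynomial I A ⊗[A] N) :
    ext (lco k α) ((scaleT (A := A) (I := I)).toLinearMap.rTensor N z) =
      if α.degree = k then tcoeff α z else 0 := by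
  induction z using TensorProduct.induction_on with
  | zero => simp
  | tmul p n =>
    rw [LinearMap.rTensor_tmul, AlgHom.toLinearMap_apply, ext_tmul, lco_scaleT, tcoeff_tmul]
    split_ifs <;> simp
  | add x y hx hy =>
    rw [map_add, map_add, hx, hy, map_add]
    split_ifs <;> simp

theorem ext_lco_smul (k d : ℕ) (α : I →₀ ℕ) (z : MvPolynomial I A ⊗[A] N) :
    ext (lco k α) ((Polynomial.X : Polynomial (MvPolynomial I A)) ^ d •
      (Polynomial.CAlgHom (R := A) (A := MvPolynomial I A)).toLinearMap.rTensor N z) =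
      if d = k then tcoeff α z else 0 := by
  induction z using TensorProduct.induction_on with
  | zero => simp
  | tmul p n =>
    rw [LinearMap.rTensor_tmul, AlgHom.toLinearMap_apply, TensorProduct.smul_tmul', ext_tmul,
      smul_eq_mul, tcoeff_tmul]
    have : (Polynomial.CAlgHom (R := A) (A := MvPolynomial I A)) p = Polynomial.C p := rfl
    rw [this, lco_monomial]
    split_ifs <;> simp
  | add x y hx hy =>
    rw [map_add, smul_add, map_add, hx, hy, map_add]
    split_ifs <;> simp

/-- the coefficients of a homogeneous law at a generic element vanish outside degree `d` -/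
theorem tcoeff_eq_zero_of_degree_ne {d : ℕ} (hG : PolLaw.IsHomog G d) (J : Finset I)
    (α : I →₀ ℕ) (hα : α.degree ≠ d) :
    tcoeff α (G.toFun' (MvPolynomial I A) (el e J (X : I → MvPolynomial I A))) = 0 := by
  obtain ⟨z, hz⟩ : ∃ z, z = G.toFun' (MvPolynomial I A) (el e J (X : I → MvPolynomial I A)) :=
    ⟨_, rfl⟩
  rw [← hz]
  have h1 : (scaleT (A := A) (I := I)).toLinearMap.rTensor N z =
      (Polynomial.X : Polynomial (MvPolynomial I A)) ^ d •
        (Polynomial.CAlgHom (R := A) (A := MvPolynomial I A)).toLinearMap.rTensor N z := by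
    rw [hz, PolynomialLaw.isCompat_apply' (f := G), PolynomialLaw.isCompat_apply' (f := G),
      ← hG, rTensor_el, rTensor_el]
    congr 1
    unfold el
    rw [Finset.smul_sum]
    refine Finset.sum_congr rfl fun i _ => ?_
    rw [TensorProduct.smul_tmul', smul_eq_mul]
    unfold scaleT
    beta_reduce
    rw [aeval_X]
    rfl
  have h2 := congrArg (ext (lco α.degree α) (N := N)) h1
  rw [ext_lco_scaleT, ext_lco_smul, if_pos rfl, if_neg (Ne.symm hα)] at h2
  exact h2

end homog

section gco

variable {I : Type u} {M : Type u} [AddCommGroup M] [Module A M] (e : Module.Basis I A M)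
  {N : Type u} [AddCommGroup N] [Module A N] (G : M →ₚₗ[A] N)

/-- the global coefficients of a law on a free module -/
noncomputable def gco (α : I →₀ ℕ) : N :=
  tcoeff α (G.toFun' (MvPolynomial I A) (el e α.support (X : I → MvPolynomial I A)))

variable [DecidableEq I]

theorem mem_finsuppAntidiag_iff (J : Finset I) (d : ℕ) (α : I →₀ ℕ) :
    α ∈ Finset.finsuppAntidiag J d ↔ α.degree = d ∧ α.support ⊆ J := by
  rw [Finset.mem_finsuppAntidiag']
  rfl

theorem tcoeff_generic {d : ℕ} (hG : PolLaw.IsHomog G d) (J : Finset I) (α : I →₀ ℕ) :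
    tcoeff α (G.toFun' (MvPolynomial I A) (el e J (X : I → MvPolynomial I A))) =
      if α ∈ Finset.finsuppAntidiag J d then gco e G α else 0 := by
  by_cases hsub : α.support ⊆ J
  · by_cases hdeg : α.degree = d
    · rw [if_pos ((mem_finsuppAntidiag_iff J d α).mpr ⟨hdeg, hsub⟩)]
      unfold gco
      rw [← kill_el e hsub, ← PolynomialLaw.isCompat_apply' (f := G), tcoeff_kill,
        if_pos (Finset.Subset.refl _)]
    · rw [if_neg (fun h => hdeg ((mem_finsuppAntidiag_iff J d α).mp h).1)]
      exact tcoeff_eq_zero_of_degree_ne e G hG J α hdeg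
  · rw [if_neg (fun h => hsub ((mem_finsuppAntidiag_iff J d α).mp h).2)]
    have h := tcoeff_kill (N := N) J α
      (G.toFun' (MvPolynomial I A) (el e J (X : I → MvPolynomial I A)))
    rw [PolynomialLaw.isCompat_apply' (f := G), kill_el e (Finset.Subset.refl J), if_neg hsub] at h
    exact h

theorem generic_eq {d : ℕ} (hG : PolLaw.IsHomog G d) (J : Finset I) :
    G.toFun' (MvPolynomial I A) (el e J (X : I → MvPolynomial I A)) =
      ∑ α ∈ Finset.finsuppAntidiag J d, (monomial α (1 : A)) ⊗ₜ[A] gco e G α := by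
  obtain ⟨f, hf1, hf2⟩ :=
    exists_repr_tcoeff (G.toFun' (MvPolynomial I A) (el e J (X : I → MvPolynomial I A)))
  refine hf2.trans ?_
  have hf : ∀ α, f α = if α ∈ Finset.finsuppAntidiag J d then gco e G α else 0 := by
    intro α
    rw [hf1, tcoeff_generic e G hG]
  have h1 : ∑ α ∈ f.support, (monomial α (1 : A)) ⊗ₜ[A] f α =
      ∑ α ∈ f.support ∪ Finset.finsuppAntidiag J d, (monomial α (1 : A)) ⊗ₜ[A] f α := by
    refine Finset.sum_subset Finset.subset_union_left fun α _ hα => ?_
    rw [Finsupp.notMem_support_iff.mp hα, TensorProduct.tmul_zero]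
  have h2 : ∑ α ∈ Finset.finsuppAntidiag J d, (monomial α (1 : A)) ⊗ₜ[A] gco e G α =
      ∑ α ∈ f.support ∪ Finset.finsuppAntidiag J d, (monomial α (1 : A)) ⊗ₜ[A] f α := by
    have h3 : ∑ α ∈ Finset.finsuppAntidiag J d, (monomial α (1 : A)) ⊗ₜ[A] gco e G α =
        ∑ α ∈ Finset.finsuppAntidiag J d, (monomial α (1 : A)) ⊗ₜ[A] f α := by
      refine Finset.sum_congr rfl fun α hα => ?_
      rw [hf, if_pos hα]
    rw [h3]
    refine Finset.sum_subset Finset.subset_union_right fun α _ hα => ?_
    rw [hf, if_neg hα, TensorProduct.tmul_zero]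
  rw [h1, h2]

/-- **the law in coordinates** -/
theorem law_el_eq {d : ℕ} (hG : PolLaw.IsHomog G d) (J : Finset I)
    (S : Type u) [CommSemiring S] [Algebra A S] (s : I → S) :
    G.toFun' S (el e J s) = ∑ α ∈ Finset.finsuppAntidiag J d, mon s α ⊗ₜ[A] gco e G α := by
  rw [law_el, generic_eq e G hG, map_sum]
  refine Finset.sum_congr rfl fun α _ => ?_
  rw [LinearMap.rTensor_tmul, AlgHom.toLinearMap_apply, aeval_monomial_one]

theorem gco_eq_zero_of_degree_ne {d : ℕ} (hG : PolLaw.IsHomog G d) (α : I →₀ ℕ)
    (hα : α.degree ≠ d) : gco e G α = 0 :=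
  tcoeff_eq_zero_of_degree_ne e G hG _ α hα

end gco

section mul

variable {I : Type u} {P : Type u} [CommRing P] [Algebra A P] (e : Module.Basis I A P)

theorem mon_C_X (β : I →₀ ℕ) :
    mon (fun i => (C (X i : MvPolynomial I A) : MvPolynomial I (MvPolynomial I A))) β =
      C (monomial β (1 : A)) := by
  unfold mon
  rw [monomial_eq, C_1, one_mul, Finsupp.prod, Finsupp.prod, map_prod]
  simp only [map_pow]

/-- the structure constants of the multiplication of global coefficients do not depend on the
multiplicative law -/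
theorem exists_structure_constants [DecidableEq I] (d : ℕ) (α₀ β₀ : I →₀ ℕ)
    (hα : α₀.degree = d) (hβ : β₀.degree = d) :
    ∃ (Γ : Finset (I →₀ ℕ)) (m : (I →₀ ℕ) → A),
      ∀ (N : Type u) [CommRing N] [Algebra A N] (G : PolLaw.MulLaw A P N d),
        gco e G.law α₀ * gco e G.law β₀ = ∑ γ ∈ Γ, m γ • gco e G.law γ := by
  let sX : I → MvPolynomial I (MvPolynomial I A) := fun i => X i
  let sY : I → MvPolynomial I (MvPolynomial I A) := fun i => C (X i)
  have hX : ∀ α : I →₀ ℕ, mon sX α = monomial α (1 : MvPolynomial I A) := fun α => mon_X α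
  have hY : ∀ β : I →₀ ℕ, mon sY β = C (monomial β (1 : A)) := fun β => mon_C_X β
  obtain ⟨J'', u, hu⟩ := exists_el e (MvPolynomial I (MvPolynomial I A))
    (el e α₀.support sX * el e β₀.support sY)
  let ℓ : MvPolynomial I (MvPolynomial I A) →ₗ[A] A :=
    (lcoeff A β₀) ∘ₗ ((lcoeff (MvPolynomial I A) α₀).restrictScalars A)
  have hℓ : ∀ α β : I →₀ ℕ, ℓ (mon sX α * mon sY β) =
      if α = α₀ then (if β = β₀ then 1 else 0) else 0 := by
    intro α β
    rw [hX, hY, mul_comm, C_mul_monomial, mul_one]
    simp only [ℓ, LinearMap.comp_apply, LinearMap.restrictScalars_apply, lcoeff_apply]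
    rw [coeff_monomial]
    by_cases h : α = α₀
    · rw [if_pos h, if_pos h, coeff_monomial]
    · rw [if_neg h, if_neg h, coeff_zero]
  refine ⟨Finset.finsuppAntidiag J'' d, fun γ => ℓ (mon u γ), ?_⟩
  intro N _ _ G
  have h1 := law_el_eq e G.law G.homog J'' _ u
  rw [← hu, (G.mult _).2, law_el_eq e G.law G.homog, law_el_eq e G.law G.homog,
    Finset.sum_mul_sum] at h1
  have h2 := congrArg (ext ℓ (N := N)) h1
  rw [map_sum, map_sum] at h2
  simp only [map_sum, Algebra.TensorProduct.tmul_mul_tmul, ext_tmul, hℓ] at h2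
  rw [← h2]
  have hα' : α₀ ∈ Finset.finsuppAntidiag α₀.support d :=
    (mem_finsuppAntidiag_iff _ _ _).mpr ⟨hα, Finset.Subset.refl _⟩
  have hβ' : β₀ ∈ Finset.finsuppAntidiag β₀.support d :=
    (mem_finsuppAntidiag_iff _ _ _).mpr ⟨hβ, Finset.Subset.refl _⟩
  rw [Finset.sum_eq_single α₀]
  · rw [Finset.sum_eq_single β₀]
    · simp
    · intro β _ hne; simp [hne]
    · intro h; exact absurd hβ' h
  · intro α _ hne; simp [hne]
  · intro h; exact absurd hα' h

end mul

end Groth.Agent.Lib.Helper15.LawFree
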