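import Mathlib
import Groth.Agent.Lib.Helper15.LawFree
import Groth.Agent.Lib.Helper15.Corestrict

/-!
# `Γ^d(B)` is spanned by the coefficients of its universal law (helper15)

Consequently two linear maps out of `Γ^d(B)` which agree after composition with the universal
law are equal.
-/

set_option autoImplicit false
universe u
open scoped TensorProduct
open MvPolynomial

namespace Groth.Agent.Lib.Helper15.GammaSpan

open Groth.Agent.Lib.Helper15.LawFree Groth.Agent.Lib.Helper15.Corestrict

open scoped Classical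

section free

variable {A : Type u} [CommRing A] {P : Type u} [CommRing P] [Algebra A P] {I : Type u}
  (e : Module.Basis I A P) {C : Type u} [CommRing C] [Algebra A C] {d : ℕ}
  (G : PolLaw.MulLaw A P C d)

/-- the span of the global coefficients -/
noncomputable def Cm : Submodule A C := Submodule.span A (Set.range (gco e G.law))

theorem gco_mem (α : I →₀ ℕ) : gco e G.law α ∈ Cm e G := Submodule.subset_span ⟨α, rfl⟩

theorem one_mem : (1 : C) ∈ Cm e G := by
  obtain ⟨J, s, hs⟩ := exists_el e A (1 : A ⊗[A] P)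
  have h1 := law_el_eq e G.law G.homog J A s
  rw [← hs, (G.mult A).1] at h1
  have h2 := congrArg (TensorProduct.lid A C) h1
  rw [Algebra.TensorProduct.one_def, TensorProduct.lid_tmul, one_smul, map_sum] at h2
  rw [h2]
  refine Submodule.sum_mem _ fun α _ => ?_
  rw [TensorProduct.lid_tmul]
  exact Submodule.smul_mem _ _ (gco_mem e G α)

theorem gco_mul_mem (α β : I →₀ ℕ) : gco e G.law α * gco e G.law β ∈ Cm e G := by
  by_cases hα : α.degree = d
  · by_cases hβ : β.degree = d
    · obtain ⟨Γ, m, h⟩ := exists_structure_constants e d α β hα hβ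
      rw [h C G]
      refine Submodule.sum_mem _ fun γ _ => ?_
      exact Submodule.smul_mem _ _ (gco_mem e G γ)
    · rw [gco_eq_zero_of_degree_ne e _ G.homog β hβ, mul_zero]
      exact Submodule.zero_mem _
  · rw [gco_eq_zero_of_degree_ne e _ G.homog α hα, zero_mul]
    exact Submodule.zero_mem _

theorem mul_mem (x y : C) (hx : x ∈ Cm e G) (hy : y ∈ Cm e G) : x * y ∈ Cm e G := by
  have h : Cm e G * Cm e G ≤ Cm e G := by
    unfold Cm
    rw [Submodule.span_mul_span, Submodule.span_le]
    rintro _ ⟨x, hx, y, hy, rfl⟩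
    obtain ⟨α, rfl⟩ := hx
    obtain ⟨β, rfl⟩ := hy
    exact gco_mul_mem e G α β
  exact h (Submodule.mul_mem_mul hx hy)

/-- the span of the coefficients as a subalgebra -/
noncomputable def Cs : Subalgebra A C :=
  Submodule.toSubalgebra (Cm e G) (one_mem e G) (mul_mem e G)

end free

section span

variable {A : Type u} [CommRing A] {B : Type u} [CommRing B] [Algebra A B]
  {C : Type u} [CommRing C] [Algebra A C] {d : ℕ} (γ : PolLaw.MulLaw A B C d)

/-- the free cover of `B` -/
noncomputable abbrev π : MvPolynomial B A →ₐ[A] B := MvPolynomial.aeval id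

theorem π_surjective : Function.Surjective (π (A := A) (B := B)) :=
  fun b => ⟨MvPolynomial.X b, by simp⟩

/-- the law on the free cover -/
noncomputable abbrev G₀ : PolLaw.MulLaw A (MvPolynomial B A) C d := γ.precomp π

theorem G₀_apply (S : Type u) [CommSemiring S] [Algebra A S] (x : S ⊗[A] MvPolynomial B A) :
    (G₀ γ).law.toFun' S x = γ.law.toFun' S ((π (A := A) (B := B)).toLinearMap.lTensor S x) := rfl

theorem H (σ : Type u) (z : MvPolynomial σ A ⊗[A] B) :
    γ.law.toFun' (MvPolynomial σ A) z ∈
      LinearMap.range (inc (Cs (MvPolynomial.basisMonomials B A) (G₀ γ)) (MvPolynomial σ A)) := by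
  obtain ⟨z', rfl⟩ := LinearMap.lTensor_surjective (MvPolynomial σ A)
    (g := (π (A := A) (B := B)).toLinearMap) π_surjective z
  obtain ⟨J, s, rfl⟩ := exists_el (MvPolynomial.basisMonomials B A) _ z'
  rw [← G₀_apply, law_el_eq (MvPolynomial.basisMonomials B A) (G₀ γ).law (G₀ γ).homog]
  refine ⟨∑ α ∈ Finset.finsuppAntidiag J d, mon s α ⊗ₜ[A]
    (⟨gco (MvPolynomial.basisMonomials B A) (G₀ γ).law α, gco_mem _ _ α⟩ :
      Cs (MvPolynomial.basisMonomials B A) (G₀ γ)), ?_⟩
  rw [map_sum]
  refine Finset.sum_congr rfl fun α _ => ?_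
  unfold inc
  rw [LinearMap.lTensor_tmul]
  rfl

theorem Cm_eq_top (hγ : PolLaw.IsGammaD γ) :
    Cm (MvPolynomial.basisMonomials B A) (G₀ γ) = ⊤ := by
  have h1 := eq_top_of_isGammaD γ _ (H γ) hγ
  rw [eq_top_iff]
  intro c _
  have h2 : c ∈ Cs (MvPolynomial.basisMonomials B A) (G₀ γ) := by
    rw [h1]
    trivial
  exact h2

theorem ext_lTensor {N N' : Type u} [AddCommGroup N] [Module A N] [AddCommGroup N'] [Module A N']
    {S : Type u} [CommSemiring S] [Algebra A S] (ℓ : S →ₗ[A] A) (g : N →ₗ[A] N') (w : S ⊗[A] N) :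
    ext ℓ (g.lTensor S w) = g (ext ℓ w) := by
  induction w using TensorProduct.induction_on with
  | zero => simp
  | tmul s n => rw [LinearMap.lTensor_tmul, ext_tmul, ext_tmul, map_smul]
  | add x y hx hy => rw [map_add, map_add, map_add, map_add, hx, hy]

/-- linear maps out of `Γ^d(B)` are determined by their composition with the universal law -/
theorem lin_ext (hγ : PolLaw.IsGammaD γ) {N' : Type u} [AddCommGroup N'] [Module A N']
    (g g' : C →ₗ[A] N')
    (h : ∀ (S : Type u) [CommRing S] [Algebra A S] (z : S ⊗[A] B),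
      g.lTensor S (γ.law.toFun' S z) = g'.lTensor S (γ.law.toFun' S z)) : g = g' := by
  apply LinearMap.ext_on_range (v := gco (MvPolynomial.basisMonomials B A) (G₀ γ).law)
  · exact Cm_eq_top γ hγ
  · intro α
    unfold gco tcoeff
    rw [← ext_lTensor, ← ext_lTensor, G₀_apply, h]

end span

end Groth.Agent.Lib.Helper15.GammaSpan
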