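import Mathlib

/-!
# Coefficient identities on polynomial rings used for polarization (helper15)
-/

set_option autoImplicit false
universe u
open MvPolynomial

namespace Groth.Agent.Lib.Helper15.PolarFun

variable {R : Type u} [CommRing R] {ι : Type} [Fintype ι] [DecidableEq ι]

/-- the exponent vector `(1, …, 1)` -/
noncomputable def one (ι : Type) [Fintype ι] : ι →₀ ℕ := Finsupp.equivFunOnFinite.symm (fun _ => 1)

omit [DecidableEq ι] in
@[simp] theorem one_apply (i : ι) : one ι i = 1 := rfl

/-- substitution 1: `T_none ↦ T_{i₀}` -/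
noncomputable def th1 (i₀ : ι) : Option ι → MvPolynomial ι R := fun o => o.elim (X i₀) X
/-- substitution 2: `T_none ↦ 0` -/
noncomputable def th2 : Option ι → MvPolynomial ι R := fun o => o.elim 0 X
/-- substitution 3: `T_none ↦ T_{i₀}`, `T_{i₀} ↦ 0` -/
noncomputable def th3 (i₀ : ι) : Option ι → MvPolynomial ι R :=
  fun o => o.elim (X i₀) (fun i => if i = i₀ then 0 else X i)

omit [Fintype ι] [DecidableEq ι] in
theorem prod_X_pow (m : ι →₀ ℕ) :
    (m.prod fun i k => (X i : MvPolynomial ι R) ^ k) = monomial m 1 := by
  rw [monomial_eq, C_1, one_mul]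

omit [Fintype ι] in
theorem aeval_th1_monomial (i₀ : ι) (m : Option ι →₀ ℕ) (r : R) :
    aeval (th1 (R := R) i₀) (monomial m r) = monomial (m.some + Finsupp.single i₀ (m none)) r := by
  rw [aeval_monomial, Finsupp.prod_option_index _ _ (fun _ => pow_zero _) (fun _ _ _ => pow_add _ _ _)]
  simp only [th1, Option.elim]
  rw [prod_X_pow, X_pow_eq_monomial, monomial_mul, one_mul, algebraMap_eq, C_mul_monomial, mul_one,
    add_comm]

omit [Fintype ι] [DecidableEq ι] in
theorem aeval_th2_monomial (m : Option ι →₀ ℕ) (r : R) :
    aeval (th2 (R := R) (ι := ι)) (monomial m r) = if m none = 0 then monomial m.some r else 0 := by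
  rw [aeval_monomial, Finsupp.prod_option_index _ _ (fun _ => pow_zero _) (fun _ _ _ => pow_add _ _ _)]
  simp only [th2, Option.elim]
  rw [prod_X_pow]
  by_cases h : m none = 0
  · rw [if_pos h, h, pow_zero, one_mul, algebraMap_eq, C_mul_monomial, mul_one]
  · rw [if_neg h, zero_pow h, zero_mul, mul_zero]

omit [Fintype ι] in
theorem aeval_th3_monomial (i₀ : ι) (m : Option ι →₀ ℕ) (r : R) :
    aeval (th3 (R := R) i₀) (monomial m r) =
      if m.some i₀ = 0 then monomial (m.some + Finsupp.single i₀ (m none)) r else 0 := by
  rw [aeval_monomial, Finsupp.prod_option_index _ _ (fun _ => pow_zero _) (fun _ _ _ => pow_add _ _ _)]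
  simp only [th3, Option.elim]
  by_cases h : m.some i₀ = 0
  · rw [if_pos h]
    have h1 : (m.some.prod fun i k => (if i = i₀ then (0 : MvPolynomial ι R) else X i) ^ k) =
        m.some.prod fun i k => (X i : MvPolynomial ι R) ^ k := by
      apply Finset.prod_congr rfl
      intro i hi
      have hne : i ≠ i₀ := by
        rintro rfl
        exact (Finsupp.mem_support_iff.mp hi) h
      beta_reduce
      rw [if_neg hne]
    rw [h1, prod_X_pow, X_pow_eq_monomial, monomial_mul, one_mul, algebraMap_eq, C_mul_monomial,
      mul_one, add_comm]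
  · rw [if_neg h]
    have h1 : (m.some.prod fun i k => (if i = i₀ then (0 : MvPolynomial ι R) else X i) ^ k) = 0 := by
      apply Finset.prod_eq_zero (Finsupp.mem_support_iff.mpr h)
      beta_reduce
      rw [if_pos rfl, zero_pow h]
    rw [h1, mul_zero, mul_zero]

/-- additivity identity -/
theorem coeff_one_add (i₀ : ι) (p : MvPolynomial (Option ι) R) :
    coeff (one ι) (aeval (th1 (R := R) i₀) p) =
      coeff (one ι) (aeval (th2 (R := R)) p) + coeff (one ι) (aeval (th3 (R := R) i₀) p) := by
  induction p using MvPolynomial.induction_on' with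
  | add p q hp hq => rw [map_add, map_add, map_add, coeff_add, coeff_add, coeff_add, hp, hq]; ring
  | monomial m r =>
    rw [aeval_th1_monomial, aeval_th2_monomial, aeval_th3_monomial]
    by_cases h0 : m none = 0
    · rw [if_pos h0, h0, Finsupp.single_zero, add_zero]
      by_cases h1 : m.some i₀ = 0
      · have hne : m.some ≠ one ι := by
          intro h
          have := congrArg (fun f : ι →₀ ℕ => f i₀) h
          simp only [one_apply] at this
          omega
        rw [if_pos h1, coeff_monomial, if_neg hne, add_zero]
      · rw [if_neg h1, coeff_zero, add_zero]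
    · rw [if_neg h0, coeff_zero, zero_add]
      by_cases h1 : m.some i₀ = 0
      · rw [if_pos h1]
      · rw [if_neg h1, coeff_zero, coeff_monomial, if_neg]
        intro h
        have := congrArg (fun f : ι →₀ ℕ => f i₀) h
        simp only [one_apply, Finsupp.add_apply, Finsupp.single_eq_same] at this
        omega

/-- homogeneity identity -/
theorem coeff_one_smul (i₀ : ι) (r : R) (p : MvPolynomial ι R) :
    coeff (one ι) (aeval (fun i => if i = i₀ then C r * X i else (X i : MvPolynomial ι R)) p) =
      r * coeff (one ι) p := by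
  induction p using MvPolynomial.induction_on' with
  | add p q hp hq => rw [map_add, coeff_add, coeff_add, hp, hq, mul_add]
  | monomial m a =>
    rw [aeval_monomial]
    have h1 : (m.prod fun i k => (if i = i₀ then C r * X i else (X i : MvPolynomial ι R)) ^ k) =
        C (r ^ (m i₀)) * monomial m 1 := by
      rw [← prod_X_pow, Finsupp.prod, Finsupp.prod]
      by_cases hi : i₀ ∈ m.support
      · rw [← Finset.mul_prod_erase _ _ hi, ← Finset.mul_prod_erase _ _ hi, if_pos rfl, mul_pow,
          ← C_pow, mul_assoc]
        congr 2
        apply Finset.prod_congr rfl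
        intro i hi'
        rw [if_neg (Finset.ne_of_mem_erase hi')]
      · rw [Finsupp.notMem_support_iff.mp hi, pow_zero, C_1, one_mul]
        apply Finset.prod_congr rfl
        intro i hi'
        have : i ≠ i₀ := by
          rintro rfl
          exact hi hi'
        rw [if_neg this]
    rw [h1, algebraMap_eq, ← mul_assoc, ← C_mul, C_mul_monomial, mul_one, coeff_monomial,
      coeff_monomial]
    by_cases hm : m = one ι
    · rw [if_pos hm, if_pos hm, hm, one_apply, pow_one, mul_comm]
    · rw [if_neg hm, if_neg hm, mul_zero]

omit [DecidableEq ι] in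
theorem prod_X_comp (c : ι → ι) :
    ∏ k, (X (c k) : MvPolynomial ι R) = monomial (∑ k, Finsupp.single (c k) 1) 1 := by
  rw [monomial_sum_one]
  rfl

omit [DecidableEq ι] in
theorem sum_single_eq_one_iff (c : ι → ι) :
    (∑ k, Finsupp.single (c k) 1 : ι →₀ ℕ) = one ι ↔ Function.Bijective c := by
  classical
  constructor
  · intro h
    have hsurj : Function.Surjective c := by
      intro j
      by_contra hcon
      push Not at hcon
      have h1 := congrArg (fun f : ι →₀ ℕ => f j) h
      simp only [Finsupp.finset_sum_apply, one_apply] at h1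
      rw [Finset.sum_eq_zero] at h1
      · omega
      · intro k _
        rw [Finsupp.single_apply, if_neg (hcon k)]
    exact ⟨Finite.injective_iff_surjective.mpr hsurj, hsurj⟩
  · intro h
    rw [Function.Bijective.sum_comp h (fun j => (Finsupp.single j 1 : ι →₀ ℕ))]
    ext j
    simp only [Finsupp.finset_sum_apply, one_apply]
    rw [Finset.sum_eq_single j]
    · rw [Finsupp.single_eq_same]
    · intro k _ hk
      rw [Finsupp.single_apply, if_neg hk]
    · intro hj
      exact absurd (Finset.mem_univ j) hj

omit [DecidableEq ι] in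
theorem coeff_one_prod_X (c : ι → ι) [Decidable (Function.Bijective c)] :
    coeff (one ι) (∏ k, (X (c k) : MvPolynomial ι R)) = if Function.Bijective c then 1 else 0 := by
  classical
  rw [prod_X_comp, coeff_monomial]
  by_cases h : Function.Bijective c
  · rw [if_pos h, if_pos ((sum_single_eq_one_iff c).mpr h)]
  · rw [if_neg h, if_neg (fun h' => h ((sum_single_eq_one_iff c).mp h'))]

/-- permutations as bijective self-maps -/
noncomputable def permEquiv (ι : Type) : Equiv.Perm ι ≃ {c : ι → ι // Function.Bijective c} where
  toFun σ := ⟨σ, σ.bijective⟩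
  invFun c := Equiv.ofBijective c.1 c.2
  left_inv σ := by ext; rfl
  right_inv c := by ext; rfl

omit [DecidableEq ι] in
theorem coeff_one_sum_pow :
    coeff (one ι) ((∑ i, (X i : MvPolynomial ι R)) ^ Fintype.card ι) =
      ((Fintype.card ι).factorial : R) := by
  classical
  have h1 : (∑ i, (X i : MvPolynomial ι R)) ^ Fintype.card ι =
      ∏ _k : ι, ∑ i, (X i : MvPolynomial ι R) := by
    rw [Finset.prod_const, Finset.card_univ]
  rw [h1, Finset.prod_univ_sum, coeff_sum]
  simp only [Fintype.piFinset_univ]
  rw [Finset.sum_congr rfl (fun c _ => coeff_one_prod_X (R := R) c), Finset.sum_boole,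
    ← Fintype.card_perm, Fintype.card_congr (permEquiv ι), Fintype.card_subtype]

end Groth.Agent.Lib.Helper15.PolarFun
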