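import Mathlib
import Groth.Agent.Lib.Helper15.PolarFun
import Groth.Agent.Lib.Helper15.PolLawGeneric

/-!
# Full polarization of a polynomial law (helper15)

For a polynomial law `G : M → N` over `A`, a test ring `S` and a family `z : ι → S ⊗ M`, the
polarization `Pol G S z` is the coefficient of `∏ T_i` in `G_{S[T]}(∑ T_i z_i)`.  It is
`S`-multilinear in `z`, natural in `S`, and on the diagonal it is `d! • G_S z` when `G` is
homogeneous of degree `d = card ι`.
-/

set_option autoImplicit false
universe u
open scoped TensorProduct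
open MvPolynomial

namespace Groth.Agent.Lib.Helper15.PolarLaw

open Groth.Agent.Lib.Helper15.PolarFun Groth.Agent.Lib.Helper15.PolLawGeneric

variable {A : Type u} [CommRing A] {M : Type u} [AddCommGroup M] [Module A M]
  {N : Type u} [AddCommGroup N] [Module A N] (G : M →ₚₗ[A] N)
  (S : Type u) [CommRing S] [Algebra A S]

section defs

variable (ι : Type) [Fintype ι]

/-- the constants map `S → S[T]` as an `A`-algebra map -/
noncomputable def cst : S →ₐ[A] MvPolynomial ι S := IsScalarTower.toAlgHom A S (MvPolynomial ι S)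

omit [Fintype ι] in
theorem cst_apply (s : S) : cst (A := A) S ι s = C s := rfl

variable (M) in
/-- base change `S ⊗ M → S[T] ⊗ M` -/
noncomputable def bc : S ⊗[A] M →ₗ[A] MvPolynomial ι S ⊗[A] M :=
  (cst (A := A) S ι).toLinearMap.rTensor M

omit [Fintype ι] in
theorem bc_smul (s : S) (z : S ⊗[A] M) : bc M S ι (s • z) = (C s : MvPolynomial ι S) • bc M S ι z := by
  unfold bc
  rw [rTensor_smul, cst_apply]

variable {ι}

/-- the generic point `∑ T_i • z_i` -/
noncomputable def pt (z : ι → S ⊗[A] M) : MvPolynomial ι S ⊗[A] M :=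
  ∑ i, (X i : MvPolynomial ι S) • bc M S ι (z i)

variable (N) in
/-- coefficient extraction `S[T] ⊗ N → S ⊗ N` along an `S`-linear form -/
noncomputable def cfL (ℓ : MvPolynomial ι S →ₗ[S] S) : MvPolynomial ι S ⊗[A] N →ₗ[A] S ⊗[A] N :=
  (ℓ.restrictScalars A).rTensor N

omit [Fintype ι] in
theorem cfL_tmul (ℓ : MvPolynomial ι S →ₗ[S] S) (p : MvPolynomial ι S) (n : N) :
    cfL N S ℓ (p ⊗ₜ[A] n) = ℓ p ⊗ₜ[A] n := rfl

omit [Fintype ι] in
theorem cfL_add (ℓ ℓ' : MvPolynomial ι S →ₗ[S] S) (w : MvPolynomial ι S ⊗[A] N) :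
    cfL N S (ℓ + ℓ') w = cfL N S ℓ w + cfL N S ℓ' w := by
  induction w using TensorProduct.induction_on with
  | zero => simp
  | tmul p n => rw [cfL_tmul, cfL_tmul, cfL_tmul, LinearMap.add_apply, TensorProduct.add_tmul]
  | add x y hx hy => rw [map_add, map_add, map_add, hx, hy]; abel

omit [Fintype ι] in
theorem cfL_smul (s : S) (ℓ : MvPolynomial ι S →ₗ[S] S) (w : MvPolynomial ι S ⊗[A] N) :
    cfL N S (s • ℓ) w = s • cfL N S ℓ w := by
  induction w using TensorProduct.induction_on with
  | zero => simp
  | tmul p n =>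
    rw [cfL_tmul, cfL_tmul, LinearMap.smul_apply, TensorProduct.smul_tmul']
  | add x y hx hy => rw [map_add, map_add, hx, hy, smul_add]

/-- the polarization of `G` at the family `z` -/
noncomputable def Pol (z : ι → S ⊗[A] M) : S ⊗[A] N :=
  cfL N S (lcoeff S (one ι)) (G.toFun' (MvPolynomial ι S) (pt S z))

end defs

section subst

variable {ι κ : Type} [Fintype ι] [Fintype κ]

omit [Fintype ι] [Fintype κ] in
theorem aeval_rTensor_bc (f : κ → MvPolynomial ι S) (z : S ⊗[A] M) :
    ((aeval f : MvPolynomial κ S →ₐ[S] MvPolynomial ι S).restrictScalars A).toLinearMap.rTensor M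
      (bc M S κ z) = bc M S ι z := by
  unfold bc
  rw [← LinearMap.comp_apply, ← LinearMap.rTensor_comp]
  congr 2
  apply LinearMap.ext
  intro s
  show aeval f (C s) = C s
  rw [← algebraMap_eq, AlgHom.commutes, algebraMap_eq]

omit [Fintype ι] in
/-- substitution: if `∑ f k • w k = pt z` then `G (pt z)` is the image of `G (pt w)` -/
theorem law_pt_subst (f : κ → MvPolynomial ι S) (w : κ → S ⊗[A] M) :
    G.toFun' (MvPolynomial ι S) (∑ k, f k • bc M S ι (w k)) =
      ((aeval f : MvPolynomial κ S →ₐ[S] MvPolynomial ι S).restrictScalars A).toLinearMap.rTensor N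
        (G.toFun' (MvPolynomial κ S) (pt S w)) := by
  rw [PolynomialLaw.isCompat_apply' (f := G)]
  congr 1
  unfold pt
  rw [map_sum]
  refine Finset.sum_congr rfl fun k _ => ?_
  rw [rTensor_smul, aeval_rTensor_bc]
  congr 1
  show f k = aeval f (X k)
  rw [aeval_X]

omit [Fintype ι] [Fintype κ] in
theorem cfL_rTensor (ℓ : MvPolynomial ι S →ₗ[S] S) (θ : MvPolynomial κ S →ₐ[S] MvPolynomial ι S)
    (w : MvPolynomial κ S ⊗[A] N) :
    cfL N S ℓ ((θ.restrictScalars A).toLinearMap.rTensor N w) =
      cfL N S (ℓ ∘ₗ θ.toLinearMap) w := by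
  induction w using TensorProduct.induction_on with
  | zero => simp
  | tmul p n => rfl
  | add x y hx hy => rw [map_add, map_add, map_add, hx, hy]

end subst

section multilinear

variable {ι : Type} [Fintype ι]

theorem Pol_eq_of_subst {κ : Type} [Fintype κ] (f : κ → MvPolynomial ι S) (w : κ → S ⊗[A] M)
    (z : ι → S ⊗[A] M) (h : ∑ k, f k • bc M S ι (w k) = pt S z) :
    Pol G S z = cfL N S ((lcoeff S (one ι)) ∘ₗ (aeval f).toLinearMap)
      (G.toFun' (MvPolynomial κ S) (pt S w)) := by
  unfold Pol
  rw [← h, law_pt_subst, cfL_rTensor]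

variable [DecidableEq ι]

theorem sum_ite_smul (i₀ : ι) (u' : S ⊗[A] M) :
    ∑ i, (X i : MvPolynomial ι S) • bc M S ι (if i = i₀ then u' else 0) =
      (X i₀ : MvPolynomial ι S) • bc M S ι u' := by
  rw [Finset.sum_eq_single i₀]
  · rw [if_pos rfl]
  · intro i _ hi
    rw [if_neg hi, map_zero, smul_zero]
  · intro h
    exact absurd (Finset.mem_univ i₀) h

theorem Pol_update_add (z : ι → S ⊗[A] M) (i₀ : ι) (u u' : S ⊗[A] M) :
    Pol G S (Function.update z i₀ (u + u')) =
      Pol G S (Function.update z i₀ u) + Pol G S (Function.update z i₀ u') := by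
  let w : Option ι → S ⊗[A] M := fun o => o.elim u' (Function.update z i₀ u)
  have e1 : ∑ o, th1 (R := S) i₀ o • bc M S ι (w o) = pt S (Function.update z i₀ (u + u')) := by
    rw [Fintype.sum_option]
    simp only [th1, w, Option.elim]
    unfold pt
    have h : ∀ i, Function.update z i₀ (u + u') i =
        Function.update z i₀ u i + (if i = i₀ then u' else 0) := by
      intro i
      by_cases hi : i = i₀
      · subst hi
        rw [Function.update_self, Function.update_self, if_pos rfl]
      · rw [Function.update_of_ne hi, Function.update_of_ne hi, if_neg hi, add_zero]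
    simp_rw [h, map_add, smul_add]
    rw [Finset.sum_add_distrib, sum_ite_smul, add_comm]
  have e2 : ∑ o, th2 (R := S) o • bc M S ι (w o) = pt S (Function.update z i₀ u) := by
    rw [Fintype.sum_option]
    simp only [th2, w, Option.elim]
    rw [zero_smul, zero_add]
    rfl
  have e3 : ∑ o, th3 (R := S) i₀ o • bc M S ι (w o) = pt S (Function.update z i₀ u') := by
    rw [Fintype.sum_option]
    simp only [th3, w, Option.elim]
    unfold pt
    rw [← sum_ite_smul S i₀ u', ← Finset.sum_add_distrib]
    refine Finset.sum_congr rfl fun i _ => ?_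
    by_cases hi : i = i₀
    · subst hi
      rw [if_pos rfl, if_pos rfl, zero_smul, add_zero, Function.update_self]
    · rw [if_neg hi, if_neg hi, map_zero, smul_zero, zero_add, Function.update_of_ne hi,
        Function.update_of_ne hi]
  have hfun : (lcoeff S (one ι)) ∘ₗ (aeval (th1 (R := S) i₀)).toLinearMap =
      (lcoeff S (one ι)) ∘ₗ (aeval (th2 (R := S) (ι := ι))).toLinearMap +
        (lcoeff S (one ι)) ∘ₗ (aeval (th3 (R := S) i₀)).toLinearMap := by
    apply LinearMap.ext
    intro p
    exact coeff_one_add i₀ p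
  rw [Pol_eq_of_subst G S _ w _ e1, Pol_eq_of_subst G S _ w _ e2, Pol_eq_of_subst G S _ w _ e3,
    ← cfL_add, hfun]

theorem Pol_update_smul (z : ι → S ⊗[A] M) (i₀ : ι) (s : S) (u : S ⊗[A] M) :
    Pol G S (Function.update z i₀ (s • u)) = s • Pol G S (Function.update z i₀ u) := by
  have e : ∑ i, (if i = i₀ then C s * X i else (X i : MvPolynomial ι S)) •
      bc M S ι (Function.update z i₀ u i) = pt S (Function.update z i₀ (s • u)) := by
    unfold pt
    refine Finset.sum_congr rfl fun i _ => ?_
    by_cases hi : i = i₀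
    · subst hi
      rw [if_pos rfl, Function.update_self, Function.update_self, bc_smul, smul_smul, mul_comm]
    · rw [if_neg hi, Function.update_of_ne hi, Function.update_of_ne hi]
  have hfun : (lcoeff S (one ι)) ∘ₗ
      (aeval (fun i => if i = i₀ then C s * X i else (X i : MvPolynomial ι S))).toLinearMap =
      s • lcoeff S (one ι) := by
    apply LinearMap.ext
    intro p
    exact coeff_one_smul i₀ s p
  rw [Pol_eq_of_subst G S _ _ _ e, hfun, cfL_smul]
  rfl

end multilinear

section mmap

variable {ι : Type} [Fintype ι]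

/-- the polarization as a multilinear map -/
noncomputable def PolM : MultilinearMap S (fun _ : ι => S ⊗[A] M) (S ⊗[A] N) where
  toFun := Pol G S
  map_update_add' := by
    intro inst z i₀ u u'
    exact Pol_update_add G S z i₀ u u'
  map_update_smul' := by
    intro inst z i₀ s u
    exact Pol_update_smul G S z i₀ s u

theorem PolM_apply (z : ι → S ⊗[A] M) : PolM G S z = Pol G S z := rfl

end mmap

section nat

variable {ι : Type} [Fintype ι] {S} {S' : Type u} [CommRing S'] [Algebra A S'] (φ : S →ₐ[A] S')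

omit [Fintype ι] in
theorem mapAlgHom_rTensor_bc (z : S ⊗[A] M) :
    (MvPolynomial.mapAlgHom (σ := ι) φ).toLinearMap.rTensor M (bc M S ι z) =
      bc M S' ι (φ.toLinearMap.rTensor M z) := by
  unfold bc
  rw [← LinearMap.comp_apply, ← LinearMap.rTensor_comp, ← LinearMap.comp_apply,
    ← LinearMap.rTensor_comp]
  congr 2
  apply LinearMap.ext
  intro s
  show MvPolynomial.map (φ : S →+* S') (C s) = C (φ s)
  rw [MvPolynomial.map_C]
  rfl

theorem mapAlgHom_rTensor_pt (z : ι → S ⊗[A] M) :
    (MvPolynomial.mapAlgHom (σ := ι) φ).toLinearMap.rTensor M (pt S z) =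
      pt S' (fun i => φ.toLinearMap.rTensor M (z i)) := by
  unfold pt
  rw [map_sum]
  refine Finset.sum_congr rfl fun i _ => ?_
  rw [rTensor_smul, mapAlgHom_rTensor_bc]
  congr 1
  show MvPolynomial.map (φ : S →+* S') (X i) = X i
  rw [MvPolynomial.map_X]

omit [Fintype ι] in
theorem cfL_mapAlgHom (m : ι →₀ ℕ) (w : MvPolynomial ι S ⊗[A] N) :
    cfL N S' (lcoeff S' m) ((MvPolynomial.mapAlgHom (σ := ι) φ).toLinearMap.rTensor N w) =
      φ.toLinearMap.rTensor N (cfL N S (lcoeff S m) w) := by
  induction w using TensorProduct.induction_on with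
  | zero => simp
  | tmul p n =>
    rw [LinearMap.rTensor_tmul, cfL_tmul, cfL_tmul, LinearMap.rTensor_tmul]
    congr 1
  | add x y hx hy => rw [map_add, map_add, map_add, map_add, hx, hy]

/-- naturality of the polarization in the test ring -/
theorem Pol_nat (z : ι → S ⊗[A] M) :
    φ.toLinearMap.rTensor N (Pol G S z) = Pol G S' (fun i => φ.toLinearMap.rTensor M (z i)) := by
  unfold Pol
  rw [← cfL_mapAlgHom, PolynomialLaw.isCompat_apply' (f := G), mapAlgHom_rTensor_pt]

end nat

section euler

variable {ι : Type} [Fintype ι]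

omit [Fintype ι] in
theorem cfL_smul_bc (m : ι →₀ ℕ) (p : MvPolynomial ι S) (w : S ⊗[A] N) :
    cfL N S (lcoeff S m) (p • bc N S ι w) = coeff m p • w := by
  induction w using TensorProduct.induction_on with
  | zero => simp
  | tmul s n =>
    unfold bc
    rw [LinearMap.rTensor_tmul, TensorProduct.smul_tmul', cfL_tmul, TensorProduct.smul_tmul']
    congr 1
    show coeff m (p * C s) = coeff m p * s
    rw [mul_comm, MvPolynomial.coeff_C_mul, mul_comm]
  | add x y hx hy => rw [map_add, smul_add, map_add, hx, hy, smul_add]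

/-- **Euler's identity**: the polarization on the diagonal -/
theorem Pol_diag
    (hG : ∀ (S : Type u) [CommRing S] [Algebra A S] (s : S) (z : S ⊗[A] M),
      G.toFun' S (s • z) = s ^ Fintype.card ι • G.toFun' S z)
    (z : S ⊗[A] M) :
    Pol G S (fun _ : ι => z) = ((Fintype.card ι).factorial : S) • G.toFun' S z := by
  unfold Pol
  have h1 : pt S (fun _ : ι => z) = (∑ i, (X i : MvPolynomial ι S)) • bc M S ι z := by
    unfold pt
    rw [Finset.sum_smul]
  have h2 : G.toFun' (MvPolynomial ι S) (bc M S ι z) = bc N S ι (G.toFun' S z) := by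
    unfold bc
    exact (PolynomialLaw.isCompat_apply' (f := G) (cst (A := A) S ι) z).symm
  rw [h1, hG, h2, cfL_smul_bc, coeff_one_sum_pow]

end euler

end Groth.Agent.Lib.Helper15.PolarLaw
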