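import Mathlib
import Groth.Agent.Lib.Helper15.PolarLaw
import Groth.Agent.Lib.Helper15.GammaSpan

/-!
# The polarization map `T^d(B) → Γ^d(B)` (helper15)
-/

set_option autoImplicit false
universe u
open scoped TensorProduct
open MvPolynomial

namespace Groth.Agent.Lib.Helper15.GammaTS

open Groth.Agent.Lib.Helper15.PolarLaw Groth.Agent.Lib.Helper15.PolarFun

variable {A : Type u} [CommRing A] {B : Type u} [CommRing B] [Algebra A B]
  {C : Type u} [CommRing C] [Algebra A C] {d : ℕ} (γ : PolLaw.MulLaw A B C d)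

/-- every element of `S ⊗ B` is a finite sum of pure tensors indexed by `Fin n` -/
theorem exists_fin_repr (S : Type u) [CommSemiring S] [Algebra A S] (z : S ⊗[A] B) :
    ∃ (n : ℕ) (s : Fin n → S) (b : Fin n → B), z = ∑ j, s j ⊗ₜ[A] b j := by
  obtain ⟨T, hT⟩ := TensorProduct.exists_finset z
  refine ⟨T.card, fun j => (T.equivFin.symm j).1.1, fun j => (T.equivFin.symm j).1.2, ?_⟩
  rw [hT, ← Finset.sum_coe_sort]
  exact (Fintype.sum_equiv T.equivFin.symm _ _ (fun j => rfl)).symm

/-- the polarization of `γ` as a multilinear map `B^d → C` -/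
noncomputable def polA : MultilinearMap A (fun _ : Fin d => B) C :=
  (TensorProduct.lid A C).toLinearMap.compMultilinearMap
    ((PolM γ.law A (ι := Fin d)).compLinearMap (fun _ => TensorProduct.mk A A B 1))

theorem polA_apply (b : Fin d → B) :
    polA γ b = TensorProduct.lid A C (Pol γ.law A (fun i => (1 : A) ⊗ₜ[A] b i)) := rfl

/-- the polarization map -/
noncomputable def rho : (⨂[A] _ : Fin d, B) →ₗ[A] C := PiTensorProduct.lift (polA γ)

theorem rho_tprod (b : Fin d → B) : rho γ (PiTensorProduct.tprod A b) = polA γ b :=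
  PiTensorProduct.lift.tprod _

theorem rTensor_ofId (S : Type u) [CommRing S] [Algebra A S] (w : A ⊗[A] C) :
    (Algebra.ofId A S).toLinearMap.rTensor C w = (1 : S) ⊗ₜ[A] TensorProduct.lid A C w := by
  induction w using TensorProduct.induction_on with
  | zero => simp
  | tmul a c =>
    rw [LinearMap.rTensor_tmul, TensorProduct.lid_tmul, TensorProduct.tmul_smul,
      TensorProduct.smul_tmul']
    congr 1
    show algebraMap A S a = a • (1 : S)
    rw [Algebra.algebraMap_eq_smul_one]
  | add x y hx hy => rw [map_add, map_add, hx, hy, TensorProduct.tmul_add]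

/-- the polarization over `S` at constant vectors -/
theorem Pol_one_tmul (S : Type u) [CommRing S] [Algebra A S] (b : Fin d → B) :
    Pol γ.law S (fun i => (1 : S) ⊗ₜ[A] b i) = (1 : S) ⊗ₜ[A] polA γ b := by
  have h := Pol_nat γ.law (Algebra.ofId A S) (fun i : Fin d => (1 : A) ⊗ₜ[A] b i)
  rw [rTensor_ofId] at h
  rw [polA_apply, h]
  congr 1
  funext i
  rw [LinearMap.rTensor_tmul]
  congr 1
  exact (map_one (Algebra.ofId A S)).symm

/-- the polarization over `S` on the diagonal, expanded -/
theorem Pol_diag_expand (S : Type u) [CommRing S] [Algebra A S] (n : ℕ) (s : Fin n → S)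
    (b : Fin n → B) :
    Pol γ.law S (fun _ : Fin d => ∑ j, s j ⊗ₜ[A] b j) =
      ∑ c : Fin d → Fin n, (∏ i, s (c i)) ⊗ₜ[A] polA γ (fun i => b (c i)) := by
  have h1 : (fun _ : Fin d => ∑ j, s j ⊗ₜ[A] b j) =
      fun _ : Fin d => ∑ j, s j • ((1 : S) ⊗ₜ[A] b j) := by
    funext _
    refine Finset.sum_congr rfl fun j _ => ?_
    rw [TensorProduct.smul_tmul', smul_eq_mul, mul_one]
  rw [h1, ← PolM_apply, MultilinearMap.map_sum]
  refine Finset.sum_congr rfl fun c _ => ?_
  rw [MultilinearMap.map_smul_univ, PolM_apply, Pol_one_tmul, TensorProduct.smul_tmul',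
    smul_eq_mul, mul_one]

/-- Euler: the polarization over `S` on the diagonal -/
theorem Pol_diag' (S : Type u) [CommRing S] [Algebra A S] (z : S ⊗[A] B) :
    Pol γ.law S (fun _ : Fin d => z) = (d.factorial : S) • γ.law.toFun' S z := by
  have h := Pol_diag γ.law S (ι := Fin d) (fun S _ _ s z => by
    rw [Fintype.card_fin]
    exact γ.homog S s z) z
  rw [Fintype.card_fin] at h
  exact h

theorem pt_one_tmul (b : Fin d → B) :
    pt A (fun i : Fin d => (1 : A) ⊗ₜ[A] b i) =
      ∑ i, (X i : MvPolynomial (Fin d) A) ⊗ₜ[A] b i := by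
  unfold pt bc
  refine Finset.sum_congr rfl fun i _ => ?_
  rw [LinearMap.rTensor_tmul, TensorProduct.smul_tmul', smul_eq_mul]
  congr 1
  show (X i : MvPolynomial (Fin d) A) * (cst (A := A) A (Fin d)) 1 = X i
  rw [map_one, mul_one]

/-- the polarization as a coefficient of the generic value -/
theorem polA_eq (b : Fin d → B) :
    polA γ b = LawFree.ext (lcoeff A (one (Fin d)))
      (γ.law.toFun' (MvPolynomial (Fin d) A) (∑ i, (X i : MvPolynomial (Fin d) A) ⊗ₜ[A] b i)) := by
  rw [polA_apply, ← pt_one_tmul]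
  rfl

section phi

variable (ψ : C →ₗ[A] (⨂[A] _ : Fin d, B))
  (hψ : ∀ (S : Type u) [CommSemiring S] [Algebra A S] (n : ℕ) (s : Fin n → S) (b : Fin n → B),
    ψ.lTensor S (γ.law.toFun' S (∑ j, s j ⊗ₜ[A] b j)) =
      ∑ c : Fin d → Fin n, (∏ i, s (c i)) ⊗ₜ[A] PiTensorProduct.tprod A (fun i => b (c i)))

include hψ in
/-- (II): `ρ ∘ ψ = d!` -/
theorem rho_psi (hγ : PolLaw.IsGammaD γ) (x : C) : rho γ (ψ x) = d.factorial • x := by
  have h : (rho γ) ∘ₗ ψ = d.factorial • (LinearMap.id : C →ₗ[A] C) := by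
    apply GammaSpan.lin_ext γ hγ
    intro S _ _ z
    obtain ⟨n, s, b, rfl⟩ := exists_fin_repr S z
    rw [LinearMap.lTensor_comp, LinearMap.comp_apply, hψ, map_sum]
    simp only [LinearMap.lTensor_tmul, rho_tprod]
    rw [← Pol_diag_expand, Pol_diag', Nat.cast_smul_eq_nsmul]
    have h2 : (d.factorial • (LinearMap.id : C →ₗ[A] C)).lTensor S =
        d.factorial • (LinearMap.id : S ⊗[A] C →ₗ[A] S ⊗[A] C) := by
      have := map_nsmul (LinearMap.lTensorHom (R := A) (N := C) (P := C) S) d.factorial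
        (LinearMap.id : C →ₗ[A] C)
      rw [LinearMap.coe_lTensorHom, LinearMap.lTensor_id] at this
      exact this
    rw [h2]
    rfl
  have h3 := congrArg (fun f : C →ₗ[A] C => f x) h
  exact h3

include hψ in
/-- (I) on pure tensors -/
theorem psi_polA (b : Fin d → B) :
    ψ (polA γ b) = ∑ σ : Equiv.Perm (Fin d), PiTensorProduct.tprod A (fun i => b (σ i)) := by
  classical
  rw [polA_eq, ← GammaSpan.ext_lTensor, hψ, map_sum]
  simp only [LawFree.ext_tmul, lcoeff_apply]
  rw [Finset.sum_congr rfl (fun c _ => by rw [coeff_one_prod_X (R := A) c])]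
  simp only [ite_smul, one_smul, zero_smul]
  rw [← Finset.sum_filter, ← Finset.sum_subtype_eq_sum_filter, Finset.subtype_univ]
  exact (Equiv.sum_comp (permEquiv (Fin d))
    (fun c : {c : Fin d → Fin d // Function.Bijective c} =>
      PiTensorProduct.tprod A (fun i => b (c.1 i)))).symm

include hψ in
/-- (I): `ψ ∘ ρ` is the symmetrization -/
theorem psi_rho (t : ⨂[A] _ : Fin d, B) :
    ψ (rho γ t) = ∑ σ : Equiv.Perm (Fin d), PiTensorProduct.reindex A (fun _ : Fin d => B) σ t := by
  induction t using PiTensorProduct.induction_on with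
  | smul_tprod r b =>
    rw [map_smul, map_smul, rho_tprod, psi_polA γ ψ hψ, Finset.smul_sum]
    rw [← Equiv.sum_comp (Equiv.inv (Equiv.Perm (Fin d)))]
    refine Finset.sum_congr rfl fun σ _ => ?_
    rw [map_smul, PiTensorProduct.reindex_tprod]
    rfl
  | add x y hx hy =>
    rw [map_add, map_add, hx, hy, ← Finset.sum_add_distrib]
    refine Finset.sum_congr rfl fun σ _ => ?_
    rw [map_add]

end phi

end Groth.Agent.Lib.Helper15.GammaTS
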