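import Mathlib
import Groth.Agent.Lib.Helper15.LawFree

/-!
# Factoring a multiplicative law on a free algebra through the split law (helper15)

Let `P` be an `A`-algebra, free as a module with basis `e`, and let `g j : P → D` (`j : Fin d`) be
algebra maps such that the products `∏ j, g j (e (v j))` (`v : Fin d → I`) form a basis of `D`
(e.g. `D = P^{⊗ d}`).  The split law `τ = ∏ j, g j : P → D` takes its values in the subalgebra
`T ⊆ D` spanned by its global coefficients (the symmetric tensors), and every multiplicative law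
`F : P → A` homogeneous of degree `d` is `ft ∘ τ` for a linear form `ft` on `D` which is
multiplicative on `T`.
-/

set_option autoImplicit false
universe u
open scoped TensorProduct
open MvPolynomial

namespace Groth.Agent.Lib.Helper15.TSplit

open Groth.Agent.Lib.Helper15.LawFree

open scoped Classical

variable {A : Type u} [CommRing A] {P : Type u} [CommRing P] [Algebra A P] {I : Type u}
  (e : Module.Basis I A P) {D : Type u} [CommRing D] [Algebra A D] {d : ℕ}
  (g : Fin d → (P →ₐ[A] D)) (bD : Module.Basis (Fin d → I) A D)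
  (hbD : ∀ v, bD v = ∏ j, g j (e (v j)))

/-- the split law -/
noncomputable abbrev tau : PolLaw.MulLaw A P D d :=
  PolLaw.MulLaw.prodMap g d (Fintype.card_fin d)

/-- the multiset of values of a tuple, as a finsupp -/
noncomputable def mult (v : Fin d → I) : I →₀ ℕ := ∑ j, Finsupp.single (v j) 1

theorem prod_tmul {S : Type u} [CommSemiring S] [Algebra A S] {κ : Type} (s : Finset κ)
    (a : κ → S) (b : κ → D) :
    ∏ j ∈ s, (a j ⊗ₜ[A] b j) = (∏ j ∈ s, a j) ⊗ₜ[A] (∏ j ∈ s, b j) := by
  classical
  induction s using Finset.induction_on with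
  | empty => simp [Algebra.TensorProduct.one_def]
  | insert j s hj ih =>
    rw [Finset.prod_insert hj, Finset.prod_insert hj, Finset.prod_insert hj, ih,
      Algebra.TensorProduct.tmul_mul_tmul]

theorem prod_X_eq (v : Fin d → I) :
    ∏ j, (X (v j) : MvPolynomial I A) = monomial (mult v) (1 : A) := by
  unfold mult
  rw [monomial_sum_one]
  rfl

include hbD in
theorem tau_generic (J : Finset I) :
    (tau g).law.toFun' (MvPolynomial I A) (el e J (X : I → MvPolynomial I A)) =
      ∑ v ∈ Fintype.piFinset (fun _ : Fin d => J), (monomial (mult v) (1 : A)) ⊗ₜ[A] bD v := by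
  rw [PolLaw.MulLaw.prodMap_toFun']
  unfold el
  simp only [map_sum, Algebra.TensorProduct.map_tmul, AlgHom.id_apply]
  rw [Finset.prod_univ_sum]
  refine Finset.sum_congr rfl fun v _ => ?_
  rw [prod_tmul, hbD, prod_X_eq]

/-- the tuples with given multiset of values -/
noncomputable def V (α : I →₀ ℕ) : Finset (Fin d → I) :=
  (Fintype.piFinset (fun _ : Fin d => α.support)).filter (fun v => mult v = α)

theorem mem_V (α : I →₀ ℕ) (v : Fin d → I) : v ∈ V α ↔ mult v = α := by
  unfold V
  rw [Finset.mem_filter, Fintype.mem_piFinset]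
  refine ⟨fun h => h.2, fun h => ⟨fun j => ?_, h⟩⟩
  rw [Finsupp.mem_support_iff, ← h]
  unfold mult
  rw [Finsupp.finset_sum_apply]
  have h1 : (Finsupp.single (v j) 1 : I →₀ ℕ) (v j) ≤
      ∑ k, (Finsupp.single (v k) 1 : I →₀ ℕ) (v j) :=
    Finset.single_le_sum (f := fun k => (Finsupp.single (v k) 1 : I →₀ ℕ) (v j))
      (fun _ _ => Nat.zero_le _) (Finset.mem_univ j)
  rw [Finsupp.single_eq_same] at h1
  omega

include hbD in
theorem gco_tau (α : I →₀ ℕ) :
    gco e (tau g).law α = ∑ v ∈ V α, bD v := by
  unfold gco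
  rw [tau_generic e g bD hbD, map_sum]
  simp only [tcoeff_tmul, coeff_monomial]
  unfold V
  rw [Finset.sum_filter]
  refine Finset.sum_congr rfl fun v _ => ?_
  split_ifs <;> simp

theorem exists_mult_eq : ∀ (d : ℕ) (α : I →₀ ℕ), α.degree = d →
    ∃ v : Fin d → I, mult v = α := by
  classical
  intro d
  induction d with
  | zero =>
    intro α hα
    refine ⟨Fin.elim0, ?_⟩
    rw [(Finsupp.degree_eq_zero_iff α).mp hα]
    unfold mult
    simp
  | succ d ih =>
    intro α hα
    have hne : α ≠ 0 := by
      rintro rfl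
      rw [map_zero] at hα
      omega
    obtain ⟨i₀, hi₀⟩ := Finsupp.support_nonempty_iff.mpr hne
    have hle : Finsupp.single i₀ 1 ≤ α := by
      rw [Finsupp.single_le_iff]
      rw [Finsupp.mem_support_iff] at hi₀
      omega
    have hα' : α = Finsupp.single i₀ 1 + (α - Finsupp.single i₀ 1) := by
      rw [add_tsub_cancel_of_le hle]
    have hdeg : (α - Finsupp.single i₀ 1).degree = d := by
      have h2 := congrArg Finsupp.degree hα'
      rw [map_add, Finsupp.degree_single, hα] at h2
      omega
    obtain ⟨v', hv'⟩ := ih _ hdeg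
    refine ⟨Fin.cons i₀ v', ?_⟩
    unfold mult at hv' ⊢
    rw [Fin.sum_univ_succ]
    simp only [Fin.cons_zero, Fin.cons_succ]
    rw [hv', ← hα']

/-- a chosen representative of each class -/
noncomputable def rep (α : I →₀ ℕ) : Option (Fin d → I) :=
  if h : ∃ v : Fin d → I, mult v = α then some h.choose else none

theorem rep_spec (α : I →₀ ℕ) (h : α.degree = d) :
    ∃ v₀ : Fin d → I, rep α = some v₀ ∧ mult v₀ = α := by
  have h' := exists_mult_eq d α h
  refine ⟨h'.choose, ?_, h'.choose_spec⟩
  unfold rep
  rw [dif_pos h']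

theorem sum_V_rep {N : Type u} [AddCommGroup N] (α : I →₀ ℕ) (h : α.degree = d)
    (n : N) : ∑ v ∈ V (d := d) α, (if rep (mult v) = some v then n else 0) = n := by
  obtain ⟨v₀, hv₀, hm⟩ := rep_spec (d := d) α h
  have h1 : ∑ v ∈ V (d := d) α, (if rep (mult v) = some v then n else 0) =
      ∑ v ∈ V (d := d) α, (if v₀ = v then n else 0) := by
    refine Finset.sum_congr rfl fun v hv => ?_
    rw [(mem_V α v).mp hv, hv₀]
    by_cases hvv : v₀ = v
    · rw [if_pos hvv, if_pos (by rw [hvv])]
    · rw [if_neg hvv, if_neg (fun h => hvv (Option.some.inj h))]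
  rw [h1, Finset.sum_ite_eq, if_pos ((mem_V α v₀).mpr hm)]

variable (F : PolLaw.MulLaw A P A d)

/-- the linear form on `D` through which `F` factors -/
noncomputable def ft : D →ₗ[A] A :=
  bD.constr A (fun v => if rep (mult v) = some v then gco e F.law (mult v) else 0)

include hbD in
theorem ft_gco (α : I →₀ ℕ) : ft e bD F (gco e (tau g).law α) = gco e F.law α := by
  classical
  by_cases h : α.degree = d
  · rw [gco_tau e g bD hbD, map_sum]
    unfold ft
    simp only [Module.Basis.constr_basis]
    have h1 : ∑ v ∈ V (d := d) α, (if rep (mult v) = some v then gco e F.law (mult v) else 0) =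
        ∑ v ∈ V (d := d) α, (if rep (mult v) = some v then gco e F.law α else 0) := by
      refine Finset.sum_congr rfl fun v hv => ?_
      rw [(mem_V α v).mp hv]
    rw [h1, sum_V_rep α h]
  · rw [gco_eq_zero_of_degree_ne e _ (tau g).homog α h,
      gco_eq_zero_of_degree_ne e _ F.homog α h, map_zero]

include hbD in
/-- (F1): `F` factors through the split law -/
theorem factor (S : Type u) [CommSemiring S] [Algebra A S] (x : S ⊗[A] P) :
    F.law.toFun' S x = (ft e bD F).lTensor S ((tau g).law.toFun' S x) := by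
  classical
  obtain ⟨J, s, rfl⟩ := exists_el e S x
  rw [law_el_eq e F.law F.homog, law_el_eq e (tau g).law (tau g).homog, map_sum]
  refine Finset.sum_congr rfl fun α _ => ?_
  rw [LinearMap.lTensor_tmul, ft_gco e g bD hbD]

/-- the span of the global coefficients of the split law -/
noncomputable def Tm : Submodule A D := Submodule.span A (Set.range (gco e (tau g).law))

theorem gco_mem (α : I →₀ ℕ) : gco e (tau g).law α ∈ Tm e g := Submodule.subset_span ⟨α, rfl⟩

theorem one_mem : (1 : D) ∈ Tm e g := by
  classical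
  obtain ⟨J, s, hs⟩ := exists_el e A (1 : A ⊗[A] P)
  have h1 := law_el_eq e (tau g).law (tau g).homog J A s
  rw [← hs, ((tau g).mult A).1] at h1
  have h2 := congrArg (TensorProduct.lid A D) h1
  rw [Algebra.TensorProduct.one_def, TensorProduct.lid_tmul, one_smul, map_sum] at h2
  rw [h2]
  refine Submodule.sum_mem _ fun α _ => ?_
  rw [TensorProduct.lid_tmul]
  exact Submodule.smul_mem _ _ (gco_mem e g α)

theorem gco_mul_mem (α β : I →₀ ℕ) :
    gco e (tau g).law α * gco e (tau g).law β ∈ Tm e g := by
  classical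
  by_cases hα : α.degree = d
  · by_cases hβ : β.degree = d
    · obtain ⟨Γ, m, h⟩ := exists_structure_constants e d α β hα hβ
      rw [h D (tau g)]
      refine Submodule.sum_mem _ fun γ _ => ?_
      exact Submodule.smul_mem _ _ (gco_mem e g γ)
    · rw [gco_eq_zero_of_degree_ne e _ (tau g).homog β hβ, mul_zero]
      exact Submodule.zero_mem _
  · rw [gco_eq_zero_of_degree_ne e _ (tau g).homog α hα, zero_mul]
    exact Submodule.zero_mem _

theorem mul_mem (x y : D) (hx : x ∈ Tm e g) (hy : y ∈ Tm e g) : x * y ∈ Tm e g := by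
  have h : Tm e g * Tm e g ≤ Tm e g := by
    unfold Tm
    rw [Submodule.span_mul_span, Submodule.span_le]
    rintro _ ⟨x, hx, y, hy, rfl⟩
    obtain ⟨α, rfl⟩ := hx
    obtain ⟨β, rfl⟩ := hy
    exact gco_mul_mem e g α β
  exact h (Submodule.mul_mem_mul hx hy)

/-- the subalgebra of "symmetric tensors" -/
noncomputable def T : Subalgebra A D :=
  Submodule.toSubalgebra (Tm e g) (one_mem e g) (mul_mem e g)

theorem mem_T (x : D) : x ∈ T e g ↔ x ∈ Tm e g := Iff.rfl

include hbD in
theorem ft_gco_mul (α β : I →₀ ℕ) :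
    ft e bD F (gco e (tau g).law α * gco e (tau g).law β) =
      ft e bD F (gco e (tau g).law α) * ft e bD F (gco e (tau g).law β) := by
  classical
  by_cases hα : α.degree = d
  · by_cases hβ : β.degree = d
    · obtain ⟨Γ, m, h⟩ := exists_structure_constants e d α β hα hβ
      rw [h D (tau g), ft_gco e g bD hbD, ft_gco e g bD hbD, h A F, map_sum]
      refine Finset.sum_congr rfl fun γ _ => ?_
      rw [map_smul, ft_gco e g bD hbD]
    · rw [gco_eq_zero_of_degree_ne e _ (tau g).homog β hβ, mul_zero, map_zero, mul_zero]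
  · rw [gco_eq_zero_of_degree_ne e _ (tau g).homog α hα, zero_mul, map_zero, zero_mul]

include hbD in
theorem ft_mul (x y : D) (hx : x ∈ Tm e g) (hy : y ∈ Tm e g) :
    ft e bD F (x * y) = ft e bD F x * ft e bD F y := by
  unfold Tm at hx hy
  induction hx using Submodule.span_induction with
  | mem x hx =>
    obtain ⟨α, rfl⟩ := hx
    induction hy using Submodule.span_induction with
    | mem y hy =>
      obtain ⟨β, rfl⟩ := hy
      exact ft_gco_mul e g bD hbD F α β
    | zero => rw [mul_zero, map_zero, mul_zero]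
    | add y y' _ _ hy hy' => rw [mul_add, map_add, map_add, hy, hy', mul_add]
    | smul a y _ hy => rw [mul_smul_comm, map_smul, map_smul, hy, mul_smul_comm]
  | zero => rw [zero_mul, map_zero, zero_mul]
  | add x x' _ _ hx hx' => rw [add_mul, map_add, map_add, hx, hx', add_mul]
  | smul a x _ hx => rw [smul_mul_assoc, map_smul, map_smul, hx, smul_mul_assoc]

include hbD in
theorem ft_one : ft e bD F 1 = 1 := by
  have h1 := factor e g bD hbD F A (1 : A ⊗[A] P)
  rw [(F.mult A).1, ((tau g).mult A).1, Algebra.TensorProduct.one_def,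
    Algebra.TensorProduct.one_def, LinearMap.lTensor_tmul] at h1
  have h2 := congrArg (TensorProduct.lid A A) h1
  rw [TensorProduct.lid_tmul, TensorProduct.lid_tmul, one_smul, one_smul] at h2
  exact h2.symm

/-- (3a): the split law takes its values in `T` -/
theorem tau_mem (S : Type u) [CommSemiring S] [Algebra A S] (x : S ⊗[A] P) :
    (tau g).law.toFun' S x ∈ LinearMap.range ((T e g).val.toLinearMap.lTensor S) := by
  classical
  obtain ⟨J, s, rfl⟩ := exists_el e S x
  rw [law_el_eq e (tau g).law (tau g).homog]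
  refine ⟨∑ α ∈ Finset.finsuppAntidiag J d,
    mon s α ⊗ₜ[A] (⟨gco e (tau g).law α, gco_mem e g α⟩ : T e g), ?_⟩
  rw [map_sum]
  refine Finset.sum_congr rfl fun α _ => ?_
  rw [LinearMap.lTensor_tmul]
  rfl

end Groth.Agent.Lib.Helper15.TSplit
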