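import Mathlib
import Groth.Prelude.Def_SymTen
import Groth.Agent.Lib.Helper15.Corestrict
import Groth.Agent.Lib.Helper15.LawFree
import Groth.Agent.Lib.Helper15.GammaSpan
import Groth.Agent.Lib.Helper15.TSplit
import Groth.Agent.Lib.Helper15.GammaTS

/-!
# The tensor power law `b ↦ b ⊗ ⋯ ⊗ b` into `T^d(B)` and `TS^d(B)` (helper15)
-/

set_option autoImplicit false
universe u
open scoped TensorProduct
open MvPolynomial

namespace Groth.Agent.Lib.Helper15.TSLaw

open Groth.Agent.Lib.Helper15.LawFree Groth.Agent.Lib.Helper15.Corestrict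

variable {A : Type u} [CommRing A] (B : Type u) [CommRing B] [Algebra A B] (d : ℕ)

/-- the algebra maps `b ↦ 1 ⊗ ⋯ ⊗ b ⊗ ⋯ ⊗ 1` -/
noncomputable abbrev sg (j : Fin d) : B →ₐ[A] (⨂[A] _ : Fin d, B) :=
  PiTensorProduct.singleAlgHom (R := A) (A := fun _ : Fin d => B) j

/-- the tensor power law `b ↦ b ⊗ ⋯ ⊗ b` into `T^d(B)` -/
noncomputable def tl : PolLaw.MulLaw A B (⨂[A] _ : Fin d, B) d :=
  PolLaw.MulLaw.prodMap (sg B d) d (Fintype.card_fin d)

variable {B d}

theorem tprod_eq_prod (f : Fin d → B) :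
    PiTensorProduct.tprod A f = ∏ j, sg B d j (f j) := by
  simp only [sg, PiTensorProduct.singleAlgHom_apply]
  rw [← PiTensorProduct.tprod_prod]
  congr 1
  exact (Finset.univ_prod_mulSingle f).symm

theorem tl_sum (S : Type u) [CommSemiring S] [Algebra A S] (n : ℕ) (s : Fin n → S)
    (b : Fin n → B) :
    (tl B d).law.toFun' S (∑ j, s j ⊗ₜ[A] b j) =
      ∑ c : Fin d → Fin n, (∏ i, s (c i)) ⊗ₜ[A] PiTensorProduct.tprod A (fun i => b (c i)) := by
  unfold tl
  rw [PolLaw.MulLaw.prodMap_toFun']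
  simp only [map_sum, Algebra.TensorProduct.map_tmul, AlgHom.id_apply]
  rw [Finset.prod_univ_sum]
  simp only [Fintype.piFinset_univ]
  refine Finset.sum_congr rfl fun c _ => ?_
  rw [TSplit.prod_tmul, tprod_eq_prod]

/-- naturality of the tensor power law in linear maps -/
theorem tl_nat_lin {B' : Type u} [CommRing B'] [Algebra A B'] (q : B →ₗ[A] B')
    (S : Type u) [CommSemiring S] [Algebra A S] (x : S ⊗[A] B) :
    (tl B' d).law.toFun' S (q.lTensor S x) =
      (PiTensorProduct.map (fun _ : Fin d => q)).lTensor S ((tl B d).law.toFun' S x) := by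
  obtain ⟨n, s, b, rfl⟩ := GammaTS.exists_fin_repr S x
  rw [map_sum]
  simp only [LinearMap.lTensor_tmul]
  rw [tl_sum, tl_sum, map_sum]
  refine Finset.sum_congr rfl fun c _ => ?_
  rw [LinearMap.lTensor_tmul, PiTensorProduct.map_tprod]

theorem tmap_eq_map {B' : Type u} [CommRing B'] [Algebra A B'] (f : B →ₐ[A] B')
    (t : ⨂[A] _ : Fin d, B) :
    SymTen.tmap A d f t = PiTensorProduct.map (fun _ : Fin d => f.toLinearMap) t := by
  induction t using PiTensorProduct.induction_on with
  | smul_tprod r m =>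
    rw [map_smul, map_smul, SymTen.tmap_tprod, PiTensorProduct.map_tprod]
    rfl
  | add x y hx hy => rw [map_add, map_add, hx, hy]

theorem perm_sg (σ : Equiv.Perm (Fin d)) (j : Fin d) (a : B) :
    SymTen.perm A B d σ (sg B d j a) = sg B d (σ j) a := by
  simp only [sg, PiTensorProduct.singleAlgHom_apply]
  rw [SymTen.perm_tprod]
  congr 1
  funext i
  simp only [MonoidHom.mulSingle_apply, Pi.mulSingle_apply]
  by_cases h : i = σ j
  · rw [if_pos h, if_pos (by rw [h, Equiv.symm_apply_apply])]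
  · rw [if_neg h, if_neg (fun h' => h (by rw [← h', Equiv.apply_symm_apply]))]

/-- the values of the tensor power law are symmetric -/
theorem perm_tl (σ : Equiv.Perm (Fin d)) (S : Type u) [CommSemiring S] [Algebra A S]
    (z : S ⊗[A] B) :
    (SymTen.perm A B d σ).toLinearMap.lTensor S ((tl B d).law.toFun' S z) =
      (tl B d).law.toFun' S z := by
  unfold tl
  rw [PolLaw.MulLaw.prodMap_toFun', PolLaw.lTensor_algHom_apply, map_prod]
  rw [← Equiv.prod_comp σ (fun j => (Algebra.TensorProduct.map (AlgHom.id S S) (sg B d j)) z)]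
  refine Finset.prod_congr rfl fun j _ => ?_
  have h : (Algebra.TensorProduct.map (AlgHom.id S S) (SymTen.perm A B d σ)).comp
      (Algebra.TensorProduct.map (AlgHom.id S S) (sg B d j)) =
      Algebra.TensorProduct.map (AlgHom.id S S) (sg B d (σ j)) := by
    apply Algebra.TensorProduct.ext'
    intro s b
    simp only [AlgHom.comp_apply, Algebra.TensorProduct.map_tmul, AlgHom.id_apply]
    rw [perm_sg]
  exact congrArg (fun f => f z) h

/-- coefficients of the values of the tensor power law over polynomial rings are symmetric -/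
theorem tcoeff_tl_mem {σ : Type u} (m : σ →₀ ℕ) (z : MvPolynomial σ A ⊗[A] B) :
    tcoeff m ((tl B d).law.toFun' (MvPolynomial σ A) z) ∈ SymTen.TS A B d := by
  intro τ
  rw [← SymTen.perm_apply]
  have h := GammaSpan.ext_lTensor (lcoeff A m) (SymTen.perm A B d τ).toLinearMap
    ((tl B d).law.toFun' (MvPolynomial σ A) z)
  rw [perm_tl] at h
  exact h.symm

theorem tl_mem (σ : Type u) (z : MvPolynomial σ A ⊗[A] B) :
    (tl B d).law.toFun' (MvPolynomial σ A) z ∈
      LinearMap.range (inc (SymTen.TS A B d) (MvPolynomial σ A)) := by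
  obtain ⟨f, hf, hrep⟩ := exists_repr_tcoeff ((tl B d).law.toFun' (MvPolynomial σ A) z)
  refine ⟨∑ α ∈ f.support, (monomial α (1 : A)) ⊗ₜ[A]
    (⟨f α, by rw [hf]; exact tcoeff_tl_mem α z⟩ : SymTen.TS A B d), ?_⟩
  rw [map_sum]
  conv_rhs => rw [hrep]
  refine Finset.sum_congr rfl fun α _ => ?_
  unfold inc
  rw [LinearMap.lTensor_tmul]
  rfl

variable (B d)

/-- **the tensor power law `b ↦ b ⊗ ⋯ ⊗ b` into the symmetric tensors** -/
noncomputable def ts : PolLaw.MulLaw A B (SymTen.TS A B d) d :=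
  law₀ (tl B d) (SymTen.TS A B d) tl_mem

variable {B d}

theorem val_ts (S : Type u) [CommSemiring S] [Algebra A S] (z : S ⊗[A] B) :
    (SymTen.TS A B d).val.toLinearMap.lTensor S ((ts B d).law.toFun' S z) =
      (tl B d).law.toFun' S z :=
  inc_cfun (tl B d) (SymTen.TS A B d) tl_mem S z

theorem ts_sum (S : Type u) [CommSemiring S] [Algebra A S] (n : ℕ) (s : Fin n → S)
    (b : Fin n → B) :
    (SymTen.TS A B d).val.toLinearMap.lTensor S ((ts B d).law.toFun' S (∑ j, s j ⊗ₜ[A] b j)) =
      ∑ c : Fin d → Fin n, (∏ i, s (c i)) ⊗ₜ[A] PiTensorProduct.tprod A (fun i => b (c i)) := by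
  rw [val_ts, tl_sum]

end Groth.Agent.Lib.Helper15.TSLaw
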