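import Mathlib
import Groth.Prelude.Def_SymTen
import Groth.Agent.Lib.Helper15.TSLaw

/-!
# The base change map `T^d_A(B) → T^d_{A'}(B')` and its restriction to symmetric tensors (helper15)
-/

set_option autoImplicit false
universe u
open scoped TensorProduct

namespace Groth.Agent.Lib.Helper15.BCTheta

variable {A : Type u} [CommRing A] (A' : Type u) [CommRing A'] [Algebra A A']
  {B : Type u} [CommRing B] [Algebra A B] {B' : Type u} [CommRing B'] [Algebra A' B']
  [Algebra A B'] [IsScalarTower A A' B'] (ι : B →ₐ[A] B') (d : ℕ)

/-- the multilinear map underlying `theta` -/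
noncomputable def thetaML : MultilinearMap A (fun _ : Fin d => B) (⨂[A'] _ : Fin d, B') :=
  ((PiTensorProduct.tprod A').restrictScalars A).compLinearMap (fun _ => ι.toLinearMap)

theorem thetaML_apply (p : Fin d → B) :
    thetaML A' ι d p = PiTensorProduct.tprod A' (fun i => ι (p i)) :=
  rfl

/-- the base change ring homomorphism `T^d_A(B) → T^d_{A'}(B')` -/
noncomputable def theta : (⨂[A] _ : Fin d, B) →ₐ[A] (⨂[A'] _ : Fin d, B') :=
  PiTensorProduct.liftAlgHom (thetaML A' ι d)
    (by
      rw [thetaML_apply]
      simp only [Pi.one_apply, map_one]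
      rfl)
    (by
      intro x y
      rw [thetaML_apply, thetaML_apply, thetaML_apply, PiTensorProduct.tprod_mul_tprod]
      congr 1
      funext i
      simp)

theorem theta_tprod (p : Fin d → B) :
    theta A' ι d (PiTensorProduct.tprod A p) = PiTensorProduct.tprod A' (fun i => ι (p i)) := by
  unfold theta
  rw [PiTensorProduct.liftAlgHom_apply, PiTensorProduct.lift.tprod, thetaML_apply]

theorem theta_reindex (τ : Equiv.Perm (Fin d)) (t : ⨂[A] _ : Fin d, B) :
    theta A' ι d (PiTensorProduct.reindex A (fun _ : Fin d => B) τ t) =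
      PiTensorProduct.reindex A' (fun _ : Fin d => B') τ (theta A' ι d t) := by
  induction t using PiTensorProduct.induction_on with
  | smul_tprod r p =>
    have h1 : ∀ t, theta A' ι d (r • t) = r • theta A' ι d t := fun t => map_smul _ _ _
    have h2 : ∀ t : ⨂[A'] _ : Fin d, B',
        PiTensorProduct.reindex A' (fun _ : Fin d => B') τ (r • t) =
          r • PiTensorProduct.reindex A' (fun _ : Fin d => B') τ t := by
      intro t
      rw [algebra_compatible_smul A' r, map_smul, ← algebra_compatible_smul A' r]
    rw [map_smul, h1, h1, h2, PiTensorProduct.reindex_tprod, theta_tprod, theta_tprod,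
      PiTensorProduct.reindex_tprod]
  | add x y hx hy => rw [map_add, map_add, map_add, map_add, hx, hy]

/-- the base change map on symmetric tensors -/
noncomputable def thetaS : SymTen.TS A B d →ₐ[A] SymTen.TS A' B' d :=
  ((theta A' ι d).comp (SymTen.TS A B d).val).codRestrict
    ((SymTen.TS A' B' d).restrictScalars A) (fun t τ => by
      show PiTensorProduct.reindex A' _ τ (theta A' ι d t.1) = theta A' ι d t.1
      rw [← theta_reindex, t.2 τ])

theorem val_thetaS (t : SymTen.TS A B d) :
    ((thetaS A' ι d t : SymTen.TS A' B' d) : ⨂[A'] _ : Fin d, B') = theta A' ι d t.1 :=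
  rfl

end Groth.Agent.Lib.Helper15.BCTheta
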