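import Mathlib
import Groth.Agent.Lib.Helper15.PolLawPoly

/-!
# Descending a multiplicative law along a surjection; surjectivity of `Γ^d(B) → Γ^d(B')` (helper15)
-/

set_option autoImplicit false
universe u
open scoped TensorProduct

namespace Groth.Agent.Lib.Helper15.GammaSurj

open Groth.Agent.Lib.Helper15.PolLawPoly

variable {A : Type u} [CommRing A] {B : Type u} [CommRing B] [Algebra A B]
  {B' : Type u} [CommRing B'] [Algebra A B'] {C : Type u} [CommRing C] [Algebra A C]
  {C'' : Type u} [CommRing C''] [Algebra A C''] {d : ℕ}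

section comm

/-- `rTensor` and `lTensor` commute -/
theorem rTensor_lTensor {M N : Type u} [AddCommGroup M] [Module A M] [AddCommGroup N] [Module A N]
    {S S' : Type u} [CommSemiring S] [Algebra A S] [CommSemiring S'] [Algebra A S']
    (φ : S →ₐ[A] S') (g : M →ₗ[A] N) (x : S ⊗[A] M) :
    φ.toLinearMap.rTensor N (g.lTensor S x) = g.lTensor S' (φ.toLinearMap.rTensor M x) := by
  rw [← LinearMap.comp_apply, LinearMap.rTensor_comp_lTensor, ← LinearMap.lTensor_comp_rTensor,
    LinearMap.comp_apply]

end comm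

section desc

variable (γ : PolLaw.MulLaw A B C d) (π : B →ₐ[A] B') (hπ : Function.Surjective π)
  (q : C →ₐ[A] C'')

/-- a set-theoretic section of `S ⊗ π` -/
noncomputable def sec (S : Type u) [CommSemiring S] [Algebra A S] (z' : S ⊗[A] B') : S ⊗[A] B :=
  (LinearMap.lTensor_surjective S (show Function.Surjective π.toLinearMap from hπ) z').choose

theorem sec_spec (S : Type u) [CommSemiring S] [Algebra A S] (z' : S ⊗[A] B') :
    π.toLinearMap.lTensor S (sec π hπ S z') = z' :=
  (LinearMap.lTensor_surjective S (show Function.Surjective π.toLinearMap from hπ) z').choose_spec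

/-- the descended law, on a test algebra -/
noncomputable def descFun (S : Type u) [CommSemiring S] [Algebra A S] (z' : S ⊗[A] B') :
    S ⊗[A] C'' :=
  q.toLinearMap.lTensor S (γ.law.toFun' S (sec π hπ S z'))

variable (WD : ∀ (S : Type u) [CommSemiring S] [Algebra A S] (x x' : S ⊗[A] B),
    π.toLinearMap.lTensor S x = π.toLinearMap.lTensor S x' →
      q.toLinearMap.lTensor S (γ.law.toFun' S x) = q.toLinearMap.lTensor S (γ.law.toFun' S x'))

include WD in
theorem descFun_apply (S : Type u) [CommSemiring S] [Algebra A S] (x : S ⊗[A] B) :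
    descFun γ π hπ q S (π.toLinearMap.lTensor S x) =
      q.toLinearMap.lTensor S (γ.law.toFun' S x) :=
  WD S _ _ (sec_spec π hπ S _)

/-- the descended law -/
noncomputable def descLaw : PolLaw.MulLaw A B' C'' d where
  law :=
  { toFun' := fun S _ _ => descFun γ π hπ q S
    isCompat' := fun {S} _ _ {S'} _ _ φ => by
      funext z'
      simp only [Function.comp_apply]
      rw [← sec_spec π hπ S z', descFun_apply γ π hπ q WD, rTensor_lTensor,
        PolynomialLaw.isCompat_apply' (f := γ.law), rTensor_lTensor,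
        descFun_apply γ π hπ q WD] }
  homog S _ _ s z' := by
    show descFun γ π hπ q S (s • z') = s ^ d • descFun γ π hπ q S z'
    rw [← sec_spec π hπ S z']
    have h1 : s • π.toLinearMap.lTensor S (sec π hπ S z') =
        π.toLinearMap.lTensor S (s • sec π hπ S z') := by
      rw [PolLaw.lTensor_algHom_apply, PolLaw.lTensor_algHom_apply, map_smul]
    rw [h1, descFun_apply γ π hπ q WD, descFun_apply γ π hπ q WD, γ.homog,
      PolLaw.lTensor_algHom_apply, PolLaw.lTensor_algHom_apply, map_smul]
  mult S _ _ := by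
    constructor
    · show descFun γ π hπ q S 1 = 1
      have h1 : (1 : S ⊗[A] B') = π.toLinearMap.lTensor S 1 := by
        rw [PolLaw.lTensor_algHom_apply, map_one]
      rw [h1, descFun_apply γ π hπ q WD, (γ.mult S).1, PolLaw.lTensor_algHom_apply, map_one]
    · intro z₁ z₂
      show descFun γ π hπ q S (z₁ * z₂) = descFun γ π hπ q S z₁ * descFun γ π hπ q S z₂
      rw [← sec_spec π hπ S z₁, ← sec_spec π hπ S z₂]
      have h1 : π.toLinearMap.lTensor S (sec π hπ S z₁) * π.toLinearMap.lTensor S (sec π hπ S z₂) =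
          π.toLinearMap.lTensor S (sec π hπ S z₁ * sec π hπ S z₂) := by
        rw [PolLaw.lTensor_algHom_apply, PolLaw.lTensor_algHom_apply, PolLaw.lTensor_algHom_apply,
          map_mul]
      rw [h1, descFun_apply γ π hπ q WD, descFun_apply γ π hπ q WD, descFun_apply γ π hπ q WD,
        (γ.mult S).2, PolLaw.lTensor_algHom_apply, PolLaw.lTensor_algHom_apply,
        PolLaw.lTensor_algHom_apply, map_mul]

include WD in
theorem descLaw_apply (S : Type u) [CommSemiring S] [Algebra A S] (x : S ⊗[A] B) :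
    (descLaw γ π hπ q WD).law.toFun' S (π.toLinearMap.lTensor S x) =
      q.toLinearMap.lTensor S (γ.law.toFun' S x) :=
  descFun_apply γ π hπ q WD S x

end desc

section surj

variable {C' : Type u} [CommRing C'] [Algebra A C']
  (γ : PolLaw.MulLaw A B C d) (γ' : PolLaw.MulLaw A B' C' d)
  (π : B →ₐ[A] B') (hπ : Function.Surjective π) (φ : C →ₐ[A] C')
  (hφ : PolLaw.postcomp φ.toLinearMap γ.law = (γ'.precomp π).law)

include hφ in
theorem hφ_apply (S : Type u) [CommSemiring S] [Algebra A S] (x : S ⊗[A] B) :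
    φ.toLinearMap.lTensor S (γ.law.toFun' S x) =
      γ'.law.toFun' S (π.toLinearMap.lTensor S x) := by
  have := congrArg (fun L : B →ₚₗ[A] C' => L.toFun' S x) hφ
  exact this

/-- the quotient map `C → C ⧸ ker φ` -/
noncomputable abbrev qmap : C →ₐ[A] (C ⧸ RingHom.ker (φ : C →+* C')) :=
  Ideal.Quotient.mkₐ A (RingHom.ker (φ : C →+* C'))

/-- the induced injection `C ⧸ ker φ → C'` -/
noncomputable abbrev φbar : (C ⧸ RingHom.ker (φ : C →+* C')) →ₐ[A] C' :=
  Ideal.Quotient.liftₐ (RingHom.ker (φ : C →+* C')) φ (fun a ha => ha)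

theorem φbar_comp : (φbar φ).comp (qmap φ) = φ := by
  apply AlgHom.ext
  intro c
  rfl

theorem φbar_injective : Function.Injective (φbar φ) := by
  rw [injective_iff_map_eq_zero]
  intro y hy
  obtain ⟨c, rfl⟩ := Ideal.Quotient.mk_surjective y
  have : φ c = 0 := hy
  exact Ideal.Quotient.eq_zero_iff_mem.mpr this

include hπ hφ in
theorem wd_ring (S : Type u) [CommRing S] [Algebra A S] (x x' : S ⊗[A] B)
    (h : π.toLinearMap.lTensor S x = π.toLinearMap.lTensor S x') :
    (qmap φ).toLinearMap.lTensor S (γ.law.toFun' S x) =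
      (qmap φ).toLinearMap.lTensor S (γ.law.toFun' S x') := by
  let Kπ : Submodule A B := LinearMap.ker π.toLinearMap
  have hex : Function.Exact (Kπ.subtype.lTensor S) (π.toLinearMap.lTensor S) :=
    lTensor_exact S (LinearMap.exact_subtype_ker_map π.toLinearMap)
      (show Function.Surjective π.toLinearMap from hπ)
  have h0 : π.toLinearMap.lTensor S (x' - x) = 0 := by rw [map_sub, h, sub_self]
  obtain ⟨κ, hκ⟩ := (hex (x' - x)).mp h0
  obtain ⟨xt, hxt⟩ := exists_lift (A := A) (B := B) S x
  obtain ⟨κt, hκt⟩ := exists_lift (A := A) (B := Kπ) S κ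
  set P := MvPolynomial S A with hP
  set xt' : P ⊗[A] B := xt + Kπ.subtype.lTensor P κt with hxt'
  have ha : (evS (A := A) S).toLinearMap.rTensor B xt' = x' := by
    rw [hxt', map_add, hxt, rTensor_lTensor, hκt, hκ]
    abel
  have hb : π.toLinearMap.lTensor P xt' = π.toLinearMap.lTensor P xt := by
    rw [hxt', map_add, ← LinearMap.comp_apply, ← LinearMap.lTensor_comp]
    have : π.toLinearMap ∘ₗ Kπ.subtype = 0 := by
      apply LinearMap.ext
      intro k
      exact k.2
    rw [this, LinearMap.lTensor_zero, LinearMap.zero_apply, add_zero]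
  have hinj : Function.Injective ((φbar φ).toLinearMap.lTensor P) :=
    Module.Flat.lTensor_preserves_injective_linearMap _ (φbar_injective φ)
  have hcomp : ∀ y : P ⊗[A] C, (φbar φ).toLinearMap.lTensor P ((qmap φ).toLinearMap.lTensor P y) =
      φ.toLinearMap.lTensor P y := by
    intro y
    rw [← LinearMap.comp_apply, ← LinearMap.lTensor_comp]
    have : (φbar φ).toLinearMap ∘ₗ (qmap φ).toLinearMap = φ.toLinearMap := by
      apply LinearMap.ext
      intro c
      rfl
    rw [this]
  have hc : (qmap φ).toLinearMap.lTensor P (γ.law.toFun' P xt) =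
      (qmap φ).toLinearMap.lTensor P (γ.law.toFun' P xt') := by
    apply hinj
    rw [hcomp, hcomp, hφ_apply γ γ' π φ hφ, hφ_apply γ γ' π φ hφ, hb]
  have hd := congrArg ((evS (A := A) S).toLinearMap.rTensor _) hc
  rw [rTensor_lTensor, rTensor_lTensor, PolynomialLaw.isCompat_apply' (f := γ.law),
    PolynomialLaw.isCompat_apply' (f := γ.law), hxt, ha] at hd
  exact hd

include hπ hφ in
theorem wd (S : Type u) [CommSemiring S] [Algebra A S] (x x' : S ⊗[A] B)
    (h : π.toLinearMap.lTensor S x = π.toLinearMap.lTensor S x') :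
    (qmap φ).toLinearMap.lTensor S (γ.law.toFun' S x) =
      (qmap φ).toLinearMap.lTensor S (γ.law.toFun' S x') := by
  let e : S →ₐ[A] A ⊗[A] S := (Algebra.TensorProduct.lid A S).symm.toAlgHom
  let e' : A ⊗[A] S →ₐ[A] S := (Algebra.TensorProduct.lid A S).toAlgHom
  have hee : ∀ (M : Type u) [AddCommGroup M] [Module A M] (z : S ⊗[A] M),
      e'.toLinearMap.rTensor M (e.toLinearMap.rTensor M z) = z := by
    intro M _ _ z
    rw [← LinearMap.comp_apply, ← LinearMap.rTensor_comp]
    have : e'.toLinearMap ∘ₗ e.toLinearMap = LinearMap.id := by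
      apply LinearMap.ext
      intro s
      exact (Algebra.TensorProduct.lid A S).apply_symm_apply s
    rw [this, LinearMap.rTensor_id, LinearMap.id_apply]
  have h1 : π.toLinearMap.lTensor (A ⊗[A] S) (e.toLinearMap.rTensor B x) =
      π.toLinearMap.lTensor (A ⊗[A] S) (e.toLinearMap.rTensor B x') := by
    rw [← rTensor_lTensor, ← rTensor_lTensor, h]
  have h2 := wd_ring γ γ' π hπ φ hφ (A ⊗[A] S) _ _ h1
  have h3 := congrArg (e'.toLinearMap.rTensor _) h2
  rw [rTensor_lTensor, rTensor_lTensor, PolynomialLaw.isCompat_apply' (f := γ.law),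
    PolynomialLaw.isCompat_apply' (f := γ.law), hee, hee] at h3
  exact h3

include hπ hφ in
/-- **`Γ^d(B) → Γ^d(B')` is surjective when `B → B'` is.** -/
theorem surjective_of_compat (hγ : PolLaw.IsGammaD γ) (hγ' : PolLaw.IsGammaD γ') :
    Function.Surjective φ := by
  have WD := wd γ γ' π hπ φ hφ
  set γ'' := descLaw γ π hπ (qmap φ) WD with hγ''
  obtain ⟨ψ, hψ, -⟩ := hγ' _ γ''
  have hψ_apply : ∀ (S : Type u) [CommSemiring S] [Algebra A S] (z' : S ⊗[A] B'),
      ψ.toLinearMap.lTensor S (γ'.law.toFun' S z') = γ''.law.toFun' S z' := by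
    intro S _ _ z'
    have := congrArg (fun L : B' →ₚₗ[A] _ => L.toFun' S z') hψ
    exact this
  -- `ψ ∘ φ = q`
  have h1 : ψ.comp φ = qmap φ := by
    obtain ⟨g, -, hguniq⟩ := hγ _ (PolLaw.MulLaw.postcomp (qmap φ) γ)
    have e1 : PolLaw.postcomp (ψ.comp φ).toLinearMap γ.law =
        (PolLaw.MulLaw.postcomp (qmap φ) γ).law := by
      ext S _ _ x
      show (ψ.comp φ).toLinearMap.lTensor S (γ.law.toFun' S x) =
        (qmap φ).toLinearMap.lTensor S (γ.law.toFun' S x)
      have : (ψ.comp φ).toLinearMap = ψ.toLinearMap ∘ₗ φ.toLinearMap := rfl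
      rw [this, LinearMap.lTensor_comp, LinearMap.comp_apply, hφ_apply γ γ' π φ hφ, hψ_apply,
        hγ'', descLaw_apply]
    have e2 : PolLaw.postcomp (qmap φ).toLinearMap γ.law =
        (PolLaw.MulLaw.postcomp (qmap φ) γ).law := rfl
    exact (hguniq _ e1).trans (hguniq _ e2).symm
  -- `φbar ∘ ψ = id`
  have h2 : (φbar φ).comp ψ = AlgHom.id A C' := by
    obtain ⟨g, -, hguniq⟩ := hγ' _ γ'
    have e1 : PolLaw.postcomp ((φbar φ).comp ψ).toLinearMap γ'.law = γ'.law := by
      ext S _ _ z'
      show ((φbar φ).comp ψ).toLinearMap.lTensor S (γ'.law.toFun' S z') = γ'.law.toFun' S z'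
      have : ((φbar φ).comp ψ).toLinearMap = (φbar φ).toLinearMap ∘ₗ ψ.toLinearMap := rfl
      rw [this, LinearMap.lTensor_comp, LinearMap.comp_apply, hψ_apply,
        ← sec_spec π hπ S z', hγ'', descLaw_apply, ← LinearMap.comp_apply, ← LinearMap.lTensor_comp]
      have : (φbar φ).toLinearMap ∘ₗ (qmap φ).toLinearMap = φ.toLinearMap := by
        apply LinearMap.ext
        intro c
        rfl
      rw [this, hφ_apply γ γ' π φ hφ]
    have e2 : PolLaw.postcomp (AlgHom.id A C').toLinearMap γ'.law = γ'.law := by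
      ext S _ _ z'
      show (AlgHom.id A C').toLinearMap.lTensor S (γ'.law.toFun' S z') = _
      have : (AlgHom.id A C').toLinearMap = LinearMap.id := rfl
      rw [this, LinearMap.lTensor_id]
      rfl
    exact (hguniq _ e1).trans (hguniq _ e2).symm
  intro c'
  obtain ⟨c, hc⟩ := Ideal.Quotient.mk_surjective (ψ c')
  refine ⟨c, ?_⟩
  have := DFunLike.congr_fun h2 c'
  simp only [AlgHom.comp_apply, AlgHom.id_apply] at this
  rw [← this, ← hc]
  rfl

end surj

end Groth.Agent.Lib.Helper15.GammaSurj
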