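import Mathlib

/-!
# Bounding the number of connected components of `Spec T` by a degree function on idempotents
(helper15)
-/

set_option autoImplicit false
universe u

namespace Groth.Agent.Lib.Helper15.IdemDegree

open PrimeSpectrum

variable {T : Type u} [CommRing T] (deg : T → ℕ) (d : ℕ)
  (H0 : ∀ e : T, IsIdempotentElem e → deg e = 0 → e = 0)
  (H1 : ∀ e e' : T, IsIdempotentElem e → IsIdempotentElem e' → e * e' = 0 →
    deg (e + e') = deg e + deg e')
  (H2 : deg 1 = d)

theorem sub_idem {e f : T} (he : IsIdempotentElem e) (hf : IsIdempotentElem f) (hfe : f * e = f) :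
    IsIdempotentElem (e - f) := by
  unfold IsIdempotentElem at *
  have : e * f = f := by rw [mul_comm]; exact hfe
  calc (e - f) * (e - f) = e * e - e * f - f * e + f * f := by ring
    _ = e - f := by rw [he, hf, this, hfe]; ring

include H1 in
theorem deg_eq_add {e f : T} (he : IsIdempotentElem e) (hf : IsIdempotentElem f)
    (hfe : f * e = f) : deg e = deg f + deg (e - f) := by
  have h := H1 f (e - f) hf (sub_idem he hf hfe) (by
    rw [mul_sub, hfe, hf.eq, sub_self])
  rw [add_sub_cancel] at h
  exact h

include H0 H1 in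
theorem deg_lt {e f : T} (he : IsIdempotentElem e) (hf : IsIdempotentElem f)
    (hfe : f * e = f) (hne : f ≠ e) : deg f < deg e := by
  have h := deg_eq_add deg H1 he hf hfe
  have h2 : deg (e - f) ≠ 0 := by
    intro h0
    have := H0 _ (sub_idem he hf hfe) h0
    exact hne (sub_eq_zero.mp this).symm
  omega

/-- primitive idempotents -/
def IsPrim (e : T) : Prop :=
  IsIdempotentElem e ∧ e ≠ 0 ∧ ∀ f : T, IsIdempotentElem f → f * e = f → f = 0 ∨ f = e

include H0 H1 in
theorem exists_prim (x : PrimeSpectrum T) :
    ∀ (n : ℕ) (e : T), IsIdempotentElem e → deg e = n → e ∉ x.asIdeal →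
      ∃ e' : T, IsPrim e' ∧ e' ∉ x.asIdeal := by
  intro n
  induction n using Nat.strong_induction_on with
  | _ n ih =>
    intro e he hn hx
    by_cases hp : IsPrim e
    · exact ⟨e, hp, hx⟩
    · have he0 : e ≠ 0 := fun h => hx (h ▸ x.asIdeal.zero_mem)
      unfold IsPrim at hp
      push Not at hp
      obtain ⟨f, hf, hfe, hf0, hfne⟩ := hp he he0
      have hsub := sub_idem he hf hfe
      have hsub_e : (e - f) * e = e - f := by
        rw [sub_mul, he.eq, hfe]
      have hsub_ne : e - f ≠ e := by
        intro h
        apply hf0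
        have : e - f = e - 0 := by rw [sub_zero]; exact h
        exact sub_right_injective this
      have hor : f ∉ x.asIdeal ∨ e - f ∉ x.asIdeal := by
        by_contra hcon
        push Not at hcon
        apply hx
        have := x.asIdeal.add_mem hcon.1 hcon.2
        rwa [add_sub_cancel] at this
      rcases hor with h | h
      · exact ih (deg f) (hn ▸ deg_lt deg H0 H1 he hf hfe hfne) f hf rfl h
      · exact ih (deg (e - f)) (hn ▸ deg_lt deg H0 H1 he hsub hsub_e hsub_ne) (e - f) hsub rfl h

omit deg in
theorem mul_eq_of_basicOpen_le {e f : T} (he : IsIdempotentElem e) (hf : IsIdempotentElem f)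
    (h : (basicOpen f : Set (PrimeSpectrum T)) ⊆ basicOpen e) : f * e = f := by
  have h1 : IsIdempotentElem (f * (1 - e)) := hf.mul he.one_sub
  have h2 : basicOpen (f * (1 - e)) = ⊥ := by
    rw [basicOpen_mul]
    apply TopologicalSpace.Opens.ext
    ext p
    simp only [TopologicalSpace.Opens.coe_inf, Set.mem_inter_iff, SetLike.mem_coe,
      TopologicalSpace.Opens.coe_bot, Set.mem_empty_iff_false, iff_false, not_and]
    intro hp hp2
    have hpe : p ∈ basicOpen e := h hp
    rw [mem_basicOpen] at hpe hp2
    have : e * (1 - e) ∈ p.asIdeal := by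
      rw [mul_sub, mul_one, he.eq, sub_self]
      exact p.asIdeal.zero_mem
    rcases p.2.mem_or_mem this with h3 | h3
    · exact hpe h3
    · exact hp2 h3
  rw [basicOpen_eq_bot_iff] at h2
  have h3 := h1.eq_zero_of_isNilpotent h2
  rw [mul_sub, mul_one, sub_eq_zero] at h3
  exact h3.symm

omit deg in
theorem isPreconnected_of_prim {e : T} (hp : IsPrim e) :
    IsPreconnected (basicOpen e : Set (PrimeSpectrum T)) := by
  obtain ⟨he, he0, hprim⟩ := hp
  rw [isPreconnected_iff_subset_of_disjoint]
  intro u v hu hv huv hdisj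
  have hclopen_e : IsClopen (basicOpen e : Set (PrimeSpectrum T)) :=
    PrimeSpectrum.isClopen_iff.mpr ⟨e, he, rfl⟩
  have hU : IsClopen ((basicOpen e : Set (PrimeSpectrum T)) ∩ u) := by
    refine ⟨?_, hclopen_e.2.inter hu⟩
    have : (basicOpen e : Set (PrimeSpectrum T)) ∩ u = (basicOpen e : Set (PrimeSpectrum T)) ∩ vᶜ := by
      ext p
      constructor
      · rintro ⟨hp1, hp2⟩
        refine ⟨hp1, fun hp3 => ?_⟩
        have : p ∈ (basicOpen e : Set (PrimeSpectrum T)) ∩ (u ∩ v) := ⟨hp1, hp2, hp3⟩
        rw [hdisj] at this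
        exact this
      · rintro ⟨hp1, hp2⟩
        refine ⟨hp1, ?_⟩
        rcases huv hp1 with h | h
        · exact h
        · exact absurd h hp2
    rw [this]
    exact hclopen_e.1.inter hv.isClosed_compl
  obtain ⟨f, hf, hfU⟩ := PrimeSpectrum.isClopen_iff.mp hU
  have hfe : f * e = f := mul_eq_of_basicOpen_le he hf (by
    rw [← hfU]
    exact Set.inter_subset_left)
  rcases hprim f hf hfe with h | h
  · right
    intro p hp
    rcases huv hp with h' | h'
    · exfalso
      have : p ∈ (basicOpen e : Set (PrimeSpectrum T)) ∩ u := ⟨hp, h'⟩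
      rw [hfU, h] at this
      have h0 : p ∈ basicOpen (0 : T) := this
      rw [mem_basicOpen] at h0
      exact h0 p.asIdeal.zero_mem
    · exact h'
  · left
    intro p hp
    have : p ∈ (basicOpen e : Set (PrimeSpectrum T)) ∩ u := by
      rw [hfU, h]
      exact hp
    exact this.2

omit deg in
theorem connectedComponent_eq_of_prim {e : T} (hp : IsPrim e) (x : PrimeSpectrum T)
    (hx : e ∉ x.asIdeal) : connectedComponent x = (basicOpen e : Set (PrimeSpectrum T)) := by
  apply Set.Subset.antisymm
  · exact (PrimeSpectrum.isClopen_iff.mpr ⟨e, hp.1, rfl⟩).connectedComponent_subset hx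
  · exact (isPreconnected_of_prim hp).subset_connectedComponent hx

include H1 in
theorem deg_sum {ι : Type} (s : Finset ι) (e : ι → T) (he : ∀ i ∈ s, IsIdempotentElem (e i))
    (horth : ∀ i ∈ s, ∀ j ∈ s, i ≠ j → e i * e j = 0) :
    IsIdempotentElem (∑ i ∈ s, e i) ∧ deg (∑ i ∈ s, e i) = ∑ i ∈ s, deg (e i) := by
  classical
  have hz : deg 0 = 0 := by
    have h := H1 0 0 IsIdempotentElem.zero IsIdempotentElem.zero (zero_mul 0)
    rw [add_zero] at h
    omega
  induction s using Finset.induction_on with
  | empty =>
    rw [Finset.sum_empty, Finset.sum_empty]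
    exact ⟨IsIdempotentElem.zero, hz⟩
  | insert a s ha ih =>
    have ih' := ih (fun i hi => he i (Finset.mem_insert_of_mem hi))
      (fun i hi j hj hij => horth i (Finset.mem_insert_of_mem hi) j (Finset.mem_insert_of_mem hj) hij)
    have hea := he a (Finset.mem_insert_self a s)
    have hmul : e a * ∑ i ∈ s, e i = 0 := by
      rw [Finset.mul_sum]
      apply Finset.sum_eq_zero
      intro i hi
      exact horth a (Finset.mem_insert_self a s) i (Finset.mem_insert_of_mem hi)
        (fun h => ha (h ▸ hi))
    rw [Finset.sum_insert ha, Finset.sum_insert ha]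
    refine ⟨?_, ?_⟩
    · have hmul' : (∑ i ∈ s, e i) * e a = 0 := by rw [mul_comm]; exact hmul
      unfold IsIdempotentElem
      rw [mul_add, add_mul, add_mul, hea.eq, ih'.1.eq, hmul, hmul', add_zero, zero_add]
    · rw [H1 _ _ hea ih'.1 hmul, ih'.2]

include H0 H1 H2 in
theorem not_injective (g : Fin (d + 1) → ConnectedComponents (PrimeSpectrum T)) :
    ¬ Function.Injective g := by
  intro hg
  have hx : ∀ i, ∃ x : PrimeSpectrum T, (x : ConnectedComponents (PrimeSpectrum T)) = g i :=
    fun i => ConnectedComponents.surjective_coe (g i)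
  choose x hxg using hx
  have h1idem : IsIdempotentElem (1 : T) := IsIdempotentElem.one
  have hprim : ∀ i, ∃ e : T, IsPrim e ∧ e ∉ (x i).asIdeal := fun i =>
    exists_prim deg H0 H1 (x i) (deg 1) 1 h1idem rfl (fun h => (x i).2.ne_top
      ((Ideal.eq_top_iff_one _).mpr h))
  choose e hep hex using hprim
  have hcomp : ∀ i, connectedComponent (x i) = (basicOpen (e i) : Set (PrimeSpectrum T)) :=
    fun i => connectedComponent_eq_of_prim (hep i) (x i) (hex i)
  have horth : ∀ i j, i ≠ j → e i * e j = 0 := by
    intro i j hij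
    have hne : connectedComponent (x i) ≠ connectedComponent (x j) := by
      intro h
      apply hij
      apply hg
      rw [← hxg i, ← hxg j]
      exact ConnectedComponents.coe_eq_coe.mpr h
    have hdisj := connectedComponent_disjoint hne
    rw [hcomp, hcomp] at hdisj
    have h2 : basicOpen (e i * e j) = ⊥ := by
      rw [basicOpen_mul]
      apply TopologicalSpace.Opens.ext
      rw [TopologicalSpace.Opens.coe_inf, TopologicalSpace.Opens.coe_bot]
      exact Set.disjoint_iff_inter_eq_empty.mp hdisj
    rw [basicOpen_eq_bot_iff] at h2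
    exact ((hep i).1.mul (hep j).1).eq_zero_of_isNilpotent h2
  obtain ⟨hsum_idem, hsum⟩ := deg_sum deg H1 Finset.univ e (fun i _ => (hep i).1)
    (fun i _ j _ hij => horth i j hij)
  have hle : deg (∑ i, e i) ≤ deg 1 := by
    have := deg_eq_add deg H1 h1idem hsum_idem (mul_one _)
    omega
  have hge : ∀ i, 1 ≤ deg (e i) := by
    intro i
    by_contra h
    have h0 : deg (e i) = 0 := by omega
    exact (hep i).2.1 (H0 _ (hep i).1 h0)
  have hcard : d + 1 ≤ ∑ i : Fin (d + 1), deg (e i) := by
    calc d + 1 = ∑ _i : Fin (d + 1), 1 := by simp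
      _ ≤ ∑ i : Fin (d + 1), deg (e i) := Finset.sum_le_sum fun i _ => hge i
  omega

include H0 H1 H2 in
theorem main : Finite (ConnectedComponents (PrimeSpectrum T)) ∧
    Nat.card (ConnectedComponents (PrimeSpectrum T)) ≤ d := by
  have hfin : Finite (ConnectedComponents (PrimeSpectrum T)) := by
    by_contra hinf
    rw [not_finite_iff_infinite] at hinf
    have emb := Infinite.natEmbedding (ConnectedComponents (PrimeSpectrum T))
    exact not_injective deg d H0 H1 H2 (fun i => emb i.val)
      (emb.injective.comp Fin.val_injective)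
  refine ⟨hfin, ?_⟩
  by_contra hcard
  push Not at hcard
  have := Fintype.ofFinite (ConnectedComponents (PrimeSpectrum T))
  rw [Nat.card_eq_fintype_card] at hcard
  have hle : Fintype.card (Fin (d + 1)) ≤ Fintype.card (ConnectedComponents (PrimeSpectrum T)) := by
    rw [Fintype.card_fin]
    omega
  obtain ⟨emb⟩ := Function.Embedding.nonempty_of_card_le hle
  exact not_injective deg d H0 H1 H2 emb emb.injective

end Groth.Agent.Lib.Helper15.IdemDegree
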