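import Mathlib
import Groth.Prelude.Def_PolLaw
import Groth.Prelude.Def_PolLaw2

/-!
# Multiplicative laws on a product over a connected base (helper15)
-/

set_option autoImplicit false
universe u
open scoped TensorProduct
open Polynomial

namespace Groth.Agent.Lib.Helper15.LawProduct

section poly

variable {A : Type u} [CommRing A]

theorem idem_trivial [ConnectedSpace (PrimeSpectrum A)] {y : A} (hy : IsIdempotentElem y) :
    y = 0 ∨ y = 1 := by
  have hcl : IsClopen (PrimeSpectrum.basicOpen y : Set (PrimeSpectrum A)) :=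
    PrimeSpectrum.isClopen_iff.mpr ⟨y, hy, rfl⟩
  rcases _root_.isClopen_iff.mp hcl with h | h
  · left
    apply PrimeSpectrum.basicOpen_injOn_isIdempotentElem hy IsIdempotentElem.zero
    apply SetLike.coe_injective
    rw [h]; simp
  · right
    apply PrimeSpectrum.basicOpen_injOn_isIdempotentElem hy IsIdempotentElem.one
    apply SetLike.coe_injective
    rw [h]; simp

theorem nontrivial_of_connected [ConnectedSpace (PrimeSpectrum A)] : Nontrivial A := by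
  obtain ⟨p⟩ := (inferInstance : Nonempty (PrimeSpectrum A))
  exact ⟨⟨0, 1, fun h => p.2.ne_top ((Ideal.eq_top_iff_one _).mpr (h ▸ p.asIdeal.zero_mem))⟩⟩

theorem aeval_CX (f : A[X]) :
    Polynomial.aeval (Polynomial.C (Polynomial.X : A[X]) : A[X][X]) f = Polynomial.C f := by
  have := Polynomial.aeval_algHom_apply (Polynomial.CAlgHom (R := A) (A := A[X])) (X : A[X]) f
  rw [Polynomial.CAlgHom_apply] at this
  rw [this, Polynomial.aeval_X_left_apply, Polynomial.CAlgHom_apply]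

theorem coeff_aeval_X (f : A[X]) (k : ℕ) :
    (Polynomial.aeval (Polynomial.X : A[X][X]) f).coeff k = Polynomial.C (f.coeff k) := by
  induction f using Polynomial.induction_on' with
  | add p q hp hq => rw [map_add, Polynomial.coeff_add, hp, hq, Polynomial.coeff_add, map_add]
  | monomial j a =>
    rw [Polynomial.aeval_monomial, Polynomial.coeff_monomial]
    rw [show algebraMap A A[X][X] a = Polynomial.C (Polynomial.C a) from rfl,
      Polynomial.coeff_C_mul, Polynomial.coeff_X_pow]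
    split_ifs with h1 h2 h2
    · rw [mul_one]
    · exact absurd h1.symm h2
    · exact absurd h2.symm h1
    · rw [mul_zero, map_zero]

theorem coeff_aeval_CX_mul_X (f : A[X]) (k : ℕ) :
    (Polynomial.aeval (Polynomial.C (Polynomial.X : A[X]) * Polynomial.X : A[X][X]) f).coeff k =
      Polynomial.C (f.coeff k) * Polynomial.X ^ k := by
  induction f using Polynomial.induction_on' with
  | add p q hp hq =>
    rw [map_add, Polynomial.coeff_add, hp, hq, Polynomial.coeff_add, map_add, add_mul]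
  | monomial j a =>
    rw [Polynomial.aeval_monomial, Polynomial.coeff_monomial, mul_pow, ← Polynomial.C_pow]
    rw [show algebraMap A A[X][X] a = Polynomial.C (Polynomial.C a) from rfl, ← mul_assoc,
      ← Polynomial.C_mul, Polynomial.coeff_C_mul, Polynomial.coeff_X_pow]
    split_ifs with h1 h2 h2
    · rw [mul_one, h1]
    · exact absurd h1.symm h2
    · exact absurd h2.symm h1
    · rw [mul_zero, map_zero, zero_mul]

/-- a "multiplicative" polynomial over a connected ring is a power of `X` -/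
theorem eq_X_pow_of_mult [ConnectedSpace (PrimeSpectrum A)] (f : A[X]) (h1 : f.eval 1 = 1)
    (hmul : Polynomial.aeval (Polynomial.C (Polynomial.X : A[X]) : A[X][X]) f *
        Polynomial.aeval (Polynomial.X : A[X][X]) f =
      Polynomial.aeval (Polynomial.C (Polynomial.X : A[X]) * Polynomial.X : A[X][X]) f) :
    ∃ k : ℕ, f = Polynomial.X ^ k := by
  haveI := nontrivial_of_connected (A := A)
  have hk : ∀ k : ℕ, f * Polynomial.C (f.coeff k) = Polynomial.C (f.coeff k) * Polynomial.X ^ k := by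
    intro k
    have := congrArg (fun p : A[X][X] => p.coeff k) hmul
    beta_reduce at this
    rw [aeval_CX, Polynomial.coeff_C_mul, coeff_aeval_X, coeff_aeval_CX_mul_X] at this
    exact this
  have hjk : ∀ j k : ℕ, f.coeff j * f.coeff k = if j = k then f.coeff k else 0 := by
    intro j k
    have := congrArg (fun p : A[X] => p.coeff j) (hk k)
    beta_reduce at this
    rw [Polynomial.coeff_mul_C, Polynomial.coeff_C_mul, Polynomial.coeff_X_pow] at this
    rw [this]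
    split_ifs <;> simp
  have hidem : ∀ k, f.coeff k = 0 ∨ f.coeff k = 1 := by
    intro k
    apply idem_trivial
    have := hjk k k
    rw [if_pos rfl] at this
    exact this
  have hex : ∃ k, f.coeff k = 1 := by
    by_contra hne
    push Not at hne
    have : f = 0 := by
      apply Polynomial.ext
      intro k
      rcases hidem k with h | h
      · rw [h, Polynomial.coeff_zero]
      · exact absurd h (hne k)
    rw [this, Polynomial.eval_zero] at h1
    exact zero_ne_one h1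
  obtain ⟨k₀, hk₀⟩ := hex
  refine ⟨k₀, ?_⟩
  apply Polynomial.ext
  intro j
  rw [Polynomial.coeff_X_pow]
  split_ifs with h
  · rw [h, hk₀]
  · have := hjk j k₀
    rw [if_neg h, hk₀, mul_one] at this
    exact this

end poly

section family

variable {A : Type u} [CommRing A] {B : Type u} [CommRing B] [Algebra A B] {d : ℕ}
  (F : PolLaw.MulLaw A B A d)

/-- the value of the law as an element of the test algebra -/
noncomputable def val (S : Type u) [CommSemiring S] [Algebra A S] (z : S ⊗[A] B) : S :=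
  Algebra.TensorProduct.rid A A S (F.law.toFun' S z)

theorem rid_rTensor {S S' : Type u} [CommSemiring S] [Algebra A S] [CommSemiring S'] [Algebra A S']
    (φ : S →ₐ[A] S') (y : S ⊗[A] A) :
    Algebra.TensorProduct.rid A A S' (φ.toLinearMap.rTensor A y) =
      φ (Algebra.TensorProduct.rid A A S y) := by
  induction y using TensorProduct.induction_on with
  | zero => simp
  | tmul s a => simp
  | add x y hx hy => rw [map_add, map_add, hx, hy, map_add, map_add]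

theorem val_compat {S S' : Type u} [CommSemiring S] [Algebra A S] [CommSemiring S'] [Algebra A S']
    (φ : S →ₐ[A] S') (z : S ⊗[A] B) :
    φ (val F S z) = val F S' (φ.toLinearMap.rTensor B z) := by
  unfold val
  rw [← rid_rTensor, PolynomialLaw.isCompat_apply' (f := F.law)]

theorem val_mul (S : Type u) [CommSemiring S] [Algebra A S] (z z' : S ⊗[A] B) :
    val F S (z * z') = val F S z * val F S z' := by
  unfold val
  rw [(F.mult S).2, map_mul]

theorem val_one (S : Type u) [CommSemiring S] [Algebra A S] : val F S 1 = 1 := by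
  unfold val
  rw [(F.mult S).1, map_one]

theorem toFun_eq_val (S : Type u) [CommSemiring S] [Algebra A S] (z : S ⊗[A] B) :
    F.law.toFun' S z = (val F S z) ⊗ₜ[A] (1 : A) := by
  unfold val
  rw [← Algebra.TensorProduct.rid_symm_apply (R := A) (S := A), AlgEquiv.symm_apply_apply]

theorem exists_pow_of_mult_family [ConnectedSpace (PrimeSpectrum A)]
    (ε : ∀ (S : Type u) [CommSemiring S] [Algebra A S], S → S ⊗[A] B)
    (hnat : ∀ (S S' : Type u) [CommSemiring S] [Algebra A S] [CommSemiring S'] [Algebra A S']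
      (φ : S →ₐ[A] S') (s : S), φ.toLinearMap.rTensor B (ε S s) = ε S' (φ s))
    (hmul : ∀ (S : Type u) [CommSemiring S] [Algebra A S] (s s' : S),
      ε S (s * s') = ε S s * ε S s')
    (hone : ∀ (S : Type u) [CommSemiring S] [Algebra A S], ε S 1 = 1) :
    ∃ k : ℕ, ∀ (S : Type u) [CommSemiring S] [Algebra A S] (s : S),
      F.law.toFun' S (ε S s) = (s ^ k) ⊗ₜ[A] (1 : A) := by
  set f : A[X] := val F A[X] (ε A[X] X) with hf
  have hval : ∀ (S : Type u) [CommSemiring S] [Algebra A S] (s : S),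
      val F S (ε S s) = Polynomial.aeval s f := by
    intro S _ _ s
    have := val_compat F (Polynomial.aeval s : A[X] →ₐ[A] S) (ε A[X] X)
    rw [hnat, Polynomial.aeval_X] at this
    rw [← this]
  have h1 : f.eval 1 = 1 := by
    have := hval A 1
    rw [hone, val_one, Polynomial.coe_aeval_eq_eval] at this
    exact this.symm
  have h2 : Polynomial.aeval (Polynomial.C (Polynomial.X : A[X]) : A[X][X]) f *
        Polynomial.aeval (Polynomial.X : A[X][X]) f =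
      Polynomial.aeval (Polynomial.C (Polynomial.X : A[X]) * Polynomial.X : A[X][X]) f := by
    rw [← hval, ← hval, ← hval, hmul, val_mul]
  obtain ⟨k, hk⟩ := eq_X_pow_of_mult f h1 h2
  refine ⟨k, fun S _ _ s => ?_⟩
  rw [toFun_eq_val, hval, hk, map_pow, Polynomial.aeval_X]

end family

section prod

variable (A : Type u) [CommRing A] (B₁ : Type u) [CommRing B₁] [Algebra A B₁]
  (B₂ : Type u) [CommRing B₂] [Algebra A B₂]

section elements

variable (S : Type u) [CommSemiring S] [Algebra A S]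

/-- `1 ⊗ (1,0)` -/
noncomputable def E₁ : S ⊗[A] (B₁ × B₂) := (1 : S) ⊗ₜ[A] ((1, 0) : B₁ × B₂)
/-- `1 ⊗ (0,1)` -/
noncomputable def E₂ : S ⊗[A] (B₁ × B₂) := (1 : S) ⊗ₜ[A] ((0, 1) : B₁ × B₂)
/-- `S ⊗ B₁ → S ⊗ (B₁ × B₂)` -/
noncomputable def ι₁ : S ⊗[A] B₁ →ₗ[A] S ⊗[A] (B₁ × B₂) := (LinearMap.inl A B₁ B₂).lTensor S
/-- `S ⊗ B₂ → S ⊗ (B₁ × B₂)` -/
noncomputable def ι₂ : S ⊗[A] B₂ →ₗ[A] S ⊗[A] (B₁ × B₂) := (LinearMap.inr A B₁ B₂).lTensor S
/-- `s ⊗ (1,0) + 1 ⊗ (0,1)` -/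
noncomputable def eps₁ (s : S) : S ⊗[A] (B₁ × B₂) :=
  s ⊗ₜ[A] ((1, 0) : B₁ × B₂) + (1 : S) ⊗ₜ[A] ((0, 1) : B₁ × B₂)
/-- `1 ⊗ (1,0) + s ⊗ (0,1)` -/
noncomputable def eps₂ (s : S) : S ⊗[A] (B₁ × B₂) :=
  (1 : S) ⊗ₜ[A] ((1, 0) : B₁ × B₂) + s ⊗ₜ[A] ((0, 1) : B₁ × B₂)

variable {A B₁ B₂ S}

theorem ι₁_tmul (s : S) (b : B₁) : ι₁ A B₁ B₂ S (s ⊗ₜ[A] b) = s ⊗ₜ[A] ((b, 0) : B₁ × B₂) := by
  simp [ι₁]

theorem ι₂_tmul (s : S) (b : B₂) : ι₂ A B₁ B₂ S (s ⊗ₜ[A] b) = s ⊗ₜ[A] ((0, b) : B₁ × B₂) := by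
  simp [ι₂]

theorem ι₁_mul_E₂ (x : S ⊗[A] B₁) : ι₁ A B₁ B₂ S x * E₂ A B₁ B₂ S = 0 := by
  induction x using TensorProduct.induction_on with
  | zero => simp
  | tmul s b => simp [ι₁_tmul, E₂, Algebra.TensorProduct.tmul_mul_tmul, Prod.mk_zero_zero]
  | add x y hx hy => rw [map_add, add_mul, hx, hy, add_zero]

theorem E₁_mul_ι₂ (x : S ⊗[A] B₂) : E₁ A B₁ B₂ S * ι₂ A B₁ B₂ S x = 0 := by
  induction x using TensorProduct.induction_on with
  | zero => simp
  | tmul s b => simp [ι₂_tmul, E₁, Algebra.TensorProduct.tmul_mul_tmul, Prod.mk_zero_zero]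
  | add x y hx hy => rw [map_add, mul_add, hx, hy, add_zero]

theorem ι₁_mul_E₁ (x : S ⊗[A] B₁) : ι₁ A B₁ B₂ S x * E₁ A B₁ B₂ S = ι₁ A B₁ B₂ S x := by
  induction x using TensorProduct.induction_on with
  | zero => simp
  | tmul s b => simp [ι₁_tmul, E₁, Algebra.TensorProduct.tmul_mul_tmul]
  | add x y hx hy => rw [map_add, add_mul, hx, hy]

theorem E₂_mul_ι₂ (x : S ⊗[A] B₂) : E₂ A B₁ B₂ S * ι₂ A B₁ B₂ S x = ι₂ A B₁ B₂ S x := by
  induction x using TensorProduct.induction_on with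
  | zero => simp
  | tmul s b => simp [ι₂_tmul, E₂, Algebra.TensorProduct.tmul_mul_tmul]
  | add x y hx hy => rw [map_add, mul_add, hx, hy]

theorem ι₁_mul_ι₂ (x : S ⊗[A] B₁) (y : S ⊗[A] B₂) : ι₁ A B₁ B₂ S x * ι₂ A B₁ B₂ S y = 0 := by
  rw [← ι₁_mul_E₁, mul_assoc, E₁_mul_ι₂, mul_zero]

theorem ι₁_mul (x y : S ⊗[A] B₁) : ι₁ A B₁ B₂ S x * ι₁ A B₁ B₂ S y = ι₁ A B₁ B₂ S (x * y) := by
  induction x using TensorProduct.induction_on with
  | zero => simp
  | tmul s b =>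
    induction y using TensorProduct.induction_on with
    | zero => simp
    | tmul s' b' => simp [ι₁_tmul, Algebra.TensorProduct.tmul_mul_tmul]
    | add x y hx hy => rw [map_add, mul_add, hx, hy, mul_add, map_add]
  | add x x' hx hx' => rw [map_add, add_mul, hx, hx', add_mul, map_add]

theorem ι₂_mul (x y : S ⊗[A] B₂) : ι₂ A B₁ B₂ S x * ι₂ A B₁ B₂ S y = ι₂ A B₁ B₂ S (x * y) := by
  induction x using TensorProduct.induction_on with
  | zero => simp
  | tmul s b =>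
    induction y using TensorProduct.induction_on with
    | zero => simp
    | tmul s' b' => simp [ι₂_tmul, Algebra.TensorProduct.tmul_mul_tmul]
    | add x y hx hy => rw [map_add, mul_add, hx, hy, mul_add, map_add]
  | add x x' hx hx' => rw [map_add, add_mul, hx, hx', add_mul, map_add]

theorem E₂_mul_E₂ : E₂ A B₁ B₂ S * E₂ A B₁ B₂ S = E₂ A B₁ B₂ S := by
  simp [E₂, Algebra.TensorProduct.tmul_mul_tmul]

theorem E₁_mul_E₁ : E₁ A B₁ B₂ S * E₁ A B₁ B₂ S = E₁ A B₁ B₂ S := by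
  simp [E₁, Algebra.TensorProduct.tmul_mul_tmul]

theorem E₁_mul_E₂ : E₁ A B₁ B₂ S * E₂ A B₁ B₂ S = 0 := by
  simp [E₁, E₂, Algebra.TensorProduct.tmul_mul_tmul, Prod.mk_zero_zero]

theorem E₁_add_E₂ : E₁ A B₁ B₂ S + E₂ A B₁ B₂ S = 1 := by
  rw [E₁, E₂, ← TensorProduct.tmul_add, Algebra.TensorProduct.one_def]
  congr 1
  simp [Prod.ext_iff]

theorem ι₁_one : ι₁ A B₁ B₂ S 1 = E₁ A B₁ B₂ S := by
  rw [Algebra.TensorProduct.one_def, ι₁_tmul, E₁]

theorem ι₂_one : ι₂ A B₁ B₂ S 1 = E₂ A B₁ B₂ S := by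
  rw [Algebra.TensorProduct.one_def, ι₂_tmul, E₂]

theorem eps₁_eq (s : S) : eps₁ A B₁ B₂ S s = ι₁ A B₁ B₂ S (s ⊗ₜ[A] (1 : B₁)) + E₂ A B₁ B₂ S := by
  rw [ι₁_tmul, eps₁, E₂]

theorem eps₂_eq (s : S) : eps₂ A B₁ B₂ S s = E₁ A B₁ B₂ S + ι₂ A B₁ B₂ S (s ⊗ₜ[A] (1 : B₂)) := by
  rw [ι₂_tmul, eps₂, E₁]

theorem eps₁_mul (s s' : S) :
    eps₁ A B₁ B₂ S (s * s') = eps₁ A B₁ B₂ S s * eps₁ A B₁ B₂ S s' := by
  simp only [eps₁, add_mul, mul_add, Algebra.TensorProduct.tmul_mul_tmul, Prod.mk_mul_mk, mul_one,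
    mul_zero, one_mul, zero_mul, Prod.mk_zero_zero, TensorProduct.tmul_zero, add_zero, zero_add]

theorem eps₂_mul (s s' : S) :
    eps₂ A B₁ B₂ S (s * s') = eps₂ A B₁ B₂ S s * eps₂ A B₁ B₂ S s' := by
  simp only [eps₂, add_mul, mul_add, Algebra.TensorProduct.tmul_mul_tmul, Prod.mk_mul_mk, mul_one,
    mul_zero, one_mul, zero_mul, Prod.mk_zero_zero, TensorProduct.tmul_zero, add_zero, zero_add]

theorem eps₁_one : eps₁ A B₁ B₂ S 1 = 1 := by
  have := E₁_add_E₂ (A := A) (B₁ := B₁) (B₂ := B₂) (S := S)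
  rw [E₁, E₂] at this
  rw [← this]
  rfl

theorem eps₂_one : eps₂ A B₁ B₂ S 1 = 1 := by
  have := E₁_add_E₂ (A := A) (B₁ := B₁) (B₂ := B₂) (S := S)
  rw [E₁, E₂] at this
  rw [← this]
  rfl

theorem eps₁_mul_eps₂ (s : S) :
    eps₁ A B₁ B₂ S s * eps₂ A B₁ B₂ S s = s ⊗ₜ[A] (1 : B₁ × B₂) := by
  simp only [eps₁, eps₂, add_mul, mul_add, Algebra.TensorProduct.tmul_mul_tmul, Prod.mk_mul_mk,
    mul_one, mul_zero, one_mul, zero_mul, Prod.mk_zero_zero, TensorProduct.tmul_zero, add_zero,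
    zero_add]
  rw [← TensorProduct.tmul_add]
  congr 1
  simp [Prod.ext_iff]

/-- decomposition of an element of `S ⊗ (B₁ × B₂)` -/
theorem decomp (x : S ⊗[A] (B₁ × B₂)) :
    x = ι₁ A B₁ B₂ S ((LinearMap.fst A B₁ B₂).lTensor S x) +
      ι₂ A B₁ B₂ S ((LinearMap.snd A B₁ B₂).lTensor S x) := by
  induction x using TensorProduct.induction_on with
  | zero => simp
  | tmul s b =>
    rw [LinearMap.lTensor_tmul, LinearMap.lTensor_tmul, ι₁_tmul, ι₂_tmul, ← TensorProduct.tmul_add]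
    congr 1
    simp [Prod.ext_iff]
  | add x y hx hy =>
    rw [map_add, map_add, map_add, map_add]
    nth_rewrite 1 [hx, hy]
    abel

end elements

section laws

variable {A B₁ B₂} {d : ℕ} (F : PolLaw.MulLaw A (B₁ × B₂) A d)

theorem rTensor_lTensor' {M N : Type u} [AddCommGroup M] [Module A M] [AddCommGroup N] [Module A N]
    {S S' : Type u} [CommSemiring S] [Algebra A S] [CommSemiring S'] [Algebra A S']
    (φ : S →ₐ[A] S') (g : M →ₗ[A] N) (x : S ⊗[A] M) :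
    φ.toLinearMap.rTensor N (g.lTensor S x) = g.lTensor S' (φ.toLinearMap.rTensor M x) := by
  rw [← LinearMap.comp_apply, LinearMap.rTensor_comp_lTensor, ← LinearMap.lTensor_comp_rTensor,
    LinearMap.comp_apply]

theorem smul_eq_tmul_mul {M : Type u} [CommRing M] [Algebra A M] {S : Type u} [CommSemiring S]
    [Algebra A S] (s : S) (y : S ⊗[A] M) : s • y = y * (s ⊗ₜ[A] (1 : M)) := by
  rw [mul_comm, Algebra.smul_def, Algebra.TensorProduct.algebraMap_apply]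
  rfl

/-- the first factor law -/
noncomputable def plaw₁ : B₁ →ₚₗ[A] A where
  toFun' S _ _ := fun x => F.law.toFun' S (ι₁ A B₁ B₂ S x + E₂ A B₁ B₂ S)
  isCompat' {S} _ _ {S'} _ _ φ := by
    funext x
    simp only [Function.comp_apply]
    rw [PolynomialLaw.isCompat_apply' (f := F.law), map_add]
    congr 2
    · exact rTensor_lTensor' φ _ x
    · simp [E₂]

/-- the second factor law -/
noncomputable def plaw₂ : B₂ →ₚₗ[A] A where
  toFun' S _ _ := fun x => F.law.toFun' S (E₁ A B₁ B₂ S + ι₂ A B₁ B₂ S x)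
  isCompat' {S} _ _ {S'} _ _ φ := by
    funext x
    simp only [Function.comp_apply]
    rw [PolynomialLaw.isCompat_apply' (f := F.law), map_add]
    congr 2
    · simp [E₁]
    · exact rTensor_lTensor' φ _ x

theorem plaw₁_mult : PolLaw.IsMult (plaw₁ F) := by
  intro S _ _
  constructor
  · show F.law.toFun' S (ι₁ A B₁ B₂ S 1 + E₂ A B₁ B₂ S) = 1
    rw [ι₁_one, E₁_add_E₂, (F.mult S).1]
  · intro x y
    show F.law.toFun' S (ι₁ A B₁ B₂ S (x * y) + E₂ A B₁ B₂ S) =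
      F.law.toFun' S (ι₁ A B₁ B₂ S x + E₂ A B₁ B₂ S) * F.law.toFun' S (ι₁ A B₁ B₂ S y + E₂ A B₁ B₂ S)
    rw [← (F.mult S).2]
    congr 1
    rw [add_mul, mul_add, mul_add, ι₁_mul, ι₁_mul_E₂, E₂_mul_E₂, mul_comm (E₂ A B₁ B₂ S), ι₁_mul_E₂,
      add_zero, zero_add]

theorem plaw₂_mult : PolLaw.IsMult (plaw₂ F) := by
  intro S _ _
  constructor
  · show F.law.toFun' S (E₁ A B₁ B₂ S + ι₂ A B₁ B₂ S 1) = 1
    rw [ι₂_one, E₁_add_E₂, (F.mult S).1]
  · intro x y
    show F.law.toFun' S (E₁ A B₁ B₂ S + ι₂ A B₁ B₂ S (x * y)) =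
      F.law.toFun' S (E₁ A B₁ B₂ S + ι₂ A B₁ B₂ S x) * F.law.toFun' S (E₁ A B₁ B₂ S + ι₂ A B₁ B₂ S y)
    rw [← (F.mult S).2]
    congr 1
    rw [add_mul, mul_add, mul_add, ι₂_mul, E₁_mul_ι₂, E₁_mul_E₁, mul_comm _ (E₁ A B₁ B₂ S), E₁_mul_ι₂,
      add_zero, zero_add]

theorem plaw₁_homog (d₁ : ℕ)
    (h₁ : ∀ (S : Type u) [CommSemiring S] [Algebra A S] (s : S),
      F.law.toFun' S (eps₁ A B₁ B₂ S s) = (s ^ d₁) ⊗ₜ[A] (1 : A)) :
    PolLaw.IsHomog (plaw₁ F) d₁ := by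
  intro S _ _ s x
  show F.law.toFun' S (ι₁ A B₁ B₂ S (s • x) + E₂ A B₁ B₂ S) =
    s ^ d₁ • F.law.toFun' S (ι₁ A B₁ B₂ S x + E₂ A B₁ B₂ S)
  have h : ι₁ A B₁ B₂ S (s • x) + E₂ A B₁ B₂ S =
      (ι₁ A B₁ B₂ S x + E₂ A B₁ B₂ S) * eps₁ A B₁ B₂ S s := by
    rw [eps₁_eq, add_mul, mul_add, mul_add, ι₁_mul, ι₁_mul_E₂, E₂_mul_E₂,
      mul_comm (E₂ A B₁ B₂ S), ι₁_mul_E₂, add_zero, zero_add, ← smul_eq_tmul_mul]
  rw [h, (F.mult S).2, h₁, smul_eq_tmul_mul]

theorem plaw₂_homog (d₂ : ℕ)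
    (h₂ : ∀ (S : Type u) [CommSemiring S] [Algebra A S] (s : S),
      F.law.toFun' S (eps₂ A B₁ B₂ S s) = (s ^ d₂) ⊗ₜ[A] (1 : A)) :
    PolLaw.IsHomog (plaw₂ F) d₂ := by
  intro S _ _ s x
  show F.law.toFun' S (E₁ A B₁ B₂ S + ι₂ A B₁ B₂ S (s • x)) =
    s ^ d₂ • F.law.toFun' S (E₁ A B₁ B₂ S + ι₂ A B₁ B₂ S x)
  have h : E₁ A B₁ B₂ S + ι₂ A B₁ B₂ S (s • x) =
      (E₁ A B₁ B₂ S + ι₂ A B₁ B₂ S x) * eps₂ A B₁ B₂ S s := by
    rw [eps₂_eq, add_mul, mul_add, mul_add, ι₂_mul, E₁_mul_ι₂, E₁_mul_E₁,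
      mul_comm _ (E₁ A B₁ B₂ S), E₁_mul_ι₂, add_zero, zero_add, ← smul_eq_tmul_mul]
  rw [h, (F.mult S).2, h₂, smul_eq_tmul_mul]

theorem factor (S : Type u) [CommSemiring S] [Algebra A S] (x : S ⊗[A] (B₁ × B₂)) :
    F.law.toFun' S x =
      (plaw₁ F).toFun' S ((LinearMap.fst A B₁ B₂).lTensor S x) *
        (plaw₂ F).toFun' S ((LinearMap.snd A B₁ B₂).lTensor S x) := by
  show F.law.toFun' S x =
    F.law.toFun' S (ι₁ A B₁ B₂ S ((LinearMap.fst A B₁ B₂).lTensor S x) + E₂ A B₁ B₂ S) *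
      F.law.toFun' S (E₁ A B₁ B₂ S + ι₂ A B₁ B₂ S ((LinearMap.snd A B₁ B₂).lTensor S x))
  rw [← (F.mult S).2]
  congr 1
  rw [add_mul, mul_add, mul_add, ι₁_mul_E₁, ι₁_mul_ι₂, mul_comm (E₂ A B₁ B₂ S) (E₁ A B₁ B₂ S),
    E₁_mul_E₂, E₂_mul_ι₂, add_zero, zero_add]
  exact decomp x

theorem X_pow_tmul_inj [Nontrivial A] {m n : ℕ}
    (h : ((X : A[X]) ^ m) ⊗ₜ[A] (1 : A) = ((X : A[X]) ^ n) ⊗ₜ[A] (1 : A)) : m = n := by
  have := congrArg (Algebra.TensorProduct.rid A A A[X]) h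
  rw [Algebra.TensorProduct.rid_tmul, Algebra.TensorProduct.rid_tmul, one_smul, one_smul] at this
  have h2 := congrArg Polynomial.natDegree this
  rwa [Polynomial.natDegree_X_pow, Polynomial.natDegree_X_pow] at h2

theorem rTensor_eps₁ {S S' : Type u} [CommSemiring S] [Algebra A S] [CommSemiring S'] [Algebra A S']
    (φ : S →ₐ[A] S') (s : S) :
    φ.toLinearMap.rTensor (B₁ × B₂) (eps₁ A B₁ B₂ S s) = eps₁ A B₁ B₂ S' (φ s) := by
  simp [eps₁]

theorem rTensor_eps₂ {S S' : Type u} [CommSemiring S] [Algebra A S] [CommSemiring S'] [Algebra A S']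
    (φ : S →ₐ[A] S') (s : S) :
    φ.toLinearMap.rTensor (B₁ × B₂) (eps₂ A B₁ B₂ S s) = eps₂ A B₁ B₂ S' (φ s) := by
  simp [eps₂]

theorem fst_eps₂ (S : Type u) [CommSemiring S] [Algebra A S] (s : S) :
    (LinearMap.fst A B₁ B₂).lTensor S (eps₂ A B₁ B₂ S s) = 1 := by
  simp [eps₂, Algebra.TensorProduct.one_def]

theorem snd_eps₂ (S : Type u) [CommSemiring S] [Algebra A S] (s : S) :
    (LinearMap.snd A B₁ B₂).lTensor S (eps₂ A B₁ B₂ S s) = s • 1 := by
  simp [eps₂, Algebra.TensorProduct.one_def, TensorProduct.smul_tmul']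

theorem fst_eps₁ (S : Type u) [CommSemiring S] [Algebra A S] (s : S) :
    (LinearMap.fst A B₁ B₂).lTensor S (eps₁ A B₁ B₂ S s) = s • 1 := by
  simp [eps₁, Algebra.TensorProduct.one_def, TensorProduct.smul_tmul']

theorem snd_eps₁ (S : Type u) [CommSemiring S] [Algebra A S] (s : S) :
    (LinearMap.snd A B₁ B₂).lTensor S (eps₁ A B₁ B₂ S s) = 1 := by
  simp [eps₁, Algebra.TensorProduct.one_def]

theorem main [ConnectedSpace (PrimeSpectrum A)] :
    ∃ d₁ d₂ : ℕ, d₁ + d₂ = d ∧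
      (∃ (F₁ : PolLaw.MulLaw A B₁ A d₁) (F₂ : PolLaw.MulLaw A B₂ A d₂),
        ∀ (S : Type u) [CommSemiring S] [Algebra A S] (x : S ⊗[A] (B₁ × B₂)),
          F.law.toFun' S x = F₁.law.toFun' S (LinearMap.lTensor S (LinearMap.fst A B₁ B₂) x) *
            F₂.law.toFun' S (LinearMap.lTensor S (LinearMap.snd A B₁ B₂) x)) ∧
      ∀ (e₁ e₂ : ℕ) (G₁ : PolLaw.MulLaw A B₁ A e₁) (G₂ : PolLaw.MulLaw A B₂ A e₂),
        (∀ (S : Type u) [CommSemiring S] [Algebra A S] (x : S ⊗[A] (B₁ × B₂)),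
          F.law.toFun' S x = G₁.law.toFun' S (LinearMap.lTensor S (LinearMap.fst A B₁ B₂) x) *
            G₂.law.toFun' S (LinearMap.lTensor S (LinearMap.snd A B₁ B₂) x)) → e₁ = d₁ ∧ e₂ = d₂ := by
  haveI := nontrivial_of_connected (A := A)
  obtain ⟨d₁, h₁⟩ := exists_pow_of_mult_family F (fun S _ _ s => eps₁ A B₁ B₂ S s)
    (fun S S' _ _ _ _ φ s => rTensor_eps₁ φ s) (fun S _ _ s s' => eps₁_mul s s')
    (fun S _ _ => eps₁_one)
  obtain ⟨d₂, h₂⟩ := exists_pow_of_mult_family F (fun S _ _ s => eps₂ A B₁ B₂ S s)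
    (fun S S' _ _ _ _ φ s => rTensor_eps₂ φ s) (fun S _ _ s s' => eps₂_mul s s')
    (fun S _ _ => eps₂_one)
  refine ⟨d₁, d₂, ?_, ⟨⟨plaw₁ F, plaw₁_homog F d₁ h₁, plaw₁_mult F⟩,
    ⟨plaw₂ F, plaw₂_homog F d₂ h₂, plaw₂_mult F⟩, fun S _ _ x => factor F S x⟩, ?_⟩
  · -- degrees add up
    have e1 := (F.mult A[X]).2 (eps₁ A B₁ B₂ A[X] X) (eps₂ A B₁ B₂ A[X] X)
    rw [eps₁_mul_eps₂, h₁, h₂, Algebra.TensorProduct.tmul_mul_tmul, mul_one, ← pow_add] at e1
    have e2 : ((X : A[X]) ⊗ₜ[A] (1 : B₁ × B₂)) = (X : A[X]) • (1 : A[X] ⊗[A] (B₁ × B₂)) := by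
      rw [Algebra.TensorProduct.one_def, TensorProduct.smul_tmul', smul_eq_mul, mul_one]
    rw [e2, F.homog, (F.mult A[X]).1, Algebra.TensorProduct.one_def, TensorProduct.smul_tmul',
      smul_eq_mul, mul_one] at e1
    exact (X_pow_tmul_inj e1).symm
  · intro e₁ e₂ G₁ G₂ hG
    constructor
    · have e1 := hG A[X] (eps₁ A B₁ B₂ A[X] X)
      rw [h₁, fst_eps₁, snd_eps₁, G₁.homog, (G₁.mult _).1, (G₂.mult _).1, mul_one,
        Algebra.TensorProduct.one_def, TensorProduct.smul_tmul', smul_eq_mul, mul_one] at e1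
      exact (X_pow_tmul_inj e1).symm
    · have e1 := hG A[X] (eps₂ A B₁ B₂ A[X] X)
      rw [h₂, fst_eps₂, snd_eps₂, G₂.homog, (G₁.mult _).1, (G₂.mult _).1, one_mul,
        Algebra.TensorProduct.one_def, TensorProduct.smul_tmul', smul_eq_mul, mul_one] at e1
      exact (X_pow_tmul_inj e1).symm

end laws

end prod

end Groth.Agent.Lib.Helper15.LawProduct
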