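import Mathlib
import Groth.Agent.Lib.Helper15.GammaSurj
import Groth.Agent.Lib.Helper15.LawProduct
import Groth.Agent.Lib.Helper15.IdemDegree

/-!
# The law induced on the image `B ⧸ ker F`; degrees of idempotents; connected components (helper15)
-/

set_option autoImplicit false
universe u
open scoped TensorProduct

namespace Groth.Agent.Lib.Helper15.LawImage

open Groth.Agent.Lib.Helper15.GammaSurj

section image

variable {A : Type u} [CommRing A] {B : Type u} [CommRing B] [Algebra A B]
  {C : Type u} [CommRing C] [Algebra A C] {d : ℕ} (F : PolLaw.MulLaw A B C d)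

/-- the quotient map `B → B ⧸ ker F` -/
noncomputable abbrev πq : B →ₐ[A] B ⧸ PolLaw.ker F.law := Ideal.Quotient.mkₐ A (PolLaw.ker F.law)

theorem πq_surjective : Function.Surjective (πq F) := Ideal.Quotient.mkₐ_surjective A _

theorem add_eq (S : Type u) [CommSemiring S] [Algebra A S] (x : S ⊗[A] B)
    (κ : S ⊗[A] ((PolLaw.ker F.law).restrictScalars A)) :
    F.law.toFun' S (x + ((PolLaw.ker F.law).restrictScalars A).subtype.lTensor S κ) =
      F.law.toFun' S x := by
  induction κ using TensorProduct.induction_on generalizing x with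
  | zero => rw [map_zero, add_zero]
  | tmul s b =>
    rw [LinearMap.lTensor_tmul]
    have h1 : s ⊗ₜ[A] (((PolLaw.ker F.law).restrictScalars A).subtype b) =
        (s ⊗ₜ[A] (1 : B)) * ((1 : S) ⊗ₜ[A] (b : B)) := by
      rw [Algebra.TensorProduct.tmul_mul_tmul, mul_one, one_mul]
      rfl
    rw [h1]
    exact b.2 S x _
  | add κ₁ κ₂ h₁ h₂ =>
    rw [map_add, ← add_assoc, h₂, h₁]

theorem wd_ring (S : Type u) [CommRing S] [Algebra A S] (x x' : S ⊗[A] B)
    (h : (πq F).toLinearMap.lTensor S x = (πq F).toLinearMap.lTensor S x') :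
    F.law.toFun' S x = F.law.toFun' S x' := by
  have hex0 : Function.Exact ((PolLaw.ker F.law).restrictScalars A).subtype (πq F).toLinearMap := by
    intro b
    constructor
    · intro hb
      have hb' : b ∈ PolLaw.ker F.law := Ideal.Quotient.eq_zero_iff_mem.mp hb
      exact ⟨⟨b, hb'⟩, rfl⟩
    · rintro ⟨c, rfl⟩
      exact Ideal.Quotient.eq_zero_iff_mem.mpr c.2
  have hex : Function.Exact (((PolLaw.ker F.law).restrictScalars A).subtype.lTensor S)
      ((πq F).toLinearMap.lTensor S) :=
    lTensor_exact S hex0 (show Function.Surjective (πq F).toLinearMap from πq_surjective F)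
  have h0 : (πq F).toLinearMap.lTensor S (x' - x) = 0 := by rw [map_sub, h, sub_self]
  obtain ⟨κ, hκ⟩ := (hex (x' - x)).mp h0
  have h1 : x' = x + ((PolLaw.ker F.law).restrictScalars A).subtype.lTensor S κ := by
    rw [hκ]
    abel
  rw [h1, add_eq]

theorem wd (S : Type u) [CommSemiring S] [Algebra A S] (x x' : S ⊗[A] B)
    (h : (πq F).toLinearMap.lTensor S x = (πq F).toLinearMap.lTensor S x') :
    F.law.toFun' S x = F.law.toFun' S x' := by
  let e : S →ₐ[A] A ⊗[A] S := (Algebra.TensorProduct.lid A S).symm.toAlgHom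
  let e' : A ⊗[A] S →ₐ[A] S := (Algebra.TensorProduct.lid A S).toAlgHom
  have hee : ∀ (M : Type u) [AddCommGroup M] [Module A M] (z : S ⊗[A] M),
      e'.toLinearMap.rTensor M (e.toLinearMap.rTensor M z) = z := by
    intro M _ _ z
    rw [← LinearMap.comp_apply, ← LinearMap.rTensor_comp]
    have : e'.toLinearMap ∘ₗ e.toLinearMap = LinearMap.id := by
      apply LinearMap.ext
      intro s
      exact (Algebra.TensorProduct.lid A S).apply_symm_apply s
    rw [this, LinearMap.rTensor_id, LinearMap.id_apply]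
  have h1 : (πq F).toLinearMap.lTensor (A ⊗[A] S) (e.toLinearMap.rTensor B x) =
      (πq F).toLinearMap.lTensor (A ⊗[A] S) (e.toLinearMap.rTensor B x') := by
    rw [← rTensor_lTensor, ← rTensor_lTensor, h]
  have h2 := wd_ring F (A ⊗[A] S) _ _ h1
  have h3 := congrArg (e'.toLinearMap.rTensor _) h2
  rw [PolynomialLaw.isCompat_apply' (f := F.law), PolynomialLaw.isCompat_apply' (f := F.law),
    hee, hee] at h3
  exact h3

/-- the law induced on the image -/
noncomputable def Fbar : PolLaw.MulLaw A (B ⧸ PolLaw.ker F.law) C d :=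
  descLaw F (πq F) (πq_surjective F) (AlgHom.id A C)
    (fun S _ _ x x' h => by rw [wd F S x x' h])

theorem Fbar_apply (S : Type u) [CommSemiring S] [Algebra A S] (x : S ⊗[A] B) :
    (Fbar F).law.toFun' S (Algebra.TensorProduct.map (AlgHom.id S S) (πq F) x) =
      F.law.toFun' S x := by
  rw [← PolLaw.lTensor_algHom_apply]
  unfold Fbar
  rw [descLaw_apply]
  have : (AlgHom.id A C).toLinearMap = LinearMap.id := rfl
  rw [this, LinearMap.lTensor_id, LinearMap.id_apply]

theorem ker_Fbar : PolLaw.ker (Fbar F).law = ⊥ := by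
  rw [eq_bot_iff]
  intro bb hbb
  obtain ⟨b, rfl⟩ := Ideal.Quotient.mk_surjective bb
  rw [Ideal.mem_bot, Ideal.Quotient.eq_zero_iff_mem]
  intro S _ _ x w
  rw [← Fbar_apply, ← Fbar_apply F S x, map_add, map_mul, Algebra.TensorProduct.map_tmul,
    AlgHom.id_apply]
  exact hbb S _ _

end image

section degree

variable {A : Type u} [CommRing A] {T : Type u} [CommRing T] [Algebra A T] {d : ℕ}
  (G : PolLaw.MulLaw A T A d)

variable (A) in
/-- the multiplicative family attached to an idempotent -/
noncomputable def eps (e : T) (S : Type u) [CommSemiring S] [Algebra A S] (s : S) : S ⊗[A] T :=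
  (1 : S) ⊗ₜ[A] (1 - e) + s ⊗ₜ[A] e

theorem eps_nat (e : T) (S S' : Type u) [CommSemiring S] [Algebra A S] [CommSemiring S']
    [Algebra A S'] (φ : S →ₐ[A] S') (s : S) :
    φ.toLinearMap.rTensor T (eps A e S s) = eps A e S' (φ s) := by
  unfold eps
  rw [map_add, LinearMap.rTensor_tmul, LinearMap.rTensor_tmul, AlgHom.toLinearMap_apply,
    AlgHom.toLinearMap_apply, map_one]

theorem eps_mul_eps {e e' : T} (he : IsIdempotentElem e) (he' : IsIdempotentElem e')
    (h : e * e' = 0) (S : Type u) [CommSemiring S] [Algebra A S] (s s' : S) :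
    eps A e S s * eps A e' S s' = (1 : S) ⊗ₜ[A] (1 - (e + e')) + s ⊗ₜ[A] e + s' ⊗ₜ[A] e' := by
  unfold eps
  have h' : e' * e = 0 := by rw [mul_comm]; exact h
  rw [add_mul, mul_add, mul_add, Algebra.TensorProduct.tmul_mul_tmul,
    Algebra.TensorProduct.tmul_mul_tmul, Algebra.TensorProduct.tmul_mul_tmul,
    Algebra.TensorProduct.tmul_mul_tmul, one_mul, one_mul, mul_one]
  have e1 : (1 - e) * (1 - e') = 1 - (e + e') := by
    calc (1 - e) * (1 - e') = 1 - e - e' + e * e' := by ring
      _ = 1 - (e + e') := by rw [h]; ring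
  have e2 : (1 - e) * e' = e' := by rw [sub_mul, one_mul, h, sub_zero]
  have e3 : e * (1 - e') = e := by rw [mul_sub, mul_one, h, sub_zero]
  rw [e1, e2, e3, h, TensorProduct.tmul_zero, add_zero]
  abel

theorem eps_mul {e : T} (he : IsIdempotentElem e) (S : Type u) [CommSemiring S] [Algebra A S]
    (s s' : S) : eps A e S (s * s') = eps A e S s * eps A e S s' := by
  unfold eps
  rw [add_mul, mul_add, mul_add, Algebra.TensorProduct.tmul_mul_tmul,
    Algebra.TensorProduct.tmul_mul_tmul, Algebra.TensorProduct.tmul_mul_tmul,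
    Algebra.TensorProduct.tmul_mul_tmul, one_mul, one_mul, mul_one]
  have e1 : (1 - e) * (1 - e) = 1 - e := he.one_sub.eq
  have e2 : (1 - e) * e = 0 := by rw [sub_mul, one_mul, he.eq, sub_self]
  have e3 : e * (1 - e) = 0 := by rw [mul_sub, mul_one, he.eq, sub_self]
  rw [e1, e2, e3, he.eq, TensorProduct.tmul_zero, TensorProduct.tmul_zero, add_zero, zero_add]

theorem eps_one (e : T) (S : Type u) [CommSemiring S] [Algebra A S] : eps A e S (1 : S) = 1 := by
  unfold eps
  rw [← TensorProduct.tmul_add, sub_add_cancel, Algebra.TensorProduct.one_def]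

variable [ConnectedSpace (PrimeSpectrum A)]

theorem exists_deg {e : T} (he : IsIdempotentElem e) :
    ∃ k : ℕ, ∀ (S : Type u) [CommSemiring S] [Algebra A S] (s : S),
      G.law.toFun' S (eps A e S s) = (s ^ k) ⊗ₜ[A] (1 : A) :=
  LawProduct.exists_pow_of_mult_family G (fun S _ _ s => eps A e S s)
    (fun S S' _ _ _ _ φ s => eps_nat e S S' φ s) (fun S _ _ s s' => eps_mul he S s s')
    (fun S _ _ => eps_one e S)

open Classical in
/-- the degree of an idempotent -/
noncomputable def ideg (e : T) : ℕ :=
  if he : IsIdempotentElem e then (exists_deg G he).choose else 0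

theorem ideg_spec {e : T} (he : IsIdempotentElem e) (S : Type u) [CommSemiring S] [Algebra A S]
    (s : S) : G.law.toFun' S (eps A e S s) = (s ^ ideg G e) ⊗ₜ[A] (1 : A) := by
  unfold ideg
  rw [dif_pos he]
  exact (exists_deg G he).choose_spec S s

theorem ideg_unique {e : T} (he : IsIdempotentElem e) (k : ℕ)
    (hk : G.law.toFun' (Polynomial A) (eps A e (Polynomial A) Polynomial.X) =
      ((Polynomial.X : Polynomial A) ^ k) ⊗ₜ[A] (1 : A)) : ideg G e = k := by
  have := LawProduct.nontrivial_of_connected (A := A)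
  have h := ideg_spec G he (Polynomial A) Polynomial.X
  rw [hk] at h
  exact (LawProduct.X_pow_tmul_inj h).symm

theorem ideg_one : ideg G (1 : T) = d := by
  apply ideg_unique G IsIdempotentElem.one
  unfold eps
  rw [sub_self, TensorProduct.tmul_zero, zero_add]
  have e2 : ((Polynomial.X : Polynomial A) ⊗ₜ[A] (1 : T)) =
      (Polynomial.X : Polynomial A) • (1 : Polynomial A ⊗[A] T) := by
    rw [Algebra.TensorProduct.one_def, TensorProduct.smul_tmul', smul_eq_mul, mul_one]
  rw [e2, G.homog, (G.mult _).1, Algebra.TensorProduct.one_def, TensorProduct.smul_tmul',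
    smul_eq_mul, mul_one]

theorem ideg_add {e e' : T} (he : IsIdempotentElem e) (he' : IsIdempotentElem e')
    (h : e * e' = 0) : ideg G (e + e') = ideg G e + ideg G e' := by
  have hsum : IsIdempotentElem (e + e') := by
    have h' : e' * e = 0 := by rw [mul_comm]; exact h
    unfold IsIdempotentElem
    rw [mul_add, add_mul, add_mul, he.eq, he'.eq, h, h', add_zero, zero_add]
  apply ideg_unique G hsum
  have h1 := eps_mul_eps (A := A) he he' h (Polynomial A) Polynomial.X Polynomial.X
  have h2 : eps A (e + e') (Polynomial A) (Polynomial.X : Polynomial A) =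
      eps A e (Polynomial A) Polynomial.X * eps A e' (Polynomial A) Polynomial.X := by
    rw [h1]
    unfold eps
    rw [TensorProduct.tmul_add, add_assoc]
  rw [h2, (G.mult _).2, ideg_spec G he, ideg_spec G he', Algebra.TensorProduct.tmul_mul_tmul,
    mul_one, pow_add]

theorem mem_ker_of_ideg_eq_zero {e : T} (he : IsIdempotentElem e) (h : ideg G e = 0) :
    e ∈ PolLaw.ker G.law := by
  have h1 : ∀ (S : Type u) [CommSemiring S] [Algebra A S],
      G.law.toFun' S ((1 : S) ⊗ₜ[A] (1 - e)) = 1 := by
    intro S _ _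
    have := ideg_spec G he S (0 : S)
    unfold eps at this
    rw [TensorProduct.zero_tmul, add_zero, h, pow_zero] at this
    exact this
  have h2 : ∀ (S : Type u) [CommSemiring S] [Algebra A S] (z : S ⊗[A] T),
      G.law.toFun' S (z * ((1 : S) ⊗ₜ[A] (1 - e))) = G.law.toFun' S z := by
    intro S _ _ z
    rw [(G.mult S).2, h1, mul_one]
  intro S _ _ x w
  rw [← h2 S (x + w * ((1 : S) ⊗ₜ[A] e)), add_mul, mul_assoc, Algebra.TensorProduct.tmul_mul_tmul,
    one_mul, mul_sub, mul_one, he.eq, sub_self, TensorProduct.tmul_zero, mul_zero, add_zero, h2]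

end degree

section final

variable {A : Type u} [CommRing A] [ConnectedSpace (PrimeSpectrum A)]
  {B : Type u} [CommRing B] [Algebra A B] {d : ℕ} (F : PolLaw.MulLaw A B A d)

theorem main : Finite (ConnectedComponents (PrimeSpectrum (PolLaw.image F.law))) ∧
    Nat.card (ConnectedComponents (PrimeSpectrum (PolLaw.image F.law))) ≤ d := by
  apply IdemDegree.main (T := B ⧸ PolLaw.ker F.law) (ideg (Fbar F)) d
  · intro e he h0
    have := mem_ker_of_ideg_eq_zero (Fbar F) he h0
    rw [ker_Fbar, Ideal.mem_bot] at this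
    exact this
  · intro e e' he he' h
    exact ideg_add (Fbar F) he he' h
  · exact ideg_one (Fbar F)

end final

end Groth.Agent.Lib.Helper15.LawImage
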