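import Mathlib

/-!
# A Lazard-type lemma for tensor powers of flat modules (helper15)

Let `B` be a flat `A`-module, `P` a free module, `x : P → B` linear and `t` a tensor in `⨂_ι P`
killed by `⨂ x`.  Then `x` factors as `y ∘ a` through a free module with `(⨂ a) t = 0`.
-/

set_option autoImplicit false
universe u
open scoped TensorProduct

namespace Groth.Agent.Lib.Helper15.FlatKill

variable {A : Type u} [CommRing A]

section nat

variable {ι : Type} [DecidableEq ι]
  {M N : Type u} [AddCommGroup M] [Module A M] [AddCommGroup N] [Module A N]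

/-- naturality of splitting off one tensor factor -/
theorem equiv_map (i₀ : ι) (f : M →ₗ[A] N) (t : ⨂[A] _ : ι, M) :
    PiTensorProduct.equivPiTensorComplSingletonTensor A (fun _ : ι => N) i₀
        (PiTensorProduct.map (fun _ => f) t) =
      TensorProduct.map (PiTensorProduct.map (fun _ => f)) f
        (PiTensorProduct.equivPiTensorComplSingletonTensor A (fun _ : ι => M) i₀ t) := by
  induction t using PiTensorProduct.induction_on with
  | smul_tprod r m =>
    rw [map_smul, map_smul, map_smul, map_smul, PiTensorProduct.map_tprod,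
      PiTensorProduct.equivPiTensorComplSingletonTensor_tprod,
      PiTensorProduct.equivPiTensorComplSingletonTensor_tprod, TensorProduct.map_tmul,
      PiTensorProduct.map_tprod]
    rfl
  | add x y hx hy => rw [map_add, map_add, map_add, map_add, hx, hy]

omit [DecidableEq ι] in
/-- for an empty index type, `⨂ f` is the identity under `isEmptyEquiv` -/
theorem isEmptyEquiv_map [IsEmpty ι] (f : M →ₗ[A] N) (t : ⨂[A] _ : ι, M) :
    PiTensorProduct.isEmptyEquiv ι (PiTensorProduct.map (fun _ => f) t) =
      PiTensorProduct.isEmptyEquiv ι t := by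
  induction t using PiTensorProduct.induction_on with
  | smul_tprod r m =>
    rw [map_smul, map_smul, map_smul, PiTensorProduct.map_tprod,
      PiTensorProduct.isEmptyEquiv_apply_tprod, PiTensorProduct.isEmptyEquiv_apply_tprod]
  | add x y hx hy => rw [map_add, map_add, map_add, hx, hy]

end nat

section main

variable (A) (B : Type u) [AddCommGroup B] [Module A B]

/-- the factorization statement for finitely many tensors -/
def KillList (ι : Type) : Prop :=
  ∀ (I : Type u) (x : (I →₀ A) →ₗ[A] B) (l : List (⨂[A] _ : ι, (I →₀ A))),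
    (∀ t ∈ l, PiTensorProduct.map (fun _ => x) t = 0) →
    ∃ (I' : Type u) (a : (I →₀ A) →ₗ[A] (I' →₀ A)) (y : (I' →₀ A) →ₗ[A] B),
      x = y ∘ₗ a ∧ ∀ t ∈ l, PiTensorProduct.map (fun _ => a) t = 0

/-- the factorization statement for one tensor -/
def KillOne (ι : Type) : Prop :=
  ∀ (I : Type u) (x : (I →₀ A) →ₗ[A] B) (t : ⨂[A] _ : ι, (I →₀ A)),
    PiTensorProduct.map (fun _ => x) t = 0 →
    ∃ (I' : Type u) (a : (I →₀ A) →ₗ[A] (I' →₀ A)) (y : (I' →₀ A) →ₗ[A] B),
      x = y ∘ₗ a ∧ PiTensorProduct.map (fun _ => a) t = 0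

variable {A B}

theorem map_map_apply {ι : Type} {M N N' : Type u} [AddCommGroup M] [Module A M]
    [AddCommGroup N] [Module A N] [AddCommGroup N'] [Module A N']
    (f : M →ₗ[A] N) (g : N →ₗ[A] N') (t : ⨂[A] _ : ι, M) :
    PiTensorProduct.map (fun _ => g) (PiTensorProduct.map (fun _ => f) t) =
      PiTensorProduct.map (fun _ => g ∘ₗ f) t := by
  rw [PiTensorProduct.map_comp]
  rfl

theorem killList_of_killOne {ι : Type} (h : KillOne A B ι) : KillList A B ι := by
  intro I x l
  induction hn : l.length generalizing I x l with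
  | zero =>
    intro _
    rw [List.length_eq_zero_iff] at hn
    subst hn
    exact ⟨I, LinearMap.id, x, (LinearMap.comp_id x).symm, fun t ht => by simp at ht⟩
  | succ n ih =>
    intro hl
    obtain ⟨t, l', rfl⟩ := List.exists_cons_of_length_eq_add_one hn
    have ht : PiTensorProduct.map (fun _ => x) t = 0 := hl t (List.mem_cons_self)
    obtain ⟨I₁, a₁, y₁, hx, hat⟩ := h I x t ht
    have hlen : (l'.map (PiTensorProduct.map (fun _ => a₁))).length = n := by
      rw [List.length_map]
      simpa using hn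
    obtain ⟨I', a₂, y, hy, ha₂⟩ := ih I₁ y₁ (l'.map (PiTensorProduct.map (fun _ => a₁))) hlen
      (by
        intro t' ht'
        rw [List.mem_map] at ht'
        obtain ⟨t'', ht'', rfl⟩ := ht'
        rw [map_map_apply, ← hx]
        exact hl t'' (List.mem_cons_of_mem _ ht''))
    refine ⟨I', a₂ ∘ₗ a₁, y, ?_, ?_⟩
    · rw [hx, hy, LinearMap.comp_assoc]
    · intro t' ht'
      rw [← map_map_apply]
      rcases List.mem_cons.mp ht' with rfl | ht''
      · rw [hat, map_zero]
      · exact ha₂ _ (List.mem_map_of_mem ht'')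

theorem killOne_of_isEmpty {ι : Type} [IsEmpty ι] : KillOne A B ι := by
  intro I x t ht
  have h0 : t = 0 := by
    apply (PiTensorProduct.isEmptyEquiv ι).injective
    rw [← isEmptyEquiv_map x t, ht, map_zero, map_zero]
  exact ⟨I, LinearMap.id, x, (LinearMap.comp_id x).symm, by rw [h0, map_zero]⟩

theorem killOne_succ [Module.Flat A B] {ι : Type} [DecidableEq ι] (i₀ : ι)
    (IH : KillList A B (↥({i₀}ᶜ : Set ι))) : KillOne A B ι := by
  intro I x t ht
  classical
  obtain ⟨b, hb⟩ := TensorProduct.eq_repr_basis_right (Finsupp.basisSingleOne (R := A) (ι := I))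
    (PiTensorProduct.equivPiTensorComplSingletonTensor A (fun _ : ι => (I →₀ A)) i₀ t)
  have hb' : PiTensorProduct.equivPiTensorComplSingletonTensor A (fun _ : ι => (I →₀ A)) i₀ t =
      ∑ i : b.support, b i ⊗ₜ[A] (Finsupp.single (i : I) (1 : A)) := by
    rw [← hb, Finsupp.sum, ← Finset.sum_coe_sort]
    refine Finset.sum_congr rfl fun i _ => ?_
    rw [Finsupp.coe_basisSingleOne]
  have h1 : ∑ i : b.support, (PiTensorProduct.map (fun _ => x) (b i)) ⊗ₜ[A]
      x (Finsupp.single (i : I) 1) = 0 := by
    have h := equiv_map i₀ x t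
    rw [ht, map_zero, hb', map_sum] at h
    simp only [TensorProduct.map_tmul] at h
    exact h.symm
  have hinj : Function.Injective (LinearMap.rTensor B (Submodule.span A (Set.range
      (fun i : b.support => PiTensorProduct.map (fun _ => x) (b i)))).subtype) :=
    Module.Flat.rTensor_preserves_injective_linearMap _ (Submodule.injective_subtype _)
  obtain ⟨k, a', y', hy', ha'⟩ :=
    TensorProduct.vanishesTrivially_of_sum_tmul_eq_zero_of_rTensor_injective A hinj h1
  let a₁ : (I →₀ A) →ₗ[A] ((Fin k ⊕ I) →₀ A) := Finsupp.linearCombination A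
    (fun i => if h : i ∈ b.support then ∑ j, a' ⟨i, h⟩ j • Finsupp.single (Sum.inl j) (1 : A)
      else Finsupp.single (Sum.inr i) 1)
  let y₁ : ((Fin k ⊕ I) →₀ A) →ₗ[A] B :=
    Finsupp.linearCombination A (Sum.elim y' (fun i => x (Finsupp.single i 1)))
  have ha₁ : ∀ i : b.support, a₁ (Finsupp.single (i : I) 1) =
      ∑ j, a' i j • Finsupp.single (Sum.inl j) (1 : A) := by
    intro i
    simp only [a₁, Finsupp.linearCombination_single, one_smul]
    rw [dif_pos i.2]
  have hx : x = y₁ ∘ₗ a₁ := by
    apply Finsupp.lhom_ext'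
    intro i
    apply LinearMap.ext_ring
    simp only [LinearMap.comp_apply, Finsupp.lsingle_apply]
    by_cases h : i ∈ b.support
    · rw [ha₁ ⟨i, h⟩, map_sum]
      simp only [map_smul, y₁, Finsupp.linearCombination_single, one_smul, Sum.elim_inl]
      exact hy' ⟨i, h⟩
    · simp only [a₁, Finsupp.linearCombination_single, one_smul]
      rw [dif_neg h]
      simp only [y₁, Finsupp.linearCombination_single, one_smul, Sum.elim_inr]
  let w : Fin k → ⨂[A] _ : (↥({i₀}ᶜ : Set ι)), ((Fin k ⊕ I) →₀ A) := fun j =>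
    PiTensorProduct.map (fun _ => a₁) (∑ i : b.support, a' i j • b i)
  obtain ⟨I', a₂, y, hy, ha₂⟩ := IH (Fin k ⊕ I) y₁ ((List.finRange k).map w) (by
    intro t' ht'
    rw [List.mem_map] at ht'
    obtain ⟨j, -, rfl⟩ := ht'
    simp only [w]
    rw [map_map_apply, ← hx, map_sum]
    simp only [map_smul]
    exact ha' j)
  refine ⟨I', a₂ ∘ₗ a₁, y, by rw [hx, hy, LinearMap.comp_assoc], ?_⟩
  apply (PiTensorProduct.equivPiTensorComplSingletonTensor A (fun _ : ι => (I' →₀ A)) i₀).injective
  rw [equiv_map, hb', map_sum, map_zero]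
  simp only [TensorProduct.map_tmul, LinearMap.comp_apply]
  have h2 : ∀ i : b.support, (PiTensorProduct.map (fun _ => a₂ ∘ₗ a₁) (b i)) ⊗ₜ[A]
      a₂ (a₁ (Finsupp.single (i : I) 1)) =
      ∑ j, (PiTensorProduct.map (fun _ => a₂ ∘ₗ a₁) (a' i j • b i)) ⊗ₜ[A]
        a₂ (Finsupp.single (Sum.inl j) (1 : A)) := by
    intro i
    rw [ha₁, map_sum, TensorProduct.tmul_sum]
    refine Finset.sum_congr rfl fun j _ => ?_
    rw [map_smul, map_smul, TensorProduct.tmul_smul, TensorProduct.smul_tmul']
  rw [Finset.sum_congr rfl (fun i _ => h2 i), Finset.sum_comm]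
  refine Finset.sum_eq_zero fun j _ => ?_
  rw [← TensorProduct.sum_tmul, ← map_sum, ← map_map_apply]
  have h3 : PiTensorProduct.map (fun _ => a₂) (w j) = 0 :=
    ha₂ _ (List.mem_map_of_mem (List.mem_finRange j))
  simp only [w] at h3
  rw [h3, TensorProduct.zero_tmul]

theorem killList [Module.Flat A B] :
    ∀ (n : ℕ) (ι : Type) [Finite ι], Nat.card ι = n → KillList A B ι := by
  intro n
  induction n with
  | zero =>
    intro ι _ h
    haveI : IsEmpty ι := by
      rcases Nat.card_eq_zero.mp h with h' | h'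
      · exact h'
      · exact absurd ‹Finite ι› (not_finite_iff_infinite.mpr h')
    exact killList_of_killOne killOne_of_isEmpty
  | succ n ih =>
    intro ι _ h
    classical
    haveI : Nonempty ι := by
      by_contra hne
      rw [not_nonempty_iff] at hne
      rw [Nat.card_of_isEmpty] at h
      omega
    obtain ⟨i₀⟩ := ‹Nonempty ι›
    apply killList_of_killOne
    apply killOne_succ i₀
    apply ih
    have h1 := Set.ncard_add_ncard_compl ({i₀} : Set ι)
    rw [Set.ncard_singleton, h] at h1
    rw [Nat.card_coe_set_eq]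
    omega

/-- **Lazard-type lemma**: for a flat module `B`, a linear map `x` from a free module and finitely
many tensors killed by `⨂ x`, the map `x` factors through a free module via a map `a` with `⨂ a`
killing the tensors. -/
theorem exists_factor [Module.Flat A B] {ι : Type} [Finite ι] (I : Type u)
    (x : (I →₀ A) →ₗ[A] B) (l : List (⨂[A] _ : ι, (I →₀ A)))
    (hl : ∀ t ∈ l, PiTensorProduct.map (fun _ => x) t = 0) :
    ∃ (I' : Type u) (a : (I →₀ A) →ₗ[A] (I' →₀ A)) (y : (I' →₀ A) →ₗ[A] B),
      x = y ∘ₗ a ∧ ∀ t ∈ l, PiTensorProduct.map (fun _ => a) t = 0 :=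
  killList (Nat.card ι) ι rfl I x l hl

end main

end Groth.Agent.Lib.Helper15.FlatKill
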