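import Mathlib
import Groth.Agent.Lib.Helper15.FlatKill

/-!
# Lifting symmetric tensors of a flat module to a free module (helper15)
-/

set_option autoImplicit false
universe u
open scoped TensorProduct

namespace Groth.Agent.Lib.Helper15.SymLift

open Groth.Agent.Lib.Helper15.FlatKill

variable {A : Type u} [CommRing A]

section surj

variable {ι : Type} [Finite ι] {M N : Type u} [AddCommGroup M] [Module A M] [AddCommGroup N]
  [Module A N]

theorem map_surjective (f : M →ₗ[A] N) (hf : Function.Surjective f) :
    Function.Surjective (PiTensorProduct.map (R := A) (fun _ : ι => f)) := by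
  rw [← LinearMap.range_eq_top, eq_top_iff, ← PiTensorProduct.span_tprod_eq_top, Submodule.span_le]
  rintro _ ⟨m, rfl⟩
  choose m' hm' using fun i => hf (m i)
  exact ⟨PiTensorProduct.tprod A m', by rw [PiTensorProduct.map_tprod]; simp only [hm']⟩

end surj

section lift

variable {M : Type u} [AddCommGroup M] [Module A M] [Module.Flat A M] (d : ℕ)

/-- **symmetric tensors of a flat module lift to symmetric tensors of a free module** -/
theorem exists_sym_lift (t : ⨂[A] _ : Fin d, M)
    (ht : ∀ σ : Equiv.Perm (Fin d), PiTensorProduct.reindex A (fun _ : Fin d => M) σ t = t) :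
    ∃ (I : Type u) (y : (I →₀ A) →ₗ[A] M) (w : ⨂[A] _ : Fin d, (I →₀ A)),
      (∀ σ : Equiv.Perm (Fin d),
        PiTensorProduct.reindex A (fun _ : Fin d => (I →₀ A)) σ w = w) ∧
      PiTensorProduct.map (fun _ => y) w = t := by
  classical
  let π : (M →₀ A) →ₗ[A] M := Finsupp.linearCombination A id
  have hπ : Function.Surjective π := fun m => ⟨Finsupp.single m 1, by simp [π]⟩
  obtain ⟨t', ht'⟩ := map_surjective (ι := Fin d) π hπ t
  let l : List (⨂[A] _ : Fin d, (M →₀ A)) := (Finset.univ : Finset (Equiv.Perm (Fin d))).toList.map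
    (fun σ => PiTensorProduct.reindex A (fun _ : Fin d => (M →₀ A)) σ t' - t')
  obtain ⟨I, a, y, hy, ha⟩ := exists_factor (ι := Fin d) M π l (by
    intro s hs
    rw [List.mem_map] at hs
    obtain ⟨σ, -, rfl⟩ := hs
    rw [map_sub, sub_eq_zero]
    have h := PiTensorProduct.map_reindex (R := A) (fun _ : Fin d => π) σ t'
    rw [ht', ht σ] at h
    rw [ht']
    exact h)
  refine ⟨I, y, PiTensorProduct.map (fun _ => a) t', ?_, ?_⟩
  · intro σ
    have h := PiTensorProduct.map_reindex (R := A) (fun _ : Fin d => a) σ t'
    rw [← h]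
    have h2 := ha (PiTensorProduct.reindex A (fun _ : Fin d => (M →₀ A)) σ t' - t')
      (List.mem_map_of_mem (Finset.mem_toList.mpr (Finset.mem_univ σ)))
    rw [map_sub, sub_eq_zero] at h2
    exact h2
  · rw [map_map_apply, ← hy, ht']

end lift

end Groth.Agent.Lib.Helper15.SymLift
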