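import Mathlib
import Groth.Agent.Lib.Helper15.GammaSpan
import Groth.Agent.Lib.Helper15.PolLawPoly

/-!
# A criterion for universality of a multiplicative law (helper15)

If the coefficients of `τ : B → T` span `T` and every multiplicative law of degree `d` factors
*linearly* through `τ`, then `τ` is universal.
-/

set_option autoImplicit false
universe u
open scoped TensorProduct
open MvPolynomial

namespace Groth.Agent.Lib.Helper15.TSCore

open Groth.Agent.Lib.Helper15.LawFree Groth.Agent.Lib.Helper15.GammaSpan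

variable {A : Type u} [CommRing A] {B : Type u} [CommRing B] [Algebra A B]
  {T : Type u} [CommRing T] [Algebra A T] {d : ℕ} (τ : PolLaw.MulLaw A B T d)

/-- the span hypothesis: the global coefficients of `τ ∘ π` span `T` -/
def Spans : Prop := Cm (MvPolynomial.basisMonomials B A) (G₀ τ) = ⊤

variable {τ}

theorem lin_ext (hspan : Spans τ) {N' : Type u} [AddCommGroup N'] [Module A N']
    (g g' : T →ₗ[A] N')
    (h : ∀ (S : Type u) [CommRing S] [Algebra A S] (z : S ⊗[A] B),
      g.lTensor S (τ.law.toFun' S z) = g'.lTensor S (τ.law.toFun' S z)) : g = g' := by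
  apply LinearMap.ext_on_range (v := gco (MvPolynomial.basisMonomials B A) (G₀ τ).law)
  · exact hspan
  · intro α
    unfold gco tcoeff
    rw [← ext_lTensor, ← ext_lTensor, G₀_apply, h]

theorem map_gco {C' : Type u} [CommRing C'] [Algebra A C'] (F : PolLaw.MulLaw A B C' d)
    (f : T →ₗ[A] C')
    (hf : ∀ (S : Type u) [CommRing S] [Algebra A S] (z : S ⊗[A] B),
      f.lTensor S (τ.law.toFun' S z) = F.law.toFun' S z) (α : (B →₀ ℕ) →₀ ℕ) :
    f (gco (MvPolynomial.basisMonomials B A) (G₀ τ).law α) =
      gco (MvPolynomial.basisMonomials B A) (G₀ F).law α := by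
  unfold gco tcoeff
  rw [← ext_lTensor, G₀_apply, hf]
  rfl

theorem isGammaD_of_spans (hspan : Spans τ)
    (hex : ∀ (C' : Type u) [CommRing C'] [Algebra A C'] (F : PolLaw.MulLaw A B C' d),
      ∃ f : T →ₗ[A] C', ∀ (S : Type u) [CommSemiring S] [Algebra A S] (z : S ⊗[A] B),
        f.lTensor S (τ.law.toFun' S z) = F.law.toFun' S z) :
    PolLaw.IsGammaD τ := by
  classical
  intro C' _ _ F
  obtain ⟨f, hf⟩ := hex C' F
  have hgco := map_gco F f (fun S _ _ z => hf S z)
  have h1 : f 1 = 1 := by
    have h := hf A (1 : A ⊗[A] B)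
    rw [(τ.mult A).1, (F.mult A).1, Algebra.TensorProduct.one_def, Algebra.TensorProduct.one_def,
      LinearMap.lTensor_tmul] at h
    have h2 := congrArg (TensorProduct.lid A C') h
    rw [TensorProduct.lid_tmul, TensorProduct.lid_tmul, one_smul, one_smul] at h2
    exact h2
  have hmul0 : ∀ α β : (B →₀ ℕ) →₀ ℕ,
      f (gco (MvPolynomial.basisMonomials B A) (G₀ τ).law α *
        gco (MvPolynomial.basisMonomials B A) (G₀ τ).law β) =
      f (gco (MvPolynomial.basisMonomials B A) (G₀ τ).law α) *
        f (gco (MvPolynomial.basisMonomials B A) (G₀ τ).law β) := by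
    intro α β
    by_cases hα : α.degree = d
    · by_cases hβ : β.degree = d
      · obtain ⟨Γ, m, h⟩ := exists_structure_constants (MvPolynomial.basisMonomials B A) d α β hα hβ
        rw [h T (G₀ τ), hgco, hgco, h C' (G₀ F), map_sum]
        refine Finset.sum_congr rfl fun γ _ => ?_
        rw [map_smul, hgco]
      · rw [gco_eq_zero_of_degree_ne _ _ (G₀ τ).homog β hβ, mul_zero, map_zero, mul_zero]
    · rw [gco_eq_zero_of_degree_ne _ _ (G₀ τ).homog α hα, zero_mul, map_zero, zero_mul]
  have hmul : ∀ x y : T, f (x * y) = f x * f y := by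
    intro x y
    have hx : x ∈ Cm (MvPolynomial.basisMonomials B A) (G₀ τ) := by rw [hspan]; trivial
    have hy : y ∈ Cm (MvPolynomial.basisMonomials B A) (G₀ τ) := by rw [hspan]; trivial
    unfold Cm at hx hy
    induction hx using Submodule.span_induction with
    | mem x hx =>
      obtain ⟨α, rfl⟩ := hx
      induction hy using Submodule.span_induction with
      | mem y hy =>
        obtain ⟨β, rfl⟩ := hy
        exact hmul0 α β
      | zero => rw [mul_zero, map_zero, mul_zero]
      | add y y' _ _ hy hy' => rw [mul_add, map_add, map_add, hy, hy', mul_add]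
      | smul a y _ hy => rw [mul_smul_comm, map_smul, map_smul, hy, mul_smul_comm]
    | zero => rw [zero_mul, map_zero, zero_mul]
    | add x x' _ _ hx hx' => rw [add_mul, map_add, map_add, hx, hx', add_mul]
    | smul a x _ hx => rw [smul_mul_assoc, map_smul, map_smul, hx, smul_mul_assoc]
  refine ⟨AlgHom.ofLinearMap f h1 hmul, ?_, ?_⟩
  · ext S _ _ z
    exact hf S z
  · intro f' hf'
    have h2 : f'.toLinearMap = f := by
      apply lin_ext hspan
      intro S _ _ z
      rw [hf S z]
      have := congrArg (fun G : B →ₚₗ[A] C' => G.toFun' S z) hf'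
      exact this
    ext x
    exact congrArg (fun g : T →ₗ[A] C' => g x) h2

/-- two laws which agree over polynomial test rings are equal -/
theorem law_ext_poly {M N : Type u} [AddCommGroup M] [Module A M] [AddCommGroup N] [Module A N]
    (G G' : M →ₚₗ[A] N)
    (h : ∀ (σ : Type u) (z : MvPolynomial σ A ⊗[A] M),
      G.toFun' (MvPolynomial σ A) z = G'.toFun' (MvPolynomial σ A) z)
    (S : Type u) [CommSemiring S] [Algebra A S] (z : S ⊗[A] M) :
    G.toFun' S z = G'.toFun' S z := by
  obtain ⟨z', rfl⟩ := PolLawPoly.exists_lift S z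
  rw [← PolynomialLaw.isCompat_apply' (f := G), ← PolynomialLaw.isCompat_apply' (f := G'), h]

theorem isGammaD_of_spans_poly (hspan : Spans τ)
    (hex : ∀ (C' : Type u) [CommRing C'] [Algebra A C'] (F : PolLaw.MulLaw A B C' d),
      ∃ f : T →ₗ[A] C', ∀ (σ : Type u) (z : MvPolynomial σ A ⊗[A] B),
        f.lTensor (MvPolynomial σ A) (τ.law.toFun' (MvPolynomial σ A) z) =
          F.law.toFun' (MvPolynomial σ A) z) :
    PolLaw.IsGammaD τ := by
  apply isGammaD_of_spans hspan
  intro C' _ _ F
  obtain ⟨f, hf⟩ := hex C' F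
  refine ⟨f, fun S _ _ z => ?_⟩
  exact law_ext_poly (PolLaw.postcomp f τ.law) F.law (fun σ z => hf σ z) S z

end Groth.Agent.Lib.Helper15.TSCore
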