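import Mathlib
import Groth.Agent.Lib.Helper15.TSplit

/-!
# Symmetric tensors of a free module (helper15)

For a free module `L` with basis `e`, the symmetric tensors in `⨂^d L` are spanned by the orbit
sums `orb α = ∑_{mult v = α} e_{v 0} ⊗ ⋯ ⊗ e_{v (d-1)}`, and there is a linear projection `pr` of
`⨂^d L` onto them.
-/

set_option autoImplicit false
universe u
open scoped TensorProduct

namespace Groth.Agent.Lib.Helper15.TSFree

open Groth.Agent.Lib.Helper15.TSplit

open scoped Classical

section perm

variable {I : Type u} {d : ℕ}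

theorem mult_apply (w : Fin d → I) (i : I) : mult w i = Fintype.card {j // w j = i} := by
  unfold mult
  rw [Finsupp.finset_sum_apply, Fintype.card_subtype]
  simp only [Finsupp.single_apply]
  rw [Finset.card_filter]

theorem degree_mult (w : Fin d → I) : (mult w).degree = d := by
  unfold mult
  rw [map_sum]
  simp [Finsupp.degree_single]

theorem exists_perm_of_mult_eq (v v' : Fin d → I) (h : mult v = mult v') :
    ∃ σ : Equiv.Perm (Fin d), v' ∘ σ = v := by
  have hcard : ∀ i : I, Fintype.card {j // v j = i} = Fintype.card {j // v' j = i} := by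
    intro i
    rw [← mult_apply, ← mult_apply, h]
  exact ⟨Equiv.ofFiberEquiv (f := v) (g := v') (fun i => Fintype.equivOfCardEq (hcard i)),
    funext fun j => Equiv.ofFiberEquiv_map _ j⟩

theorem mult_comp_perm (v : Fin d → I) (σ : Equiv.Perm (Fin d)) : mult (v ∘ σ) = mult v := by
  unfold mult
  exact Equiv.sum_comp σ (fun j => Finsupp.single (v j) 1)

end perm

variable {A : Type u} [CommRing A] {L : Type u} [AddCommGroup L] [Module A L] {I : Type u}
  (e : Module.Basis I A L) (d : ℕ)

/-- the basis of pure tensors -/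
noncomputable def bT : Module.Basis (Fin d → I) A (⨂[A] _ : Fin d, L) :=
  Basis.piTensorProduct (fun _ => e)

theorem bT_apply (v : Fin d → I) : bT e d v = PiTensorProduct.tprod A (fun i => e (v i)) :=
  Basis.piTensorProduct_apply _ v

theorem reindex_bT (σ : Equiv.Perm (Fin d)) (v : Fin d → I) :
    PiTensorProduct.reindex A (fun _ : Fin d => L) σ (bT e d v) = bT e d (v ∘ σ.symm) := by
  rw [bT_apply, PiTensorProduct.reindex_tprod, bT_apply]
  rfl

theorem repr_reindex (σ : Equiv.Perm (Fin d)) (v : Fin d → I) (t : ⨂[A] _ : Fin d, L) :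
    (bT e d).repr (PiTensorProduct.reindex A (fun _ : Fin d => L) σ t) v =
      (bT e d).repr t (v ∘ σ) := by
  have h : (Finsupp.lapply v) ∘ₗ (bT e d).repr.toLinearMap ∘ₗ
      (PiTensorProduct.reindex A (fun _ : Fin d => L) σ).toLinearMap =
      (Finsupp.lapply (v ∘ σ)) ∘ₗ (bT e d).repr.toLinearMap := by
    apply (bT e d).ext
    intro v'
    simp only [LinearMap.comp_apply, LinearEquiv.coe_coe, Finsupp.lapply_apply]
    rw [reindex_bT, Module.Basis.repr_self, Module.Basis.repr_self, Finsupp.single_apply,
      Finsupp.single_apply]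
    congr 1
    apply propext
    constructor
    · intro h
      rw [← h]
      funext j
      simp
    · intro h
      rw [h]
      funext j
      simp
  exact congrArg (fun f => f t) h

theorem repr_eq_of_mult_eq (t : ⨂[A] _ : Fin d, L)
    (ht : ∀ σ : Equiv.Perm (Fin d), PiTensorProduct.reindex A (fun _ : Fin d => L) σ t = t)
    (v v' : Fin d → I) (h : mult v = mult v') : (bT e d).repr t v = (bT e d).repr t v' := by
  obtain ⟨σ, rfl⟩ := exists_perm_of_mult_eq v v' h
  rw [← repr_reindex, ht]

/-- the orbit sums -/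
noncomputable def orb (α : I →₀ ℕ) : ⨂[A] _ : Fin d, L := ∑ v ∈ V (d := d) α, bT e d v

theorem repr_orb (α : I →₀ ℕ) (v₀ : Fin d → I) :
    (bT e d).repr (orb e d α) v₀ = if mult v₀ = α then 1 else 0 := by
  unfold orb
  rw [map_sum, Finsupp.finset_sum_apply]
  simp only [Module.Basis.repr_self, Finsupp.single_apply]
  rw [Finset.sum_ite_eq' (V (d := d) α) v₀ (fun _ => (1 : A))]
  simp only [mem_V]

theorem reindex_orb (σ : Equiv.Perm (Fin d)) (α : I →₀ ℕ) :
    PiTensorProduct.reindex A (fun _ : Fin d => L) σ (orb e d α) = orb e d α := by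
  apply (bT e d).repr.injective
  ext v₀
  rw [repr_reindex, repr_orb, repr_orb, mult_comp_perm]

/-- the projection onto the symmetric tensors -/
noncomputable def pr : (⨂[A] _ : Fin d, L) →ₗ[A] (⨂[A] _ : Fin d, L) :=
  (bT e d).constr A (fun v => if rep (mult v) = some v then orb e d (mult v) else 0)

theorem pr_bT (v : Fin d → I) :
    pr e d (bT e d v) = if rep (mult v) = some v then orb e d (mult v) else 0 := by
  unfold pr
  rw [Module.Basis.constr_basis]

theorem reindex_pr (σ : Equiv.Perm (Fin d)) (t : ⨂[A] _ : Fin d, L) :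
    PiTensorProduct.reindex A (fun _ : Fin d => L) σ (pr e d t) = pr e d t := by
  have h : (PiTensorProduct.reindex A (fun _ : Fin d => L) σ).toLinearMap ∘ₗ pr e d = pr e d := by
    apply (bT e d).ext
    intro v
    rw [LinearMap.comp_apply, pr_bT]
    split_ifs
    · exact reindex_orb e d σ _
    · exact map_zero _
  exact congrArg (fun f => f t) h

theorem pr_orb (α : I →₀ ℕ) : pr e d (orb e d α) = orb e d α := by
  by_cases hα : α.degree = d
  · have h0 : pr e d (orb e d α) =
        ∑ v ∈ V (d := d) α, (if rep (mult v) = some v then orb e d α else 0) := by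
      conv_lhs => unfold orb
      rw [map_sum]
      refine Finset.sum_congr rfl fun v hv => ?_
      rw [pr_bT, (mem_V α v).mp hv]
    rw [h0, sum_V_rep α hα]
  · have hV : V (d := d) α = ∅ := by
      rw [Finset.eq_empty_iff_forall_notMem]
      intro v hv
      rw [mem_V] at hv
      exact hα (hv ▸ degree_mult v)
    unfold orb
    rw [hV, Finset.sum_empty, map_zero]

/-- a symmetric tensor is fixed by the projection -/
theorem pr_eq_self (t : ⨂[A] _ : Fin d, L)
    (ht : ∀ σ : Equiv.Perm (Fin d), PiTensorProduct.reindex A (fun _ : Fin d => L) σ t = t) :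
    pr e d t = t := by
  apply (bT e d).repr.injective
  ext v₀
  obtain ⟨r₀, hr₀, hm₀⟩ := rep_spec (d := d) (mult v₀) (degree_mult v₀)
  unfold pr
  rw [Module.Basis.constr_apply, map_finsuppSum, Finsupp.sum_apply]
  simp only [map_smul, Finsupp.smul_apply, smul_eq_mul]
  rw [Finsupp.sum, Finset.sum_eq_single r₀]
  · rw [hm₀, hr₀, if_pos rfl, repr_orb, if_pos rfl, mul_one]
    exact repr_eq_of_mult_eq e d t ht r₀ v₀ hm₀
  · intro v _ hne
    by_cases h1 : rep (mult v) = some v
    · rw [if_pos h1, repr_orb]
      by_cases h2 : mult v₀ = mult v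
      · exfalso
        rw [← h2, hr₀] at h1
        exact hne (Option.some.inj h1).symm
      · rw [if_neg h2, mul_zero]
    · rw [if_neg h1, map_zero, Finsupp.zero_apply, mul_zero]
  · intro h
    rw [Finsupp.notMem_support_iff] at h
    rw [h, zero_mul]

/-- **the symmetric tensors of a free module are spanned by the orbit sums** -/
theorem mem_span_orb (t : ⨂[A] _ : Fin d, L)
    (ht : ∀ σ : Equiv.Perm (Fin d), PiTensorProduct.reindex A (fun _ : Fin d => L) σ t = t) :
    t ∈ Submodule.span A (Set.range (orb e d)) := by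
  rw [← pr_eq_self e d t ht]
  unfold pr
  rw [Module.Basis.constr_apply]
  refine Submodule.sum_mem _ fun v _ => Submodule.smul_mem _ _ ?_
  split_ifs
  · exact Submodule.subset_span ⟨_, rfl⟩
  · exact Submodule.zero_mem _

end Groth.Agent.Lib.Helper15.TSFree
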