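import Mathlib
import Groth.Agent.Lib.Helper15.TSplit

/-!
# Factoring a homogeneous law on a free algebra through the split law, module-valued (helper15)

Generalization of `TSplit.ft`, `TSplit.factor` to laws with values in an arbitrary module.
-/

set_option autoImplicit false
universe u
open scoped TensorProduct
open MvPolynomial

namespace Groth.Agent.Lib.Helper15.TSplitN

open Groth.Agent.Lib.Helper15.LawFree Groth.Agent.Lib.Helper15.TSplit

open scoped Classical

variable {A : Type u} [CommRing A] {P : Type u} [CommRing P] [Algebra A P] {I : Type u}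
  (e : Module.Basis I A P) {D : Type u} [CommRing D] [Algebra A D] {d : ℕ}
  (g : Fin d → (P →ₐ[A] D)) (bD : Module.Basis (Fin d → I) A D)
  (hbD : ∀ v, bD v = ∏ j, g j (e (v j)))
  {N : Type u} [AddCommGroup N] [Module A N] (F : P →ₚₗ[A] N) (hF : PolLaw.IsHomog F d)

/-- the linear map on `D` through which `F` factors -/
noncomputable def ft : D →ₗ[A] N :=
  bD.constr A (fun v => if rep (mult v) = some v then gco e F (mult v) else 0)

include hbD hF in
theorem ft_gco (α : I →₀ ℕ) : ft e bD F (gco e (tau g).law α) = gco e F α := by
  by_cases h : α.degree = d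
  · rw [gco_tau e g bD hbD, map_sum]
    unfold ft
    simp only [Module.Basis.constr_basis]
    have h1 : ∑ v ∈ V (d := d) α, (if rep (mult v) = some v then gco e F (mult v) else 0) =
        ∑ v ∈ V (d := d) α, (if rep (mult v) = some v then gco e F α else 0) := by
      refine Finset.sum_congr rfl fun v hv => ?_
      rw [(mem_V α v).mp hv]
    rw [h1, sum_V_rep α h]
  · rw [gco_eq_zero_of_degree_ne e _ (tau g).homog α h,
      gco_eq_zero_of_degree_ne e _ hF α h, map_zero]

include hbD hF in
/-- `F` factors through the split law -/
theorem factor (S : Type u) [CommSemiring S] [Algebra A S] (x : S ⊗[A] P) :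
    F.toFun' S x = (ft e bD F).lTensor S ((tau g).law.toFun' S x) := by
  obtain ⟨J, s, rfl⟩ := exists_el e S x
  rw [law_el_eq e F hF, law_el_eq e (tau g).law (tau g).homog, map_sum]
  refine Finset.sum_congr rfl fun α _ => ?_
  rw [LinearMap.lTensor_tmul, ft_gco e g bD hbD F hF]

end Groth.Agent.Lib.Helper15.TSplitN
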