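import Mathlib
import Groth.Agent.Lib.Helper15.TSLaw
import Groth.Agent.Lib.Helper15.TSFree
import Groth.Agent.Lib.Helper15.TSplitN
import Groth.Agent.Lib.Helper15.TSCore
import Groth.Agent.Lib.Helper15.SymLift

/-!
# `TS^d(B)` is the divided power algebra of a flat algebra `B` (helper15)
-/

set_option autoImplicit false
universe u
open scoped TensorProduct
open MvPolynomial

namespace Groth.Agent.Lib.Helper15.TSFlat

open Groth.Agent.Lib.Helper15.LawFree Groth.Agent.Lib.Helper15.Corestrict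
  Groth.Agent.Lib.Helper15.GammaSpan Groth.Agent.Lib.Helper15.TSLaw
  Groth.Agent.Lib.Helper15.TSFree Groth.Agent.Lib.Helper15.TSplit
  Groth.Agent.Lib.Helper15.FlatKill Groth.Agent.Lib.Helper15.SymLift

open scoped Classical

variable {A : Type u} [CommRing A]

section free

variable {P : Type u} [CommRing P] [Algebra A P] {I : Type u} (e : Module.Basis I A P) (d : ℕ)

theorem hbD (v : Fin d → I) : bT e d v = ∏ j, sg P d j (e (v j)) := by
  rw [bT_apply, TSLaw.tprod_eq_prod]

theorem gco_tl (α : I →₀ ℕ) : gco e (tl P d).law α = orb e d α :=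
  gco_tau e (sg P d) (bT e d) (hbD e d) α

include e in
/-- two linear maps on `T^d(P)` which agree after composition with the tensor power law agree on
symmetric tensors -/
theorem eq_on_sym {N' : Type u} [AddCommGroup N'] [Module A N']
    (ℓ₁ ℓ₂ : (⨂[A] _ : Fin d, P) →ₗ[A] N')
    (h : ∀ (z : MvPolynomial I A ⊗[A] P),
      ℓ₁.lTensor (MvPolynomial I A) ((tl P d).law.toFun' (MvPolynomial I A) z) =
        ℓ₂.lTensor (MvPolynomial I A) ((tl P d).law.toFun' (MvPolynomial I A) z))
    (t : ⨂[A] _ : Fin d, P)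
    (ht : ∀ σ : Equiv.Perm (Fin d), PiTensorProduct.reindex A (fun _ : Fin d => P) σ t = t) :
    ℓ₁ t = ℓ₂ t := by
  have hmem := mem_span_orb e d t ht
  clear ht
  induction hmem using Submodule.span_induction with
  | mem x hx =>
    obtain ⟨α, rfl⟩ := hx
    rw [← gco_tl]
    unfold gco tcoeff
    rw [← ext_lTensor, ← ext_lTensor, h]
  | zero => rw [map_zero, map_zero]
  | add x y _ _ hx hy => rw [map_add, map_add, hx, hy]
  | smul a x _ hx => rw [map_smul, map_smul, hx]

end free

section fam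

variable {B : Type u} [CommRing B] [Algebra A B] (d : ℕ) {I' : Type u}

/-- orbit sums of a family -/
noncomputable def orbF (b : I' → B) (α : I' →₀ ℕ) : ⨂[A] _ : Fin d, B :=
  ∑ v ∈ V (d := d) α, PiTensorProduct.tprod A (fun i => b (v i))

theorem tl_sum_finset (S : Type u) [CommSemiring S] [Algebra A S] (J : Finset I') (s : I' → S)
    (b : I' → B) :
    (tl B d).law.toFun' S (∑ k ∈ J, s k ⊗ₜ[A] b k) =
      ∑ v ∈ Fintype.piFinset (fun _ : Fin d => J),
        (∏ i, s (v i)) ⊗ₜ[A] PiTensorProduct.tprod A (fun i => b (v i)) := by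
  unfold tl
  rw [PolLaw.MulLaw.prodMap_toFun']
  simp only [map_sum, Algebra.TensorProduct.map_tmul, AlgHom.id_apply]
  rw [Finset.prod_univ_sum]
  refine Finset.sum_congr rfl fun c _ => ?_
  rw [TSplit.prod_tmul, TSLaw.tprod_eq_prod]

theorem orbF_eq (b : I' → B) (α : I' →₀ ℕ) :
    orbF d b α = tcoeff α ((tl B d).law.toFun' (MvPolynomial I' A)
      (∑ k ∈ α.support, (X k : MvPolynomial I' A) ⊗ₜ[A] b k)) := by
  rw [tl_sum_finset, map_sum]
  simp only [tcoeff_tmul, prod_X_eq, coeff_monomial]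
  unfold orbF V
  rw [Finset.sum_filter]
  refine Finset.sum_congr rfl fun v _ => ?_
  split_ifs <;> simp

theorem map_orb {L : Type u} [AddCommGroup L] [Module A L] (e' : Module.Basis I' A L)
    (y : L →ₗ[A] B) (α : I' →₀ ℕ) :
    PiTensorProduct.map (fun _ : Fin d => y) (orb e' d α) = orbF d (fun k => y (e' k)) α := by
  unfold orb orbF
  rw [map_sum]
  refine Finset.sum_congr rfl fun v _ => ?_
  rw [bT_apply, PiTensorProduct.map_tprod]

end fam

section span

variable {B : Type u} [CommRing B] [Algebra A B] (d : ℕ)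

theorem ext_mem_Cm {T : Type u} [CommRing T] [Algebra A T] (τ' : PolLaw.MulLaw A B T d)
    (S : Type u) [CommSemiring S] [Algebra A S] (ℓ : S →ₗ[A] A)
    (x : S ⊗[A] MvPolynomial B A) :
    ext ℓ ((G₀ τ').law.toFun' S x) ∈ Cm (MvPolynomial.basisMonomials B A) (G₀ τ') := by
  obtain ⟨J, s, rfl⟩ := exists_el (MvPolynomial.basisMonomials B A) S x
  rw [law_el_eq (MvPolynomial.basisMonomials B A) (G₀ τ').law (G₀ τ').homog, map_sum]
  refine Submodule.sum_mem _ fun α _ => ?_
  rw [ext_tmul]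
  exact Submodule.smul_mem _ _ (GammaSpan.gco_mem (MvPolynomial.basisMonomials B A) (G₀ τ') α)

theorem orbF_mem {I' : Type u} (b : I' → B) (α : I' →₀ ℕ) :
    ∃ c ∈ Cm (MvPolynomial.basisMonomials B A) (G₀ (ts B d)),
      (c : ⨂[A] _ : Fin d, B) = orbF d b α := by
  refine ⟨tcoeff α ((G₀ (ts B d)).law.toFun' (MvPolynomial I' A)
    (∑ k ∈ α.support, (X k : MvPolynomial I' A) ⊗ₜ[A] (X (b k) : MvPolynomial B A))),
    ext_mem_Cm d (ts B d) _ _ _, ?_⟩
  rw [orbF_eq]
  have h2 : (π (A := A) (B := B)).toLinearMap.lTensor (MvPolynomial I' A)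
      (∑ k ∈ α.support, (X k : MvPolynomial I' A) ⊗ₜ[A] (X (b k) : MvPolynomial B A)) =
      ∑ k ∈ α.support, (X k : MvPolynomial I' A) ⊗ₜ[A] b k := by
    rw [map_sum]
    refine Finset.sum_congr rfl fun k _ => ?_
    rw [LinearMap.lTensor_tmul]
    simp
  have h0 : (SymTen.TS A B d).val.toLinearMap.lTensor (MvPolynomial I' A)
      ((G₀ (ts B d)).law.toFun' (MvPolynomial I' A)
        (∑ k ∈ α.support, (X k : MvPolynomial I' A) ⊗ₜ[A] (X (b k) : MvPolynomial B A))) =
      (tl B d).law.toFun' (MvPolynomial I' A)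
        (∑ k ∈ α.support, (X k : MvPolynomial I' A) ⊗ₜ[A] b k) := by
    rw [G₀_apply, val_ts, h2]
  have h1 := ext_lTensor (lcoeff A α) (SymTen.TS A B d).val.toLinearMap
    ((G₀ (ts B d)).law.toFun' (MvPolynomial I' A)
      (∑ k ∈ α.support, (X k : MvPolynomial I' A) ⊗ₜ[A] (X (b k) : MvPolynomial B A)))
  rw [h0] at h1
  exact h1.symm

/-- for flat `B`, the coefficients of the tensor power law span `TS^d(B)` -/
theorem spans_ts [Module.Flat A B] : TSCore.Spans (ts (A := A) B d) := by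
  unfold TSCore.Spans
  rw [eq_top_iff]
  intro u _
  obtain ⟨I', y, w, hw, hyw⟩ := exists_sym_lift d u.1 u.2
  have hmem := mem_span_orb (Finsupp.basisSingleOne (R := A) (ι := I')) d w hw
  have key : ∀ w' ∈ Submodule.span A
      (Set.range (orb (Finsupp.basisSingleOne (R := A) (ι := I')) d)),
      ∃ c ∈ Cm (MvPolynomial.basisMonomials B A) (G₀ (ts B d)),
        (c : ⨂[A] _ : Fin d, B) = PiTensorProduct.map (fun _ => y) w' := by
    intro w' hw'
    induction hw' using Submodule.span_induction with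
    | mem x hx =>
      obtain ⟨α, rfl⟩ := hx
      rw [map_orb]
      exact orbF_mem d _ α
    | zero => exact ⟨(0 : SymTen.TS A B d), Submodule.zero_mem _, by rw [map_zero]; rfl⟩
    | add x x' _ _ hx hx' =>
      obtain ⟨c, hc, h1⟩ := hx
      obtain ⟨c', hc', h2⟩ := hx'
      exact ⟨c + c', Submodule.add_mem _ hc hc', by rw [map_add, ← h1, ← h2]; rfl⟩
    | smul a x _ hx =>
      obtain ⟨c, hc, h1⟩ := hx
      exact ⟨a • c, Submodule.smul_mem _ a hc, by rw [map_smul, ← h1]; rfl⟩
  obtain ⟨c, hc, h1⟩ := key w hmem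
  have hcu : c = u := Subtype.ext (h1.trans hyw)
  rw [← hcu]
  exact hc

end span

section exist

variable {B : Type u} [CommRing B] [Algebra A B] (d : ℕ)
  {C' : Type u} [CommRing C'] [Algebra A C'] (F : PolLaw.MulLaw A B C' d)

/-- the linear map on `T^d(A[B])` through which `F ∘ π` factors -/
noncomputable def ft₀ : (⨂[A] _ : Fin d, MvPolynomial B A) →ₗ[A] C' :=
  TSplitN.ft (MvPolynomial.basisMonomials B A) (bT (MvPolynomial.basisMonomials B A) d) (G₀ F).law

theorem factor₀ (S : Type u) [CommSemiring S] [Algebra A S] (x : S ⊗[A] MvPolynomial B A) :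
    (G₀ F).law.toFun' S x =
      (ft₀ d F).lTensor S ((tl (MvPolynomial B A) d).law.toFun' S x) :=
  TSplitN.factor (MvPolynomial.basisMonomials B A) (sg (MvPolynomial B A) d) (bT _ d)
    (hbD _ d) (G₀ F).law (G₀ F).homog S x

theorem ft₀_eq_zero [Module.Flat A B] (x : ⨂[A] _ : Fin d, MvPolynomial B A)
    (hx : ∀ σ : Equiv.Perm (Fin d),
      PiTensorProduct.reindex A (fun _ : Fin d => MvPolynomial B A) σ x = x)
    (h0 : PiTensorProduct.map (fun _ : Fin d => (π (A := A) (B := B)).toLinearMap) x = 0) :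
    ft₀ d F x = 0 := by
  let e₀ := MvPolynomial.basisMonomials B A
  let r : MvPolynomial B A ≃ₗ[A] ((B →₀ ℕ) →₀ A) := e₀.repr
  let x₀ : ((B →₀ ℕ) →₀ A) →ₗ[A] B := (π (A := A) (B := B)).toLinearMap ∘ₗ r.symm.toLinearMap
  let t₀ := PiTensorProduct.map (fun _ : Fin d => r.toLinearMap) x
  have hx₀ : x₀ ∘ₗ r.toLinearMap = (π (A := A) (B := B)).toLinearMap := by
    ext p
    simp [x₀]
  have ht₀ : PiTensorProduct.map (fun _ : Fin d => x₀) t₀ = 0 := by
    rw [map_map_apply, hx₀, h0]
  obtain ⟨I', a, y, hy, ha⟩ := exists_factor (ι := Fin d) (B →₀ ℕ) x₀ [t₀] (by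
    intro t ht
    rw [List.mem_singleton] at ht
    rw [ht]
    exact ht₀)
  have ha' : PiTensorProduct.map (fun _ : Fin d => a) t₀ = 0 := ha t₀ (List.mem_singleton_self _)
  let ι' : (I' →₀ A) →ₗ[A] MvPolynomial I' A :=
    Finsupp.linearCombination A (fun k => (X k : MvPolynomial I' A))
  let ŷ : MvPolynomial I' A →ₐ[A] B := aeval (fun k => y (Finsupp.single k 1))
  have hŷ : ŷ.toLinearMap ∘ₗ ι' = y := by
    apply Finsupp.lhom_ext'
    intro k
    apply LinearMap.ext_ring
    simp [ι', ŷ]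
  let q : MvPolynomial B A →ₗ[A] MvPolynomial I' A := ι' ∘ₗ a ∘ₗ r.toLinearMap
  have hq : ŷ.toLinearMap ∘ₗ q = (π (A := A) (B := B)).toLinearMap := by
    rw [← hx₀, hy, ← hŷ]
    rfl
  let F' : PolLaw.MulLaw A (MvPolynomial I' A) C' d := F.precomp ŷ
  let ft' : (⨂[A] _ : Fin d, MvPolynomial I' A) →ₗ[A] C' :=
    TSplitN.ft (MvPolynomial.basisMonomials I' A) (bT (MvPolynomial.basisMonomials I' A) d) F'.law
  have factor' : ∀ (S : Type u) [CommSemiring S] [Algebra A S] (x' : S ⊗[A] MvPolynomial I' A),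
      F'.law.toFun' S x' = ft'.lTensor S ((tl (MvPolynomial I' A) d).law.toFun' S x') :=
    fun S _ _ x' => TSplitN.factor (MvPolynomial.basisMonomials I' A) (sg (MvPolynomial I' A) d)
      (bT _ d) (hbD _ d) F'.law F'.homog S x'
  have hagree : ∀ z : MvPolynomial (B →₀ ℕ) A ⊗[A] MvPolynomial B A,
      (ft₀ d F).lTensor (MvPolynomial (B →₀ ℕ) A)
        ((tl (MvPolynomial B A) d).law.toFun' (MvPolynomial (B →₀ ℕ) A) z) =
      (ft' ∘ₗ PiTensorProduct.map (fun _ : Fin d => q)).lTensor (MvPolynomial (B →₀ ℕ) A)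
        ((tl (MvPolynomial B A) d).law.toFun' (MvPolynomial (B →₀ ℕ) A) z) := by
    intro z
    rw [← factor₀, G₀_apply, LinearMap.lTensor_comp, LinearMap.comp_apply, ← tl_nat_lin, ← factor']
    show F.law.toFun' _ ((π (A := A) (B := B)).toLinearMap.lTensor _ z) =
      F.law.toFun' _ (ŷ.toLinearMap.lTensor _ (q.lTensor _ z))
    rw [← LinearMap.comp_apply, ← LinearMap.lTensor_comp, hq]
  have h1 := eq_on_sym e₀ d (ft₀ d F) (ft' ∘ₗ PiTensorProduct.map (fun _ : Fin d => q)) hagree x hx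
  rw [h1, LinearMap.comp_apply]
  have h2 : PiTensorProduct.map (fun _ : Fin d => q) x =
      PiTensorProduct.map (fun _ : Fin d => ι') (PiTensorProduct.map (fun _ : Fin d => a) t₀) := by
    simp only [t₀]
    rw [map_map_apply, map_map_apply]
    rfl
  rw [h2, ha', map_zero, map_zero]

theorem exists_sym_preimage [Module.Flat A B] (u : SymTen.TS A B d) :
    ∃ x : SymTen.TS A (MvPolynomial B A) d, SymTen.TSmap A d (π (A := A) (B := B)) x = u := by
  obtain ⟨I', y, w, hw, hyw⟩ := exists_sym_lift d u.1 u.2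
  let yt : (I' →₀ A) →ₗ[A] MvPolynomial B A :=
    Finsupp.linearCombination A (fun k => (X (y (Finsupp.single k 1)) : MvPolynomial B A))
  have hyt : (π (A := A) (B := B)).toLinearMap ∘ₗ yt = y := by
    apply Finsupp.lhom_ext'
    intro k
    apply LinearMap.ext_ring
    simp [yt]
  refine ⟨⟨PiTensorProduct.map (fun _ : Fin d => yt) w, ?_⟩, ?_⟩
  · intro σ
    have h := PiTensorProduct.map_reindex (R := A) (fun _ : Fin d => yt) σ w
    rw [← h, hw σ]
  · apply Subtype.ext
    show SymTen.tmap A d (π (A := A) (B := B)) (PiTensorProduct.map (fun _ : Fin d => yt) w) = u.1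
    rw [tmap_eq_map, map_map_apply, hyt, hyw]

/-- `TS^d(A[B]) → TS^d(B)` -/
noncomputable def φ : SymTen.TS A (MvPolynomial B A) d →ₗ[A] SymTen.TS A B d :=
  (SymTen.TSmap A d (π (A := A) (B := B))).toLinearMap

theorem φ_surj [Module.Flat A B] : Function.Surjective (φ (A := A) (B := B) d) :=
  exists_sym_preimage d

/-- `ft₀` restricted to the symmetric tensors -/
noncomputable def f₁ : SymTen.TS A (MvPolynomial B A) d →ₗ[A] C' :=
  ft₀ d F ∘ₗ (SymTen.TS A (MvPolynomial B A) d).val.toLinearMap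

theorem hker [Module.Flat A B] : LinearMap.ker (φ (A := A) (B := B) d) ≤ LinearMap.ker (f₁ d F) := by
  intro x hx
  rw [LinearMap.mem_ker] at hx ⊢
  apply ft₀_eq_zero d F x.1 x.2
  have h := congrArg Subtype.val hx
  rw [← tmap_eq_map]
  exact h

/-- the linear map `TS^d(B) → C'` through which `F` factors -/
noncomputable def f [Module.Flat A B] : SymTen.TS A B d →ₗ[A] C' :=
  ((LinearMap.ker (φ (A := A) (B := B) d)).liftQ (f₁ d F) (hker d F)) ∘ₗ
    ((φ (A := A) (B := B) d).quotKerEquivOfSurjective (φ_surj d)).symm.toLinearMap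

theorem f_φ [Module.Flat A B] (x : SymTen.TS A (MvPolynomial B A) d) :
    f d F (φ d x) = f₁ d F x := by
  unfold f
  rw [LinearMap.comp_apply]
  have h : ((φ (A := A) (B := B) d).quotKerEquivOfSurjective (φ_surj d)).symm (φ d x) =
      Submodule.Quotient.mk x := by
    apply ((φ (A := A) (B := B) d).quotKerEquivOfSurjective (φ_surj d)).injective
    rw [LinearEquiv.apply_symm_apply]
    rfl
  rw [LinearEquiv.coe_coe, h, Submodule.liftQ_apply]

theorem f_ts [Module.Flat A B] (σ : Type u) (z : MvPolynomial σ A ⊗[A] B) :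
    (f d F).lTensor (MvPolynomial σ A) ((ts B d).law.toFun' (MvPolynomial σ A) z) =
      F.law.toFun' (MvPolynomial σ A) z := by
  obtain ⟨x, rfl⟩ := LinearMap.lTensor_surjective (MvPolynomial σ A)
    (g := (π (A := A) (B := B)).toLinearMap) π_surjective z
  have hval : (SymTen.TS A B d).val.toLinearMap ∘ₗ φ (A := A) (B := B) d =
      (PiTensorProduct.map (fun _ : Fin d => (π (A := A) (B := B)).toLinearMap)) ∘ₗ
        (SymTen.TS A (MvPolynomial B A) d).val.toLinearMap := by
    ext x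
    exact tmap_eq_map _ _
  have key : (ts B d).law.toFun' (MvPolynomial σ A)
      ((π (A := A) (B := B)).toLinearMap.lTensor (MvPolynomial σ A) x) =
      (φ d).lTensor (MvPolynomial σ A)
        ((ts (MvPolynomial B A) d).law.toFun' (MvPolynomial σ A) x) := by
    apply inc_injective (SymTen.TS A B d) σ
    unfold inc
    rw [val_ts, tl_nat_lin, ← LinearMap.comp_apply (LinearMap.lTensor _ _), ← LinearMap.lTensor_comp,
      hval, LinearMap.lTensor_comp, LinearMap.comp_apply, val_ts]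
  rw [key, ← LinearMap.comp_apply, ← LinearMap.lTensor_comp]
  have h3 : f d F ∘ₗ φ d = f₁ d F := LinearMap.ext (f_φ d F)
  rw [h3]
  unfold f₁
  rw [LinearMap.lTensor_comp, LinearMap.comp_apply, val_ts, ← factor₀, G₀_apply]

end exist

/-- **`TS^d(B)` with the tensor power law is the divided power algebra of a flat algebra `B`** -/
theorem isGammaD_ts_of_flat {B : Type u} [CommRing B] [Algebra A B] [Module.Flat A B] (d : ℕ) :
    PolLaw.IsGammaD (ts (A := A) B d) := by
  apply TSCore.isGammaD_of_spans_poly (spans_ts d)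
  intro C' _ _ F
  exact ⟨f d F, f_ts d F⟩

end Groth.Agent.Lib.Helper15.TSFlat
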