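import Mathlib
import Groth.Prelude.Def_SymTen
import Groth.Agent.Lib.Helper15.TSLaw

/-!
# Symmetric tensors of a finite type algebra over a noetherian ring are of finite type (helper15)
-/

set_option autoImplicit false
universe u
open scoped TensorProduct

namespace Groth.Agent.Lib.Helper15.TSNoether

open Groth.Agent.Lib.Helper15.TSLaw

variable (A : Type u) [CommRing A] (B : Type u) [CommRing B] [Algebra A B] (d : ℕ)

theorem perm_one (t : ⨂[A] _ : Fin d, B) : SymTen.perm A B d 1 t = t := by
  rw [SymTen.perm_apply]
  induction t using PiTensorProduct.induction_on with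
  | smul_tprod r f => rw [map_smul, PiTensorProduct.reindex_tprod]; rfl
  | add x y hx hy => rw [map_add, hx, hy]

theorem perm_mul (σ τ : Equiv.Perm (Fin d)) (t : ⨂[A] _ : Fin d, B) :
    SymTen.perm A B d (σ * τ) t = SymTen.perm A B d σ (SymTen.perm A B d τ t) := by
  induction t using PiTensorProduct.induction_on with
  | smul_tprod r f =>
    rw [map_smul, map_smul, map_smul, SymTen.perm_tprod, SymTen.perm_tprod, SymTen.perm_tprod]
    rfl
  | add x y hx hy => rw [map_add, map_add, map_add, hx, hy]

/-- the permutation action on the tensor power -/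
noncomputable def permAction : MulSemiringAction (Equiv.Perm (Fin d)) (⨂[A] _ : Fin d, B) where
  smul σ t := SymTen.perm A B d σ t
  one_smul t := perm_one A B d t
  mul_smul σ τ t := perm_mul A B d σ τ t
  smul_zero σ := map_zero _
  smul_add σ x y := map_add _ x y
  smul_one σ := map_one _
  smul_mul σ x y := map_mul _ x y

theorem isInvariant :
    letI := permAction A B d
    Algebra.IsInvariant (SymTen.TS A B d) (⨂[A] _ : Fin d, B) (Equiv.Perm (Fin d)) := by
  letI := permAction A B d
  refine ⟨fun b hb => ⟨⟨b, fun σ => ?_⟩, rfl⟩⟩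
  rw [← SymTen.perm_apply]
  exact hb σ

theorem isIntegral : Algebra.IsIntegral (SymTen.TS A B d) (⨂[A] _ : Fin d, B) := by
  letI := permAction A B d
  haveI := isInvariant A B d
  exact Algebra.IsInvariant.isIntegral (SymTen.TS A B d) (⨂[A] _ : Fin d, B) (Equiv.Perm (Fin d))

/-- the tensor power of a finite type algebra is of finite type -/
theorem finiteType_tensorPower [Algebra.FiniteType A B] :
    Algebra.FiniteType A (⨂[A] _ : Fin d, B) := by
  classical
  obtain ⟨s, hs⟩ := (Algebra.FiniteType.out : (⊤ : Subalgebra A B).FG)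
  refine ⟨⟨Finset.univ.biUnion (fun j : Fin d => s.image (sg B d j)), ?_⟩⟩
  rw [eq_top_iff]
  intro t _
  induction t using PiTensorProduct.induction_on with
  | smul_tprod r f =>
    refine Subalgebra.smul_mem _ ?_ r
    rw [TSLaw.tprod_eq_prod]
    refine Subalgebra.prod_mem _ fun j _ => ?_
    have h1 : f j ∈ Algebra.adjoin A (s : Set B) := by rw [hs]; trivial
    have h2 : sg B d j (f j) ∈ (Algebra.adjoin A (s : Set B)).map (sg B d j) := ⟨f j, h1, rfl⟩
    rw [AlgHom.map_adjoin] at h2
    refine Algebra.adjoin_mono ?_ h2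
    intro x hx
    obtain ⟨b, hb, rfl⟩ := hx
    simp only [Finset.coe_biUnion, Finset.coe_univ, Set.mem_univ, Set.iUnion_true, Set.mem_iUnion,
      Finset.coe_image]
    exact ⟨j, b, hb, rfl⟩
  | add x y hx hy => exact Subalgebra.add_mem _ (hx trivial) (hy trivial)

/-- **Noether**: over a noetherian ring, the symmetric tensors of a finite type algebra are of
finite type -/
theorem finiteType_TS [IsNoetherianRing A] [Algebra.FiniteType A B] :
    Algebra.FiniteType A (SymTen.TS A B d) := by
  haveI := finiteType_tensorPower A B d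
  haveI := isIntegral A B d
  haveI : Algebra.FiniteType (SymTen.TS A B d) (⨂[A] _ : Fin d, B) :=
    Algebra.FiniteType.of_restrictScalars_finiteType A (SymTen.TS A B d) (⨂[A] _ : Fin d, B)
  haveI : Module.Finite (SymTen.TS A B d) (⨂[A] _ : Fin d, B) := Algebra.IsIntegral.finite
  refine ⟨fg_of_fg_of_fg A (SymTen.TS A B d) (⨂[A] _ : Fin d, B) Algebra.FiniteType.out
    Module.Finite.fg_top ?_⟩
  exact Subtype.val_injective

end Groth.Agent.Lib.Helper15.TSNoether
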