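import Mathlib
import Groth.Prelude.Def_PolLaw2
import Groth.Agent.Lib.Helper15.TSFlat
import Groth.Agent.Lib.Helper15.TSNoether
import Groth.Agent.Lib.Helper15.LawImage

/-!
# The norm law `T^d(B) → TS^d(B)`, `z ↦ ∏_σ σ(z)` (helper15)
-/

set_option autoImplicit false
universe u
open scoped TensorProduct
open MvPolynomial

namespace Groth.Agent.Lib.Helper15.NormLaw

open Groth.Agent.Lib.Helper15.LawFree Groth.Agent.Lib.Helper15.Corestrict
  Groth.Agent.Lib.Helper15.TSLaw

variable {A : Type u} [CommRing A]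

section coprod

variable {B R : Type u} [CommRing B] [Algebra A B] [CommRing R] [Algebra A R] {d : ℕ}

/-- the tensor power is the `d`-fold coproduct of commutative algebras -/
noncomputable def coprodLift (h : Fin d → (B →ₐ[A] R)) : (⨂[A] _ : Fin d, B) →ₐ[A] R :=
  PiTensorProduct.liftAlgHom
    ((MultilinearMap.mkPiAlgebra A (Fin d) R).compLinearMap (fun j => (h j).toLinearMap))
    (by simp)
    (by intro x y; simp [Finset.prod_mul_distrib])

theorem coprodLift_tprod (h : Fin d → (B →ₐ[A] R)) (b : Fin d → B) :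
    coprodLift h (PiTensorProduct.tprod A b) = ∏ j, h j (b j) := by
  unfold coprodLift
  rw [PiTensorProduct.liftAlgHom_apply, PiTensorProduct.lift.tprod]
  simp

theorem coprodLift_sg (h : Fin d → (B →ₐ[A] R)) (j : Fin d) (b : B) :
    coprodLift h (sg B d j b) = h j b := by
  simp only [sg, PiTensorProduct.singleAlgHom_apply]
  rw [coprodLift_tprod, Finset.prod_eq_single j]
  · simp
  · intro l _ hl
    simp [MonoidHom.mulSingle_apply, Pi.mulSingle_apply, hl]
  · intro hj
    exact absurd (Finset.mem_univ j) hj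

end coprod

section norm

variable (B : Type u) [CommRing B] [Algebra A B] (d : ℕ)

theorem symm_toFun' (S : Type u) [CommSemiring S] [Algebra A S] (z : S ⊗[A] (⨂[A] _ : Fin d, B)) :
    (SymTen.symmLaw A B d).law.toFun' S z =
      ∏ σ : Equiv.Perm (Fin d), Algebra.TensorProduct.map (AlgHom.id S S) (SymTen.perm A B d σ) z :=
  rfl

theorem perm_symm (τ : Equiv.Perm (Fin d)) (S : Type u) [CommSemiring S] [Algebra A S]
    (z : S ⊗[A] (⨂[A] _ : Fin d, B)) :
    (SymTen.perm A B d τ).toLinearMap.lTensor S ((SymTen.symmLaw A B d).law.toFun' S z) =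
      (SymTen.symmLaw A B d).law.toFun' S z := by
  rw [symm_toFun', PolLaw.lTensor_algHom_apply, map_prod]
  rw [← Equiv.prod_comp (Equiv.mulLeft τ)
    (fun σ => (Algebra.TensorProduct.map (AlgHom.id S S) (SymTen.perm A B d σ)) z)]
  refine Finset.prod_congr rfl fun σ _ => ?_
  have h : (Algebra.TensorProduct.map (AlgHom.id S S) (SymTen.perm A B d τ)).comp
      (Algebra.TensorProduct.map (AlgHom.id S S) (SymTen.perm A B d σ)) =
      Algebra.TensorProduct.map (AlgHom.id S S) (SymTen.perm A B d (τ * σ)) := by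
    apply Algebra.TensorProduct.ext'
    intro s b
    simp only [AlgHom.comp_apply, Algebra.TensorProduct.map_tmul, AlgHom.id_apply]
    rw [TSNoether.perm_mul]
  exact congrArg (fun f => f z) h

theorem tcoeff_symm_mem {σ : Type u} (m : σ →₀ ℕ)
    (z : MvPolynomial σ A ⊗[A] (⨂[A] _ : Fin d, B)) :
    tcoeff m ((SymTen.symmLaw A B d).law.toFun' (MvPolynomial σ A) z) ∈ SymTen.TS A B d := by
  intro τ
  rw [← SymTen.perm_apply]
  have h := GammaSpan.ext_lTensor (lcoeff A m) (SymTen.perm A B d τ).toLinearMap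
    ((SymTen.symmLaw A B d).law.toFun' (MvPolynomial σ A) z)
  rw [perm_symm] at h
  exact h.symm

theorem symm_mem (σ : Type u) (z : MvPolynomial σ A ⊗[A] (⨂[A] _ : Fin d, B)) :
    (SymTen.symmLaw A B d).law.toFun' (MvPolynomial σ A) z ∈
      LinearMap.range (inc (SymTen.TS A B d) (MvPolynomial σ A)) := by
  obtain ⟨f, hf, hrep⟩ := exists_repr_tcoeff ((SymTen.symmLaw A B d).law.toFun' (MvPolynomial σ A) z)
  refine ⟨∑ α ∈ f.support, (monomial α (1 : A)) ⊗ₜ[A]
    (⟨f α, by rw [hf]; exact tcoeff_symm_mem B d α z⟩ : SymTen.TS A B d), ?_⟩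
  rw [map_sum]
  conv_rhs => rw [hrep]
  refine Finset.sum_congr rfl fun α _ => ?_
  unfold inc
  rw [LinearMap.lTensor_tmul]
  rfl

/-- **the norm law `T^d(B) → TS^d(B)`, `z ↦ ∏_σ σ(z)`**, of degree `d!` -/
noncomputable def N : PolLaw.MulLaw A (⨂[A] _ : Fin d, B) (SymTen.TS A B d) d.factorial :=
  law₀ (SymTen.symmLaw A B d) (SymTen.TS A B d) (symm_mem B d)

theorem val_N (S : Type u) [CommSemiring S] [Algebra A S] (z : S ⊗[A] (⨂[A] _ : Fin d, B)) :
    (SymTen.TS A B d).val.toLinearMap.lTensor S ((N B d).law.toFun' S z) =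
      (SymTen.symmLaw A B d).law.toFun' S z :=
  inc_cfun (SymTen.symmLaw A B d) (SymTen.TS A B d) (symm_mem B d) S z

end norm

section nat

variable {B B' : Type u} [CommRing B] [Algebra A B] [CommRing B'] [Algebra A B'] (d : ℕ)
  (f : B →ₐ[A] B')

theorem lTensor_comp_apply {M N N' : Type u} [AddCommGroup M] [Module A M] [AddCommGroup N]
    [Module A N] [AddCommGroup N'] [Module A N'] (g : N →ₗ[A] N') (g' : M →ₗ[A] N)
    (S : Type u) [CommSemiring S] [Algebra A S] (x : S ⊗[A] M) :
    g.lTensor S (g'.lTensor S x) = (g ∘ₗ g').lTensor S x := by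
  rw [LinearMap.lTensor_comp, LinearMap.comp_apply]

theorem lTensor_mul (S : Type u) [CommSemiring S] [Algebra A S] (x y : S ⊗[A] B) :
    f.toLinearMap.lTensor S (x * y) = f.toLinearMap.lTensor S x * f.toLinearMap.lTensor S y := by
  rw [PolLaw.lTensor_algHom_apply, PolLaw.lTensor_algHom_apply, PolLaw.lTensor_algHom_apply,
    map_mul]

theorem tmap_perm (σ : Equiv.Perm (Fin d)) :
    (SymTen.tmap A d f).comp (SymTen.perm A B d σ) =
      (SymTen.perm A B' d σ).comp (SymTen.tmap A d f) := by
  apply AlgHom.ext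
  intro t
  simp only [AlgHom.comp_apply]
  rw [SymTen.perm_apply, SymTen.perm_apply, SymTen.tmap_reindex]

theorem symm_nat (S : Type u) [CommSemiring S] [Algebra A S] (z : S ⊗[A] (⨂[A] _ : Fin d, B)) :
    (SymTen.symmLaw A B' d).law.toFun' S ((SymTen.tmap A d f).toLinearMap.lTensor S z) =
      (SymTen.tmap A d f).toLinearMap.lTensor S ((SymTen.symmLaw A B d).law.toFun' S z) := by
  rw [symm_toFun', symm_toFun', PolLaw.lTensor_algHom_apply, PolLaw.lTensor_algHom_apply, map_prod]
  refine Finset.prod_congr rfl fun σ _ => ?_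
  have h : (Algebra.TensorProduct.map (AlgHom.id S S) (SymTen.perm A B' d σ)).comp
      (Algebra.TensorProduct.map (AlgHom.id S S) (SymTen.tmap A d f)) =
      (Algebra.TensorProduct.map (AlgHom.id S S) (SymTen.tmap A d f)).comp
        (Algebra.TensorProduct.map (AlgHom.id S S) (SymTen.perm A B d σ)) := by
    apply Algebra.TensorProduct.ext'
    intro s b
    simp only [AlgHom.comp_apply, Algebra.TensorProduct.map_tmul, AlgHom.id_apply]
    have := DFunLike.congr_fun (tmap_perm d f σ) b
    simp only [AlgHom.comp_apply] at this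
    rw [this]
  exact congrArg (fun g => g z) h

theorem val_TSmap :
    (SymTen.TS A B' d).val.toLinearMap ∘ₗ (SymTen.TSmap A d f).toLinearMap =
      (SymTen.tmap A d f).toLinearMap ∘ₗ (SymTen.TS A B d).val.toLinearMap := by
  apply LinearMap.ext
  intro t
  rfl

/-- naturality of the norm law -/
theorem N_nat (S : Type u) [CommSemiring S] [Algebra A S] (z : S ⊗[A] (⨂[A] _ : Fin d, B)) :
    (SymTen.TSmap A d f).toLinearMap.lTensor S ((N B d).law.toFun' S z) =
      (N B' d).law.toFun' S ((SymTen.tmap A d f).toLinearMap.lTensor S z) := by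
  refine TSCore.law_ext_poly (PolLaw.postcomp (SymTen.TSmap A d f).toLinearMap (N B d).law)
    (PolLaw.precomp (N B' d).law (SymTen.tmap A d f).toLinearMap) (fun σ z => ?_) S z
  show (SymTen.TSmap A d f).toLinearMap.lTensor _ ((N B d).law.toFun' _ z) =
      (N B' d).law.toFun' _ ((SymTen.tmap A d f).toLinearMap.lTensor _ z)
  apply inc_injective (SymTen.TS A B' d) σ
  unfold inc
  rw [val_N, symm_nat, lTensor_comp_apply, val_TSmap, ← lTensor_comp_apply, val_N]

/-- naturality of the tensor power law -/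
theorem ts_nat (S : Type u) [CommSemiring S] [Algebra A S] (z : S ⊗[A] B) :
    (SymTen.TSmap A d f).toLinearMap.lTensor S ((ts B d).law.toFun' S z) =
      (ts B' d).law.toFun' S (f.toLinearMap.lTensor S z) := by
  refine TSCore.law_ext_poly (PolLaw.postcomp (SymTen.TSmap A d f).toLinearMap (ts B d).law)
    (PolLaw.precomp (ts B' d).law f.toLinearMap) (fun σ z => ?_) S z
  show (SymTen.TSmap A d f).toLinearMap.lTensor _ ((ts B d).law.toFun' _ z) =
      (ts B' d).law.toFun' _ (f.toLinearMap.lTensor _ z)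
  apply inc_injective (SymTen.TS A B' d) σ
  unfold inc
  rw [val_ts, tl_nat_lin, lTensor_comp_apply, val_TSmap, ← lTensor_comp_apply, val_ts]
  have h : (SymTen.tmap A d f).toLinearMap = PiTensorProduct.map (fun _ : Fin d => f.toLinearMap) := by
    apply LinearMap.ext
    intro t
    exact tmap_eq_map f t
  rw [h]

end nat

section pow

variable (B : Type u) [CommRing B] [Algebra A B] (d : ℕ)

theorem perm_val (σ : Equiv.Perm (Fin d)) :
    (SymTen.perm A B d σ).toLinearMap ∘ₗ (SymTen.TS A B d).val.toLinearMap =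
      (SymTen.TS A B d).val.toLinearMap := by
  apply LinearMap.ext
  intro t
  show SymTen.perm A B d σ t.1 = t.1
  rw [SymTen.perm_apply]
  exact t.2 σ

theorem symm_val (S : Type u) [CommSemiring S] [Algebra A S] (w : S ⊗[A] SymTen.TS A B d) :
    (SymTen.symmLaw A B d).law.toFun' S ((SymTen.TS A B d).val.toLinearMap.lTensor S w) =
      ((SymTen.TS A B d).val.toLinearMap.lTensor S w) ^ d.factorial := by
  rw [symm_toFun']
  have h : ∀ σ : Equiv.Perm (Fin d),
      Algebra.TensorProduct.map (AlgHom.id S S) (SymTen.perm A B d σ)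
        ((SymTen.TS A B d).val.toLinearMap.lTensor S w) =
      (SymTen.TS A B d).val.toLinearMap.lTensor S w := by
    intro σ
    rw [← PolLaw.lTensor_algHom_apply, lTensor_comp_apply, perm_val]
  rw [Finset.prod_congr rfl fun σ _ => h σ, Finset.prod_const, Finset.card_univ,
    Fintype.card_perm, Fintype.card_fin]

/-- on symmetric tensors the norm law is the `d!`-th power -/
theorem N_val (S : Type u) [CommSemiring S] [Algebra A S] (w : S ⊗[A] SymTen.TS A B d) :
    (N B d).law.toFun' S ((SymTen.TS A B d).val.toLinearMap.lTensor S w) = w ^ d.factorial := by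
  refine TSCore.law_ext_poly (PolLaw.precomp (N B d).law (SymTen.TS A B d).val.toLinearMap)
    (PolLaw.powLaw d.factorial) (fun σ w => ?_) S w
  show (N B d).law.toFun' _ ((SymTen.TS A B d).val.toLinearMap.lTensor _ w) = w ^ d.factorial
  apply inc_injective (SymTen.TS A B d) σ
  unfold inc
  rw [val_N, symm_val, PolLaw.lTensor_algHom_apply (SymTen.TS A B d).val,
    PolLaw.lTensor_algHom_apply (SymTen.TS A B d).val, map_pow]

end pow

section tmap

variable {B B' B'' : Type u} [CommRing B] [Algebra A B] [CommRing B'] [Algebra A B']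
  [CommRing B''] [Algebra A B''] (d : ℕ)

theorem tmap_comp (g : B' →ₐ[A] B'') (f : B →ₐ[A] B') :
    (SymTen.tmap A d g).comp (SymTen.tmap A d f) = SymTen.tmap A d (g.comp f) := by
  apply AlgHom.ext
  intro t
  induction t using PiTensorProduct.induction_on with
  | smul_tprod r m =>
    simp only [AlgHom.comp_apply, map_smul, SymTen.tmap_tprod]
  | add x y hx hy => simp only [map_add, hx, hy]

theorem tmap_id : SymTen.tmap A d (AlgHom.id A B) = AlgHom.id A (⨂[A] _ : Fin d, B) := by
  apply AlgHom.ext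
  intro t
  induction t using PiTensorProduct.induction_on with
  | smul_tprod r m =>
    simp only [map_smul, SymTen.tmap_tprod, AlgHom.id_apply]
  | add x y hx hy => simp only [map_add, hx, hy]

theorem tmap_sg (f : B →ₐ[A] B') (j : Fin d) (b : B) :
    SymTen.tmap A d f (sg B d j b) = sg B' d j (f b) := by
  simp only [sg, PiTensorProduct.singleAlgHom_apply]
  rw [SymTen.tmap_tprod]
  congr 1
  funext i
  simp only [MonoidHom.mulSingle_apply, Pi.mulSingle_apply]
  split_ifs with h
  · subst h; rfl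
  · exact map_one f

theorem tmap_surjective (f : B →ₐ[A] B') (hf : Function.Surjective f) :
    Function.Surjective (SymTen.tmap A d f) := by
  intro t
  induction t using PiTensorProduct.induction_on with
  | smul_tprod r m =>
    refine ⟨r • PiTensorProduct.tprod A (fun i => (hf (m i)).choose), ?_⟩
    rw [map_smul, SymTen.tmap_tprod]
    congr 2
    funext i
    exact (hf (m i)).choose_spec
  | add x y hx hy =>
    obtain ⟨x', rfl⟩ := hx
    obtain ⟨y', rfl⟩ := hy
    exact ⟨x' + y', map_add _ _ _⟩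

end tmap

section main

open GammaSpan (π π_surjective)

variable {B C : Type u} [CommRing B] [Algebra A B] [CommRing C] [Algebra A C] {d : ℕ}
  (γ : PolLaw.MulLaw A B C d)

/-- the algebra map `TS^d(A[B]) → C` attached to the law `γ ∘ π` -/
noncomputable def Φ : SymTen.TS A (MvPolynomial B A) d →ₐ[A] C :=
  (TSFlat.isGammaD_ts_of_flat (A := A) (B := MvPolynomial B A) d C (γ.precomp π)).exists.choose

theorem Φ_spec : PolLaw.postcomp (Φ γ).toLinearMap (ts (MvPolynomial B A) d).law =
    (γ.precomp π).law :=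
  (TSFlat.isGammaD_ts_of_flat (A := A) (B := MvPolynomial B A) d C (γ.precomp π)).exists.choose_spec

theorem Φ_apply (S : Type u) [CommSemiring S] [Algebra A S] (z : S ⊗[A] MvPolynomial B A) :
    (Φ γ).toLinearMap.lTensor S ((ts (MvPolynomial B A) d).law.toFun' S z) =
      γ.law.toFun' S ((π (A := A) (B := B)).toLinearMap.lTensor S z) := by
  have := congrArg (fun L : MvPolynomial B A →ₚₗ[A] C => L.toFun' S z) (Φ_spec γ)
  exact this

/-- the law `Φ ∘ N` on `T^d(A[B])` -/
noncomputable def G : PolLaw.MulLaw A (⨂[A] _ : Fin d, MvPolynomial B A) C d.factorial :=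
  PolLaw.MulLaw.postcomp (Φ γ) (N (MvPolynomial B A) d)

theorem G_apply (S : Type u) [CommSemiring S] [Algebra A S]
    (x : S ⊗[A] (⨂[A] _ : Fin d, MvPolynomial B A)) :
    (G γ).law.toFun' S x = (Φ γ).toLinearMap.lTensor S ((N (MvPolynomial B A) d).law.toFun' S x) :=
  rfl

theorem Φ_TSmap_sp (i : MvPolynomial B A) (hi : π i = 0) :
    (Φ γ).comp (SymTen.TSmap A d (sp B i)) = (Φ γ).comp (SymTen.TSmap A d (sp B 0)) := by
  have hQ : PolLaw.IsGammaD (ts (A := A) (MvPolynomial (Option B) A) d) :=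
    TSFlat.isGammaD_ts_of_flat d
  have hπ : (π (A := A) (B := B)).comp (sp B i) = (π (A := A) (B := B)).comp (sp B 0) := by
    apply MvPolynomial.algHom_ext
    intro o
    cases o with
    | none => simp [sp, hi]
    | some b => simp [sp]
  obtain ⟨g, -, huniq⟩ := hQ C ((γ.precomp π).precomp (sp B 0))
  have key : ∀ a : MvPolynomial B A,
      (π (A := A) (B := B)).comp (sp B a) = (π (A := A) (B := B)).comp (sp B 0) →
      PolLaw.postcomp ((Φ γ).comp (SymTen.TSmap A d (sp B a))).toLinearMap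
        (ts (MvPolynomial (Option B) A) d).law = ((γ.precomp π).precomp (sp B 0)).law := by
    intro a ha
    ext S _ _ z
    show ((Φ γ).comp (SymTen.TSmap A d (sp B a))).toLinearMap.lTensor S
      ((ts (MvPolynomial (Option B) A) d).law.toFun' S z) =
      γ.law.toFun' S ((π (A := A) (B := B)).toLinearMap.lTensor S
        ((sp B 0).toLinearMap.lTensor S z))
    have h1 : ((Φ γ).comp (SymTen.TSmap A d (sp B a))).toLinearMap =
        (Φ γ).toLinearMap ∘ₗ (SymTen.TSmap A d (sp B a)).toLinearMap := rfl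
    have h2 : ∀ a' : MvPolynomial B A, (π (A := A) (B := B)).toLinearMap ∘ₗ (sp B a').toLinearMap =
        ((π (A := A) (B := B)).comp (sp B a')).toLinearMap := fun _ => rfl
    rw [h1, ← lTensor_comp_apply, ts_nat, Φ_apply, lTensor_comp_apply, lTensor_comp_apply,
      h2, h2, ha]
  exact (huniq _ (key i hπ)).trans (huniq _ (key 0 rfl)).symm

theorem sg_mem_ker (j : Fin d) (i : MvPolynomial B A) (hi : π i = 0) :
    sg (MvPolynomial B A) d j i ∈ PolLaw.ker (G γ).law := by
  intro S _ _ x w
  let ι : MvPolynomial B A →ₐ[A] MvPolynomial (Option B) A := MvPolynomial.rename some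
  let xt : S ⊗[A] (⨂[A] _ : Fin d, MvPolynomial (Option B) A) :=
    (SymTen.tmap A d ι).toLinearMap.lTensor S x + (SymTen.tmap A d ι).toLinearMap.lTensor S w *
      ((1 : S) ⊗ₜ[A] sg (MvPolynomial (Option B) A) d j (X none))
  have hcomp : ∀ a : MvPolynomial B A, ∀ y : S ⊗[A] (⨂[A] _ : Fin d, MvPolynomial B A),
      (SymTen.tmap A d (sp B a)).toLinearMap.lTensor S ((SymTen.tmap A d ι).toLinearMap.lTensor S y)
        = y := by
    intro a y
    rw [lTensor_comp_apply]
    have : (SymTen.tmap A d (sp B a)).toLinearMap ∘ₗ (SymTen.tmap A d ι).toLinearMap =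
        LinearMap.id := by
      have h := tmap_comp (A := A) d (sp B a) ι
      rw [sp_comp_rename, tmap_id] at h
      exact congrArg AlgHom.toLinearMap h
    rw [this, LinearMap.lTensor_id, LinearMap.id_apply]
  have hxt : ∀ a : MvPolynomial B A, (SymTen.tmap A d (sp B a)).toLinearMap.lTensor S xt =
      x + w * ((1 : S) ⊗ₜ[A] sg (MvPolynomial B A) d j a) := by
    intro a
    have e1 : (SymTen.tmap A d (sp B a)).toLinearMap.lTensor S xt =
        (SymTen.tmap A d (sp B a)).toLinearMap.lTensor S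
            ((SymTen.tmap A d ι).toLinearMap.lTensor S x) +
          (SymTen.tmap A d (sp B a)).toLinearMap.lTensor S
            ((SymTen.tmap A d ι).toLinearMap.lTensor S w) *
          (SymTen.tmap A d (sp B a)).toLinearMap.lTensor S
            ((1 : S) ⊗ₜ[A] sg (MvPolynomial (Option B) A) d j (X none)) := by
      simp only [xt, map_add]
      rw [lTensor_mul]
    rw [e1, hcomp, hcomp, LinearMap.lTensor_tmul, AlgHom.toLinearMap_apply, tmap_sg]
    congr 4
    simp [sp]
  have hG : ∀ a : MvPolynomial B A,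
      (G γ).law.toFun' S ((SymTen.tmap A d (sp B a)).toLinearMap.lTensor S xt) =
        ((Φ γ).comp (SymTen.TSmap A d (sp B a))).toLinearMap.lTensor S
          ((N (MvPolynomial (Option B) A) d).law.toFun' S xt) := by
    intro a
    rw [G_apply, ← N_nat, lTensor_comp_apply]
    rfl
  have h1 := hG i
  have h0 := hG 0
  rw [hxt] at h1 h0
  rw [h1, Φ_TSmap_sp γ i hi, ← h0, map_zero, TensorProduct.tmul_zero, mul_zero, add_zero]

/-- the maps `B → T^d(A[B]) ⧸ ker G` -/
noncomputable def hj (j : Fin d) :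
    B →ₐ[A] (⨂[A] _ : Fin d, MvPolynomial B A) ⧸ PolLaw.ker (G γ).law :=
  (Ideal.Quotient.liftₐ (RingHom.ker (π (A := A) (B := B)))
    ((Ideal.Quotient.mkₐ A (PolLaw.ker (G γ).law)).comp (sg (MvPolynomial B A) d j))
    (fun a ha => by
      rw [AlgHom.comp_apply, Ideal.Quotient.mkₐ_eq_mk, Ideal.Quotient.eq_zero_iff_mem]
      exact sg_mem_ker γ j a ha)).comp
    (Ideal.quotientKerAlgEquivOfSurjective (π_surjective (A := A) (B := B))).symm.toAlgHom

theorem hj_π (j : Fin d) (p : MvPolynomial B A) :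
    hj γ j (π p) = Ideal.Quotient.mk (PolLaw.ker (G γ).law) (sg (MvPolynomial B A) d j p) := by
  unfold hj
  have h : (Ideal.quotientKerAlgEquivOfSurjective (π_surjective (A := A) (B := B))).symm (π p) =
      Ideal.Quotient.mk _ p := by
    apply (Ideal.quotientKerAlgEquivOfSurjective (π_surjective (A := A) (B := B))).injective
    rw [AlgEquiv.apply_symm_apply]
    rfl
  rw [AlgHom.comp_apply]
  show Ideal.Quotient.liftₐ _ _ _
    ((Ideal.quotientKerAlgEquivOfSurjective (π_surjective (A := A) (B := B))).symm (π p)) = _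
  rw [h]
  rfl

/-- the map `T^d(B) → T^d(A[B]) ⧸ ker G` -/
noncomputable def ρ :
    (⨂[A] _ : Fin d, B) →ₐ[A] (⨂[A] _ : Fin d, MvPolynomial B A) ⧸ PolLaw.ker (G γ).law :=
  coprodLift (hj γ)

theorem ρ_tmap : (ρ γ).comp (SymTen.tmap A d (π (A := A) (B := B))) =
    Ideal.Quotient.mkₐ A (PolLaw.ker (G γ).law) := by
  apply PiTensorProduct.algHom_ext
  intro j
  apply AlgHom.ext
  intro p
  show ρ γ (SymTen.tmap A d π (sg (MvPolynomial B A) d j p)) =
    Ideal.Quotient.mk _ (sg (MvPolynomial B A) d j p)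
  rw [tmap_sg]
  unfold ρ
  rw [coprodLift_sg, hj_π]

/-- **the norm law `T^d(B) → Γ^d(B)`** of degree `d!` -/
noncomputable def F : PolLaw.MulLaw A (⨂[A] _ : Fin d, B) C d.factorial :=
  (LawImage.Fbar (G γ)).precomp (ρ γ)

theorem F_apply (S : Type u) [CommSemiring S] [Algebra A S]
    (x : S ⊗[A] (⨂[A] _ : Fin d, MvPolynomial B A)) :
    (F γ).law.toFun' S ((SymTen.tmap A d (π (A := A) (B := B))).toLinearMap.lTensor S x) =
      (Φ γ).toLinearMap.lTensor S ((N (MvPolynomial B A) d).law.toFun' S x) := by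
  show (LawImage.Fbar (G γ)).law.toFun' S ((ρ γ).toLinearMap.lTensor S
    ((SymTen.tmap A d (π (A := A) (B := B))).toLinearMap.lTensor S x)) = _
  rw [lTensor_comp_apply]
  have h : (ρ γ).toLinearMap ∘ₗ (SymTen.tmap A d (π (A := A) (B := B))).toLinearMap =
      (Ideal.Quotient.mkₐ A (PolLaw.ker (G γ).law)).toLinearMap :=
    congrArg AlgHom.toLinearMap (ρ_tmap γ)
  rw [h, PolLaw.lTensor_algHom_apply, LawImage.Fbar_apply, G_apply]

end main

section final

open GammaSpan (π π_surjective)

variable {B C : Type u} [CommRing B] [Algebra A B] [CommRing C] [Algebra A C] {d : ℕ}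
  (γ : PolLaw.MulLaw A B C d) (φ : C →ₐ[A] SymTen.TS A B d)
  (hφ : ∀ (S : Type u) [CommSemiring S] [Algebra A S] (n : ℕ) (s : Fin n → S) (b : Fin n → B),
      ((SymTen.TS A B d).val.comp φ).toLinearMap.lTensor S (γ.law.toFun' S (∑ j, s j ⊗ₜ[A] b j)) =
        ∑ c : Fin d → Fin n, (∏ i, s (c i)) ⊗ₜ[A] PiTensorProduct.tprod A (fun i => b (c i)))

include hφ in
theorem φ_γ (S : Type u) [CommSemiring S] [Algebra A S] (z : S ⊗[A] B) :
    φ.toLinearMap.lTensor S (γ.law.toFun' S z) = (ts B d).law.toFun' S z := by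
  refine TSCore.law_ext_poly (PolLaw.postcomp φ.toLinearMap γ.law) (ts B d).law (fun σ z => ?_) S z
  show φ.toLinearMap.lTensor _ (γ.law.toFun' _ z) = (ts B d).law.toFun' _ z
  apply inc_injective (SymTen.TS A B d) σ
  unfold inc
  obtain ⟨n, s, b, rfl⟩ := GammaTS.exists_fin_repr _ z
  rw [ts_sum, lTensor_comp_apply]
  exact hφ _ n s b

include hφ in
theorem φ_Φ : φ.comp (Φ γ) = SymTen.TSmap A d (π (A := A) (B := B)) := by
  have hP : PolLaw.IsGammaD (ts (A := A) (MvPolynomial B A) d) := TSFlat.isGammaD_ts_of_flat d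
  obtain ⟨g, -, huniq⟩ := hP _ ((ts B d).precomp (π (A := A) (B := B)))
  have e1 : PolLaw.postcomp (φ.comp (Φ γ)).toLinearMap (ts (MvPolynomial B A) d).law =
      ((ts B d).precomp (π (A := A) (B := B))).law := by
    ext S _ _ z
    show (φ.comp (Φ γ)).toLinearMap.lTensor S ((ts (MvPolynomial B A) d).law.toFun' S z) =
      (ts B d).law.toFun' S ((π (A := A) (B := B)).toLinearMap.lTensor S z)
    have h1 : (φ.comp (Φ γ)).toLinearMap = φ.toLinearMap ∘ₗ (Φ γ).toLinearMap := rfl
    rw [h1, ← lTensor_comp_apply, Φ_apply, φ_γ γ φ hφ]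
  have e2 : PolLaw.postcomp (SymTen.TSmap A d (π (A := A) (B := B))).toLinearMap
      (ts (MvPolynomial B A) d).law = ((ts B d).precomp (π (A := A) (B := B))).law := by
    ext S _ _ z
    exact ts_nat d π S z
  exact (huniq _ e1).trans (huniq _ e2).symm

include hφ in
/-- `φ ∘ F` is the norm law -/
theorem val_φ_F (S : Type u) [CommSemiring S] [Algebra A S] (y : S ⊗[A] (⨂[A] _ : Fin d, B)) :
    (SymTen.TS A B d).val.toLinearMap.lTensor S (φ.toLinearMap.lTensor S ((F γ).law.toFun' S y)) =
      (SymTen.symmLaw A B d).law.toFun' S y := by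
  obtain ⟨x, rfl⟩ := LinearMap.lTensor_surjective S
    (show Function.Surjective (SymTen.tmap A d (π (A := A) (B := B))).toLinearMap from
      tmap_surjective d π π_surjective) y
  rw [F_apply, lTensor_comp_apply φ.toLinearMap]
  have h1 : φ.toLinearMap ∘ₗ (Φ γ).toLinearMap =
      (SymTen.TSmap A d (π (A := A) (B := B))).toLinearMap :=
    congrArg AlgHom.toLinearMap (φ_Φ γ φ hφ)
  rw [h1, lTensor_comp_apply, val_TSmap, ← lTensor_comp_apply, val_N, symm_nat]

include hφ in
theorem val_φ_F_ground (z : ⨂[A] _ : Fin d, B) :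
    ((SymTen.TS A B d).val (φ ((F γ).law.ground z)) : ⨂[A] _ : Fin d, B) =
      ∏ σ : Equiv.Perm (Fin d), SymTen.perm A B d σ z := by
  have h := val_φ_F γ φ hφ A ((1 : A) ⊗ₜ[A] z)
  have h2 : (SymTen.symmLaw A B d).law.toFun' A ((1 : A) ⊗ₜ[A] z) =
      (1 : A) ⊗ₜ[A] ∏ σ : Equiv.Perm (Fin d), SymTen.perm A B d σ z := by
    unfold SymTen.symmLaw
    rw [PolLaw.MulLaw.prodMap_tmul, one_pow]
  rw [h2] at h
  have h3 := congrArg (TensorProduct.lid A _) h
  rw [TensorProduct.lid_tmul, one_smul] at h3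
  rw [← h3]
  have h4 : ∀ (M N : Type u) [AddCommGroup M] [Module A M] [AddCommGroup N] [Module A N]
      (g : M →ₗ[A] N) (t : A ⊗[A] M), TensorProduct.lid A N (g.lTensor A t) =
        g (TensorProduct.lid A M t) := by
    intro M N _ _ _ _ g t
    induction t using TensorProduct.induction_on with
    | zero => simp
    | tmul a m => simp
    | add x y hx hy => simp only [map_add, hx, hy]
  rw [h4, h4]
  rfl

variable (hγ : PolLaw.IsGammaD γ)

include hγ in
theorem Φ_surjective : Function.Surjective (Φ γ) :=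
  GammaSurj.surjective_of_compat (ts (MvPolynomial B A) d) γ π π_surjective (Φ γ) (Φ_spec γ)
    (TSFlat.isGammaD_ts_of_flat d) hγ

include hγ hφ in
/-- `F ∘ φ` is the `d!`-th power -/
theorem F_val_φ (S : Type u) [CommSemiring S] [Algebra A S] (c : S ⊗[A] C) :
    (F γ).law.toFun' S ((SymTen.TS A B d).val.toLinearMap.lTensor S (φ.toLinearMap.lTensor S c)) =
      c ^ d.factorial := by
  obtain ⟨w, rfl⟩ := LinearMap.lTensor_surjective S
    (show Function.Surjective (Φ γ).toLinearMap from Φ_surjective γ hγ) c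
  rw [lTensor_comp_apply φ.toLinearMap]
  have h1 : φ.toLinearMap ∘ₗ (Φ γ).toLinearMap =
      (SymTen.TSmap A d (π (A := A) (B := B))).toLinearMap :=
    congrArg AlgHom.toLinearMap (φ_Φ γ φ hφ)
  rw [h1, lTensor_comp_apply, val_TSmap, ← lTensor_comp_apply, F_apply, N_val,
    PolLaw.lTensor_algHom_apply, PolLaw.lTensor_algHom_apply, map_pow]

include hφ in
/-- `φ ∘ F` restricted to the symmetric tensors is the `d!`-th power -/
theorem φ_F_val (S : Type u) [CommSemiring S] [Algebra A S] (w : S ⊗[A] SymTen.TS A B d) :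
    φ.toLinearMap.lTensor S ((F γ).law.toFun' S ((SymTen.TS A B d).val.toLinearMap.lTensor S w)) =
      w ^ d.factorial := by
  refine TSCore.law_ext_poly
    (PolLaw.postcomp φ.toLinearMap (PolLaw.precomp (F γ).law (SymTen.TS A B d).val.toLinearMap))
    (PolLaw.powLaw d.factorial) (fun σ w => ?_) S w
  show φ.toLinearMap.lTensor _ ((F γ).law.toFun' _
    ((SymTen.TS A B d).val.toLinearMap.lTensor _ w)) = w ^ d.factorial
  apply inc_injective (SymTen.TS A B d) σ
  unfold inc
  rw [val_φ_F γ φ hφ, symm_val, PolLaw.lTensor_algHom_apply (SymTen.TS A B d).val,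
    PolLaw.lTensor_algHom_apply (SymTen.TS A B d).val, map_pow]

end final

end Groth.Agent.Lib.Helper15.NormLaw
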