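import Mathlib
import Groth.Agent.Lib.Helper15.BCLawG
import Groth.Agent.Lib.Helper15.BCTheta
import Groth.Agent.Lib.Helper15.TSFlat
import Groth.Agent.Lib.Helper15.NormLaw

/-!
# Laws with values in an algebra over a flat base change factor through the symmetric tensors
(helper15)

If `A'` is an `A`-algebra such that `A' ⊗[A] B` is flat over `A'` (e.g. `A'` a field), then every
multiplicative law `B → C'` of degree `d` over `A` with values in an `A'`-algebra `C'` factors
through the tensor power law `B → TS^d_A(B)`.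
-/

set_option autoImplicit false
universe u
open scoped TensorProduct

namespace Groth.Agent.Lib.Helper15.BCFactor

open Groth.Agent.Lib.Helper15.BCLawG Groth.Agent.Lib.Helper15.BCTheta
  Groth.Agent.Lib.Helper15.TSLaw Groth.Agent.Lib.Helper15.Corestrict

variable {A : Type u} [CommRing A] (A' : Type u) [CommRing A'] [Algebra A A']
  {B : Type u} [CommRing B] [Algebra A B]
  {C' : Type u} [CommRing C'] [Algebra A' C'] [Algebra A C'] [IsScalarTower A A' C'] (d : ℕ)

/-- `B → A' ⊗ B` -/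
noncomputable abbrev ι : B →ₐ[A] A' ⊗[A] B := Algebra.TensorProduct.includeRight

section R

variable (R : Type u) [CommRing R] [Algebra A' R] [Algebra A R] [IsScalarTower A A' R]

/-- `R ⊗[A] T^d_A(B) → R ⊗[A'] T^d_{A'}(A' ⊗ B)` -/
noncomputable def PsiT : R ⊗[A] (⨂[A] _ : Fin d, B) →ₗ[A] R ⊗[A'] (⨂[A'] _ : Fin d, A' ⊗[A] B) :=
  ((mu A' (⨂[A'] _ : Fin d, A' ⊗[A] B) R).toLinearMap.restrictScalars A) ∘ₗ
    ((theta A' (ι (B := B) A') d).toLinearMap.lTensor R)

theorem PsiT_tmul (r : R) (t : ⨂[A] _ : Fin d, B) :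
    PsiT A' d R (r ⊗ₜ[A] t) = r ⊗ₜ[A'] theta A' (ι (B := B) A') d t := rfl

/-- `R ⊗[A] TS^d_A(B) → R ⊗[A'] TS^d_{A'}(A' ⊗ B)` -/
noncomputable def PsiS : R ⊗[A] SymTen.TS A B d →ₗ[A] R ⊗[A'] SymTen.TS A' (A' ⊗[A] B) d :=
  ((TensorProduct.mapOfCompatibleSMul A' A R R (SymTen.TS A' (A' ⊗[A] B) d)).restrictScalars A) ∘ₗ
    ((thetaS A' (ι (B := B) A') d).toLinearMap.lTensor R)

theorem PsiS_tmul (r : R) (t : SymTen.TS A B d) :
    PsiS A' d R (r ⊗ₜ[A] t) = r ⊗ₜ[A'] thetaS A' (ι (B := B) A') d t := rfl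

theorem inc_PsiS (y : R ⊗[A] SymTen.TS A B d) :
    (SymTen.TS A' (A' ⊗[A] B) d).val.toLinearMap.lTensor R (PsiS A' d R y) =
      PsiT A' d R ((SymTen.TS A B d).val.toLinearMap.lTensor R y) := by
  induction y using TensorProduct.induction_on with
  | zero => simp
  | tmul r t => rfl
  | add x y hx hy => simp only [map_add, hx, hy]

end R

section R2

variable (R : Type u) [CommRing R] [Algebra A' R] [Algebra A R] [IsScalarTower A A' R]

theorem cb_symm_tmul (r : R) (b : B) :
    (cb (B := B) A' R).symm (r ⊗ₜ[A] b) = r ⊗ₜ[A'] ((1 : A') ⊗ₜ[A] b) := by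
  apply (cb (A := A) (B := B) A' R).injective
  rw [AlgEquiv.apply_symm_apply, cb_tmul, one_smul]

theorem tl_cb (w : R ⊗[A] B) :
    (tl (A := A') (A' ⊗[A] B) d).law.toFun' R ((cb (B := B) A' R).symm w) =
      PsiT A' d R ((tl B d).law.toFun' R w) := by
  obtain ⟨n, r, b, rfl⟩ := GammaTS.exists_fin_repr R w
  rw [map_sum]
  simp only [cb_symm_tmul]
  rw [tl_sum, tl_sum, map_sum]
  refine Finset.sum_congr rfl fun c _ => ?_
  rw [PsiT_tmul, theta_tprod]
  rfl

theorem ts_cb [Module.Flat A' R] (w : R ⊗[A] B) :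
    (ts (A := A') (A' ⊗[A] B) d).law.toFun' R ((cb (B := B) A' R).symm w) =
      PsiS A' d R ((ts B d).law.toFun' R w) := by
  have hinj : Function.Injective
      ((SymTen.TS A' (A' ⊗[A] B) d).val.toLinearMap.lTensor R) :=
    Module.Flat.lTensor_preserves_injective_linearMap _ Subtype.val_injective
  apply hinj
  rw [val_ts, inc_PsiS, val_ts, tl_cb]

end R2

section main

variable [Module.Flat A' (A' ⊗[A] B)] (F : PolLaw.MulLaw A B C' d)

/-- the `A'`-algebra map `TS^d_{A'}(A' ⊗ B) → C'` attached to the base change of `F` -/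
noncomputable def xi' : SymTen.TS A' (A' ⊗[A] B) d →ₐ[A'] C' :=
  (TSFlat.isGammaD_ts_of_flat (A := A') (B := A' ⊗[A] B) d C' (bcLaw A' F)).exists.choose

theorem xi'_apply (R : Type u) [CommSemiring R] [Algebra A' R] (w' : R ⊗[A'] (A' ⊗[A] B)) :
    (xi' A' d F).toLinearMap.lTensor R ((ts (A := A') (A' ⊗[A] B) d).law.toFun' R w') =
      (bcLaw A' F).law.toFun' R w' := by
  have h := (TSFlat.isGammaD_ts_of_flat (A := A') (B := A' ⊗[A] B) d C'
    (bcLaw A' F)).exists.choose_spec
  have := congrArg (fun L : (A' ⊗[A] B) →ₚₗ[A'] C' => L.toFun' R w') h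
  exact this

/-- the `A`-algebra map `TS^d_A(B) → C'` through which `F` factors -/
noncomputable def xi : SymTen.TS A B d →ₐ[A] C' :=
  ((xi' A' d F).restrictScalars A).comp (thetaS A' (ι (B := B) A') d)

theorem xi_apply (t : SymTen.TS A B d) :
    xi A' d F t = xi' A' d F (thetaS A' (ι (B := B) A') d t) := rfl

theorem mu_xi (R : Type u) [CommRing R] [Algebra A' R] [Algebra A R] [IsScalarTower A A' R]
    (y : R ⊗[A] SymTen.TS A B d) :
    mu A' C' R ((xi A' d F).toLinearMap.lTensor R y) =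
      (xi' A' d F).toLinearMap.lTensor R (PsiS A' d R y) := by
  induction y using TensorProduct.induction_on with
  | zero => simp
  | tmul r t => rfl
  | add x y hx hy => simp only [map_add, hx, hy]

theorem star (R : Type u) [CommRing R] [Algebra A' R] [Algebra A R] [IsScalarTower A A' R]
    [Module.Flat A' R] (w : R ⊗[A] B) :
    mu A' C' R ((xi A' d F).toLinearMap.lTensor R ((ts B d).law.toFun' R w)) =
      mu A' C' R (F.law.toFun' R w) := by
  rw [mu_xi, ← ts_cb, xi'_apply, bcLaw_toFun']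
  unfold bcFun
  rw [AlgEquiv.apply_symm_apply]

end main

section descend

variable (S : Type u) [CommRing S] [Algebra A S]

/-- `S ⊗[A] C' → (A' ⊗[A] S) ⊗[A'] C'` -/
noncomputable def Pi : S ⊗[A] C' →ₗ[A] (A' ⊗[A] S) ⊗[A'] C' :=
  ((mu A' C' (A' ⊗[A] S)).toLinearMap.restrictScalars A) ∘ₗ
    ((Algebra.TensorProduct.includeRight : S →ₐ[A] A' ⊗[A] S).toLinearMap.rTensor C')

theorem Pi_tmul (s : S) (c : C') : Pi (C' := C') A' S (s ⊗ₜ[A] c) = ((1 : A') ⊗ₜ[A] s) ⊗ₜ[A'] c := rfl

/-- a left inverse of `Pi` -/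
noncomputable def Pi' (x : (A' ⊗[A] S) ⊗[A'] C') : S ⊗[A] C' :=
  TensorProduct.comm A C' S
    (Algebra.TensorProduct.cancelBaseChange A A' A' C' S (TensorProduct.comm A' (A' ⊗[A] S) C' x))

theorem Pi'_Pi (v : S ⊗[A] C') : Pi' A' S (Pi (C' := C') A' S v) = v := by
  induction v using TensorProduct.induction_on with
  | zero => simp [Pi']
  | tmul s c =>
    rw [Pi_tmul]
    unfold Pi'
    rw [TensorProduct.comm_tmul, Algebra.TensorProduct.cancelBaseChange_tmul, one_smul,
      TensorProduct.comm_tmul]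
  | add x y hx hy =>
    have hadd : ∀ a b : (A' ⊗[A] S) ⊗[A'] C', Pi' A' S (a + b) = Pi' A' S a + Pi' A' S b := by
      intro a b
      unfold Pi'
      rw [map_add, map_add, map_add]
    rw [map_add, hadd, hx, hy]

theorem Pi_injective : Function.Injective (Pi (A := A) (C' := C') A' S) :=
  Function.LeftInverse.injective (g := Pi' (A := A) (C' := C') A' S) (Pi'_Pi (A := A) A' S)

end descend

section final

variable [Module.Flat A' (A' ⊗[A] B)] (F : PolLaw.MulLaw A B C' d)

theorem xi_ts_poly (σ : Type u) (z : MvPolynomial σ A ⊗[A] B) :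
    (xi A' d F).toLinearMap.lTensor (MvPolynomial σ A)
      ((ts B d).law.toFun' (MvPolynomial σ A) z) = F.law.toFun' (MvPolynomial σ A) z := by
  apply Pi_injective (A := A) A' (MvPolynomial σ A)
  let j : MvPolynomial σ A →ₐ[A] A' ⊗[A] MvPolynomial σ A := Algebra.TensorProduct.includeRight
  show mu A' C' _ (j.toLinearMap.rTensor C' _) = mu A' C' _ (j.toLinearMap.rTensor C' _)
  rw [rTensor_lTensor, PolynomialLaw.isCompat_apply' (f := (ts B d).law),
    PolynomialLaw.isCompat_apply' (f := F.law)]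
  exact star A' d F _ _

/-- **every law with values in `C'` factors through the tensor power law** -/
theorem xi_ts (S : Type u) [CommSemiring S] [Algebra A S] (z : S ⊗[A] B) :
    (xi A' d F).toLinearMap.lTensor S ((ts B d).law.toFun' S z) = F.law.toFun' S z :=
  TSCore.law_ext_poly (PolLaw.postcomp (xi A' d F).toLinearMap (ts B d).law) F.law
    (fun σ z => xi_ts_poly A' d F σ z) S z

end final

end Groth.Agent.Lib.Helper15.BCFactor
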