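import Mathlib
import Groth.Prelude.Def_PolLaw
import Groth.Prelude.Def_PolLaw2

/-!
# Base change of a multiplicative polynomial law `B → A` along `A → A'` (helper15)

`bcLaw F A' : MulLaw A' (A' ⊗[A] B) A' d`, with `ker (bcLaw F A').law = kerBC F.law A'`.
-/

set_option autoImplicit false
universe u
open scoped TensorProduct

namespace Groth.Agent.Lib.Helper15.BCLaw

variable {A : Type u} [CommRing A] {B : Type u} [CommRing B] [Algebra A B]
  (A' : Type u) [CommRing A'] [Algebra A A']

section onS

variable (S' : Type u) [CommSemiring S'] [Algebra A' S'] [Algebra A S'] [IsScalarTower A A' S']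

/-- `S' ⊗[A'] (A' ⊗[A] B) ≃ S' ⊗[A] B` -/
noncomputable abbrev cb : S' ⊗[A'] (A' ⊗[A] B) ≃ₐ[S'] S' ⊗[A] B :=
  Algebra.TensorProduct.cancelBaseChange A A' S' S' B

/-- `S' ⊗[A] A ≃ S' ⊗[A'] A'` -/
noncomputable abbrev ridd : S' ⊗[A] A ≃ₐ[S'] S' ⊗[A'] A' :=
  (Algebra.TensorProduct.rid A S' S').trans (Algebra.TensorProduct.rid A' S' S').symm

variable (F : B →ₚₗ[A] A)

/-- the member of the base-changed law over `S'`, for a compatible `A`-algebra structure -/
noncomputable def bcFun (z : S' ⊗[A'] (A' ⊗[A] B)) : S' ⊗[A'] A' :=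
  ridd A' S' (F.toFun' S' (cb (B := B) A' S' z))

theorem cb_tmul (s : S') (a' : A') (b : B) :
    cb (B := B) A' S' (s ⊗ₜ[A'] (a' ⊗ₜ[A] b)) = (a' • s) ⊗ₜ[A] b :=
  Algebra.TensorProduct.cancelBaseChange_tmul _ _ _ _ _ s a' b

theorem ridd_tmul (s : S') (a : A) : ridd A' S' (s ⊗ₜ[A] a) = (a • s) ⊗ₜ[A'] (1 : A') := by
  show (Algebra.TensorProduct.rid A' S' S').symm (Algebra.TensorProduct.rid A S' S' (s ⊗ₜ[A] a)) = _
  rw [Algebra.TensorProduct.rid_tmul]
  rfl

end onS

section compat

variable {S' S'' : Type u} [CommSemiring S'] [Algebra A' S'] [Algebra A S'] [IsScalarTower A A' S']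
  [CommSemiring S''] [Algebra A' S''] [Algebra A S''] [IsScalarTower A A' S'']
  (F : B →ₚₗ[A] A)

theorem bcFun_compat (φ : S' →ₐ[A'] S'') (φA : S' →ₐ[A] S'') (hφ : ∀ s, φA s = φ s)
    (z : S' ⊗[A'] (A' ⊗[A] B)) :
    φ.toLinearMap.rTensor A' (bcFun A' S' F z) =
      bcFun A' S'' F (φ.toLinearMap.rTensor (A' ⊗[A] B) z) := by
  unfold bcFun
  have ha : cb (B := B) A' S'' (φ.toLinearMap.rTensor (A' ⊗[A] B) z) =
      φA.toLinearMap.rTensor B (cb (B := B) A' S' z) := by
    induction z using TensorProduct.induction_on with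
    | zero => simp
    | tmul s y =>
      induction y using TensorProduct.induction_on with
      | zero => simp
      | tmul a' b =>
        rw [LinearMap.rTensor_tmul, cb_tmul, cb_tmul, LinearMap.rTensor_tmul,
          AlgHom.toLinearMap_apply, AlgHom.toLinearMap_apply, hφ, map_smul]
      | add y y' hy hy' =>
        rw [TensorProduct.tmul_add, map_add, map_add, hy, hy', map_add, map_add]
    | add z z' hz hz' => rw [map_add, map_add, hz, hz', map_add, map_add]
  have hc : ∀ v : S' ⊗[A] A, ridd A' S'' (φA.toLinearMap.rTensor A v) =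
      φ.toLinearMap.rTensor A' (ridd A' S' v) := by
    intro v
    induction v using TensorProduct.induction_on with
    | zero => simp
    | tmul s a =>
      rw [LinearMap.rTensor_tmul, ridd_tmul, ridd_tmul, LinearMap.rTensor_tmul,
        AlgHom.toLinearMap_apply, AlgHom.toLinearMap_apply, ← hφ, map_smul]
    | add v v' hv hv' => rw [map_add, map_add, hv, hv', map_add, map_add]
  rw [ha, ← PolynomialLaw.isCompat_apply' (f := F), hc]

end compat

/-- the base change of a polynomial law `B → A` to `A'` -/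
noncomputable def bcPLaw (F : B →ₚₗ[A] A) : (A' ⊗[A] B) →ₚₗ[A'] A' where
  toFun' S' _ _ :=
    letI : Algebra A S' := Algebra.compHom S' (algebraMap A A')
    haveI : IsScalarTower A A' S' := IsScalarTower.of_algebraMap_eq (fun _ => rfl)
    bcFun A' S' F
  isCompat' {S'} _ _ {S''} _ _ φ := by
    letI : Algebra A S' := Algebra.compHom S' (algebraMap A A')
    haveI : IsScalarTower A A' S' := IsScalarTower.of_algebraMap_eq (fun _ => rfl)
    letI : Algebra A S'' := Algebra.compHom S'' (algebraMap A A')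
    haveI : IsScalarTower A A' S'' := IsScalarTower.of_algebraMap_eq (fun _ => rfl)
    funext z
    exact bcFun_compat A' F φ
      { φ.toRingHom with commutes' := fun a => φ.commutes (algebraMap A A' a) } (fun _ => rfl) z

section mul

variable {d : ℕ} (F : PolLaw.MulLaw A B A d)
  (S' : Type u) [CommSemiring S'] [Algebra A' S'] [Algebra A S'] [IsScalarTower A A' S']

theorem bcFun_smul (s : S') (z : S' ⊗[A'] (A' ⊗[A] B)) :
    bcFun A' S' F.law (s • z) = s ^ d • bcFun A' S' F.law z := by
  unfold bcFun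
  rw [map_smul, F.homog, map_smul]

theorem bcFun_one : bcFun A' S' F.law (1 : S' ⊗[A'] (A' ⊗[A] B)) = 1 := by
  unfold bcFun
  rw [map_one, (F.mult S').1, map_one]

theorem bcFun_mul (z z' : S' ⊗[A'] (A' ⊗[A] B)) :
    bcFun A' S' F.law (z * z') = bcFun A' S' F.law z * bcFun A' S' F.law z' := by
  unfold bcFun
  rw [map_mul, (F.mult S').2, map_mul]

end mul

/-- the base change of a multiplicative law `B → A` to `A'` -/
noncomputable def bcLaw {d : ℕ} (F : PolLaw.MulLaw A B A d) : PolLaw.MulLaw A' (A' ⊗[A] B) A' d where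
  law := bcPLaw A' F.law
  homog S' _ _ s z := by
    letI : Algebra A S' := Algebra.compHom S' (algebraMap A A')
    haveI : IsScalarTower A A' S' := IsScalarTower.of_algebraMap_eq (fun _ => rfl)
    exact bcFun_smul A' F S' s z
  mult S' _ _ := by
    letI : Algebra A S' := Algebra.compHom S' (algebraMap A A')
    haveI : IsScalarTower A A' S' := IsScalarTower.of_algebraMap_eq (fun _ => rfl)
    exact ⟨bcFun_one A' F S', bcFun_mul A' F S'⟩

section ker

variable (R : Type u) [CommSemiring R] [Algebra A' R] [Algebra A R] [IsScalarTower A A' R]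

theorem cb_one_tmul (b' : A' ⊗[A] B) :
    cb (B := B) A' R ((1 : R) ⊗ₜ[A'] b') =
      Algebra.TensorProduct.map (IsScalarTower.toAlgHom A A' R) (AlgHom.id A B) b' := by
  induction b' using TensorProduct.induction_on with
  | zero => simp
  | tmul a' b =>
    rw [cb_tmul, Algebra.TensorProduct.map_tmul, AlgHom.id_apply, IsScalarTower.coe_toAlgHom',
      Algebra.algebraMap_eq_smul_one]
  | add y y' hy hy' => rw [TensorProduct.tmul_add, map_add, hy, hy', map_add]

theorem bcFun_eq_iff (F : B →ₚₗ[A] A) (z z' : R ⊗[A'] (A' ⊗[A] B)) :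
    bcFun A' R F z = bcFun A' R F z' ↔
      F.toFun' R (cb (B := B) A' R z) = F.toFun' R (cb (B := B) A' R z') := by
  unfold bcFun
  exact (ridd A' R).injective.eq_iff

theorem bcFun_ker_iff (F : B →ₚₗ[A] A) (b' : A' ⊗[A] B) (x w : R ⊗[A'] (A' ⊗[A] B)) :
    bcFun A' R F (x + w * ((1 : R) ⊗ₜ[A'] b')) = bcFun A' R F x ↔
      F.toFun' R (cb (B := B) A' R x + cb (B := B) A' R w *
        Algebra.TensorProduct.map (IsScalarTower.toAlgHom A A' R) (AlgHom.id A B) b') =
        F.toFun' R (cb (B := B) A' R x) := by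
  rw [bcFun_eq_iff, map_add, map_mul, cb_one_tmul]

end ker

/-- the kernel of the base-changed law is the kernel of the base change -/
theorem ker_bcLaw {d : ℕ} (F : PolLaw.MulLaw A B A d) :
    PolLaw.ker (bcLaw A' F).law = PolLaw.kerBC F.law A' := by
  apply le_antisymm
  · intro b' hb' R _ instA instA' tower x w
    have e : instA = Algebra.compHom R (algebraMap A A') :=
      Algebra.algebra_ext _ _ (fun a => IsScalarTower.algebraMap_apply A A' R a)
    subst e
    letI : Algebra A R := Algebra.compHom R (algebraMap A A')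
    have hb := hb' R ((cb (B := B) A' R).symm x) ((cb (B := B) A' R).symm w)
    have hb2 : bcFun A' R F.law ((cb (B := B) A' R).symm x +
        (cb (B := B) A' R).symm w * ((1 : R) ⊗ₜ[A'] b')) =
        bcFun A' R F.law ((cb (B := B) A' R).symm x) := hb
    rw [bcFun_ker_iff, AlgEquiv.apply_symm_apply, AlgEquiv.apply_symm_apply] at hb2
    exact hb2
  · intro b' hb' S' _ _ x w
    letI : Algebra A S' := Algebra.compHom S' (algebraMap A A')
    haveI : IsScalarTower A A' S' := IsScalarTower.of_algebraMap_eq (fun _ => rfl)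
    show bcFun A' S' F.law (x + w * ((1 : S') ⊗ₜ[A'] b')) = bcFun A' S' F.law x
    rw [bcFun_ker_iff]
    exact hb' S' _ _

end Groth.Agent.Lib.Helper15.BCLaw
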