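import Mathlib
import Groth.Agent.Lib.Helper12.KaplanskyLocal

/-!
# Bass: big projective modules are free (helper15)

`core`: over a ring `R` with `R/rad R` Noetherian, for a projective module `P` of infinite rank
everywhere (`W R P`), `Rs + M = P` implies `s + m` unimodular for some `m ∈ M`.
-/

set_option autoImplicit false
set_option linter.style.haveILetI false
universe u v

namespace Groth.Agent.Lib.Helper15.BassBig

/-- working form of "infinite rank at every maximal ideal": `P/mP` is not finitely generated -/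
def W (R : Type u) [CommRing R] (P : Type v) [AddCommGroup P] [Module R P] : Prop :=
  ∀ (m : Ideal R), m.IsMaximal → ∀ t : Finset P,
    Submodule.span R (t : Set P) ⊔ (m • ⊤ : Submodule R P) ≠ ⊤

section basic

variable {R : Type u} [CommRing R] {P : Type v} [AddCommGroup P] [Module R P]

lemma mem_smul_top_of_forall_dual [Module.Projective R P] (𝔞 : Ideal R) (x : P)
    (h : ∀ ψ : P →ₗ[R] R, ψ x ∈ 𝔞) : x ∈ (𝔞 • ⊤ : Submodule R P) := by
  obtain ⟨i, hi⟩ := Module.projective_def'.mp (inferInstance : Module.Projective R P)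
  have hx : Finsupp.linearCombination R id (i x) = x := congrArg (fun φ : P →ₗ[R] P => φ x) hi
  rw [← hx, Finsupp.linearCombination_apply, Finsupp.sum]
  refine Submodule.sum_mem _ fun p _ => ?_
  refine Submodule.smul_mem_smul ?_ Submodule.mem_top
  exact h ((Finsupp.lapply p) ∘ₗ i)

lemma dual_mem_of_mem_smul_top (𝔞 : Ideal R) (ψ : P →ₗ[R] R) {y : P}
    (hy : y ∈ (𝔞 • ⊤ : Submodule R P)) : ψ y ∈ 𝔞 := by
  refine Submodule.smul_induction_on hy (fun r hr a _ => ?_) (fun x y hx hy => ?_)
  · rw [map_smul, smul_eq_mul]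
    exact 𝔞.mul_mem_right _ hr
  · rw [map_add]
    exact 𝔞.add_mem hx hy

variable (R) in
/-- the order ideal of an element -/
def ordIdeal (x : P) : Ideal R := LinearMap.range (LinearMap.applyₗ x : (P →ₗ[R] R) →ₗ[R] R)

lemma mem_ordIdeal {x : P} {a : R} : a ∈ ordIdeal R x ↔ ∃ ψ : P →ₗ[R] R, ψ x = a := by
  unfold ordIdeal
  rw [LinearMap.mem_range]
  rfl

end basic

section noeth

variable {R : Type u} [CommRing R]

lemma isNoetherian_quot (J : Ideal R) [IsNoetherianRing (R ⧸ J)] : IsNoetherian R (R ⧸ J) := by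
  rw [isNoetherian_def]
  intro N
  have hsur : Function.Surjective (algebraMap R (R ⧸ J)) := Ideal.Quotient.mk_surjective
  have h1 : (Submodule.span (R ⧸ J) (N : Set (R ⧸ J))).FG :=
    (isNoetherian_def.mp (inferInstance : IsNoetherian (R ⧸ J) (R ⧸ J))) _
  obtain ⟨S, hS⟩ := h1
  refine ⟨S, ?_⟩
  have h2 := Submodule.restrictScalars_span R (R ⧸ J) hsur (S : Set (R ⧸ J))
  have h3 := Submodule.restrictScalars_span R (R ⧸ J) hsur (N : Set (R ⧸ J))
  rw [← h2, hS, h3, Submodule.span_eq]

end noeth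


section core

variable {R : Type u} [CommRing R] {P : Type v} [AddCommGroup P] [Module R P]

theorem step [IsNoetherianRing (R ⧸ (⊥ : Ideal R).jacobson)] [Module.Projective R P] (hW : W R P)
    (x : P) (M : Submodule R P) (hM : Submodule.span R {x} ⊔ M = ⊤)
    (hne : (ordIdeal R x).map (Ideal.Quotient.mk (⊥ : Ideal R).jacobson) ≠ ⊤) :
    ∃ m₀ ∈ M, (ordIdeal R x).map (Ideal.Quotient.mk (⊥ : Ideal R).jacobson) <
      (ordIdeal R (x + m₀)).map (Ideal.Quotient.mk (⊥ : Ideal R).jacobson) := by
  classical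
  set J : Ideal R := (⊥ : Ideal R).jacobson with hJ
  set mk := Ideal.Quotient.mk J with hmk
  have hmks : Function.Surjective mk := Ideal.Quotient.mk_surjective
  set I := (ordIdeal R x).map mk with hI
  obtain ⟨mb, hmb, hImb⟩ := Ideal.exists_le_maximal I hne
  set m : Ideal R := mb.comap mk with hm
  haveI hmmax : m.IsMaximal := Ideal.comap_isMaximal_of_surjective mk hmks
  have hJm : J ≤ m := by
    intro a ha
    rw [hm, Ideal.mem_comap]
    have : mk a = 0 := Ideal.Quotient.eq_zero_iff_mem.mpr ha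
    rw [this]
    exact mb.zero_mem
  have hom : ordIdeal R x ≤ m := by
    intro a ha
    rw [hm, Ideal.mem_comap]
    exact hImb (Ideal.mem_map_of_mem mk ha)
  -- finitely many functionals generating `I`
  obtain ⟨S, hS⟩ : I.FG := (isNoetherianRing_iff_ideal_fg (R ⧸ J)).mp inferInstance I
  have hSmem : ∀ b : S, ∃ ψ : P →ₗ[R] R, mk (ψ x) = (b : R ⧸ J) := by
    intro b
    have hb : (b : R ⧸ J) ∈ I := by
      rw [← hS]
      exact Submodule.subset_span b.2
    obtain ⟨a, ha, hab⟩ := (Ideal.mem_map_iff_of_surjective mk hmks).mp hb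
    obtain ⟨ψ, hψ⟩ := mem_ordIdeal.mp ha
    exact ⟨ψ, by rw [hψ, hab]⟩
  choose φ hφ using hSmem
  let Φb : P →ₗ[R] (S → R ⧸ J) := LinearMap.pi fun b => (Algebra.linearMap R (R ⧸ J)) ∘ₗ φ b
  have hΦb : ∀ p b, Φb p b = mk (φ b p) := fun p b => rfl
  set M' : Submodule R P := M ⊔ (J • ⊤ : Submodule R P) with hM'
  set L : Submodule R P := M' ⊓ LinearMap.ker Φb with hL
  haveI : IsNoetherian R (R ⧸ J) := isNoetherian_quot J
  have hfg : (M'.map Φb).FG := IsNoetherian.noetherian _
  obtain ⟨T, hT⟩ := hfg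
  have hTmem : ∀ τ : T, ∃ u ∈ M', Φb u = (τ : S → R ⧸ J) := by
    intro τ
    have : (τ : S → R ⧸ J) ∈ M'.map Φb := by
      rw [← hT]
      exact Submodule.subset_span τ.2
    exact this
  choose g hgM hgΦ using hTmem
  let U : Finset P := insert x (Finset.univ.image g)
  have hUtop : L ⊔ Submodule.span R (U : Set P) = ⊤ := by
    rw [eq_top_iff, ← hM]
    have hxU : x ∈ Submodule.span R (U : Set P) :=
      Submodule.subset_span (by simp [U])
    have hgU : ∀ τ, g τ ∈ Submodule.span R (U : Set P) := fun τ =>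
      Submodule.subset_span (by simp [U])
    refine sup_le ?_ ?_
    · rw [Submodule.span_singleton_le_iff_mem]
      exact Submodule.mem_sup_right hxU
    · intro m' hm'
      have hm'M : m' ∈ M' := Submodule.mem_sup_left hm'
      have h1 : Φb m' ∈ Submodule.span R ((T : Finset (S → R ⧸ J)) : Set (S → R ⧸ J)) := by
        rw [hT]
        exact Submodule.mem_map_of_mem hm'M
      obtain ⟨c, hc⟩ := Submodule.mem_span_finset'.mp h1
      set v : P := ∑ τ : T, c τ • g τ with hv
      have hvM : v ∈ M' := Submodule.sum_mem _ fun τ _ => Submodule.smul_mem _ _ (hgM τ)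
      have hvU : v ∈ Submodule.span R (U : Set P) :=
        Submodule.sum_mem _ fun τ _ => Submodule.smul_mem _ _ (hgU τ)
      have hΦv : Φb v = Φb m' := by
        rw [hv, map_sum, ← hc]
        refine Finset.sum_congr rfl fun τ _ => ?_
        rw [map_smul, hgΦ]
      have hmem : m' - v ∈ L := by
        refine ⟨M'.sub_mem hm'M hvM, ?_⟩
        show Φb (m' - v) = 0
        rw [map_sub, hΦv, sub_self]
      have : m' = (m' - v) + v := by abel
      rw [this]
      exact Submodule.add_mem _ (Submodule.mem_sup_left hmem) (Submodule.mem_sup_right hvU)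
  -- an element of `L` outside `m P`
  have hLnot : ¬ L ≤ (m • ⊤ : Submodule R P) := by
    intro hle
    apply hW m hmmax U
    have hle2 : L ⊔ Submodule.span R (U : Set P) ≤
        Submodule.span R (U : Set P) ⊔ (m • ⊤ : Submodule R P) :=
      sup_le (le_sup_of_le_right hle) le_sup_left
    rw [hUtop] at hle2
    exact top_le_iff.mp hle2
  obtain ⟨ℓ, hℓL, hℓm⟩ := SetLike.not_le_iff_exists.mp hLnot
  obtain ⟨ψ, hψ⟩ : ∃ ψ : P →ₗ[R] R, ψ ℓ ∉ m := by
    by_contra hcon
    push Not at hcon
    exact hℓm (mem_smul_top_of_forall_dual m ℓ hcon)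
  obtain ⟨m₀, hm₀, y, hy, hℓeq⟩ := Submodule.mem_sup.mp hℓL.1
  have hℓker : ∀ b, mk (φ b ℓ) = 0 := by
    intro b
    have := LinearMap.mem_ker.mp hℓL.2
    have h2 := congrFun this b
    rw [hΦb] at h2
    exact h2
  have hm₀eq : m₀ = ℓ - y := by rw [← hℓeq]; abel
  refine ⟨m₀, hm₀, lt_of_le_of_ne ?_ ?_⟩
  · rw [← hS, Ideal.span_le]
    intro b hb
    have hb' : mk (φ ⟨b, hb⟩ (x + m₀)) = b := by
      rw [map_add, hm₀eq, map_sub, map_add, map_sub, hℓker,
        Ideal.Quotient.eq_zero_iff_mem.mpr (dual_mem_of_mem_smul_top J _ hy), sub_zero, add_zero]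
      exact hφ ⟨b, hb⟩
    rw [← hb']
    exact Ideal.mem_map_of_mem mk (mem_ordIdeal.mpr ⟨_, rfl⟩)
  · intro heq
    have h1 : mk (ψ (x + m₀)) ∈ mb := by
      apply hImb
      rw [heq]
      exact Ideal.mem_map_of_mem mk (mem_ordIdeal.mpr ⟨_, rfl⟩)
    have h2 : ψ (x + m₀) ∈ m := h1
    have h3 : ψ x ∈ m := hom (mem_ordIdeal.mpr ⟨_, rfl⟩)
    have h4 : ψ y ∈ m := hJm (dual_mem_of_mem_smul_top J _ hy)
    apply hψ
    have : ψ ℓ = ψ (x + m₀) - ψ x + ψ y := by
      rw [hm₀eq, map_add, map_sub]
      abel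
    rw [this]
    exact m.add_mem (m.sub_mem h2 h3) h4

theorem core [IsNoetherianRing (R ⧸ (⊥ : Ideal R).jacobson)] [Module.Projective R P] (hW : W R P)
    (s : P) (M : Submodule R P) (hM : Submodule.span R {s} ⊔ M = ⊤) :
    ∃ m ∈ M, ∃ φ : P →ₗ[R] R, φ (s + m) = 1 := by
  set J : Ideal R := (⊥ : Ideal R).jacobson with hJ
  set mk := Ideal.Quotient.mk J with hmk
  have hmks : Function.Surjective mk := Ideal.Quotient.mk_surjective
  suffices H : ∀ (I : Ideal (R ⧸ J)) (x : P), (ordIdeal R x).map mk = I →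
      Submodule.span R {x} ⊔ M = ⊤ → ∃ m ∈ M, ∃ φ : P →ₗ[R] R, φ (x + m) = 1 from
    H _ s rfl hM
  intro I
  refine WellFoundedGT.induction (motive := fun I => ∀ (x : P), (ordIdeal R x).map mk = I →
      Submodule.span R {x} ⊔ M = ⊤ → ∃ m ∈ M, ∃ φ : P →ₗ[R] R, φ (x + m) = 1) I ?_
  intro I ih x hx hxM
  by_cases htop : (ordIdeal R x).map mk = ⊤
  · have h1 : (1 : R ⧸ J) ∈ (ordIdeal R x).map mk := by rw [htop]; trivial
    obtain ⟨a, ha, ha1⟩ := (Ideal.mem_map_iff_of_surjective mk hmks).mp h1
    obtain ⟨ψ, hψ⟩ := mem_ordIdeal.mp ha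
    have haJ : a - 1 ∈ J := by
      rw [← Ideal.Quotient.eq_zero_iff_mem, map_sub, map_one]
      exact sub_eq_zero.mpr ha1
    have hunit : IsUnit a := by
      have := Ideal.mem_jacobson_bot.mp haJ 1
      rwa [mul_one, sub_add_cancel] at this
    obtain ⟨u, hu⟩ := hunit
    refine ⟨0, M.zero_mem, ((↑u⁻¹ : R)) • ψ, ?_⟩
    rw [add_zero, LinearMap.smul_apply, hψ, ← hu, smul_eq_mul, Units.inv_mul]
  · obtain ⟨m₀, hm₀, hlt⟩ := step hW x M hxM htop
    have hxM' : Submodule.span R {x + m₀} ⊔ M = ⊤ := by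
      rw [eq_top_iff, ← hxM]
      refine sup_le ?_ le_sup_right
      rw [Submodule.span_singleton_le_iff_mem]
      have h1 : x + m₀ ∈ Submodule.span R {x + m₀} ⊔ M :=
        Submodule.mem_sup_left (Submodule.mem_span_singleton_self _)
      have h2 : m₀ ∈ Submodule.span R {x + m₀} ⊔ M := Submodule.mem_sup_right hm₀
      have h3 := Submodule.sub_mem _ h1 h2
      rwa [add_sub_cancel_right] at h3
    rw [hx] at hlt
    obtain ⟨m₁, hm₁, φ, hφ⟩ := ih _ hlt (x + m₀) rfl hxM'
    refine ⟨m₀ + m₁, M.add_mem hm₀ hm₁, φ, ?_⟩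
    rw [← add_assoc]
    exact hφ

end core


section kaplansky

variable {R : Type u} [CommRing R] {P : Type v} [AddCommGroup P] [Module R P]

open Groth.Agent.Lib.Helper12.Kap in
theorem W_of_not_finite [Module.Projective R P]
    (hP : ∀ (m : Ideal R) [m.IsMaximal],
      ¬ Module.Finite (Localization.AtPrime m) (LocalizedModule m.primeCompl P)) : W R P := by
  classical
  intro m hm t htop
  haveI := hm
  apply hP m
  set Rm := Localization.AtPrime m with hRm
  set Pm := LocalizedModule m.primeCompl P with hPm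
  haveI : Module.Free Rm Pm := free_of_projective_of_isLocalRing Pm
  let b := Module.Free.chooseBasis Rm Pm
  let f : P →ₗ[R] Pm := LocalizedModule.mkLinearMap m.primeCompl P
  let B₀ : Finset (Module.Free.ChooseBasisIndex Rm Pm) := t.biUnion fun p => (b.repr (f p)).support
  have hall : ∀ i, i ∈ B₀ := by
    intro i
    by_contra hi
    let c : Pm →ₗ[Rm] Rm := b.coord i
    let θ : P →ₗ[R] Rm := (c.restrictScalars R) ∘ₗ f
    have hθ : ∀ p : P, θ p ∈ IsLocalRing.maximalIdeal Rm := by
      intro p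
      have hp : p ∈ Submodule.span R (t : Set P) ⊔ (m • ⊤ : Submodule R P) := by
        rw [htop]; trivial
      obtain ⟨v, hv, w, hw, rfl⟩ := Submodule.mem_sup.mp hp
      rw [map_add]
      refine Ideal.add_mem _ ?_ ?_
      · have : θ v = 0 := by
          refine Submodule.span_induction (p := fun v _ => θ v = 0) ?_ ?_ ?_ ?_ hv
          · intro q hq
            show b.coord i (f q) = 0
            rw [Module.Basis.coord_apply]
            by_contra hne
            apply hi
            rw [Finset.mem_biUnion]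
            exact ⟨q, hq, Finsupp.mem_support_iff.mpr hne⟩
          · exact map_zero θ
          · intro a b _ _ ha hb
            rw [map_add, ha, hb, add_zero]
          · intro a v _ hv
            rw [map_smul, hv, smul_zero]
        rw [this]
        exact Ideal.zero_mem _
      · refine Submodule.smul_induction_on hw (fun r hr a _ => ?_) (fun x y hx hy => ?_)
        · rw [map_smul, Algebra.smul_def]
          refine Ideal.mul_mem_right _ _ ?_
          exact (IsLocalization.AtPrime.to_map_mem_maximal_iff Rm m r).mpr hr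
        · rw [map_add]
          exact Ideal.add_mem _ hx hy
    have hc : ∀ z : Pm, c z ∈ IsLocalRing.maximalIdeal Rm := by
      intro z
      obtain ⟨⟨p, s⟩, hps⟩ := IsLocalizedModule.surj m.primeCompl f z
      have h1 : c (s • z) = algebraMap R Rm (s : R) * c z := by
        have : (s • z : Pm) = (algebraMap R Rm (s : R)) • z := by
          rw [algebraMap_smul]
          rfl
        rw [this, map_smul, smul_eq_mul]
      have h2 : c (s • z) = θ p := by
        simp only at hps
        rw [hps]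
        rfl
      have h3 : IsUnit (algebraMap R Rm (s : R)) := IsLocalization.map_units Rm s
      have h4 := hθ p
      rw [← h2, h1] at h4
      exact (Ideal.unit_mul_mem_iff_mem _ h3).mp h4
    have h5 := hc (b i)
    have h6 : c (b i) = 1 := by
      show b.coord i (b i) = 1
      rw [Module.Basis.coord_apply, Module.Basis.repr_self, Finsupp.single_eq_same]
    rw [h6] at h5
    exact (IsLocalRing.maximalIdeal.isMaximal Rm).ne_top
      ((Ideal.eq_top_iff_one _).mpr h5)
  haveI : Fintype (Module.Free.ChooseBasisIndex Rm Pm) := ⟨B₀, hall⟩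
  exact Module.Finite.of_basis b

end kaplansky

end Groth.Agent.Lib.Helper15.BassBig
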