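import Mathlib
import Groth.Agent.Lib.Helper15.BassBig
import Groth.Agent.S7109

/-!
# Bass: every element of a big projective module lies in a finite free direct summand (helper15)
-/

set_option autoImplicit false
set_option linter.style.haveILetI false
universe u v w

namespace Groth.Agent.Lib.Helper15.BassBig

section transfer

variable {R : Type u} [CommRing R] {P : Type v} [AddCommGroup P] [Module R P]

theorem W_of_map {Q : Type w} [AddCommGroup Q] [Module R Q] (g : Q →ₗ[R] P) (N : Submodule R P)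
    (hN : N.FG) (htop : LinearMap.range g ⊔ N = ⊤) (hW : W R P) : W R Q := by
  classical
  intro m hm t ht
  obtain ⟨n, hn⟩ := hN
  apply hW m hm (t.image g ∪ n)
  suffices key : LinearMap.range g ⊔ N ≤
      Submodule.span R (↑(t.image g ∪ n) : Set P) ⊔ (m • ⊤ : Submodule R P) by
    rw [htop] at key
    exact top_le_iff.mp key
  refine sup_le ?_ ?_
  · rintro _ ⟨q, rfl⟩
    have hq : q ∈ Submodule.span R (t : Set Q) ⊔ (m • ⊤ : Submodule R Q) := by rw [ht]; trivial
    obtain ⟨v, hv, w, hw, rfl⟩ := Submodule.mem_sup.mp hq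
    rw [map_add]
    refine Submodule.add_mem _ (Submodule.mem_sup_left ?_) (Submodule.mem_sup_right ?_)
    · have h1 : g v ∈ (Submodule.span R (t : Set Q)).map g := Submodule.mem_map_of_mem hv
      rw [Submodule.map_span] at h1
      refine Submodule.span_mono ?_ h1
      rintro _ ⟨z, hz, rfl⟩
      simp only [Finset.coe_union, Finset.coe_image, Set.mem_union, Set.mem_image, Finset.mem_coe]
      exact Or.inl ⟨z, hz, rfl⟩
    · have h1 : g w ∈ (m • ⊤ : Submodule R Q).map g := Submodule.mem_map_of_mem hw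
      rw [Submodule.map_smul''] at h1
      exact (smul_mono_right m le_top : m • Submodule.map g ⊤ ≤ m • ⊤) h1
  · rw [← hn]
    refine le_sup_of_le_left (Submodule.span_mono ?_)
    intro z hz
    simp only [Finset.coe_union, Set.mem_union]
    exact Or.inr hz

end transfer

section lemmaA

variable {R : Type u} [CommRing R] {P : Type u} [AddCommGroup P] [Module R P]

theorem lemmaA [IsNoetherianRing (R ⧸ (⊥ : Ideal R).jacobson)] [Module.Projective R P]
    (hW : W R P) (K K' : Submodule R (R × P)) (hc : IsCompl K K') (hKfin : K.FG) (s : P)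
    (hs : ((0 : R), s) ∈ K) :
    ∃ (K₁ K₁' : Submodule R P), IsCompl K₁ K₁' ∧ Nonempty (K₁ ≃ₗ[R] K) ∧ s ∈ K₁ := by
  classical
  let π : (R × P) →ₗ[R] K' := Submodule.projectionOnto K' K hc.symm
  have hπK : ∀ k ∈ K, π k = 0 := fun k hk =>
    Submodule.projectionOnto_apply_of_mem_right hc.symm hk
  have hπK' : ∀ c : K', π (c : R × P) = c := fun c =>
    Submodule.projectionOnto_apply_left hc.symm c
  haveI : Module.Projective R K' :=
    Module.Projective.of_split K'.subtype π (LinearMap.ext fun c => hπK' c)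
  -- `W` for `K'`
  have hWK' : W R K' := by
    refine W_of_map ((LinearMap.snd R R P) ∘ₗ K'.subtype) (K.map (LinearMap.snd R R P))
      (hKfin.map _) ?_ hW
    rw [eq_top_iff]
    intro p _
    have h1 : ((0 : R), p) ∈ K ⊔ K' := by rw [hc.sup_eq_top]; trivial
    obtain ⟨k, hk, k', hk', hkk⟩ := Submodule.mem_sup.mp h1
    have h2 : p = k'.2 + k.2 := by
      have := congrArg Prod.snd hkk
      simp only [Prod.snd_add] at this
      rw [← this, add_comm]
    rw [h2]
    refine Submodule.add_mem _ (Submodule.mem_sup_left ⟨⟨k', hk'⟩, rfl⟩)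
      (Submodule.mem_sup_right (Submodule.mem_map_of_mem hk))
  -- apply the core lemma to `K'`
  let MC : Submodule R K' := (LinearMap.range (LinearMap.inr R R P)).map π
  have hMC : Submodule.span R {π ((1 : R), (0 : P))} ⊔ MC = ⊤ := by
    rw [eq_top_iff]
    intro c _
    have h1 : (c : R × P) = (c : R × P).1 • ((1 : R), (0 : P)) + ((0 : R), (c : R × P).2) := by
      ext <;> simp
    have h2 : c = (c : R × P).1 • π ((1 : R), (0 : P)) + π ((0 : R), (c : R × P).2) := by
      rw [← map_smul, ← map_add, ← h1, hπK']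
    rw [h2]
    refine Submodule.add_mem _ (Submodule.mem_sup_left
      (Submodule.smul_mem _ _ (Submodule.mem_span_singleton_self _))) (Submodule.mem_sup_right ?_)
    exact Submodule.mem_map_of_mem ⟨_, rfl⟩
  obtain ⟨mC, hmC, φ, hφ⟩ := core hWK' (π ((1 : R), (0 : P))) MC hMC
  obtain ⟨_, ⟨p, rfl⟩, rfl⟩ := hmC
  set lam : (R × P) →ₗ[R] R := φ ∘ₗ π with hlam
  have hlam1 : lam ((1 : R), p) = 1 := by
    have : ((1 : R), p) = ((1 : R), (0 : P)) + (LinearMap.inr R R P) p := by
      ext <;> simp
    rw [this, hlam, LinearMap.comp_apply, map_add]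
    exact hφ
  have hlamK : ∀ k ∈ K, lam k = 0 := by
    intro k hk
    rw [hlam, LinearMap.comp_apply, hπK k hk, map_zero]
  let θ : P →ₗ[R] R × P :=
    LinearMap.inr R R P - (lam ∘ₗ LinearMap.inr R R P).smulRight ((1 : R), p)
  let σ : R × P →ₗ[R] P := LinearMap.snd R R P - (LinearMap.fst R R P).smulRight p
  have hθ : ∀ q, θ q = ((0 : R), q) - lam ((0 : R), q) • ((1 : R), p) := fun q => rfl
  have hσ : ∀ h : R × P, σ h = h.2 - h.1 • p := fun h => rfl
  have hσθ : ∀ q, σ (θ q) = q := by
    intro q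
    rw [hσ, hθ]
    simp
  have hlamθ : ∀ q, lam (θ q) = 0 := by
    intro q
    rw [hθ, map_sub, map_smul, hlam1, smul_eq_mul, mul_one, sub_self]
  have hθσ : ∀ h : R × P, lam h = 0 → θ (σ h) = h := by
    intro h hh
    have h1 : lam ((0 : R), σ h) = - h.1 := by
      have h2 : ((0 : R), σ h) = h - h.1 • ((1 : R), p) := by
        rw [hσ]
        ext <;> simp
      rw [h2, map_sub, map_smul, hlam1, hh, smul_eq_mul, mul_one, zero_sub]
    rw [hθ, h1, hσ]
    ext <;> simp
  refine ⟨K.comap θ, K'.comap θ, ⟨?_, ?_⟩, ⟨?_⟩, ?_⟩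
  · rw [Submodule.disjoint_def]
    intro q hq hq'
    have h1 : θ q = 0 := by
      have := Submodule.disjoint_def.mp hc.disjoint (θ q) hq hq'
      exact this
    rw [← hσθ q, h1, map_zero]
  · rw [codisjoint_iff, eq_top_iff]
    intro q _
    have h1 : θ q ∈ K ⊔ K' := by rw [hc.sup_eq_top]; trivial
    obtain ⟨k, hk, k', hk', hkk⟩ := Submodule.mem_sup.mp h1
    have hk0 : lam k = 0 := hlamK k hk
    have hk'0 : lam k' = 0 := by
      have := hlamθ q
      rw [← hkk, map_add, hk0, zero_add] at this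
      exact this
    have h2 : q = σ k + σ k' := by
      rw [← map_add, hkk, hσθ]
    rw [h2]
    refine Submodule.add_mem _ (Submodule.mem_sup_left ?_) (Submodule.mem_sup_right ?_)
    · show θ (σ k) ∈ K
      rw [hθσ k hk0]; exact hk
    · show θ (σ k') ∈ K'
      rw [hθσ k' hk'0]; exact hk'
  · refine LinearEquiv.ofLinearMap (θ.restrict (fun q hq => hq))
      (σ.restrict (fun k hk => (show θ (σ k) ∈ K by rw [hθσ k (hlamK k hk)]; exact hk))) ?_ ?_
    · ext k : 1
      apply Subtype.ext
      show θ (σ (k : R × P)) = k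
      exact hθσ _ (hlamK _ k.2)
    · ext q : 1
      apply Subtype.ext
      show σ (θ (q : P)) = q
      exact hσθ _
  · show θ s ∈ K
    rw [hθ, hlamK _ hs, zero_smul, sub_zero]
    exact hs

end lemmaA


section induction

variable {R : Type u} [CommRing R]

/-- the linear equivalence `(Fin (n+1) → R) × P ≃ R × ((Fin n → R) × P)` -/
def consEquiv (n : ℕ) (P : Type u) [AddCommGroup P] [Module R P] :
    ((Fin (n + 1) → R) × P) ≃ₗ[R] R × ((Fin n → R) × P) where
  toFun x := (x.1 0, (Fin.tail x.1, x.2))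
  invFun y := (Fin.cons y.1 y.2.1, y.2.2)
  map_add' x y := rfl
  map_smul' r x := rfl
  left_inv x := by
    simp only [Fin.cons_self_tail]
  right_inv y := by
    simp only [Fin.cons_zero, Fin.tail_cons]

lemma isCompl_map_equiv {A B : Type*} [AddCommGroup A] [Module R A] [AddCommGroup B]
    [Module R B] (e : A ≃ₗ[R] B) {K K' : Submodule R A} (hc : IsCompl K K') :
    IsCompl (K.map e.toLinearMap) (K'.map e.toLinearMap) := by
  constructor
  · rw [Submodule.disjoint_def]
    rintro _ ⟨k, hk, rfl⟩ ⟨k', hk', h⟩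
    have h1 : k' = k := e.injective h
    subst h1
    have h2 := Submodule.disjoint_def.mp hc.disjoint k' hk hk'
    rw [h2]
    exact map_zero _
  · rw [codisjoint_iff, eq_top_iff]
    intro b _
    have h1 : e.symm b ∈ K ⊔ K' := by rw [hc.sup_eq_top]; trivial
    obtain ⟨k, hk, k', hk', h⟩ := Submodule.mem_sup.mp h1
    have hb : b = e k + e k' := by rw [← map_add, h, e.apply_symm_apply]
    rw [hb]
    exact Submodule.add_mem _ (Submodule.mem_sup_left ⟨k, hk, rfl⟩)
      (Submodule.mem_sup_right ⟨k', hk', rfl⟩)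

theorem exists_summand [IsNoetherianRing (R ⧸ (⊥ : Ideal R).jacobson)] :
    ∀ (n : ℕ) (P : Type u) [AddCommGroup P] [Module R P] [Module.Projective R P] (_ : W R P)
      (K K' : Submodule R ((Fin n → R) × P)) (_ : IsCompl K K') (_ : Module.Finite R K)
      (_ : Module.Free R K) (s : P) (_ : ((0 : Fin n → R), s) ∈ K),
      ∃ K₁ K₁' : Submodule R P, IsCompl K₁ K₁' ∧ Module.Finite R K₁ ∧ Module.Free R K₁ ∧
        s ∈ K₁ := by
  intro n
  induction n with
  | zero =>
    intro P _ _ _ hW K K' hc hfin hfree s hs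
    let e : ((Fin 0 → R) × P) ≃ₗ[R] P :=
      LinearEquiv.ofLinearMap (LinearMap.snd R _ P) (LinearMap.inr R _ P)
        (by ext x; simp)
        (by
          refine LinearMap.ext fun x => ?_
          apply Prod.ext
          · exact Subsingleton.elim _ _
          · simp)
    exact ⟨K.map e.toLinearMap, K'.map e.toLinearMap, isCompl_map_equiv e hc,
      Module.Finite.equiv (e.submoduleMap K), Module.Free.of_equiv (e.submoduleMap K),
      ⟨_, hs, rfl⟩⟩
  | succ n ih =>
    intro P _ _ _ hW K K' hc hfin hfree s hs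
    have hW₁ : W R ((Fin n → R) × P) := by
      refine W_of_map (LinearMap.snd R (Fin n → R) P) ⊥ Submodule.fg_bot ?_ hW
      rw [sup_bot_eq, LinearMap.range_eq_top]
      exact LinearMap.snd_surjective
    let e := consEquiv (R := R) n P
    have hc' : IsCompl (K.map e.toLinearMap) (K'.map e.toLinearMap) := isCompl_map_equiv e hc
    have hfg : (K.map e.toLinearMap).FG := (Module.Finite.iff_fg.mp hfin).map _
    have hs' : ((0 : R), (((0 : Fin n → R), s) : (Fin n → R) × P)) ∈ K.map e.toLinearMap :=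
      ⟨_, hs, rfl⟩
    obtain ⟨K₁, K₁', hc₁, ⟨eq⟩, hs₁⟩ := lemmaA hW₁ _ _ hc' hfg _ hs'
    let eq' : K₁ ≃ₗ[R] K := eq.trans (e.submoduleMap K).symm
    exact ih P hW K₁ K₁' hc₁ (Module.Finite.equiv eq'.symm)
      (Module.Free.of_equiv eq'.symm) s hs₁

/-- every element of a big projective module lies in a finite free direct summand -/
theorem exists_free_summand [IsNoetherianRing (R ⧸ (⊥ : Ideal R).jacobson)]
    (P : Type u) [AddCommGroup P] [Module R P] [Module.Projective R P] (hW : W R P) (s : P) :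
    ∃ K₁ K₁' : Submodule R P, IsCompl K₁ K₁' ∧ Module.Finite R K₁ ∧ Module.Free R K₁ ∧
      s ∈ K₁ := by
  obtain ⟨n, K, K', hc, hfree, hfin, hs⟩ := Groth.Agent.S7109.result R P s
  exact exists_summand n P hW K K' hc hfin hfree s hs

end induction

end Groth.Agent.Lib.Helper15.BassBig
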