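import Mathlib
import Groth.Agent.Lib.Helper15.BassBig2

/-!
# Bass: countably generated big projective modules are free (helper15)
-/

set_option autoImplicit false
set_option linter.style.haveILetI false
universe u v w

namespace Groth.Agent.Lib.Helper15.BassBig

section chain

variable {R : Type u} [CommRing R] {P : Type u} [AddCommGroup P] [Module R P]

/-- a finite free direct summand with a chosen basis and complement -/
structure St (R : Type u) [CommRing R] (P : Type u) [AddCommGroup P] [Module R P] where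
  G : Submodule R P
  Q : Submodule R P
  B : Set P
  hc : IsCompl G Q
  hli : LinearIndepOn R id B
  hspan : Submodule.span R B = G
  hfin : B.Finite

theorem step_chain [IsNoetherianRing (R ⧸ (⊥ : Ideal R).jacobson)] [Module.Projective R P]
    (hW : W R P) (σ : St R P) (x : P) :
    ∃ σ' : St R P, σ.G ≤ σ'.G ∧ σ.B ⊆ σ'.B ∧ x ∈ σ'.G := by
  classical
  haveI : Module.Projective R σ.Q :=
    Module.Projective.of_split σ.Q.subtype (Submodule.projectionOnto σ.Q σ.G σ.hc.symm)
      (Submodule.projectionOnto_comp_subtype _)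
  have hWQ : W R σ.Q := by
    refine W_of_map σ.Q.subtype σ.G ⟨σ.hfin.toFinset, ?_⟩ ?_ hW
    · rw [Set.Finite.coe_toFinset, σ.hspan]
    · rw [Submodule.range_subtype, sup_comm]
      exact σ.hc.sup_eq_top
  have hx : x ∈ σ.G ⊔ σ.Q := by rw [σ.hc.sup_eq_top]; trivial
  obtain ⟨g, hg, q, hq, hgq⟩ := Submodule.mem_sup.mp hx
  obtain ⟨K₁, K₁', hc₁, hfin₁, hfree₁, hz⟩ := exists_free_summand σ.Q hWQ ⟨q, hq⟩
  let b₁ := Module.Free.chooseBasis R K₁
  let emb : K₁ →ₗ[R] P := σ.Q.subtype ∘ₗ K₁.subtype
  have hemb : Function.Injective emb :=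
    (Submodule.injective_subtype _).comp (Submodule.injective_subtype _)
  let B₁ : Set P := Set.range (emb ∘ b₁)
  have hB₁li : LinearIndepOn R id B₁ := by
    have h1 : LinearIndependent R (emb ∘ b₁) :=
      b₁.linearIndependent.map' emb (LinearMap.ker_eq_bot.mpr hemb)
    exact h1.linearIndepOn_id
  have hB₁span : Submodule.span R B₁ = K₁.map σ.Q.subtype := by
    show Submodule.span R (Set.range (emb ∘ b₁)) = _
    rw [Set.range_comp, Submodule.span_image, b₁.span_eq]
    show (⊤ : Submodule R K₁).map (σ.Q.subtype ∘ₗ K₁.subtype) = _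
    rw [Submodule.map_comp, Submodule.map_subtype_top]
  have hmapQ : ∀ (N : Submodule R σ.Q), N.map σ.Q.subtype ≤ σ.Q := by
    intro N
    rintro _ ⟨y, _, rfl⟩
    exact y.2
  refine ⟨⟨σ.G ⊔ K₁.map σ.Q.subtype, K₁'.map σ.Q.subtype, σ.B ∪ B₁, ⟨?_, ?_⟩, ?_, ?_, ?_⟩,
    le_sup_left, Set.subset_union_left, ?_⟩
  · rw [Submodule.disjoint_def]
    intro y hy hy'
    obtain ⟨g', hg', k, hk, rfl⟩ := Submodule.mem_sup.mp hy
    obtain ⟨k₁, hk₁, rfl⟩ := hk
    obtain ⟨k₁', hk₁', hkk⟩ := hy'
    have hg'0 : g' = 0 := by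
      have h1 : g' ∈ σ.Q := by
        have : g' = (k₁' : P) - (k₁ : P) := by
          have h2 : σ.Q.subtype k₁' = g' + σ.Q.subtype k₁ := hkk
          simp only [Submodule.subtype_apply] at h2
          rw [h2]; abel
        rw [this]
        exact σ.Q.sub_mem k₁'.2 k₁.2
      exact Submodule.disjoint_def.mp σ.hc.disjoint g' hg' h1
    have hk : k₁ = k₁' := by
      apply Subtype.ext
      have h2 : σ.Q.subtype k₁' = g' + σ.Q.subtype k₁ := hkk
      simp only [Submodule.subtype_apply] at h2
      rw [h2, hg'0, zero_add]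
    have hk0 : k₁ = 0 := Submodule.disjoint_def.mp hc₁.disjoint k₁ hk₁ (hk ▸ hk₁')
    rw [hg'0, hk0, map_zero, add_zero]
  · rw [codisjoint_iff, eq_top_iff]
    intro p _
    have hp : p ∈ σ.G ⊔ σ.Q := by rw [σ.hc.sup_eq_top]; trivial
    obtain ⟨g', hg', q', hq', rfl⟩ := Submodule.mem_sup.mp hp
    have hq'' : (⟨q', hq'⟩ : σ.Q) ∈ K₁ ⊔ K₁' := by rw [hc₁.sup_eq_top]; trivial
    obtain ⟨k, hk, k', hk', hkk⟩ := Submodule.mem_sup.mp hq''
    have : q' = (k : P) + (k' : P) := by
      have := congrArg Subtype.val hkk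
      simpa using this.symm
    rw [this, ← add_assoc]
    refine Submodule.add_mem _ (Submodule.mem_sup_left (Submodule.add_mem _
      (Submodule.mem_sup_left hg') (Submodule.mem_sup_right ⟨k, hk, rfl⟩)))
      (Submodule.mem_sup_right ⟨k', hk', rfl⟩)
  · refine σ.hli.id_union hB₁li ?_
    rw [σ.hspan, hB₁span]
    exact σ.hc.disjoint.mono_right (hmapQ _)
  · rw [Submodule.span_union, σ.hspan, hB₁span]
  · exact σ.hfin.union (Set.finite_range _)
  · rw [← hgq]
    exact Submodule.add_mem _ (Submodule.mem_sup_left hg)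
      (Submodule.mem_sup_right ⟨⟨q, hq⟩, hz, rfl⟩)

/-- the trivial state -/
def St.zero (R : Type u) [CommRing R] (P : Type u) [AddCommGroup P] [Module R P] : St R P where
  G := ⊥
  Q := ⊤
  B := ∅
  hc := isCompl_bot_top
  hli := linearIndepOn_empty R id
  hspan := Submodule.span_empty
  hfin := Set.finite_empty

theorem free_of_countable [IsNoetherianRing (R ⧸ (⊥ : Ideal R).jacobson)] [Module.Projective R P]
    (hW : W R P) (f : ℕ → P) (hf : Submodule.span R (Set.range f) = ⊤) : Module.Free R P := by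
  classical
  let seq : ℕ → St R P := fun n =>
    Nat.rec (St.zero R P) (fun n σ => Classical.choose (step_chain hW σ (f n))) n
  have hseq : ∀ n, (seq n).G ≤ (seq (n + 1)).G ∧ (seq n).B ⊆ (seq (n + 1)).B ∧
      f n ∈ (seq (n + 1)).G := fun n => Classical.choose_spec (step_chain hW (seq n) (f n))
  have hmono : Monotone fun n => (seq n).B :=
    monotone_nat_of_le_succ fun n => (hseq n).2.1
  set B : Set P := ⋃ n, (seq n).B with hB
  have hli : LinearIndepOn R id B :=
    linearIndepOn_iUnion_of_directed (Monotone.directed_le hmono) fun n => (seq n).hli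
  have hspan : ⊤ ≤ Submodule.span R B := by
    rw [← hf, Submodule.span_le]
    rintro _ ⟨n, rfl⟩
    have h1 : f n ∈ Submodule.span R (seq (n + 1)).B := by
      rw [(seq (n + 1)).hspan]
      exact (hseq n).2.2
    exact Submodule.span_mono (Set.subset_iUnion (fun n => (seq n).B) (n + 1)) h1
  have hli' : LinearIndependent R (fun x : B => (x : P)) := hli
  refine Module.Free.of_basis (Module.Basis.mk hli' ?_)
  rw [Subtype.range_coe]
  exact hspan

end chain

end Groth.Agent.Lib.Helper15.BassBig
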