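import Mathlib

set_option autoImplicit false
set_option linter.style.haveILetI false

open scoped TensorProduct

namespace Groth.Agent.Lib.Helper15.BialgDescent

universe u

section joint
variable {K : Type u} [Field K] {ιv : Type u} (T : ιv → Type u) [∀ i, CommRing (T i)]
  [∀ i, Algebra K (T i)]
  (hJ : ∀ a : K, (∀ i, algebraMap K (T i) a = 0) → a = 0)

include hJ in
/-- joint injectivity on a (free) module -/
theorem joint_injective (M : Type u) [AddCommGroup M] [Module K M] (x : M)
    (hx : ∀ i, (1 : T i) ⊗ₜ[K] x = 0) : x = 0 := by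
  let β := Module.Free.chooseBasis K M
  apply β.repr.injective
  rw [map_zero]
  ext j
  rw [Finsupp.zero_apply]
  apply hJ
  intro i
  have h := congrArg (fun z => (Algebra.TensorProduct.basis (T i) β).repr z j) (hx i)
  simp only [Algebra.TensorProduct.basis_repr_tmul, map_zero, Finsupp.zero_apply, one_smul,
    Finsupp.mapRange_apply] at h
  exact h

end joint

section descent
variable {K : Type u} [Field K] {ιv ιe : Type u} [Finite ιv]
    (Kv : ιv → Type u) [∀ i, CommRing (Kv i)] [∀ i, Algebra K (Kv i)]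
    (Ke : ιe → Type u) [∀ k, CommRing (Ke k)] [∀ k, Algebra K (Ke k)]
    (l r : ιe → ιv) (ρl : ∀ k, Kv (l k) →ₐ[K] Ke k) (ρr : ∀ k, Kv (r k) →ₐ[K] Ke k)
    (hlim : ∀ x : (∀ i, Kv i), (∀ k, ρl k (x (l k)) = ρr k (x (r k))) →
      ∃! a : K, ∀ i, algebraMap K (Kv i) a = x i)

include hlim in
theorem hJ (a : K) (ha : ∀ i, algebraMap K (Kv i) a = 0) : a = 0 := by
  obtain ⟨c, -, hc⟩ := hlim (fun _ => 0) (fun k => by simp)
  rw [hc a ha, hc 0 (fun i => map_zero _)]

theorem repr_map {S S' : Type u} [CommRing S] [CommRing S'] [Algebra K S] [Algebra K S']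
    (ρ : S →ₐ[K] S') {M : Type u} [AddCommGroup M] [Module K M] {J : Type*}
    (β : Module.Basis J K M) (m : S ⊗[K] M) (j : J) :
    (Algebra.TensorProduct.basis S' β).repr
      (TensorProduct.map ρ.toLinearMap (LinearMap.id : M →ₗ[K] M) m) j =
      ρ ((Algebra.TensorProduct.basis S β).repr m j) := by
  induction m using TensorProduct.induction_on with
  | zero => simp
  | tmul s x =>
    simp only [TensorProduct.map_tmul, AlgHom.toLinearMap_apply, LinearMap.id_coe, id_eq,
      Algebra.TensorProduct.basis_repr_tmul, Finsupp.smul_apply, Finsupp.mapRange_apply,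
      smul_eq_mul, map_mul, AlgHom.commutes]
  | add a b ha hb => simp only [map_add, Finsupp.add_apply, ha, hb]

include hlim in
/-- descent of elements of a base-changed module -/
theorem descend (M : Type u) [AddCommGroup M] [Module K M] (m : ∀ i, Kv i ⊗[K] M)
    (hm : ∀ k, TensorProduct.map (ρl k).toLinearMap (LinearMap.id : M →ₗ[K] M) (m (l k)) =
      TensorProduct.map (ρr k).toLinearMap (LinearMap.id : M →ₗ[K] M) (m (r k))) :
    ∃ a : M, ∀ i, (1 : Kv i) ⊗ₜ[K] a = m i := by
  classical
  let β := Module.Free.chooseBasis K M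
  let x : Module.Free.ChooseBasisIndex K M → ∀ i, Kv i :=
    fun j i => (Algebra.TensorProduct.basis (Kv i) β).repr (m i) j
  have hx : ∀ j k, ρl k (x j (l k)) = ρr k (x j (r k)) := by
    intro j k
    have := congrArg (fun z => (Algebra.TensorProduct.basis (Ke k) β).repr z j) (hm k)
    simp only [repr_map] at this
    exact this
  choose c hc hcu using fun j => hlim (x j) (hx j)
  have hfin : (Function.support c).Finite := by
    haveI := Fintype.ofFinite ιv
    refine Set.Finite.subset (Set.finite_iUnion (fun i : ιv =>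
      ((Algebra.TensorProduct.basis (Kv i) β).repr (m i)).support.finite_toSet)) ?_
    intro j hj
    by_contra hne
    apply hj
    rw [Set.mem_iUnion] at hne
    push Not at hne
    refine (hcu j 0 ?_).symm
    intro i
    have := hne i
    rw [Finset.mem_coe, Finsupp.notMem_support_iff] at this
    rw [map_zero]; exact this.symm
  let cf : Module.Free.ChooseBasisIndex K M →₀ K := Finsupp.ofSupportFinite c hfin
  refine ⟨β.repr.symm cf, fun i => ?_⟩
  apply (Algebra.TensorProduct.basis (Kv i) β).repr.injective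
  ext j
  rw [Algebra.TensorProduct.basis_repr_tmul, one_smul, Finsupp.mapRange_apply,
    LinearEquiv.apply_symm_apply]
  exact hc j i

end descent

section comul
variable {K : Type u} [Field K] (S : Type u) [CommRing S] [Algebra K S]
  (A : Type u) [CommRing A] [Bialgebra K A]

open TensorProduct.AlgebraTensorModule in
theorem comul_one_tmul (a : A) :
    Coalgebra.comul (R := S) ((1 : S) ⊗ₜ[K] a) =
      distribBaseChange K S A A ((1 : S) ⊗ₜ[K] Coalgebra.comul (R := K) a) := by
  rw [TensorProduct.comul_tmul, CommSemiring.comul_apply]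
  generalize Coalgebra.comul (R := K) a = z
  induction z using TensorProduct.induction_on with
  | zero => simp
  | tmul a₁ a₂ =>
    rw [tensorTensorTensorComm_tmul, distribBaseChange_tmul]
  | add z₁ z₂ h₁ h₂ => rw [TensorProduct.tmul_add, TensorProduct.tmul_add, map_add, map_add, h₁, h₂]

theorem counit_one_tmul (a : A) :
    Coalgebra.counit (R := S) ((1 : S) ⊗ₜ[K] a) = algebraMap K S (Coalgebra.counit (R := K) a) := by
  rw [TensorProduct.counit_tmul, CommSemiring.counit_apply, Algebra.algebraMap_eq_smul_one]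

end comul

section main
variable (K : Type u) [Field K] (ιv ιe : Type u) [Finite ιv] [Finite ιe]
    (Kv : ιv → Type u) [∀ i, CommRing (Kv i)] [∀ i, Algebra K (Kv i)]
    (Ke : ιe → Type u) [∀ k, CommRing (Ke k)] [∀ k, Algebra K (Ke k)]
    (l r : ιe → ιv) (ρl : ∀ k, Kv (l k) →ₐ[K] Ke k) (ρr : ∀ k, Kv (r k) →ₐ[K] Ke k)
    (hlim : ∀ x : (∀ i, Kv i), (∀ k, ρl k (x (l k)) = ρr k (x (r k))) →
      ∃! a : K, ∀ i, algebraMap K (Kv i) a = x i)
    (A B : Type u) [CommRing A] [CommRing B] [Bialgebra K A] [Bialgebra K B]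
    (u : ∀ i, (Kv i ⊗[K] B) ≃ₐc[Kv i] (Kv i ⊗[K] A))
    (hu : ∀ (k : ιe) (b : B),
      Algebra.TensorProduct.map (ρl k) (AlgHom.id K A) (u (l k) (1 ⊗ₜ[K] b)) =
        Algebra.TensorProduct.map (ρr k) (AlgHom.id K A) (u (r k) (1 ⊗ₜ[K] b)))

include hlim in
theorem eq_of_forall_tmul_eq (M : Type u) [AddCommGroup M] [Module K M] (a a' : M)
    (h : ∀ i, (1 : Kv i) ⊗ₜ[K] a = (1 : Kv i) ⊗ₜ[K] a') : a = a' := by
  rw [← sub_eq_zero]
  apply joint_injective Kv (hJ Kv Ke l r ρl ρr hlim) M
  intro i
  rw [TensorProduct.tmul_sub, h i, sub_self]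

include hlim in
theorem exists_nontrivial : ∃ i, Nontrivial (Kv i) := by
  by_contra hne
  push Not at hne
  have h1 : ∀ i, Subsingleton (Kv i) := hne
  have := hJ Kv Ke l r ρl ρr hlim (1 : K) (fun i => Subsingleton.elim _ _)
  exact one_ne_zero this

include hlim hu in
theorem exists_desc (b : B) : ∃ a : A, ∀ i, (1 : Kv i) ⊗ₜ[K] a = u i (1 ⊗ₜ[K] b) :=
  descend Kv Ke l r ρl ρr hlim A (fun i => u i (1 ⊗ₜ[K] b)) (fun k => hu k b)

include hlim hu in
theorem main :
    ∃! v : B ≃ₐc[K] A, ∀ (i : ιv) (b : B), u i (1 ⊗ₜ[K] b) = 1 ⊗ₜ[K] v b := by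
  choose v0 hv0 using exists_desc K ιv ιe Kv Ke l r ρl ρr hlim A B u hu
  have hinj := eq_of_forall_tmul_eq K ιv ιe Kv Ke l r ρl ρr hlim
  let v : B →ₐ[K] A :=
    { toFun := v0
      map_one' := by
        apply hinj A
        intro i
        rw [hv0, ← Algebra.TensorProduct.one_def, map_one, Algebra.TensorProduct.one_def]
      map_mul' := by
        intro b b'
        apply hinj A
        intro i
        rw [hv0, ← mul_one (1 : Kv i), ← Algebra.TensorProduct.tmul_mul_tmul, map_mul, ← hv0,
          ← hv0, Algebra.TensorProduct.tmul_mul_tmul]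
      map_zero' := by
        apply hinj A
        intro i
        rw [hv0, TensorProduct.tmul_zero, map_zero, TensorProduct.tmul_zero]
      map_add' := by
        intro b b'
        apply hinj A
        intro i
        rw [hv0, TensorProduct.tmul_add, map_add, ← hv0, ← hv0, TensorProduct.tmul_add]
      commutes' := by
        intro c
        apply hinj A
        intro i
        rw [hv0]
        have e1 : ∀ (C : Type u) [CommRing C] [Algebra K C], (1 : Kv i) ⊗ₜ[K] (algebraMap K C c) =
            algebraMap (Kv i) (Kv i ⊗[K] C) (algebraMap K (Kv i) c) := by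
          intro C _ _
          rw [Algebra.TensorProduct.algebraMap_apply, Algebra.algebraMap_self_apply,
            Algebra.algebraMap_eq_smul_one, Algebra.algebraMap_eq_smul_one (A := Kv i),
            TensorProduct.tmul_smul, TensorProduct.smul_tmul']
        rw [e1 B, e1 A]
        exact AlgHomClass.commutes (u i) _ }
  have hv : ∀ i b, u i (1 ⊗ₜ[K] b) = 1 ⊗ₜ[K] v b := fun i b => (hv0 b i).symm
  -- counit
  have hcounit : (Bialgebra.counitAlgHom K A).comp v = Bialgebra.counitAlgHom K B := by
    ext b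
    show Coalgebra.counit (R := K) (v b) = Coalgebra.counit (R := K) b
    rw [← sub_eq_zero]
    apply hJ Kv Ke l r ρl ρr hlim
    intro i
    rw [map_sub, sub_eq_zero, ← counit_one_tmul, ← counit_one_tmul, ← hv,
      CoalgHomClass.counit_comp_apply]
  -- comul
  have hcomul : (Algebra.TensorProduct.map v v).comp (Bialgebra.comulAlgHom K B) =
      (Bialgebra.comulAlgHom K A).comp v := by
    ext b
    show Algebra.TensorProduct.map v v (Coalgebra.comul (R := K) b) =
      Coalgebra.comul (R := K) (v b)
    apply hinj (A ⊗[K] A)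
    intro i
    apply (TensorProduct.AlgebraTensorModule.distribBaseChange K (Kv i) A A).injective
    rw [← comul_one_tmul, ← hv, ← CoalgHomClass.map_comp_comul_apply, comul_one_tmul]
    generalize Coalgebra.comul (R := K) b = z
    induction z using TensorProduct.induction_on with
    | zero => simp
    | tmul b₁ b₂ =>
      rw [Algebra.TensorProduct.map_tmul, TensorProduct.AlgebraTensorModule.distribBaseChange_tmul,
        TensorProduct.AlgebraTensorModule.distribBaseChange_tmul, TensorProduct.map_tmul]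
      show 1 ⊗ₜ[K] v b₁ ⊗ₜ[Kv i] (1 ⊗ₜ[K] v b₂) = u i (1 ⊗ₜ[K] b₁) ⊗ₜ[Kv i] u i (1 ⊗ₜ[K] b₂)
      rw [hv, hv]
    | add z₁ z₂ h₁ h₂ =>
      rw [map_add, TensorProduct.tmul_add, TensorProduct.tmul_add, map_add, map_add, map_add, h₁, h₂]
  -- bijectivity
  have hbij : Function.Bijective v := by
    obtain ⟨i₀, hi₀⟩ := exists_nontrivial K ιv ιe Kv Ke l r ρl ρr hlim
    have h1 : Function.Bijective (v.toLinearMap.lTensor (Kv i₀)) := by
      have h2 : ⇑(v.toLinearMap.lTensor (Kv i₀)) = ⇑(u i₀) := by
        funext z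
        induction z using TensorProduct.induction_on with
        | zero => simp
        | tmul s b =>
          rw [LinearMap.lTensor_tmul, AlgHom.toLinearMap_apply]
          have : s ⊗ₜ[K] b = s • ((1 : Kv i₀) ⊗ₜ[K] b) := by
            rw [TensorProduct.smul_tmul', smul_eq_mul, mul_one]
          rw [this, map_smul, hv, TensorProduct.smul_tmul', smul_eq_mul, mul_one]
        | add z₁ z₂ h₁ h₂ => rw [map_add, map_add, h₁, h₂]
      rw [h2]
      exact (u i₀).bijective
    exact (Module.FaithfullyFlat.lTensor_bijective_iff_bijective (R := K) (M := Kv i₀)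
      v.toLinearMap).mp h1
  let ve : B ≃ₐ[K] A := AlgEquiv.ofBijective v hbij
  have hve : ∀ b, ve b = v b := fun b => rfl
  refine ⟨BialgEquiv.ofAlgEquiv ve ?_ ?_, ?_, ?_⟩
  · exact hcounit
  · exact hcomul
  · intro i b
    exact hv i b
  · intro w hw
    ext b
    apply hinj A
    intro i
    rw [← hw i b]
    exact hv i b

end main

end Groth.Agent.Lib.Helper15.BialgDescent
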