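import Mathlib
import Groth.Agent.Lib.Helper15.Wedderburn

/-!
# Uniqueness in Wedderburn's theorem (helper15)
-/

set_option autoImplicit false
universe u v w
open scoped TensorProduct

namespace Groth.Agent.Lib.Helper15.CSA

section simple

/-- Any two simple modules over a simple Artinian ring are isomorphic. -/
theorem nonempty_linearEquiv_of_isSimpleModule (R : Type*) [Ring R] [IsSimpleRing R]
    [IsArtinianRing R] (M N : Type*) [AddCommGroup M] [Module R M] [AddCommGroup N] [Module R N]
    [IsSimpleModule R M] [IsSimpleModule R N] : Nonempty (M ≃ₗ[R] N) := by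
  let T : Submodule R (M × N) := LinearMap.range (LinearMap.inl R M N)
  let T' : Submodule R (M × N) := LinearMap.range (LinearMap.inr R M N)
  let eT : M ≃ₗ[R] T := LinearEquiv.ofInjective _ LinearMap.inl_injective
  let eT' : N ≃ₗ[R] T' := LinearEquiv.ofInjective _ LinearMap.inr_injective
  have hT : IsSimpleModule R T := IsSimpleModule.congr eT.symm
  have hT' : IsSimpleModule R T' := IsSimpleModule.congr eT'.symm
  obtain ⟨eTT'⟩ := IsSimpleRing.isIsotypic R (M × N) T T'
  exact ⟨eT.trans (eTT'.symm.trans eT'.symm)⟩

/-- Column vectors form a simple module over the matrix ring of a division ring. -/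
theorem isSimpleModule_vec (D : Type*) [DivisionRing D] (n : ℕ) [NeZero n] :
    IsSimpleModule (Matrix (Fin n) (Fin n) D) (Fin n → D) := by
  classical
  rw [isSimpleModule_iff_toSpanSingleton_surjective]
  refine ⟨inferInstance, fun v hv w => ?_⟩
  obtain ⟨i, hi⟩ : ∃ i, v i ≠ 0 := Function.ne_iff.mp hv
  refine ⟨Matrix.of fun j l => if l = i then w j * (v i)⁻¹ else 0, ?_⟩
  ext j
  simp only [LinearMap.toSpanSingleton_apply, Matrix.smul_eq_mulVec, Matrix.mulVec, dotProduct,
    Matrix.of_apply, ite_mul, zero_mul, Finset.sum_ite_eq', Finset.mem_univ, if_true]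
  rw [mul_assoc, inv_mul_cancel₀ hi, mul_one]

end simple

section pull

variable {k R R' : Type*} [Field k] [Ring R] [Ring R'] [Algebra k R] [Algebra k R']

/-- The pullback of an `R'`-module along `φ : R →ₐ[k] R'`. -/
def Pull (_φ : R →ₐ[k] R') (V : Type*) : Type _ := V

variable (φ : R →ₐ[k] R') (V : Type*) [AddCommGroup V] [Module R' V] [Module k V]
  [IsScalarTower k R' V]

instance : AddCommGroup (Pull φ V) := inferInstanceAs (AddCommGroup V)
instance : Module k (Pull φ V) := inferInstanceAs (Module k V)
instance : Module R (Pull φ V) := Module.compHom V (φ : R →+* R')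

lemma Pull.smul_def (r : R) (x : Pull φ V) : r • x = (show V from (φ r • (show V from x))) := rfl

instance : IsScalarTower k R (Pull φ V) where
  smul_assoc c r x := by
    change (φ (c • r) • (show V from x)) = c • (φ r • (show V from x))
    rw [map_smul, smul_assoc]

instance [FiniteDimensional k V] : FiniteDimensional k (Pull φ V) :=
  inferInstanceAs (FiniteDimensional k V)

theorem Pull.isSimpleModule (hφ : Function.Surjective φ) [IsSimpleModule R' V] :
    IsSimpleModule R (Pull φ V) := by
  haveI : RingHomSurjective (φ : R →+* R') := ⟨hφ⟩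
  let l : Pull φ V →ₛₗ[(φ : R →+* R')] V :=
    { toFun := fun x => x
      map_add' := fun _ _ => rfl
      map_smul' := fun _ _ => rfl }
  exact (LinearMap.isSimpleModule_iff_of_bijective l Function.bijective_id).mpr inferInstance

theorem Pull.finrank_eq : Module.finrank k (Pull φ V) = Module.finrank k V := rfl

end pull

section unique

/-- Uniqueness in Wedderburn's theorem for central simple algebras. -/
theorem matrix_division_unique (k : Type u) [Field k]
    (D : Type v) [DivisionRing D] [Algebra k D] [FiniteDimensional k D]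
    (D' : Type w) [DivisionRing D'] [Algebra k D'] [Algebra.IsCentral k D'] [FiniteDimensional k D']
    (n m : ℕ) [NeZero n] [NeZero m]
    (φ : Matrix (Fin n) (Fin n) D ≃ₐ[k] Matrix (Fin m) (Fin m) D') :
    n = m ∧ Nonempty (D ≃ₐ[k] D') := by
  have hart : IsArtinianRing (Matrix (Fin n) (Fin n) D) := IsArtinianRing.of_finite k _
  have h1 : IsSimpleModule (Matrix (Fin n) (Fin n) D) (Fin n → D) := isSimpleModule_vec D n
  have h2 : IsSimpleModule (Matrix (Fin m) (Fin m) D') (Fin m → D') := isSimpleModule_vec D' m
  let φ' : Matrix (Fin n) (Fin n) D →ₐ[k] Matrix (Fin m) (Fin m) D' := φ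
  have h3 : IsSimpleModule (Matrix (Fin n) (Fin n) D) (Pull φ' (Fin m → D')) :=
    Pull.isSimpleModule φ' (Fin m → D') φ.surjective
  obtain ⟨ψ⟩ := nonempty_linearEquiv_of_isSimpleModule (Matrix (Fin n) (Fin n) D) (Fin n → D)
    (Pull φ' (Fin m → D'))
  have hdimV : Module.finrank k (Fin n → D) = Module.finrank k (Fin m → D') :=
    (ψ.restrictScalars k).finrank_eq.trans (Pull.finrank_eq _ _)
  have hdimR := φ.toLinearEquiv.finrank_eq
  rw [Module.finrank_matrix, Module.finrank_matrix] at hdimR
  rw [Module.finrank_pi_fintype, Module.finrank_pi_fintype] at hdimV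
  simp only [Fintype.card_fin, Finset.sum_const, Finset.card_univ, smul_eq_mul] at hdimR hdimV
  have hpos : 0 < m * Module.finrank k D' :=
    Nat.mul_pos (Nat.pos_of_ne_zero (NeZero.ne m)) Module.finrank_pos
  have hnm : n = m := by
    have : n * (m * Module.finrank k D') = m * (m * Module.finrank k D') := by
      rw [← hdimV]
      calc n * (n * Module.finrank k D) = n * n * Module.finrank k D := by ring
        _ = m * m * Module.finrank k D' := hdimR
        _ = m * (n * Module.finrank k D) := by rw [hdimV]; ring
    exact Nat.eq_of_mul_eq_mul_right hpos this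
  subst hnm
  exact ⟨rfl, nonempty_algEquiv_of_matrix_algEquiv k D D' n (NeZero.ne n) φ⟩

end unique

end Groth.Agent.Lib.Helper15.CSA
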