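import Mathlib
import Groth.Prelude.Def_GSzCSA
import Groth.Agent.Lib.Helper15.CSATensor2
import Groth.Agent.Lib.Helper15.WedderburnUnique

/-!
# Tensor powers of algebras (helper15)
-/

set_option autoImplicit false
universe u v w
open scoped TensorProduct
open PiTensorProduct

namespace Groth.Agent.Lib.Helper15.CSA

section general

variable {R : Type*} [CommSemiring R] {ι : Type*} {A : ι → Type*} [∀ i, Semiring (A i)]
  [∀ i, Algebra R (A i)]

/-- A linear map out of a `PiTensorProduct` of algebras is multiplicative if it is so on pure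
tensors. -/
theorem map_mul_of_tprod {S : Type*} [Semiring S] [Algebra R S] (l : (⨂[R] i, A i) →ₗ[R] S)
    (h : ∀ x y : Π i, A i, l (tprod R (x * y)) = l (tprod R x) * l (tprod R y))
    (x y : ⨂[R] i, A i) : l (x * y) = l x * l y := by
  induction x using PiTensorProduct.induction_on with
  | smul_tprod r f =>
    induction y using PiTensorProduct.induction_on with
    | smul_tprod r' f' =>
      rw [smul_tprod_mul_smul_tprod, map_smul, h, map_smul, map_smul, smul_mul_smul_comm]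
    | add y z hy hz => rw [mul_add, map_add, map_add, mul_add, hy, hz]
  | add x z hx hz => rw [add_mul, map_add, map_add, add_mul, hx, hz]

end general

section tpow

variable (k : Type u) [Field k] (A : Type v) [Ring A] [Algebra k A]

/-- `A^{⊗(a+b)} ≃ A^{⊗a} ⊗ A^{⊗b}`. -/
noncomputable def tpowAddEquiv (a b : ℕ) :
    CSAGal.tpow k A (a + b) ≃ₐ[k] CSAGal.tpow k A a ⊗[k] CSAGal.tpow k A b :=
  AlgEquiv.ofLinearEquiv
    ((PiTensorProduct.reindex k (fun _ : Fin (a + b) => A) finSumFinEquiv.symm) ≪≫ₗ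
      (PiTensorProduct.tmulEquiv k A).symm)
    (by
      rw [PiTensorProduct.one_def, LinearEquiv.trans_apply, reindex_tprod]
      erw [tmulEquiv_symm_apply]
      rfl)
    (by
      intro x y
      refine map_mul_of_tprod (S := CSAGal.tpow k A a ⊗[k] CSAGal.tpow k A b)
        (((PiTensorProduct.reindex k (fun _ : Fin (a + b) => A) finSumFinEquiv.symm) ≪≫ₗ
          (PiTensorProduct.tmulEquiv k A).symm).toLinearMap) ?_ x y
      intro f g
      simp only [LinearEquiv.coe_coe, LinearEquiv.trans_apply, reindex_tprod]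
      erw [tmulEquiv_symm_apply, tmulEquiv_symm_apply, tmulEquiv_symm_apply]
      rw [Algebra.TensorProduct.tmul_mul_tmul, tprod_mul_tprod, tprod_mul_tprod]
      rfl)

/-- `A^{⊗1} ≃ A`. -/
noncomputable def tpowOneEquiv : CSAGal.tpow k A 1 ≃ₐ[k] A :=
  AlgEquiv.ofLinearEquiv (PiTensorProduct.subsingletonEquiv (0 : Fin 1))
    (by rw [PiTensorProduct.one_def, subsingletonEquiv_apply_tprod]; rfl)
    (by
      intro x y
      refine map_mul_of_tprod (S := A)
        ((PiTensorProduct.subsingletonEquiv (R := k) (s := fun _ : Fin 1 => A) (0 : Fin 1)).toLinearMap) ?_ x y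
      intro f g
      simp only [LinearEquiv.coe_coe, subsingletonEquiv_apply_tprod, Pi.mul_apply])

/-- `A^{⊗0} ≃ k`. -/
noncomputable def tpowZeroEquiv : CSAGal.tpow k A 0 ≃ₐ[k] k :=
  AlgEquiv.ofLinearEquiv (PiTensorProduct.isEmptyEquiv (Fin 0))
    (by rw [PiTensorProduct.one_def, isEmptyEquiv_apply_tprod])
    (by
      intro x y
      refine map_mul_of_tprod (S := k)
        ((PiTensorProduct.isEmptyEquiv (R := k) (s := fun _ : Fin 0 => A) (Fin 0)).toLinearMap) ?_ x y
      intro f g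
      simp only [LinearEquiv.coe_coe, isEmptyEquiv_apply_tprod, mul_one])

variable {A} in
/-- Functoriality of tensor powers in algebra isomorphisms. -/
noncomputable def tpowCongr {B : Type w} [Ring B] [Algebra k B] (e : A ≃ₐ[k] B) (n : ℕ) :
    CSAGal.tpow k A n ≃ₐ[k] CSAGal.tpow k B n :=
  AlgEquiv.ofLinearEquiv (PiTensorProduct.congr (fun _ : Fin n => e.toLinearEquiv))
    (by
      rw [PiTensorProduct.one_def, congr_tprod, PiTensorProduct.one_def]
      congr 1
      funext i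
      simp)
    (by
      intro x y
      refine map_mul_of_tprod (S := CSAGal.tpow k B n)
        ((PiTensorProduct.congr (fun _ : Fin n => e.toLinearEquiv)).toLinearMap) ?_ x y
      intro f g
      simp only [LinearEquiv.coe_coe, congr_tprod, tprod_mul_tprod]
      congr 1
      funext i
      simp)

end tpow

end Groth.Agent.Lib.Helper15.CSA

namespace Groth.Agent.Lib.Helper15.CSA

section csa

variable (k : Type u) [Field k]

/-- Bundled "finite-dimensional central simple" predicate. -/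
structure IsCSA (B : Type*) [Ring B] [Algebra k B] : Prop where
  central : Algebra.IsCentral k B
  simple : IsSimpleRing B
  fin : FiniteDimensional k B

variable {k}

theorem IsCSA.of_algEquiv {B : Type*} [Ring B] [Algebra k B] {C : Type*} [Ring C] [Algebra k C]
    (e : B ≃ₐ[k] C) (h : IsCSA k B) : IsCSA k C := by
  obtain ⟨h1, h2, h3⟩ := h
  refine ⟨⟨fun z hz => ?_⟩, IsSimpleRing.of_ringEquiv e.toRingEquiv h2,
    Module.Finite.equiv e.toLinearEquiv⟩
  have hz' : e.symm z ∈ Subalgebra.center k B := by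
    rw [Subalgebra.mem_center_iff] at hz ⊢
    intro b
    apply e.injective
    rw [map_mul, map_mul, e.apply_symm_apply, hz]
  obtain ⟨c, hc⟩ := (Algebra.IsCentral.mem_center_iff k).mp hz'
  refine ⟨c, ?_⟩
  have := congrArg e hc
  rw [e.apply_symm_apply, AlgEquiv.commutes] at this
  exact this.symm

theorem IsCSA.self : IsCSA k k := ⟨inferInstance, inferInstance, inferInstance⟩

theorem IsCSA.tensor {B : Type*} [Ring B] [Algebra k B] {C : Type*} [Ring C] [Algebra k C]
    (hB : IsCSA k B) (hC : IsCSA k C) : IsCSA k (B ⊗[k] C) := by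
  obtain ⟨h1, h2, h3⟩ := hB
  obtain ⟨h1', h2', h3'⟩ := hC
  exact ⟨isCentral_tensorProduct k B C, isSimpleRing_tensorProduct, inferInstance⟩

theorem IsCSA.mk' (A : Type*) [Ring A] [Algebra k A] [Algebra.IsCentral k A] [IsSimpleRing A]
    [FiniteDimensional k A] : IsCSA k A := ⟨inferInstance, inferInstance, inferInstance⟩

theorem IsCSA.tpow {A : Type v} [Ring A] [Algebra k A] (hA : IsCSA k A) (n : ℕ) :
    IsCSA k (CSAGal.tpow k A n) := by
  induction n with
  | zero => exact IsCSA.self.of_algEquiv (tpowZeroEquiv k A).symm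
  | succ n ih =>
    have h1 : IsCSA k (CSAGal.tpow k A n ⊗[k] A) := ih.tensor hA
    exact h1.of_algEquiv ((tpowAddEquiv k A n 1).trans
      (Algebra.TensorProduct.congr AlgEquiv.refl (tpowOneEquiv k A))).symm

end csa

section split

variable (k : Type u) [Field k]

/-- `B` is isomorphic to a matrix algebra of positive size over `k`. -/
def IsSplit (B : Type*) [Ring B] [Algebra k B] : Prop :=
  ∃ n : ℕ, n ≠ 0 ∧ Nonempty (B ≃ₐ[k] Matrix (Fin n) (Fin n) k)

variable {k}

theorem splits_self_iff {B : Type*} [Ring B] [Algebra k B] : Curves.Splits k B k ↔ IsSplit k B := by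
  constructor
  · rintro ⟨n, hn, ⟨e⟩⟩
    exact ⟨n, hn, ⟨(Algebra.TensorProduct.lid k B).symm.trans e⟩⟩
  · rintro ⟨n, hn, ⟨e⟩⟩
    exact ⟨n, hn, ⟨(Algebra.TensorProduct.lid k B).trans e⟩⟩

theorem IsSplit.of_algEquiv {B : Type*} [Ring B] [Algebra k B] {C : Type*} [Ring C] [Algebra k C]
    (e : B ≃ₐ[k] C) (h : IsSplit k B) : IsSplit k C := by
  obtain ⟨n, hn, ⟨f⟩⟩ := h
  exact ⟨n, hn, ⟨e.symm.trans f⟩⟩

theorem IsSplit.self : IsSplit k k := by
  refine ⟨1, one_ne_zero, ⟨AlgEquiv.ofBijective (Algebra.ofId k (Matrix (Fin 1) (Fin 1) k))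
    ⟨(Algebra.ofId k (Matrix (Fin 1) (Fin 1) k)).toRingHom.injective, fun M => ⟨M 0 0, ?_⟩⟩⟩⟩
  ext i j
  rw [Subsingleton.elim i 0, Subsingleton.elim j 0]
  simp [Algebra.ofId_apply, Matrix.algebraMap_matrix_apply]

theorem IsSplit.tensor {B : Type*} [Ring B] [Algebra k B] {C : Type*} [Ring C] [Algebra k C]
    (hB : IsSplit k B) (hC : IsSplit k C) : IsSplit k (B ⊗[k] C) := by
  obtain ⟨n, hn, ⟨e⟩⟩ := hB
  obtain ⟨m, hm, ⟨f⟩⟩ := hC
  exact ⟨n * m, Nat.mul_ne_zero hn hm,
    ⟨(Algebra.TensorProduct.congr e f).trans (matrixTensorMatrixEquiv k n m)⟩⟩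

/-- `M_n(k) ⊗ M_t(D) ≃ M_{nt}(D)`. -/
noncomputable def matrixTensorMatrixEquiv' (k : Type u) [Field k] (D : Type*) [Ring D]
    [Algebra k D] (n t : ℕ) :
    Matrix (Fin n) (Fin n) k ⊗[k] Matrix (Fin t) (Fin t) D ≃ₐ[k]
      Matrix (Fin (n * t)) (Fin (n * t)) D :=
  (Matrix.kroneckerTMulAlgEquiv (Fin n) (Fin t) k k k D).trans <|
    (AlgEquiv.mapMatrix (Algebra.TensorProduct.lid k D)).trans <|
      Matrix.reindexAlgEquiv k D finProdFinEquiv

/-- Cancellation: if `B` and `B ⊗ C` are split and `C` is central simple then `C` is split. -/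
theorem IsSplit.cancel {B : Type*} [Ring B] [Algebra k B] {C : Type v} [Ring C] [Algebra k C]
    (hC : IsCSA k C) (hB : IsSplit k B) (hBC : IsSplit k (B ⊗[k] C)) : IsSplit k C := by
  obtain ⟨h1, h2, h3⟩ := hC
  obtain ⟨t, ht, D, _, _, hDc, hDf, ⟨eC⟩⟩ := exists_algEquiv_matrix_central_division k C
  obtain ⟨n, hn, ⟨eB⟩⟩ := hB
  obtain ⟨N, hN, ⟨eBC⟩⟩ := hBC
  have : NeZero n := ⟨hn⟩
  have : NeZero N := ⟨hN⟩
  have : NeZero (n * t) := ⟨Nat.mul_ne_zero hn (NeZero.ne t)⟩
  let φ : Matrix (Fin (n * t)) (Fin (n * t)) D ≃ₐ[k] Matrix (Fin N) (Fin N) k :=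
    (matrixTensorMatrixEquiv' k D n t).symm.trans
      ((Algebra.TensorProduct.congr eB eC).symm.trans eBC)
  obtain ⟨-, ⟨eD⟩⟩ := matrix_division_unique k D k (n * t) N φ
  exact ⟨t, NeZero.ne t, ⟨eC.trans (AlgEquiv.mapMatrix eD)⟩⟩

end split

end Groth.Agent.Lib.Helper15.CSA

namespace Groth.Agent.Lib.Helper15.CSA

section period

variable (k : Type u) [Field k] (A : Type v) [Ring A] [Algebra k A]

/-- `(A^{⊗r})^{⊗e} ≃ A^{⊗(r e)}`. -/
theorem nonempty_tpow_tpow (r e : ℕ) :
    Nonempty (CSAGal.tpow k (CSAGal.tpow k A r) e ≃ₐ[k] CSAGal.tpow k A (r * e)) := by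
  induction e with
  | zero => exact ⟨(tpowZeroEquiv k _).trans (tpowZeroEquiv k A).symm⟩
  | succ e ih =>
    obtain ⟨f⟩ := ih
    exact ⟨((tpowAddEquiv k (CSAGal.tpow k A r) e 1).trans
      (Algebra.TensorProduct.congr f (tpowOneEquiv k (CSAGal.tpow k A r)))).trans
      (tpowAddEquiv k A (r * e) r).symm⟩

variable {k A}

theorem isSplit_tpow_add {a b : ℕ} (ha : IsSplit k (CSAGal.tpow k A a))
    (hb : IsSplit k (CSAGal.tpow k A b)) : IsSplit k (CSAGal.tpow k A (a + b)) :=
  (ha.tensor hb).of_algEquiv (tpowAddEquiv k A a b).symm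

theorem isSplit_tpow_of_add (hA : IsCSA k A) {a b : ℕ} (ha : IsSplit k (CSAGal.tpow k A a))
    (hab : IsSplit k (CSAGal.tpow k A (a + b))) : IsSplit k (CSAGal.tpow k A b) :=
  IsSplit.cancel (hA.tpow b) ha (hab.of_algEquiv (tpowAddEquiv k A a b))

theorem isSplit_tpow_zero : IsSplit k (CSAGal.tpow k A 0) :=
  IsSplit.self.of_algEquiv (tpowZeroEquiv k A).symm

theorem isSplit_tpow_mul {p : ℕ} (hp : IsSplit k (CSAGal.tpow k A p)) (c : ℕ) :
    IsSplit k (CSAGal.tpow k A (p * c)) := by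
  induction c with
  | zero => exact isSplit_tpow_zero
  | succ c ih => exact isSplit_tpow_add ih hp

theorem isSplit_tpow_iff_dvd (hA : IsCSA k A) {p : ℕ} (hp : CSAGal.IsPeriod k A p) (e : ℕ) :
    IsSplit k (CSAGal.tpow k A e) ↔ p ∣ e := by
  obtain ⟨hp0, hpp, hpmin⟩ := hp
  rw [splits_self_iff] at hpp
  constructor
  · intro he
    have h1 : e = p * (e / p) + e % p := (Nat.div_add_mod e p).symm
    have h2 : IsSplit k (CSAGal.tpow k A (e % p)) := by
      refine isSplit_tpow_of_add hA (isSplit_tpow_mul hpp (e / p)) ?_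
      rwa [← h1]
    by_contra hdvd
    have h3 : 0 < e % p := Nat.pos_of_ne_zero fun h => hdvd (Nat.dvd_of_mod_eq_zero h)
    exact hpmin (e % p) h3 (Nat.mod_lt e hp0) (splits_self_iff.mpr h2)
  · rintro ⟨c, rfl⟩
    exact isSplit_tpow_mul hpp c

theorem isPeriod_tpow (hA : IsCSA k A) {p : ℕ} (hp : CSAGal.IsPeriod k A p) (r : ℕ) (hr : 0 < r) :
    CSAGal.IsPeriod k (CSAGal.tpow k A r) (p / Nat.gcd p r) := by
  have hp0 : 0 < p := hp.1
  have hg : 0 < Nat.gcd p r := Nat.gcd_pos_of_pos_left r hp0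
  have key : ∀ e : ℕ, Curves.Splits k (CSAGal.tpow k (CSAGal.tpow k A r) e) k ↔
      (p / Nat.gcd p r) ∣ e := by
    intro e
    obtain ⟨f⟩ := nonempty_tpow_tpow k A r e
    rw [splits_self_iff]
    have h1 : IsSplit k (CSAGal.tpow k (CSAGal.tpow k A r) e) ↔
        IsSplit k (CSAGal.tpow k A (r * e)) := ⟨fun h => h.of_algEquiv f, fun h => h.of_algEquiv f.symm⟩
    rw [h1, isSplit_tpow_iff_dvd hA hp]
    -- p ∣ r * e ↔ p / gcd ∣ e
    obtain ⟨p', hp'⟩ : Nat.gcd p r ∣ p := Nat.gcd_dvd_left p r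
    obtain ⟨r', hr'⟩ : Nat.gcd p r ∣ r := Nat.gcd_dvd_right p r
    have hcop : Nat.Coprime p' r' := by
      have := Nat.coprime_div_gcd_div_gcd hg
      rwa [Nat.div_eq_of_eq_mul_right hg hp', Nat.div_eq_of_eq_mul_right hg hr'] at this
    have hdiv : p / Nat.gcd p r = p' := Nat.div_eq_of_eq_mul_right hg hp'
    rw [hdiv]
    constructor
    · intro h
      have h2 : Nat.gcd p r * p' ∣ Nat.gcd p r * (r' * e) := by
        rw [← hp', ← mul_assoc, ← hr']; exact h
      have h3 : p' ∣ r' * e := Nat.dvd_of_mul_dvd_mul_left hg h2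
      exact hcop.dvd_of_dvd_mul_left h3
    · intro h
      obtain ⟨c, rfl⟩ := h
      refine ⟨r' * c, ?_⟩
      calc r * (p' * c) = (Nat.gcd p r * r') * (p' * c) := by rw [← hr']
        _ = (Nat.gcd p r * p') * (r' * c) := by ring
        _ = p * (r' * c) := by rw [← hp']
  refine ⟨Nat.div_pos (Nat.le_of_dvd hp0 (Nat.gcd_dvd_left p r)) hg, (key _).mpr dvd_rfl, ?_⟩
  intro e' he' hlt hsp
  have := Nat.le_of_dvd he' ((key e').mp hsp)
  omega

end period

end Groth.Agent.Lib.Helper15.CSA
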