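import Mathlib
import Groth.Agent.Lib.Helper15.TPow

/-!
# Brauer equivalence via matrix algebras (helper15)
-/

set_option autoImplicit false
universe u v w
open scoped TensorProduct

namespace Groth.Agent.Lib.Helper15.CSA

section defs

variable (k : Type u) [Field k]

/-- Brauer equivalence: matrix algebras of positive sizes are isomorphic. -/
def BrEq (B : Type*) [Ring B] [Algebra k B] (C : Type*) [Ring C] [Algebra k C] : Prop :=
  ∃ n m : ℕ, n ≠ 0 ∧ m ≠ 0 ∧
    Nonempty (Matrix (Fin n) (Fin n) B ≃ₐ[k] Matrix (Fin m) (Fin m) C)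

/-- `M_n(M_m(B)) ≅ M_{nm}(B)`. -/
noncomputable def matrixMatrixEquiv (B : Type*) [Ring B] [Algebra k B] (n m : ℕ) :
    Matrix (Fin n) (Fin n) (Matrix (Fin m) (Fin m) B) ≃ₐ[k]
      Matrix (Fin (n * m)) (Fin (n * m)) B :=
  (Matrix.compAlgEquiv (Fin n) (Fin m) B k).trans (Matrix.reindexAlgEquiv k B finProdFinEquiv)

/-- `M_n(B ⊗ E) ≅ M_n(B) ⊗ E`. -/
noncomputable def matrixTensorEquiv (B : Type*) [Ring B] [Algebra k B] (E : Type*) [Ring E]
    [Algebra k E] (n : ℕ) :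
    Matrix (Fin n) (Fin n) (B ⊗[k] E) ≃ₐ[k] Matrix (Fin n) (Fin n) B ⊗[k] E :=
  (matrixEquivTensor (Fin n) k (B ⊗[k] E)).trans <|
    (Algebra.TensorProduct.assoc k k k B E (Matrix (Fin n) (Fin n) k)).trans <|
      (Algebra.TensorProduct.congr AlgEquiv.refl
        (Algebra.TensorProduct.comm k E (Matrix (Fin n) (Fin n) k))).trans <|
        (Algebra.TensorProduct.assoc k k k B (Matrix (Fin n) (Fin n) k) E).symm.trans <|
          Algebra.TensorProduct.congr (matrixEquivTensor (Fin n) k B).symm AlgEquiv.refl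

end defs

section lemmas

variable {k : Type u} [Field k]
variable {B : Type*} [Ring B] [Algebra k B] {C : Type*} [Ring C] [Algebra k C]
  {D : Type*} [Ring D] [Algebra k D]

theorem BrEq.refl : BrEq k B B := ⟨1, 1, one_ne_zero, one_ne_zero, ⟨AlgEquiv.refl⟩⟩

theorem BrEq.symm (h : BrEq k B C) : BrEq k C B := by
  obtain ⟨n, m, hn, hm, ⟨e⟩⟩ := h
  exact ⟨m, n, hm, hn, ⟨e.symm⟩⟩

theorem BrEq.of_algEquiv (e : B ≃ₐ[k] C) : BrEq k B C :=
  ⟨1, 1, one_ne_zero, one_ne_zero, ⟨AlgEquiv.mapMatrix e⟩⟩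

theorem BrEq.trans (h1 : BrEq k B C) (h2 : BrEq k C D) : BrEq k B D := by
  obtain ⟨n, m, hn, hm, ⟨e1⟩⟩ := h1
  obtain ⟨p, q, hp, hq, ⟨e2⟩⟩ := h2
  refine ⟨p * n, m * q, Nat.mul_ne_zero hp hn, Nat.mul_ne_zero hm hq, ⟨?_⟩⟩
  exact (matrixMatrixEquiv k B p n).symm.trans <|
    (AlgEquiv.mapMatrix e1).trans <|
      (matrixMatrixEquiv k C p m).trans <|
        (Matrix.reindexAlgEquiv k C (finCongr (mul_comm p m))).trans <|
          (matrixMatrixEquiv k C m p).symm.trans <|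
            (AlgEquiv.mapMatrix e2).trans (matrixMatrixEquiv k D m q)

theorem BrEq.matrix (r : ℕ) (hr : r ≠ 0) : BrEq k (Matrix (Fin r) (Fin r) B) B :=
  ⟨1, 1 * r, one_ne_zero, Nat.mul_ne_zero one_ne_zero hr, ⟨matrixMatrixEquiv k B 1 r⟩⟩

theorem BrEq.tensor_right (E : Type*) [Ring E] [Algebra k E] (h : BrEq k B C) :
    BrEq k (B ⊗[k] E) (C ⊗[k] E) := by
  obtain ⟨n, m, hn, hm, ⟨e⟩⟩ := h
  exact ⟨n, m, hn, hm, ⟨(matrixTensorEquiv k B E n).trans <|
    (Algebra.TensorProduct.congr e AlgEquiv.refl).trans (matrixTensorEquiv k C E m).symm⟩⟩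

theorem BrEq.tensor_left (E : Type*) [Ring E] [Algebra k E] (h : BrEq k B C) :
    BrEq k (E ⊗[k] B) (E ⊗[k] C) :=
  ((BrEq.of_algEquiv (Algebra.TensorProduct.comm k E B)).trans (h.tensor_right E)).trans
    (BrEq.of_algEquiv (Algebra.TensorProduct.comm k C E))

/-- `M_n(k)` is split. -/
theorem isSplit_matrix (n : ℕ) (hn : n ≠ 0) : IsSplit k (Matrix (Fin n) (Fin n) k) :=
  ⟨n, hn, ⟨AlgEquiv.refl⟩⟩

theorem BrEq.isSplit {C : Type v} [Ring C] [Algebra k C] (h : BrEq k B C) (hB : IsSplit k B)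
    (hC : IsCSA k C) : IsSplit k C := by
  obtain ⟨n, m, hn, hm, ⟨e⟩⟩ := h
  obtain ⟨r, hr, ⟨f⟩⟩ := hB
  have h1 : IsSplit k (Matrix (Fin m) (Fin m) C) :=
    ⟨n * r, Nat.mul_ne_zero hn hr,
      ⟨e.symm.trans ((AlgEquiv.mapMatrix f).trans (matrixMatrixEquiv k k n r))⟩⟩
  have h2 : IsSplit k (Matrix (Fin m) (Fin m) k ⊗[k] C) :=
    h1.of_algEquiv ((matrixEquivTensor (Fin m) k C).trans
      (Algebra.TensorProduct.comm k C (Matrix (Fin m) (Fin m) k)))
  exact IsSplit.cancel hC (isSplit_matrix m hm) h2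

end lemmas

section op

variable {k : Type u} [Field k]

/-- `End_k(V)` is split. -/
theorem isSplit_end (V : Type*) [AddCommGroup V] [Module k V] [FiniteDimensional k V]
    [Nontrivial V] : IsSplit k (Module.End k V) := by
  have hpos : 0 < Module.finrank k V := Module.finrank_pos
  exact ⟨Module.finrank k V, hpos.ne', ⟨algEquivMatrix (Module.finBasis k V)⟩⟩

/-- A central simple algebra tensored with its opposite is split. -/
theorem isSplit_tensor_op {C : Type*} [Ring C] [Algebra k C] (hC : IsCSA k C) :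
    IsSplit k (C ⊗[k] Cᵐᵒᵖ) := by
  obtain ⟨h1, h2, h3⟩ := hC
  have hs : IsSimpleRing (C ⊗[k] Cᵐᵒᵖ) := isSimpleRing_tensorProduct
  have hnt : Nontrivial C := inferInstance
  have hinj : Function.Injective (AlgHom.mulLeftRight k C) :=
    (AlgHom.mulLeftRight k C : C ⊗[k] Cᵐᵒᵖ →+* Module.End k C).injective
  have hdim : Module.finrank k (C ⊗[k] Cᵐᵒᵖ) = Module.finrank k (Module.End k C) := by
    rw [Module.finrank_tensorProduct, Module.finrank_linearMap]
    congr 1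
    exact (MulOpposite.opLinearEquiv k : C ≃ₗ[k] Cᵐᵒᵖ).symm.finrank_eq
  have hbij : Function.Bijective (AlgHom.mulLeftRight k C) :=
    ⟨hinj, (LinearMap.injective_iff_surjective_of_finrank_eq_finrank
      (f := (AlgHom.mulLeftRight k C).toLinearMap) hdim).mp hinj⟩
  exact (isSplit_end C).of_algEquiv (AlgEquiv.ofBijective _ hbij).symm

/-- If `B ⊗ Cᵐᵒᵖ` is split with `C` central simple, then `B` and `C` are Brauer equivalent. -/
theorem BrEq.of_isSplit_tensor_op {B : Type*} [Ring B] [Algebra k B] {C : Type*} [Ring C]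
    [Algebra k C] (hC : IsCSA k C) (h : IsSplit k (B ⊗[k] Cᵐᵒᵖ)) : BrEq k B C := by
  obtain ⟨N, hN, ⟨e⟩⟩ := h
  obtain ⟨c, hc, ⟨g⟩⟩ := isSplit_tensor_op hC
  refine ⟨c, N, hc, hN, ⟨?_⟩⟩
  exact (matrixEquivTensor (Fin c) k B).trans <|
    (Algebra.TensorProduct.congr AlgEquiv.refl g.symm).trans <|
      (Algebra.TensorProduct.congr AlgEquiv.refl (Algebra.TensorProduct.comm k C Cᵐᵒᵖ)).trans <|
        (Algebra.TensorProduct.assoc k k k B Cᵐᵒᵖ C).symm.trans <|
          (Algebra.TensorProduct.congr e AlgEquiv.refl).trans <|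
            (Algebra.TensorProduct.comm k _ C).trans (matrixEquivTensor (Fin N) k C).symm

end op

end Groth.Agent.Lib.Helper15.CSA
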