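import Mathlib

/-!
# The commutant theorem for Azumaya algebras (helper15)

If `A` is an Azumaya `R`-algebra and `ι : A →ₐ[R] T` any `R`-algebra homomorphism, then
`A ⊗[R] Z ≃ₐ[R] T` where `Z` is the centralizer of `ι A` in `T`.
-/

set_option autoImplicit false
universe u v w
open scoped TensorProduct

namespace Groth.Agent.Lib.Helper15.Commutant

section dualBasis

variable (R : Type*) [CommRing R] (A : Type*) [AddCommGroup A] [Module R A]

theorem exists_dualBasis [Module.Finite R A] [Module.Projective R A] :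
    ∃ (n : ℕ) (p : Fin n → A) (f : Fin n → Module.Dual R A), ∀ x : A, ∑ i, f i x • p i = x := by
  classical
  obtain ⟨n, F, g, -, -, hFg⟩ := Module.Finite.exists_comp_eq_id_of_projective R A
  refine ⟨n, fun i => F (Pi.single i 1), fun i => (LinearMap.proj i).comp g, fun x => ?_⟩
  have h1 : g x = ∑ i, g x i • (Pi.single i 1 : Fin n → R) := by
    funext j
    simp [Finset.sum_apply, Pi.single_apply]
  have h2 := LinearMap.congr_fun hFg x
  rw [LinearMap.comp_apply, LinearMap.id_apply] at h2
  conv_rhs => rw [← h2, h1, map_sum]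
  simp [LinearMap.proj_apply]

end dualBasis

section commutant

variable {R : Type*} [CommRing R] {A : Type*} [Ring A] [Algebra R A]
  {T : Type*} [Ring T] [Algebra R T] (ι : A →ₐ[R] T)

/-- the bimodule action `a ⊗ b ↦ (t ↦ ι a * t * ι b)` -/
noncomputable def Lam : A ⊗[R] Aᵐᵒᵖ →ₐ[R] Module.End R T :=
  (AlgHom.mulLeftRight R T).comp (Algebra.TensorProduct.map ι (AlgHom.op ι))

lemma Lam_tmul (a : A) (b : Aᵐᵒᵖ) (t : T) : Lam ι (a ⊗ₜ b) t = ι a * t * ι b.unop := by
  simp [Lam, AlgHom.mulLeftRight_apply]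

/-- the canonical map `A ⊗ Z → T` -/
noncomputable def ev : A ⊗[R] Subalgebra.centralizer R (Set.range ι) →ₐ[R] T :=
  Algebra.TensorProduct.lift ι (Subalgebra.val _) (fun a z => by
    have := z.2
    rw [Subalgebra.mem_centralizer_iff] at this
    exact (this (ι a) ⟨a, rfl⟩))

lemma ev_tmul (a : A) (z : Subalgebra.centralizer R (Set.range ι)) :
    ev ι (a ⊗ₜ z) = ι a * (z : T) := by
  simp [ev]

/-- on centralizing elements the bimodule action only depends on `μ u 1` -/
lemma Lam_centralizer (u : A ⊗[R] Aᵐᵒᵖ) (z : T)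
    (hz : z ∈ Subalgebra.centralizer R (Set.range ι)) :
    Lam ι u z = ι (AlgHom.mulLeftRight R A u 1) * z := by
  rw [Subalgebra.mem_centralizer_iff] at hz
  induction u using TensorProduct.induction_on with
  | zero => simp
  | tmul a b =>
    rw [Lam_tmul, AlgHom.mulLeftRight_apply, mul_one, map_mul, mul_assoc, mul_assoc,
      hz (ι b.unop) ⟨_, rfl⟩]
  | add u v hu hv => rw [map_add, map_add, LinearMap.add_apply, LinearMap.add_apply, hu, hv,
      map_add, add_mul]

variable [IsAzumaya R A]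

theorem ev_bijective : Function.Bijective (ev ι) := by
  classical
  have hμ := IsAzumaya.bij (R := R) (A := A)
  haveI : Module.Finite R A := IsAzumaya.toFinite
  haveI : Module.Projective R A := IsAzumaya.toProjective
  obtain ⟨n, p, f, hpf⟩ := exists_dualBasis R A
  -- the elements `ε i` with `μ (ε i) = (x ↦ f i x • 1)`
  choose ε hε using fun i => hμ.2 (LinearMap.smulRight (f i) (1 : A))
  have hεcomm : ∀ i (a : A), (a ⊗ₜ (1 : Aᵐᵒᵖ)) * ε i = ((1 : A) ⊗ₜ (MulOpposite.op a)) * ε i := by
    intro i a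
    apply hμ.1
    rw [map_mul, map_mul, hε]
    apply LinearMap.ext
    intro x
    simp [AlgHom.mulLeftRight_apply]
  have hsum : ∑ i, ((p i) ⊗ₜ (1 : Aᵐᵒᵖ)) * ε i = (1 : A ⊗[R] Aᵐᵒᵖ) := by
    apply hμ.1
    rw [map_sum, map_one]
    apply LinearMap.ext
    intro x
    rw [LinearMap.sum_apply]
    simp only [map_mul, hε, Module.End.mul_apply, LinearMap.smulRight_apply,
      AlgHom.mulLeftRight_apply, MulOpposite.unop_one, mul_one, Module.End.one_apply]
    simp_rw [mul_smul_comm, mul_one]
    exact hpf x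
  -- `Lam (ε i) t` centralizes
  have hθmem : ∀ i (t : T), Lam ι (ε i) t ∈ Subalgebra.centralizer R (Set.range ι) := by
    intro i t
    rw [Subalgebra.mem_centralizer_iff]
    rintro _ ⟨a, rfl⟩
    have h1 : ι a * Lam ι (ε i) t = Lam ι ((a ⊗ₜ (1 : Aᵐᵒᵖ)) * ε i) t := by
      rw [map_mul, Module.End.mul_apply, Lam_tmul]
      simp
    have h2 : Lam ι (ε i) t * ι a = Lam ι (((1 : A) ⊗ₜ (MulOpposite.op a)) * ε i) t := by
      rw [map_mul, Module.End.mul_apply, Lam_tmul]
      simp
    rw [h1, h2, hεcomm]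
  let θ : Fin n → T →ₗ[R] Subalgebra.centralizer R (Set.range ι) := fun i =>
    LinearMap.codRestrict (Subalgebra.toSubmodule (Subalgebra.centralizer R (Set.range ι)))
      (Lam ι (ε i)) (hθmem i)
  have hθ : ∀ i t, ((θ i t : Subalgebra.centralizer R (Set.range ι)) : T) = Lam ι (ε i) t :=
    fun i t => rfl
  let s : T →ₗ[R] A ⊗[R] Subalgebra.centralizer R (Set.range ι) :=
    ∑ i, (TensorProduct.mk R A (Subalgebra.centralizer R (Set.range ι)) (p i)).comp (θ i)
  have hs : ∀ t, s t = ∑ i, p i ⊗ₜ θ i t := by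
    intro t
    simp [s, LinearMap.sum_apply]
  have hev_s : ∀ t, ev ι (s t) = t := by
    intro t
    rw [hs, map_sum]
    simp_rw [ev_tmul, hθ]
    have : ∀ i, ι (p i) * Lam ι (ε i) t = Lam ι (((p i) ⊗ₜ (1 : Aᵐᵒᵖ)) * ε i) t := by
      intro i
      rw [map_mul, Module.End.mul_apply, Lam_tmul]
      simp
    simp_rw [this]
    rw [← LinearMap.sum_apply, ← map_sum, hsum, map_one, Module.End.one_apply]
  have hs_ev : ∀ ξ, s (ev ι ξ) = ξ := by
    intro ξ
    induction ξ using TensorProduct.induction_on with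
    | zero => simp
    | tmul a z =>
      rw [ev_tmul, hs]
      have key : ∀ i, θ i (ι a * (z : T)) = f i a • z := by
        intro i
        apply Subtype.ext
        rw [hθ]
        have h1 : ι a * (z : T) = Lam ι (a ⊗ₜ (1 : Aᵐᵒᵖ)) (z : T) := by
          rw [Lam_tmul]; simp
        rw [h1, ← Module.End.mul_apply, ← map_mul, Lam_centralizer ι _ _ z.2, map_mul,
          Module.End.mul_apply, hε, AlgHom.mulLeftRight_apply]
        simp
      simp_rw [key]
      calc ∑ i, p i ⊗ₜ[R] (f i a • z) = ∑ i, (f i a • p i) ⊗ₜ[R] z := by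
            refine Finset.sum_congr rfl fun i _ => ?_
            rw [TensorProduct.tmul_smul, TensorProduct.smul_tmul']
        _ = (∑ i, f i a • p i) ⊗ₜ[R] z := (TensorProduct.sum_tmul _ _ _).symm
        _ = a ⊗ₜ[R] z := by rw [hpf]
    | add ξ η hξ hη => rw [map_add, map_add, hξ, hη]
  exact ⟨Function.LeftInverse.injective hs_ev, Function.RightInverse.surjective hev_s⟩

/-- **Commutant theorem**: `A ⊗ Z_T(A) ≃ T` for an Azumaya algebra `A` mapping to `T`. -/
noncomputable def commutantEquiv : A ⊗[R] Subalgebra.centralizer R (Set.range ι) ≃ₐ[R] T :=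
  AlgEquiv.ofBijective (ev ι) (ev_bijective ι)

end commutant

end Groth.Agent.Lib.Helper15.Commutant
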