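import Mathlib
import Groth.Agent.Lib.Helper15.AzumayaTensor
import Groth.Agent.Lib.Helper15.AzumayaInner
import Groth.Agent.Lib.Helper15.Commutant

/-!
# Cancellation for Azumaya algebras: `C ⊗ D` Azumaya with `C` faithfully projective gives `D`
Azumaya (helper15)
-/

set_option autoImplicit false
set_option linter.style.haveILetI false
universe u v w
open scoped TensorProduct

namespace Groth.Agent.Lib.Helper15.Commutant

open Groth.Agent.Lib.Helper15.Azumaya

section fieldCancel

variable (k : Type*) [Field k] (C : Type*) [Ring C] [Algebra k C] [Nontrivial C]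
  (D : Type*) [Ring D] [Algebra k D]

theorem includeRight_injective' :
    Function.Injective (Algebra.TensorProduct.includeRight : D →ₐ[k] C ⊗[k] D) :=
  Algebra.TensorProduct.includeRight_injective (FaithfulSMul.algebraMap_injective k C)

theorem isCentral_of_tensor [Algebra.IsCentral k (C ⊗[k] D)] : Algebra.IsCentral k D := by
  refine ⟨fun a ha => ?_⟩
  have h1 : (1 : C) ⊗ₜ[k] a ∈ Subalgebra.center k (C ⊗[k] D) := by
    rw [Subalgebra.mem_center_iff]
    intro w
    induction w using TensorProduct.induction_on with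
    | zero => simp
    | tmul x b =>
      rw [Algebra.TensorProduct.tmul_mul_tmul, Algebra.TensorProduct.tmul_mul_tmul,
        Subalgebra.mem_center_iff.mp ha b, mul_one, one_mul]
    | add x y hx hy => rw [add_mul, mul_add, hx, hy]
  obtain ⟨c, hc⟩ := (Algebra.IsCentral.mem_center_iff k).mp h1
  refine ⟨c, ?_⟩
  apply includeRight_injective' k C D
  rw [Algebra.TensorProduct.includeRight_apply, Algebra.TensorProduct.includeRight_apply, hc]
  change (1 : C) ⊗ₜ[k] (algebraMap k D c) = _
  rw [Algebra.algebraMap_eq_smul_one, Algebra.algebraMap_eq_smul_one, Algebra.TensorProduct.one_def,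
    TensorProduct.tmul_smul]

theorem isSimpleRing_of_tensor [IsSimpleRing (C ⊗[k] D)] : IsSimpleRing D := by
  have hinj := includeRight_injective' k C D
  have hnt : Nontrivial D := by
    by_contra h
    rw [not_nontrivial_iff_subsingleton] at h
    have : (1 : C ⊗[k] D) = 0 := by
      rw [Algebra.TensorProduct.one_def, Subsingleton.elim (1 : D) 0, TensorProduct.tmul_zero]
    exact one_ne_zero this
  refine IsSimpleRing.of_eq_bot_or_eq_top fun I => ?_
  rw [or_iff_not_imp_right]
  intro hI
  have hq : Nontrivial I.ringCon.Quotient := by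
    refine ⟨⟨(1 : D), (0 : D), fun h => hI ?_⟩⟩
    have h1 : (1 : D) ∈ I := by
      rw [TwoSidedIdeal.mem_iff]
      exact Quotient.eq''.mp h
    exact (TwoSidedIdeal.one_mem_iff I).mp h1
  have hnt' : Nontrivial (C ⊗[k] I.ringCon.Quotient) :=
    (includeRight_injective' k C I.ringCon.Quotient).nontrivial
  let F : C ⊗[k] D →ₐ[k] C ⊗[k] I.ringCon.Quotient :=
    Algebra.TensorProduct.map (AlgHom.id k C) (I.ringCon.mkₐ k)
  have hF : Function.Injective F := (F : C ⊗[k] D →+* C ⊗[k] I.ringCon.Quotient).injective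
  rw [eq_bot_iff]
  intro a ha
  have h0 : F ((1 : C) ⊗ₜ[k] a) = 0 := by
    have : (I.ringCon.mkₐ k) a = 0 := by
      rw [TwoSidedIdeal.mem_iff] at ha
      exact Quotient.sound ha
    simp only [F, Algebra.TensorProduct.map_tmul, this, TensorProduct.tmul_zero]
  have h1 : (1 : C) ⊗ₜ[k] a = 0 := hF (by rw [h0, map_zero])
  have h2 : a = 0 := hinj (by simpa using h1)
  rw [h2]
  exact (⊥ : TwoSidedIdeal D).zero_mem

end fieldCancel

section cancel

variable (R : Type*) [CommRing R] (C : Type*) [Ring C] [Algebra R C]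
  (D : Type*) [Ring D] [Algebra R D]

/-- If `C ⊗ D` is Azumaya and `C` is faithfully projective, then `D` is Azumaya. -/
theorem isAzumaya_of_tensor [Module.Finite R C] [Module.Projective R C] [FaithfulSMul R C]
    [IsAzumaya R (C ⊗[R] D)] : IsAzumaya R D := by
  obtain ⟨t, ht⟩ := exists_retraction R C
  let i : D →ₗ[R] C ⊗[R] D := (TensorProduct.mk R C D 1)
  let π : C ⊗[R] D →ₗ[R] D := (TensorProduct.lid R D).toLinearMap ∘ₗ t.rTensor D
  have hπi : ∀ d, π (i d) = d := by
    intro d
    simp [π, i, ht]
  haveI : Module.Finite R (C ⊗[R] D) := IsAzumaya.toFinite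
  haveI : Module.Projective R (C ⊗[R] D) := IsAzumaya.toProjective
  haveI : Module.Finite R D :=
    Module.Finite.of_surjective π (fun d => ⟨i d, hπi d⟩)
  haveI : Module.Projective R D := Module.Projective.of_split i π (LinearMap.ext hπi)
  rw [isAzumaya_iff_fibres]
  intro p _
  obtain ⟨h1, h2⟩ := (isAzumaya_iff_fibres R (C ⊗[R] D)).mp inferInstance p
  let e := baseChangeTensorEquivRing R p.ResidueField C D
  haveI : Algebra.IsCentral p.ResidueField
      ((p.ResidueField ⊗[R] C) ⊗[p.ResidueField] (p.ResidueField ⊗[R] D)) :=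
    isCentral_of_algEquiv' e
  haveI : IsSimpleRing ((p.ResidueField ⊗[R] C) ⊗[p.ResidueField] (p.ResidueField ⊗[R] D)) :=
    IsSimpleRing.of_ringEquiv e.toRingEquiv h2
  haveI : Nontrivial (p.ResidueField ⊗[R] C) := nontrivial_fibre_of_faithful R C p
  exact ⟨isCentral_of_tensor p.ResidueField (p.ResidueField ⊗[R] C) (p.ResidueField ⊗[R] D),
    isSimpleRing_of_tensor p.ResidueField (p.ResidueField ⊗[R] C) (p.ResidueField ⊗[R] D)⟩

end cancel

end Groth.Agent.Lib.Helper15.Commutant
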