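import Mathlib
import Groth.Agent.Lib.Helper15.CommutantCancel

/-!
# Brauer classes over a connected ring are represented by Azumaya algebras with only trivial
idempotents (helper15)
-/

set_option autoImplicit false
set_option linter.style.haveILetI false
universe u v w
open scoped TensorProduct

namespace Groth.Agent.Lib.Helper15.BrauerIdem

open Groth.Agent.Lib.Helper15.Azumaya Groth.Agent.Lib.Helper15.Commutant

section leftIdeal

variable (R : Type*) [CommRing R] {A : Type*} [Ring A] [Algebra R A]

/-- the left ideal `A e` as an `R`-submodule -/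
def Me (e : A) : Submodule R A := LinearMap.range (LinearMap.mulRight R e)

variable {R}

lemma mem_Me {e : A} (he : IsIdempotentElem e) {x : A} : x ∈ Me R e ↔ x * e = x := by
  constructor
  · rintro ⟨y, rfl⟩
    simp only [LinearMap.mulRight_apply]
    rw [mul_assoc, he.eq]
  · intro h
    exact ⟨x, h⟩

lemma mul_mem_Me {e : A} (he : IsIdempotentElem e) (a : A) {x : A} (hx : x ∈ Me R e) :
    a * x ∈ Me R e := by
  rw [mem_Me he] at hx ⊢
  rw [mul_assoc, hx]

lemma self_mem_Me {e : A} (he : IsIdempotentElem e) : e ∈ Me R e := (mem_Me he).mpr he.eq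

/-- left multiplication on `A e` -/
def iota {e : A} (he : IsIdempotentElem e) : A →ₐ[R] Module.End R (Me R e) where
  toFun a := (LinearMap.mulLeft R a).restrict (fun x hx => mul_mem_Me he a hx)
  map_one' := LinearMap.ext fun x => Subtype.ext (by
    show (1 : A) * (x : A) = x
    rw [one_mul])
  map_mul' a b := LinearMap.ext fun x => Subtype.ext (by
    show a * b * (x : A) = a * (b * (x : A))
    rw [mul_assoc])
  map_zero' := LinearMap.ext fun x => Subtype.ext (by
    show (0 : A) * (x : A) = 0
    rw [zero_mul])
  map_add' a b := LinearMap.ext fun x => Subtype.ext (by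
    show (a + b) * (x : A) = a * (x : A) + b * (x : A)
    rw [add_mul])
  commutes' r := LinearMap.ext fun x => Subtype.ext (by
    show algebraMap R A r * (x : A) = r • (x : A)
    rw [Algebra.smul_def])

lemma iota_apply {e : A} (he : IsIdempotentElem e) (a : A) (x : Me R e) :
    ((iota (R := R) he a x : Me R e) : A) = a * (x : A) := rfl

/-- the projection `A → A e` -/
def proj (e : A) : A →ₗ[R] Me R e := (LinearMap.mulRight R e).rangeRestrict

lemma proj_apply (e : A) (x : A) : ((proj (R := R) e x : Me R e) : A) = x * e := rfl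

instance finite_Me [Module.Finite R A] (e : A) : Module.Finite R (Me R e) :=
  Module.Finite.of_surjective (proj (R := R) e) (LinearMap.surjective_rangeRestrict _)

lemma projective_Me [Module.Projective R A] {e : A} (he : IsIdempotentElem e) :
    Module.Projective R (Me R e) := by
  refine Module.Projective.of_split (Me R e).subtype (proj (R := R) e) ?_
  ext x
  simp only [LinearMap.comp_apply, Submodule.subtype_apply, LinearMap.id_apply, proj_apply]
  exact (mem_Me he).mp x.2

/-- splitting `A e = A e' ⊕ A (e - e')` for an idempotent `e' ≤ e` -/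
def splitEquiv {e e' : A} (he : IsIdempotentElem e) (he' : IsIdempotentElem e')
    (h1 : e * e' = e') (h2 : e' * e = e') :
    Me R e ≃ₗ[R] Me R e' × Me R (e - e') where
  toFun x := (proj (R := R) e' x, proj (R := R) (e - e') x)
  map_add' x y := by simp
  map_smul' r x := by simp
  invFun yz := ⟨(yz.1 : A) + (yz.2 : A), by
    have he'' : IsIdempotentElem (e - e') := by
      unfold IsIdempotentElem
      rw [mul_sub, sub_mul, sub_mul, he.eq, h1, h2, he'.eq]
      abel
    rw [mem_Me he, add_mul]
    have hy := (mem_Me he').mp yz.1.2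
    have hz := (mem_Me he'').mp yz.2.2
    congr 1
    · rw [← hy, mul_assoc, h2]
    · rw [← hz, mul_assoc, sub_mul, he.eq, h2]⟩
  left_inv x := by
    apply Subtype.ext
    simp only [proj_apply]
    rw [← mul_add, add_sub_cancel]
    exact (mem_Me he).mp x.2
  right_inv yz := by
    have he'' : IsIdempotentElem (e - e') := by
      unfold IsIdempotentElem
      rw [mul_sub, sub_mul, sub_mul, he.eq, h1, h2, he'.eq]
      abel
    have hy := (mem_Me he').mp yz.1.2
    have hz := (mem_Me he'').mp yz.2.2
    apply Prod.ext
    · apply Subtype.ext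
      simp only [proj_apply]
      rw [add_mul, hy]
      have : (yz.2 : A) * e' = 0 := by
        rw [← hz, mul_assoc, sub_mul, h1, he'.eq, sub_self, mul_zero]
      rw [this, add_zero]
    · apply Subtype.ext
      simp only [proj_apply]
      rw [add_mul, hz]
      have : (yz.1 : A) * (e - e') = 0 := by
        rw [← hy, mul_assoc, mul_sub, h2, he'.eq, sub_self, mul_zero]
      rw [this, zero_add]

end leftIdeal

section rank

variable {R : Type u} [CommRing R] [ConnectedSpace (PrimeSpectrum R)]
  {A : Type v} [Ring A] [Algebra R A] [Module.Finite R A] [Module.Projective R A]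

lemma rankAtStalk_pos_all {e : A} (he : IsIdempotentElem e) (h0 : e ≠ 0) (p : PrimeSpectrum R) :
    0 < Module.rankAtStalk (R := R) (Me R e) p := by
  haveI := projective_Me (R := R) he
  haveI : Module.FinitePresentation R (Me R e) := Module.finitePresentation_of_projective R _
  by_contra h
  have hp : Module.rankAtStalk (R := R) (Me R e) p = 0 := by omega
  have hall : Module.rankAtStalk (R := R) (Me R e) = 0 := by
    funext q
    rw [(Module.isLocallyConstant_rankAtStalk (R := R) (M := Me R e)).apply_eq_of_preconnectedSpace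
      q p, hp]
    rfl
  rw [Module.rankAtStalk_eq_zero_iff_subsingleton] at hall
  have : (⟨e, self_mem_Me he⟩ : Me R e) = 0 := Subsingleton.elim _ _
  exact h0 (congrArg Subtype.val this)

/-- the rank of `A e` at a fixed point -/
noncomputable def rk (e : A) : ℕ :=
  Module.rankAtStalk (R := R) (Me R e) (Classical.arbitrary (PrimeSpectrum R))

lemma rk_pos {e : A} (he : IsIdempotentElem e) (h0 : e ≠ 0) : 0 < rk (R := R) e :=
  rankAtStalk_pos_all he h0 _

lemma rk_split {e e' : A} (he : IsIdempotentElem e) (he' : IsIdempotentElem e')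
    (h1 : e * e' = e') (h2 : e' * e = e') :
    rk (R := R) e = rk (R := R) e' + rk (R := R) (e - e') := by
  have he'' : IsIdempotentElem (e - e') := by
    unfold IsIdempotentElem
    rw [mul_sub, sub_mul, sub_mul, he.eq, h1, h2, he'.eq]
    abel
  haveI := projective_Me (R := R) he
  haveI := projective_Me (R := R) he'
  haveI := projective_Me (R := R) he''
  unfold rk
  rw [Module.rankAtStalk_eq_of_equiv (splitEquiv (R := R) he he' h1 h2), Module.rankAtStalk_prod]
  rfl

lemma faithful_Me {e : A} (he : IsIdempotentElem e) (h0 : e ≠ 0) : FaithfulSMul R (Me R e) := by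
  haveI := projective_Me (R := R) he
  have hT : traceIdeal R (Me R e) = ⊤ := by
    apply traceIdeal_eq_top_of_fibres
    intro p hp
    have h1 := rankAtStalk_pos_all (R := R) he h0 ⟨p, hp⟩
    rw [Module.rankAtStalk_pos_iff_mem_support] at h1
    exact (Module.mem_support_iff_nontrivial_residueField_tensorProduct (R := R) (M := Me R e)
      ⟨p, hp⟩).mp h1
  have hf := faithfulSMul_of_traceIdeal_eq_top hT
  exact ⟨fun h => hf.eq_of_smul_eq_smul h⟩

/-- a nonzero idempotent of minimal rank -/
theorem exists_minimal_idem [Nontrivial A] :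
    ∃ e : A, IsIdempotentElem e ∧ e ≠ 0 ∧
      ∀ e' : A, IsIdempotentElem e' → e' ≠ 0 → rk (R := R) e ≤ rk (R := R) e' := by
  classical
  have hex : ∃ n, ∃ e : A, IsIdempotentElem e ∧ e ≠ 0 ∧ rk (R := R) e = n :=
    ⟨_, 1, IsIdempotentElem.one, one_ne_zero, rfl⟩
  obtain ⟨e, he, h0, hn⟩ := Nat.find_spec hex
  refine ⟨e, he, h0, fun e' he' h0' => ?_⟩
  rw [hn]
  exact Nat.find_min' hex ⟨e', he', h0', rfl⟩

/-- endomorphisms of `A e` commuting with `A` are trivial idempotents when `e` is minimal -/
theorem idem_trivial_of_minimal {e : A} (he : IsIdempotentElem e) (h0 : e ≠ 0)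
    (hmin : ∀ e' : A, IsIdempotentElem e' → e' ≠ 0 → rk (R := R) e ≤ rk (R := R) e')
    (f : Module.End R (Me R e))
    (hf : f ∈ Subalgebra.centralizer R (Set.range (iota (R := R) he)))
    (hidem : IsIdempotentElem f) : f = 0 ∨ f = 1 := by
  rw [Subalgebra.mem_centralizer_iff] at hf
  let eM : Me R e := ⟨e, self_mem_Me he⟩
  have hcomm : ∀ (a : A) (x : Me R e), f (iota (R := R) he a x) = iota (R := R) he a (f x) := by
    intro a x
    have := LinearMap.congr_fun (hf (iota (R := R) he a) ⟨a, rfl⟩) x
    exact this.symm
  set e' : A := (f eM : A) with he'def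
  have h2 : e' * e = e' := (mem_Me he).mp (f eM).2
  have hx : ∀ x : Me R e, ((f x : Me R e) : A) = (x : A) * e' := by
    intro x
    have h3 : iota (R := R) he (x : A) eM = x := by
      apply Subtype.ext
      rw [iota_apply]
      exact (mem_Me he).mp x.2
    have h4 := hcomm (x : A) eM
    rw [h3] at h4
    rw [h4, iota_apply]
  have h1 : e * e' = e' := by
    have := hx eM
    exact this.symm
  have hide' : IsIdempotentElem e' := by
    unfold IsIdempotentElem
    have h5 := hx (f eM)
    have h6 : f (f eM) = f eM := by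
      have := LinearMap.congr_fun hidem.eq eM
      exact this
    rw [h6] at h5
    exact h5.symm
  by_cases hz : e' = 0
  · left
    ext x
    rw [hx, hz, mul_zero]
    rfl
  · right
    by_cases hne : e - e' = 0
    · have hee' : e' = e := (sub_eq_zero.mp hne).symm
      ext x
      rw [hx, hee']
      exact (mem_Me he).mp x.2
    · exfalso
      have he'' : IsIdempotentElem (e - e') := by
        unfold IsIdempotentElem
        rw [mul_sub, sub_mul, sub_mul, he.eq, h1, h2, hide'.eq]
        abel
      have hs := rk_split (R := R) he hide' h1 h2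
      have hp := rk_pos (R := R) he'' hne
      have hm := hmin e' hide' hz
      omega

end rank


/-- the commutant of an Azumaya algebra acting on a faithfully projective module, packaged as an
abstract algebra -/
theorem step {R : Type u} [CommRing R] (C : Type u) [Ring C] [Algebra R C] [IsAzumaya R C]
    (M : Type u) [AddCommGroup M] [Module R M] [Module.Finite R M] [Module.Projective R M]
    [FaithfulSMul R M] (ι : C →ₐ[R] Module.End R M) :
    ∃ (Z : Type u) (_ : Ring Z) (_ : Algebra R Z) (_ : IsAzumaya R Z)
      (j : Z →ₐ[R] Module.End R M),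
      (∀ φ, φ ∈ Subalgebra.centralizer R (Set.range ι) ↔ φ ∈ Set.range j) ∧
      Function.Injective j ∧ Nonempty (C ⊗[R] Z ≃ₐ[R] Module.End R M) := by
  haveI : IsAzumaya R (Module.End R M) := isAzumaya_end R M
  let Φ := commutantEquiv (T := Module.End R M) ι
  haveI : IsAzumaya R (C ⊗[R] Subalgebra.centralizer R (Set.range ι)) :=
    IsAzumaya.of_AlgEquiv R (Module.End R M) (C ⊗[R] Subalgebra.centralizer R (Set.range ι)) Φ.symm
  haveI : Module.Finite R C := IsAzumaya.toFinite
  haveI : Module.Projective R C := IsAzumaya.toProjective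
  have hZ : IsAzumaya R (Subalgebra.centralizer R (Set.range ι)) :=
    isAzumaya_of_tensor R C (Subalgebra.centralizer R (Set.range ι))
  refine ⟨Subalgebra.centralizer R (Set.range ι), inferInstance, inferInstance, hZ,
    Subalgebra.val _, fun φ => ?_, Subtype.val_injective, ⟨Φ⟩⟩
  constructor
  · intro h
    exact ⟨⟨φ, h⟩, rfl⟩
  · rintro ⟨z, rfl⟩
    exact z.2

section synonym

variable (R : Type u) [CommRing R] {A : Type u} [Ring A] [Algebra R A]

/-- type synonym for the left ideal `A e` -/
def MeT (e : A) : Type u := ↥(Me R e)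

instance (e : A) : AddCommGroup (MeT R e) := inferInstanceAs (AddCommGroup ↥(Me R e))
instance (e : A) : Module R (MeT R e) := inferInstanceAs (Module R ↥(Me R e))

end synonym

theorem main {R : Type u} [CommRing R] [ConnectedSpace (PrimeSpectrum R)] (A : Type u) [Ring A]
    [Algebra R A] [IsAzumaya R A] :
    ∃ (B : Type u) (_ : Ring B) (_ : Algebra R B) (_ : IsAzumaya R B) (P Q : Type u)
      (_ : AddCommGroup P) (_ : Module R P) (_ : AddCommGroup Q) (_ : Module R Q),
      (∀ b : B, IsIdempotentElem b → b = 0 ∨ b = 1) ∧ Module.Finite R P ∧ Module.Projective R P ∧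
      FaithfulSMul R P ∧ Module.Finite R Q ∧ Module.Projective R Q ∧ FaithfulSMul R Q ∧
      Nonempty (A ⊗[R] Module.End R P ≃ₐ[R] B ⊗[R] Module.End R Q) := by
  haveI : Module.Finite R A := IsAzumaya.toFinite
  haveI : Module.Projective R A := IsAzumaya.toProjective
  haveI : Nontrivial R := by
    obtain ⟨p⟩ : Nonempty (PrimeSpectrum R) := inferInstance
    exact (PrimeSpectrum.nonempty_iff_nontrivial).mp ⟨p⟩
  haveI : Nontrivial A := by
    have hinj : Function.Injective (algebraMap R A) := FaithfulSMul.algebraMap_injective R A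
    exact hinj.nontrivial
  obtain ⟨e, he, h0, hmin⟩ := exists_minimal_idem (R := R) (A := A)
  haveI hfin : Module.Finite R (MeT R e) := inferInstanceAs (Module.Finite R ↥(Me R e))
  haveI hproj : Module.Projective R (MeT R e) := projective_Me (R := R) he
  haveI hfaith : FaithfulSMul R (MeT R e) := faithful_Me (R := R) he h0
  let ι₁ : A →ₐ[R] Module.End R (MeT R e) := iota (R := R) he
  obtain ⟨Z, iZr, iZa, iZaz, j₁, hj₁, hj₁inj, ⟨Φ₁⟩⟩ := step (R := R) A (MeT R e) ι₁
  -- idempotents of Z are trivial
  have hZidem : ∀ z : Z, IsIdempotentElem z → z = 0 ∨ z = 1 := by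
    intro z hz
    have h1 : j₁ z ∈ Subalgebra.centralizer R (Set.range ι₁) := (hj₁ _).mpr ⟨z, rfl⟩
    have h2 : IsIdempotentElem (j₁ z) := hz.map j₁
    rcases idem_trivial_of_minimal (R := R) he h0 hmin (j₁ z) h1 h2 with h | h
    · left
      apply hj₁inj
      exact h.trans (map_zero j₁).symm
    · right
      apply hj₁inj
      exact h.trans (map_one j₁).symm
  haveI : Module.Finite R Z := IsAzumaya.toFinite
  haveI : Module.Projective R Z := IsAzumaya.toProjective
  haveI : FaithfulSMul R Z := iZaz.toFaithfulSMul
  let ι₂ : Z →ₐ[R] Module.End R Z := Algebra.lmul R Z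
  obtain ⟨B, iBr, iBa, iBaz, j₂, hj₂, hj₂inj, ⟨Φ₂⟩⟩ := step (R := R) Z Z ι₂
  refine ⟨B, iBr, iBa, iBaz, Z, MeT R e, inferInstance, inferInstance, inferInstance,
    inferInstance, ?_, inferInstance, inferInstance, inferInstance, hfin, hproj, hfaith, ⟨?_⟩⟩
  · -- idempotents
    intro b hb
    have hφ : j₂ b ∈ Subalgebra.centralizer R (Set.range ι₂) := (hj₂ _).mpr ⟨b, rfl⟩
    have hidem : IsIdempotentElem (j₂ b) := hb.map j₂
    set φ := j₂ b with hφdef
    rw [Subalgebra.mem_centralizer_iff] at hφ
    have hcomm : ∀ z x : Z, φ (z * x) = z * φ x := by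
      intro z x
      have := LinearMap.congr_fun (hφ (ι₂ z) ⟨z, rfl⟩) x
      exact this.symm
    have hx : ∀ x : Z, φ x = x * φ 1 := by
      intro x
      have := hcomm x 1
      rwa [mul_one] at this
    have hz₀ : IsIdempotentElem (φ 1) := by
      unfold IsIdempotentElem
      rw [← hx]
      exact LinearMap.congr_fun hidem.eq 1
    rcases hZidem _ hz₀ with h | h
    · left
      apply hj₂inj
      rw [map_zero, ← hφdef]
      ext x : 1
      rw [hx, h, mul_zero]
      rfl
    · right
      apply hj₂inj
      rw [map_one, ← hφdef]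
      ext x : 1
      rw [hx, h, mul_one]
      rfl
  · exact ((Algebra.TensorProduct.congr (AlgEquiv.refl : A ≃ₐ[R] A) Φ₂.symm).trans
      ((Algebra.TensorProduct.assoc R R R A Z B).symm.trans
        ((Algebra.TensorProduct.congr Φ₁ AlgEquiv.refl).trans
          (Algebra.TensorProduct.comm R _ _))))

end Groth.Agent.Lib.Helper15.BrauerIdem
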