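import Mathlib
import Groth.Prelude.Def_FlatCA
import Groth.Agent.Lib.Helper22.FibreDim
import Groth.Agent.Lib.Helper25.SupportBaseChange

/-!
# Base change of one-step dévissages: the dimension of the support of the fibre module
-/

set_option autoImplicit false
universe u

namespace Groth.Agent.Lib.Helper15.OSD

open TensorProduct

attribute [local instance] Algebra.TensorProduct.rightAlgebra

section Supp

theorem support_baseChange_eq_zeroLocus {S A : Type u} [CommRing S] [CommRing A] [Algebra S A]
    (N : Type u) [AddCommGroup N] [Module S N] [Module.Finite S N]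
    (J : Ideal S) (hJ : Module.support S N = PrimeSpectrum.zeroLocus (J : Set S)) :
    Module.support A (A ⊗[S] N) =
      PrimeSpectrum.zeroLocus ((J.map (algebraMap S A) : Ideal A) : Set A) := by
  ext u
  rw [Groth.Agent.Lib.Helper25.SupportBaseChange.mem_support_baseChange_iff, hJ,
    PrimeSpectrum.mem_zeroLocus, PrimeSpectrum.mem_zeroLocus, SetLike.coe_subset_coe,
    SetLike.coe_subset_coe, Ideal.map_le_iff_le_comap]
  rfl

theorem supportDim_baseChange {S A : Type u} [CommRing S] [CommRing A] [Algebra S A]
    (N : Type u) [AddCommGroup N] [Module S N] [Module.Finite S N]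
    (J : Ideal S) (hJ : Module.support S N = PrimeSpectrum.zeroLocus (J : Set S)) :
    Module.supportDim A (A ⊗[S] N) = ringKrullDim (A ⧸ J.map (algebraMap S A)) := by
  rw [Module.supportDim, support_baseChange_eq_zeroLocus N J hJ, ringKrullDim_quotient]

theorem supportDim_fiberMod {R S : Type u} [CommRing R] [CommRing S] [Algebra R S] (p : Ideal R)
    [p.IsPrime] (N : Type u) [AddCommGroup N] [Module S N] [Module R N] [IsScalarTower R S N]
    [Module.Finite S N] (J : Ideal S)
    (hJ : Module.support S N = PrimeSpectrum.zeroLocus (J : Set S)) :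
    Module.supportDim (p.Fiber S) (FlatCA.fiberMod p S N) =
      ringKrullDim (p.ResidueField ⊗[R] (S ⧸ J)) := by
  have h1 := supportDim_baseChange (A := p.Fiber S) N J hJ
  change Module.supportDim (p.Fiber S) ((p.Fiber S) ⊗[S] N) = _
  rw [h1]
  exact (ringKrullDim_eq_of_ringEquiv (Algebra.TensorProduct.tensorQuotientEquiv (R := R)
    p.ResidueField S p.ResidueField J).toRingEquiv).symm

end Supp

section FieldExt

theorem ringKrullDim_tensor_fieldExt {R : Type u} [CommRing R] (k k' : Type u) [Field k]
    [Field k'] [Algebra R k] [Algebra R k'] [Algebra k k'] [IsScalarTower R k k'] (T : Type u)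
    [CommRing T] [Algebra R T] [Algebra.FiniteType R T] :
    ringKrullDim (k' ⊗[R] T) = ringKrullDim (k ⊗[R] T) := by
  have e : k' ⊗[k] (k ⊗[R] T) ≃ₐ[k'] k' ⊗[R] T :=
    Algebra.TensorProduct.cancelBaseChange R k k' k' T
  rw [← ringKrullDim_eq_of_ringEquiv e.toRingEquiv]
  exact Groth.Agent.Lib.Helper22.ringKrullDim_tensor_field k k' (k ⊗[R] T)

theorem ringKrullDim_fiber_eq {R R' : Type u} [CommRing R] [CommRing R'] [Algebra R R']
    (k k' : Type u) [Field k] [Field k'] [Algebra R k] [Algebra R' k'] [Algebra R k']
    [IsScalarTower R R' k'] [Algebra k k'] [IsScalarTower R k k'] (T : Type u)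
    [CommRing T] [Algebra R T] [Algebra.FiniteType R T] :
    ringKrullDim (k' ⊗[R'] (R' ⊗[R] T)) = ringKrullDim (k ⊗[R] T) := by
  have e : k' ⊗[R'] (R' ⊗[R] T) ≃ₐ[k'] k' ⊗[R] T :=
    Algebra.TensorProduct.cancelBaseChange R R' k' k' T
  rw [ringKrullDim_eq_of_ringEquiv e.toRingEquiv]
  exact ringKrullDim_tensor_fieldExt k k' T

end FieldExt

section Main

variable (R S : Type u) [CommRing R] [CommRing S] [Algebra R S] [Algebra.FiniteType R S]
  (R' S' : Type u) [CommRing R'] [Algebra R R'] [CommRing S'] [Algebra R' S'] [Algebra R S']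
  [Algebra S S'] [IsScalarTower R R' S'] [IsScalarTower R S S'] [Algebra.IsPushout R R' S S']

/-- The quotient of the pushout by an extended ideal is the pushout of the quotient. -/
noncomputable def quotEquiv (J : Ideal S) :
    R' ⊗[R] (S ⧸ J) ≃ₐ[R'] S' ⧸ J.map (algebraMap S S') :=
  (Algebra.TensorProduct.tensorQuotientEquiv (R := R) R' S R' J).trans
    (Ideal.quotientEquivAlg _ _ (Algebra.IsPushout.equiv R R' S S') (by
      have key : ∀ s : S, (Algebra.IsPushout.equiv R R' S S')
          (Algebra.TensorProduct.includeRight (R := R) (A := R') s) = algebraMap S S' s := by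
        intro s
        simp [Algebra.IsPushout.equiv_tmul]
      apply le_antisymm
      · rw [Ideal.map_le_iff_le_comap]
        intro s hs
        rw [Ideal.mem_comap, ← key]
        exact Ideal.mem_map_of_mem _ (Ideal.mem_map_of_mem _ hs)
      · rw [Ideal.map_le_iff_le_comap, Ideal.map_le_iff_le_comap]
        intro s hs
        rw [Ideal.mem_comap, Ideal.mem_comap]
        have := key s
        erw [this]
        exact Ideal.mem_map_of_mem _ hs))

variable {R S R' S'}

theorem supportDim_fiberMod_baseChange
    (N : Type u) [AddCommGroup N] [Module S N] [Module R N] [IsScalarTower R S N]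
    [Module.Finite S N] (p : Ideal R) [p.IsPrime] (p' : Ideal R') [p'.IsPrime] [hpp : p'.LiesOver p]
    (N' : Type u) [AddCommGroup N'] [Module S' N'] [Module R' N'] [IsScalarTower R' S' N']
    [Module S N'] [IsScalarTower S S' N'] (f : N →ₗ[S] N') (hf : IsBaseChange S' f) :
    Module.supportDim (p'.Fiber S') (FlatCA.fiberMod p' S' N') =
      Module.supportDim (p.Fiber S) (FlatCA.fiberMod p S N) := by
  set J := Module.annihilator S N with hJdef
  have hJ : Module.support S N = PrimeSpectrum.zeroLocus (J : Set S) :=
    Module.support_eq_zeroLocus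
  set J' := J.map (algebraMap S S') with hJ'def
  haveI : Module.Finite S' N' := Module.Finite.equiv hf.equiv
  have hJ' : Module.support S' N' = PrimeSpectrum.zeroLocus (J' : Set S') := by
    rw [← LinearEquiv.support_eq hf.equiv]
    exact support_baseChange_eq_zeroLocus N J hJ
  rw [supportDim_fiberMod p N J hJ, supportDim_fiberMod p' N' J' hJ']
  haveI : IsScalarTower R R' p'.ResidueField := inferInstance
  letI : Algebra p.ResidueField p'.ResidueField :=
    (Ideal.ResidueField.mapₐ p p' (Algebra.ofId R R') hpp.over).toRingHom.toAlgebra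
  haveI : IsScalarTower R p.ResidueField p'.ResidueField := by
    refine IsScalarTower.of_algebraMap_eq (fun x => ?_)
    rw [IsScalarTower.algebraMap_apply R R' p'.ResidueField]
    change algebraMap R' p'.ResidueField (algebraMap R R' x) =
      Ideal.ResidueField.mapₐ p p' (Algebra.ofId R R') hpp.over (algebraMap R p.ResidueField x)
    rw [Ideal.ResidueField.mapₐ_apply, Ideal.ResidueField.map_algebraMap]
    rfl
  let e₁ := quotEquiv R S R' S' J
  let e₂ : p'.ResidueField ⊗[R'] (S' ⧸ J') ≃ₐ[p'.ResidueField]
      p'.ResidueField ⊗[R'] (R' ⊗[R] (S ⧸ J)) :=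
    Algebra.TensorProduct.congr AlgEquiv.refl e₁.symm
  have h2 : ringKrullDim (p'.ResidueField ⊗[R'] (S' ⧸ J')) =
      ringKrullDim (p'.ResidueField ⊗[R'] (R' ⊗[R] (S ⧸ J))) :=
    ringKrullDim_eq_of_ringEquiv e₂.toRingEquiv
  rw [h2]
  exact ringKrullDim_fiber_eq p.ResidueField p'.ResidueField (S ⧸ J)

end Main

end Groth.Agent.Lib.Helper15.OSD
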