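import Mathlib
import Groth.Prelude.Def_FlatCA
import Groth.Agent.Lib.Helper15.OSD1

/-!
# Base change of one-step dévissages
-/

set_option autoImplicit false
universe u

namespace Groth.Agent.Lib.Helper15.OSD

open TensorProduct

section Scheme

open AlgebraicGeometry CategoryTheory

variable {R R' D D' : Type u} [CommRing R] [CommRing R'] [CommRing D] [CommRing D']
  [Algebra R R'] [Algebra R D] [Algebra R' D'] [Algebra D D'] [Algebra R D']
  [IsScalarTower R R' D'] [IsScalarTower R D D'] [Algebra.IsPushout R R' D D']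

theorem isPullback_Spec :
    IsPullback (Spec.map (CommRingCat.ofHom (algebraMap D D')))
      (Spec.map (CommRingCat.ofHom (algebraMap R' D')))
      (Spec.map (CommRingCat.ofHom (algebraMap R D)))
      (Spec.map (CommRingCat.ofHom (algebraMap R R'))) :=
  (isPullback_SpecMap_of_isPushout _ _ _ _ (CommRingCat.isPushout_of_isPushout R R' D D')).flip

theorem smoothRelDim_baseChange (n : ℕ) (h : FlatCA.SmoothRelDim n R D) :
    FlatCA.SmoothRelDim n R' D' :=
  haveI := smoothOfRelativeDimension_isStableUnderBaseChange n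
  MorphismProperty.of_isPullback (P := @SmoothOfRelativeDimension n)
    (isPullback_Spec (R := R) (R' := R') (D := D) (D' := D')) h

theorem geomIrredFibres_baseChange (h : FlatCA.GeomIrredFibres R D) :
    FlatCA.GeomIrredFibres R' D' :=
  MorphismProperty.of_isPullback (P := @GeometricallyIrreducible)
    (isPullback_Spec (R := R) (R' := R') (D := D) (D' := D')) h

end Scheme

section Main

theorem main12231
    (R S : Type u) [CommRing R] [CommRing S] [Algebra R S] [Algebra.FiniteType R S]
    (N : Type u) [AddCommGroup N] [Module S N] [Module R N] [IsScalarTower R S N] [Module.Finite S N]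
    (p : Ideal R) [p.IsPrime]
    (C D G : Type u) [CommRing C] [CommRing D] [Algebra S C] [Algebra R C] [IsScalarTower R S C]
    [Algebra R D] [Algebra D C] [IsScalarTower R D C] [AddCommGroup G] [Module C G] [Module S G]
    [IsScalarTower S C G] (n : ℕ)
    (h : FlatCA.IsOneStepDevissage R S N p C D G n)
    (R' : Type u) [CommRing R'] [Algebra R R'] (p' : Ideal R') [p'.IsPrime] [p'.LiesOver p]
    (S' C' D' : Type u) [CommRing S'] [CommRing C'] [CommRing D']
    [Algebra R' S'] [Algebra R S'] [Algebra S S'] [IsScalarTower R R' S'] [IsScalarTower R S S']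
    [Algebra.IsPushout R R' S S']
    [Algebra R' C'] [Algebra R C'] [Algebra C C'] [IsScalarTower R R' C'] [IsScalarTower R C C']
    [Algebra.IsPushout R R' C C']
    [Algebra R' D'] [Algebra R D'] [Algebra D D'] [IsScalarTower R R' D'] [IsScalarTower R D D']
    [Algebra.IsPushout R R' D D']
    [Algebra S' C'] [IsScalarTower R' S' C'] [Algebra S C'] [IsScalarTower S S' C'] [IsScalarTower S C C']
    [Algebra D' C'] [IsScalarTower R' D' C'] [Algebra D C'] [IsScalarTower D D' C'] [IsScalarTower D C C']
    (N' : Type u) [AddCommGroup N'] [Module S' N'] [Module R' N'] [IsScalarTower R' S' N']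
    [Module S N'] [IsScalarTower S S' N'] (f : N →ₗ[S] N') (hf : IsBaseChange S' f)
    (G' : Type u) [AddCommGroup G'] [Module C' G'] [Module S' G'] [IsScalarTower S' C' G']
    [Module C G'] [IsScalarTower C C' G'] (g : G →ₗ[C] G') (hg : IsBaseChange C' g) :
    FlatCA.IsOneStepDevissage R' S' N' p' C' D' G' n := by
  obtain ⟨⟨e⟩, hsurj, hfp, hfinDC, hfinCG, hsm, hgi, hdim⟩ := h
  haveI hpoS : Algebra.IsPushout R S R' S' := Algebra.IsPushout.symm inferInstance
  haveI hpoD : Algebra.IsPushout R D R' D' := Algebra.IsPushout.symm inferInstance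
  have hpoC : Algebra.IsPushout R C R' C' := Algebra.IsPushout.symm inferInstance
  haveI : IsScalarTower R S' C' := .of_algebraMap_eq (fun x => by
    rw [IsScalarTower.algebraMap_apply R R' C', IsScalarTower.algebraMap_apply R' S' C',
      ← IsScalarTower.algebraMap_apply R R' S'])
  haveI : IsScalarTower R D' C' := .of_algebraMap_eq (fun x => by
    rw [IsScalarTower.algebraMap_apply R R' C', IsScalarTower.algebraMap_apply R' D' C',
      ← IsScalarTower.algebraMap_apply R R' D'])
  have hSC : Algebra.IsPushout S C S' C' :=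
    (Algebra.IsPushout.comp_iff R S R' S' (T := C) (T' := C')).mp hpoC
  haveI hSC' : Algebra.IsPushout S S' C C' := hSC.symm
  have hDC : Algebra.IsPushout D C D' C' :=
    (Algebra.IsPushout.comp_iff R D R' D' (T := C) (T' := C')).mp hpoC
  haveI hDC' : Algebra.IsPushout D D' C C' := hDC.symm
  haveI := hfp
  haveI := hfinDC
  haveI := hfinCG
  refine ⟨?_, ?_, ?_, ?_, ?_, ?_, ?_, ?_⟩
  · -- N' ≃ G'
    let e₁ : S' ⊗[S] N ≃ₗ[S'] N' := hf.equiv
    let eN : S' ⊗[S] N ≃ₗ[S'] S' ⊗[S] G :=
      TensorProduct.AlgebraTensorModule.congr (LinearEquiv.refl S' S') e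
    let e₂ : C' ⊗[C] G ≃ₗ[S'] S' ⊗[S] G := Algebra.IsPushout.cancelBaseChange S S' C C' G
    let e₃ : C' ⊗[C] G ≃ₗ[C'] G' := hg.equiv
    exact ⟨e₁.symm ≪≫ₗ eN ≪≫ₗ e₂.symm ≪≫ₗ (e₃.restrictScalars S')⟩
  · -- surjective
    intro c'
    obtain ⟨t, rfl⟩ := (Algebra.IsPushout.equiv S S' C C').surjective c'
    induction t using TensorProduct.induction_on with
    | zero => exact ⟨0, by simp⟩
    | tmul s' c =>
      obtain ⟨s, rfl⟩ := hsurj c
      refine ⟨s' * algebraMap S S' s, ?_⟩
      rw [Algebra.IsPushout.equiv_tmul, map_mul, ← IsScalarTower.algebraMap_apply S S' C',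
        IsScalarTower.algebraMap_apply S C C']
    | add x y hx hy =>
      obtain ⟨a, ha⟩ := hx
      obtain ⟨b, hb⟩ := hy
      exact ⟨a + b, by rw [map_add, map_add, ha, hb]⟩
  · exact Algebra.FinitePresentation.equiv (Algebra.IsPushout.equiv S S' C C')
  · exact Module.Finite.equiv (Algebra.IsPushout.equiv D D' C C').toLinearEquiv
  · exact Module.Finite.equiv hg.equiv
  · exact smoothRelDim_baseChange n hsm
  · exact geomIrredFibres_baseChange hgi
  · rw [supportDim_fiberMod_baseChange N p p' N' f hf]
    exact hdim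

end Main

end Groth.Agent.Lib.Helper15.OSD
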