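import Mathlib
import Groth.Prelude.Def_FlatCA
import Groth.Agent.Lib.Helper15.OSD2
import Groth.Agent.Lib.Helper25.SmoothFibreComp

/-!
# One-step dévissage: the fibre of the smooth algebra
-/

set_option autoImplicit false
universe u

namespace Groth.Agent.Lib.Helper15.OSD

open TensorProduct

attribute [local instance] Algebra.TensorProduct.rightAlgebra

section SchemePart

open AlgebraicGeometry CategoryTheory

variable {R D : Type u} [CommRing R] [CommRing D] [Algebra R D] (p : Ideal R) [p.IsPrime]

theorem fiber_irreducibleSpace (hgi : FlatCA.GeomIrredFibres R D) :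
    IrreducibleSpace (PrimeSpectrum (p.Fiber D)) := by
  have hgi' : FlatCA.GeomIrredFibres p.ResidueField (p.Fiber D) :=
    geomIrredFibres_baseChange (R := R) (R' := p.ResidueField) (D := D) (D' := p.Fiber D) hgi
  let g := Spec.map (CommRingCat.ofHom (algebraMap p.ResidueField (p.Fiber D)))
  haveI : GeometricallyIrreducible g := hgi'
  haveI : Subsingleton ↥(Spec (CommRingCat.of p.ResidueField)) :=
    inferInstanceAs (Subsingleton (PrimeSpectrum p.ResidueField))
  haveI : Nonempty ↥(Spec (CommRingCat.of p.ResidueField)) :=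
    inferInstanceAs (Nonempty (PrimeSpectrum p.ResidueField))
  exact GeometricallyIrreducible.irreducibleSpace_of_subsingleton (f := g)

theorem fiber_ringKrullDim (n : ℕ) (hsm : FlatCA.SmoothRelDim n R D)
    (hgi : FlatCA.GeomIrredFibres R D) :
    ringKrullDim (p.Fiber D) = n := by
  have hsm' : FlatCA.SmoothRelDim n p.ResidueField (p.Fiber D) :=
    smoothRelDim_baseChange (R := R) (R' := p.ResidueField) (D := D) (D' := p.Fiber D) n hsm
  let g := Spec.map (CommRingCat.ofHom (algebraMap p.ResidueField (p.Fiber D)))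
  haveI : SmoothOfRelativeDimension n g := hsm'
  haveI : IrreducibleSpace ↥(Spec (CommRingCat.of (p.Fiber D))) := fiber_irreducibleSpace p hgi
  have hcomp : (Set.univ : Set ↥(Spec (CommRingCat.of (p.Fiber D)))) ∈
      irreducibleComponents ↥(Spec (CommRingCat.of (p.Fiber D))) := by
    rw [irreducibleComponents_eq_singleton]
    exact Set.mem_singleton _
  have h := Groth.Agent.Lib.Helper25.SmoothFibreComp.topologicalKrullDim_irreducibleComponent
    g n Set.univ hcomp
  rw [← PrimeSpectrum.topologicalKrullDim_eq_ringKrullDim, ← h]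
  exact (IsHomeomorph.topologicalKrullDim_eq _
    (Homeomorph.Set.univ (PrimeSpectrum (p.Fiber D))).isHomeomorph).symm

end SchemePart

section DimDrop

variable {R D : Type u} [CommRing R] [CommRing D] [Algebra R D] (p : Ideal R) [p.IsPrime]

theorem map_le_comap (Q : Ideal (p.Fiber D)) :
    p.map (algebraMap R D) ≤ Q.comap (algebraMap D (p.Fiber D)) := by
  rw [Ideal.map_le_iff_le_comap]
  intro x hx
  rw [Ideal.mem_comap, Ideal.mem_comap, ← IsScalarTower.algebraMap_apply R D (p.Fiber D),
    IsScalarTower.algebraMap_apply R p.ResidueField (p.Fiber D),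
    (Ideal.algebraMap_residueField_eq_zero (I := p)).mpr hx, map_zero]
  exact Q.zero_mem

theorem map_liesOver_of_nontrivial [(p.map (algebraMap R D)).IsPrime] [Nontrivial (p.Fiber D)] :
    (p.map (algebraMap R D)).LiesOver p := by
  obtain ⟨Q⟩ : Nonempty (PrimeSpectrum (p.Fiber D)) := inferInstance
  let Q' := (PrimeSpectrum.primesOverOrderIsoFiber R D p).symm Q
  have hQ'prime : Q'.1.IsPrime := Q'.2.1
  have hQ'over : Q'.1.LiesOver p := Q'.2.2
  have hQ'eq : Q'.1 = Q.asIdeal.comap (algebraMap D (p.Fiber D)) :=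
    PrimeSpectrum.coe_primesOverOrderIsoFiber_symm_apply p Q
  have h1 : p.map (algebraMap R D) ≤ Q'.1 := by
    rw [hQ'eq]
    exact map_le_comap p Q.asIdeal
  constructor
  apply le_antisymm
  · exact Ideal.le_comap_map
  · calc (p.map (algebraMap R D)).under R ≤ Q'.1.under R := Ideal.comap_mono h1
      _ = p := hQ'over.over.symm

theorem exists_least_prime [hP : (p.map (algebraMap R D)).IsPrime] [Nontrivial (p.Fiber D)] :
    ∃ η : PrimeSpectrum (p.Fiber D),
      η.asIdeal.comap (algebraMap D (p.Fiber D)) = p.map (algebraMap R D) ∧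
      ∀ Q : PrimeSpectrum (p.Fiber D), η ≤ Q := by
  have hlo := map_liesOver_of_nontrivial (D := D) p
  let P0 : p.primesOver D := ⟨p.map (algebraMap R D), ⟨hP, hlo⟩⟩
  let η := PrimeSpectrum.primesOverOrderIsoFiber R D p P0
  have hη : η.asIdeal.comap (algebraMap D (p.Fiber D)) = p.map (algebraMap R D) := by
    have h1 := PrimeSpectrum.coe_primesOverOrderIsoFiber_symm_apply p η
    rw [OrderIso.symm_apply_apply] at h1
    exact h1.symm
  refine ⟨η, hη, fun Q => ?_⟩
  rw [← (PrimeSpectrum.primesOverOrderIsoFiber R D p).symm.le_iff_le]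
  rw [OrderIso.symm_apply_apply]
  change p.map (algebraMap R D) ≤ ((PrimeSpectrum.primesOverOrderIsoFiber R D p).symm Q).1
  rw [PrimeSpectrum.coe_primesOverOrderIsoFiber_symm_apply p Q]
  exact map_le_comap p Q.asIdeal

theorem lt_of_add_one_le {a : WithBot ℕ∞} {n : ℕ} (h : a + 1 ≤ (n : WithBot ℕ∞)) :
    a < (n : WithBot ℕ∞) := by
  induction a using WithBot.recBotCoe with
  | bot => exact WithBot.bot_lt_coe _
  | coe a =>
    have h' : a + 1 ≤ (n : ℕ∞) := by exact_mod_cast h
    have hne : a ≠ ⊤ := by
      rintro rfl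
      simp at h'
    have := (ENat.add_one_le_iff hne).mp h'
    exact_mod_cast this

theorem supportDim_fiberMod_lt (n : ℕ) (hdim : ringKrullDim (p.Fiber D) = n)
    [(p.map (algebraMap R D)).IsPrime]
    (X : Type u) [AddCommGroup X] [Module D X] [Module R X] [IsScalarTower R D X]
    [Module.Finite D X]
    (hX : Subsingleton ((p.map (algebraMap R D)).ResidueField ⊗[D] X)) :
    Module.supportDim (p.Fiber D) (FlatCA.fiberMod p D X) < (n : WithBot ℕ∞) := by
  haveI : Nontrivial (p.Fiber D) := by
    by_contra hc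
    rw [not_nontrivial_iff_subsingleton] at hc
    rw [ringKrullDim_eq_bot_of_subsingleton] at hdim
    exact WithBot.bot_ne_coe hdim
  obtain ⟨η, hη, hle⟩ := exists_least_prime (D := D) p
  change Module.supportDim (p.Fiber D) ((p.Fiber D) ⊗[D] X) < _
  have key : ∀ (I : PrimeSpectrum D), I.asIdeal = p.map (algebraMap R D) →
      I ∉ Module.support D X := by
    rintro ⟨I, hI⟩ h
    simp only at h
    subst h
    rw [Module.mem_support_iff_nontrivial_residueField_tensorProduct]
    exact not_nontrivial_iff_subsingleton.mpr hX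
  have hηS : η ∉ Module.support (p.Fiber D) ((p.Fiber D) ⊗[D] X) := by
    rw [Groth.Agent.Lib.Helper25.SupportBaseChange.mem_support_baseChange_iff]
    exact key _ hη
  rw [Module.supportDim]
  by_cases hne : Nonempty (Module.support (p.Fiber D) ((p.Fiber D) ⊗[D] X))
  · apply lt_of_add_one_le
    rw [← Order.krullDim_withBot, ← hdim, ringKrullDim]
    let φ : WithBot (Module.support (p.Fiber D) ((p.Fiber D) ⊗[D] X)) →
        PrimeSpectrum (p.Fiber D) := fun x => WithBot.recBotCoe η (fun q => q.1) x
    refine Order.krullDim_le_of_strictMono φ ?_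
    rw [WithBot.strictMono_iff]
    refine ⟨fun a b hab => hab, fun x => ?_⟩
    refine lt_of_le_of_ne (hle x.1) ?_
    intro heq
    apply hηS
    have : η = x.1 := heq
    rw [this]
    exact x.2
  · rw [not_nonempty_iff] at hne
    rw [Order.krullDim_eq_bot]
    exact WithBot.bot_lt_coe _

end DimDrop

end Groth.Agent.Lib.Helper15.OSD
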