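import Mathlib

/-! A smooth algebra over a ring is reduced modulo any ideal with reduced quotient. -/

set_option autoImplicit false
set_option linter.style.haveILetI false

namespace Groth.Agent.Lib.Helper15.SmoothReduced

open Polynomial TensorProduct

universe u v

section Poly

/-- over a domain, a polynomial killed by a monic polynomial (under composition) is constant -/
lemma natDegree_eq_zero_of_comp_eq_zero {D : Type*} [CommRing D] [IsDomain D] (f q : D[X])
    (hf : f.Monic) (h : f.comp q = 0) : q.natDegree = 0 := by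
  have h1 := Polynomial.natDegree_comp (p := f) (q := q)
  rw [h, natDegree_zero] at h1
  rcases Nat.eq_zero_or_pos q.natDegree with h0 | hpos
  · exact h0
  · exfalso
    have hf0 : f.natDegree = 0 := by
      rcases Nat.eq_zero_or_pos f.natDegree with h2 | h2
      · exact h2
      · exact absurd h1.symm (Nat.mul_pos h2 hpos).ne'
    have hf1 : f = 1 := (Polynomial.Monic.natDegree_eq_zero hf).mp hf0
    rw [hf1, one_comp] at h
    exact one_ne_zero h

/-- over a reduced ring, a polynomial killed by a monic polynomial is constant -/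
lemma coeff_eq_zero_of_comp_eq_zero {A : Type*} [CommRing A] [IsReduced A] (f q : A[X])
    (hf : f.Monic) (h : f.comp q = 0) (i : ℕ) (hi : 1 ≤ i) : q.coeff i = 0 := by
  have hmem : q.coeff i ∈ nilradical A := by
    rw [nilradical_eq_sInf, Ideal.mem_sInf]
    intro p hp
    haveI : p.IsPrime := hp
    have h2 : (f.map (Ideal.Quotient.mk p)).comp (q.map (Ideal.Quotient.mk p)) = 0 := by
      rw [← Polynomial.map_comp, h, Polynomial.map_zero]
    have h3 := natDegree_eq_zero_of_comp_eq_zero _ _ (hf.map (Ideal.Quotient.mk p)) h2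
    have h4 : (q.map (Ideal.Quotient.mk p)).coeff i = 0 :=
      coeff_eq_zero_of_natDegree_lt (by omega)
    rw [coeff_map] at h4
    exact Ideal.Quotient.eq_zero_iff_mem.mp h4
  rw [nilradical_eq_zero] at hmem
  exact hmem

lemma coeff_eq_zero_of_isIntegral {A : Type*} [CommRing A] [IsReduced A] (q : A[X])
    (hq : IsIntegral A q) (i : ℕ) (hi : 1 ≤ i) : q.coeff i = 0 := by
  obtain ⟨f, hf, h⟩ := hq
  refine coeff_eq_zero_of_comp_eq_zero f q hf ?_ i hi
  rw [Polynomial.comp]
  exact h

end Poly

section Main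
variable {R : Type u} {S : Type u} [CommRing R] [CommRing S] [Algebra R S]

/-- the key statement -/
theorem mem_map_of_mul_self_mem [Algebra.Smooth R S] (I : Ideal R) [IsReduced (R ⧸ I)] (x : S)
    (hx : x * x ∈ I.map (algebraMap R S)) : x ∈ I.map (algebraMap R S) := by
  let B := (R ⧸ I)[X]
  -- `s ⊗ b = 0` for `s ∈ I S`
  let K : Ideal S :=
    { carrier := {s | s ⊗ₜ[R] ((X : B) * X) = 0}
      add_mem' := fun {a b} ha hb => by
        show (a + b) ⊗ₜ[R] ((X : B) * X) = 0
        rw [TensorProduct.add_tmul, ha, hb, add_zero]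
      zero_mem' := TensorProduct.zero_tmul _ _
      smul_mem' := fun c s hs => by
        show (c * s) ⊗ₜ[R] ((X : B) * X) = 0
        have : (c * s) ⊗ₜ[R] ((X : B) * X) = (c ⊗ₜ[R] (1 : B)) * (s ⊗ₜ[R] ((X : B) * X)) := by
          rw [Algebra.TensorProduct.tmul_mul_tmul, one_mul]
        rw [this, hs, mul_zero] }
  have hK : I.map (algebraMap R S) ≤ K := by
    rw [Ideal.map_le_iff_le_comap]
    intro i hi
    show (algebraMap R S i) ⊗ₜ[R] ((X : B) * X) = 0
    rw [Algebra.algebraMap_eq_smul_one, TensorProduct.smul_tmul]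
    have : i • ((X : B) * X) = 0 := by
      rw [Algebra.smul_def]
      have : algebraMap R B i = 0 := by
        rw [IsScalarTower.algebraMap_apply R (R ⧸ I) B, Ideal.Quotient.algebraMap_eq,
          Ideal.Quotient.eq_zero_iff_mem.mpr hi, map_zero]
      rw [this, zero_mul]
    rw [this, TensorProduct.tmul_zero]
  set y : S ⊗[R] B := x ⊗ₜ[R] (X : B) with hy
  have hyy : y * y = 0 := by
    rw [hy, Algebra.TensorProduct.tmul_mul_tmul]
    exact hK hx
  have hyint : IsIntegral S y := by
    refine ⟨X ^ 2, monic_X_pow 2, ?_⟩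
    rw [eval₂_X_pow, pow_two, hyy]
  obtain ⟨z, hz⟩ := (TensorProduct.toIntegralClosure_bijective_of_smooth (R := R) (S := S)
    (B := B)).2 ⟨y, hyint⟩
  have hz' : (Algebra.TensorProduct.map (AlgHom.id S S) (integralClosure R B).val) z = y := by
    have := congrArg Subtype.val hz
    exact this
  -- the coefficient functional
  let c₁ : B →ₗ[R] (R ⧸ I) := (Polynomial.lcoeff (R ⧸ I) 1).restrictScalars R
  let φ : S ⊗[R] B →ₗ[R] S ⊗[R] (R ⧸ I) := LinearMap.lTensor S c₁
  have hφy : φ y = x ⊗ₜ[R] (1 : R ⧸ I) := by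
    simp only [φ, hy, LinearMap.lTensor_tmul, c₁, LinearMap.restrictScalars_apply]
    rw [Polynomial.lcoeff_apply, Polynomial.coeff_X_one]
  have hφz : ∀ w : S ⊗[R] integralClosure R B,
      φ ((Algebra.TensorProduct.map (AlgHom.id S S) (integralClosure R B).val) w) = 0 := by
    intro w
    induction w using TensorProduct.induction_on with
    | zero => simp
    | add a b ha hb => rw [map_add, map_add, ha, hb, add_zero]
    | tmul s b =>
      rw [Algebra.TensorProduct.map_tmul]
      simp only [φ, LinearMap.lTensor_tmul, c₁, LinearMap.restrictScalars_apply,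
        AlgHom.coe_id, id_eq, Subalgebra.coe_val]
      have hb : IsIntegral (R ⧸ I) (b : B) := b.2.tower_top
      rw [Polynomial.lcoeff_apply, coeff_eq_zero_of_isIntegral _ hb 1 le_rfl,
        TensorProduct.tmul_zero]
  have h0 : x ⊗ₜ[R] (1 : R ⧸ I) = 0 := by
    rw [← hφy, ← hz', hφz]
  have h1 := congrArg (TensorProduct.tensorQuotEquivQuotSMul S I) h0
  rw [map_zero, ← map_one (Ideal.Quotient.mk I), TensorProduct.tensorQuotEquivQuotSMul_tmul_mk,
    one_smul, Submodule.Quotient.mk_eq_zero, Ideal.smul_top_eq_map] at h1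
  exact h1

theorem isReduced_quotient_map [Algebra.Smooth R S] (I : Ideal R) [IsReduced (R ⧸ I)] :
    IsReduced (S ⧸ I.map (algebraMap R S)) := by
  rw [isReduced_iff_pow_one_lt 2 (by norm_num)]
  intro a ha
  obtain ⟨x, rfl⟩ := Ideal.Quotient.mk_surjective a
  rw [← map_pow, Ideal.Quotient.eq_zero_iff_mem, pow_two] at ha
  exact Ideal.Quotient.eq_zero_iff_mem.mpr (mem_map_of_mul_self_mem I x ha)

theorem isReduced_of_smooth [Algebra.Smooth R S] [IsReduced R] : IsReduced S := by
  haveI : IsReduced (R ⧸ (⊥ : Ideal R)) :=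
    isReduced_of_injective (RingEquiv.quotientBot R).toRingHom (RingEquiv.quotientBot R).injective
  rw [isReduced_iff_pow_one_lt 2 (by norm_num)]
  intro x hx
  have := mem_map_of_mul_self_mem (R := R) (S := S) ⊥ x (by rw [← pow_two, hx]; exact Ideal.zero_mem _)
  rw [Ideal.map_bot] at this
  exact this

end Main

end Groth.Agent.Lib.Helper15.SmoothReduced
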