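import Mathlib
import Groth.Prelude.Def_FlatCA
import Groth.Agent.Lib.Helper15.OSD3
import Groth.Agent.Lib.Helper15.SmoothReduced

/-!
# Base change of complete dévissages: primality of `p B` for smooth `B` with geometrically
irreducible fibres
-/

set_option autoImplicit false
universe u

namespace Groth.Agent.Lib.Helper15.CDB

open TensorProduct

attribute [local instance] Algebra.TensorProduct.rightAlgebra

section Prime

variable {R B : Type u} [CommRing R] [CommRing B] [Algebra R B] (p : Ideal R) [p.IsPrime]

/-- The kernel of `B → κ(p) ⊗ B` is `pB` when `B` is flat over `R`. -/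
theorem ker_algebraMap_fiber [Module.Flat R B] :
    RingHom.ker (algebraMap B (p.Fiber B)) = p.map (algebraMap R B) := by
  apply le_antisymm
  · intro x hx
    rw [RingHom.mem_ker] at hx
    have hx' : (1 : p.ResidueField) ⊗ₜ[R] x = 0 := by
      rw [← hx]; rfl
    let ι : (R ⧸ p) →ₗ[R] p.ResidueField := (Algebra.linearMap (R ⧸ p) p.ResidueField).restrictScalars R
    have hι : Function.Injective ι := by
      intro a b hab
      exact (FaithfulSMul.algebraMap_injective (R ⧸ p) p.ResidueField) hab
    have hinj := Module.Flat.rTensor_preserves_injective_linearMap (M := B) ι hι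
    have h1 : (ι.rTensor B) ((1 : R ⧸ p) ⊗ₜ[R] x) = 0 := by
      rw [LinearMap.rTensor_tmul]
      have : ι 1 = 1 := map_one (algebraMap (R ⧸ p) p.ResidueField)
      rw [this, hx']
    have h2 : (1 : R ⧸ p) ⊗ₜ[R] x = 0 := hinj (by rw [h1, map_zero])
    have h3 := congrArg (TensorProduct.quotTensorEquivQuotSMul B p) h2
    rw [TensorProduct.quotTensorEquivQuotSMul_mk_one_tmul, map_zero,
      Submodule.Quotient.mk_eq_zero, Ideal.smul_top_eq_map] at h3
    exact h3
  · rw [Ideal.map_le_iff_le_comap]
    intro r hr
    rw [Ideal.mem_comap, RingHom.mem_ker, ← IsScalarTower.algebraMap_apply R B (p.Fiber B),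
      IsScalarTower.algebraMap_apply R p.ResidueField (p.Fiber B),
      (Ideal.algebraMap_residueField_eq_zero (I := p)).mpr hr, map_zero]

/-- The fibre of a smooth algebra with geometrically irreducible fibres is a domain. -/
theorem isDomain_fiber [Algebra.Smooth R B] (hgi : FlatCA.GeomIrredFibres R B) :
    IsDomain (p.Fiber B) := by
  haveI : Algebra.Smooth p.ResidueField (p.Fiber B) :=
    inferInstanceAs (Algebra.Smooth p.ResidueField (p.ResidueField ⊗[R] B))
  haveI : IsReduced (p.Fiber B) :=
    Groth.Agent.Lib.Helper15.SmoothReduced.isReduced_of_smooth (R := p.ResidueField)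
  have hirr : IrreducibleSpace (PrimeSpectrum (p.Fiber B)) :=
    Groth.Agent.Lib.Helper15.OSD.fiber_irreducibleSpace p hgi
  rw [PrimeSpectrum.irreducibleSpace_iff_isPrime_nilradical, nilradical_eq_zero] at hirr
  have hirr' : (⊥ : Ideal (p.Fiber B)).IsPrime := hirr
  haveI : Nontrivial (p.Fiber B) := by
    refine ⟨⟨0, 1, fun h => hirr'.ne_top ?_⟩⟩
    rw [Ideal.eq_top_iff_one, Ideal.mem_bot]
    exact h.symm
  haveI : NoZeroDivisors (p.Fiber B) :=
    ⟨fun {a b} hab => by
      have := hirr'.mem_or_mem (show a * b ∈ (⊥ : Ideal (p.Fiber B)) from by rw [Ideal.mem_bot]; exact hab)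
      simpa [Ideal.mem_bot] using this⟩
  exact NoZeroDivisors.to_isDomain _

/-- `pB` is prime when `B` is smooth over `R` with geometrically irreducible fibres. -/
theorem map_isPrime_of_smooth [Algebra.Smooth R B] (hgi : FlatCA.GeomIrredFibres R B) :
    (p.map (algebraMap R B)).IsPrime := by
  haveI : IsDomain (p.Fiber B) := isDomain_fiber p hgi
  haveI : Module.Flat R B := inferInstance
  rw [← ker_algebraMap_fiber p]
  exact RingHom.ker_isPrime _

end Prime

section LiesOver

variable {R R' B B' : Type u} [CommRing R] [CommRing R'] [CommRing B] [CommRing B']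
  [Algebra R R'] [Algebra R B] [Algebra R' B'] [Algebra B B'] [Algebra R B']
  [IsScalarTower R R' B'] [IsScalarTower R B B'] [Algebra.IsPushout R R' B B']
  (p : Ideal R) [p.IsPrime] (p' : Ideal R') [p'.IsPrime] [p'.LiesOver p]

/-- `p'B'` lies over `pB` for the base change `B' = R' ⊗ B` of a flat `R`-algebra `B`. -/
theorem map_liesOver_map [Module.Flat R B] :
    (p'.map (algebraMap R' B')).LiesOver (p.map (algebraMap R B)) := by
  constructor
  apply le_antisymm
  · rw [Ideal.map_le_iff_le_comap]
    intro r hr
    rw [Ideal.mem_comap, Ideal.under, Ideal.mem_comap, ← IsScalarTower.algebraMap_apply R B B',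
      IsScalarTower.algebraMap_apply R R' B']
    apply Ideal.mem_map_of_mem
    have := Ideal.over_def p' p
    rw [this] at hr
    exact hr
  · intro b hb
    rw [Ideal.under, Ideal.mem_comap] at hb
    have hBC : IsBaseChange R' (IsScalarTower.toAlgHom R B B').toLinearMap :=
      Algebra.IsPushout.out
    have h1 : (1 : R' ⧸ p') ⊗ₜ[R'] (algebraMap B B' b) = 0 := by
      apply (TensorProduct.quotTensorEquivQuotSMul B' p').injective
      rw [TensorProduct.quotTensorEquivQuotSMul_mk_one_tmul, map_zero,
        Submodule.Quotient.mk_eq_zero, Ideal.smul_top_eq_map]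
      exact hb
    have h2 : (1 : R' ⧸ p') ⊗ₜ[R] b = 0 := by
      have := congrArg (hBC.tensorEquiv (R' ⧸ p')) h1
      rw [map_zero] at this
      rw [← this]
      simp only [IsBaseChange.tensorEquiv, LinearEquiv.trans_apply, LinearEquiv.lTensor_tmul]
      have h3 : hBC.equiv.symm (algebraMap B B' b) = 1 ⊗ₜ[R] b :=
        hBC.equiv_symm_apply b
      rw [h3, TensorProduct.AlgebraTensorModule.cancelBaseChange_tmul, one_smul]
    let j : (R ⧸ p) →ₗ[R] (R' ⧸ p') :=
      (Algebra.linearMap (R ⧸ p) (R' ⧸ p')).restrictScalars R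
    have hj : Function.Injective j := by
      intro a b hab
      exact (FaithfulSMul.algebraMap_injective (R ⧸ p) (R' ⧸ p')) hab
    have hinj := Module.Flat.rTensor_preserves_injective_linearMap (M := B) j hj
    have h4 : (j.rTensor B) ((1 : R ⧸ p) ⊗ₜ[R] b) = 0 := by
      rw [LinearMap.rTensor_tmul]
      have : j 1 = 1 := map_one (algebraMap (R ⧸ p) (R' ⧸ p'))
      rw [this, h2]
    have h5 : (1 : R ⧸ p) ⊗ₜ[R] b = 0 := hinj (by rw [h4, map_zero])
    have h6 := congrArg (TensorProduct.quotTensorEquivQuotSMul B p) h5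
    rw [TensorProduct.quotTensorEquivQuotSMul_mk_one_tmul, map_zero,
      Submodule.Quotient.mk_eq_zero, Ideal.smul_top_eq_map] at h6
    exact h6

end LiesOver

end Groth.Agent.Lib.Helper15.CDB
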