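import Mathlib
import Groth.Agent.Lib.Helper15.CDB1

/-!
# Base change of complete dévissages: generic base-change lemmas
-/

set_option autoImplicit false
universe u

namespace Groth.Agent.Lib.Helper15.CDB

open TensorProduct

section FibreBij

variable {B B' K K' : Type u} [CommRing B] [CommRing B'] [CommRing K] [CommRing K']
  [Algebra B B'] [Algebra B K] [Algebra K K'] [Algebra B' K'] [Algebra B K']
  [IsScalarTower B K K'] [IsScalarTower B B' K']
  {M₁ M₂ M₁' M₂' : Type u} [AddCommGroup M₁] [AddCommGroup M₂] [AddCommGroup M₁']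
  [AddCommGroup M₂']
  [Module B M₁] [Module B M₂] [Module B' M₁'] [Module B' M₂'] [Module B M₁'] [Module B M₂']
  [IsScalarTower B B' M₁'] [IsScalarTower B B' M₂']

theorem bijective_baseChange_of_comm
    (g₁ : M₁ →ₗ[B] M₁') (hg₁ : IsBaseChange B' g₁) (g₂ : M₂ →ₗ[B] M₂') (hg₂ : IsBaseChange B' g₂)
    (φ : M₁ →ₗ[B] M₂) (φ' : M₁' →ₗ[B'] M₂') (hφ : ∀ x, φ' (g₁ x) = g₂ (φ x))
    (h : Function.Bijective (φ.baseChange K)) :
    Function.Bijective (φ'.baseChange K') := by
  let τ₁ : M₁ →ₗ[B] K' ⊗[B'] M₁' := ((TensorProduct.mk B' K' M₁' 1).restrictScalars B).comp g₁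
  have hτ₁ : IsBaseChange K' τ₁ := IsBaseChange.comp hg₁ (TensorProduct.isBaseChange B' M₁' K')
  let τ₂ : M₂ →ₗ[B] K' ⊗[B'] M₂' := ((TensorProduct.mk B' K' M₂' 1).restrictScalars B).comp g₂
  have hτ₂ : IsBaseChange K' τ₂ := IsBaseChange.comp hg₂ (TensorProduct.isBaseChange B' M₂' K')
  let υ₁ : M₁ →ₗ[B] K' ⊗[K] (K ⊗[B] M₁) :=
    ((TensorProduct.mk K K' (K ⊗[B] M₁) 1).restrictScalars B).comp (TensorProduct.mk B K M₁ 1)
  have hυ₁ : IsBaseChange K' υ₁ :=
    IsBaseChange.comp (TensorProduct.isBaseChange B M₁ K) (TensorProduct.isBaseChange K (K ⊗[B] M₁) K')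
  let υ₂ : M₂ →ₗ[B] K' ⊗[K] (K ⊗[B] M₂) :=
    ((TensorProduct.mk K K' (K ⊗[B] M₂) 1).restrictScalars B).comp (TensorProduct.mk B K M₂ 1)
  have hυ₂ : IsBaseChange K' υ₂ :=
    IsBaseChange.comp (TensorProduct.isBaseChange B M₂ K) (TensorProduct.isBaseChange K (K ⊗[B] M₂) K')
  let ψ₁ : K' ⊗[K] (K ⊗[B] M₁) ≃ₗ[K'] K' ⊗[B'] M₁' := hυ₁.equiv.symm ≪≫ₗ hτ₁.equiv
  let ψ₂ : K' ⊗[K] (K ⊗[B] M₂) ≃ₗ[K'] K' ⊗[B'] M₂' := hυ₂.equiv.symm ≪≫ₗ hτ₂.equiv
  have hψ₁ : ∀ m, ψ₁ (υ₁ m) = τ₁ m := fun m => by
    simp only [ψ₁, LinearEquiv.trans_apply]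
    rw [hυ₁.equiv_symm_apply, hτ₁.equiv_tmul, one_smul]
  have hψ₂ : ∀ m, ψ₂ (υ₂ m) = τ₂ m := fun m => by
    simp only [ψ₂, LinearEquiv.trans_apply]
    rw [hυ₂.equiv_symm_apply, hτ₂.equiv_tmul, one_smul]
  have hcomm : (φ'.baseChange K').comp ψ₁.toLinearMap =
      ψ₂.toLinearMap.comp ((φ.baseChange K).baseChange K') := by
    apply hυ₁.algHom_ext'
    ext m
    simp only [LinearMap.comp_apply, LinearMap.restrictScalars_apply, LinearEquiv.coe_coe]
    rw [hψ₁]
    have e1 : τ₁ m = (1 : K') ⊗ₜ[B'] g₁ m := rfl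
    have e2 : υ₁ m = (1 : K') ⊗ₜ[K] ((1 : K) ⊗ₜ[B] m) := rfl
    rw [e1, e2, LinearMap.baseChange_tmul, LinearMap.baseChange_tmul, LinearMap.baseChange_tmul, hφ]
    exact (hψ₂ (φ m)).symm
  have hbij : Function.Bijective ((φ.baseChange K).baseChange K') := by
    let e := LinearEquiv.ofBijective (φ.baseChange K) h
    have : ((φ.baseChange K).baseChange K' : _ → _) = (e.lTensor K') := by
      rw [LinearMap.baseChange_eq_ltensor]
      rfl
    rw [this]
    exact (e.lTensor K').bijective
  have : (φ'.baseChange K' : _ → _) = ψ₂ ∘ ((φ.baseChange K).baseChange K') ∘ ψ₁.symm := by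
    funext x
    have := LinearMap.congr_fun hcomm (ψ₁.symm x)
    simp only [LinearMap.comp_apply, LinearEquiv.coe_coe, LinearEquiv.apply_symm_apply] at this
    simp only [Function.comp_apply]
    exact this
  rw [this]
  exact ψ₂.bijective.comp (hbij.comp ψ₁.symm.bijective)

end FibreBij

section Restrict

variable {B B' A A' : Type u} [CommRing B] [CommRing B'] [CommRing A] [CommRing A']
  [Algebra B B'] [Algebra B A] [Algebra B' A'] [Algebra A A'] [Algebra B A']
  [IsScalarTower B B' A'] [IsScalarTower B A A'] [Algebra.IsPushout B B' A A']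
  {M M' : Type u} [AddCommGroup M] [AddCommGroup M'] [Module A M] [Module B M]
  [IsScalarTower B A M]
  [Module A' M'] [Module A M'] [IsScalarTower A A' M'] [Module B' M'] [IsScalarTower B' A' M']
  [Module B M'] [IsScalarTower B B' M'] [IsScalarTower B A M']

/-- A base change along `A → A'` is a base change along `B → B'` when `A' = B' ⊗_B A`. -/
theorem isBaseChange_restrictScalars (g : M →ₗ[A] M') (hg : IsBaseChange A' g) :
    IsBaseChange B' (g.restrictScalars B) := by
  let e₂ : A' ⊗[A] M ≃ₗ[B'] B' ⊗[B] M := Algebra.IsPushout.cancelBaseChange B B' A A' M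
  let e₃ : A' ⊗[A] M ≃ₗ[A'] M' := hg.equiv
  refine IsBaseChange.of_equiv (e₂.symm ≪≫ₗ (e₃.restrictScalars B')) (fun x => ?_)
  simp only [LinearEquiv.trans_apply, e₂, Algebra.IsPushout.cancelBaseChange_symm_tmul, map_one,
    LinearEquiv.restrictScalars_apply, e₃, hg.equiv_tmul, one_smul, LinearMap.restrictScalars_apply]

end Restrict

section Coker

variable {B B' : Type u} [CommRing B] [CommRing B'] [Algebra B B']
  {F F' M M' P P' : Type u} [AddCommGroup F] [AddCommGroup F'] [AddCommGroup M] [AddCommGroup M']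
  [AddCommGroup P] [AddCommGroup P']
  [Module B F] [Module B M] [Module B P]
  [Module B' F'] [Module B' M'] [Module B' P'] [Module B F'] [Module B M'] [Module B P']
  [IsScalarTower B B' F'] [IsScalarTower B B' M'] [IsScalarTower B B' P']

/-- Cokernels commute with base change: an identification of `coker α` with `P` gives one of
`coker α'` with the base change `P'` of `P`. -/
theorem nonempty_cokerEquiv
    (gF : F →ₗ[B] F') (hgF : IsBaseChange B' gF) (g : M →ₗ[B] M') (hg : IsBaseChange B' g)
    (gP : P →ₗ[B] P') (hgP : IsBaseChange B' gP)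
    (α : F →ₗ[B] M) (α' : F' →ₗ[B'] M') (hα : ∀ x, α' (gF x) = g (α x))
    (e : (M ⧸ LinearMap.range α) ≃ₗ[B] P) :
    Nonempty ((M' ⧸ LinearMap.range α') ≃ₗ[B'] P') := by
  let h₃ : (M ⧸ LinearMap.range α) →ₗ[B] (M' ⧸ LinearMap.range α') :=
    Submodule.liftQ (LinearMap.range α)
      (((LinearMap.range α').mkQ.restrictScalars B).comp g) (by
        rintro _ ⟨x, rfl⟩
        rw [LinearMap.mem_ker, LinearMap.comp_apply, LinearMap.restrictScalars_apply,
          Submodule.mkQ_apply, Submodule.Quotient.mk_eq_zero, ← hα]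
        exact ⟨gF x, rfl⟩)
  have hbc : IsBaseChange B' h₃ := by
    refine IsBaseChange.of_right_exact (S := B') gF g h₃ (f := α) (g := (LinearMap.range α).mkQ)
      (f' := α') (g' := (LinearMap.range α').mkQ) ?_ ?_ hgF hg ?_ ?_ ?_ ?_
    · ext x
      simp only [LinearMap.comp_apply, LinearMap.restrictScalars_apply]
      exact (hα x).symm
    · ext x
      rfl
    · exact LinearMap.exact_map_mkQ_range α
    · exact Submodule.mkQ_surjective _
    · exact LinearMap.exact_map_mkQ_range α'
    · exact Submodule.mkQ_surjective _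
  have hbc2 : IsBaseChange B' (gP.comp e.toLinearMap) := IsBaseChange.comp_equiv e gP hgP
  exact ⟨hbc.equiv.symm ≪≫ₗ hbc2.equiv⟩

end Coker

section Span

variable {B B' : Type u} [CommRing B] [CommRing B'] [Algebra B B']
  {M M' : Type u} [AddCommGroup M] [AddCommGroup M'] [Module B M] [Module B' M'] [Module B M']
  [IsScalarTower B B' M']

theorem span_image_span (g : M →ₗ[B] M') (X : Set M) :
    Submodule.span B' (g '' (Submodule.span B X : Set M)) = Submodule.span B' (g '' X) := by
  apply le_antisymm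
  · rw [Submodule.span_le]
    rintro _ ⟨x, hx, rfl⟩
    have h1 : g x ∈ Submodule.map g (Submodule.span B X) := ⟨x, hx, rfl⟩
    rw [Submodule.map_span] at h1
    exact Submodule.span_le_restrictScalars B B' _ h1
  · exact Submodule.span_mono (Set.image_mono Submodule.subset_span)

/-- The range of the linear combination map of the images of the standard basis vectors is the
span of the image of the range. -/
theorem range_linearCombination_eq {r : ℕ} (g : M →ₗ[B] M') (α : (Fin r → B) →ₗ[B] M) :
    LinearMap.range (Fintype.linearCombination B' (fun j => g (α (Pi.single j 1)))) =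
      Submodule.span B' (g '' (LinearMap.range α : Set M)) := by
  rw [Fintype.range_linearCombination]
  have h1 : LinearMap.range α = Submodule.span B (Set.range fun j => α (Pi.single j 1)) := by
    have : α = Fintype.linearCombination B (fun j => α (Pi.single j (1 : B))) := by
      apply LinearMap.pi_ext'
      intro j
      ext
      simp [Fintype.linearCombination_apply_single]
    conv_lhs => rw [this]
    rw [Fintype.range_linearCombination]
  rw [h1, span_image_span]
  congr 1
  ext x
  simp only [Set.mem_range, Set.mem_image]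
  constructor
  · rintro ⟨j, rfl⟩
    exact ⟨_, ⟨j, rfl⟩, rfl⟩
  · rintro ⟨_, ⟨j, rfl⟩, rfl⟩
    exact ⟨j, rfl⟩

/-- compatibility of the linear combination map with the base change of the free module. -/
theorem linearCombination_compLeft {r : ℕ} (g : M →ₗ[B] M') (α : (Fin r → B) →ₗ[B] M)
    (x : Fin r → B) :
    Fintype.linearCombination B' (fun j => g (α (Pi.single j 1)))
      (((Algebra.linearMap B B').compLeft (Fin r)) x) = g (α x) := by
  rw [Fintype.linearCombination_apply]
  have hx : x = ∑ j, x j • (Pi.single j (1 : B) : Fin r → B) := by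
    ext k
    simp [Finset.sum_apply, Pi.single_apply]
  conv_rhs => rw [hx]
  rw [map_sum, map_sum]
  refine Finset.sum_congr rfl fun j _ => ?_
  rw [map_smul, map_smul]
  simp only [LinearMap.compLeft_apply, Function.comp_apply, Algebra.linearMap_apply,
    algebraMap_smul]

end Span

end Groth.Agent.Lib.Helper15.CDB
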