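import Mathlib
import Groth.Prelude.Def_FlatCA
import Groth.Agent.Lib.Helper15.CDB2

/-!
# Base change of complete dévissages: the rings, modules and maps
-/

set_option autoImplicit false
universe u

namespace Groth.Agent.Lib.Helper15.CDB

open TensorProduct

attribute [local instance] Algebra.TensorProduct.rightAlgebra

section IfRing

/-- `X` if `c` holds, `Y` otherwise (as a ring, without casts). -/
abbrev IfRing (c : Prop) (X Y : Type u) : Type u := (PLift c → X) × (PLift (¬ c) → Y)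

variable {c : Prop} {R' : Type u} [CommRing R'] {X Y Z : Type u} [CommRing X] [CommRing Y]
  [CommRing Z] [Algebra R' X] [Algebra R' Y] [Algebra R' Z]

noncomputable def IfRing.ofPos (h : c) : X ≃ₐ[R'] IfRing c X Y where
  toFun x := (fun _ => x, fun h' => absurd h h'.down)
  invFun b := b.1 ⟨h⟩
  left_inv _ := rfl
  right_inv _ := Prod.ext (funext fun _ => rfl) (funext fun h' => absurd h h'.down)
  map_mul' _ _ := Prod.ext (funext fun _ => rfl) (funext fun h' => absurd h h'.down)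
  map_add' _ _ := Prod.ext (funext fun _ => rfl) (funext fun h' => absurd h h'.down)
  commutes' _ := Prod.ext (funext fun _ => rfl) (funext fun h' => absurd h h'.down)

noncomputable def IfRing.ofNeg (h : ¬ c) : Y ≃ₐ[R'] IfRing c X Y where
  toFun y := (fun h' => absurd h'.down h, fun _ => y)
  invFun b := b.2 ⟨h⟩
  left_inv _ := rfl
  right_inv _ := Prod.ext (funext fun h' => absurd h'.down h) (funext fun _ => rfl)
  map_mul' _ _ := Prod.ext (funext fun h' => absurd h'.down h) (funext fun _ => rfl)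
  map_add' _ _ := Prod.ext (funext fun h' => absurd h'.down h) (funext fun _ => rfl)
  commutes' _ := Prod.ext (funext fun h' => absurd h'.down h) (funext fun _ => rfl)

open Classical in
noncomputable def IfRing.lift (φ : X →ₐ[R'] Z) (ψ : Y →ₐ[R'] Z) : IfRing c X Y →ₐ[R'] Z :=
  if h : c then φ.comp (IfRing.ofPos (Y := Y) h).symm.toAlgHom
  else ψ.comp (IfRing.ofNeg (X := X) h).symm.toAlgHom

theorem IfRing.lift_ofPos (φ : X →ₐ[R'] Z) (ψ : Y →ₐ[R'] Z) (h : c) (x : X) :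
    IfRing.lift φ ψ (IfRing.ofPos (R' := R') (Y := Y) h x) = φ x := by
  unfold IfRing.lift
  rw [dif_pos h]
  simp

theorem IfRing.lift_ofNeg (φ : X →ₐ[R'] Z) (ψ : Y →ₐ[R'] Z) (h : ¬ c) (y : Y) :
    IfRing.lift φ ψ (IfRing.ofNeg (R' := R') (X := X) h y) = ψ y := by
  unfold IfRing.lift
  rw [dif_neg h]
  simp

end IfRing

section Defs

variable {R S : Type u} [CommRing R] [CommRing S] [Algebra R S]
  {N : Type u} [AddCommGroup N] [Module S N] {p : Ideal R} [p.IsPrime]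
  (𝒟 : FlatCA.CompleteDevissage R S N p)
  (R' : Type u) [CommRing R'] [Algebra R R']

/-- the base-changed rings carrying the modules -/
def A' (i : ℕ) : Type u := R' ⊗[R] 𝒟.A i
/-- the base-changed smooth algebras (`R'` beyond the length) -/
def B' (i : ℕ) : Type u := IfRing (i < 𝒟.n) (R' ⊗[R] 𝒟.B i) R'
/-- the base-changed modules -/
def M' (i : ℕ) : Type u := (R' ⊗[R] 𝒟.A i) ⊗[𝒟.A i] 𝒟.M i

noncomputable instance (i : ℕ) : CommRing (A' 𝒟 R' i) :=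
  inferInstanceAs (CommRing (R' ⊗[R] 𝒟.A i))
noncomputable instance (i : ℕ) : Algebra R' (A' 𝒟 R' i) :=
  inferInstanceAs (Algebra R' (R' ⊗[R] 𝒟.A i))
noncomputable instance (i : ℕ) : Algebra R (A' 𝒟 R' i) :=
  inferInstanceAs (Algebra R (R' ⊗[R] 𝒟.A i))
noncomputable instance (i : ℕ) : Algebra (𝒟.A i) (A' 𝒟 R' i) :=
  inferInstanceAs (Algebra (𝒟.A i) (R' ⊗[R] 𝒟.A i))
instance (i : ℕ) : IsScalarTower R R' (A' 𝒟 R' i) :=
  inferInstanceAs (IsScalarTower R R' (R' ⊗[R] 𝒟.A i))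
instance (i : ℕ) : IsScalarTower R (𝒟.A i) (A' 𝒟 R' i) :=
  inferInstanceAs (IsScalarTower R (𝒟.A i) (R' ⊗[R] 𝒟.A i))
instance (i : ℕ) : Algebra.IsPushout R R' (𝒟.A i) (A' 𝒟 R' i) :=
  inferInstanceAs (Algebra.IsPushout R R' (𝒟.A i) (R' ⊗[R] 𝒟.A i))

noncomputable instance (i : ℕ) : CommRing (B' 𝒟 R' i) :=
  inferInstanceAs (CommRing (IfRing (i < 𝒟.n) (R' ⊗[R] 𝒟.B i) R'))
noncomputable instance (i : ℕ) : Algebra R' (B' 𝒟 R' i) :=
  inferInstanceAs (Algebra R' (IfRing (i < 𝒟.n) (R' ⊗[R] 𝒟.B i) R'))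
noncomputable instance (i : ℕ) : Algebra R (B' 𝒟 R' i) :=
  inferInstanceAs (Algebra R (IfRing (i < 𝒟.n) (R' ⊗[R] 𝒟.B i) R'))
instance (i : ℕ) : IsScalarTower R R' (B' 𝒟 R' i) :=
  inferInstanceAs (IsScalarTower R R' (IfRing (i < 𝒟.n) (R' ⊗[R] 𝒟.B i) R'))

noncomputable instance (i : ℕ) : AddCommGroup (M' 𝒟 R' i) :=
  inferInstanceAs (AddCommGroup ((R' ⊗[R] 𝒟.A i) ⊗[𝒟.A i] 𝒟.M i))
noncomputable instance (i : ℕ) : Module (A' 𝒟 R' i) (M' 𝒟 R' i) :=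
  inferInstanceAs (Module (R' ⊗[R] 𝒟.A i) ((R' ⊗[R] 𝒟.A i) ⊗[𝒟.A i] 𝒟.M i))
noncomputable instance (i : ℕ) : Module (𝒟.A i) (M' 𝒟 R' i) :=
  inferInstanceAs (Module (𝒟.A i) ((R' ⊗[R] 𝒟.A i) ⊗[𝒟.A i] 𝒟.M i))
instance (i : ℕ) : IsScalarTower (𝒟.A i) (A' 𝒟 R' i) (M' 𝒟 R' i) :=
  inferInstanceAs (IsScalarTower (𝒟.A i) (R' ⊗[R] 𝒟.A i) ((R' ⊗[R] 𝒟.A i) ⊗[𝒟.A i] 𝒟.M i))

/-- the base change map of the modules -/
noncomputable def gM (i : ℕ) : 𝒟.M i →ₗ[𝒟.A i] M' 𝒟 R' i :=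
  TensorProduct.mk (𝒟.A i) (R' ⊗[R] 𝒟.A i) (𝒟.M i) 1

theorem gM_isBaseChange (i : ℕ) : IsBaseChange (A' 𝒟 R' i) (gM 𝒟 R' i) :=
  TensorProduct.isBaseChange (𝒟.A i) (𝒟.M i) (R' ⊗[R] 𝒟.A i)

/-- the map `B'_i → A'_i` -/
noncomputable def toA' (i : ℕ) : B' 𝒟 R' i →ₐ[R'] A' 𝒟 R' i :=
  IfRing.lift (c := i < 𝒟.n) (X := R' ⊗[R] 𝒟.B i) (Y := R') (Z := R' ⊗[R] 𝒟.A i)
    (Algebra.TensorProduct.map (AlgHom.id R' R') (IsScalarTower.toAlgHom R (𝒟.B i) (𝒟.A i)))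
    (Algebra.ofId R' (R' ⊗[R] 𝒟.A i))

/-- the map `B'_i → A'_{i+1}` -/
noncomputable def toA'succ (i : ℕ) : B' 𝒟 R' i →ₐ[R'] A' 𝒟 R' (i + 1) :=
  IfRing.lift (c := i < 𝒟.n) (X := R' ⊗[R] 𝒟.B i) (Y := R') (Z := R' ⊗[R] 𝒟.A (i + 1))
    (Algebra.TensorProduct.map (AlgHom.id R' R')
      (IsScalarTower.toAlgHom R (𝒟.B i) (𝒟.A (i + 1))))
    (Algebra.ofId R' (R' ⊗[R] 𝒟.A (i + 1)))

noncomputable instance algB'A' (i : ℕ) : Algebra (B' 𝒟 R' i) (A' 𝒟 R' i) :=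
  (toA' 𝒟 R' i).toRingHom.toAlgebra

instance (i : ℕ) : IsScalarTower R' (B' 𝒟 R' i) (A' 𝒟 R' i) :=
  IsScalarTower.of_algebraMap_eq fun r => ((toA' 𝒟 R' i).commutes r).symm

noncomputable instance algB'A'succ (i : ℕ) : Algebra (B' 𝒟 R' i) (A' 𝒟 R' (i + 1)) :=
  (toA'succ 𝒟 R' i).toRingHom.toAlgebra

instance (i : ℕ) : IsScalarTower R' (B' 𝒟 R' i) (A' 𝒟 R' (i + 1)) :=
  IsScalarTower.of_algebraMap_eq fun r => ((toA'succ 𝒟 R' i).commutes r).symm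

end Defs

end Groth.Agent.Lib.Helper15.CDB
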