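import Mathlib
import Groth.Prelude.Def_FlatCA
import Groth.Agent.Lib.Helper15.CDB3

/-!
# Base change of complete dévissages: the structure at the indices below the length
-/

set_option autoImplicit false
universe u

namespace Groth.Agent.Lib.Helper15.CDB

open TensorProduct

attribute [local instance] Algebra.TensorProduct.rightAlgebra

section Good

variable {R S : Type u} [CommRing R] [CommRing S] [Algebra R S]
  {N : Type u} [AddCommGroup N] [Module S N] {p : Ideal R} [p.IsPrime]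
  (𝒟 : FlatCA.CompleteDevissage R S N p)
  (R' : Type u) [CommRing R'] [Algebra R R']

/-- the identification of `B'_i` with `R' ⊗ B_i` below the length -/
noncomputable def eB (i : ℕ) [hi : Fact (i < 𝒟.n)] : (R' ⊗[R] 𝒟.B i) ≃ₐ[R'] B' 𝒟 R' i :=
  IfRing.ofPos hi.out

/-- the identification of `B'_i` with `R'` beyond the length -/
noncomputable def eBneg (i : ℕ) (hi : ¬ i < 𝒟.n) : R' ≃ₐ[R'] B' 𝒟 R' i :=
  IfRing.ofNeg hi

theorem toA'_eB (i : ℕ) [hi : Fact (i < 𝒟.n)] (x : R' ⊗[R] 𝒟.B i) :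
    toA' 𝒟 R' i (eB 𝒟 R' i x) =
      (Algebra.TensorProduct.map (AlgHom.id R' R') (IsScalarTower.toAlgHom R (𝒟.B i) (𝒟.A i)) x :
        R' ⊗[R] 𝒟.A i) :=
  IfRing.lift_ofPos (Z := R' ⊗[R] 𝒟.A i) _ _ hi.out x

theorem toA'succ_eB (i : ℕ) [hi : Fact (i < 𝒟.n)] (x : R' ⊗[R] 𝒟.B i) :
    toA'succ 𝒟 R' i (eB 𝒟 R' i x) =
      (Algebra.TensorProduct.map (AlgHom.id R' R')
        (IsScalarTower.toAlgHom R (𝒟.B i) (𝒟.A (i + 1))) x : R' ⊗[R] 𝒟.A (i + 1)) :=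
  IfRing.lift_ofPos (Z := R' ⊗[R] 𝒟.A (i + 1)) _ _ hi.out x

noncomputable instance algBB' (i : ℕ) [Fact (i < 𝒟.n)] : Algebra (𝒟.B i) (B' 𝒟 R' i) :=
  ((eB 𝒟 R' i).toAlgHom.toRingHom.comp (algebraMap (𝒟.B i) (R' ⊗[R] 𝒟.B i))).toAlgebra

theorem algebraMap_BB' (i : ℕ) [Fact (i < 𝒟.n)] (b : 𝒟.B i) :
    algebraMap (𝒟.B i) (B' 𝒟 R' i) b = eB 𝒟 R' i ((1 : R') ⊗ₜ[R] b) := rfl

instance (i : ℕ) [Fact (i < 𝒟.n)] : IsScalarTower R (𝒟.B i) (B' 𝒟 R' i) :=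
  IsScalarTower.of_algebraMap_eq fun r => by
    rw [algebraMap_BB', IsScalarTower.algebraMap_apply R R' (B' 𝒟 R' i),
      ← (eB 𝒟 R' i).commutes (algebraMap R R' r)]
    congr 1
    rw [Algebra.TensorProduct.algebraMap_apply, Algebra.algebraMap_self, RingHom.id_apply,
      Algebra.algebraMap_eq_smul_one r, Algebra.algebraMap_eq_smul_one r, smul_tmul]

instance isPushoutB (i : ℕ) [Fact (i < 𝒟.n)] : Algebra.IsPushout R R' (𝒟.B i) (B' 𝒟 R' i) :=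
  Algebra.IsPushout.of_equiv (R := R) (R' := R') (S := 𝒟.B i) (S' := R' ⊗[R] 𝒟.B i)
    (eB 𝒟 R' i) rfl

noncomputable instance algBA' (i : ℕ) : Algebra (𝒟.B i) (A' 𝒟 R' i) :=
  ((algebraMap (𝒟.A i) (A' 𝒟 R' i)).comp (algebraMap (𝒟.B i) (𝒟.A i))).toAlgebra

instance (i : ℕ) : IsScalarTower (𝒟.B i) (𝒟.A i) (A' 𝒟 R' i) :=
  IsScalarTower.of_algebraMap_eq fun _ => rfl

theorem algebraMap_AA' (i : ℕ) (a : 𝒟.A i) :
    algebraMap (𝒟.A i) (A' 𝒟 R' i) a = ((1 : R') ⊗ₜ[R] a : R' ⊗[R] 𝒟.A i) := rfl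

instance (i : ℕ) [Fact (i < 𝒟.n)] : IsScalarTower (𝒟.B i) (B' 𝒟 R' i) (A' 𝒟 R' i) :=
  IsScalarTower.of_algebraMap_eq fun b => by
    rw [algebraMap_BB']
    change _ = toA' 𝒟 R' i (eB 𝒟 R' i ((1 : R') ⊗ₜ[R] b))
    rw [toA'_eB, Algebra.TensorProduct.map_tmul]
    rfl

noncomputable instance algBA'succ (i : ℕ) : Algebra (𝒟.B i) (A' 𝒟 R' (i + 1)) :=
  ((algebraMap (𝒟.A (i + 1)) (A' 𝒟 R' (i + 1))).comp
    (algebraMap (𝒟.B i) (𝒟.A (i + 1)))).toAlgebra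

instance (i : ℕ) : IsScalarTower (𝒟.B i) (𝒟.A (i + 1)) (A' 𝒟 R' (i + 1)) :=
  IsScalarTower.of_algebraMap_eq fun _ => rfl

instance (i : ℕ) [Fact (i < 𝒟.n)] : IsScalarTower (𝒟.B i) (B' 𝒟 R' i) (A' 𝒟 R' (i + 1)) :=
  IsScalarTower.of_algebraMap_eq fun b => by
    rw [algebraMap_BB']
    change _ = toA'succ 𝒟 R' i (eB 𝒟 R' i ((1 : R') ⊗ₜ[R] b))
    rw [toA'succ_eB, Algebra.TensorProduct.map_tmul]
    rfl

end Good

end Groth.Agent.Lib.Helper15.CDB
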