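import Mathlib
import Groth.Prelude.Def_FlatCA
import Groth.Agent.Lib.Helper15.CDB4

/-!
# Base change of complete dévissages: module structures
-/

set_option autoImplicit false
universe u

namespace Groth.Agent.Lib.Helper15.CDB

open TensorProduct

attribute [local instance] Algebra.TensorProduct.rightAlgebra

section Mods

variable {R S : Type u} [CommRing R] [CommRing S] [Algebra R S]
  {N : Type u} [AddCommGroup N] [Module S N] {p : Ideal R} [p.IsPrime]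
  (𝒟 : FlatCA.CompleteDevissage R S N p)
  (R' : Type u) [CommRing R'] [Algebra R R']

noncomputable instance modB'M' (i : ℕ) : Module (B' 𝒟 R' i) (M' 𝒟 R' i) :=
  Module.compHom (M' 𝒟 R' i) (algebraMap (B' 𝒟 R' i) (A' 𝒟 R' i))

instance (i : ℕ) : IsScalarTower (B' 𝒟 R' i) (A' 𝒟 R' i) (M' 𝒟 R' i) :=
  IsScalarTower.of_algebraMap_smul fun _ _ => rfl

noncomputable instance modR'M' (i : ℕ) : Module R' (M' 𝒟 R' i) :=
  Module.compHom (M' 𝒟 R' i) (algebraMap R' (A' 𝒟 R' i))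

instance (i : ℕ) : IsScalarTower R' (A' 𝒟 R' i) (M' 𝒟 R' i) :=
  IsScalarTower.of_algebraMap_smul fun _ _ => rfl

instance (i : ℕ) : IsScalarTower R' (B' 𝒟 R' i) (M' 𝒟 R' i) :=
  IsScalarTower.of_algebraMap_smul fun r m => by
    change algebraMap (B' 𝒟 R' i) (A' 𝒟 R' i) (algebraMap R' (B' 𝒟 R' i) r) • m =
      algebraMap R' (A' 𝒟 R' i) r • m
    rw [← IsScalarTower.algebraMap_apply R' (B' 𝒟 R' i) (A' 𝒟 R' i)]

noncomputable instance modB'M'succ (i : ℕ) : Module (B' 𝒟 R' i) (M' 𝒟 R' (i + 1)) :=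
  Module.compHom (M' 𝒟 R' (i + 1)) (algebraMap (B' 𝒟 R' i) (A' 𝒟 R' (i + 1)))

instance (i : ℕ) : IsScalarTower (B' 𝒟 R' i) (A' 𝒟 R' (i + 1)) (M' 𝒟 R' (i + 1)) :=
  IsScalarTower.of_algebraMap_smul fun _ _ => rfl

noncomputable instance modBM' (i : ℕ) : Module (𝒟.B i) (M' 𝒟 R' i) :=
  Module.compHom (M' 𝒟 R' i) (algebraMap (𝒟.B i) (A' 𝒟 R' i))

instance (i : ℕ) : IsScalarTower (𝒟.B i) (A' 𝒟 R' i) (M' 𝒟 R' i) :=
  IsScalarTower.of_algebraMap_smul fun _ _ => rfl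

instance (i : ℕ) : IsScalarTower (𝒟.B i) (𝒟.A i) (M' 𝒟 R' i) :=
  IsScalarTower.of_algebraMap_smul fun b m => by
    change _ = algebraMap (𝒟.B i) (A' 𝒟 R' i) b • m
    rw [IsScalarTower.algebraMap_apply (𝒟.B i) (𝒟.A i) (A' 𝒟 R' i),
      algebraMap_smul (A' 𝒟 R' i) (algebraMap (𝒟.B i) (𝒟.A i) b) m]

instance (i : ℕ) [Fact (i < 𝒟.n)] : IsScalarTower (𝒟.B i) (B' 𝒟 R' i) (M' 𝒟 R' i) :=
  IsScalarTower.of_algebraMap_smul fun b m => by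
    change algebraMap (B' 𝒟 R' i) (A' 𝒟 R' i) (algebraMap (𝒟.B i) (B' 𝒟 R' i) b) • m =
      algebraMap (𝒟.B i) (A' 𝒟 R' i) b • m
    rw [← IsScalarTower.algebraMap_apply (𝒟.B i) (B' 𝒟 R' i) (A' 𝒟 R' i)]

noncomputable instance modBM'succ (i : ℕ) : Module (𝒟.B i) (M' 𝒟 R' (i + 1)) :=
  Module.compHom (M' 𝒟 R' (i + 1)) (algebraMap (𝒟.B i) (A' 𝒟 R' (i + 1)))

instance (i : ℕ) : IsScalarTower (𝒟.B i) (A' 𝒟 R' (i + 1)) (M' 𝒟 R' (i + 1)) :=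
  IsScalarTower.of_algebraMap_smul fun _ _ => rfl

instance (i : ℕ) : IsScalarTower (𝒟.B i) (𝒟.A (i + 1)) (M' 𝒟 R' (i + 1)) :=
  IsScalarTower.of_algebraMap_smul fun b m => by
    change _ = algebraMap (𝒟.B i) (A' 𝒟 R' (i + 1)) b • m
    rw [IsScalarTower.algebraMap_apply (𝒟.B i) (𝒟.A (i + 1)) (A' 𝒟 R' (i + 1)),
      algebraMap_smul (A' 𝒟 R' (i + 1)) (algebraMap (𝒟.B i) (𝒟.A (i + 1)) b) m]

instance (i : ℕ) [Fact (i < 𝒟.n)] :
    IsScalarTower (𝒟.B i) (B' 𝒟 R' i) (M' 𝒟 R' (i + 1)) :=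
  IsScalarTower.of_algebraMap_smul fun b m => by
    change algebraMap (B' 𝒟 R' i) (A' 𝒟 R' (i + 1)) (algebraMap (𝒟.B i) (B' 𝒟 R' i) b) • m =
      algebraMap (𝒟.B i) (A' 𝒟 R' (i + 1)) b • m
    rw [← IsScalarTower.algebraMap_apply (𝒟.B i) (B' 𝒟 R' i) (A' 𝒟 R' (i + 1))]

end Mods

end Groth.Agent.Lib.Helper15.CDB
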