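import Mathlib
import Groth.Prelude.Def_FlatCA
import Groth.Agent.Lib.Helper15.CDB5

/-!
# Base change of complete dévissages: properties below the length
-/

set_option autoImplicit false
universe u

namespace Groth.Agent.Lib.Helper15.CDB

open TensorProduct

attribute [local instance] Algebra.TensorProduct.rightAlgebra

section Generic

variable (R R' S S' C C' : Type u) [CommRing R] [CommRing R'] [CommRing S] [CommRing S']
  [CommRing C] [CommRing C']
  [Algebra R R'] [Algebra R S] [Algebra R' S'] [Algebra S S'] [Algebra R S']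
  [IsScalarTower R R' S'] [IsScalarTower R S S'] [Algebra.IsPushout R R' S S']
  [Algebra R C] [Algebra R' C'] [Algebra C C'] [Algebra R C']
  [IsScalarTower R R' C'] [IsScalarTower R C C'] [Algebra.IsPushout R R' C C']
  [Algebra S C] [IsScalarTower R S C] [Algebra S' C'] [IsScalarTower R' S' C']
  [Algebra S C'] [IsScalarTower S S' C'] [IsScalarTower S C C']

include R R' in
/-- If `S' = R' ⊗ S` and `C' = R' ⊗ C` then `C' = S' ⊗_S C`. -/
theorem isPushout_of_isPushout : Algebra.IsPushout S S' C C' := by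
  haveI hpoS : Algebra.IsPushout R S R' S' := Algebra.IsPushout.symm inferInstance
  have hpoC : Algebra.IsPushout R C R' C' := Algebra.IsPushout.symm inferInstance
  haveI : IsScalarTower R S' C' := .of_algebraMap_eq (fun x => by
    rw [IsScalarTower.algebraMap_apply R R' C', IsScalarTower.algebraMap_apply R' S' C',
      ← IsScalarTower.algebraMap_apply R R' S'])
  have hSC : Algebra.IsPushout S C S' C' :=
    (Algebra.IsPushout.comp_iff R S R' S' (T := C) (T' := C')).mp hpoC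
  exact hSC.symm

variable {S S' C C'}

theorem surjective_of_isPushout [Algebra.IsPushout S S' C C']
    (hsurj : Function.Surjective (algebraMap S C)) : Function.Surjective (algebraMap S' C') := by
  intro c'
  obtain ⟨t, rfl⟩ := (Algebra.IsPushout.equiv S S' C C').surjective c'
  induction t using TensorProduct.induction_on with
  | zero => exact ⟨0, by simp⟩
  | tmul s' c =>
    obtain ⟨s, rfl⟩ := hsurj c
    refine ⟨s' * algebraMap S S' s, ?_⟩
    rw [Algebra.IsPushout.equiv_tmul, map_mul, ← IsScalarTower.algebraMap_apply S S' C',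
      IsScalarTower.algebraMap_apply S C C']
  | add x y hx hy =>
    obtain ⟨a, ha⟩ := hx
    obtain ⟨b, hb⟩ := hy
    exact ⟨a + b, by rw [map_add, map_add, ha, hb]⟩

theorem finitePresentation_of_isPushout [Algebra.IsPushout S S' C C']
    [Algebra.FinitePresentation S C] : Algebra.FinitePresentation S' C' :=
  Algebra.FinitePresentation.equiv (Algebra.IsPushout.equiv S S' C C')

theorem finite_of_isPushout [Algebra.IsPushout S S' C C'] [Module.Finite S C] :
    Module.Finite S' C' :=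
  Module.Finite.equiv (Algebra.IsPushout.equiv S S' C C').toLinearEquiv

end Generic

section Props

variable {R S : Type u} [CommRing R] [CommRing S] [Algebra R S]
  {N : Type u} [AddCommGroup N] [Module S N] {p : Ideal R} [p.IsPrime]
  (𝒟 : FlatCA.CompleteDevissage R S N p)
  (R' : Type u) [CommRing R'] [Algebra R R']

instance isPushoutBA (i : ℕ) [Fact (i < 𝒟.n)] :
    Algebra.IsPushout (𝒟.B i) (B' 𝒟 R' i) (𝒟.A i) (A' 𝒟 R' i) :=
  isPushout_of_isPushout R R' (𝒟.B i) (B' 𝒟 R' i) (𝒟.A i) (A' 𝒟 R' i)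

instance isPushoutBAsucc (i : ℕ) [Fact (i < 𝒟.n)] :
    Algebra.IsPushout (𝒟.B i) (B' 𝒟 R' i) (𝒟.A (i + 1)) (A' 𝒟 R' (i + 1)) :=
  isPushout_of_isPushout R R' (𝒟.B i) (B' 𝒟 R' i) (𝒟.A (i + 1)) (A' 𝒟 R' (i + 1))

theorem finiteBA' (i : ℕ) (hi : i < 𝒟.n) : Module.Finite (B' 𝒟 R' i) (A' 𝒟 R' i) := by
  haveI : Fact (i < 𝒟.n) := ⟨hi⟩
  haveI := 𝒟.finiteBA i hi
  exact finite_of_isPushout (S := 𝒟.B i) (S' := B' 𝒟 R' i) (C := 𝒟.A i) (C' := A' 𝒟 R' i)

theorem smoothB' (i : ℕ) (hi : i < 𝒟.n) : Algebra.Smooth R' (B' 𝒟 R' i) := by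
  haveI : Fact (i < 𝒟.n) := ⟨hi⟩
  haveI := 𝒟.smooth i hi
  exact Algebra.Smooth.of_equiv (eB 𝒟 R' i)

theorem geomIrredB' (i : ℕ) (hi : i < 𝒟.n) : FlatCA.GeomIrredFibres R' (B' 𝒟 R' i) := by
  haveI : Fact (i < 𝒟.n) := ⟨hi⟩
  exact Groth.Agent.Lib.Helper15.OSD.geomIrredFibres_baseChange (R := R) (R' := R')
    (D := 𝒟.B i) (D' := B' 𝒟 R' i) (𝒟.geomIrred i hi)

theorem finiteM' (i : ℕ) (hi : i < 𝒟.n) : Module.Finite (A' 𝒟 R' i) (M' 𝒟 R' i) := by
  haveI := 𝒟.finiteM i hi
  exact Module.Finite.equiv (gM_isBaseChange 𝒟 R' i).equiv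

theorem primeB' (p' : Ideal R') [p'.IsPrime] (i : ℕ) :
    (p'.map (algebraMap R' (B' 𝒟 R' i))).IsPrime := by
  by_cases hi : i < 𝒟.n
  · haveI := smoothB' 𝒟 R' i hi
    exact map_isPrime_of_smooth p' (geomIrredB' 𝒟 R' i hi)
  · have h1 : algebraMap R' (B' 𝒟 R' i) = ((eBneg 𝒟 R' i hi).toRingEquiv : R' →+* B' 𝒟 R' i) := by
      ext r
      exact ((eBneg 𝒟 R' i hi).commutes r).symm
    rw [h1]
    exact Ideal.map_isPrime_of_equiv (eBneg 𝒟 R' i hi).toRingEquiv

end Props

end Groth.Agent.Lib.Helper15.CDB
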