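import Mathlib
import Groth.Prelude.Def_FlatCA
import Groth.Agent.Lib.Helper15.OSD2

/-!
# Base change with bijective residue field extension: the fibre rings are isomorphic
-/

set_option autoImplicit false
universe u

namespace Groth.Agent.Lib.Helper15.OSD

open TensorProduct

attribute [local instance] Algebra.TensorProduct.rightAlgebra

section FibreIso

variable {R R' : Type u} [CommRing R] [CommRing R'] [Algebra R R']
  (p : Ideal R) [p.IsPrime] (p' : Ideal R') [p'.IsPrime] [hpp : p'.LiesOver p]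
  (hκ : Function.Bijective (Ideal.ResidueField.mapₐ p p' (Algebra.ofId R R') hpp.over))
  (S S' : Type u) [CommRing S] [CommRing S'] [Algebra R S] [Algebra R' S'] [Algebra R S']
  [Algebra S S'] [IsScalarTower R R' S'] [IsScalarTower R S S'] [Algebra.IsPushout R R' S S']

/-- the isomorphism of residue fields -/
noncomputable def tau : p.ResidueField ≃ₐ[R] p'.ResidueField :=
  AlgEquiv.ofBijective (Ideal.ResidueField.mapₐ p p' (Algebra.ofId R R') hpp.over) hκ

/-- the isomorphism of fibre rings -/
noncomputable def theta : p.Fiber S ≃+* p'.Fiber S' :=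
  (Algebra.TensorProduct.congr (tau p p' hκ) (AlgEquiv.refl : S ≃ₐ[R] S)).toRingEquiv.trans
    ((Algebra.TensorProduct.cancelBaseChange R R' p'.ResidueField p'.ResidueField
        S).symm.toRingEquiv.trans
      (Algebra.TensorProduct.congr (AlgEquiv.refl : p'.ResidueField ≃ₐ[p'.ResidueField] _)
        (Algebra.IsPushout.equiv R R' S S')).toRingEquiv)

theorem theta_one_tmul (s : S) :
    theta p p' hκ S S' ((1 : p.ResidueField) ⊗ₜ[R] s) =
      (1 : p'.ResidueField) ⊗ₜ[R'] (algebraMap S S' s) := by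
  simp [theta, tau, Algebra.IsPushout.equiv_tmul]

theorem theta_comp_algebraMap :
    (theta p p' hκ S S' : p.Fiber S →+* p'.Fiber S').comp (algebraMap S (p.Fiber S)) =
      (algebraMap S' (p'.Fiber S')).comp (algebraMap S S') := by
  ext s
  exact theta_one_tmul p p' hκ S S' s

/-- contraction to `S` of a prime of the fibre ring of `S'` -/
theorem comap_comap_theta (Q' : Ideal (p'.Fiber S')) :
    (Q'.comap (theta p p' hκ S S' : p.Fiber S →+* p'.Fiber S')).comap (algebraMap S (p.Fiber S)) =
      (Q'.comap (algebraMap S' (p'.Fiber S'))).comap (algebraMap S S') := by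
  rw [Ideal.comap_comap, Ideal.comap_comap, theta_comp_algebraMap]

include hκ in
/-- a prime of `S'` over `p'` is determined by its contraction to `S` -/
theorem eq_of_comap_eq (q₁ q₂ : Ideal S') [q₁.IsPrime] [q₂.IsPrime] [h₁ : q₁.LiesOver p']
    [h₂ : q₂.LiesOver p'] (h : q₁.comap (algebraMap S S') = q₂.comap (algebraMap S S')) :
    q₁ = q₂ := by
  let e' := PrimeSpectrum.primesOverOrderIsoFiber R' S' p'
  let e := PrimeSpectrum.primesOverOrderIsoFiber R S p
  let Q₁ := e' ⟨q₁, ⟨inferInstance, h₁⟩⟩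
  let Q₂ := e' ⟨q₂, ⟨inferInstance, h₂⟩⟩
  have hQ₁ : Q₁.asIdeal.comap (algebraMap S' (p'.Fiber S')) = q₁ := by
    have := PrimeSpectrum.coe_primesOverOrderIsoFiber_symm_apply p' Q₁
    rw [OrderIso.symm_apply_apply] at this
    exact this.symm
  have hQ₂ : Q₂.asIdeal.comap (algebraMap S' (p'.Fiber S')) = q₂ := by
    have := PrimeSpectrum.coe_primesOverOrderIsoFiber_symm_apply p' Q₂
    rw [OrderIso.symm_apply_apply] at this
    exact this.symm
  let θ := theta p p' hκ S S'
  let P₁ : PrimeSpectrum (p.Fiber S) := PrimeSpectrum.comap (θ : p.Fiber S →+* p'.Fiber S') Q₁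
  let P₂ : PrimeSpectrum (p.Fiber S) := PrimeSpectrum.comap (θ : p.Fiber S →+* p'.Fiber S') Q₂
  have hP : (e.symm P₁ : Ideal S) = (e.symm P₂ : Ideal S) := by
    rw [PrimeSpectrum.coe_primesOverOrderIsoFiber_symm_apply p P₁,
      PrimeSpectrum.coe_primesOverOrderIsoFiber_symm_apply p P₂]
    have h1 := comap_comap_theta p p' hκ S S' Q₁.asIdeal
    have h2 := comap_comap_theta p p' hκ S S' Q₂.asIdeal
    rw [hQ₁] at h1
    rw [hQ₂] at h2
    exact h1.trans (h.trans h2.symm)
  have hP' : P₁ = P₂ := e.symm.injective (Subtype.ext hP)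
  have hQ : Q₁ = Q₂ := by
    have hinj : Function.Injective (PrimeSpectrum.comap (θ : p.Fiber S →+* p'.Fiber S')) :=
      (PrimeSpectrum.homeomorphOfRingEquiv θ).symm.injective
    exact hinj hP'
  rw [← hQ₁, ← hQ₂, hQ]

end FibreIso

end Groth.Agent.Lib.Helper15.OSD
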