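import Mathlib
import Groth.Prelude.Def_FlatCA
import Groth.Agent.Lib.Helper15.OSD5

/-!
# Base change with bijective residue field extension: supports and local dimensions
-/

set_option autoImplicit false
universe u

namespace Groth.Agent.Lib.Helper15.OSD

open TensorProduct

attribute [local instance] Algebra.TensorProduct.rightAlgebra

section LocalDim

theorem topologicalKrullDim_preimage_homeomorph {A B : Type*} [TopologicalSpace A]
    [TopologicalSpace B] (h : A ≃ₜ B) (T : Set B) :
    topologicalKrullDim ↥(h ⁻¹' T) = topologicalKrullDim ↥T :=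
  (h.subtype (p := fun a => a ∈ h ⁻¹' T) (q := fun b => b ∈ T)
    (fun _ => Iff.rfl)).isHomeomorph.topologicalKrullDim_eq

open TopologicalSpace in
theorem localDim_homeomorph {A B : Type*} [TopologicalSpace A] [TopologicalSpace B] (h : A ≃ₜ B)
    (a : A) : FlatMor.localDim A a = FlatMor.localDim B (h a) := by
  unfold FlatMor.localDim
  apply le_antisymm
  · refine le_iInf fun V => ?_
    let U : {U : Opens A // a ∈ U} := ⟨⟨h ⁻¹' V.1, V.1.2.preimage h.continuous⟩, V.2⟩
    refine (iInf_le _ U).trans (le_of_eq ?_)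
    exact topologicalKrullDim_preimage_homeomorph h (V.1 : Set B)
  · refine le_iInf fun U => ?_
    let V : {V : Opens B // h a ∈ V} :=
      ⟨⟨h.symm ⁻¹' U.1, U.1.2.preimage h.symm.continuous⟩, by
        change h.symm (h a) ∈ U.1
        rw [h.symm_apply_apply]
        exact U.2⟩
    refine (iInf_le _ V).trans (le_of_eq ?_)
    exact topologicalKrullDim_preimage_homeomorph h.symm (U.1 : Set A)

end LocalDim

section Supp

variable {R R' : Type u} [CommRing R] [CommRing R'] [Algebra R R']
  (p : Ideal R) [p.IsPrime] (p' : Ideal R') [p'.IsPrime] [hpp : p'.LiesOver p]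
  (hκ : Function.Bijective (Ideal.ResidueField.mapₐ p p' (Algebra.ofId R R') hpp.over))
  {S S' : Type u} [CommRing S] [CommRing S'] [Algebra R S] [Algebra R' S'] [Algebra R S']
  [Algebra S S'] [IsScalarTower R R' S'] [IsScalarTower R S S'] [Algebra.IsPushout R R' S S']
  (N : Type u) [AddCommGroup N] [Module S N] [Module R N] [IsScalarTower R S N] [Module.Finite S N]
  (N' : Type u) [AddCommGroup N'] [Module S' N'] [Module R' N'] [IsScalarTower R' S' N']
  [Module S N'] [IsScalarTower S S' N'] (f : N →ₗ[S] N') (hf : IsBaseChange S' f)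

include hf in
theorem mem_support_fiberMod_iff (Q' : PrimeSpectrum (p'.Fiber S')) :
    Q' ∈ Module.support (p'.Fiber S') (FlatCA.fiberMod p' S' N') ↔
      PrimeSpectrum.comap (theta p p' hκ S S' : p.Fiber S →+* p'.Fiber S') Q' ∈
        Module.support (p.Fiber S) (FlatCA.fiberMod p S N) := by
  change Q' ∈ Module.support (p'.Fiber S') ((p'.Fiber S') ⊗[S'] N') ↔
    PrimeSpectrum.comap (theta p p' hκ S S' : p.Fiber S →+* p'.Fiber S') Q' ∈
      Module.support (p.Fiber S) ((p.Fiber S) ⊗[S] N)
  haveI : Module.Finite S' N' := Module.Finite.equiv hf.equiv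
  rw [Groth.Agent.Lib.Helper25.SupportBaseChange.mem_support_baseChange_iff,
    Groth.Agent.Lib.Helper25.SupportBaseChange.mem_support_baseChange_iff,
    ← LinearEquiv.support_eq hf.equiv,
    Groth.Agent.Lib.Helper25.SupportBaseChange.mem_support_baseChange_iff]
  have : PrimeSpectrum.comap (algebraMap S S')
      (PrimeSpectrum.comap (algebraMap S' (p'.Fiber S')) Q') =
      PrimeSpectrum.comap (algebraMap S (p.Fiber S))
        (PrimeSpectrum.comap (theta p p' hκ S S' : p.Fiber S →+* p'.Fiber S') Q') :=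
    PrimeSpectrum.ext (comap_comap_theta p p' hκ S S' Q'.asIdeal).symm
  rw [this]

omit [p.IsPrime] in
theorem comap_map_fiber (q : Ideal S) [p.IsPrime] [hq : q.IsPrime] [hqp : q.LiesOver p] :
    (q.map (algebraMap S (p.Fiber S))).comap (algebraMap S (p.Fiber S)) = q := by
  apply le_antisymm
  · let e := PrimeSpectrum.primesOverOrderIsoFiber R S p
    let η := e ⟨q, ⟨hq, hqp⟩⟩
    have hη : η.asIdeal.comap (algebraMap S (p.Fiber S)) = q := by
      have := PrimeSpectrum.coe_primesOverOrderIsoFiber_symm_apply p η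
      rw [OrderIso.symm_apply_apply] at this
      exact this.symm
    have h1 : q.map (algebraMap S (p.Fiber S)) ≤ η.asIdeal := by
      rw [Ideal.map_le_iff_le_comap, hη]
    calc (q.map (algebraMap S (p.Fiber S))).comap (algebraMap S (p.Fiber S))
        ≤ η.asIdeal.comap (algebraMap S (p.Fiber S)) := Ideal.comap_mono h1
      _ = q := hη
  · exact Ideal.le_comap_map

include hκ hf in
theorem exists_xi' (q : Ideal S) [q.IsPrime] [q.LiesOver p] (q' : Ideal S') [q'.IsPrime]
    [hq'q : q'.LiesOver q] [hq'p' : q'.LiesOver p'] (n : ℕ)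
    (h1 : ∃ (ξ : PrimeSpectrum (p.Fiber S))
      (hξ : ξ ∈ Module.support (p.Fiber S) (FlatCA.fiberMod p S N)),
      ξ.asIdeal = FlatCA.fiberIdeal p q ∧
      FlatMor.localDim (Module.support (p.Fiber S) (FlatCA.fiberMod p S N)) ⟨ξ, hξ⟩ = n) :
    ∃ (ξ' : PrimeSpectrum (p'.Fiber S'))
      (hξ' : ξ' ∈ Module.support (p'.Fiber S') (FlatCA.fiberMod p' S' N')),
      ξ'.asIdeal = FlatCA.fiberIdeal p' q' ∧
      FlatMor.localDim (Module.support (p'.Fiber S') (FlatCA.fiberMod p' S' N')) ⟨ξ', hξ'⟩ = n := by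
  obtain ⟨ξ, hξ, hξq, hdim⟩ := h1
  set θ := theta p p' hκ S S' with hθ
  let H : PrimeSpectrum (p.Fiber S) ≃ₜ PrimeSpectrum (p'.Fiber S') :=
    PrimeSpectrum.homeomorphOfRingEquiv θ
  have hH : ∀ Q, PrimeSpectrum.comap (θ : p.Fiber S →+* p'.Fiber S') (H Q) = Q :=
    fun Q => H.symm_apply_apply Q
  have hmem : ∀ Q, Q ∈ Module.support (p.Fiber S) (FlatCA.fiberMod p S N) ↔
      H Q ∈ Module.support (p'.Fiber S') (FlatCA.fiberMod p' S' N') := by
    intro Q
    rw [mem_support_fiberMod_iff p p' hκ N N' f hf (H Q), hH]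
  let ξ' := H ξ
  have hξ' : ξ' ∈ Module.support (p'.Fiber S') (FlatCA.fiberMod p' S' N') := (hmem ξ).mp hξ
  refine ⟨ξ', hξ', ?_, ?_⟩
  · -- the ideal
    have hξ'1 : ξ'.asIdeal = ξ.asIdeal.map (θ : p.Fiber S →+* p'.Fiber S') := by
      change ξ.asIdeal.comap (θ.symm : p'.Fiber S' →+* p.Fiber S) = _
      exact Ideal.comap_symm θ
    have hξ'2 : ξ'.asIdeal = (q.map (algebraMap S S')).map (algebraMap S' (p'.Fiber S')) := by
      rw [hξ'1, hξq]
      change (q.map (algebraMap S (p.Fiber S))).map (θ : p.Fiber S →+* p'.Fiber S') = _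
      rw [Ideal.map_map, Ideal.map_map, theta_comp_algebraMap]
    change ξ'.asIdeal = q'.map (algebraMap S' (p'.Fiber S'))
    apply le_antisymm
    · rw [hξ'2]
      apply Ideal.map_mono
      rw [Ideal.map_le_iff_le_comap]
      exact hq'q.over.le
    · rw [Ideal.map_le_iff_le_comap]
      set q₁ := ξ'.asIdeal.comap (algebraMap S' (p'.Fiber S')) with hq₁
      haveI : q₁.IsPrime := Ideal.comap_isPrime _ _
      haveI : q₁.LiesOver p' := by
        constructor
        rw [Ideal.under_def, hq₁, Ideal.comap_comap,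
          ← IsScalarTower.algebraMap_eq R' S' (p'.Fiber S')]
        exact (Ideal.LiesOver.over (p := p') (P := ξ'.asIdeal))
      have hcomap : q₁.comap (algebraMap S S') = q'.comap (algebraMap S S') := by
        rw [hq₁, ← comap_comap_theta p p' hκ S S' ξ'.asIdeal]
        have h2 : ξ'.asIdeal.comap (θ : p.Fiber S →+* p'.Fiber S') = ξ.asIdeal :=
          congrArg PrimeSpectrum.asIdeal (hH ξ)
        rw [h2, hξq]
        change (q.map (algebraMap S (p.Fiber S))).comap (algebraMap S (p.Fiber S)) = _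
        rw [comap_map_fiber p q]
        exact hq'q.over
      rw [← eq_of_comap_eq p p' hκ S S' q₁ q' hcomap]
  · rw [← hdim]
    let Hs : ↥(Module.support (p.Fiber S) (FlatCA.fiberMod p S N)) ≃ₜ
        ↥(Module.support (p'.Fiber S') (FlatCA.fiberMod p' S' N')) :=
      H.subtype hmem
    exact (localDim_homeomorph Hs ⟨ξ, hξ⟩).symm

end Supp

end Groth.Agent.Lib.Helper15.OSD
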