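import Mathlib
import Groth.Prelude.Def_FlatCA
import Groth.Agent.Lib.Helper15.OSD6

/-!
# Base change with bijective residue field extension: purely transcendental residue fields
-/

set_option autoImplicit false
universe u

namespace Groth.Agent.Lib.Helper15.OSD

open TensorProduct

section Transport

variable {k K k' K' : Type u} [Field k] [Field K] [Field k'] [Field K'] [Algebra k K]
  [Algebra k' K']

theorem purelyTranscendental_transport (τ : k ≃+* k') (σ : K ≃+* K')
    (hcomp : (algebraMap k' K').comp (τ : k →+* k') = (σ : K →+* K').comp (algebraMap k K))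
    (h : ∃ (ι : Type u) (x : ι → K), IsTranscendenceBasis k x ∧
      IntermediateField.adjoin k (Set.range x) = ⊤) :
    ∃ (ι : Type u) (x : ι → K'), IsTranscendenceBasis k' x ∧
      IntermediateField.adjoin k' (Set.range x) = ⊤ := by
  obtain ⟨ι, x, hx, hadj⟩ := h
  have hiff : ∀ {J : Type u} (v : J → K),
      AlgebraicIndependent k' (σ ∘ v) ↔ AlgebraicIndependent k v := fun v =>
    algebraicIndependent_ringHom_iff_of_comp_eq (x := v) τ σ σ.injective hcomp
  refine ⟨ι, σ ∘ x, ⟨(hiff x).mpr hx.1, ?_⟩, ?_⟩
  · intro s' hs' hsub
    let s : Set K := σ ⁻¹' s'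
    have hs : AlgebraicIndepOn k id s := by
      change AlgebraicIndependent k (fun a : s => (a : K))
      rw [← hiff]
      let g : s → s' := fun a => ⟨σ a, a.2⟩
      have hg : Function.Injective g := by
        intro a b hab
        apply Subtype.ext
        apply σ.injective
        exact congrArg Subtype.val hab
      exact AlgebraicIndependent.comp hs' g hg
    have hsub' : Set.range x ⊆ s := by
      rintro _ ⟨i, rfl⟩
      exact hsub ⟨i, rfl⟩
    have heq := hx.2 s hs hsub'
    rw [Set.range_comp, heq]
    exact Set.image_preimage_eq s' σ.surjective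
  · rw [eq_top_iff]
    rintro w' -
    obtain ⟨w, rfl⟩ := σ.surjective w'
    have hw : w ∈ IntermediateField.adjoin k (Set.range x) := by rw [hadj]; trivial
    induction hw using IntermediateField.adjoin_induction with
    | mem a ha =>
      apply IntermediateField.subset_adjoin
      obtain ⟨i, rfl⟩ := ha
      exact ⟨i, rfl⟩
    | algebraMap c =>
      have : σ (algebraMap k K c) = algebraMap k' K' (τ c) :=
        (RingHom.congr_fun hcomp c).symm
      rw [this]
      exact IntermediateField.algebraMap_mem _ _
    | add a b _ _ ha hb =>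
      rw [map_add]
      exact add_mem ha hb
    | inv a _ ha =>
      rw [map_inv₀]
      exact inv_mem ha
    | mul a b _ _ ha hb =>
      rw [map_mul]
      exact mul_mem ha hb

end Transport

section ResidueFields

variable {R R' : Type u} [CommRing R] [CommRing R'] [Algebra R R']
  (p : Ideal R) [p.IsPrime] (p' : Ideal R') [p'.IsPrime] [hpp : p'.LiesOver p]
  (hκ : Function.Bijective (Ideal.ResidueField.mapₐ p p' (Algebra.ofId R R') hpp.over))
  {D D' : Type u} [CommRing D] [CommRing D'] [Algebra R D] [Algebra R' D'] [Algebra R D']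
  [Algebra D D'] [IsScalarTower R R' D'] [IsScalarTower R D D'] [Algebra.IsPushout R R' D D']
  (y : Ideal D) [y.IsPrime] [hyp : y.LiesOver p] (y' : Ideal D') [y'.IsPrime]
  [hy'y : y'.LiesOver y] [hy'p' : y'.LiesOver p']

theorem residue_square :
    (Ideal.ResidueField.map p' y' (algebraMap R' D') hy'p'.over).comp
        (Ideal.ResidueField.map p p' (algebraMap R R') hpp.over) =
      (Ideal.ResidueField.map y y' (algebraMap D D') hy'y.over).comp
        (Ideal.ResidueField.map p y (algebraMap R D) hyp.over) := by
  apply Ideal.ResidueField.ringHom_ext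
  ext r
  simp only [RingHom.comp_apply, Ideal.ResidueField.map_algebraMap]
  rw [← IsScalarTower.algebraMap_apply R R' D', ← IsScalarTower.algebraMap_apply R D D']

include hκ in
theorem residueField_map_bijective :
    Function.Bijective (Ideal.ResidueField.map y y' (algebraMap D D') hy'y.over) := by
  set σ₀ := Ideal.ResidueField.map y y' (algebraMap D D') hy'y.over with hσ₀
  refine ⟨σ₀.injective, ?_⟩
  let K₀ : Subfield y'.ResidueField := σ₀.fieldRange
  have hτ : Function.Surjective (Ideal.ResidueField.map p p' (algebraMap R R') hpp.over) :=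
    hκ.2
  have hR' : ∀ r' : R', algebraMap D' y'.ResidueField (algebraMap R' D' r') ∈ K₀ := by
    intro r'
    obtain ⟨c, hc⟩ := hτ (algebraMap R' p'.ResidueField r')
    have h1 := RingHom.congr_fun (residue_square p p' y y') c
    simp only [RingHom.comp_apply] at h1
    rw [hc, Ideal.ResidueField.map_algebraMap] at h1
    rw [h1]
    exact ⟨_, rfl⟩
  have hD : ∀ d : D, algebraMap D' y'.ResidueField (algebraMap D D' d) ∈ K₀ := by
    intro d
    refine ⟨algebraMap D y.ResidueField d, ?_⟩
    rw [hσ₀]
    exact Ideal.ResidueField.map_algebraMap y y' (algebraMap D D') hy'y.over d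
  have hD' : ∀ a : D', algebraMap D' y'.ResidueField a ∈ K₀ := by
    intro a
    obtain ⟨t, rfl⟩ := (Algebra.IsPushout.equiv R R' D D').surjective a
    induction t using TensorProduct.induction_on with
    | zero => rw [map_zero, map_zero]; exact K₀.zero_mem
    | tmul r' d =>
      rw [Algebra.IsPushout.equiv_tmul, map_mul]
      exact K₀.mul_mem (hR' r') (hD d)
    | add a b ha hb =>
      rw [map_add, map_add]
      exact K₀.add_mem ha hb
  intro x
  obtain ⟨a, b, -, rfl⟩ := IsFractionRing.div_surjective (A := D' ⧸ y') x
  obtain ⟨a₀, rfl⟩ := Ideal.Quotient.mk_surjective a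
  obtain ⟨b₀, rfl⟩ := Ideal.Quotient.mk_surjective b
  have ha : algebraMap (D' ⧸ y') y'.ResidueField (Ideal.Quotient.mk y' a₀) ∈ K₀ := by
    rw [← Ideal.Quotient.algebraMap_eq, ← IsScalarTower.algebraMap_apply D' (D' ⧸ y')]
    exact hD' a₀
  have hb : algebraMap (D' ⧸ y') y'.ResidueField (Ideal.Quotient.mk y' b₀) ∈ K₀ := by
    rw [← Ideal.Quotient.algebraMap_eq, ← IsScalarTower.algebraMap_apply D' (D' ⧸ y')]
    exact hD' b₀
  exact K₀.div_mem ha hb

include hκ in
theorem purelyTranscendental_baseChange (h4 : FlatCA.PurelyTranscendental p y) :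
    FlatCA.PurelyTranscendental p' y' := by
  letI : Algebra p.ResidueField y.ResidueField :=
    (Ideal.ResidueField.mapₐ p y (Algebra.ofId R D) hyp.over).toRingHom.toAlgebra
  letI : Algebra p'.ResidueField y'.ResidueField :=
    (Ideal.ResidueField.mapₐ p' y' (Algebra.ofId R' D') hy'p'.over).toRingHom.toAlgebra
  let τ : p.ResidueField ≃+* p'.ResidueField :=
    RingEquiv.ofBijective (Ideal.ResidueField.map p p' (algebraMap R R') hpp.over) hκ
  let σ : y.ResidueField ≃+* y'.ResidueField :=
    RingEquiv.ofBijective (Ideal.ResidueField.map y y' (algebraMap D D') hy'y.over)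
      (residueField_map_bijective p p' hκ y y')
  have hcomp : (algebraMap p'.ResidueField y'.ResidueField).comp
      (τ : p.ResidueField →+* p'.ResidueField) =
      (σ : y.ResidueField →+* y'.ResidueField).comp
        (algebraMap p.ResidueField y.ResidueField) :=
    residue_square p p' y y'
  exact purelyTranscendental_transport τ σ hcomp h4

end ResidueFields

end Groth.Agent.Lib.Helper15.OSD
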