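import Mathlib
import Groth.Prelude.Def_FlatCA
import Groth.Agent.Lib.Helper15.OSD7

/-!
# Base change of a one-step dévissage at a point along a map with bijective residue field extension
-/

set_option autoImplicit false
universe u

namespace Groth.Agent.Lib.Helper15.OSD

open TensorProduct

theorem main12239
    (R S : Type u) [CommRing R] [CommRing S] [Algebra R S] [Algebra.FiniteType R S]
    (N : Type u) [AddCommGroup N] [Module S N] [Module R N] [IsScalarTower R S N] [Module.Finite S N]
    (p : Ideal R) [p.IsPrime] (q : Ideal S) [q.IsPrime] [q.LiesOver p]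
    (C D G : Type u) [CommRing C] [CommRing D] [Algebra S C] [Algebra R C] [IsScalarTower R S C]
    [Algebra R D] [Algebra D C] [IsScalarTower R D C] [AddCommGroup G] [Module C G] [Module S G]
    [IsScalarTower S C G] (n : ℕ)
    (h : FlatCA.IsOneStepDevissage R S N p C D G n)
    (z : Ideal C) [z.IsPrime] (y : Ideal D) [y.IsPrime] [z.LiesOver q] [z.LiesOver y] [y.LiesOver p]
    (h1 : ∃ (ξ : PrimeSpectrum (p.Fiber S)) (hξ : ξ ∈ Module.support (p.Fiber S) (FlatCA.fiberMod p S N)),
      ξ.asIdeal = FlatCA.fiberIdeal p q ∧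
      FlatMor.localDim (Module.support (p.Fiber S) (FlatCA.fiberMod p S N)) ⟨ξ, hξ⟩ = n)
    (h3 : ∀ (z₁ : Ideal C) [z₁.IsPrime], z₁.LiesOver y → z₁ = z)
    (h4 : FlatCA.PurelyTranscendental p y)
    (R' : Type u) [CommRing R'] [Algebra R R'] (p' : Ideal R') [p'.IsPrime] [hp' : p'.LiesOver p]
    (hκ : Function.Bijective (Ideal.ResidueField.mapₐ p p' (Algebra.ofId R R') hp'.over))
    (S' C' D' : Type u) [CommRing S'] [CommRing C'] [CommRing D']
    [Algebra R' S'] [Algebra R S'] [Algebra S S'] [IsScalarTower R R' S'] [IsScalarTower R S S']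
    [Algebra.IsPushout R R' S S']
    [Algebra R' C'] [Algebra R C'] [Algebra C C'] [IsScalarTower R R' C'] [IsScalarTower R C C']
    [Algebra.IsPushout R R' C C']
    [Algebra R' D'] [Algebra R D'] [Algebra D D'] [IsScalarTower R R' D'] [IsScalarTower R D D']
    [Algebra.IsPushout R R' D D']
    [Algebra S' C'] [IsScalarTower R' S' C'] [Algebra S C'] [IsScalarTower S S' C'] [IsScalarTower S C C']
    [Algebra D' C'] [IsScalarTower R' D' C'] [Algebra D C'] [IsScalarTower D D' C'] [IsScalarTower D C C']
    (N' : Type u) [AddCommGroup N'] [Module S' N'] [Module R' N'] [IsScalarTower R' S' N']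
    [Module S N'] [IsScalarTower S S' N'] (f : N →ₗ[S] N') (hf : IsBaseChange S' f)
    (G' : Type u) [AddCommGroup G'] [Module C' G'] [Module S' G'] [IsScalarTower S' C' G']
    [Module C G'] [IsScalarTower C C' G'] (g : G →ₗ[C] G') (hg : IsBaseChange C' g)
    (q' : Ideal S') [q'.IsPrime] [q'.LiesOver q] [q'.LiesOver p']
    (z' : Ideal C') [z'.IsPrime] [z'.LiesOver z] [z'.LiesOver p']
    (y' : Ideal D') [y'.IsPrime] [y'.LiesOver y] [y'.LiesOver p'] :
    (∀ (q₁ : Ideal S') [q₁.IsPrime], q₁.LiesOver q → q₁.LiesOver p' → q₁ = q') ∧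
    FlatCA.IsOneStepDevissage R' S' N' p' C' D' G' n ∧
    (∃ (ξ' : PrimeSpectrum (p'.Fiber S')) (hξ' : ξ' ∈ Module.support (p'.Fiber S') (FlatCA.fiberMod p' S' N')),
      ξ'.asIdeal = FlatCA.fiberIdeal p' q' ∧
      FlatMor.localDim (Module.support (p'.Fiber S') (FlatCA.fiberMod p' S' N')) ⟨ξ', hξ'⟩ = n) ∧
    z'.LiesOver q' ∧ z'.LiesOver y' ∧
    (∀ (z₁ : Ideal C') [z₁.IsPrime], z₁.LiesOver y' → z₁ = z') ∧
    FlatCA.PurelyTranscendental p' y' := by
  refine ⟨?_, main12231 R S N p C D G n h R' p' S' C' D' N' f hf G' g hg, ?_, ?_, ?_, ?_, ?_⟩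
  · intro q₁ _ h₁ h₂
    apply eq_of_comap_eq p p' hκ S S' q₁ q'
    rw [← Ideal.under_def, ← Ideal.under_def, ← h₁.over,
      ← (Ideal.LiesOver.over (p := q) (P := q'))]
  · exact exists_xi' p p' hκ N N' f hf q q' n h1
  · -- z' over q'
    constructor
    haveI : (z'.under S').IsPrime := Ideal.comap_isPrime _ _
    haveI : (z'.under S').LiesOver p' := by
      constructor
      rw [Ideal.under_def, Ideal.under_def, Ideal.comap_comap,
        ← IsScalarTower.algebraMap_eq R' S' C']
      exact (Ideal.LiesOver.over (p := p') (P := z'))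
    symm
    apply eq_of_comap_eq p p' hκ S S' (z'.under S') q'
    rw [Ideal.under_def, Ideal.comap_comap, ← IsScalarTower.algebraMap_eq S S' C',
      IsScalarTower.algebraMap_eq S C C', ← Ideal.comap_comap, ← Ideal.under_def (A := C),
      ← (Ideal.LiesOver.over (p := z) (P := z')), ← Ideal.under_def,
      ← (Ideal.LiesOver.over (p := q) (P := z)), ← Ideal.under_def,
      ← (Ideal.LiesOver.over (p := q) (P := q'))]
  · -- z' over y'
    constructor
    haveI : (z'.under D').IsPrime := Ideal.comap_isPrime _ _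
    haveI : (z'.under D').LiesOver p' := by
      constructor
      rw [Ideal.under_def, Ideal.under_def, Ideal.comap_comap,
        ← IsScalarTower.algebraMap_eq R' D' C']
      exact (Ideal.LiesOver.over (p := p') (P := z'))
    symm
    apply eq_of_comap_eq p p' hκ D D' (z'.under D') y'
    rw [Ideal.under_def, Ideal.comap_comap, ← IsScalarTower.algebraMap_eq D D' C',
      IsScalarTower.algebraMap_eq D C C', ← Ideal.comap_comap, ← Ideal.under_def (A := C),
      ← (Ideal.LiesOver.over (p := z) (P := z')), ← Ideal.under_def,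
      ← (Ideal.LiesOver.over (p := y) (P := z)), ← Ideal.under_def,
      ← (Ideal.LiesOver.over (p := y) (P := y'))]
  · -- uniqueness of z'
    intro z₁ _ hz₁
    haveI : z₁.LiesOver p' := by
      constructor
      rw [Ideal.under_def, IsScalarTower.algebraMap_eq R' D' C', ← Ideal.comap_comap,
        ← Ideal.under_def (A := D'), ← hz₁.over]
      exact (Ideal.LiesOver.over (p := p') (P := y'))
    apply eq_of_comap_eq p p' hκ C C' z₁ z'
    have hz₁C : z₁.under C = z := by
      haveI : (z₁.under C).IsPrime := Ideal.comap_isPrime _ _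
      apply h3
      constructor
      rw [Ideal.under_def, Ideal.under_def, Ideal.comap_comap,
        ← IsScalarTower.algebraMap_eq D C C', IsScalarTower.algebraMap_eq D D' C',
        ← Ideal.comap_comap, ← Ideal.under_def (A := D'), ← hz₁.over, ← Ideal.under_def]
      exact (Ideal.LiesOver.over (p := y) (P := y'))
    rw [← Ideal.under_def, ← Ideal.under_def, hz₁C]
    exact (Ideal.LiesOver.over (p := z) (P := z'))
  · exact purelyTranscendental_baseChange p p' hκ y y' h4

end Groth.Agent.Lib.Helper15.OSD
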