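import Mathlib
import Groth.Prelude.Def_FlatCA
import Groth.Agent.Lib.Helper15.OSD8
import Groth.Agent.Lib.Helper15.CDB6

/-!
# Complete dévissage at a point under base change: primes of a base change
-/

set_option autoImplicit false
universe u

namespace Groth.Agent.Lib.Helper15.CDA

open TensorProduct Groth.Agent.Lib.Helper15.OSD

attribute [local instance] Algebra.TensorProduct.rightAlgebra

section Primes

variable {R R' : Type u} [CommRing R] [CommRing R'] [Algebra R R']
  (p : Ideal R) [p.IsPrime] (p' : Ideal R') [p'.IsPrime] [hpp : p'.LiesOver p]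
  (hκ : Function.Bijective (Ideal.ResidueField.mapₐ p p' (Algebra.ofId R R') hpp.over))
  (S S' : Type u) [CommRing S] [CommRing S'] [Algebra R S] [Algebra R' S'] [Algebra R S']
  [Algebra S S'] [IsScalarTower R R' S'] [IsScalarTower R S S'] [Algebra.IsPushout R R' S S']

include hκ in
/-- a prime of `S` over `p` is the contraction of a prime of `S'` over `p'` -/
theorem exists_prime_over (q : Ideal S) [hq : q.IsPrime] [hqp : q.LiesOver p] :
    ∃ q' : Ideal S', q'.IsPrime ∧ q'.LiesOver q ∧ q'.LiesOver p' := by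
  let e' := PrimeSpectrum.primesOverOrderIsoFiber R' S' p'
  let e := PrimeSpectrum.primesOverOrderIsoFiber R S p
  let P : PrimeSpectrum (p.Fiber S) := e ⟨q, ⟨hq, hqp⟩⟩
  have hP : P.asIdeal.comap (algebraMap S (p.Fiber S)) = q := by
    have := PrimeSpectrum.coe_primesOverOrderIsoFiber_symm_apply p P
    rw [OrderIso.symm_apply_apply] at this
    exact this.symm
  let θ := theta p p' hκ S S'
  let Q' : PrimeSpectrum (p'.Fiber S') :=
    PrimeSpectrum.comap (θ.symm : p'.Fiber S' →+* p.Fiber S) P
  have hQ' : Q'.asIdeal.comap (θ : p.Fiber S →+* p'.Fiber S') = P.asIdeal := by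
    change (P.asIdeal.comap (θ.symm : p'.Fiber S' →+* p.Fiber S)).comap
      (θ : p.Fiber S →+* p'.Fiber S') = P.asIdeal
    rw [Ideal.comap_comap]
    have : (θ.symm : p'.Fiber S' →+* p.Fiber S).comp (θ : p.Fiber S →+* p'.Fiber S') =
        RingHom.id _ := by
      apply RingHom.ext
      intro x
      simp
    rw [this, Ideal.comap_id]
  let q'' := e'.symm Q'
  have hq''eq : q''.1 = Q'.asIdeal.comap (algebraMap S' (p'.Fiber S')) :=
    PrimeSpectrum.coe_primesOverOrderIsoFiber_symm_apply p' Q'
  refine ⟨q''.1, q''.2.1, ?_, q''.2.2⟩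
  constructor
  rw [Ideal.under_def, hq''eq, ← comap_comap_theta p p' hκ S S' Q'.asIdeal, hQ', hP]

end Primes

end Groth.Agent.Lib.Helper15.CDA
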