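import Mathlib
import Groth.Prelude.Def_FlatCA
import Groth.Agent.Lib.Helper15.CDA1

/-!
# Complete dévissage at a point under base change: compatibilities of the primes
-/

set_option autoImplicit false
universe u

namespace Groth.Agent.Lib.Helper15.CDA

open TensorProduct Groth.Agent.Lib.Helper15.OSD

section Step

variable {R R' : Type u} [CommRing R] [CommRing R'] [Algebra R R']
  (p : Ideal R) [p.IsPrime] (p' : Ideal R') [p'.IsPrime] [hpp : p'.LiesOver p]
  (hκ : Function.Bijective (Ideal.ResidueField.mapₐ p p' (Algebra.ofId R R') hpp.over))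
  {B B' A A' : Type u} [CommRing B] [CommRing B'] [CommRing A] [CommRing A']
  [Algebra R B] [Algebra R' B'] [Algebra R B'] [Algebra B B'] [IsScalarTower R R' B']
  [IsScalarTower R B B'] [Algebra.IsPushout R R' B B']
  [Algebra R A] [Algebra R' A'] [Algebra R A'] [Algebra A A'] [IsScalarTower R R' A']
  [IsScalarTower R A A'] [Algebra.IsPushout R R' A A']
  [Algebra B A] [Algebra B' A'] [Algebra B A'] [IsScalarTower B A A'] [IsScalarTower B B' A']
  [IsScalarTower R' B' A']

include hκ in
theorem comap_eq_of_comap_eq (qB : Ideal B) (qA : Ideal A)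
    (hAB : qA.comap (algebraMap B A) = qB)
    (qB' : Ideal B') [qB'.IsPrime] (hB'B : qB'.comap (algebraMap B B') = qB)
    (hB'p' : qB'.comap (algebraMap R' B') = p')
    (qA' : Ideal A') [qA'.IsPrime] (hA'A : qA'.comap (algebraMap A A') = qA)
    (hA'p' : qA'.comap (algebraMap R' A') = p') :
    qA'.comap (algebraMap B' A') = qB' := by
  haveI : (qA'.comap (algebraMap B' A')).IsPrime := Ideal.comap_isPrime _ _
  haveI : (qA'.comap (algebraMap B' A')).LiesOver p' := by
    constructor
    rw [Ideal.under_def, Ideal.comap_comap, ← IsScalarTower.algebraMap_eq R' B' A', hA'p']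
  haveI : qB'.LiesOver p' := ⟨by rw [Ideal.under_def, hB'p']⟩
  apply eq_of_comap_eq p p' hκ B B' (qA'.comap (algebraMap B' A')) qB'
  rw [Ideal.comap_comap, ← IsScalarTower.algebraMap_eq B B' A', IsScalarTower.algebraMap_eq B A A',
    ← Ideal.comap_comap, hA'A, hAB, hB'B]

include hκ in
theorem uniq_of_uniq (qB : Ideal B) (qA : Ideal A)
    (huniq : ∀ (Q : Ideal A) [Q.IsPrime], Q.comap (algebraMap B A) = qB → Q = qA)
    (qB' : Ideal B') [qB'.IsPrime] (hB'B : qB'.comap (algebraMap B B') = qB)
    (hB'p' : qB'.comap (algebraMap R' B') = p')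
    (qA' : Ideal A') [qA'.IsPrime] (hA'A : qA'.comap (algebraMap A A') = qA)
    (hA'p' : qA'.comap (algebraMap R' A') = p')
    (Q' : Ideal A') [Q'.IsPrime] (hQ' : Q'.comap (algebraMap B' A') = qB') : Q' = qA' := by
  have hQ'p' : Q'.comap (algebraMap R' A') = p' := by
    rw [IsScalarTower.algebraMap_eq R' B' A', ← Ideal.comap_comap, hQ', hB'p']
  haveI : Q'.LiesOver p' := ⟨by rw [Ideal.under_def, hQ'p']⟩
  haveI : qA'.LiesOver p' := ⟨by rw [Ideal.under_def, hA'p']⟩
  apply eq_of_comap_eq p p' hκ A A' Q' qA'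
  rw [hA'A]
  haveI : (Q'.comap (algebraMap A A')).IsPrime := Ideal.comap_isPrime _ _
  apply huniq
  rw [Ideal.comap_comap, ← IsScalarTower.algebraMap_eq B A A', IsScalarTower.algebraMap_eq B B' A',
    ← Ideal.comap_comap, hQ', hB'B]

end Step

end Groth.Agent.Lib.Helper15.CDA
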