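import Mathlib
import Groth.Prelude.Def_FlatCA
import Groth.Agent.Lib.Helper15.CDA2

/-!
# Complete dévissage at a point under base change: the statement
-/

set_option autoImplicit false
universe u

namespace Groth.Agent.Lib.Helper15.CDA

open TensorProduct Groth.Agent.Lib.Helper15.OSD Groth.Agent.Lib.Helper15.CDB

theorem main12244
    (R S : Type u) [CommRing R] [CommRing S] [Algebra R S] [Algebra.FiniteType R S]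
    (N : Type u) [AddCommGroup N] [Module S N] [Module.Finite S N]
    (p : Ideal R) [p.IsPrime] (q : Ideal S) [q.IsPrime] (𝒟 : FlatCA.CompleteDevissage R S N p)
    (𝒜 : FlatCA.CompleteDevissageAt R S N p q 𝒟)
    (R' : Type u) [CommRing R'] [Algebra R R'] (p' : Ideal R') [p'.IsPrime] [hp' : p'.LiesOver p]
    (hκ : Function.Bijective (Ideal.ResidueField.mapₐ p p' (Algebra.ofId R R') hp'.over))
    (S' : Type u) [CommRing S'] [Algebra R' S'] [Algebra R S'] [Algebra S S'] [IsScalarTower R R' S']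
    [IsScalarTower R S S'] [Algebra.IsPushout R R' S S']
    (N' : Type u) [AddCommGroup N'] [Module S' N'] [Module S N'] [IsScalarTower S S' N']
    (f : N →ₗ[S] N') (hf : IsBaseChange S' f)
    (q' : Ideal S') [q'.IsPrime] [q'.LiesOver q] [q'.LiesOver p']
    (𝒟' : FlatCA.CompleteDevissage R' S' N' p') (hn : 𝒟'.n = 𝒟.n)
    (htail : ∀ i, 𝒟.n ≤ i → ∃ (Q : Ideal (𝒟'.B i)) (P : Ideal (𝒟'.A i)),
      Q.IsPrime ∧ P.IsPrime ∧ Q.LiesOver p' ∧ P.LiesOver Q)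
    [aA : ∀ i : Fin 𝒟.n, Algebra (𝒟.A i) (𝒟'.A i)] [rA : ∀ i : Fin 𝒟.n, Algebra R (𝒟'.A i)]
      [∀ i : Fin 𝒟.n, IsScalarTower R (R') (𝒟'.A i)] [∀ i : Fin 𝒟.n, IsScalarTower R (𝒟.A i) (𝒟'.A i)]
      [aB : ∀ i : Fin 𝒟.n, Algebra (𝒟.B i) (𝒟'.B i)] [rB : ∀ i : Fin 𝒟.n, Algebra R (𝒟'.B i)]
      [∀ i : Fin 𝒟.n, IsScalarTower R (R') (𝒟'.B i)] [∀ i : Fin 𝒟.n, IsScalarTower R (𝒟.B i) (𝒟'.B i)]
      [bA : ∀ i : Fin 𝒟.n, Algebra (𝒟.B i) (𝒟'.A i)] [∀ i : Fin 𝒟.n, IsScalarTower (𝒟.B i) (𝒟.A i) (𝒟'.A i)]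
      [∀ i : Fin 𝒟.n, IsScalarTower (𝒟.B i) (𝒟'.B i) (𝒟'.A i)]
      [bA' : ∀ i : Fin 𝒟.n, Algebra (𝒟.B i) (𝒟'.A (i + 1))]
      [∀ i : Fin 𝒟.n, IsScalarTower (𝒟.B i) (𝒟'.B i) (𝒟'.A (i + 1))]
      [sA : Algebra S (𝒟'.A 0)] [IsScalarTower S (S') (𝒟'.A 0)]
      [mA : ∀ i : Fin 𝒟.n, Module (𝒟.A i) (𝒟'.M i)] [∀ i : Fin 𝒟.n, IsScalarTower (𝒟.A i) (𝒟'.A i) (𝒟'.M i)]
      (gM : ∀ i : Fin 𝒟.n, 𝒟.M i →ₗ[𝒟.A i] 𝒟'.M i)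
    (hbc : (letI := aA ⟨0, 𝒟.pos⟩; IsScalarTower S (𝒟.A 0) (𝒟'.A 0)) ∧
      (∀ x : N, 𝒟'.isoN (f x) = gM ⟨0, 𝒟.pos⟩ (𝒟.isoN x)) ∧
      (∀ (i : Fin 𝒟.n) (h : (i : ℕ) + 1 < 𝒟.n),
        letI := aA ⟨i + 1, h⟩; IsScalarTower (𝒟.B i) (𝒟.A (i + 1)) (𝒟'.A (i + 1))) ∧
      ∀ i : Fin 𝒟.n,
        Algebra.IsPushout R R' (𝒟.A i) (𝒟'.A i) ∧ Algebra.IsPushout R R' (𝒟.B i) (𝒟'.B i) ∧
        IsBaseChange (𝒟'.A i) (gM i)) :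
    ∃ 𝒜' : FlatCA.CompleteDevissageAt R' S' N' p' q' 𝒟', 𝒜'.d = 𝒜.d ∧
      ∀ i : Fin 𝒟.n, (𝒜'.qB i).LiesOver (𝒜.qB i) ∧ (𝒜'.qA i).LiesOver (𝒜.qA i) := by
  obtain ⟨hS0, hisoN, hstep, hall⟩ := hbc
  -- the primes at the good indices
  have hgood : ∀ j : Fin 𝒟.n, ∃ (Q : Ideal (𝒟'.B j)) (P : Ideal (𝒟'.A j)), Q.IsPrime ∧ P.IsPrime ∧
      Q.comap (algebraMap R' (𝒟'.B j)) = p' ∧ Q.comap (algebraMap (𝒟.B j) (𝒟'.B j)) = 𝒜.qB j ∧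
      P.comap (algebraMap R' (𝒟'.A j)) = p' ∧ P.comap (algebraMap (𝒟.A j) (𝒟'.A j)) = 𝒜.qA j := by
    intro j
    haveI := (hall j).1
    haveI := (hall j).2.1
    haveI := 𝒜.hqB j
    haveI := 𝒜.hqA j
    haveI := 𝒜.overB j
    haveI := 𝒜.overA j
    obtain ⟨Q, hQ, hQq, hQp⟩ := exists_prime_over p p' hκ (𝒟.B j) (𝒟'.B j) (𝒜.qB j)
    haveI : (𝒜.qA j).LiesOver p := Ideal.LiesOver.trans (𝒜.qA j) (𝒜.qB j) p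
    obtain ⟨P, hP, hPq, hPp⟩ := exists_prime_over p p' hκ (𝒟.A j) (𝒟'.A j) (𝒜.qA j)
    exact ⟨Q, P, hQ, hP, hQp.over.symm, hQq.over.symm, hPp.over.symm, hPq.over.symm⟩
  -- the primes at all indices
  have hall' : ∀ i : ℕ, ∃ (Q : Ideal (𝒟'.B i)) (P : Ideal (𝒟'.A i)), Q.IsPrime ∧ P.IsPrime ∧
      Q.LiesOver p' ∧ P.LiesOver Q ∧
      ∀ h : i < 𝒟.n, Q.comap (@algebraMap (𝒟.B i) (𝒟'.B i) _ _ (aB ⟨i, h⟩)) = 𝒜.qB i ∧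
        P.comap (@algebraMap (𝒟.A i) (𝒟'.A i) _ _ (aA ⟨i, h⟩)) = 𝒜.qA i := by
    intro i
    by_cases h : i < 𝒟.n
    · obtain ⟨j, rfl⟩ : ∃ j : Fin 𝒟.n, (j : ℕ) = i := ⟨⟨i, h⟩, rfl⟩
      obtain ⟨Q, P, hQ, hP, hQp, hQq, hPp, hPq⟩ := hgood j
      refine ⟨Q, P, hQ, hP, ⟨hQp.symm⟩, ?_, fun _ => ⟨hQq, hPq⟩⟩
      haveI := (hall j).1
      haveI := (hall j).2.1
      constructor
      symm
      exact comap_eq_of_comap_eq p p' hκ (B := 𝒟.B j) (B' := 𝒟'.B j) (A := 𝒟.A j) (A' := 𝒟'.A j)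
        (𝒜.qB j) (𝒜.qA j) (𝒜.overA j).over.symm Q hQq hQp P hPq hPp
    · obtain ⟨Q, P, hQ, hP, hQp, hPQ⟩ := htail i (not_lt.mp h)
      exact ⟨Q, P, hQ, hP, hQp, hPQ, fun h' => absurd h' h⟩
  choose qB' qA' hqB' hqA' hoverB' hoverA' hcomap using hall'
  -- the properties at the good indices
  have key : ∀ j : Fin 𝒟.n,
      (haveI := hqB' j; haveI := hoverB' j; FlatCA.PurelyTranscendental p' (qB' j)) ∧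
      (∀ (Q₁ : Ideal (𝒟'.A j)) [Q₁.IsPrime], Q₁.LiesOver (qB' j) → Q₁ = qA' j) ∧
      FlatCA.SmoothRelDim (𝒜.d j) R' (𝒟'.B j) ∧
      ∃ (x : PrimeSpectrum (p'.Fiber (𝒟'.B j)))
        (hx : x ∈ Module.support (p'.Fiber (𝒟'.B j)) (FlatCA.fiberMod p' (𝒟'.B j) (𝒟'.M j))),
        x.asIdeal = FlatCA.fiberIdeal p' (qB' j) ∧
        FlatMor.localDim (Module.support (p'.Fiber (𝒟'.B j))
          (FlatCA.fiberMod p' (𝒟'.B j) (𝒟'.M j))) ⟨x, hx⟩ = 𝒜.d j := by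
    intro j
    haveI := (hall j).1
    haveI := (hall j).2.1
    haveI := hqB' j
    haveI := hqA' j
    haveI := hoverB' j
    haveI := hoverA' j
    haveI := 𝒜.hqB j
    haveI := 𝒜.hqA j
    haveI := 𝒜.overB j
    haveI := 𝒜.overA j
    obtain ⟨hQq, hPq⟩ := hcomap j j.2
    haveI : (qB' j).LiesOver (𝒜.qB j) := ⟨hQq.symm⟩
    have hqA'p' : (qA' j).comap (algebraMap R' (𝒟'.A j)) = p' := by
      rw [IsScalarTower.algebraMap_eq R' (𝒟'.B j) (𝒟'.A j), ← Ideal.comap_comap,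
        ← Ideal.under_def (𝒟'.B j) (qA' j), ← (hoverA' j).over, ← Ideal.under_def R' (qB' j),
        ← (hoverB' j).over]
    refine ⟨?_, ?_, ?_, ?_⟩
    · exact purelyTranscendental_baseChange p p' hκ (𝒜.qB j) (qB' j) (𝒜.pureTrans j j.2)
    · intro Q₁ _ hQ₁
      exact uniq_of_uniq p p' hκ (B := 𝒟.B j) (B' := 𝒟'.B j) (A := 𝒟.A j) (A' := 𝒟'.A j)
        (𝒜.qB j) (𝒜.qA j) (fun Q _ hQ => 𝒜.uniq j j.2 Q ⟨hQ.symm⟩) (qB' j) hQq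
        (hoverB' j).over.symm (qA' j) hPq hqA'p' Q₁ hQ₁.over.symm
    · exact smoothRelDim_baseChange (R := R) (R' := R') (D := 𝒟.B j) (D' := 𝒟'.B j) (𝒜.d j)
        (𝒜.relDim j j.2)
    · haveI := 𝒟.finiteBA j j.2
      haveI := 𝒟.finiteM j j.2
      haveI : Module.Finite (𝒟.B j) (𝒟.M j) := Module.Finite.trans (𝒟.A j) (𝒟.M j)
      letI : Module (𝒟.B j) (𝒟'.M j) := Module.compHom (𝒟'.M j) (algebraMap (𝒟.B j) (𝒟.A j))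
      haveI : IsScalarTower (𝒟.B j) (𝒟.A j) (𝒟'.M j) :=
        IsScalarTower.of_algebraMap_smul fun _ _ => rfl
      haveI : IsScalarTower (𝒟.B j) (𝒟'.B j) (𝒟'.M j) :=
        IsScalarTower.of_algebraMap_smul fun b m => by
          change _ = algebraMap (𝒟.B j) (𝒟.A j) b • m
          rw [← algebraMap_smul (𝒟'.A j) (algebraMap (𝒟.B j) (𝒟'.B j) b) m,
            ← IsScalarTower.algebraMap_apply (𝒟.B j) (𝒟'.B j) (𝒟'.A j),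
            IsScalarTower.algebraMap_apply (𝒟.B j) (𝒟.A j) (𝒟'.A j),
            algebraMap_smul (𝒟'.A j) (algebraMap (𝒟.B j) (𝒟.A j) b) m]
      haveI : Algebra.IsPushout (𝒟.B j) (𝒟'.B j) (𝒟.A j) (𝒟'.A j) :=
        isPushout_of_isPushout R R' (𝒟.B j) (𝒟'.B j) (𝒟.A j) (𝒟'.A j)
      have hfj : IsBaseChange (𝒟'.B j) ((gM j).restrictScalars (𝒟.B j)) :=
        isBaseChange_restrictScalars (B := 𝒟.B j) (B' := 𝒟'.B j) (A := 𝒟.A j) (A' := 𝒟'.A j)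
          (gM j) (hall j).2.2
      exact exists_xi' p p' hκ (𝒟.M j) (𝒟'.M j) ((gM j).restrictScalars (𝒟.B j)) hfj
        (𝒜.qB j) (qB' j) (𝒜.d j) (𝒜.locDim j j.2)
  have hqA'p' : ∀ i : ℕ, (qA' i).comap (algebraMap R' (𝒟'.A i)) = p' := by
    intro i
    rw [IsScalarTower.algebraMap_eq R' (𝒟'.B i) (𝒟'.A i), ← Ideal.comap_comap,
      ← Ideal.under_def (𝒟'.B i) (qA' i), ← (hoverA' i).over, ← Ideal.under_def R' (qB' i),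
      ← (hoverB' i).over]
  -- the first prime
  have hq0 : (qA' (⟨0, 𝒟.pos⟩ : Fin 𝒟.n)).comap
      (algebraMap S' (𝒟'.A (⟨0, 𝒟.pos⟩ : Fin 𝒟.n))) = q' := by
    haveI := (hall ⟨0, 𝒟.pos⟩).1
    haveI := hqA' (⟨0, 𝒟.pos⟩ : Fin 𝒟.n)
    haveI : IsScalarTower S (𝒟.A (⟨0, 𝒟.pos⟩ : Fin 𝒟.n)) (𝒟'.A (⟨0, 𝒟.pos⟩ : Fin 𝒟.n)) := hS0
    exact comap_eq_of_comap_eq p p' hκ (B := S) (B' := S')
      (A := 𝒟.A (⟨0, 𝒟.pos⟩ : Fin 𝒟.n)) (A' := 𝒟'.A (⟨0, 𝒟.pos⟩ : Fin 𝒟.n))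
      q (𝒜.qA (⟨0, 𝒟.pos⟩ : Fin 𝒟.n)) 𝒜.q0 q'
      (Ideal.LiesOver.over (p := q) (P := q')).symm
      (Ideal.LiesOver.over (p := p') (P := q')).symm
      (qA' (⟨0, 𝒟.pos⟩ : Fin 𝒟.n)) (hcomap _ 𝒟.pos).2 (hqA'p' _)
  -- the steps
  have hqStep : ∀ (j : Fin 𝒟.n) (h : (j : ℕ) + 1 < 𝒟.n),
      (qA' (⟨j + 1, h⟩ : Fin 𝒟.n)).comap
        (algebraMap (𝒟'.B j) (𝒟'.A (⟨j + 1, h⟩ : Fin 𝒟.n))) = qB' j := by
    intro j h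
    haveI := (hall j).2.1
    haveI := (hall ⟨j + 1, h⟩).1
    haveI := hqB' j
    haveI := hqA' (⟨j + 1, h⟩ : Fin 𝒟.n)
    haveI : IsScalarTower (𝒟.B j) (𝒟.A (⟨j + 1, h⟩ : Fin 𝒟.n)) (𝒟'.A (⟨j + 1, h⟩ : Fin 𝒟.n)) :=
      hstep j h
    exact comap_eq_of_comap_eq p p' hκ (B := 𝒟.B j) (B' := 𝒟'.B j)
      (A := 𝒟.A (⟨j + 1, h⟩ : Fin 𝒟.n)) (A' := 𝒟'.A (⟨j + 1, h⟩ : Fin 𝒟.n))
      (𝒜.qB j) (𝒜.qA (⟨j + 1, h⟩ : Fin 𝒟.n)) (𝒜.qStep j h) (qB' j) (hcomap j j.2).1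
      (hoverB' j).over.symm (qA' (⟨j + 1, h⟩ : Fin 𝒟.n)) (hcomap _ h).2 (hqA'p' _)
  refine ⟨{ qB := qB', qA := qA', hqB := hqB', hqA := hqA', overB := hoverB', overA := hoverA',
            pureTrans := ?_, uniq := ?_, q0 := hq0, qStep := ?_, d := 𝒜.d, relDim := ?_,
            locDim := ?_ }, rfl, ?_⟩
  · intro i hi
    exact (key ⟨i, hn ▸ hi⟩).1
  · intro i hi Q₁ _ hQ₁
    exact (key ⟨i, hn ▸ hi⟩).2.1 Q₁ hQ₁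
  · intro i hi
    have hi' : i + 1 < 𝒟.n := by omega
    exact hqStep ⟨i, Nat.lt_of_succ_lt hi'⟩ hi' 
  · intro i hi
    exact (key ⟨i, hn ▸ hi⟩).2.2.1
  · intro i hi
    exact (key ⟨i, hn ▸ hi⟩).2.2.2
  · intro i
    exact ⟨⟨((hcomap i i.2).1).symm⟩, ⟨((hcomap i i.2).2).symm⟩⟩

end Groth.Agent.Lib.Helper15.CDA
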