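import Mathlib
import Groth.Prelude.Def_FlatCA
import Groth.Agent.Lib.Helper15.CDB6

/-!
# Base change of complete dévissages: the maps from the free modules
-/

set_option autoImplicit false
universe u

namespace Groth.Agent.Lib.Helper15.CDB

open TensorProduct

attribute [local instance] Algebra.TensorProduct.rightAlgebra

section Generic

variable {B B' : Type u} [CommRing B] [CommRing B'] [Algebra B B']
  {M M' : Type u} [AddCommGroup M] [AddCommGroup M'] [Module B M] [Module B' M'] [Module B M']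
  [IsScalarTower B B' M']

theorem span_range_eq_top_of_isBaseChange (g : M →ₗ[B] M') (hg : IsBaseChange B' g) :
    Submodule.span B' (Set.range g) = ⊤ := by
  rw [eq_top_iff]
  intro x _
  refine hg.inductionOn x (fun x => x ∈ Submodule.span B' (Set.range g)) ?_ ?_ ?_ ?_
  · exact Submodule.zero_mem _
  · intro m
    exact Submodule.subset_span ⟨m, rfl⟩
  · intro s n hn
    exact Submodule.smul_mem _ s hn
  · intro n₁ n₂ h₁ h₂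
    exact Submodule.add_mem _ h₁ h₂

end Generic

section Alpha

variable {R S : Type u} [CommRing R] [CommRing S] [Algebra R S]
  {N : Type u} [AddCommGroup N] [Module S N] {p : Ideal R} [p.IsPrime]
  (𝒟 : FlatCA.CompleteDevissage R S N p)
  (R' : Type u) [CommRing R'] [Algebra R R']

/-- the base-changed maps from the free modules -/
noncomputable def α' (i : ℕ) : (Fin (𝒟.r i) → B' 𝒟 R' i) →ₗ[B' 𝒟 R' i] M' 𝒟 R' i :=
  Fintype.linearCombination (B' 𝒟 R' i) (fun j => gM 𝒟 R' i (𝒟.α i (Pi.single j 1)))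

/-- the base change map of the modules, as a `B_i`-linear map -/
noncomputable def gMB (i : ℕ) : 𝒟.M i →ₗ[𝒟.B i] M' 𝒟 R' i :=
  (gM 𝒟 R' i).restrictScalars (𝒟.B i)

/-- the base change map of the next modules, as a `B_i`-linear map -/
noncomputable def gMBsucc (i : ℕ) : 𝒟.M (i + 1) →ₗ[𝒟.B i] M' 𝒟 R' (i + 1) :=
  (gM 𝒟 R' (i + 1)).restrictScalars (𝒟.B i)

theorem gMB_isBaseChange (i : ℕ) [Fact (i < 𝒟.n)] :
    IsBaseChange (B' 𝒟 R' i) (gMB 𝒟 R' i) :=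
  isBaseChange_restrictScalars (B := 𝒟.B i) (B' := B' 𝒟 R' i) (A := 𝒟.A i) (A' := A' 𝒟 R' i)
    (gM 𝒟 R' i) (gM_isBaseChange 𝒟 R' i)

theorem gMBsucc_isBaseChange (i : ℕ) [Fact (i < 𝒟.n)] :
    IsBaseChange (B' 𝒟 R' i) (gMBsucc 𝒟 R' i) :=
  isBaseChange_restrictScalars (B := 𝒟.B i) (B' := B' 𝒟 R' i) (A := 𝒟.A (i + 1))
    (A' := A' 𝒟 R' (i + 1)) (gM 𝒟 R' (i + 1)) (gM_isBaseChange 𝒟 R' (i + 1))

theorem α'_compLeft (i : ℕ) [Fact (i < 𝒟.n)] (x : Fin (𝒟.r i) → 𝒟.B i) :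
    α' 𝒟 R' i (((Algebra.linearMap (𝒟.B i) (B' 𝒟 R' i)).compLeft (Fin (𝒟.r i))) x) =
      gMB 𝒟 R' i (𝒟.α i x) :=
  linearCombination_compLeft (B := 𝒟.B i) (B' := B' 𝒟 R' i) (gMB 𝒟 R' i) (𝒟.α i) x

theorem range_α' (i : ℕ) [Fact (i < 𝒟.n)] :
    LinearMap.range (α' 𝒟 R' i) =
      Submodule.span (B' 𝒟 R' i) ((gM 𝒟 R' i) '' (LinearMap.range (𝒟.α i) : Set (𝒟.M i))) :=
  range_linearCombination_eq (B := 𝒟.B i) (B' := B' 𝒟 R' i) (gMB 𝒟 R' i) (𝒟.α i)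

theorem cokerLast' : Function.Surjective (α' 𝒟 R' (𝒟.n - 1)) := by
  haveI : Fact (𝒟.n - 1 < 𝒟.n) := ⟨Nat.sub_lt 𝒟.pos Nat.one_pos⟩
  rw [← LinearMap.range_eq_top, range_α']
  have h1 : LinearMap.range (𝒟.α (𝒟.n - 1)) = ⊤ := LinearMap.range_eq_top.mpr 𝒟.cokerLast
  rw [h1]
  have h2 := span_range_eq_top_of_isBaseChange (gMB 𝒟 R' (𝒟.n - 1))
    (gMB_isBaseChange 𝒟 R' (𝒟.n - 1))
  rw [← h2]
  congr 1
  ext x
  simp only [Submodule.top_coe, Set.image_univ, Set.mem_range]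
  rfl

theorem isoCoker' (i : ℕ) (hi : i + 1 < 𝒟.n) :
    Nonempty ((M' 𝒟 R' i ⧸ LinearMap.range (α' 𝒟 R' i)) ≃ₗ[B' 𝒟 R' i] M' 𝒟 R' (i + 1)) := by
  haveI : Fact (i < 𝒟.n) := ⟨Nat.lt_of_succ_lt hi⟩
  exact nonempty_cokerEquiv (B := 𝒟.B i) (B' := B' 𝒟 R' i)
    ((Algebra.linearMap (𝒟.B i) (B' 𝒟 R' i)).compLeft (Fin (𝒟.r i)))
    (IsBaseChange.finitePow (Fin (𝒟.r i)) (IsBaseChange.linearMap (𝒟.B i) (B' 𝒟 R' i)))
    (gMB 𝒟 R' i) (gMB_isBaseChange 𝒟 R' i)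
    (gMBsucc 𝒟 R' i) (gMBsucc_isBaseChange 𝒟 R' i)
    (𝒟.α i) (α' 𝒟 R' i) (α'_compLeft 𝒟 R' i) (𝒟.isoCoker i hi)

theorem surjBA'' (i : ℕ) (hi : i + 1 < 𝒟.n) :
    Function.Surjective (algebraMap (B' 𝒟 R' i) (A' 𝒟 R' (i + 1))) := by
  haveI : Fact (i < 𝒟.n) := ⟨Nat.lt_of_succ_lt hi⟩
  exact surjective_of_isPushout (S := 𝒟.B i) (S' := B' 𝒟 R' i) (C := 𝒟.A (i + 1))
    (C' := A' 𝒟 R' (i + 1)) (𝒟.surjBA' i hi)

theorem fpBA'' (i : ℕ) (hi : i + 1 < 𝒟.n) :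
    Algebra.FinitePresentation (B' 𝒟 R' i) (A' 𝒟 R' (i + 1)) := by
  haveI : Fact (i < 𝒟.n) := ⟨Nat.lt_of_succ_lt hi⟩
  haveI := 𝒟.fpBA' i hi
  exact finitePresentation_of_isPushout (S := 𝒟.B i) (S' := B' 𝒟 R' i) (C := 𝒟.A (i + 1))
    (C' := A' 𝒟 R' (i + 1))

end Alpha

end Groth.Agent.Lib.Helper15.CDB
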