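import Mathlib
import Groth.Prelude.Def_FlatCA
import Groth.Agent.Lib.Helper15.CDB7

/-!
# Base change of complete dévissages: the fibre isomorphisms
-/

set_option autoImplicit false
universe u

namespace Groth.Agent.Lib.Helper15.CDB

open TensorProduct

attribute [local instance] Algebra.TensorProduct.rightAlgebra

section Fibre

variable {R S : Type u} [CommRing R] [CommRing S] [Algebra R S]
  {N : Type u} [AddCommGroup N] [Module S N] {p : Ideal R} [p.IsPrime]
  (𝒟 : FlatCA.CompleteDevissage R S N p)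
  (R' : Type u) [CommRing R'] [Algebra R R']

theorem liesOverB' (p' : Ideal R') [p'.IsPrime] [p'.LiesOver p] (i : ℕ) (hi : i < 𝒟.n) :
    haveI : Fact (i < 𝒟.n) := ⟨hi⟩
    (p'.map (algebraMap R' (B' 𝒟 R' i))).LiesOver (p.map (algebraMap R (𝒟.B i))) := by
  haveI : Fact (i < 𝒟.n) := ⟨hi⟩
  haveI := 𝒟.smooth i hi
  exact map_liesOver_map p p'

theorem fibreIso' (p' : Ideal R') [p'.IsPrime] [p'.LiesOver p] (i : ℕ) (hi : i < 𝒟.n) :
    haveI := primeB' 𝒟 R' p' i
    Function.Bijective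
      ((α' 𝒟 R' i).baseChange (p'.map (algebraMap R' (B' 𝒟 R' i))).ResidueField) := by
  haveI : Fact (i < 𝒟.n) := ⟨hi⟩
  haveI hP' := primeB' 𝒟 R' p' i
  haveI hlo := liesOverB' 𝒟 R' p' i hi
  letI : Algebra (p.map (algebraMap R (𝒟.B i))).ResidueField
      (p'.map (algebraMap R' (B' 𝒟 R' i))).ResidueField :=
    (Ideal.ResidueField.map (p.map (algebraMap R (𝒟.B i)))
      (p'.map (algebraMap R' (B' 𝒟 R' i))) (algebraMap (𝒟.B i) (B' 𝒟 R' i)) hlo.over).toAlgebra
  haveI : IsScalarTower (𝒟.B i) (p.map (algebraMap R (𝒟.B i))).ResidueField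
      (p'.map (algebraMap R' (B' 𝒟 R' i))).ResidueField :=
    .of_algebraMap_eq fun b => by
      rw [RingHom.algebraMap_toAlgebra, Ideal.ResidueField.map_algebraMap,
        ← IsScalarTower.algebraMap_apply]
  exact bijective_baseChange_of_comm (B := 𝒟.B i) (B' := B' 𝒟 R' i)
    (K := (p.map (algebraMap R (𝒟.B i))).ResidueField)
    (K' := (p'.map (algebraMap R' (B' 𝒟 R' i))).ResidueField)
    ((Algebra.linearMap (𝒟.B i) (B' 𝒟 R' i)).compLeft (Fin (𝒟.r i)))
    (IsBaseChange.finitePow (Fin (𝒟.r i)) (IsBaseChange.linearMap (𝒟.B i) (B' 𝒟 R' i)))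
    (gMB 𝒟 R' i) (gMB_isBaseChange 𝒟 R' i)
    (𝒟.α i) (α' 𝒟 R' i) (α'_compLeft 𝒟 R' i) (𝒟.fibreIso i hi)

end Fibre

end Groth.Agent.Lib.Helper15.CDB
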