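import Mathlib
import Groth.Prelude.Def_FlatCA
import Groth.Agent.Lib.Helper15.CDB8

/-!
# Base change of complete dévissages: the structure over `S'`
-/

set_option autoImplicit false
universe u

namespace Groth.Agent.Lib.Helper15.CDB

open TensorProduct

attribute [local instance] Algebra.TensorProduct.rightAlgebra

section OverS

variable {R S : Type u} [CommRing R] [CommRing S] [Algebra R S]
  {N : Type u} [AddCommGroup N] [Module S N] {p : Ideal R} [p.IsPrime]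
  (𝒟 : FlatCA.CompleteDevissage R S N p)
  (R' : Type u) [CommRing R'] [Algebra R R']
  (S' : Type u) [CommRing S'] [Algebra R' S'] [Algebra R S'] [Algebra S S']
  [IsScalarTower R R' S'] [IsScalarTower R S S'] [Algebra.IsPushout R R' S S']

/-- the map `S' → A'_0` -/
noncomputable def toA'0 : S' →ₐ[R] A' 𝒟 R' 0 :=
  Algebra.pushoutDesc (R := R) (S := R') (R' := S) S'
    (IsScalarTower.toAlgHom R R' (A' 𝒟 R' 0))
    ((IsScalarTower.toAlgHom R (𝒟.A 0) (A' 𝒟 R' 0)).comp (IsScalarTower.toAlgHom R S (𝒟.A 0)))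
    (fun _ _ => mul_comm _ _)

theorem toA'0_left (r : R') : toA'0 𝒟 R' S' (algebraMap R' S' r) = algebraMap R' (A' 𝒟 R' 0) r :=
  Algebra.pushoutDesc_left (R := R) (S := R') (R' := S) S' _ _ _ r

theorem toA'0_right (s : S) :
    toA'0 𝒟 R' S' (algebraMap S S' s) = algebraMap (𝒟.A 0) (A' 𝒟 R' 0) (algebraMap S (𝒟.A 0) s) :=
  Algebra.pushoutDesc_right (R := R) (S := R') (R' := S) S' _ _ _ s

noncomputable instance algS'A'0 : Algebra S' (A' 𝒟 R' 0) :=
  (toA'0 𝒟 R' S').toRingHom.toAlgebra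

instance : IsScalarTower R' S' (A' 𝒟 R' 0) :=
  IsScalarTower.of_algebraMap_eq fun r => (toA'0_left 𝒟 R' S' r).symm

noncomputable instance algSA'0 : Algebra S (A' 𝒟 R' 0) :=
  ((algebraMap (𝒟.A 0) (A' 𝒟 R' 0)).comp (algebraMap S (𝒟.A 0))).toAlgebra

instance : IsScalarTower S (𝒟.A 0) (A' 𝒟 R' 0) :=
  IsScalarTower.of_algebraMap_eq fun _ => rfl

instance : IsScalarTower S S' (A' 𝒟 R' 0) :=
  IsScalarTower.of_algebraMap_eq fun s => (toA'0_right 𝒟 R' S' s).symm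

instance isPushoutSA : Algebra.IsPushout S S' (𝒟.A 0) (A' 𝒟 R' 0) :=
  isPushout_of_isPushout R R' S S' (𝒟.A 0) (A' 𝒟 R' 0)

theorem surjSA' : Function.Surjective (algebraMap S' (A' 𝒟 R' 0)) :=
  surjective_of_isPushout (S := S) (S' := S') (C := 𝒟.A 0) (C' := A' 𝒟 R' 0) 𝒟.surjSA

theorem fpSA' : Algebra.FinitePresentation S' (A' 𝒟 R' 0) := by
  haveI := 𝒟.fpSA
  exact finitePresentation_of_isPushout (S := S) (S' := S') (C := 𝒟.A 0) (C' := A' 𝒟 R' 0)

noncomputable instance modS'M'0 : Module S' (M' 𝒟 R' 0) :=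
  Module.compHom (M' 𝒟 R' 0) (algebraMap S' (A' 𝒟 R' 0))

instance : IsScalarTower S' (A' 𝒟 R' 0) (M' 𝒟 R' 0) :=
  IsScalarTower.of_algebraMap_smul fun _ _ => rfl

noncomputable instance modSM'0 : Module S (M' 𝒟 R' 0) :=
  Module.compHom (M' 𝒟 R' 0) (algebraMap S (A' 𝒟 R' 0))

instance : IsScalarTower S (A' 𝒟 R' 0) (M' 𝒟 R' 0) :=
  IsScalarTower.of_algebraMap_smul fun _ _ => rfl

instance : IsScalarTower S (𝒟.A 0) (M' 𝒟 R' 0) :=
  IsScalarTower.of_algebraMap_smul fun s m => by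
    change _ = algebraMap S (A' 𝒟 R' 0) s • m
    rw [IsScalarTower.algebraMap_apply S (𝒟.A 0) (A' 𝒟 R' 0),
      algebraMap_smul (A' 𝒟 R' 0) (algebraMap S (𝒟.A 0) s) m]

instance : IsScalarTower S S' (M' 𝒟 R' 0) :=
  IsScalarTower.of_algebraMap_smul fun s m => by
    change algebraMap S' (A' 𝒟 R' 0) (algebraMap S S' s) • m = algebraMap S (A' 𝒟 R' 0) s • m
    rw [← IsScalarTower.algebraMap_apply S S' (A' 𝒟 R' 0)]

/-- the base change map of the first module, as an `S`-linear map -/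
noncomputable def gMS : 𝒟.M 0 →ₗ[S] M' 𝒟 R' 0 :=
  (gM 𝒟 R' 0).restrictScalars S

theorem gMS_isBaseChange : IsBaseChange S' (gMS 𝒟 R') :=
  isBaseChange_restrictScalars (B := S) (B' := S') (A := 𝒟.A 0) (A' := A' 𝒟 R' 0)
    (gM 𝒟 R' 0) (gM_isBaseChange 𝒟 R' 0)

variable {N' : Type u} [AddCommGroup N'] [Module S' N'] [Module S N'] [IsScalarTower S S' N']
  (f : N →ₗ[S] N') (hf : IsBaseChange S' f)

theorem gMS_comp_isBaseChange :
    IsBaseChange S' ((gMS 𝒟 R').comp 𝒟.isoN.toLinearMap) :=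
  IsBaseChange.comp_equiv 𝒟.isoN (gMS 𝒟 R') (gMS_isBaseChange 𝒟 R' S')

/-- the identification of `N'` with the first base-changed module -/
noncomputable def isoN' : N' ≃ₗ[S'] M' 𝒟 R' 0 :=
  hf.equiv.symm ≪≫ₗ (gMS_comp_isBaseChange 𝒟 R' S').equiv

theorem isoN'_apply (x : N) : isoN' 𝒟 R' S' f hf (f x) = gM 𝒟 R' 0 (𝒟.isoN x) := by
  unfold isoN'
  rw [LinearEquiv.trans_apply, hf.equiv_symm_apply, IsBaseChange.equiv_tmul, one_smul]
  rfl

end OverS

end Groth.Agent.Lib.Helper15.CDB
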