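import Mathlib
import Groth.Prelude.Def_FlatCA
import Groth.Agent.Lib.Helper15.CDB9

/-!
# Base change of complete dévissages: the base-changed dévissage
-/

set_option autoImplicit false
universe u

namespace Groth.Agent.Lib.Helper15.CDB

open TensorProduct

attribute [local instance] Algebra.TensorProduct.rightAlgebra

section Assemble

variable {R S : Type u} [CommRing R] [CommRing S] [Algebra R S]
  {N : Type u} [AddCommGroup N] [Module S N] {p : Ideal R} [p.IsPrime]
  (𝒟 : FlatCA.CompleteDevissage R S N p)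
  (R' : Type u) [CommRing R'] [Algebra R R'] (p' : Ideal R') [p'.IsPrime] [p'.LiesOver p]
  (S' : Type u) [CommRing S'] [Algebra R' S'] [Algebra R S'] [Algebra S S']
  [IsScalarTower R R' S'] [IsScalarTower R S S'] [Algebra.IsPushout R R' S S']
  {N' : Type u} [AddCommGroup N'] [Module S' N'] [Module S N'] [IsScalarTower S S' N']
  (f : N →ₗ[S] N') (hf : IsBaseChange S' f)

/-- the base-changed complete dévissage -/
noncomputable def bcDev : FlatCA.CompleteDevissage R' S' N' p' where
  n := 𝒟.n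
  pos := 𝒟.pos
  A := A' 𝒟 R'
  B := B' 𝒟 R'
  M := M' 𝒟 R'
  r := 𝒟.r
  cA := fun i => inferInstance
  cB := fun i => inferInstance
  aRA := fun i => inferInstance
  aRB := fun i => inferInstance
  aBA := fun i => algB'A' 𝒟 R' i
  tRBA := fun i => inferInstance
  aSA := algS'A'0 𝒟 R' S'
  tRSA := inferInstance
  aBA' := fun i => algB'A'succ 𝒟 R' i
  tRBA' := fun i => inferInstance
  gM := fun i => inferInstance
  mAM := fun i => inferInstance
  mBM := fun i => modB'M' 𝒟 R' i
  tBAM := fun i => inferInstance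
  mRM := fun i => modR'M' 𝒟 R' i
  tRBM := fun i => inferInstance
  mSM := modS'M'0 𝒟 R' S'
  tSAM := inferInstance
  mB'M := fun i => modB'M'succ 𝒟 R' i
  tB'AM := fun i => inferInstance
  hp := fun i => primeB' 𝒟 R' p' i
  α := α' 𝒟 R'
  surjSA := surjSA' 𝒟 R' S'
  fpSA := fpSA' 𝒟 R' S'
  surjBA' := surjBA'' 𝒟 R'
  fpBA' := fpBA'' 𝒟 R'
  finiteBA := finiteBA' 𝒟 R'
  smooth := smoothB' 𝒟 R'
  geomIrred := geomIrredB' 𝒟 R'
  finiteM := finiteM' 𝒟 R'
  isoN := isoN' 𝒟 R' S' f hf
  isoCoker := fun i hi => (isoCoker' 𝒟 R' i hi).some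
  fibreIso := fibreIso' 𝒟 R' p'
  cokerLast := cokerLast' 𝒟 R'

end Assemble

end Groth.Agent.Lib.Helper15.CDB
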