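import Mathlib
import Groth.Prelude.Def_FlatCA
import Groth.Agent.Lib.Helper15.CDB10

/-!
# Base change of complete dévissages: the statement
-/

set_option autoImplicit false
universe u

namespace Groth.Agent.Lib.Helper15.CDB

open TensorProduct

theorem main12243
    (R S : Type u) [CommRing R] [CommRing S] [Algebra R S] [Algebra.FiniteType R S]
    (N : Type u) [AddCommGroup N] [Module S N] [Module.Finite S N]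
    (p : Ideal R) [p.IsPrime] (𝒟 : FlatCA.CompleteDevissage R S N p)
    (R' : Type u) [CommRing R'] [Algebra R R'] (p' : Ideal R') [p'.IsPrime] [p'.LiesOver p]
    (S' : Type u) [CommRing S'] [Algebra R' S'] [Algebra R S'] [Algebra S S'] [IsScalarTower R R' S']
    [IsScalarTower R S S'] [Algebra.IsPushout R R' S S']
    (N' : Type u) [AddCommGroup N'] [Module S' N'] [Module S N'] [IsScalarTower S S' N']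
    (f : N →ₗ[S] N') (hf : IsBaseChange S' f) :
    ∃ (𝒟' : FlatCA.CompleteDevissage R' S' N' p')
      (aA : ∀ i : Fin 𝒟.n, Algebra (𝒟.A i) (𝒟'.A i)) (rA : ∀ i : Fin 𝒟.n, Algebra R (𝒟'.A i))
      (_t1 : ∀ i : Fin 𝒟.n, IsScalarTower R (R') (𝒟'.A i)) (_t2 : ∀ i : Fin 𝒟.n, IsScalarTower R (𝒟.A i) (𝒟'.A i))
      (aB : ∀ i : Fin 𝒟.n, Algebra (𝒟.B i) (𝒟'.B i)) (rB : ∀ i : Fin 𝒟.n, Algebra R (𝒟'.B i))
      (_t3 : ∀ i : Fin 𝒟.n, IsScalarTower R (R') (𝒟'.B i)) (_t4 : ∀ i : Fin 𝒟.n, IsScalarTower R (𝒟.B i) (𝒟'.B i))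
      (bA : ∀ i : Fin 𝒟.n, Algebra (𝒟.B i) (𝒟'.A i)) (_t5 : ∀ i : Fin 𝒟.n, IsScalarTower (𝒟.B i) (𝒟.A i) (𝒟'.A i))
      (_t6 : ∀ i : Fin 𝒟.n, IsScalarTower (𝒟.B i) (𝒟'.B i) (𝒟'.A i))
      (bA' : ∀ i : Fin 𝒟.n, Algebra (𝒟.B i) (𝒟'.A (i + 1)))
      (_t7 : ∀ i : Fin 𝒟.n, IsScalarTower (𝒟.B i) (𝒟'.B i) (𝒟'.A (i + 1)))
      (sA : Algebra S (𝒟'.A 0)) (_t8 : IsScalarTower S (S') (𝒟'.A 0))
      (mA : ∀ i : Fin 𝒟.n, Module (𝒟.A i) (𝒟'.M i)) (_t9 : ∀ i : Fin 𝒟.n, IsScalarTower (𝒟.A i) (𝒟'.A i) (𝒟'.M i))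
      (gM : ∀ i : Fin 𝒟.n, 𝒟.M i →ₗ[𝒟.A i] 𝒟'.M i),
      𝒟'.n = 𝒟.n ∧ 𝒟'.r = 𝒟.r ∧
      (letI := aA ⟨0, 𝒟.pos⟩; IsScalarTower S (𝒟.A 0) (𝒟'.A 0)) ∧
      (∀ x : N, 𝒟'.isoN (f x) = gM ⟨0, 𝒟.pos⟩ (𝒟.isoN x)) ∧
      (∀ (i : Fin 𝒟.n) (h : (i : ℕ) + 1 < 𝒟.n),
        letI := aA ⟨i + 1, h⟩; IsScalarTower (𝒟.B i) (𝒟.A (i + 1)) (𝒟'.A (i + 1))) ∧
      ∀ i : Fin 𝒟.n,
        Algebra.IsPushout R R' (𝒟.A i) (𝒟'.A i) ∧ Algebra.IsPushout R R' (𝒟.B i) (𝒟'.B i) ∧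
        IsBaseChange (𝒟'.A i) (gM i) ∧
        LinearMap.range (𝒟'.α i) =
          Submodule.span (𝒟'.B i) ((gM i) '' (LinearMap.range (𝒟.α i) : Set (𝒟.M i))) := by
  refine ⟨bcDev 𝒟 R' p' S' f hf,
    fun i => inferInstanceAs (Algebra (𝒟.A i) (A' 𝒟 R' i)),
    fun i => inferInstanceAs (Algebra R (A' 𝒟 R' i)),
    fun i => inferInstanceAs (IsScalarTower R R' (A' 𝒟 R' i)),
    fun i => inferInstanceAs (IsScalarTower R (𝒟.A i) (A' 𝒟 R' i)),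
    fun i => haveI : Fact ((i : ℕ) < 𝒟.n) := ⟨i.2⟩; algBB' 𝒟 R' i,
    fun i => inferInstanceAs (Algebra R (B' 𝒟 R' i)),
    fun i => inferInstanceAs (IsScalarTower R R' (B' 𝒟 R' i)),
    fun i => haveI : Fact ((i : ℕ) < 𝒟.n) := ⟨i.2⟩;
      inferInstanceAs (IsScalarTower R (𝒟.B i) (B' 𝒟 R' i)),
    fun i => algBA' 𝒟 R' i,
    fun i => inferInstanceAs (IsScalarTower (𝒟.B i) (𝒟.A i) (A' 𝒟 R' i)),
    fun i => haveI : Fact ((i : ℕ) < 𝒟.n) := ⟨i.2⟩;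
      inferInstanceAs (IsScalarTower (𝒟.B i) (B' 𝒟 R' i) (A' 𝒟 R' i)),
    fun i => algBA'succ 𝒟 R' i,
    fun i => haveI : Fact ((i : ℕ) < 𝒟.n) := ⟨i.2⟩;
      inferInstanceAs (IsScalarTower (𝒟.B i) (B' 𝒟 R' i) (A' 𝒟 R' (i + 1))),
    algSA'0 𝒟 R',
    inferInstanceAs (IsScalarTower S S' (A' 𝒟 R' 0)),
    fun i => inferInstanceAs (Module (𝒟.A i) (M' 𝒟 R' i)),
    fun i => inferInstanceAs (IsScalarTower (𝒟.A i) (A' 𝒟 R' i) (M' 𝒟 R' i)),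
    fun i => gM 𝒟 R' i, rfl, rfl, ?_, ?_, ?_, ?_⟩
  · exact inferInstanceAs (IsScalarTower S (𝒟.A 0) (A' 𝒟 R' 0))
  · intro x
    exact isoN'_apply 𝒟 R' S' f hf x
  · intro i h
    exact inferInstanceAs (IsScalarTower (𝒟.B i) (𝒟.A (i + 1)) (A' 𝒟 R' (i + 1)))
  · intro i
    haveI : Fact ((i : ℕ) < 𝒟.n) := ⟨i.2⟩
    refine ⟨?_, ?_, ?_, ?_⟩
    · exact inferInstanceAs (Algebra.IsPushout R R' (𝒟.A i) (A' 𝒟 R' i))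
    · exact isPushoutB 𝒟 R' i
    · exact gM_isBaseChange 𝒟 R' i
    · exact range_α' 𝒟 R' i

end Groth.Agent.Lib.Helper15.CDB
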