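import Mathlib
import Groth.Prelude.Def_FlatCA
import Groth.Agent.Lib.Helper18.FACP2

/-!
# Localized maps: injectivity / universal injectivity / flatness in terms of kernel elements
(helper15, for S1205)
-/

set_option autoImplicit false
set_option linter.style.haveILetI false
set_option linter.unusedSectionVars false
set_option linter.style.longLine false
set_option linter.unusedVariables false

universe u

namespace Groth.Agent.Lib.Helper15.FB

open TensorProduct Groth.Agent.Lib.Helper18

section Loc

variable {R S : Type u} [CommRing R] [CommRing S] [Algebra R S]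
  {M N : Type u} [AddCommGroup M] [Module S M] [Module R M] [IsScalarTower R S M]
  [AddCommGroup N] [Module S N] [Module R N] [IsScalarTower R S N]
  (T : Submonoid S) (α : M →ₗ[S] N)

theorem map_apply_eq (y : LocalizedModule T M) :
    LocalizedModule.map T α y =
      IsLocalizedModule.map T (LocalizedModule.mkLinearMap T M) (LocalizedModule.mkLinearMap T N) α y := by
  induction y using LocalizedModule.induction_on with
  | h m s =>
    rw [LocalizedModule.map_mk, IsLocalizedModule.map_LocalizedModules]

theorem injective_map_iff :
    Function.Injective (LocalizedModule.map T α) ↔ ∀ x, α x = 0 → ∃ t ∈ T, t • x = 0 := by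
  rw [← FACP.injective_map_iff T (LocalizedModule.mkLinearMap T M) (LocalizedModule.mkLinearMap T N) α]
  have : ⇑(LocalizedModule.map T α) = ⇑(IsLocalizedModule.map T (LocalizedModule.mkLinearMap T M)
      (LocalizedModule.mkLinearMap T N) α) := funext (map_apply_eq T α)
  rw [this]

theorem injective_map_mono {T T' : Submonoid S} (h : T ≤ T')
    (hi : Function.Injective (LocalizedModule.map T α)) :
    Function.Injective (LocalizedModule.map T' α) := by
  rw [injective_map_iff] at hi ⊢
  intro x hx
  obtain ⟨t, ht, htx⟩ := hi x hx
  exact ⟨t, h ht, htx⟩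

theorem flat_localizedModule_mono {T T' : Submonoid S} (h : T ≤ T')
    (hf : Module.Flat R (LocalizedModule T N)) : Module.Flat R (LocalizedModule T' N) := by
  rw [FACP.flat_isLocalizedModule_iff (R := R) T (LocalizedModule.mkLinearMap T N)] at hf
  rw [FACP.flat_isLocalizedModule_iff (R := R) T' (LocalizedModule.mkLinearMap T' N)]
  intro I z hz
  obtain ⟨t, ht, htz⟩ := hf I z hz
  exact ⟨t, h ht, htz⟩

/-- the tensored localized map, as a map of localizations -/
theorem map_rTensor (Q : Type u) [AddCommGroup Q] [Module R Q] :
    IsLocalizedModule.map T (AlgebraTensorModule.rTensor R Q (LocalizedModule.mkLinearMap T M))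
      (AlgebraTensorModule.rTensor R Q (LocalizedModule.mkLinearMap T N))
      (AlgebraTensorModule.rTensor R Q α) =
    AlgebraTensorModule.rTensor R Q (IsLocalizedModule.map T (LocalizedModule.mkLinearMap T M)
      (LocalizedModule.mkLinearMap T N) α) := by
  apply IsLocalizedModule.linearMap_ext T
    (AlgebraTensorModule.rTensor R Q (LocalizedModule.mkLinearMap T M))
    (AlgebraTensorModule.rTensor R Q (LocalizedModule.mkLinearMap T N))
  rw [IsLocalizedModule.map_comp]
  ext m q
  simp [IsLocalizedModule.map_LocalizedModules]

theorem univInj_map_iff :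
    FlatCA.UnivInj R ((LocalizedModule.map T α).restrictScalars R) ↔
      ∀ (Q : Type u) [AddCommGroup Q] [Module R Q] (z : M ⊗[R] Q),
        (α.restrictScalars R).rTensor Q z = 0 → ∃ t ∈ T, t • z = 0 := by
  unfold FlatCA.UnivInj
  refine forall_congr' fun Q => forall_congr' fun _ => forall_congr' fun _ => ?_
  have h1 := FACP.injective_map_iff T
    (AlgebraTensorModule.rTensor R Q (LocalizedModule.mkLinearMap T M))
    (AlgebraTensorModule.rTensor R Q (LocalizedModule.mkLinearMap T N))
    (AlgebraTensorModule.rTensor R Q α)
  rw [map_rTensor] at h1
  have h2 : Function.Injective (((LocalizedModule.map T α).restrictScalars R).lTensor Q) ↔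
      Function.Injective (AlgebraTensorModule.rTensor R Q (IsLocalizedModule.map T
        (LocalizedModule.mkLinearMap T M) (LocalizedModule.mkLinearMap T N) α)) := by
    have hfun : ∀ w, (AlgebraTensorModule.rTensor R Q (IsLocalizedModule.map T
        (LocalizedModule.mkLinearMap T M) (LocalizedModule.mkLinearMap T N) α)) w =
        ((LocalizedModule.map T α).restrictScalars R).rTensor Q w := by
      intro w
      induction w using TensorProduct.induction_on with
      | zero => simp
      | tmul m q =>
        simp only [AlgebraTensorModule.rTensor_tmul, LinearMap.rTensor_tmul,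
          LinearMap.coe_restrictScalars, map_apply_eq]
      | add a b ha hb => rw [map_add, map_add, ha, hb]
    constructor
    · intro hi a b hab
      rw [hfun, hfun] at hab
      have := LinearMap.rTensor_comm (N := Q) ((LocalizedModule.map T α).restrictScalars R)
      have e1 : ((LocalizedModule.map T α).restrictScalars R).lTensor Q
            ((TensorProduct.comm R Q _).symm a) =
          ((LocalizedModule.map T α).restrictScalars R).lTensor Q
            ((TensorProduct.comm R Q _).symm b) := by
        apply (TensorProduct.comm R Q _).injective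
        rw [← LinearMap.rTensor_comm, ← LinearMap.rTensor_comm, LinearEquiv.apply_symm_apply,
          LinearEquiv.apply_symm_apply, hab]
      exact (TensorProduct.comm R Q _).symm.injective (hi e1)
    · intro hi a b hab
      apply (TensorProduct.comm R Q _).injective
      apply hi
      rw [hfun, hfun, LinearMap.rTensor_comm, LinearMap.rTensor_comm, hab]
  rw [h2, h1]
  refine forall_congr' fun z => ?_
  have : (AlgebraTensorModule.rTensor R Q α) z = (α.restrictScalars R).rTensor Q z := by
    induction z using TensorProduct.induction_on with
    | zero => simp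
    | tmul m q => simp
    | add a b ha hb => rw [map_add, map_add, ha, hb]
  rw [this]

theorem univInj_map_mono {T T' : Submonoid S} (h : T ≤ T')
    (hi : FlatCA.UnivInj R ((LocalizedModule.map T α).restrictScalars R)) :
    FlatCA.UnivInj R ((LocalizedModule.map T' α).restrictScalars R) := by
  rw [univInj_map_iff] at hi ⊢
  intro Q _ _ z hz
  obtain ⟨t, ht, htz⟩ := hi Q z hz
  exact ⟨t, h ht, htz⟩

theorem injective_of_univInj_map
    (hi : FlatCA.UnivInj R ((LocalizedModule.map T α).restrictScalars R)) :
    Function.Injective (LocalizedModule.map T α) := by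
  have h := hi R
  intro a b hab
  have h1 : ((LocalizedModule.map T α).restrictScalars R).lTensor R ((1 : R) ⊗ₜ a) =
      ((LocalizedModule.map T α).restrictScalars R).lTensor R ((1 : R) ⊗ₜ b) := by
    simp only [LinearMap.lTensor_tmul, LinearMap.coe_restrictScalars, hab]
  have h2 := h h1
  have h3 := congrArg (TensorProduct.lid R _) h2
  simpa using h3

end Loc

section Radical

variable {S : Type u} [CommRing S] {W : Type*} [AddCommGroup W] [Module S W]

/-- if an element is killed locally at every prime not containing `g`, a power of `g` kills it -/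
theorem exists_pow_smul_eq_zero (g : S) (z : W)
    (h : ∀ (P : Ideal S) [P.IsPrime], g ∉ P → ∃ t ∉ P, t • z = 0) :
    ∃ n : ℕ, g ^ n • z = 0 := by
  set I : Ideal S := LinearMap.ker (LinearMap.toSpanSingleton S W z) with hI
  have hmem : ∀ s : S, s ∈ I ↔ s • z = 0 := by
    intro s
    rw [hI, LinearMap.mem_ker, LinearMap.toSpanSingleton_apply]
  have hg : g ∈ I.radical := by
    rw [Ideal.radical_eq_sInf, Ideal.mem_sInf]
    rintro P ⟨hIP, hP⟩
    by_contra hgP
    haveI := hP
    obtain ⟨t, htP, htz⟩ := h P hgP
    exact htP (hIP ((hmem t).mpr htz))
  obtain ⟨n, hn⟩ := hg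
  exact ⟨n, (hmem _).mp hn⟩

end Radical

end Groth.Agent.Lib.Helper15.FB
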