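import Mathlib
import Groth.Prelude.Def_FlatCA
import Groth.Agent.Lib.Helper15.FB1
import Groth.Agent.Lib.Helper18.FlA
import Groth.Agent.Lib27.FibInj.AtPrime
import Groth.Agent.Lib27.FibInj.UnivInj
import Groth.Agent.Lib.Helper1.BU2

/-!
# Pieces for S1205: cokernel of a localized map, fibre criterion steps, Nakayama, existence of `α`
-/

set_option autoImplicit false
set_option linter.style.haveILetI false
set_option linter.unusedSectionVars false
set_option linter.style.longLine false
set_option linter.unusedVariables false

universe u

namespace Groth.Agent.Lib.Helper15.FB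

open TensorProduct Groth.Agent.Lib.Helper18

section Pi

variable {R S : Type u} [CommRing R] [CommRing S] [Algebra R S]

theorem smul_mem_smul_top' {M : Type*} [AddCommGroup M] [Module S M] [Module R M]
    [IsScalarTower R S M] (J : Ideal R) (c : S) {y : M}
    (hy : y ∈ J • (⊤ : Submodule R M)) : c • y ∈ J • (⊤ : Submodule R M) := by
  refine Submodule.smul_induction_on hy ?_ ?_
  · intro a ha z _
    rw [smul_comm]
    exact Submodule.smul_mem_smul ha Submodule.mem_top
  · intro z w hz hw
    rw [smul_add]
    exact Submodule.add_mem _ hz hw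

theorem mem_smul_top_pi_iff (J : Ideal R) {r : ℕ} (x : Fin r → S) :
    x ∈ J • (⊤ : Submodule R (Fin r → S)) ↔ ∀ i, x i ∈ J.map (algebraMap R S) := by
  constructor
  · intro hx i
    refine Submodule.smul_induction_on hx ?_ ?_
    · intro a ha m _
      rw [Pi.smul_apply, Algebra.smul_def]
      exact Ideal.mul_mem_right _ _ (Ideal.mem_map_of_mem _ ha)
    · intro y z hy hz
      rw [Pi.add_apply]
      exact Ideal.add_mem _ hy hz
  · intro hx
    have hsingle : ∀ (i : Fin r) (s : S), s ∈ J.map (algebraMap R S) →
        (Pi.single i s : Fin r → S) ∈ J • (⊤ : Submodule R (Fin r → S)) := by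
      intro i s hs
      refine Submodule.span_induction (p := fun s _ => (Pi.single i s : Fin r → S) ∈
        J • (⊤ : Submodule R (Fin r → S))) ?_ ?_ ?_ ?_ hs
      · rintro _ ⟨a, ha, rfl⟩
        have : (Pi.single i (algebraMap R S a) : Fin r → S) = a • (Pi.single i (1 : S)) := by
          rw [← Pi.single_smul, Algebra.smul_def, mul_one]
        rw [this]
        exact Submodule.smul_mem_smul ha Submodule.mem_top
      · rw [Pi.single_zero]; exact Submodule.zero_mem _
      · intro a b _ _ ha hb
        rw [Pi.single_add]; exact Submodule.add_mem _ ha hb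
      · intro c a _ ha
        have : (Pi.single i (c • a) : Fin r → S) = c • (Pi.single i a : Fin r → S) := by
          rw [← Pi.single_smul]
        rw [this]
        exact smul_mem_smul_top' J c ha
    have hsum : x = ∑ i, (Pi.single i (x i) : Fin r → S) := by
      ext j
      simp [Finset.sum_apply, Pi.single_apply]
    rw [hsum]
    exact Submodule.sum_mem _ fun i _ => hsingle i _ (hx i)

end Pi

section Coker

variable {R S : Type u} [CommRing R] [CommRing S] [Algebra R S]
  {M N : Type u} [AddCommGroup M] [Module S M] [Module R M] [IsScalarTower R S M]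
  [AddCommGroup N] [Module S N] [Module R N] [IsScalarTower R S N]
  (T : Submonoid S) (α : M →ₗ[S] N)

theorem ker_map_mkQ :
    LinearMap.ker ((LocalizedModule.map T (LinearMap.range α).mkQ).restrictScalars R) =
      LinearMap.range ((LocalizedModule.map T α).restrictScalars R) := by
  have hex : Function.Exact α (LinearMap.range α).mkQ := LinearMap.exact_map_mkQ_range α
  have h := LocalizedModule.map_exact T α _ hex
  ext y
  rw [LinearMap.mem_ker, LinearMap.mem_range, LinearMap.coe_restrictScalars, map_apply_eq]
  rw [h y]
  constructor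
  · rintro ⟨x, hx⟩
    exact ⟨x, by rw [LinearMap.coe_restrictScalars, map_apply_eq, hx]⟩
  · rintro ⟨x, hx⟩
    refine ⟨x, ?_⟩
    rw [LinearMap.coe_restrictScalars, map_apply_eq] at hx
    exact hx

noncomputable def cokerEquiv :
    (LocalizedModule T N ⧸ LinearMap.range ((LocalizedModule.map T α).restrictScalars R)) ≃ₗ[R]
      LocalizedModule T (N ⧸ LinearMap.range α) :=
  (Submodule.quotEquivOfEq _ _ (ker_map_mkQ T α).symm) ≪≫ₗ
    ((LocalizedModule.map T (LinearMap.range α).mkQ).restrictScalars R).quotKerEquivOfSurjective
      (LocalizedModule.map_surjective T _ (Submodule.mkQ_surjective _))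

theorem flat_coker_iff :
    Module.Flat R (LocalizedModule T N ⧸
      LinearMap.range ((LocalizedModule.map T α).restrictScalars R)) ↔
    Module.Flat R (LocalizedModule T (N ⧸ LinearMap.range α)) :=
  ⟨fun h => Module.Flat.of_linearEquiv (cokerEquiv T α).symm,
   fun h => Module.Flat.of_linearEquiv (cokerEquiv T α)⟩

/-- (6) ⇒ (1) -/
theorem flat_of_injective_of_flat_coker [Module.Flat R (LocalizedModule T M)]
    (hinj : Function.Injective (LocalizedModule.map T α))
    (hfl : Module.Flat R (LocalizedModule T (N ⧸ LinearMap.range α))) :
    Module.Flat R (LocalizedModule T N) := by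
  haveI := hfl
  refine Groth.Agent.Lib.Helper1.BU.flat_middle_of_exact
    ((LocalizedModule.map T α).restrictScalars R)
    ((LocalizedModule.map T (LinearMap.range α).mkQ).restrictScalars R) hinj
    (LocalizedModule.map_surjective T _ (Submodule.mkQ_surjective _)) ?_
  intro y
  have := ker_map_mkQ (R := R) T α
  rw [← LinearMap.mem_ker, this, LinearMap.mem_range]
  rfl

end Coker

end Groth.Agent.Lib.Helper15.FB
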