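import Mathlib
import Groth.Prelude.Def_FlatCA
import Groth.Agent.Lib.Helper15.FB2

/-!
# Pieces for S1205: fibre criterion step (1) ⇒ (6), Nakayama, existence of `α`
-/

set_option autoImplicit false
set_option linter.style.haveILetI false
set_option linter.unusedSectionVars false
set_option linter.style.longLine false
set_option linter.unusedVariables false

universe u

namespace Groth.Agent.Lib.Helper15.FB

open TensorProduct Groth.Agent.Lib.Helper18

section Fibre

variable {R S : Type u} [CommRing R] [CommRing S] [Algebra R S]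
  {N : Type u} [AddCommGroup N] [Module S N] [Module R N] [IsScalarTower R S N]

/-- elements of `rr • N` die in `κ(𝔭) ⊗ N` when `rr S ⊆ 𝔭` -/
theorem one_tmul_eq_zero_of_mem (rr : Ideal R) (P : Ideal S) [P.IsPrime]
    (hle : rr.map (algebraMap R S) ≤ P) {n : N} (hn : n ∈ rr • (⊤ : Submodule R N)) :
    (1 : P.ResidueField) ⊗ₜ[S] n = 0 := by
  refine Submodule.smul_induction_on hn ?_ ?_
  · intro a ha m _
    have h1 : a • m = (algebraMap R S a) • m := by rw [algebraMap_smul]
    rw [h1, ← TensorProduct.smul_tmul, Algebra.smul_def, mul_one]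
    have : algebraMap S P.ResidueField (algebraMap R S a) = 0 := by
      rw [Ideal.algebraMap_residueField_eq_zero]
      exact hle (Ideal.mem_map_of_mem _ ha)
    rw [this, TensorProduct.zero_tmul]
  · intro y z hy hz
    rw [TensorProduct.tmul_add, hy, hz, add_zero]

/-- the coordinates of `y` with `1 ⊗ y = 0` in `κ(P) ⊗ S^r` lie in `P` -/
theorem coord_mem_of_one_tmul_eq_zero (P : Ideal S) [P.IsPrime] {r : ℕ} (y : Fin r → S)
    (hy : (1 : P.ResidueField) ⊗ₜ[S] y = 0) (i : Fin r) : y i ∈ P := by
  let ℓ : P.ResidueField ⊗[S] (Fin r → S) →ₗ[S] P.ResidueField :=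
    (TensorProduct.rid S P.ResidueField).toLinearMap ∘ₗ
      (LinearMap.lTensor P.ResidueField (LinearMap.proj i : (Fin r → S) →ₗ[S] S))
  have h1 : ℓ ((1 : P.ResidueField) ⊗ₜ[S] y) = algebraMap S P.ResidueField (y i) := by
    simp only [ℓ, LinearMap.comp_apply, LinearMap.lTensor_tmul, LinearMap.proj_apply,
      LinearEquiv.coe_coe, TensorProduct.rid_tmul, Algebra.smul_def, mul_one]
  rw [hy, map_zero] at h1
  rw [← Ideal.algebraMap_residueField_eq_zero]
  exact h1.symm

/-- (1) ⇒ (6) -/
theorem injective_and_flat_coker_of_flat [Algebra.FinitePresentation R S]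
    [Module.FinitePresentation S N]
    (rr : Ideal R) [rr.IsPrime] [(rr.map (algebraMap R S)).IsPrime]
    (q : Ideal S) [q.IsPrime] [q.LiesOver rr] {r : ℕ} (α : (Fin r → S) →ₗ[S] N)
    (hb : Function.Injective (α.baseChange (rr.map (algebraMap R S)).ResidueField))
    (hflat : Module.Flat R (LocalizedModule q.primeCompl N)) :
    Function.Injective (LocalizedModule.map q.primeCompl α) ∧
      Module.Flat R (LocalizedModule q.primeCompl (N ⧸ LinearMap.range α)) := by
  haveI := hflat
  have hq : q.comap (algebraMap R S) = rr := ((Ideal.LiesOver.over (p := rr) (P := q))).symm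
  have key : ∀ y : Fin r → S, α y ∈ rr • (⊤ : Submodule R N) →
      y ∈ rr • (⊤ : Submodule R (Fin r → S)) := by
    intro y hy
    have h0 := one_tmul_eq_zero_of_mem rr (rr.map (algebraMap R S)) le_rfl hy
    have h1 : α.baseChange (rr.map (algebraMap R S)).ResidueField
        ((1 : (rr.map (algebraMap R S)).ResidueField) ⊗ₜ[S] y) = 0 := by
      rw [LinearMap.baseChange_tmul, h0]
    have h2 : (1 : (rr.map (algebraMap R S)).ResidueField) ⊗ₜ[S] y = 0 :=
      hb (by rw [h1, map_zero])
    rw [mem_smul_top_pi_iff]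
    intro i
    exact coord_mem_of_one_tmul_eq_zero _ y h2 i
  have hu : ∀ x : Fin r → S,
      (∃ s ∉ q, s • α x ∈ (q.comap (algebraMap R S)) • (⊤ : Submodule R N)) →
      ∃ s ∉ q, s • x ∈ (q.comap (algebraMap R S)) • (⊤ : Submodule R (Fin r → S)) := by
    rw [hq]
    rintro x ⟨s, hs, hsx⟩
    refine ⟨s, hs, key _ ?_⟩
    rw [map_smul]
    exact hsx
  obtain ⟨h1, h2⟩ := Groth.Agent.Lib27.FibInj.fibInj_at_prime q α hu
  exact ⟨h1, (flat_coker_iff q.primeCompl α).mp h2⟩

end Fibre

section Nak

variable {S : Type u} [CommRing S] {M N : Type u} [AddCommGroup M] [Module S M]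
  [AddCommGroup N] [Module S N]

theorem surjective_map_of_baseChange_surjective (P : Ideal S) [P.IsPrime] [Module.Finite S N]
    (α : M →ₗ[S] N) (hs : Function.Surjective (α.baseChange P.ResidueField)) :
    Function.Surjective (LocalizedModule.map P.primeCompl α) := by
  have hsub : Subsingleton (P.ResidueField ⊗[S] (N ⧸ LinearMap.range α)) := by
    refine ⟨fun a b => ?_⟩
    have h0 : ∀ w : P.ResidueField ⊗[S] (N ⧸ LinearMap.range α), w = 0 := by
      intro w
      induction w using TensorProduct.induction_on with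
      | zero => rfl
      | tmul c x =>
        obtain ⟨n, rfl⟩ := Submodule.mkQ_surjective _ x
        obtain ⟨w, hw⟩ := hs (c ⊗ₜ[S] n)
        have h1 : c ⊗ₜ[S] ((LinearMap.range α).mkQ n) =
            (LinearMap.range α).mkQ.baseChange P.ResidueField (c ⊗ₜ[S] n) := by
          rw [LinearMap.baseChange_tmul]
        rw [h1, ← hw, ← LinearMap.comp_apply, ← LinearMap.baseChange_comp]
        have h2 : (LinearMap.range α).mkQ ∘ₗ α = 0 := by
          ext x
          simp
        rw [h2, LinearMap.baseChange_zero, LinearMap.zero_apply]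
      | add a b ha hb => rw [ha, hb, add_zero]
    rw [h0 a, h0 b]
  have hsupp : (⟨P, inferInstance⟩ : PrimeSpectrum S) ∉ Module.support S (N ⧸ LinearMap.range α) := by
    rw [Module.mem_support_iff_nontrivial_residueField_tensorProduct]
    exact not_nontrivial_iff_subsingleton.mpr hsub
  rw [Module.notMem_support_iff'] at hsupp
  intro y
  induction y using LocalizedModule.induction_on with
  | h n s =>
    obtain ⟨t, ht, htn⟩ := hsupp ((LinearMap.range α).mkQ n)
    rw [← map_smul, Submodule.mkQ_apply, Submodule.Quotient.mk_eq_zero] at htn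
    obtain ⟨x, hx⟩ := htn
    refine ⟨LocalizedModule.mk x (⟨t, ht⟩ * s), ?_⟩
    rw [LocalizedModule.map_mk, hx]
    exact LocalizedModule.mk_cancel_common_left ⟨t, ht⟩ s n

theorem exists_alpha (P : Ideal S) [P.IsPrime] [Module.Finite S N] :
    ∃ (r : ℕ) (α : (Fin r → S) →ₗ[S] N), Function.Bijective (α.baseChange P.ResidueField) := by
  set κ := P.ResidueField with hκ
  let t : Set (κ ⊗[S] N) := Set.range (fun n : N => (1 : κ) ⊗ₜ[S] n)
  have hspan : Submodule.span κ t = ⊤ := by
    rw [eq_top_iff]
    rintro w -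
    induction w using TensorProduct.induction_on with
    | zero => exact Submodule.zero_mem _
    | tmul c n =>
      have : c ⊗ₜ[S] n = c • ((1 : κ) ⊗ₜ[S] n) := by
        rw [TensorProduct.smul_tmul', smul_eq_mul, mul_one]
      rw [this]
      exact Submodule.smul_mem _ _ (Submodule.subset_span ⟨n, rfl⟩)
    | add a b ha hb => exact Submodule.add_mem _ ha hb
  obtain ⟨b, hbt, hbspan, hli⟩ := exists_linearIndependent κ t
  have hbtop : ⊤ ≤ Submodule.span κ (Set.range ((↑) : b → κ ⊗[S] N)) := by
    rw [Subtype.range_coe, hbspan, hspan]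
  let B : Module.Basis b κ (κ ⊗[S] N) := Module.Basis.mk hli hbtop
  haveI : Finite b := Module.Finite.finite_basis B
  let e : b ≃ Fin (Nat.card b) := Finite.equivFin b
  have hch : ∀ i : Fin (Nat.card b), ∃ n : N, (1 : κ) ⊗ₜ[S] n = ((e.symm i : b) : κ ⊗[S] N) := by
    intro i
    obtain ⟨n, hn⟩ := hbt (e.symm i).2
    exact ⟨n, hn⟩
  choose n hn using hch
  let α : (Fin (Nat.card b) → S) →ₗ[S] N := (Pi.basisFun S (Fin (Nat.card b))).constr S n
  refine ⟨Nat.card b, α, ?_⟩
  let B' : Module.Basis (Fin (Nat.card b)) κ (κ ⊗[S] (Fin (Nat.card b) → S)) :=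
    (Pi.basisFun S (Fin (Nat.card b))).baseChange κ
  have heq : α.baseChange κ = (B'.equiv (B.reindex e) (Equiv.refl _)).toLinearMap := by
    apply B'.ext
    intro i
    rw [LinearEquiv.coe_coe, Module.Basis.equiv_apply]
    simp only [B', Module.Basis.baseChange_apply, LinearMap.baseChange_tmul, α,
      Module.Basis.constr_basis, Equiv.refl_apply, Module.Basis.reindex_apply, B,
      Module.Basis.mk_apply, hn]
  rw [heq]
  exact (B'.equiv (B.reindex e) (Equiv.refl _)).bijective

end Nak

end Groth.Agent.Lib.Helper15.FB
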