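import Mathlib
import Groth.Prelude.Def_FlatCA
import Groth.Agent.Lib.Helper15.OSD3
import Groth.Agent.Lib.Helper15.FB3
import Groth.Agent.Lib.Helper12.IntegralDim

/-!
# One-step dévissage: existence of a fibre basis and the drop of the dimension
-/

set_option autoImplicit false
universe u

namespace Groth.Agent.Lib.Helper15.OSD

open TensorProduct

attribute [local instance] Algebra.TensorProduct.rightAlgebra

section Integral

variable {R : Type u} [CommRing R] (κ : Type u) [CommRing κ] [Algebra R κ]
  {A' B' : Type u} [CommRing A'] [CommRing B'] [Algebra R A'] [Algebra R B']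

theorem isIntegral_tensor_map (ψ : A' →ₐ[R] B') (hψ : ψ.toRingHom.IsIntegral) :
    (Algebra.TensorProduct.map (AlgHom.id κ κ) ψ).toRingHom.IsIntegral := by
  set Φ := Algebra.TensorProduct.map (AlgHom.id κ κ) ψ with hΦ
  intro x
  induction x using TensorProduct.induction_on with
  | zero => exact Φ.toRingHom.isIntegralElem_zero
  | tmul c b =>
    have h1 : (c ⊗ₜ[R] b : κ ⊗[R] B') = (c ⊗ₜ[R] (1 : B')) * ((1 : κ) ⊗ₜ[R] b) := by
      rw [Algebra.TensorProduct.tmul_mul_tmul, mul_one, one_mul]
    rw [h1]
    apply RingHom.IsIntegralElem.mul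
    · have : (c ⊗ₜ[R] (1 : B') : κ ⊗[R] B') = Φ.toRingHom (c ⊗ₜ[R] (1 : A')) := by
        simp [hΦ]
      rw [this]
      exact Φ.toRingHom.isIntegralElem_map
    · obtain ⟨f, hf, hfb⟩ := hψ b
      refine ⟨f.map (Algebra.TensorProduct.includeRight (R := R) (A := κ) (B := A')).toRingHom,
        hf.map _, ?_⟩
      rw [Polynomial.eval₂_map]
      have hcomp : Φ.toRingHom.comp
          (Algebra.TensorProduct.includeRight (R := R) (A := κ) (B := A')).toRingHom =
          (Algebra.TensorProduct.includeRight (R := R) (A := κ) (B := B')).toRingHom.comp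
            ψ.toRingHom := by
        ext a
        simp [hΦ]
      rw [hcomp]
      have h2 : ((1 : κ) ⊗ₜ[R] b : κ ⊗[R] B') =
          (Algebra.TensorProduct.includeRight (R := R) (A := κ) (B := B')).toRingHom b := rfl
      rw [h2, ← Polynomial.hom_eval₂, hfb, map_zero]
  | add x y hx hy => exact RingHom.IsIntegralElem.add _ hx hy

theorem ringKrullDim_tensor_le_of_isIntegral (ψ : A' →ₐ[R] B') (hψ : ψ.toRingHom.IsIntegral) :
    ringKrullDim (κ ⊗[R] B') ≤ ringKrullDim (κ ⊗[R] A') := by
  letI : Algebra (κ ⊗[R] A') (κ ⊗[R] B') :=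
    (Algebra.TensorProduct.map (AlgHom.id κ κ) ψ).toRingHom.toAlgebra
  haveI : Algebra.IsIntegral (κ ⊗[R] A') (κ ⊗[R] B') := ⟨isIntegral_tensor_map κ ψ hψ⟩
  exact Groth.Agent.Lib.Helper12.ringKrullDim_le_of_isIntegral (κ ⊗[R] A') (κ ⊗[R] B')

end Integral

section Compare

variable {R S C D : Type u} [CommRing R] [CommRing S] [CommRing C] [CommRing D]
  [Algebra R S] [Algebra S C] [Algebra R C] [IsScalarTower R S C]
  [Algebra R D] [Algebra D C] [IsScalarTower R D C]
  (p : Ideal R) [p.IsPrime]
  (N : Type u) [AddCommGroup N] [Module S N] [Module R N] [IsScalarTower R S N] [Module.Finite S N]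
  (G : Type u) [AddCommGroup G] [Module C G] [Module S G] [IsScalarTower S C G]
  [Module D G] [IsScalarTower D C G] [Module R G] [IsScalarTower R D G]

theorem annihilator_eq_comap {A B : Type u} [CommRing A] [CommRing B] [Algebra A B]
    (X : Type u) [AddCommGroup X] [Module B X] [Module A X] [IsScalarTower A B X] :
    Module.annihilator A X = (Module.annihilator B X).comap (algebraMap A B) := by
  ext a
  rw [Ideal.mem_comap, Module.mem_annihilator, Module.mem_annihilator]
  refine forall_congr' fun x => ?_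
  rw [algebraMap_smul]

include N in
theorem supportDim_fiberMod_le_of_finite (e : N ≃ₗ[S] G)
    (hsurj : Function.Surjective (algebraMap S C)) [Module.Finite D C] [Module.Finite C G] :
    Module.supportDim (p.Fiber S) (FlatCA.fiberMod p S N) ≤
      Module.supportDim (p.Fiber D) (FlatCA.fiberMod p D G) := by
  haveI : Module.Finite D G := Module.Finite.trans C G
  set JC := Module.annihilator C G with hJC
  set JS := JC.comap (algebraMap S C) with hJS
  set JD := JC.comap (algebraMap D C) with hJD
  have hS : Module.support S N = PrimeSpectrum.zeroLocus (JS : Set S) := by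
    rw [Module.support_eq_zeroLocus, e.annihilator_eq, annihilator_eq_comap (A := S) (B := C) G]
  have hD : Module.support D G = PrimeSpectrum.zeroLocus (JD : Set D) := by
    rw [Module.support_eq_zeroLocus, annihilator_eq_comap (A := D) (B := C) G]
  rw [supportDim_fiberMod p N JS hS, supportDim_fiberMod p G JD hD]
  let eSC : (S ⧸ JS) ≃ₐ[R] (C ⧸ JC) :=
    AlgEquiv.ofBijective (Ideal.quotientMapₐ JC (IsScalarTower.toAlgHom R S C) le_rfl)
      ⟨Ideal.quotientMap_injective (I := JC) (f := (IsScalarTower.toAlgHom R S C : S →+* C)),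
        Ideal.quotientMap_surjective (J := JS) (I := JC)
          (f := (IsScalarTower.toAlgHom R S C : S →+* C)) (H := le_rfl) hsurj⟩
  let ψ : (D ⧸ JD) →ₐ[R] (C ⧸ JC) := Ideal.quotientMapₐ JC (IsScalarTower.toAlgHom R D C) le_rfl
  have hψ : ψ.toRingHom.IsIntegral :=
    RingHom.IsIntegral.quotient (algebraMap D C) Algebra.IsIntegral.isIntegral
  have h1 : ringKrullDim (p.ResidueField ⊗[R] (S ⧸ JS)) =
      ringKrullDim (p.ResidueField ⊗[R] (C ⧸ JC)) :=
    ringKrullDim_eq_of_ringEquiv
      (Algebra.TensorProduct.congr (AlgEquiv.refl : p.ResidueField ≃ₐ[R] p.ResidueField)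
        eSC).toRingEquiv
  rw [h1]
  exact ringKrullDim_tensor_le_of_isIntegral p.ResidueField ψ hψ

end Compare

section Main

theorem subsingleton_tensor_coker {D : Type u} [CommRing D] (κ : Type u) [CommRing κ] [Algebra D κ]
    {M G : Type u} [AddCommGroup M] [Module D M] [AddCommGroup G] [Module D G]
    (α : M →ₗ[D] G) (hs : Function.Surjective (α.baseChange κ)) :
    Subsingleton (κ ⊗[D] (G ⧸ LinearMap.range α)) := by
  refine ⟨fun a b => ?_⟩
  have h0 : ∀ w : κ ⊗[D] (G ⧸ LinearMap.range α), w = 0 := by
    intro w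
    induction w using TensorProduct.induction_on with
    | zero => rfl
    | tmul c x =>
      obtain ⟨n, rfl⟩ := Submodule.mkQ_surjective _ x
      obtain ⟨w, hw⟩ := hs (c ⊗ₜ[D] n)
      have h1 : c ⊗ₜ[D] ((LinearMap.range α).mkQ n) =
          (LinearMap.range α).mkQ.baseChange κ (c ⊗ₜ[D] n) := by
        rw [LinearMap.baseChange_tmul]
      rw [h1, ← hw, ← LinearMap.comp_apply, ← LinearMap.baseChange_comp]
      have h2 : (LinearMap.range α).mkQ ∘ₗ α = 0 := by
        ext x
        simp
      rw [h2, LinearMap.baseChange_zero, LinearMap.zero_apply]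
    | add a b ha hb => rw [ha, hb, add_zero]
  rw [h0 a, h0 b]

theorem main1285 {R S : Type u} [CommRing R] [CommRing S] [Algebra R S] [Algebra.FiniteType R S]
    (N : Type u) [AddCommGroup N] [Module S N] [Module R N] [IsScalarTower R S N] [Module.Finite S N] (p : Ideal R) [p.IsPrime]
    (C D G : Type u) [CommRing C] [CommRing D] [Algebra S C] [Algebra R C] [IsScalarTower R S C]
    [Algebra R D] [Algebra D C] [IsScalarTower R D C] [AddCommGroup G] [Module C G] [Module S G] [IsScalarTower S C G]
    [Module D G] [IsScalarTower D C G] [Module R G] [IsScalarTower R D G]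
    (n : ℕ) (h : FlatCA.IsOneStepDevissage R S N p C D G n) [(p.map (algebraMap R D)).IsPrime] :
    (∃ (r : ℕ) (α : (Fin r → D) →ₗ[D] G), 0 < r ∧ Function.Bijective (α.baseChange (p.map (algebraMap R D)).ResidueField)) ∧
    ∀ (r : ℕ) (α : (Fin r → D) →ₗ[D] G), Function.Bijective (α.baseChange (p.map (algebraMap R D)).ResidueField) →
      Module.supportDim (p.Fiber D) (FlatCA.fiberMod p D (G ⧸ LinearMap.range α)) < (n : WithBot ℕ∞) := by
  obtain ⟨⟨e⟩, hsurj, hfp, hfinDC, hfinCG, hsm, hgi, hdim⟩ := h
  haveI := hfinDC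
  haveI := hfinCG
  haveI : Module.Finite D G := Module.Finite.trans C G
  have hF := fiber_ringKrullDim p n hsm hgi
  have hnt : Nontrivial ((p.map (algebraMap R D)).ResidueField ⊗[D] G) := by
    by_contra hc
    rw [not_nontrivial_iff_subsingleton] at hc
    have h1 := supportDim_fiberMod_lt p n hF G hc
    have h2 := supportDim_fiberMod_le_of_finite (S := S) (C := C) (D := D) p N G e hsurj
    rw [hdim] at h2
    exact absurd (lt_of_le_of_lt h2 h1) (lt_irrefl _)
  refine ⟨?_, ?_⟩
  · obtain ⟨r, α, hα⟩ := Groth.Agent.Lib.Helper15.FB.exists_alpha (p.map (algebraMap R D)) (N := G)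
    refine ⟨r, α, ?_, hα⟩
    by_contra hr
    have hr0 : r = 0 := by omega
    subst hr0
    have hsub : Subsingleton ((p.map (algebraMap R D)).ResidueField ⊗[D] (Fin 0 → D)) := by
      refine ⟨fun a b => ?_⟩
      have h0 : ∀ w : (p.map (algebraMap R D)).ResidueField ⊗[D] (Fin 0 → D), w = 0 := by
        intro w
        induction w using TensorProduct.induction_on with
        | zero => rfl
        | tmul c x => rw [Subsingleton.elim x 0, TensorProduct.tmul_zero]
        | add a b ha hb => rw [ha, hb, add_zero]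
      rw [h0 a, h0 b]
    have := hα.2.subsingleton
    exact not_subsingleton _ this
  · intro r α hα
    exact supportDim_fiberMod_lt p n hF (G ⧸ LinearMap.range α)
      (subsingleton_tensor_coker _ α hα.2)

end Main

end Groth.Agent.Lib.Helper15.OSD
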