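import Mathlib
import Groth.Prelude.Def_FlatCA
import Groth.Agent.Lib.Helper15.OSD8

/-!
# Standard shrinking: local dimension under open embeddings
-/

set_option autoImplicit false
universe u

namespace Groth.Agent.Lib.Helper15.SHR

open TensorProduct TopologicalSpace

section LocalDim

theorem localDim_le_topologicalKrullDim {A : Type*} [TopologicalSpace A] (a : A) :
    FlatMor.localDim A a ≤ topologicalKrullDim A := by
  unfold FlatMor.localDim
  let U : {U : Opens A // a ∈ U} := ⟨⊤, trivial⟩
  exact (iInf_le _ U).trans (topologicalKrullDim_subspace_le A _)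

theorem localDim_of_isOpenEmbedding {A B : Type*} [TopologicalSpace A] [TopologicalSpace B]
    (j : A → B) (hj : Topology.IsOpenEmbedding j) (a : A) :
    FlatMor.localDim A a = FlatMor.localDim B (j a) := by
  unfold FlatMor.localDim
  apply le_antisymm
  · refine le_iInf fun V => ?_
    let U : {U : Opens A // a ∈ U} := ⟨⟨j ⁻¹' V.1, V.1.2.preimage hj.continuous⟩, V.2⟩
    refine (iInf_le _ U).trans ?_
    -- `j ⁻¹' V` embeds in `V`
    let ι : ↥(j ⁻¹' (V.1 : Set B)) → ↥(V.1 : Set B) := fun x => ⟨j x.1, x.2⟩
    have hι : Topology.IsInducing ι := by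
      have h1 : Topology.IsInducing (fun x : ↥(j ⁻¹' (V.1 : Set B)) => j x.1) :=
        hj.isInducing.comp Topology.IsInducing.subtypeVal
      exact Topology.IsInducing.of_comp (by fun_prop) continuous_subtype_val h1
    exact hι.topologicalKrullDim_le
  · refine le_iInf fun U => ?_
    let V : {V : Opens B // j a ∈ V} :=
      ⟨⟨j '' U.1, hj.isOpenMap _ U.1.2⟩, ⟨a, U.2, rfl⟩⟩
    refine (iInf_le _ V).trans (le_of_eq ?_)
    let e : ↥(U.1 : Set A) ≃ₜ ↥(j '' (U.1 : Set A)) := hj.isEmbedding.homeomorphImage (U.1 : Set A)
    exact (e.isHomeomorph.topologicalKrullDim_eq).symm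

end LocalDim

section SuppDim

theorem topologicalKrullDim_support {A M : Type*} [CommRing A] [AddCommGroup M] [Module A M]
    [Module.Finite A M] :
    topologicalKrullDim ↥(Module.support A M) = Module.supportDim A M := by
  rw [Module.supportDim_eq_ringKrullDim_quotient_annihilator,
    ← PrimeSpectrum.topologicalKrullDim_eq_ringKrullDim]
  set I := Module.annihilator A M with hI
  have hemb := PrimeSpectrum.isClosedEmbedding_comap_of_surjective (A ⧸ I) (Ideal.Quotient.mk I)
    Ideal.Quotient.mk_surjective
  have hrange : Set.range (PrimeSpectrum.comap (Ideal.Quotient.mk I)) = Module.support A M := by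
    rw [range_comap_of_surjective _ _ Ideal.Quotient.mk_surjective,
      Ideal.mk_ker, Module.support_eq_zeroLocus]
  let e : PrimeSpectrum (A ⧸ I) ≃ₜ ↥(Module.support A M) :=
    hemb.isEmbedding.toHomeomorph.trans (Homeomorph.setCongr hrange)
  exact (e.isHomeomorph.topologicalKrullDim_eq).symm

theorem localDim_le_supportDim {A M : Type*} [CommRing A] [AddCommGroup M] [Module A M]
    [Module.Finite A M] (x : ↥(Module.support A M)) :
    FlatMor.localDim (Module.support A M) x ≤ Module.supportDim A M := by
  rw [← topologicalKrullDim_support]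
  exact localDim_le_topologicalKrullDim x

end SuppDim

end Groth.Agent.Lib.Helper15.SHR
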