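import Mathlib
import Groth.Prelude.Def_FlatCA
import Groth.Agent.Lib.Helper15.SHR1
import Groth.Agent.Lib.Helper25.SupportBaseChange

/-!
# Standard shrinking: the fibre module of a localization (same base)
-/

set_option autoImplicit false
universe u

namespace Groth.Agent.Lib.Helper15.SHR

open TensorProduct TopologicalSpace Groth.Agent.Lib.Helper15.OSD

attribute [local instance] Algebra.TensorProduct.rightAlgebra

section Step1

variable {R : Type u} [CommRing R] (p : Ideal R) [p.IsPrime]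
  {S S₁ : Type u} [CommRing S] [CommRing S₁] [Algebra R S] [Algebra R S₁] [Algebra S S₁]
  [IsScalarTower R S S₁]
  (hX : S) [IsLocalization.Away hX S₁]
  (N N₁ : Type u) [AddCommGroup N] [Module S N] [Module R N] [IsScalarTower R S N]
  [Module.Finite S N]
  [AddCommGroup N₁] [Module S₁ N₁] [Module R N₁] [IsScalarTower R S₁ N₁] [Module S N₁]
  [IsScalarTower S S₁ N₁]
  (fN : N →ₗ[S] N₁) [IsLocalizedModule (Submonoid.powers hX) fN]
  (q : Ideal S) [q.IsPrime] [q.LiesOver p]

include fN in
theorem exists_xi_localization (hXq : hX ∉ q) (n : ℕ)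
    (h1 : ∃ (ξ : PrimeSpectrum (p.Fiber S))
      (hξ : ξ ∈ Module.support (p.Fiber S) (FlatCA.fiberMod p S N)),
      ξ.asIdeal = FlatCA.fiberIdeal p q ∧
      FlatMor.localDim (Module.support (p.Fiber S) (FlatCA.fiberMod p S N)) ⟨ξ, hξ⟩ = n) :
    ∃ (ξ' : PrimeSpectrum (p.Fiber S₁))
      (hξ' : ξ' ∈ Module.support (p.Fiber S₁) (FlatCA.fiberMod p S₁ N₁)),
      ξ'.asIdeal = FlatCA.fiberIdeal p (q.map (algebraMap S S₁)) ∧
      FlatMor.localDim (Module.support (p.Fiber S₁) (FlatCA.fiberMod p S₁ N₁)) ⟨ξ', hξ'⟩ = n := by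
  obtain ⟨ξ, hξ, hξq, hdim⟩ := h1
  let ψ : p.Fiber S →ₐ[p.ResidueField] p.Fiber S₁ :=
    Algebra.TensorProduct.map (AlgHom.id p.ResidueField p.ResidueField)
      (IsScalarTower.toAlgHom R S S₁)
  letI : Algebra (p.Fiber S) (p.Fiber S₁) := ψ.toRingHom.toAlgebra
  haveI : IsScalarTower p.ResidueField (p.Fiber S) (p.Fiber S₁) :=
    IsScalarTower.of_algebraMap_eq fun r => (ψ.commutes r).symm
  have H : (algebraMap (p.Fiber S) (p.Fiber S₁)).comp
      (Algebra.TensorProduct.includeRight (R := R) (A := p.ResidueField) (B := S)).toRingHom =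
      (Algebra.TensorProduct.includeRight (R := R) (A := p.ResidueField) (B := S₁)).toRingHom.comp
        (algebraMap S S₁) := by
    ext s
    change ψ ((1 : p.ResidueField) ⊗ₜ[R] s) = (1 : p.ResidueField) ⊗ₜ[R] (algebraMap S S₁ s)
    simp [ψ]
  have hloc : IsLocalization ((Submonoid.powers hX).map
      (Algebra.TensorProduct.includeRight (R := R) (A := p.ResidueField) (B := S)))
      (p.Fiber S₁) :=
    IsLocalization.tensorProduct_tensorProduct_right R p.ResidueField (Submonoid.powers hX) S₁ H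
  set f₀ : p.Fiber S := (1 : p.ResidueField) ⊗ₜ[R] hX with hf₀
  haveI : IsLocalization.Away f₀ (p.Fiber S₁) := by
    have : (Submonoid.powers hX).map
        (Algebra.TensorProduct.includeRight (R := R) (A := p.ResidueField) (B := S)) =
        Submonoid.powers f₀ := by
      rw [Submonoid.map_powers]
      rfl
    rw [this] at hloc
    exact hloc
  let j : PrimeSpectrum (p.Fiber S₁) → PrimeSpectrum (p.Fiber S) :=
    PrimeSpectrum.comap (algebraMap (p.Fiber S) (p.Fiber S₁))
  have hj : Topology.IsOpenEmbedding j :=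
    PrimeSpectrum.localization_away_isOpenEmbedding (p.Fiber S₁) f₀
  haveI : Module.Finite S₁ N₁ := Module.Finite.of_isLocalizedModule (Submonoid.powers hX) fN
  have hbc : IsBaseChange S₁ fN := IsLocalizedModule.isBaseChange (Submonoid.powers hX) S₁ fN
  have hmem : ∀ Q' : PrimeSpectrum (p.Fiber S₁),
      Q' ∈ Module.support (p.Fiber S₁) (FlatCA.fiberMod p S₁ N₁) ↔
        j Q' ∈ Module.support (p.Fiber S) (FlatCA.fiberMod p S N) := by
    intro Q'
    change Q' ∈ Module.support (p.Fiber S₁) ((p.Fiber S₁) ⊗[S₁] N₁) ↔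
      j Q' ∈ Module.support (p.Fiber S) ((p.Fiber S) ⊗[S] N)
    rw [Groth.Agent.Lib.Helper25.SupportBaseChange.mem_support_baseChange_iff,
      Groth.Agent.Lib.Helper25.SupportBaseChange.mem_support_baseChange_iff,
      ← LinearEquiv.support_eq hbc.equiv,
      Groth.Agent.Lib.Helper25.SupportBaseChange.mem_support_baseChange_iff]
    have : PrimeSpectrum.comap (algebraMap S S₁)
        (PrimeSpectrum.comap (algebraMap S₁ (p.Fiber S₁)) Q') =
        PrimeSpectrum.comap (algebraMap S (p.Fiber S)) (j Q') := by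
      apply PrimeSpectrum.ext
      change (Q'.asIdeal.comap (algebraMap S₁ (p.Fiber S₁))).comap (algebraMap S S₁) =
        (Q'.asIdeal.comap (algebraMap (p.Fiber S) (p.Fiber S₁))).comap (algebraMap S (p.Fiber S))
      rw [Ideal.comap_comap, Ideal.comap_comap]
      exact congrArg (fun φ => Ideal.comap φ Q'.asIdeal) H.symm
    rw [this]
  -- ξ is in the range of `j`
  have hξrange : ξ ∈ Set.range j := by
    change ξ ∈ Set.range (PrimeSpectrum.comap (algebraMap (p.Fiber S) (p.Fiber S₁)))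
    rw [PrimeSpectrum.localization_away_comap_range (p.Fiber S₁) f₀]
    change f₀ ∉ ξ.asIdeal
    intro hmem'
    rw [hξq] at hmem'
    have h2 : hX ∈ (q.map (algebraMap S (p.Fiber S))).comap (algebraMap S (p.Fiber S)) := hmem'
    rw [comap_map_fiber p q] at h2
    exact hXq h2
  obtain ⟨ξ', hξ'ξ⟩ := hξrange
  have hξ' : ξ' ∈ Module.support (p.Fiber S₁) (FlatCA.fiberMod p S₁ N₁) := by
    rw [hmem, hξ'ξ]
    exact hξ
  refine ⟨ξ', hξ', ?_, ?_⟩
  · have h3 : ξ'.asIdeal = (ξ'.asIdeal.comap (algebraMap (p.Fiber S) (p.Fiber S₁))).map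
        (algebraMap (p.Fiber S) (p.Fiber S₁)) :=
      (IsLocalization.map_comap (Submonoid.powers f₀) (p.Fiber S₁) ξ'.asIdeal).symm
    have h4 : ξ'.asIdeal.comap (algebraMap (p.Fiber S) (p.Fiber S₁)) = ξ.asIdeal :=
      congrArg PrimeSpectrum.asIdeal hξ'ξ
    rw [h3, h4, hξq]
    unfold FlatCA.fiberIdeal
    rw [Ideal.map_map, H, ← Ideal.map_map]
  · rw [← hdim]
    have hset : Module.support (p.Fiber S₁) (FlatCA.fiberMod p S₁ N₁) =
        j ⁻¹' Module.support (p.Fiber S) (FlatCA.fiberMod p S N) := Set.ext hmem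
    let js : ↥(Module.support (p.Fiber S₁) (FlatCA.fiberMod p S₁ N₁)) →
        ↥(Module.support (p.Fiber S) (FlatCA.fiberMod p S N)) :=
      (Set.restrictPreimage (Module.support (p.Fiber S) (FlatCA.fiberMod p S N)) j) ∘
        (Homeomorph.setCongr hset)
    have hjs : Topology.IsOpenEmbedding js :=
      (Set.restrictPreimage_isOpenEmbedding _ hj).comp (Homeomorph.isOpenEmbedding _)
    have := localDim_of_isOpenEmbedding js hjs ⟨ξ', hξ'⟩
    rw [this]
    congr 1
    exact Subtype.ext hξ'ξ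

end Step1

end Groth.Agent.Lib.Helper15.SHR
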