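import Mathlib
import Groth.Prelude.Def_FlatCA
import Groth.Agent.Lib.Helper15.SHR2

/-!
# Standard shrinking: localizing the base
-/

set_option autoImplicit false
universe u

namespace Groth.Agent.Lib.Helper15.SHR

open TensorProduct TopologicalSpace Groth.Agent.Lib.Helper15.OSD

section Away

variable {A A₁ : Type u} [CommRing A] [CommRing A₁] [Algebra A A₁] (a : A)
  [IsLocalization.Away a A₁] (P : Ideal A) [hP : P.IsPrime]

include a in
theorem disjoint_powers (haP : a ∉ P) : Disjoint (Submonoid.powers a : Set A) (P : Set A) := by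
  rw [Ideal.disjoint_powers_iff_notMem a hP.isRadical]
  exact haP

include a in
theorem map_isPrime_away (haP : a ∉ P) : (P.map (algebraMap A A₁)).IsPrime :=
  IsLocalization.isPrime_of_isPrime_disjoint (Submonoid.powers a) A₁ P hP
    (disjoint_powers a P haP)

include a in
theorem comap_map_away (haP : a ∉ P) : (P.map (algebraMap A A₁)).comap (algebraMap A A₁) = P :=
  IsLocalization.comap_map_of_isPrime_disjoint (Submonoid.powers a) A₁ hP
    (disjoint_powers a P haP)

include a in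
theorem liesOver_away (haP : a ∉ P) : (P.map (algebraMap A A₁)).LiesOver P :=
  ⟨(comap_map_away a P haP).symm⟩

include a in
theorem eq_map_comap_away (J : Ideal A₁) : J = (J.comap (algebraMap A A₁)).map (algebraMap A A₁) :=
  (IsLocalization.map_comap (Submonoid.powers a) A₁ J).symm

include a in
theorem residue_bijective_away (P₁ : Ideal A₁) [P₁.IsPrime] (h : P = P₁.comap (algebraMap A A₁)) :
    Function.Bijective (Ideal.ResidueField.map P P₁ (algebraMap A A₁) h) :=
  (RingHom.surjectiveOnStalks_of_isLocalization (Submonoid.powers a) A₁).residueFieldMap_bijective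
    P P₁ h

end Away

section Step2

variable {R R₁ : Type u} [CommRing R] [CommRing R₁] [Algebra R R₁] (g : R)
  [IsLocalization.Away g R₁] (p : Ideal R) [p.IsPrime] (p₁ : Ideal R₁) [p₁.IsPrime]
  [hpp : p₁.LiesOver p]
  (S₁ : Type u) [CommRing S₁] [Algebra R S₁] [Algebra R₁ S₁] [IsScalarTower R R₁ S₁]

include g in
theorem isPushout_self : Algebra.IsPushout R R₁ S₁ S₁ := by
  constructor
  have h1 : IsLocalizedModule (Submonoid.powers g) (LinearMap.id : S₁ →ₗ[R] S₁) :=
    isLocalizedModule_id (Submonoid.powers g) S₁ R₁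
  have h2 : IsBaseChange R₁ (LinearMap.id : S₁ →ₗ[R] S₁) :=
    IsLocalizedModule.isBaseChange (Submonoid.powers g) R₁ LinearMap.id
  exact h2

include g in
theorem hκ_away :
    Function.Bijective (Ideal.ResidueField.mapₐ p p₁ (Algebra.ofId R R₁) hpp.over) :=
  residue_bijective_away g p p₁ hpp.over

variable (N₁ : Type u) [AddCommGroup N₁] [Module S₁ N₁] [Module R N₁] [IsScalarTower R S₁ N₁]
  [Module R₁ N₁] [IsScalarTower R₁ S₁ N₁] [Module.Finite S₁ N₁]
  (q₁ : Ideal S₁) [q₁.IsPrime] [q₁.LiesOver p] [q₁.LiesOver p₁]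

include g in
theorem exists_xi_base (n : ℕ)
    (h1 : ∃ (ξ : PrimeSpectrum (p.Fiber S₁))
      (hξ : ξ ∈ Module.support (p.Fiber S₁) (FlatCA.fiberMod p S₁ N₁)),
      ξ.asIdeal = FlatCA.fiberIdeal p q₁ ∧
      FlatMor.localDim (Module.support (p.Fiber S₁) (FlatCA.fiberMod p S₁ N₁)) ⟨ξ, hξ⟩ = n) :
    ∃ (ξ' : PrimeSpectrum (p₁.Fiber S₁))
      (hξ' : ξ' ∈ Module.support (p₁.Fiber S₁) (FlatCA.fiberMod p₁ S₁ N₁)),
      ξ'.asIdeal = FlatCA.fiberIdeal p₁ q₁ ∧
      FlatMor.localDim (Module.support (p₁.Fiber S₁) (FlatCA.fiberMod p₁ S₁ N₁)) ⟨ξ', hξ'⟩ = n := by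
  haveI := isPushout_self g (R₁ := R₁) S₁
  haveI : q₁.LiesOver q₁ := ⟨by simp [Ideal.under]⟩
  exact exists_xi' p p₁ (hκ_away g p p₁) N₁ N₁ (LinearMap.id)
    (IsBaseChange.ofEquiv (LinearEquiv.refl S₁ N₁)) q₁ q₁ n h1

include g in
theorem supportDim_base [Algebra.FiniteType R S₁] :
    Module.supportDim (p₁.Fiber S₁) (FlatCA.fiberMod p₁ S₁ N₁) =
      Module.supportDim (p.Fiber S₁) (FlatCA.fiberMod p S₁ N₁) := by
  haveI := isPushout_self g (R₁ := R₁) S₁
  exact supportDim_fiberMod_baseChange N₁ p p₁ N₁ (LinearMap.id)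
    (IsBaseChange.ofEquiv (LinearEquiv.refl S₁ N₁))

end Step2

end Groth.Agent.Lib.Helper15.SHR
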