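import Mathlib
import Groth.Prelude.Def_FlatCA
import Groth.Agent.Lib.Helper15.SHR3

/-!
# Standard shrinking: the smooth algebra
-/

set_option autoImplicit false
universe u

namespace Groth.Agent.Lib.Helper15.SHR

open TensorProduct TopologicalSpace Groth.Agent.Lib.Helper15.OSD

attribute [local instance] Algebra.TensorProduct.rightAlgebra

section Scheme

open AlgebraicGeometry CategoryTheory

variable {R R₁ D D₁ : Type u} [CommRing R] [CommRing R₁] [CommRing D] [CommRing D₁]
  [Algebra R R₁] [Algebra R D] [Algebra R D₁] [Algebra R₁ D₁] [Algebra D D₁]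
  [IsScalarTower R R₁ D₁] [IsScalarTower R D D₁]
  (g : R) [IsLocalization.Away g R₁] (hY : D) [IsLocalization.Away hY D₁]

include g hY in
theorem smooth_and_geomIrred_away (n : ℕ) (hsm : FlatCA.SmoothRelDim n R D)
    (hgi : FlatCA.GeomIrredFibres R D)
    (hsurj : Function.Surjective (PrimeSpectrum.comap (algebraMap R₁ D₁))) :
    FlatCA.SmoothRelDim n R₁ D₁ ∧ FlatCA.GeomIrredFibres R₁ D₁ := by
  let Dg := D ⊗[R] R₁
  haveI hpo : Algebra.IsPushout R R₁ D Dg := TensorProduct.isPushout' (R := R) (S := D) (T := R₁)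
  let φ : Dg →ₐ[R] D₁ := Algebra.TensorProduct.lift (IsScalarTower.toAlgHom R D D₁)
    (IsScalarTower.toAlgHom R R₁ D₁) (fun _ _ => Commute.all _ _)
  letI : Algebra Dg D₁ := φ.toRingHom.toAlgebra
  haveI t1 : IsScalarTower D Dg D₁ := IsScalarTower.of_algebraMap_eq fun d => by
    change _ = φ (d ⊗ₜ[R] (1 : R₁))
    simp only [φ]
    rw [Algebra.TensorProduct.lift_tmul, map_one, mul_one]
    rfl
  haveI t2 : IsScalarTower R₁ Dg D₁ := IsScalarTower.of_algebraMap_eq fun r => by
    change _ = φ ((1 : D) ⊗ₜ[R] r)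
    simp only [φ]
    rw [Algebra.TensorProduct.lift_tmul, map_one, one_mul]
    rfl
  haveI hloc : IsLocalization.Away (algebraMap R D g) Dg := by
    have h1 : IsLocalization (Algebra.algebraMapSubmonoid D (Submonoid.powers g)) Dg :=
      IsLocalization.tensor (S := D) R₁ (Submonoid.powers g)
    have h2 : Algebra.algebraMapSubmonoid D (Submonoid.powers g) =
        Submonoid.powers (algebraMap R D g) := by
      unfold Algebra.algebraMapSubmonoid
      rw [Submonoid.map_powers]
    rw [h2] at h1
    exact h1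
  haveI i1 : IsOpenImmersion (Spec.map (CommRingCat.ofHom (algebraMap D Dg))) :=
    IsOpenImmersion.of_isLocalization (algebraMap R D g)
  haveI i2 : IsOpenImmersion (Spec.map (CommRingCat.ofHom (algebraMap D D₁))) :=
    IsOpenImmersion.of_isLocalization hY
  have e1 : Spec.map (CommRingCat.ofHom (algebraMap D D₁)) =
      Spec.map (CommRingCat.ofHom (algebraMap Dg D₁)) ≫
        Spec.map (CommRingCat.ofHom (algebraMap D Dg)) := by
    rw [← Spec.map_comp, ← CommRingCat.ofHom_comp, ← IsScalarTower.algebraMap_eq]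
  haveI i3 : IsOpenImmersion (Spec.map (CommRingCat.ofHom (algebraMap Dg D₁))) := by
    haveI : IsOpenImmersion (Spec.map (CommRingCat.ofHom (algebraMap Dg D₁)) ≫
        Spec.map (CommRingCat.ofHom (algebraMap D Dg))) := e1 ▸ i2
    exact IsOpenImmersion.of_comp _ (Spec.map (CommRingCat.ofHom (algebraMap D Dg)))
  have e2 : Spec.map (CommRingCat.ofHom (algebraMap R₁ D₁)) =
      Spec.map (CommRingCat.ofHom (algebraMap Dg D₁)) ≫
        Spec.map (CommRingCat.ofHom (algebraMap R₁ Dg)) := by
    rw [← Spec.map_comp, ← CommRingCat.ofHom_comp, ← IsScalarTower.algebraMap_eq]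
  have hsm' : FlatCA.SmoothRelDim n R₁ Dg :=
    smoothRelDim_baseChange (R := R) (R' := R₁) (D := D) (D' := Dg) n hsm
  have hgi' : FlatCA.GeomIrredFibres R₁ Dg :=
    geomIrredFibres_baseChange (R := R) (R' := R₁) (D := D) (D' := Dg) hgi
  constructor
  · change SmoothOfRelativeDimension n (Spec.map (CommRingCat.ofHom (algebraMap R₁ D₁)))
    rw [e2]
    haveI : SmoothOfRelativeDimension n (Spec.map (CommRingCat.ofHom (algebraMap R₁ Dg))) := hsm'
    have := smoothOfRelativeDimension_comp (n := 0) (m := n)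
      (f := Spec.map (CommRingCat.ofHom (algebraMap Dg D₁)))
      (Spec.map (CommRingCat.ofHom (algebraMap R₁ Dg)))
    rwa [zero_add] at this
  · change GeometricallyIrreducible (Spec.map (CommRingCat.ofHom (algebraMap R₁ D₁)))
    haveI : GeometricallyIrreducible (Spec.map (CommRingCat.ofHom (algebraMap R₁ Dg))) := hgi'
    haveI : Surjective (Spec.map (CommRingCat.ofHom (algebraMap Dg D₁)) ≫
        Spec.map (CommRingCat.ofHom (algebraMap R₁ Dg))) := by
      rw [← e2]
      exact ⟨hsurj⟩
    rw [e2]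
    infer_instance

end Scheme

end Groth.Agent.Lib.Helper15.SHR
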