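import Mathlib
import Groth.Prelude.Def_FlatCA
import Groth.Agent.Lib.Helper15.SHR4

/-!
# Standard shrinking: the closed subscheme and its module
-/

set_option autoImplicit false
universe u

namespace Groth.Agent.Lib.Helper15.SHR

open TensorProduct TopologicalSpace

section Mod

variable {S C S₁ C₁ : Type u} [CommRing S] [CommRing C] [CommRing S₁] [CommRing C₁]
  [Algebra S C] [Algebra S S₁] [Algebra C C₁] [Algebra S₁ C₁] [Algebra S C₁]
  [IsScalarTower S S₁ C₁] [IsScalarTower S C C₁]
  (hX : S) (hZ : C) [IsLocalization.Away hX S₁] [IsLocalization.Away hZ C₁]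
  (v : C) (hv : algebraMap S C hX = v * hZ) (hvu : IsUnit (algebraMap C C₁ v))

include hZ hv hvu in
theorem isUnit_algebraMap_hX : IsUnit (algebraMap S C₁ hX) := by
  rw [IsScalarTower.algebraMap_apply S C C₁, hv, map_mul]
  exact hvu.mul (IsLocalization.Away.algebraMap_isUnit hZ)

include hX hZ hv hvu in
theorem surjective_away (hsurj : Function.Surjective (algebraMap S C)) :
    Function.Surjective (algebraMap S₁ C₁) := by
  intro c₁
  obtain ⟨k, c, hc⟩ := IsLocalization.Away.surj hZ c₁
  obtain ⟨s, rfl⟩ := hsurj c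
  obtain ⟨sv, hsv⟩ := hsurj v
  have ha : IsUnit (algebraMap S S₁ hX) := IsLocalization.Away.algebraMap_isUnit hX
  obtain ⟨a, ha'⟩ := ha
  have hb : IsUnit (algebraMap S C₁ hX) := isUnit_algebraMap_hX hX hZ v hv hvu
  refine ⟨algebraMap S S₁ (s * sv ^ k) * ((a⁻¹ : S₁ˣ) : S₁) ^ k, ?_⟩
  apply (hb.pow k).mul_right_cancel
  have h1 : algebraMap S₁ C₁ ((a⁻¹ : S₁ˣ) : S₁) * algebraMap S C₁ hX = 1 := by
    rw [IsScalarTower.algebraMap_apply S S₁ C₁, ← map_mul, ← ha', Units.inv_mul, map_one]
  calc algebraMap S₁ C₁ (algebraMap S S₁ (s * sv ^ k) * ((a⁻¹ : S₁ˣ) : S₁) ^ k) *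
        algebraMap S C₁ hX ^ k
      = algebraMap S C₁ (s * sv ^ k) *
          (algebraMap S₁ C₁ ((a⁻¹ : S₁ˣ) : S₁) * algebraMap S C₁ hX) ^ k := by
        rw [map_mul, map_pow, ← IsScalarTower.algebraMap_apply S S₁ C₁, mul_pow]
        ring
    _ = algebraMap S C₁ (s * sv ^ k) := by rw [h1, one_pow, mul_one]
    _ = c₁ * algebraMap S C₁ hX ^ k := by
        rw [IsScalarTower.algebraMap_apply S C C₁, map_mul, map_pow, hsv, map_mul, map_pow, ← hc,
          IsScalarTower.algebraMap_apply S C C₁ hX, hv, map_mul, mul_pow]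
        ring

include hX hZ in
theorem finitePresentation_away [Algebra.FinitePresentation S C] :
    Algebra.FinitePresentation S₁ C₁ := by
  haveI : Algebra.FinitePresentation C C₁ := IsLocalization.Away.finitePresentation hZ
  haveI : Algebra.FinitePresentation S C₁ := Algebra.FinitePresentation.trans S C C₁
  haveI : Algebra.FinitePresentation S S₁ := IsLocalization.Away.finitePresentation hX
  haveI : Algebra.FiniteType S S₁ := inferInstance
  exact Algebra.FinitePresentation.of_restrict_scalars_finitePresentation S S₁ C₁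

variable {N G N₁ G₁ : Type u} [AddCommGroup N] [AddCommGroup G] [AddCommGroup N₁] [AddCommGroup G₁]
  [Module S N] [Module C G] [Module S G] [IsScalarTower S C G]
  [Module S₁ N₁] [Module S N₁] [IsScalarTower S S₁ N₁]
  [Module C₁ G₁] [Module C G₁] [IsScalarTower C C₁ G₁] [Module S₁ G₁] [IsScalarTower S₁ C₁ G₁]
  (fN : N →ₗ[S] N₁) [IsLocalizedModule (Submonoid.powers hX) fN]
  (fG : G →ₗ[C] G₁) [IsLocalizedModule (Submonoid.powers hZ) fG]

include hX hZ hv hvu fN fG in
theorem nonempty_equiv_away (e : N ≃ₗ[S] G) : Nonempty (N₁ ≃ₗ[S₁] G₁) := by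
  letI : Module S G₁ := Module.compHom G₁ (algebraMap S C₁)
  haveI t0 : IsScalarTower S C₁ G₁ := IsScalarTower.of_algebraMap_smul fun _ _ => rfl
  haveI t1 : IsScalarTower S S₁ G₁ := IsScalarTower.of_algebraMap_smul fun s m => by
    change _ = algebraMap S C₁ s • m
    rw [IsScalarTower.algebraMap_apply S S₁ C₁, algebraMap_smul C₁ (algebraMap S S₁ s) m]
  haveI t2 : IsScalarTower S C G₁ := IsScalarTower.of_algebraMap_smul fun s m => by
    change _ = algebraMap S C₁ s • m
    rw [IsScalarTower.algebraMap_apply S C C₁, algebraMap_smul C₁ (algebraMap S C s) m]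
  let fG' : G →ₗ[S] G₁ := fG.restrictScalars S
  have hb : IsUnit (algebraMap S C₁ hX) := isUnit_algebraMap_hX hX hZ v hv hvu
  have hsmul : ∀ (k : ℕ) (m : G₁), hX ^ k • m = (algebraMap C C₁ v ^ k * algebraMap C C₁ hZ ^ k) • m := by
    intro k m
    rw [← algebraMap_smul C₁ (hX ^ k) m, map_pow, IsScalarTower.algebraMap_apply S C C₁, hv, map_mul,
      mul_pow]
  have hsmulG : ∀ (k : ℕ) (x : G), hX ^ k • x = (v ^ k * hZ ^ k) • x := by
    intro k x
    rw [← algebraMap_smul C (hX ^ k) x, map_pow, hv, mul_pow]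
  haveI hloc : IsLocalizedModule (Submonoid.powers hX) fG' := by
    constructor
    · rintro ⟨x, k, rfl⟩
      have h1 : IsUnit (algebraMap S C₁ (hX ^ k)) := by
        rw [map_pow]
        exact hb.pow k
      rw [Module.End.isUnit_iff]
      obtain ⟨w, hw⟩ := h1
      constructor
      · intro m₁ m₂ h
        simp only [Module.algebraMap_end_apply] at h
        have h' : algebraMap S C₁ (hX ^ k) • m₁ = algebraMap S C₁ (hX ^ k) • m₂ := by
          rw [algebraMap_smul, algebraMap_smul]
          exact h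
        rw [← hw] at h'
        have := congrArg (fun m => ((w⁻¹ : C₁ˣ) : C₁) • m) h'
        simpa [smul_smul] using this
      · intro m
        refine ⟨((w⁻¹ : C₁ˣ) : C₁) • m, ?_⟩
        simp only [Module.algebraMap_end_apply]
        rw [← algebraMap_smul C₁ (hX ^ k), ← hw, smul_smul, Units.mul_inv, one_smul]
    · intro y
      obtain ⟨⟨x, ⟨_, k, rfl⟩⟩, hx⟩ := IsLocalizedModule.surj (Submonoid.powers hZ) fG y
      refine ⟨(v ^ k • x, ⟨hX ^ k, k, rfl⟩), ?_⟩
      change hX ^ k • y = fG (v ^ k • x)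
      have hx' : hZ ^ k • y = fG x := hx
      rw [hsmul, map_smul, ← hx', mul_smul, ← map_pow, ← map_pow, algebraMap_smul, algebraMap_smul]
    · intro x₁ x₂ h
      obtain ⟨⟨_, k, rfl⟩, hc⟩ := IsLocalizedModule.exists_of_eq (S := Submonoid.powers hZ)
        (f := fG) h
      refine ⟨⟨hX ^ k, k, rfl⟩, ?_⟩
      change hX ^ k • x₁ = hX ^ k • x₂
      have hc' : hZ ^ k • x₁ = hZ ^ k • x₂ := hc
      rw [hsmulG, hsmulG, mul_smul, mul_smul, hc']
  haveI : IsLocalizedModule (Submonoid.powers hX) (fG' ∘ₗ e.toLinearMap) :=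
    IsLocalizedModule.of_linearEquiv_right (Submonoid.powers hX) fG' e
  let ε : N₁ ≃ₗ[S] G₁ :=
    IsLocalizedModule.linearEquiv (Submonoid.powers hX) fN (fG' ∘ₗ e.toLinearMap)
  exact ⟨LinearEquiv.extendScalarsOfIsLocalization (Submonoid.powers hX) S₁ ε⟩

end Mod

section Fin

variable {D C D₁ C₁ : Type u} [CommRing D] [CommRing C] [CommRing D₁] [CommRing C₁]
  [Algebra D C] [Algebra D D₁] [Algebra C C₁] [Algebra D₁ C₁] [Algebra D C₁]
  [IsScalarTower D D₁ C₁] [IsScalarTower D C C₁]
  (hY : D) (hZ : C) [IsLocalization.Away hY D₁] [IsLocalization.Away hZ C₁]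

include hY hZ in
theorem finite_away (hZY : hZ = algebraMap D C hY) [Module.Finite D C] : Module.Finite D₁ C₁ := by
  haveI : IsLocalization (Algebra.algebraMapSubmonoid C (Submonoid.powers hY)) C₁ := by
    have h2 : Algebra.algebraMapSubmonoid C (Submonoid.powers hY) = Submonoid.powers hZ := by
      unfold Algebra.algebraMapSubmonoid
      rw [Submonoid.map_powers, hZY]
    rw [h2]
    infer_instance
  exact Module.Finite.of_isLocalization D C (Submonoid.powers hY)

end Fin

end Groth.Agent.Lib.Helper15.SHR
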