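import Mathlib
import Groth.Prelude.Def_FlatCA
import Groth.Agent.Lib.Helper15.SHR5
import Groth.Agent.Lib.Helper15.OSD4

/-!
# Standard shrinking of a one-step dévissage: the abstract statement
-/

set_option autoImplicit false
universe u

namespace Groth.Agent.Lib.Helper15.SHR

open TensorProduct TopologicalSpace Groth.Agent.Lib.Helper15.OSD

attribute [local instance] Algebra.TensorProduct.rightAlgebra

section CM

/-- Compatible localizations: extend then contract. -/
theorem comap_map_map_away {A B A₁ B₁ : Type u} [CommRing A] [CommRing B] [CommRing A₁]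
    [CommRing B₁] [Algebra A B] [Algebra A A₁] [Algebra B B₁] [Algebra A₁ B₁]
    (a : A) (b : B) [IsLocalization.Away a A₁] [IsLocalization.Away b B₁]
    (hcomm : (algebraMap A₁ B₁).comp (algebraMap A A₁) = (algebraMap B B₁).comp (algebraMap A B))
    (P : Ideal A) (Q : Ideal B) [Q.IsPrime] (hb : b ∉ Q) (hQP : Q.comap (algebraMap A B) = P) :
    (Q.map (algebraMap B B₁)).comap (algebraMap A₁ B₁) = P.map (algebraMap A A₁) := by
  rw [eq_map_comap_away a ((Q.map (algebraMap B B₁)).comap (algebraMap A₁ B₁)), Ideal.comap_comap,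
    hcomm, ← Ideal.comap_comap, comap_map_away b Q hb, hQP]

theorem purelyTranscendental_away {R R₁ D D₁ : Type u} [CommRing R] [CommRing R₁] [CommRing D]
    [CommRing D₁] [Algebra R D] [Algebra R R₁] [Algebra D D₁] [Algebra R₁ D₁]
    (g : R) (hY : D) [IsLocalization.Away g R₁] [IsLocalization.Away hY D₁]
    (hRD : (algebraMap R₁ D₁).comp (algebraMap R R₁) = (algebraMap D D₁).comp (algebraMap R D))
    (p : Ideal R) [p.IsPrime] (y : Ideal D) [y.IsPrime] [hyp : y.LiesOver p]
    (p₁ : Ideal R₁) [p₁.IsPrime] (y₁ : Ideal D₁) [y₁.IsPrime] [hy₁p₁ : y₁.LiesOver p₁]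
    [hpp : p₁.LiesOver p] [hyy : y₁.LiesOver y]
    (h4 : FlatCA.PurelyTranscendental p y) : FlatCA.PurelyTranscendental p₁ y₁ := by
  letI : Algebra p.ResidueField y.ResidueField :=
    (Ideal.ResidueField.mapₐ p y (Algebra.ofId R D) hyp.over).toRingHom.toAlgebra
  letI : Algebra p₁.ResidueField y₁.ResidueField :=
    (Ideal.ResidueField.mapₐ p₁ y₁ (Algebra.ofId R₁ D₁) hy₁p₁.over).toRingHom.toAlgebra
  let τ : p.ResidueField ≃+* p₁.ResidueField :=
    RingEquiv.ofBijective (Ideal.ResidueField.map p p₁ (algebraMap R R₁) hpp.over)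
      (residue_bijective_away g p p₁ hpp.over)
  let σ : y.ResidueField ≃+* y₁.ResidueField :=
    RingEquiv.ofBijective (Ideal.ResidueField.map y y₁ (algebraMap D D₁) hyy.over)
      (residue_bijective_away hY y y₁ hyy.over)
  have hcomp : (algebraMap p₁.ResidueField y₁.ResidueField).comp
      (τ : p.ResidueField →+* p₁.ResidueField) =
      (σ : y.ResidueField →+* y₁.ResidueField).comp
        (algebraMap p.ResidueField y.ResidueField) := by
    change (Ideal.ResidueField.map p₁ y₁ (algebraMap R₁ D₁) hy₁p₁.over).comp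
        (Ideal.ResidueField.map p p₁ (algebraMap R R₁) hpp.over) =
      (Ideal.ResidueField.map y y₁ (algebraMap D D₁) hyy.over).comp
        (Ideal.ResidueField.map p y (algebraMap R D) hyp.over)
    apply Ideal.ResidueField.ringHom_ext
    ext r
    simp only [RingHom.comp_apply, Ideal.ResidueField.map_algebraMap]
    exact congrArg _ (RingHom.congr_fun hRD r)
  exact purelyTranscendental_transport τ σ hcomp h4

end CM

section Main

theorem shrink_abstract
    {R S : Type u} [CommRing R] [CommRing S] [Algebra R S] [Algebra.FiniteType R S]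
    {N : Type u} [AddCommGroup N] [Module S N] [Module R N] [IsScalarTower R S N]
    [Module.Finite S N]
    (p : Ideal R) [p.IsPrime] (q : Ideal S) [q.IsPrime] [q.LiesOver p]
    {C D G : Type u} [CommRing C] [CommRing D] [Algebra S C] [Algebra R C] [IsScalarTower R S C]
    [Algebra R D] [Algebra D C] [IsScalarTower R D C] [AddCommGroup G] [Module C G] [Module S G]
    [IsScalarTower S C G] (n : ℕ)
    (h : FlatCA.IsOneStepDevissage R S N p C D G n)
    (z : Ideal C) [z.IsPrime] (y : Ideal D) [y.IsPrime] [z.LiesOver q] [z.LiesOver y]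
    [y.LiesOver p]
    (h1 : ∃ (ξ : PrimeSpectrum (p.Fiber S))
      (hξ : ξ ∈ Module.support (p.Fiber S) (FlatCA.fiberMod p S N)),
      ξ.asIdeal = FlatCA.fiberIdeal p q ∧
      FlatMor.localDim (Module.support (p.Fiber S) (FlatCA.fiberMod p S N)) ⟨ξ, hξ⟩ = n)
    (h3 : ∀ (z₁ : Ideal C) [z₁.IsPrime], z₁.LiesOver y → z₁ = z)
    (h4 : FlatCA.PurelyTranscendental p y)
    {R₁ S₁ C₁ D₁ : Type u} [CommRing R₁] [CommRing S₁] [CommRing C₁] [CommRing D₁]
    [Algebra R R₁] [Algebra S S₁] [Algebra C C₁] [Algebra D D₁]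
    [Algebra R₁ S₁] [Algebra R₁ C₁] [Algebra R₁ D₁] [Algebra S₁ C₁] [Algebra D₁ C₁]
    [IsScalarTower R₁ S₁ C₁] [IsScalarTower R₁ D₁ C₁]
    (g : R) (hX : S) (hZ : C) (hY : D)
    [IsLocalization.Away g R₁] [IsLocalization.Away hX S₁] [IsLocalization.Away hZ C₁]
    [IsLocalization.Away hY D₁]
    (hRS : (algebraMap R₁ S₁).comp (algebraMap R R₁) = (algebraMap S S₁).comp (algebraMap R S))
    (hRD : (algebraMap R₁ D₁).comp (algebraMap R R₁) = (algebraMap D D₁).comp (algebraMap R D))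
    (hSC : (algebraMap S₁ C₁).comp (algebraMap S S₁) = (algebraMap C C₁).comp (algebraMap S C))
    (hDC : (algebraMap D₁ C₁).comp (algebraMap D D₁) = (algebraMap C C₁).comp (algebraMap D C))
    {N₁ G₁ : Type u} [AddCommGroup N₁] [Module S₁ N₁] [Module R₁ N₁] [IsScalarTower R₁ S₁ N₁]
    [Module S N₁] [IsScalarTower S S₁ N₁]
    [AddCommGroup G₁] [Module C₁ G₁] [Module S₁ G₁] [IsScalarTower S₁ C₁ G₁] [Module C G₁]
    [IsScalarTower C C₁ G₁]
    (fN : N →ₗ[S] N₁) [IsLocalizedModule (Submonoid.powers hX) fN]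
    (fG : G →ₗ[C] G₁) [IsLocalizedModule (Submonoid.powers hZ) fG]
    (hg : g ∉ p) (hXq : hX ∉ q) (hZz : hZ ∉ z) (hYy : hY ∉ y)
    (v : C) (hv : algebraMap S C hX = v * hZ) (hvu : IsUnit (algebraMap C C₁ v))
    (hZY : hZ = algebraMap D C hY)
    (hsurjSpec : Function.Surjective (PrimeSpectrum.comap (algebraMap R₁ D₁))) :
    ∃ (_ : (Ideal.map (algebraMap R R₁) p).IsPrime) (_ : (Ideal.map (algebraMap D D₁) y).IsPrime)
      (_ : (Ideal.map (algebraMap D D₁) y).LiesOver (Ideal.map (algebraMap R R₁) p)),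
      FlatCA.IsOneStepDevissage R₁ S₁ N₁ (Ideal.map (algebraMap R R₁) p) C₁ D₁ G₁ n ∧
      (∃ (ξ : PrimeSpectrum ((Ideal.map (algebraMap R R₁) p).Fiber S₁))
          (hξ : ξ ∈ Module.support ((Ideal.map (algebraMap R R₁) p).Fiber S₁)
            (FlatCA.fiberMod (Ideal.map (algebraMap R R₁) p) S₁ N₁)),
        ξ.asIdeal = FlatCA.fiberIdeal (Ideal.map (algebraMap R R₁) p)
          (Ideal.map (algebraMap S S₁) q) ∧
        FlatMor.localDim (Module.support ((Ideal.map (algebraMap R R₁) p).Fiber S₁)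
          (FlatCA.fiberMod (Ideal.map (algebraMap R R₁) p) S₁ N₁)) ⟨ξ, hξ⟩ = n) ∧
      (Ideal.map (algebraMap C C₁) z).LiesOver (Ideal.map (algebraMap S S₁) q) ∧
      (Ideal.map (algebraMap C C₁) z).LiesOver (Ideal.map (algebraMap D D₁) y) ∧
      (∀ (z₂ : Ideal C₁) [z₂.IsPrime], z₂.LiesOver (Ideal.map (algebraMap D D₁) y) →
        z₂ = Ideal.map (algebraMap C C₁) z) ∧
      FlatCA.PurelyTranscendental (Ideal.map (algebraMap R R₁) p)
        (Ideal.map (algebraMap D D₁) y) := by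
  obtain ⟨⟨e⟩, hsurj, hfp, hfinDC, hfinCG, hsm, hgi, hdim⟩ := h
  haveI := hfp
  haveI := hfinDC
  haveI := hfinCG
  -- the primes
  haveI hp₁ : (p.map (algebraMap R R₁)).IsPrime := map_isPrime_away g p hg
  haveI hy₁ : (y.map (algebraMap D D₁)).IsPrime := map_isPrime_away hY y hYy
  haveI hq₁ : (q.map (algebraMap S S₁)).IsPrime := map_isPrime_away hX q hXq
  haveI hz₁ : (z.map (algebraMap C C₁)).IsPrime := map_isPrime_away hZ z hZz
  have hqp : q.comap (algebraMap R S) = p := (Ideal.LiesOver.over (p := p) (P := q)).symm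
  have hyp : y.comap (algebraMap R D) = p := (Ideal.LiesOver.over (p := p) (P := y)).symm
  have hzq : z.comap (algebraMap S C) = q := (Ideal.LiesOver.over (p := q) (P := z)).symm
  have hzy : z.comap (algebraMap D C) = y := (Ideal.LiesOver.over (p := y) (P := z)).symm
  haveI hy₁p₁ : (y.map (algebraMap D D₁)).LiesOver (p.map (algebraMap R R₁)) :=
    ⟨(comap_map_map_away g hY hRD p y hYy hyp).symm⟩
  haveI hq₁p₁ : (q.map (algebraMap S S₁)).LiesOver (p.map (algebraMap R R₁)) :=
    ⟨(comap_map_map_away g hX hRS p q hXq hqp).symm⟩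
  have hz₁q₁ : (z.map (algebraMap C C₁)).LiesOver (q.map (algebraMap S S₁)) :=
    ⟨(comap_map_map_away hX hZ hSC q z hZz hzq).symm⟩
  have hz₁y₁ : (z.map (algebraMap C C₁)).LiesOver (y.map (algebraMap D D₁)) :=
    ⟨(comap_map_map_away hY hZ hDC y z hZz hzy).symm⟩
  haveI hp₁p : (p.map (algebraMap R R₁)).LiesOver p := liesOver_away g p hg
  haveI hy₁y : (y.map (algebraMap D D₁)).LiesOver y := liesOver_away hY y hYy
  haveI hq₁q : (q.map (algebraMap S S₁)).LiesOver q := liesOver_away hX q hXq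
  -- diagonal structures
  letI aRS₁ : Algebra R S₁ := ((algebraMap S S₁).comp (algebraMap R S)).toAlgebra
  haveI tRSS₁ : IsScalarTower R S S₁ := IsScalarTower.of_algebraMap_eq fun _ => rfl
  haveI tRR₁S₁ : IsScalarTower R R₁ S₁ :=
    IsScalarTower.of_algebraMap_eq fun r => (RingHom.congr_fun hRS r).symm
  letI aRD₁ : Algebra R D₁ := ((algebraMap D D₁).comp (algebraMap R D)).toAlgebra
  haveI tRDD₁ : IsScalarTower R D D₁ := IsScalarTower.of_algebraMap_eq fun _ => rfl
  haveI tRR₁D₁ : IsScalarTower R R₁ D₁ :=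
    IsScalarTower.of_algebraMap_eq fun r => (RingHom.congr_fun hRD r).symm
  letI aSC₁ : Algebra S C₁ := ((algebraMap C C₁).comp (algebraMap S C)).toAlgebra
  haveI tSCC₁ : IsScalarTower S C C₁ := IsScalarTower.of_algebraMap_eq fun _ => rfl
  haveI tSS₁C₁ : IsScalarTower S S₁ C₁ :=
    IsScalarTower.of_algebraMap_eq fun r => (RingHom.congr_fun hSC r).symm
  letI aDC₁ : Algebra D C₁ := ((algebraMap C C₁).comp (algebraMap D C)).toAlgebra
  haveI tDCC₁ : IsScalarTower D C C₁ := IsScalarTower.of_algebraMap_eq fun _ => rfl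
  haveI tDD₁C₁ : IsScalarTower D D₁ C₁ :=
    IsScalarTower.of_algebraMap_eq fun r => (RingHom.congr_fun hDC r).symm
  letI mRN₁ : Module R N₁ := Module.compHom N₁ (algebraMap R S₁)
  haveI tRS₁N₁ : IsScalarTower R S₁ N₁ := IsScalarTower.of_algebraMap_smul fun _ _ => rfl
  haveI hq₁p : (q.map (algebraMap S S₁)).LiesOver p :=
    Ideal.LiesOver.trans (q.map (algebraMap S S₁)) q p
  haveI fin₁ : Module.Finite S₁ N₁ := Module.Finite.of_isLocalizedModule (Submonoid.powers hX) fN
  haveI finG₁ : Module.Finite C₁ G₁ :=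
    Module.Finite.of_isLocalizedModule (Submonoid.powers hZ) fG
  -- local dimension
  have hξ₁ := exists_xi_localization (S₁ := S₁) p hX N N₁ fN q hXq n h1
  have hξ₂ := exists_xi_base g p (p.map (algebraMap R R₁)) S₁ N₁ (q.map (algebraMap S S₁)) n hξ₁
  -- the pieces of the dévissage
  obtain ⟨e₁⟩ := nonempty_equiv_away (S₁ := S₁) (C₁ := C₁) hX hZ v hv hvu fN fG e
  have hsurj₁ : Function.Surjective (algebraMap S₁ C₁) := surjective_away (S₁ := S₁) (C₁ := C₁) hX hZ v hv hvu hsurj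
  have hfp₁ : Algebra.FinitePresentation S₁ C₁ := finitePresentation_away (S₁ := S₁) (C₁ := C₁) hX hZ
  haveI hfin₁ : Module.Finite D₁ C₁ := finite_away (D₁ := D₁) (C₁ := C₁) hY hZ hZY
  obtain ⟨hsm₁, hgi₁⟩ := smooth_and_geomIrred_away (R₁ := R₁) (D₁ := D₁) g hY n hsm hgi hsurjSpec
  refine ⟨hp₁, hy₁, hy₁p₁, ⟨⟨e₁⟩, hsurj₁, hfp₁, hfin₁, finG₁, hsm₁, hgi₁, ?_⟩, hξ₂, hz₁q₁, hz₁y₁,
    ?_, ?_⟩
  · -- the dimension of the support of the fibre module
    apply le_antisymm
    · letI mD₁G₁ : Module D₁ G₁ := Module.compHom G₁ (algebraMap D₁ C₁)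
      haveI tD₁C₁G₁ : IsScalarTower D₁ C₁ G₁ := IsScalarTower.of_algebraMap_smul fun _ _ => rfl
      letI mR₁G₁ : Module R₁ G₁ := Module.compHom G₁ (algebraMap R₁ D₁)
      haveI tR₁D₁G₁ : IsScalarTower R₁ D₁ G₁ := IsScalarTower.of_algebraMap_smul fun _ _ => rfl
      have hle := supportDim_fiberMod_le_of_finite (S := S₁) (C := C₁) (D := D₁)
        (p.map (algebraMap R R₁)) N₁ G₁ e₁ hsurj₁
      have hle2 : Module.supportDim ((p.map (algebraMap R R₁)).Fiber D₁)
          (FlatCA.fiberMod (p.map (algebraMap R R₁)) D₁ G₁) ≤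
          ringKrullDim ((p.map (algebraMap R R₁)).Fiber D₁) :=
        Module.supportDim_le_ringKrullDim _ _
      have hF := fiber_ringKrullDim (p.map (algebraMap R R₁)) n hsm₁ hgi₁
      rw [hF] at hle2
      exact hle.trans hle2
    · obtain ⟨ξ', hξ', -, hd⟩ := hξ₂
      haveI : Module.Finite ((p.map (algebraMap R R₁)).Fiber S₁)
          (FlatCA.fiberMod (p.map (algebraMap R R₁)) S₁ N₁) :=
        inferInstanceAs (Module.Finite ((p.map (algebraMap R R₁)).Fiber S₁)
          (((p.map (algebraMap R R₁)).Fiber S₁) ⊗[S₁] N₁))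
      rw [← hd]
      exact localDim_le_supportDim ⟨ξ', hξ'⟩
  · -- uniqueness
    intro z₂ hz₂ hz₂y
    set z₂' := z₂.comap (algebraMap C C₁) with hz₂'
    haveI : z₂'.IsPrime := Ideal.comap_isPrime _ _
    have h5 : z₂'.LiesOver y := by
      constructor
      change y = (z₂.comap (algebraMap C C₁)).comap (algebraMap D C)
      rw [Ideal.comap_comap, ← hDC, ← Ideal.comap_comap]
      have h6 : z₂.comap (algebraMap D₁ C₁) = y.map (algebraMap D D₁) := hz₂y.over.symm
      rw [h6, comap_map_away hY y hYy]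
    have h7 := h3 z₂' h5
    rw [eq_map_comap_away hZ z₂, ← hz₂', h7]
  · exact purelyTranscendental_away g hY hRD p y (p.map (algebraMap R R₁))
      (y.map (algebraMap D D₁)) h4

end Main

end Groth.Agent.Lib.Helper15.SHR
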