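import Mathlib
import Groth.Prelude.Def_FlatCA
import Groth.Agent.Lib.Helper15.SHR6

/-!
# Standard shrinking of a one-step dévissage: the concrete structures
-/

set_option autoImplicit false
universe u

namespace Groth.Agent.Lib.Helper15.SHR

open TensorProduct TopologicalSpace Groth.Agent.Lib.Helper15.OSD

section Lift

variable {A A₁ B₁ : Type u} [CommRing A] [CommRing A₁] [CommRing B₁] [Algebra A A₁] [Algebra A B₁]
  (a : A) [IsLocalization.Away a A₁]

/-- the algebra structure on a target of a localization given by the universal property -/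
noncomputable def liftAlg (h : IsUnit (algebraMap A B₁ a)) : Algebra A₁ B₁ :=
  (IsLocalization.Away.lift a h).toAlgebra

theorem liftAlg_tower (h : IsUnit (algebraMap A B₁ a)) :
    letI := liftAlg (A₁ := A₁) a h
    IsScalarTower A A₁ B₁ := by
  letI := liftAlg (A₁ := A₁) a h
  exact IsScalarTower.of_algebraMap_eq fun r => (IsLocalization.Away.lift_eq a h r).symm

include a in
theorem tower3 {C₁ : Type u} [CommRing C₁] [Algebra A C₁] [Algebra A₁ B₁] [Algebra B₁ C₁]
    [Algebra A₁ C₁] [IsScalarTower A A₁ B₁] [IsScalarTower A A₁ C₁] [IsScalarTower A B₁ C₁] :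
    IsScalarTower A₁ B₁ C₁ := by
  apply IsScalarTower.of_algebraMap_eq'
  apply IsLocalization.ringHom_ext (Submonoid.powers a)
  rw [RingHom.comp_assoc, ← IsScalarTower.algebraMap_eq A A₁ C₁, ← IsScalarTower.algebraMap_eq A A₁ B₁,
    ← IsScalarTower.algebraMap_eq A B₁ C₁]

end Lift

section Open

open AlgebraicGeometry CategoryTheory

theorem isOpenMap_comap_of_smooth {R D : Type u} [CommRing R] [CommRing D] [Algebra R D] (n : ℕ)
    (hsm : FlatCA.SmoothRelDim n R D) : IsOpenMap (PrimeSpectrum.comap (algebraMap R D)) := by
  haveI : SmoothOfRelativeDimension n (Spec.map (CommRingCat.ofHom (algebraMap R D))) := hsm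
  haveI : Smooth (Spec.map (CommRingCat.ofHom (algebraMap R D))) :=
    SmoothOfRelativeDimension.smooth n _
  exact (Spec.map (CommRingCat.ofHom (algebraMap R D))).isOpenMap

end Open

section Struct

theorem shrink_struct
    (R S : Type u) [CommRing R] [CommRing S] [Algebra R S] [Algebra.FiniteType R S]
    (N : Type u) [AddCommGroup N] [Module S N] [Module R N] [IsScalarTower R S N]
    [Module.Finite S N]
    (p : Ideal R) [p.IsPrime] (q : Ideal S) [q.IsPrime] [q.LiesOver p]
    (C D G : Type u) [CommRing C] [CommRing D] [Algebra S C] [Algebra R C] [IsScalarTower R S C]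
    [Algebra R D] [Algebra D C] [IsScalarTower R D C] [AddCommGroup G] [Module C G] [Module S G]
    [IsScalarTower S C G] (n : ℕ)
    (h : FlatCA.IsOneStepDevissage R S N p C D G n)
    (z : Ideal C) [z.IsPrime] (y : Ideal D) [y.IsPrime] [z.LiesOver q] [z.LiesOver y]
    [y.LiesOver p]
    (h1 : ∃ (ξ : PrimeSpectrum (p.Fiber S))
      (hξ : ξ ∈ Module.support (p.Fiber S) (FlatCA.fiberMod p S N)),
      ξ.asIdeal = FlatCA.fiberIdeal p q ∧
      FlatMor.localDim (Module.support (p.Fiber S) (FlatCA.fiberMod p S N)) ⟨ξ, hξ⟩ = n)
    (h3 : ∀ (z₁ : Ideal C) [z₁.IsPrime], z₁.LiesOver y → z₁ = z)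
    (h4 : FlatCA.PurelyTranscendental p y)
    (g : R) (hX : S) (hZ : C) (hY : D)
    (hg : g ∉ p) (hXq : hX ∉ q) (hZz : hZ ∉ z) (hYy : hY ∉ y)
    (v : C) (hv : algebraMap S C hX = v * hZ) (hvdvd : v ∣ hZ)
    (hZY : hZ = algebraMap D C hY)
    (hgX : algebraMap R S g ∣ hX) (hgY : algebraMap R D g ∣ hY)
    (hU : ∀ P : PrimeSpectrum R, g ∉ P.asIdeal →
      ∃ Q : PrimeSpectrum D, hY ∉ Q.asIdeal ∧ Q.asIdeal.comap (algebraMap R D) = P.asIdeal) :
    ∃ (_ : Algebra (Localization.Away g) (Localization.Away hX)) (_ : IsScalarTower R (Localization.Away g) (Localization.Away hX))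
        (_ : Algebra (Localization.Away g) (Localization.Away hZ)) (_ : IsScalarTower R (Localization.Away g) (Localization.Away hZ))
        (_ : Algebra (Localization.Away g) (Localization.Away hY)) (_ : IsScalarTower R (Localization.Away g) (Localization.Away hY))
        (_ : Algebra (Localization.Away hX) (Localization.Away hZ)) (_ : IsScalarTower S (Localization.Away hX) (Localization.Away hZ))
        (_ : IsScalarTower (Localization.Away g) (Localization.Away hX) (Localization.Away hZ))
        (_ : Algebra (Localization.Away hY) (Localization.Away hZ)) (_ : IsScalarTower D (Localization.Away hY) (Localization.Away hZ))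
        (_ : IsScalarTower (Localization.Away g) (Localization.Away hY) (Localization.Away hZ))
        (_ : Module (Localization.Away g) (LocalizedModule (Submonoid.powers hX) N)) (_ : IsScalarTower (Localization.Away g) (Localization.Away hX) (LocalizedModule (Submonoid.powers hX) N))
        (_ : Module (Localization.Away hX) (LocalizedModule (Submonoid.powers hZ) G)) (_ : IsScalarTower (Localization.Away hX) (Localization.Away hZ) (LocalizedModule (Submonoid.powers hZ) G))
        (_ : (Ideal.map (algebraMap R (Localization.Away g)) p).IsPrime) (_ : (Ideal.map (algebraMap D (Localization.Away hY)) y).IsPrime) (_ : (Ideal.map (algebraMap D (Localization.Away hY)) y).LiesOver (Ideal.map (algebraMap R (Localization.Away g)) p)),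
        FlatCA.IsOneStepDevissage (Localization.Away g) (Localization.Away hX) (LocalizedModule (Submonoid.powers hX) N) (Ideal.map (algebraMap R (Localization.Away g)) p) (Localization.Away hZ) (Localization.Away hY) (LocalizedModule (Submonoid.powers hZ) G) n ∧
        (∃ (ξ : PrimeSpectrum ((Ideal.map (algebraMap R (Localization.Away g)) p).Fiber (Localization.Away hX)))
            (hξ : ξ ∈ Module.support ((Ideal.map (algebraMap R (Localization.Away g)) p).Fiber (Localization.Away hX)) (FlatCA.fiberMod (Ideal.map (algebraMap R (Localization.Away g)) p) (Localization.Away hX) (LocalizedModule (Submonoid.powers hX) N))),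
          ξ.asIdeal = FlatCA.fiberIdeal (Ideal.map (algebraMap R (Localization.Away g)) p) (Ideal.map (algebraMap S (Localization.Away hX)) q) ∧
          FlatMor.localDim (Module.support ((Ideal.map (algebraMap R (Localization.Away g)) p).Fiber (Localization.Away hX)) (FlatCA.fiberMod (Ideal.map (algebraMap R (Localization.Away g)) p) (Localization.Away hX) (LocalizedModule (Submonoid.powers hX) N))) ⟨ξ, hξ⟩ = n) ∧
        (Ideal.map (algebraMap C (Localization.Away hZ)) z).LiesOver (Ideal.map (algebraMap S (Localization.Away hX)) q) ∧ (Ideal.map (algebraMap C (Localization.Away hZ)) z).LiesOver (Ideal.map (algebraMap D (Localization.Away hY)) y) ∧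
        (∀ (z₂ : Ideal (Localization.Away hZ)) [z₂.IsPrime], z₂.LiesOver (Ideal.map (algebraMap D (Localization.Away hY)) y) → z₂ = Ideal.map (algebraMap C (Localization.Away hZ)) z) ∧
        FlatCA.PurelyTranscendental (Ideal.map (algebraMap R (Localization.Away g)) p) (Ideal.map (algebraMap D (Localization.Away hY)) y) := by
  -- units
  have hXu : IsUnit (algebraMap S (Localization.Away hX) hX) :=
    IsLocalization.Away.algebraMap_isUnit hX
  have hYu : IsUnit (algebraMap D (Localization.Away hY) hY) :=
    IsLocalization.Away.algebraMap_isUnit hY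
  have hZu : IsUnit (algebraMap C (Localization.Away hZ) hZ) :=
    IsLocalization.Away.algebraMap_isUnit hZ
  have hgS₁ : IsUnit (algebraMap R (Localization.Away hX) g) := by
    rw [IsScalarTower.algebraMap_apply R S (Localization.Away hX)]
    exact isUnit_of_dvd_unit (map_dvd (algebraMap S (Localization.Away hX)) hgX) hXu
  have hgD₁ : IsUnit (algebraMap R (Localization.Away hY) g) := by
    rw [IsScalarTower.algebraMap_apply R D (Localization.Away hY)]
    exact isUnit_of_dvd_unit (map_dvd (algebraMap D (Localization.Away hY)) hgY) hYu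
  have hgC₁ : IsUnit (algebraMap R (Localization.Away hZ) g) := by
    rw [IsScalarTower.algebraMap_apply R C (Localization.Away hZ),
      IsScalarTower.algebraMap_apply R D C]
    have : algebraMap D C (algebraMap R D g) ∣ hZ := by
      rw [hZY]
      exact map_dvd (algebraMap D C) hgY
    exact isUnit_of_dvd_unit (map_dvd (algebraMap C (Localization.Away hZ)) this) hZu
  have hvu : IsUnit (algebraMap C (Localization.Away hZ) v) :=
    isUnit_of_dvd_unit (map_dvd (algebraMap C (Localization.Away hZ)) hvdvd) hZu
  have hXC₁ : IsUnit (algebraMap S (Localization.Away hZ) hX) := by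
    rw [IsScalarTower.algebraMap_apply S C (Localization.Away hZ), hv, map_mul]
    exact hvu.mul hZu
  have hYC₁ : IsUnit (algebraMap D (Localization.Away hZ) hY) := by
    rw [IsScalarTower.algebraMap_apply D C (Localization.Away hZ), ← hZY]
    exact hZu
  -- structures
  letI aR₁S₁ : Algebra (Localization.Away g) (Localization.Away hX) := liftAlg g hgS₁
  haveI tRR₁S₁ : IsScalarTower R (Localization.Away g) (Localization.Away hX) :=
    liftAlg_tower g hgS₁
  letI aR₁C₁ : Algebra (Localization.Away g) (Localization.Away hZ) := liftAlg g hgC₁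
  haveI tRR₁C₁ : IsScalarTower R (Localization.Away g) (Localization.Away hZ) :=
    liftAlg_tower g hgC₁
  letI aR₁D₁ : Algebra (Localization.Away g) (Localization.Away hY) := liftAlg g hgD₁
  haveI tRR₁D₁ : IsScalarTower R (Localization.Away g) (Localization.Away hY) :=
    liftAlg_tower g hgD₁
  letI aS₁C₁ : Algebra (Localization.Away hX) (Localization.Away hZ) := liftAlg hX hXC₁
  haveI tSS₁C₁ : IsScalarTower S (Localization.Away hX) (Localization.Away hZ) :=
    liftAlg_tower hX hXC₁
  letI aD₁C₁ : Algebra (Localization.Away hY) (Localization.Away hZ) := liftAlg hY hYC₁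
  haveI tDD₁C₁ : IsScalarTower D (Localization.Away hY) (Localization.Away hZ) :=
    liftAlg_tower hY hYC₁
  haveI tRS₁C₁ : IsScalarTower R (Localization.Away hX) (Localization.Away hZ) := by
    apply IsScalarTower.of_algebraMap_eq
    intro r
    rw [IsScalarTower.algebraMap_apply R S (Localization.Away hX),
      ← IsScalarTower.algebraMap_apply S (Localization.Away hX) (Localization.Away hZ),
      ← IsScalarTower.algebraMap_apply R S (Localization.Away hZ)]
  haveI tRD₁C₁ : IsScalarTower R (Localization.Away hY) (Localization.Away hZ) := by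
    apply IsScalarTower.of_algebraMap_eq
    intro r
    rw [IsScalarTower.algebraMap_apply R D (Localization.Away hY),
      ← IsScalarTower.algebraMap_apply D (Localization.Away hY) (Localization.Away hZ),
      IsScalarTower.algebraMap_apply R C (Localization.Away hZ),
      IsScalarTower.algebraMap_apply R D C,
      ← IsScalarTower.algebraMap_apply D C (Localization.Away hZ)]
  haveI tR₁S₁C₁ : IsScalarTower (Localization.Away g) (Localization.Away hX)
      (Localization.Away hZ) := tower3 g
  haveI tR₁D₁C₁ : IsScalarTower (Localization.Away g) (Localization.Away hY)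
      (Localization.Away hZ) := tower3 g
  letI mR₁N₁ : Module (Localization.Away g) (LocalizedModule (Submonoid.powers hX) N) :=
    Module.compHom _ (algebraMap (Localization.Away g) (Localization.Away hX))
  haveI tR₁S₁N₁ : IsScalarTower (Localization.Away g) (Localization.Away hX)
      (LocalizedModule (Submonoid.powers hX) N) :=
    IsScalarTower.of_algebraMap_smul fun _ _ => rfl
  letI mS₁G₁ : Module (Localization.Away hX) (LocalizedModule (Submonoid.powers hZ) G) :=
    Module.compHom _ (algebraMap (Localization.Away hX) (Localization.Away hZ))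
  haveI tS₁C₁G₁ : IsScalarTower (Localization.Away hX) (Localization.Away hZ)
      (LocalizedModule (Submonoid.powers hZ) G) :=
    IsScalarTower.of_algebraMap_smul fun _ _ => rfl
  refine ⟨aR₁S₁, tRR₁S₁, aR₁C₁, tRR₁C₁, aR₁D₁, tRR₁D₁, aS₁C₁, tSS₁C₁, tR₁S₁C₁, aD₁C₁, tDD₁C₁,
    tR₁D₁C₁, mR₁N₁, tR₁S₁N₁, mS₁G₁, tS₁C₁G₁, ?_⟩
  -- compatibilities
  have hRS : (algebraMap (Localization.Away g) (Localization.Away hX)).comp
      (algebraMap R (Localization.Away g)) =
      (algebraMap S (Localization.Away hX)).comp (algebraMap R S) := by
    rw [← IsScalarTower.algebraMap_eq, ← IsScalarTower.algebraMap_eq]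
  have hRD : (algebraMap (Localization.Away g) (Localization.Away hY)).comp
      (algebraMap R (Localization.Away g)) =
      (algebraMap D (Localization.Away hY)).comp (algebraMap R D) := by
    rw [← IsScalarTower.algebraMap_eq, ← IsScalarTower.algebraMap_eq]
  have hSC : (algebraMap (Localization.Away hX) (Localization.Away hZ)).comp
      (algebraMap S (Localization.Away hX)) =
      (algebraMap C (Localization.Away hZ)).comp (algebraMap S C) := by
    rw [← IsScalarTower.algebraMap_eq, ← IsScalarTower.algebraMap_eq]
  have hDC : (algebraMap (Localization.Away hY) (Localization.Away hZ)).comp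
      (algebraMap D (Localization.Away hY)) =
      (algebraMap C (Localization.Away hZ)).comp (algebraMap D C) := by
    rw [← IsScalarTower.algebraMap_eq, ← IsScalarTower.algebraMap_eq]
  -- surjectivity on spectra
  have hsurjSpec : Function.Surjective (PrimeSpectrum.comap
      (algebraMap (Localization.Away g) (Localization.Away hY))) := by
    intro P₁
    set P : PrimeSpectrum R := PrimeSpectrum.comap (algebraMap R (Localization.Away g)) P₁ with hP
    have hgP : g ∉ P.asIdeal := by
      intro hmem
      have h5 : algebraMap R (Localization.Away g) g ∈ P₁.asIdeal := hmem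
      exact P₁.2.ne_top (Ideal.eq_top_of_isUnit_mem _ h5
        (IsLocalization.Away.algebraMap_isUnit g))
    obtain ⟨Q, hQY, hQP⟩ := hU P hgP
    haveI : (Q.asIdeal.map (algebraMap D (Localization.Away hY))).IsPrime :=
      map_isPrime_away hY Q.asIdeal hQY
    refine ⟨⟨Q.asIdeal.map (algebraMap D (Localization.Away hY)), inferInstance⟩, ?_⟩
    apply PrimeSpectrum.ext
    change (Q.asIdeal.map (algebraMap D (Localization.Away hY))).comap
      (algebraMap (Localization.Away g) (Localization.Away hY)) = P₁.asIdeal
    rw [comap_map_map_away g hY hRD P.asIdeal Q.asIdeal hQY hQP]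
    exact (eq_map_comap_away g P₁.asIdeal).symm
  exact shrink_abstract p q n h z y h1 h3 h4 g hX hZ hY hRS hRD hSC hDC
    (LocalizedModule.mkLinearMap (Submonoid.powers hX) N)
    (LocalizedModule.mkLinearMap (Submonoid.powers hZ) G) hg hXq hZz hYy v hv hvu hZY hsurjSpec

end Struct

end Groth.Agent.Lib.Helper15.SHR
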