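import Mathlib
import Groth.Prelude.Def_FlatCA
import Groth.Agent.Lib.Helper15.SHR7

/-!
# Standard shrinking of a one-step dévissage: choosing the elements
-/

set_option autoImplicit false
universe u

namespace Groth.Agent.Lib.Helper15.SHR

open TensorProduct TopologicalSpace Groth.Agent.Lib.Helper15.OSD

section Choose

/-- an element of `S` outside `q` becomes invertible on `Z` over a standard open of `Y` around
the point `y` -/
theorem exists_w
    {S C D : Type u} [CommRing S] [CommRing C] [CommRing D] [Algebra S C] [Algebra D C]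
    [Module.Finite D C]
    (q : Ideal S) [q.IsPrime]
    (z : Ideal C) [z.IsPrime] (y : Ideal D) [y.IsPrime] [z.LiesOver q] [z.LiesOver y]
    (h3 : ∀ (z₁ : Ideal C) [z₁.IsPrime], z₁.LiesOver y → z₁ = z)
    (u : S) (hu : u ∉ q) :
    ∃ (w : D) (c : C), w ∉ y ∧ algebraMap S C u * c = algebraMap D C w := by
  haveI : Algebra.IsIntegral D C := Algebra.IsIntegral.of_finite D C
  by_contra hcon
  push_neg at hcon
  have hle : (Ideal.span {algebraMap S C u}).comap (algebraMap D C) ≤ y := by
    intro w hwm
    by_contra hwy
    rw [Ideal.mem_comap, Ideal.mem_span_singleton'] at hwm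
    obtain ⟨c, hc⟩ := hwm
    exact hcon w c hwy (by rw [mul_comm]; exact hc)
  obtain ⟨Q, hQI, hQprime, hQy⟩ :=
    Ideal.exists_ideal_over_prime_of_isIntegral y (Ideal.span {algebraMap S C u}) hle
  haveI := hQprime
  have hQz : Q = z := h3 Q ⟨hQy.symm⟩
  have h5 : algebraMap S C u ∈ z := hQz ▸ hQI (Ideal.subset_span rfl)
  apply hu
  rw [Ideal.LiesOver.over (p := q) (P := z)]
  exact h5

theorem shrink_choose
    (R S : Type u) [CommRing R] [CommRing S] [Algebra R S] [Algebra.FiniteType R S]
    (N : Type u) [AddCommGroup N] [Module S N] [Module R N] [IsScalarTower R S N]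
    [Module.Finite S N]
    (p : Ideal R) [p.IsPrime] (q : Ideal S) [q.IsPrime] [q.LiesOver p]
    (C D G : Type u) [CommRing C] [CommRing D] [Algebra S C] [Algebra R C] [IsScalarTower R S C]
    [Algebra R D] [Algebra D C] [IsScalarTower R D C] [AddCommGroup G] [Module C G] [Module S G]
    [IsScalarTower S C G] (n : ℕ)
    (h : FlatCA.IsOneStepDevissage R S N p C D G n)
    (z : Ideal C) [z.IsPrime] (y : Ideal D) [y.IsPrime] [z.LiesOver q] [z.LiesOver y]
    [y.LiesOver p]
    (h1 : ∃ (ξ : PrimeSpectrum (p.Fiber S))
      (hξ : ξ ∈ Module.support (p.Fiber S) (FlatCA.fiberMod p S N)),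
      ξ.asIdeal = FlatCA.fiberIdeal p q ∧
      FlatMor.localDim (Module.support (p.Fiber S) (FlatCA.fiberMod p S N)) ⟨ξ, hξ⟩ = n)
    (h3 : ∀ (z₁ : Ideal C) [z₁.IsPrime], z₁.LiesOver y → z₁ = z)
    (h4 : FlatCA.PurelyTranscendental p y)
    (w : D) (hw : w ∉ y) (u : S) (hu : u ∉ q) (c : C)
    (hc : algebraMap S C u * c = algebraMap D C w) :
    ∃ (g : R) (hX : S) (hZ : C), g ∉ p ∧ hX ∉ q ∧ hZ ∉ z ∧
      IsUnit (algebraMap S (Localization.Away hX) u) ∧
      ∃ (_ : Algebra (Localization.Away g) (Localization.Away hX)) (_ : IsScalarTower R (Localization.Away g) (Localization.Away hX))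
        (_ : Algebra (Localization.Away g) (Localization.Away hZ)) (_ : IsScalarTower R (Localization.Away g) (Localization.Away hZ))
        (_ : Algebra (Localization.Away g) (Localization.Away (w * algebraMap R D g))) (_ : IsScalarTower R (Localization.Away g) (Localization.Away (w * algebraMap R D g)))
        (_ : Algebra (Localization.Away hX) (Localization.Away hZ)) (_ : IsScalarTower S (Localization.Away hX) (Localization.Away hZ))
        (_ : IsScalarTower (Localization.Away g) (Localization.Away hX) (Localization.Away hZ))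
        (_ : Algebra (Localization.Away (w * algebraMap R D g)) (Localization.Away hZ)) (_ : IsScalarTower D (Localization.Away (w * algebraMap R D g)) (Localization.Away hZ))
        (_ : IsScalarTower (Localization.Away g) (Localization.Away (w * algebraMap R D g)) (Localization.Away hZ))
        (_ : Module (Localization.Away g) (LocalizedModule (Submonoid.powers hX) N)) (_ : IsScalarTower (Localization.Away g) (Localization.Away hX) (LocalizedModule (Submonoid.powers hX) N))
        (_ : Module (Localization.Away hX) (LocalizedModule (Submonoid.powers hZ) G)) (_ : IsScalarTower (Localization.Away hX) (Localization.Away hZ) (LocalizedModule (Submonoid.powers hZ) G))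
        (_ : (Ideal.map (algebraMap R (Localization.Away g)) p).IsPrime) (_ : (Ideal.map (algebraMap D (Localization.Away (w * algebraMap R D g))) y).IsPrime) (_ : (Ideal.map (algebraMap D (Localization.Away (w * algebraMap R D g))) y).LiesOver (Ideal.map (algebraMap R (Localization.Away g)) p)),
        FlatCA.IsOneStepDevissage (Localization.Away g) (Localization.Away hX) (LocalizedModule (Submonoid.powers hX) N) (Ideal.map (algebraMap R (Localization.Away g)) p) (Localization.Away hZ) (Localization.Away (w * algebraMap R D g)) (LocalizedModule (Submonoid.powers hZ) G) n ∧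
        (∃ (ξ : PrimeSpectrum ((Ideal.map (algebraMap R (Localization.Away g)) p).Fiber (Localization.Away hX)))
            (hξ : ξ ∈ Module.support ((Ideal.map (algebraMap R (Localization.Away g)) p).Fiber (Localization.Away hX)) (FlatCA.fiberMod (Ideal.map (algebraMap R (Localization.Away g)) p) (Localization.Away hX) (LocalizedModule (Submonoid.powers hX) N))),
          ξ.asIdeal = FlatCA.fiberIdeal (Ideal.map (algebraMap R (Localization.Away g)) p) (Ideal.map (algebraMap S (Localization.Away hX)) q) ∧
          FlatMor.localDim (Module.support ((Ideal.map (algebraMap R (Localization.Away g)) p).Fiber (Localization.Away hX)) (FlatCA.fiberMod (Ideal.map (algebraMap R (Localization.Away g)) p) (Localization.Away hX) (LocalizedModule (Submonoid.powers hX) N))) ⟨ξ, hξ⟩ = n) ∧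
        (Ideal.map (algebraMap C (Localization.Away hZ)) z).LiesOver (Ideal.map (algebraMap S (Localization.Away hX)) q) ∧ (Ideal.map (algebraMap C (Localization.Away hZ)) z).LiesOver (Ideal.map (algebraMap D (Localization.Away (w * algebraMap R D g))) y) ∧
        (∀ (z₂ : Ideal (Localization.Away hZ)) [z₂.IsPrime], z₂.LiesOver (Ideal.map (algebraMap D (Localization.Away (w * algebraMap R D g))) y) → z₂ = Ideal.map (algebraMap C (Localization.Away hZ)) z) ∧
        FlatCA.PurelyTranscendental (Ideal.map (algebraMap R (Localization.Away g)) p) (Ideal.map (algebraMap D (Localization.Away (w * algebraMap R D g))) y) := by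
  have h' := h
  obtain ⟨-, hsurj, -, -, -, hsm, -, -⟩ := h'
  have hopen := isOpenMap_comap_of_smooth n hsm
  have hqp : q.comap (algebraMap R S) = p := (Ideal.LiesOver.over (p := p) (P := q)).symm
  have hyp : y.comap (algebraMap R D) = p := (Ideal.LiesOver.over (p := p) (P := y)).symm
  have hzq : z.comap (algebraMap S C) = q := (Ideal.LiesOver.over (p := q) (P := z)).symm
  have hzy : z.comap (algebraMap D C) = y := (Ideal.LiesOver.over (p := y) (P := z)).symm
  -- the base element
  have hUopen : IsOpen (PrimeSpectrum.comap (algebraMap R D) ''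
      (PrimeSpectrum.basicOpen w : Set (PrimeSpectrum D))) :=
    hopen _ (PrimeSpectrum.basicOpen w).isOpen
  have hpU : (⟨p, inferInstance⟩ : PrimeSpectrum R) ∈ PrimeSpectrum.comap (algebraMap R D) ''
      (PrimeSpectrum.basicOpen w : Set (PrimeSpectrum D)) :=
    ⟨⟨y, inferInstance⟩, hw, PrimeSpectrum.ext hyp⟩
  obtain ⟨_, ⟨g, rfl⟩, hpg, hgU⟩ :=
    PrimeSpectrum.isTopologicalBasis_basic_opens.exists_subset_of_mem_open hpU hUopen
  have hgp : g ∉ p := hpg
  obtain ⟨s_w, hs_w⟩ := hsurj (algebraMap D C w)
  have hgq : algebraMap R S g ∉ q := fun hmem => hgp (by rw [← hqp]; exact hmem)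
  have hgy : algebraMap R D g ∉ y := fun hmem => hgp (by rw [← hyp]; exact hmem)
  have hswq : s_w ∉ q := by
    intro hmem
    apply hw
    rw [← hzy, Ideal.mem_comap, ← hs_w]
    rw [← hzq] at hmem
    exact hmem
  have hYy : w * algebraMap R D g ∉ y := fun hmem =>
    (Ideal.IsPrime.mem_or_mem inferInstance hmem).elim hw hgy
  have hXq : u * s_w * algebraMap R S g ∉ q := fun hmem =>
    (Ideal.IsPrime.mem_or_mem inferInstance hmem).elim
      (fun h' => (Ideal.IsPrime.mem_or_mem inferInstance h').elim hu hswq) hgq
  have hZz : algebraMap D C (w * algebraMap R D g) ∉ z := fun hmem => hYy (by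
    rw [← hzy]; exact hmem)
  have hunit : IsUnit (algebraMap S (Localization.Away (u * s_w * algebraMap R S g)) u) := by
    have hd : u ∣ u * s_w * algebraMap R S g := ⟨s_w * algebraMap R S g, by ring⟩
    exact isUnit_of_dvd_unit (map_dvd _ hd)
      (IsLocalization.Away.algebraMap_isUnit (u * s_w * algebraMap R S g))
  have hv : algebraMap S C (u * s_w * algebraMap R S g) =
      algebraMap S C u * algebraMap D C (w * algebraMap R D g) := by
    rw [map_mul, map_mul, hs_w, map_mul, ← IsScalarTower.algebraMap_apply R S C,
      ← IsScalarTower.algebraMap_apply R D C]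
    ring
  have hvdvd : algebraMap S C u ∣ algebraMap D C (w * algebraMap R D g) :=
    ⟨c * algebraMap D C (algebraMap R D g), by rw [map_mul, ← hc]; ring⟩
  have hgX : algebraMap R S g ∣ u * s_w * algebraMap R S g := Dvd.intro_left _ rfl
  have hgY : algebraMap R D g ∣ w * algebraMap R D g := Dvd.intro_left _ rfl
  have hU : ∀ P : PrimeSpectrum R, g ∉ P.asIdeal →
      ∃ Q : PrimeSpectrum D, w * algebraMap R D g ∉ Q.asIdeal ∧
        Q.asIdeal.comap (algebraMap R D) = P.asIdeal := by
    intro P hgP
    obtain ⟨Q, hQw, hQP⟩ := hgU (show P ∈ (PrimeSpectrum.basicOpen g : Set (PrimeSpectrum R))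
      from hgP)
    have hQP' : Q.asIdeal.comap (algebraMap R D) = P.asIdeal :=
      congrArg PrimeSpectrum.asIdeal hQP
    refine ⟨Q, ?_, hQP'⟩
    intro hmem
    rcases Ideal.IsPrime.mem_or_mem Q.2 hmem with h5 | h5
    · exact hQw h5
    · apply hgP
      rw [← hQP']
      exact h5
  refine ⟨g, u * s_w * algebraMap R S g, algebraMap D C (w * algebraMap R D g), hgp, hXq, hZz,
    hunit, ?_⟩
  exact shrink_struct R S N p q C D G n h z y h1 h3 h4 g (u * s_w * algebraMap R S g)
    (algebraMap D C (w * algebraMap R D g)) (w * algebraMap R D g) hgp hXq hZz hYy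
    (algebraMap S C u) hv hvdvd rfl hgX hgY hU

end Choose

end Groth.Agent.Lib.Helper15.SHR
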