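import Mathlib
import Groth.Prelude.Def_FlatCA
import Groth.Agent.Lib.Helper15.SHR8
import Groth.Agent.Lib.Helper15.CDB11

/-!
# Standard shrinking of complete dévissages: the data and the localized rings
-/

set_option autoImplicit false
universe u

namespace Groth.Agent.Lib.Helper15.CDS

open TensorProduct Groth.Agent.Lib.Helper15.SHR
open Groth.Agent.Lib.Helper15.CDB (IfRing)

section AwayLift

variable {R R₁ X₀ X Z : Type u} [CommRing R] [CommRing R₁] [CommRing X₀] [CommRing X] [CommRing Z]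
  [Algebra R R₁] [Algebra R X₀] [Algebra R X] [Algebra R Z] [Algebra R₁ X] [Algebra R₁ Z]
  [Algebra X₀ X] [IsScalarTower R R₁ X] [IsScalarTower R R₁ Z] [IsScalarTower R X₀ X]
  (g : R) [IsLocalization.Away g R₁] (x : X₀) [IsLocalization.Away x X]

/-- a map out of a localization, over a localization of the base -/
noncomputable def awayLift (φ₀ : X₀ →ₐ[R] Z) (h : IsUnit ((φ₀ : X₀ →+* Z) x)) : X →ₐ[R₁] Z :=
  { IsLocalization.Away.lift x (g := (φ₀ : X₀ →+* Z)) h with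
    commutes' := fun r₁ => by
      have h1 : ((IsLocalization.Away.lift x (g := (φ₀ : X₀ →+* Z)) h).comp (algebraMap R₁ X)) =
          algebraMap R₁ Z := by
        apply IsLocalization.ringHom_ext (Submonoid.powers g)
        ext r
        simp only [RingHom.comp_apply]
        rw [← IsScalarTower.algebraMap_apply R R₁ X, IsScalarTower.algebraMap_apply R X₀ X,
          IsLocalization.Away.lift_eq, ← IsScalarTower.algebraMap_apply R R₁ Z]
        exact φ₀.commutes r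
      exact RingHom.congr_fun h1 r₁ }

theorem awayLift_algebraMap (φ₀ : X₀ →ₐ[R] Z) (h : IsUnit ((φ₀ : X₀ →+* Z) x)) (y : X₀) :
    awayLift (R₁ := R₁) g x φ₀ h (algebraMap X₀ X y) = φ₀ y :=
  IsLocalization.Away.lift_eq x h y

end AwayLift

section IfRingMore

variable {c : Prop} {R' : Type u} [CommRing R'] {X Y X' Y' Z : Type u} [CommRing X] [CommRing Y]
  [CommRing X'] [CommRing Y'] [CommRing Z] [Algebra R' X] [Algebra R' Y] [Algebra R' X']
  [Algebra R' Y'] [Algebra R' Z]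

/-- componentwise map -/
noncomputable def ifMap (φ : X →ₐ[R'] X') (ψ : Y →ₐ[R'] Y') : IfRing c X Y →ₐ[R'] IfRing c X' Y' :=
  AlgHom.prodMap (φ.compLeft (PLift c)) (ψ.compLeft (PLift (¬ c)))

theorem ifMap_ofPos (φ : X →ₐ[R'] X') (ψ : Y →ₐ[R'] Y') (h : c) (x : X) :
    ifMap (c := c) φ ψ (IfRing.ofPos (R' := R') (Y := Y) h x) =
      IfRing.ofPos (R' := R') (Y := Y') h (φ x) :=
  Prod.ext (funext fun _ => rfl) (funext fun h' => absurd h h'.down)

theorem ifMap_ofNeg (φ : X →ₐ[R'] X') (ψ : Y →ₐ[R'] Y') (h : ¬ c) (y : Y) :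
    ifMap (c := c) φ ψ (IfRing.ofNeg (R' := R') (X := X) h y) =
      IfRing.ofNeg (R' := R') (X := X') h (ψ y) :=
  Prod.ext (funext fun h' => absurd h'.down h) (funext fun _ => rfl)

/-- a map into an `IfRing` from its two possible components -/
noncomputable def ifProd (φ : PLift c → (Z →ₐ[R'] X)) (ψ : PLift (¬ c) → (Z →ₐ[R'] Y)) :
    Z →ₐ[R'] IfRing c X Y :=
  AlgHom.prod (AlgHom.pi φ) (AlgHom.pi ψ)

theorem ifProd_pos (φ : PLift c → (Z →ₐ[R'] X)) (ψ : PLift (¬ c) → (Z →ₐ[R'] Y)) (h : c) (z : Z) :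
    ifProd φ ψ z = IfRing.ofPos (R' := R') (Y := Y) h (φ ⟨h⟩ z) :=
  Prod.ext (funext fun _ => rfl) (funext fun h' => absurd h h'.down)

theorem ifProd_neg (φ : PLift c → (Z →ₐ[R'] X)) (ψ : PLift (¬ c) → (Z →ₐ[R'] Y)) (h : ¬ c)
    (z : Z) : ifProd φ ψ z = IfRing.ofNeg (R' := R') (X := X) h (ψ ⟨h⟩ z) :=
  Prod.ext (funext fun h' => absurd h'.down h) (funext fun _ => rfl)

end IfRingMore

section Data

variable {R S : Type u} [CommRing R] [CommRing S] [Algebra R S]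
  {N : Type u} [AddCommGroup N] [Module S N] {p : Ideal R} [p.IsPrime]

/-- the elements defining a standard shrinking of a complete dévissage -/
structure Shrink (𝒟 : FlatCA.CompleteDevissage R S N p) where
  /-- the element of the base -/
  g : R
  /-- the element of `S` -/
  hX : S
  /-- the elements of the smooth algebras -/
  b : ∀ i, 𝒟.B i
  g_dvd_b : ∀ i, algebraMap R (𝒟.B i) g ∣ b i
  g_dvd_hX : algebraMap R S g ∣ hX
  /-- the unit comparing `hX` and `b 0` on `A 0` -/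
  v0 : 𝒟.A 0
  hv0 : algebraMap S (𝒟.A 0) hX = v0 * algebraMap (𝒟.B 0) (𝒟.A 0) (b 0)
  v0_dvd : v0 ∣ algebraMap (𝒟.B 0) (𝒟.A 0) (b 0)
  /-- the units comparing `b i` and `b (i+1)` on `A (i+1)` -/
  v : ∀ i, 𝒟.A (i + 1)
  hv : ∀ i, i + 1 < 𝒟.n → algebraMap (𝒟.B i) (𝒟.A (i + 1)) (b i) =
    v i * algebraMap (𝒟.B (i + 1)) (𝒟.A (i + 1)) (b (i + 1))
  v_dvd : ∀ i, i + 1 < 𝒟.n → v i ∣ algebraMap (𝒟.B (i + 1)) (𝒟.A (i + 1)) (b (i + 1))

variable {𝒟 : FlatCA.CompleteDevissage R S N p} (σ : Shrink 𝒟)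

/-- the elements of the rings `A i` -/
def Shrink.a (i : ℕ) : 𝒟.A i := algebraMap (𝒟.B i) (𝒟.A i) (σ.b i)

/-- the localized base -/
abbrev R1 : Type u := Localization.Away σ.g
/-- the localized `S` -/
abbrev S1 : Type u := Localization.Away σ.hX
/-- the localized smooth algebras -/
abbrev LB (i : ℕ) : Type u := Localization.Away (σ.b i)
/-- the localized rings carrying the modules -/
abbrev LA (i : ℕ) : Type u := Localization.Away (σ.a i)
/-- the localized modules -/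
abbrev LM (i : ℕ) : Type u := LocalizedModule (Submonoid.powers (σ.a i)) (𝒟.M i)

theorem isUnit_g_LB (i : ℕ) : IsUnit (algebraMap R (LB σ i) σ.g) := by
  rw [IsScalarTower.algebraMap_apply R (𝒟.B i) (LB σ i)]
  exact isUnit_of_dvd_unit (map_dvd _ (σ.g_dvd_b i)) (IsLocalization.Away.algebraMap_isUnit _)

theorem isUnit_g_LA (i : ℕ) : IsUnit (algebraMap R (LA σ i) σ.g) := by
  rw [IsScalarTower.algebraMap_apply R (𝒟.A i) (LA σ i),
    IsScalarTower.algebraMap_apply R (𝒟.B i) (𝒟.A i)]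
  exact isUnit_of_dvd_unit (map_dvd _ (map_dvd (algebraMap (𝒟.B i) (𝒟.A i)) (σ.g_dvd_b i)))
    (IsLocalization.Away.algebraMap_isUnit (σ.a i))

theorem isUnit_g_S1 : IsUnit (algebraMap R (S1 σ) σ.g) := by
  rw [IsScalarTower.algebraMap_apply R S (S1 σ)]
  exact isUnit_of_dvd_unit (map_dvd _ σ.g_dvd_hX) (IsLocalization.Away.algebraMap_isUnit _)

noncomputable instance algR1LB (i : ℕ) : Algebra (R1 σ) (LB σ i) := liftAlg σ.g (isUnit_g_LB σ i)
instance towerR1LB (i : ℕ) : IsScalarTower R (R1 σ) (LB σ i) := liftAlg_tower σ.g (isUnit_g_LB σ i)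
noncomputable instance algR1LA (i : ℕ) : Algebra (R1 σ) (LA σ i) := liftAlg σ.g (isUnit_g_LA σ i)
instance towerR1LA (i : ℕ) : IsScalarTower R (R1 σ) (LA σ i) := liftAlg_tower σ.g (isUnit_g_LA σ i)
noncomputable instance algR1S1 : Algebra (R1 σ) (S1 σ) := liftAlg σ.g (isUnit_g_S1 σ)
instance towerR1S1 : IsScalarTower R (R1 σ) (S1 σ) := liftAlg_tower σ.g (isUnit_g_S1 σ)

theorem isUnit_b_LA (i : ℕ) :
    IsUnit ((IsScalarTower.toAlgHom R (𝒟.B i) (LA σ i) : 𝒟.B i →+* LA σ i) (σ.b i)) := by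
  change IsUnit (algebraMap (𝒟.B i) (LA σ i) (σ.b i))
  rw [IsScalarTower.algebraMap_apply (𝒟.B i) (𝒟.A i) (LA σ i)]
  exact IsLocalization.Away.algebraMap_isUnit (σ.a i)

/-- the map `B_i[1/b_i] → A_i[1/a_i]` -/
noncomputable def φBA (i : ℕ) : LB σ i →ₐ[R1 σ] LA σ i :=
  awayLift σ.g (σ.b i) (IsScalarTower.toAlgHom R (𝒟.B i) (LA σ i)) (isUnit_b_LA σ i)

theorem φBA_algebraMap (i : ℕ) (y : 𝒟.B i) :
    φBA σ i (algebraMap (𝒟.B i) (LB σ i) y) = algebraMap (𝒟.B i) (LA σ i) y :=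
  awayLift_algebraMap (R₁ := R1 σ) σ.g (σ.b i) _ _ y

theorem isUnit_b_LAsucc (i : ℕ) (h : i + 1 < 𝒟.n) :
    IsUnit ((IsScalarTower.toAlgHom R (𝒟.B i) (LA σ (i + 1)) : 𝒟.B i →+* LA σ (i + 1)) (σ.b i)) := by
  change IsUnit (algebraMap (𝒟.B i) (LA σ (i + 1)) (σ.b i))
  rw [IsScalarTower.algebraMap_apply (𝒟.B i) (𝒟.A (i + 1)) (LA σ (i + 1)), σ.hv i h, map_mul]
  have hu : IsUnit (algebraMap (𝒟.A (i + 1)) (LA σ (i + 1)) (σ.a (i + 1))) :=
    IsLocalization.Away.algebraMap_isUnit (σ.a (i + 1))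
  exact (isUnit_of_dvd_unit (map_dvd _ (σ.v_dvd i h)) hu).mul hu

/-- the map `B_i[1/b_i] → A_{i+1}[1/a_{i+1}]` -/
noncomputable def φBAsucc (i : ℕ) (h : i + 1 < 𝒟.n) : LB σ i →ₐ[R1 σ] LA σ (i + 1) :=
  awayLift σ.g (σ.b i) (IsScalarTower.toAlgHom R (𝒟.B i) (LA σ (i + 1))) (isUnit_b_LAsucc σ i h)

theorem φBAsucc_algebraMap (i : ℕ) (h : i + 1 < 𝒟.n) (y : 𝒟.B i) :
    φBAsucc σ i h (algebraMap (𝒟.B i) (LB σ i) y) = algebraMap (𝒟.B i) (LA σ (i + 1)) y :=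
  awayLift_algebraMap (R₁ := R1 σ) σ.g (σ.b i) _ _ y

theorem isUnit_v0 : IsUnit (algebraMap (𝒟.A 0) (LA σ 0) σ.v0) :=
  isUnit_of_dvd_unit (map_dvd _ σ.v0_dvd) (IsLocalization.Away.algebraMap_isUnit (σ.a 0))

theorem isUnit_hX_LA : IsUnit ((IsScalarTower.toAlgHom R S (LA σ 0) : S →+* LA σ 0) σ.hX) := by
  change IsUnit (algebraMap S (LA σ 0) σ.hX)
  rw [IsScalarTower.algebraMap_apply S (𝒟.A 0) (LA σ 0), σ.hv0, map_mul]
  exact (isUnit_v0 σ).mul (IsLocalization.Away.algebraMap_isUnit (σ.a 0))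

/-- the map `S[1/hX] → A_0[1/a_0]` -/
noncomputable def φSA : S1 σ →ₐ[R1 σ] LA σ 0 :=
  awayLift σ.g σ.hX (IsScalarTower.toAlgHom R S (LA σ 0)) (isUnit_hX_LA σ)

theorem φSA_algebraMap (y : S) : φSA σ (algebraMap S (S1 σ) y) = algebraMap S (LA σ 0) y :=
  awayLift_algebraMap (R₁ := R1 σ) σ.g σ.hX _ _ y

end Data

end Groth.Agent.Lib.Helper15.CDS
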