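import Mathlib
import Groth.Prelude.Def_FlatCA
import Groth.Agent.Lib.Helper15.CDS1

/-!
# Standard shrinking of complete dévissages: the new rings, modules and maps
-/

set_option autoImplicit false
universe u

namespace Groth.Agent.Lib.Helper15.CDS

open TensorProduct Groth.Agent.Lib.Helper15.SHR
open Groth.Agent.Lib.Helper15.CDB (IfRing)

section Defs

variable {R S : Type u} [CommRing R] [CommRing S] [Algebra R S]
  {N : Type u} [AddCommGroup N] [Module S N] {p : Ideal R} [p.IsPrime]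
  {𝒟 : FlatCA.CompleteDevissage R S N p} (σ : Shrink 𝒟)

/-- the new smooth algebras (`R[1/g]` beyond the length) -/
def B' (i : ℕ) : Type u := IfRing (i < 𝒟.n) (LB σ i) (R1 σ)

noncomputable instance (i : ℕ) : CommRing (B' σ i) :=
  inferInstanceAs (CommRing (IfRing (i < 𝒟.n) (LB σ i) (R1 σ)))
noncomputable instance (i : ℕ) : Algebra (R1 σ) (B' σ i) :=
  inferInstanceAs (Algebra (R1 σ) (IfRing (i < 𝒟.n) (LB σ i) (R1 σ)))
noncomputable instance (i : ℕ) : Algebra R (B' σ i) :=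
  inferInstanceAs (Algebra R (IfRing (i < 𝒟.n) (LB σ i) (R1 σ)))
instance (i : ℕ) : IsScalarTower R (R1 σ) (B' σ i) :=
  inferInstanceAs (IsScalarTower R (R1 σ) (IfRing (i < 𝒟.n) (LB σ i) (R1 σ)))

/-- the new rings carrying the modules (the previous new smooth algebra beyond the length) -/
def A' (i : ℕ) : Type u := IfRing (i < 𝒟.n) (LA σ i) (B' σ (i - 1))

noncomputable instance (i : ℕ) : CommRing (A' σ i) :=
  inferInstanceAs (CommRing (IfRing (i < 𝒟.n) (LA σ i) (B' σ (i - 1))))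
noncomputable instance (i : ℕ) : Algebra (R1 σ) (A' σ i) :=
  inferInstanceAs (Algebra (R1 σ) (IfRing (i < 𝒟.n) (LA σ i) (B' σ (i - 1))))
noncomputable instance (i : ℕ) : Algebra R (A' σ i) :=
  inferInstanceAs (Algebra R (IfRing (i < 𝒟.n) (LA σ i) (B' σ (i - 1))))
instance (i : ℕ) : IsScalarTower R (R1 σ) (A' σ i) :=
  inferInstanceAs (IsScalarTower R (R1 σ) (IfRing (i < 𝒟.n) (LA σ i) (B' σ (i - 1))))

/-- the new modules (zero beyond the length) -/
def M' (i : ℕ) : Type u := PLift (i < 𝒟.n) → LM σ i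

noncomputable instance (i : ℕ) : AddCommGroup (M' σ i) :=
  inferInstanceAs (AddCommGroup (PLift (i < 𝒟.n) → LM σ i))

noncomputable instance modA'M' (i : ℕ) : Module (A' σ i) (M' σ i) :=
  Module.compHom (PLift (i < 𝒟.n) → LM σ i)
    (RingHom.fst (PLift (i < 𝒟.n) → LA σ i) (PLift (¬ i < 𝒟.n) → B' σ (i - 1)))

theorem smul_M'_apply (i : ℕ) (x : A' σ i) (m : M' σ i) (h : PLift (i < 𝒟.n)) :
    (x • m) h = (x.1 h) • (m h) := rfl

/-- the localization map of the modules, as a plain additive map -/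
noncomputable def gM0 (i : ℕ) : 𝒟.M i →+ M' σ i where
  toFun m := fun _ => LocalizedModule.mkLinearMap (Submonoid.powers (σ.a i)) (𝒟.M i) m
  map_zero' := by
    funext h
    simp only [map_zero]
    rfl
  map_add' x y := by
    funext h
    simp only [map_add]
    rfl

theorem gM0_apply (i : ℕ) (m : 𝒟.M i) (h : PLift (i < 𝒟.n)) :
    gM0 σ i m h = LocalizedModule.mkLinearMap (Submonoid.powers (σ.a i)) (𝒟.M i) m := rfl

/-- the map `B'_i → A'_i` -/
noncomputable def toA' (i : ℕ) : B' σ i →ₐ[R1 σ] A' σ i :=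
  ifMap (c := i < 𝒟.n) (X := LB σ i) (Y := R1 σ) (X' := LA σ i) (Y' := B' σ (i - 1))
    (φBA σ i) (Algebra.ofId (R1 σ) (B' σ (i - 1)))

/-- the map `B'_i → A'_{i+1}` -/
noncomputable def toA'succ (i : ℕ) : B' σ i →ₐ[R1 σ] A' σ (i + 1) :=
  ifProd (c := i + 1 < 𝒟.n) (X := LA σ (i + 1)) (Y := B' σ (i + 1 - 1)) (Z := B' σ i)
    (fun h => IfRing.lift (c := i < 𝒟.n) (X := LB σ i) (Y := R1 σ) (Z := LA σ (i + 1))
      (φBAsucc σ i h.down) (Algebra.ofId (R1 σ) (LA σ (i + 1))))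
    (fun _ => (AlgHom.id (R1 σ) (B' σ i) : B' σ i →ₐ[R1 σ] B' σ (i + 1 - 1)))

/-- the map `S[1/hX] → A'_0` -/
noncomputable def toA'0 : S1 σ →ₐ[R1 σ] A' σ 0 :=
  (IfRing.ofPos (R' := R1 σ) (X := LA σ 0) (Y := B' σ (0 - 1)) 𝒟.pos).toAlgHom.comp (φSA σ)

noncomputable instance algB'A' (i : ℕ) : Algebra (B' σ i) (A' σ i) :=
  (toA' σ i).toRingHom.toAlgebra

instance (i : ℕ) : IsScalarTower (R1 σ) (B' σ i) (A' σ i) :=
  IsScalarTower.of_algebraMap_eq fun r => ((toA' σ i).commutes r).symm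

noncomputable instance algB'A'succ (i : ℕ) : Algebra (B' σ i) (A' σ (i + 1)) :=
  (toA'succ σ i).toRingHom.toAlgebra

instance (i : ℕ) : IsScalarTower (R1 σ) (B' σ i) (A' σ (i + 1)) :=
  IsScalarTower.of_algebraMap_eq fun r => ((toA'succ σ i).commutes r).symm

noncomputable instance algS1A'0 : Algebra (S1 σ) (A' σ 0) :=
  (toA'0 σ).toRingHom.toAlgebra

instance : IsScalarTower (R1 σ) (S1 σ) (A' σ 0) :=
  IsScalarTower.of_algebraMap_eq fun r => ((toA'0 σ).commutes r).symm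

end Defs

end Groth.Agent.Lib.Helper15.CDS
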