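import Mathlib
import Groth.Prelude.Def_FlatCA
import Groth.Agent.Lib.Helper15.CDS2

/-!
# Standard shrinking of complete dévissages: the structure at the indices below the length
-/

set_option autoImplicit false
universe u

namespace Groth.Agent.Lib.Helper15.CDS

open TensorProduct Groth.Agent.Lib.Helper15.SHR
open Groth.Agent.Lib.Helper15.CDB (IfRing)

section Good

variable {R S : Type u} [CommRing R] [CommRing S] [Algebra R S]
  {N : Type u} [AddCommGroup N] [Module S N] {p : Ideal R} [p.IsPrime]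
  {𝒟 : FlatCA.CompleteDevissage R S N p} (σ : Shrink 𝒟)

/-- the identification of `B'_i` with `B_i[1/b_i]` below the length -/
noncomputable def eB (i : ℕ) [hi : Fact (i < 𝒟.n)] : LB σ i ≃ₐ[R1 σ] B' σ i :=
  IfRing.ofPos hi.out

/-- the identification of `B'_i` with `R[1/g]` beyond the length -/
noncomputable def eBneg (i : ℕ) (hi : ¬ i < 𝒟.n) : R1 σ ≃ₐ[R1 σ] B' σ i :=
  IfRing.ofNeg hi

/-- the identification of `A'_i` with `A_i[1/a_i]` below the length -/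
noncomputable def eA (i : ℕ) [hi : Fact (i < 𝒟.n)] : LA σ i ≃ₐ[R1 σ] A' σ i :=
  IfRing.ofPos hi.out

/-- the identification of `A'_i` with `B'_{i-1}` beyond the length -/
noncomputable def eAneg (i : ℕ) (hi : ¬ i < 𝒟.n) : B' σ (i - 1) ≃ₐ[R1 σ] A' σ i :=
  IfRing.ofNeg hi

theorem toA'_eB (i : ℕ) [hi : Fact (i < 𝒟.n)] (x : LB σ i) :
    toA' σ i (eB σ i x) = eA σ i (φBA σ i x) :=
  ifMap_ofPos (c := i < 𝒟.n) (X := LB σ i) (Y := R1 σ) (X' := LA σ i) (Y' := B' σ (i - 1))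
    (φBA σ i) (Algebra.ofId (R1 σ) (B' σ (i - 1))) hi.out x

theorem toA'_eBneg (i : ℕ) (hi : ¬ i < 𝒟.n) (r : R1 σ) :
    toA' σ i (eBneg σ i hi r) = eAneg σ i hi (algebraMap (R1 σ) (B' σ (i - 1)) r) :=
  ifMap_ofNeg (c := i < 𝒟.n) (X := LB σ i) (Y := R1 σ) (X' := LA σ i) (Y' := B' σ (i - 1))
    (φBA σ i) (Algebra.ofId (R1 σ) (B' σ (i - 1))) hi r

theorem toA'succ_eB (i : ℕ) (h : i + 1 < 𝒟.n) [hi : Fact (i < 𝒟.n)] [Fact (i + 1 < 𝒟.n)]
    (x : LB σ i) : toA'succ σ i (eB σ i x) = eA σ (i + 1) (φBAsucc σ i h x) := by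
  have h1 := ifProd_pos (c := i + 1 < 𝒟.n) (X := LA σ (i + 1)) (Y := B' σ (i + 1 - 1))
    (Z := B' σ i)
    (fun h => IfRing.lift (c := i < 𝒟.n) (X := LB σ i) (Y := R1 σ) (Z := LA σ (i + 1))
      (φBAsucc σ i h.down) (Algebra.ofId (R1 σ) (LA σ (i + 1))))
    (fun _ => (AlgHom.id (R1 σ) (B' σ i) : B' σ i →ₐ[R1 σ] B' σ (i + 1 - 1))) h (eB σ i x)
  have h2 := IfRing.lift_ofPos (c := i < 𝒟.n) (X := LB σ i) (Y := R1 σ) (Z := LA σ (i + 1))
    (φBAsucc σ i h) (Algebra.ofId (R1 σ) (LA σ (i + 1))) hi.out x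
  exact h1.trans (congrArg (IfRing.ofPos (R' := R1 σ) (X := LA σ (i + 1))
    (Y := B' σ (i + 1 - 1)) h) h2)

theorem toA'succ_neg (i : ℕ) (h : ¬ i + 1 < 𝒟.n) (x : B' σ i) :
    toA'succ σ i x = eAneg σ (i + 1) h x :=
  ifProd_neg (c := i + 1 < 𝒟.n) (X := LA σ (i + 1)) (Y := B' σ (i + 1 - 1))
    (Z := B' σ i)
    (fun h => IfRing.lift (c := i < 𝒟.n) (X := LB σ i) (Y := R1 σ) (Z := LA σ (i + 1))
      (φBAsucc σ i h.down) (Algebra.ofId (R1 σ) (LA σ (i + 1))))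
    (fun _ => (AlgHom.id (R1 σ) (B' σ i) : B' σ i →ₐ[R1 σ] B' σ (i + 1 - 1))) h x

noncomputable instance algBB' (i : ℕ) [Fact (i < 𝒟.n)] : Algebra (𝒟.B i) (B' σ i) :=
  ((eB σ i).toAlgHom.toRingHom.comp (algebraMap (𝒟.B i) (LB σ i))).toAlgebra

theorem algebraMap_BB' (i : ℕ) [Fact (i < 𝒟.n)] (y : 𝒟.B i) :
    algebraMap (𝒟.B i) (B' σ i) y = eB σ i (algebraMap (𝒟.B i) (LB σ i) y) := rfl

instance towerRBB' (i : ℕ) [Fact (i < 𝒟.n)] : IsScalarTower R (𝒟.B i) (B' σ i) :=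
  IsScalarTower.of_algebraMap_eq fun r => by
    rw [algebraMap_BB', IsScalarTower.algebraMap_apply R (R1 σ) (B' σ i),
      ← (eB σ i).commutes (algebraMap R (R1 σ) r),
      ← IsScalarTower.algebraMap_apply R (R1 σ) (LB σ i),
      IsScalarTower.algebraMap_apply R (𝒟.B i) (LB σ i)]

instance isLocB' (i : ℕ) [Fact (i < 𝒟.n)] : IsLocalization.Away (σ.b i) (B' σ i) :=
  IsLocalization.isLocalization_of_algEquiv (Submonoid.powers (σ.b i))
    (AlgEquiv.ofRingEquiv (f := (eB σ i).toRingEquiv) (fun _ => rfl) :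
      LB σ i ≃ₐ[𝒟.B i] B' σ i)

noncomputable instance algAA' (i : ℕ) [Fact (i < 𝒟.n)] : Algebra (𝒟.A i) (A' σ i) :=
  ((eA σ i).toAlgHom.toRingHom.comp (algebraMap (𝒟.A i) (LA σ i))).toAlgebra

theorem algebraMap_AA' (i : ℕ) [Fact (i < 𝒟.n)] (y : 𝒟.A i) :
    algebraMap (𝒟.A i) (A' σ i) y = eA σ i (algebraMap (𝒟.A i) (LA σ i) y) := rfl

instance towerRAA' (i : ℕ) [Fact (i < 𝒟.n)] : IsScalarTower R (𝒟.A i) (A' σ i) :=
  IsScalarTower.of_algebraMap_eq fun r => by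
    rw [algebraMap_AA', IsScalarTower.algebraMap_apply R (R1 σ) (A' σ i),
      ← (eA σ i).commutes (algebraMap R (R1 σ) r),
      ← IsScalarTower.algebraMap_apply R (R1 σ) (LA σ i),
      IsScalarTower.algebraMap_apply R (𝒟.A i) (LA σ i)]

instance isLocA' (i : ℕ) [Fact (i < 𝒟.n)] : IsLocalization.Away (σ.a i) (A' σ i) :=
  IsLocalization.isLocalization_of_algEquiv (Submonoid.powers (σ.a i))
    (AlgEquiv.ofRingEquiv (f := (eA σ i).toRingEquiv) (fun _ => rfl) :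
      LA σ i ≃ₐ[𝒟.A i] A' σ i)

noncomputable instance algBA' (i : ℕ) [Fact (i < 𝒟.n)] : Algebra (𝒟.B i) (A' σ i) :=
  ((algebraMap (𝒟.A i) (A' σ i)).comp (algebraMap (𝒟.B i) (𝒟.A i))).toAlgebra

instance towerBAA' (i : ℕ) [Fact (i < 𝒟.n)] : IsScalarTower (𝒟.B i) (𝒟.A i) (A' σ i) :=
  IsScalarTower.of_algebraMap_eq fun _ => rfl

instance towerBB'A' (i : ℕ) [Fact (i < 𝒟.n)] : IsScalarTower (𝒟.B i) (B' σ i) (A' σ i) :=
  IsScalarTower.of_algebraMap_eq fun y => by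
    rw [algebraMap_BB']
    change _ = toA' σ i (eB σ i (algebraMap (𝒟.B i) (LB σ i) y))
    rw [toA'_eB, φBA_algebraMap, IsScalarTower.algebraMap_apply (𝒟.B i) (𝒟.A i) (LA σ i)]
    rfl

noncomputable instance algBA'succ (i : ℕ) [Fact (i < 𝒟.n)] : Algebra (𝒟.B i) (A' σ (i + 1)) :=
  ((algebraMap (B' σ i) (A' σ (i + 1))).comp (algebraMap (𝒟.B i) (B' σ i))).toAlgebra

instance towerBB'A'succ (i : ℕ) [Fact (i < 𝒟.n)] :
    IsScalarTower (𝒟.B i) (B' σ i) (A' σ (i + 1)) :=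
  IsScalarTower.of_algebraMap_eq fun _ => rfl

theorem towerBAA'succ (i : ℕ) (h : i + 1 < 𝒟.n) [Fact (i < 𝒟.n)] [Fact (i + 1 < 𝒟.n)] :
    IsScalarTower (𝒟.B i) (𝒟.A (i + 1)) (A' σ (i + 1)) :=
  IsScalarTower.of_algebraMap_eq fun y => by
    change toA'succ σ i (eB σ i (algebraMap (𝒟.B i) (LB σ i) y)) = _
    rw [toA'succ_eB σ i h, φBAsucc_algebraMap,
      IsScalarTower.algebraMap_apply (𝒟.B i) (𝒟.A (i + 1)) (LA σ (i + 1))]
    rfl

instance factPos : Fact (0 < 𝒟.n) := ⟨𝒟.pos⟩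

noncomputable instance algSA'0 : Algebra S (A' σ 0) :=
  ((algebraMap (𝒟.A 0) (A' σ 0)).comp (algebraMap S (𝒟.A 0))).toAlgebra

instance towerSAA'0 : IsScalarTower S (𝒟.A 0) (A' σ 0) :=
  IsScalarTower.of_algebraMap_eq fun _ => rfl

instance towerSS1A'0 : IsScalarTower S (S1 σ) (A' σ 0) :=
  IsScalarTower.of_algebraMap_eq fun y => by
    have h1 : toA'0 σ (algebraMap S (S1 σ) y) = eA σ 0 (φSA σ (algebraMap S (S1 σ) y)) := rfl
    change _ = toA'0 σ (algebraMap S (S1 σ) y)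
    rw [h1, φSA_algebraMap, IsScalarTower.algebraMap_apply S (𝒟.A 0) (LA σ 0)]
    rfl

end Good

end Groth.Agent.Lib.Helper15.CDS
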