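import Mathlib
import Groth.Prelude.Def_FlatCA
import Groth.Agent.Lib.Helper15.CDS3

/-!
# Standard shrinking of complete dévissages: module structures
-/

set_option autoImplicit false
universe u

namespace Groth.Agent.Lib.Helper15.CDS

open TensorProduct Groth.Agent.Lib.Helper15.SHR
open Groth.Agent.Lib.Helper15.CDB (IfRing)

section Generic

variable {S C C₁ : Type u} [CommRing S] [CommRing C] [CommRing C₁] [Algebra S C] [Algebra C C₁]
  (hX : S) (hZ : C) [IsLocalization.Away hZ C₁]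
  (v : C) (hv : algebraMap S C hX = v * hZ) (hvu : IsUnit (algebraMap C C₁ v))
  {G G₁ : Type u} [AddCommGroup G] [AddCommGroup G₁] [Module C G] [Module S G]
  [IsScalarTower S C G] [Module C₁ G₁] [Module C G₁] [IsScalarTower C C₁ G₁] [Module S G₁]
  [IsScalarTower S C G₁]
  (fG : G →ₗ[C] G₁) [IsLocalizedModule (Submonoid.powers hZ) fG]

include hv hvu in
/-- a localization of a `C`-module away from `hZ` is a localization of the underlying `S`-module
away from `hX` when `hX` maps to a unit multiple of `hZ` -/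
theorem isLocalizedModule_of_mul_unit :
    IsLocalizedModule (Submonoid.powers hX) (fG.restrictScalars S) := by
  have hb : IsUnit (algebraMap C C₁ (v * hZ)) := by
    rw [map_mul]
    exact hvu.mul (IsLocalization.Away.algebraMap_isUnit hZ)
  have hsmul : ∀ (k : ℕ) (m : G₁), hX ^ k • m = algebraMap C C₁ ((v * hZ) ^ k) • m := by
    intro k m
    rw [← algebraMap_smul C (hX ^ k) m, map_pow, hv, algebraMap_smul C₁ ((v * hZ) ^ k) m]
  have hsmulG : ∀ (k : ℕ) (x : G), hX ^ k • x = (v ^ k * hZ ^ k) • x := by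
    intro k x
    rw [← algebraMap_smul C (hX ^ k) x, map_pow, hv, mul_pow]
  constructor
  · rintro ⟨x, k, rfl⟩
    have h1 : IsUnit (algebraMap C C₁ ((v * hZ) ^ k)) := by
      rw [map_pow]
      exact hb.pow k
    rw [Module.End.isUnit_iff]
    obtain ⟨w, hw⟩ := h1
    constructor
    · intro m₁ m₂ h
      simp only [Module.algebraMap_end_apply] at h
      have h' : algebraMap C C₁ ((v * hZ) ^ k) • m₁ = algebraMap C C₁ ((v * hZ) ^ k) • m₂ := by
        rw [← hsmul, ← hsmul]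
        exact h
      rw [← hw] at h'
      have := congrArg (fun m => ((w⁻¹ : C₁ˣ) : C₁) • m) h'
      simpa [smul_smul] using this
    · intro m
      refine ⟨((w⁻¹ : C₁ˣ) : C₁) • m, ?_⟩
      simp only [Module.algebraMap_end_apply]
      rw [hsmul, ← hw, smul_smul, Units.mul_inv, one_smul]
  · intro y
    obtain ⟨⟨x, ⟨_, k, rfl⟩⟩, hx⟩ := IsLocalizedModule.surj (Submonoid.powers hZ) fG y
    refine ⟨(v ^ k • x, ⟨hX ^ k, k, rfl⟩), ?_⟩
    change hX ^ k • y = fG (v ^ k • x)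
    have hx' : hZ ^ k • y = fG x := hx
    rw [hsmul, map_smul, ← hx', mul_pow, algebraMap_smul, mul_smul]
  · intro x₁ x₂ h
    obtain ⟨⟨_, k, rfl⟩, hc⟩ := IsLocalizedModule.exists_of_eq (S := Submonoid.powers hZ)
      (f := fG) h
    refine ⟨⟨hX ^ k, k, rfl⟩, ?_⟩
    change hX ^ k • x₁ = hX ^ k • x₂
    have hc' : hZ ^ k • x₁ = hZ ^ k • x₂ := hc
    rw [hsmulG, hsmulG, mul_smul, mul_smul, hc']

end Generic

section Mods

variable {R S : Type u} [CommRing R] [CommRing S] [Algebra R S]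
  {N : Type u} [AddCommGroup N] [Module S N] {p : Ideal R} [p.IsPrime]
  {𝒟 : FlatCA.CompleteDevissage R S N p} (σ : Shrink 𝒟)

noncomputable instance modB'M' (i : ℕ) : Module (B' σ i) (M' σ i) :=
  Module.compHom (M' σ i) (algebraMap (B' σ i) (A' σ i))

instance (i : ℕ) : IsScalarTower (B' σ i) (A' σ i) (M' σ i) :=
  IsScalarTower.of_algebraMap_smul fun _ _ => rfl

noncomputable instance modR1M' (i : ℕ) : Module (R1 σ) (M' σ i) :=
  Module.compHom (M' σ i) (algebraMap (R1 σ) (A' σ i))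

instance (i : ℕ) : IsScalarTower (R1 σ) (A' σ i) (M' σ i) :=
  IsScalarTower.of_algebraMap_smul fun _ _ => rfl

instance (i : ℕ) : IsScalarTower (R1 σ) (B' σ i) (M' σ i) :=
  IsScalarTower.of_algebraMap_smul fun r m => by
    change algebraMap (B' σ i) (A' σ i) (algebraMap (R1 σ) (B' σ i) r) • m =
      algebraMap (R1 σ) (A' σ i) r • m
    rw [← IsScalarTower.algebraMap_apply (R1 σ) (B' σ i) (A' σ i)]

noncomputable instance modB'M'succ (i : ℕ) : Module (B' σ i) (M' σ (i + 1)) :=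
  Module.compHom (M' σ (i + 1)) (algebraMap (B' σ i) (A' σ (i + 1)))

instance (i : ℕ) : IsScalarTower (B' σ i) (A' σ (i + 1)) (M' σ (i + 1)) :=
  IsScalarTower.of_algebraMap_smul fun _ _ => rfl

noncomputable instance modRM' (i : ℕ) : Module R (M' σ i) :=
  Module.compHom (M' σ i) (algebraMap R (A' σ i))

instance (i : ℕ) : IsScalarTower R (A' σ i) (M' σ i) :=
  IsScalarTower.of_algebraMap_smul fun _ _ => rfl

instance (i : ℕ) : IsScalarTower R (R1 σ) (M' σ i) :=
  IsScalarTower.of_algebraMap_smul fun r m => by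
    change algebraMap (R1 σ) (A' σ i) (algebraMap R (R1 σ) r) • m = algebraMap R (A' σ i) r • m
    rw [← IsScalarTower.algebraMap_apply R (R1 σ) (A' σ i)]

instance (i : ℕ) : IsScalarTower R (B' σ i) (M' σ i) :=
  IsScalarTower.of_algebraMap_smul fun r m => by
    change algebraMap (B' σ i) (A' σ i) (algebraMap R (B' σ i) r) • m = algebraMap R (A' σ i) r • m
    rw [IsScalarTower.algebraMap_apply R (R1 σ) (B' σ i),
      ← IsScalarTower.algebraMap_apply (R1 σ) (B' σ i) (A' σ i),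
      ← IsScalarTower.algebraMap_apply R (R1 σ) (A' σ i)]

noncomputable instance modAM' (i : ℕ) [Fact (i < 𝒟.n)] : Module (𝒟.A i) (M' σ i) :=
  Module.compHom (M' σ i) (algebraMap (𝒟.A i) (A' σ i))

instance (i : ℕ) [Fact (i < 𝒟.n)] : IsScalarTower (𝒟.A i) (A' σ i) (M' σ i) :=
  IsScalarTower.of_algebraMap_smul fun _ _ => rfl

theorem smul_AM' (i : ℕ) [hi : Fact (i < 𝒟.n)] (r : 𝒟.A i) (m : M' σ i) (h : PLift (i < 𝒟.n)) :
    (r • m) h = r • (m h) := by
  change (algebraMap (𝒟.A i) (A' σ i) r • m) h = _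
  rw [smul_M'_apply, algebraMap_AA']
  change (algebraMap (𝒟.A i) (LA σ i) r) • m h = r • m h
  rw [algebraMap_smul]

/-- the localization map of the modules -/
noncomputable def gM (i : ℕ) [Fact (i < 𝒟.n)] : 𝒟.M i →ₗ[𝒟.A i] M' σ i where
  toFun := gM0 σ i
  map_add' := (gM0 σ i).map_add
  map_smul' r m := by
    funext h
    rw [RingHom.id_apply, smul_AM', gM0_apply, gM0_apply, map_smul]

theorem gM_apply (i : ℕ) [Fact (i < 𝒟.n)] (m : 𝒟.M i) : gM σ i m = gM0 σ i m := rfl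

/-- the identification of the new module with the localized module below the length -/
noncomputable def eM (i : ℕ) [hi : Fact (i < 𝒟.n)] : LM σ i ≃ₗ[𝒟.A i] M' σ i where
  toFun x := fun _ => x
  invFun f := f ⟨hi.out⟩
  left_inv _ := rfl
  right_inv _ := rfl
  map_add' _ _ := rfl
  map_smul' r x := by
    funext h
    rw [RingHom.id_apply, smul_AM']

theorem gM_eq (i : ℕ) [Fact (i < 𝒟.n)] :
    gM σ i = (eM σ i).toLinearMap ∘ₗ
      LocalizedModule.mkLinearMap (Submonoid.powers (σ.a i)) (𝒟.M i) := rfl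

instance isLocM' (i : ℕ) [Fact (i < 𝒟.n)] :
    IsLocalizedModule (Submonoid.powers (σ.a i)) (gM σ i) := by
  rw [gM_eq]
  exact IsLocalizedModule.of_linearEquiv (Submonoid.powers (σ.a i))
    (LocalizedModule.mkLinearMap (Submonoid.powers (σ.a i)) (𝒟.M i)) (eM σ i)

noncomputable instance modBM' (i : ℕ) [Fact (i < 𝒟.n)] : Module (𝒟.B i) (M' σ i) :=
  Module.compHom (M' σ i) (algebraMap (𝒟.B i) (A' σ i))

instance (i : ℕ) [Fact (i < 𝒟.n)] : IsScalarTower (𝒟.B i) (A' σ i) (M' σ i) :=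
  IsScalarTower.of_algebraMap_smul fun _ _ => rfl

instance (i : ℕ) [Fact (i < 𝒟.n)] : IsScalarTower (𝒟.B i) (𝒟.A i) (M' σ i) :=
  IsScalarTower.of_algebraMap_smul fun b m => by
    change _ = algebraMap (𝒟.B i) (A' σ i) b • m
    rw [IsScalarTower.algebraMap_apply (𝒟.B i) (𝒟.A i) (A' σ i),
      algebraMap_smul (A' σ i) (algebraMap (𝒟.B i) (𝒟.A i) b) m]

instance (i : ℕ) [Fact (i < 𝒟.n)] : IsScalarTower (𝒟.B i) (B' σ i) (M' σ i) :=
  IsScalarTower.of_algebraMap_smul fun b m => by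
    change algebraMap (B' σ i) (A' σ i) (algebraMap (𝒟.B i) (B' σ i) b) • m =
      algebraMap (𝒟.B i) (A' σ i) b • m
    rw [← IsScalarTower.algebraMap_apply (𝒟.B i) (B' σ i) (A' σ i)]

noncomputable instance modBM'succ (i : ℕ) [Fact (i < 𝒟.n)] : Module (𝒟.B i) (M' σ (i + 1)) :=
  Module.compHom (M' σ (i + 1)) (algebraMap (𝒟.B i) (A' σ (i + 1)))

instance (i : ℕ) [Fact (i < 𝒟.n)] : IsScalarTower (𝒟.B i) (A' σ (i + 1)) (M' σ (i + 1)) :=
  IsScalarTower.of_algebraMap_smul fun _ _ => rfl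

instance (i : ℕ) [Fact (i < 𝒟.n)] : IsScalarTower (𝒟.B i) (B' σ i) (M' σ (i + 1)) :=
  IsScalarTower.of_algebraMap_smul fun b m => by
    change algebraMap (B' σ i) (A' σ (i + 1)) (algebraMap (𝒟.B i) (B' σ i) b) • m =
      algebraMap (𝒟.B i) (A' σ (i + 1)) b • m
    rw [← IsScalarTower.algebraMap_apply (𝒟.B i) (B' σ i) (A' σ (i + 1))]

theorem towerBAM'succ (i : ℕ) (h : i + 1 < 𝒟.n) [Fact (i < 𝒟.n)] [Fact (i + 1 < 𝒟.n)] :
    IsScalarTower (𝒟.B i) (𝒟.A (i + 1)) (M' σ (i + 1)) :=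
  IsScalarTower.of_algebraMap_smul fun b m => by
    haveI := towerBAA'succ σ i h
    change _ = algebraMap (𝒟.B i) (A' σ (i + 1)) b • m
    rw [IsScalarTower.algebraMap_apply (𝒟.B i) (𝒟.A (i + 1)) (A' σ (i + 1)),
      algebraMap_smul (A' σ (i + 1)) (algebraMap (𝒟.B i) (𝒟.A (i + 1)) b) m]

end Mods

end Groth.Agent.Lib.Helper15.CDS
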