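import Mathlib
import Groth.Prelude.Def_FlatCA
import Groth.Agent.Lib.Helper15.CDS4

/-!
# Standard shrinking of complete dévissages: properties below the length
-/

set_option autoImplicit false
universe u

namespace Groth.Agent.Lib.Helper15.CDS

open TensorProduct Groth.Agent.Lib.Helper15.SHR Groth.Agent.Lib.Helper15.CDB
open Groth.Agent.Lib.Helper15.CDB (IfRing)

section Props

variable {R S : Type u} [CommRing R] [CommRing S] [Algebra R S]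
  {N : Type u} [AddCommGroup N] [Module S N] {p : Ideal R} [p.IsPrime]
  {𝒟 : FlatCA.CompleteDevissage R S N p} (σ : Shrink 𝒟)

/-- the localization map of the modules, as a `B_i`-linear map -/
noncomputable def gMB (i : ℕ) [Fact (i < 𝒟.n)] : 𝒟.M i →ₗ[𝒟.B i] M' σ i :=
  (gM σ i).restrictScalars (𝒟.B i)

instance isLoc_gMB (i : ℕ) [Fact (i < 𝒟.n)] :
    IsLocalizedModule (Submonoid.powers (σ.b i)) (gMB σ i) := by
  haveI : IsLocalizedModule (Submonoid.powers (algebraMap (𝒟.B i) (𝒟.A i) (σ.b i))) (gM σ i) :=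
    isLocM' σ i
  exact IsLocalizedModule.restrictScalars_powers (σ.b i) (gM σ i)

theorem gMB_isBaseChange (i : ℕ) [Fact (i < 𝒟.n)] : IsBaseChange (B' σ i) (gMB σ i) :=
  IsLocalizedModule.isBaseChange (Submonoid.powers (σ.b i)) (B' σ i) (gMB σ i)

theorem isUnit_v (i : ℕ) (h : i + 1 < 𝒟.n) [Fact (i + 1 < 𝒟.n)] :
    IsUnit (algebraMap (𝒟.A (i + 1)) (A' σ (i + 1)) (σ.v i)) :=
  isUnit_of_dvd_unit (map_dvd _ (σ.v_dvd i h))
    (IsLocalization.Away.algebraMap_isUnit (σ.a (i + 1)))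

/-- the localization map of the next modules, as a `B_i`-linear map -/
noncomputable def gMBsucc (i : ℕ) (h : i + 1 < 𝒟.n) [Fact (i < 𝒟.n)] [Fact (i + 1 < 𝒟.n)] :
    𝒟.M (i + 1) →ₗ[𝒟.B i] M' σ (i + 1) :=
  haveI := towerBAM'succ σ i h
  (gM σ (i + 1)).restrictScalars (𝒟.B i)

theorem isLoc_gMBsucc (i : ℕ) (h : i + 1 < 𝒟.n) [Fact (i < 𝒟.n)] [Fact (i + 1 < 𝒟.n)] :
    IsLocalizedModule (Submonoid.powers (σ.b i)) (gMBsucc σ i h) := by
  haveI := towerBAM'succ σ i h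
  exact isLocalizedModule_of_mul_unit (S := 𝒟.B i) (C := 𝒟.A (i + 1)) (C₁ := A' σ (i + 1))
    (σ.b i) (σ.a (i + 1)) (σ.v i) (σ.hv i h) (isUnit_v σ i h) (gM σ (i + 1))

theorem gMBsucc_isBaseChange (i : ℕ) (h : i + 1 < 𝒟.n) [Fact (i < 𝒟.n)] [Fact (i + 1 < 𝒟.n)] :
    IsBaseChange (B' σ i) (gMBsucc σ i h) := by
  haveI := isLoc_gMBsucc σ i h
  exact IsLocalizedModule.isBaseChange (Submonoid.powers (σ.b i)) (B' σ i) (gMBsucc σ i h)

/-- the new maps from the free modules -/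
noncomputable def α' (i : ℕ) : (Fin (𝒟.r i) → B' σ i) →ₗ[B' σ i] M' σ i :=
  Fintype.linearCombination (B' σ i) (fun j => gM0 σ i (𝒟.α i (Pi.single j 1)))

theorem α'_compLeft (i : ℕ) [Fact (i < 𝒟.n)] (x : Fin (𝒟.r i) → 𝒟.B i) :
    α' σ i (((Algebra.linearMap (𝒟.B i) (B' σ i)).compLeft (Fin (𝒟.r i))) x) =
      gMB σ i (𝒟.α i x) :=
  linearCombination_compLeft (B := 𝒟.B i) (B' := B' σ i) (gMB σ i) (𝒟.α i) x

theorem range_α' (i : ℕ) [Fact (i < 𝒟.n)] :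
    LinearMap.range (α' σ i) =
      Submodule.span (B' σ i) ((gM σ i) '' (LinearMap.range (𝒟.α i) : Set (𝒟.M i))) :=
  range_linearCombination_eq (B := 𝒟.B i) (B' := B' σ i) (gMB σ i) (𝒟.α i)

theorem cokerLast' : Function.Surjective (α' σ (𝒟.n - 1)) := by
  haveI : Fact (𝒟.n - 1 < 𝒟.n) := ⟨Nat.sub_lt 𝒟.pos Nat.one_pos⟩
  rw [← LinearMap.range_eq_top, range_α']
  have h1 : LinearMap.range (𝒟.α (𝒟.n - 1)) = ⊤ := LinearMap.range_eq_top.mpr 𝒟.cokerLast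
  rw [h1]
  have h2 := span_range_eq_top_of_isBaseChange (gMB σ (𝒟.n - 1))
    (gMB_isBaseChange σ (𝒟.n - 1))
  rw [← h2]
  congr 1
  ext x
  simp only [Submodule.top_coe, Set.image_univ, Set.mem_range]
  rfl

theorem isoCoker' (i : ℕ) (hi : i + 1 < 𝒟.n) :
    Nonempty ((M' σ i ⧸ LinearMap.range (α' σ i)) ≃ₗ[B' σ i] M' σ (i + 1)) := by
  haveI : Fact (i < 𝒟.n) := ⟨Nat.lt_of_succ_lt hi⟩
  haveI : Fact (i + 1 < 𝒟.n) := ⟨hi⟩
  exact nonempty_cokerEquiv (B := 𝒟.B i) (B' := B' σ i)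
    ((Algebra.linearMap (𝒟.B i) (B' σ i)).compLeft (Fin (𝒟.r i)))
    (IsBaseChange.finitePow (Fin (𝒟.r i)) (IsBaseChange.linearMap (𝒟.B i) (B' σ i)))
    (gMB σ i) (gMB_isBaseChange σ i)
    (gMBsucc σ i hi) (gMBsucc_isBaseChange σ i hi)
    (𝒟.α i) (α' σ i) (α'_compLeft σ i) (𝒟.isoCoker i hi)

theorem surjBA'' (i : ℕ) (hi : i + 1 < 𝒟.n) :
    Function.Surjective (algebraMap (B' σ i) (A' σ (i + 1))) := by
  haveI : Fact (i < 𝒟.n) := ⟨Nat.lt_of_succ_lt hi⟩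
  haveI : Fact (i + 1 < 𝒟.n) := ⟨hi⟩
  haveI := towerBAA'succ σ i hi
  exact surjective_away (S := 𝒟.B i) (C := 𝒟.A (i + 1)) (S₁ := B' σ i) (C₁ := A' σ (i + 1))
    (σ.b i) (σ.a (i + 1)) (σ.v i) (σ.hv i hi) (isUnit_v σ i hi) (𝒟.surjBA' i hi)

theorem fpBA'' (i : ℕ) (hi : i + 1 < 𝒟.n) :
    Algebra.FinitePresentation (B' σ i) (A' σ (i + 1)) := by
  haveI : Fact (i < 𝒟.n) := ⟨Nat.lt_of_succ_lt hi⟩
  haveI : Fact (i + 1 < 𝒟.n) := ⟨hi⟩
  haveI := towerBAA'succ σ i hi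
  haveI := 𝒟.fpBA' i hi
  exact finitePresentation_away (S := 𝒟.B i) (C := 𝒟.A (i + 1)) (S₁ := B' σ i)
    (C₁ := A' σ (i + 1)) (σ.b i) (σ.a (i + 1))

theorem finiteBA' (i : ℕ) (hi : i < 𝒟.n) : Module.Finite (B' σ i) (A' σ i) := by
  haveI : Fact (i < 𝒟.n) := ⟨hi⟩
  haveI := 𝒟.finiteBA i hi
  exact finite_away (D := 𝒟.B i) (C := 𝒟.A i) (D₁ := B' σ i) (C₁ := A' σ i) (σ.b i) (σ.a i) rfl

theorem finiteM' (i : ℕ) (hi : i < 𝒟.n) : Module.Finite (A' σ i) (M' σ i) := by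
  haveI : Fact (i < 𝒟.n) := ⟨hi⟩
  haveI := 𝒟.finiteM i hi
  exact Module.Finite.of_isLocalizedModule (Submonoid.powers (σ.a i)) (gM σ i)

theorem smoothB' (i : ℕ) (hi : i < 𝒟.n) : Algebra.Smooth (R1 σ) (B' σ i) := by
  haveI : Fact (i < 𝒟.n) := ⟨hi⟩
  haveI := 𝒟.smooth i hi
  haveI : Algebra.Smooth (𝒟.B i) (B' σ i) := Algebra.Smooth.of_isLocalization_Away (σ.b i)
  haveI : Algebra.Smooth R (B' σ i) := Algebra.Smooth.comp R (𝒟.B i) (B' σ i)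
  haveI : Algebra.FormallySmooth (R1 σ) (B' σ i) :=
    Algebra.FormallySmooth.localization_base (Submonoid.powers σ.g)
  haveI : Algebra.FinitePresentation (R1 σ) (B' σ i) :=
    Algebra.FinitePresentation.of_restrict_scalars_finitePresentation R (R1 σ) (B' σ i)
  exact ⟨inferInstance, inferInstance⟩

end Props

end Groth.Agent.Lib.Helper15.CDS
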