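import Mathlib
import Groth.Prelude.Def_FlatCA
import Groth.Agent.Lib.Helper15.CDS5

/-!
# Standard shrinking of complete dévissages: the hypotheses at the point, primes and fibres
-/

set_option autoImplicit false
universe u

namespace Groth.Agent.Lib.Helper15.CDS

open TensorProduct Groth.Agent.Lib.Helper15.SHR Groth.Agent.Lib.Helper15.CDB
open Groth.Agent.Lib.Helper15.CDB (IfRing)

section At

variable {R S : Type u} [CommRing R] [CommRing S] [Algebra R S]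
  {N : Type u} [AddCommGroup N] [Module S N] {p : Ideal R} [p.IsPrime] {q : Ideal S} [q.IsPrime]
  {𝒟 : FlatCA.CompleteDevissage R S N p} (σ : Shrink 𝒟)
  (𝒜 : FlatCA.CompleteDevissageAt R S N p q 𝒟)

/-- the hypotheses on the elements of a standard shrinking relative to the points -/
structure ShrinkAt : Prop where
  hg : σ.g ∉ p
  hXq : σ.hX ∉ q
  hb : ∀ i, i < 𝒟.n → σ.b i ∉ 𝒜.qB i
  hU : ∀ i, i < 𝒟.n → ∀ P : PrimeSpectrum R, σ.g ∉ P.asIdeal →
    ∃ Q : PrimeSpectrum (𝒟.B i), σ.b i ∉ Q.asIdeal ∧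
      Q.asIdeal.comap (algebraMap R (𝒟.B i)) = P.asIdeal

/-- the extended prime of the base -/
abbrev P1 : Ideal (R1 σ) := p.map (algebraMap R (R1 σ))

variable {σ 𝒜} (hσ : ShrinkAt σ 𝒜)

include hσ in
theorem isPrime_P1 : (P1 σ).IsPrime := map_isPrime_away σ.g p hσ.hg

include hσ in
theorem liesOver_P1 : (P1 σ).LiesOver p := liesOver_away σ.g p hσ.hg

include hσ in
theorem not_mem_pB (i : ℕ) (hi : i < 𝒟.n) : σ.b i ∉ p.map (algebraMap R (𝒟.B i)) := by
  intro hmem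
  apply hσ.hb i hi
  have hle : p.map (algebraMap R (𝒟.B i)) ≤ 𝒜.qB i := by
    haveI := 𝒜.overB i
    rw [Ideal.map_le_iff_le_comap]
    exact (Ideal.LiesOver.over (p := p) (P := 𝒜.qB i)).le
  exact hle hmem

theorem map_P1_B' (i : ℕ) [Fact (i < 𝒟.n)] :
    (P1 σ).map (algebraMap (R1 σ) (B' σ i)) =
      (p.map (algebraMap R (𝒟.B i))).map (algebraMap (𝒟.B i) (B' σ i)) := by
  rw [Ideal.map_map, Ideal.map_map, ← IsScalarTower.algebraMap_eq, ← IsScalarTower.algebraMap_eq]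

include hσ in
theorem primeB' [(P1 σ).IsPrime] (i : ℕ) :
    ((P1 σ).map (algebraMap (R1 σ) (B' σ i))).IsPrime := by
  by_cases hi : i < 𝒟.n
  · haveI : Fact (i < 𝒟.n) := ⟨hi⟩
    rw [map_P1_B']
    exact map_isPrime_away (σ.b i) (p.map (algebraMap R (𝒟.B i))) (not_mem_pB hσ i hi)
  · have h1 : algebraMap (R1 σ) (B' σ i) = ((eBneg σ i hi).toRingEquiv : R1 σ →+* B' σ i) := by
      ext r
      exact ((eBneg σ i hi).commutes r).symm
    rw [h1]
    exact Ideal.map_isPrime_of_equiv (eBneg σ i hi).toRingEquiv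

include hσ in
theorem liesOverB' (i : ℕ) (hi : i < 𝒟.n) :
    haveI : Fact (i < 𝒟.n) := ⟨hi⟩
    ((P1 σ).map (algebraMap (R1 σ) (B' σ i))).LiesOver (p.map (algebraMap R (𝒟.B i))) := by
  haveI : Fact (i < 𝒟.n) := ⟨hi⟩
  rw [map_P1_B']
  exact liesOver_away (σ.b i) (p.map (algebraMap R (𝒟.B i))) (not_mem_pB hσ i hi)

include hσ in
theorem fibreIso' [(P1 σ).IsPrime] (i : ℕ) (hi : i < 𝒟.n) :
    haveI := primeB' hσ i
    Function.Bijective
      ((α' σ i).baseChange ((P1 σ).map (algebraMap (R1 σ) (B' σ i))).ResidueField) := by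
  haveI : Fact (i < 𝒟.n) := ⟨hi⟩
  haveI hP' := primeB' hσ i
  haveI hlo := liesOverB' hσ i hi
  letI : Algebra (p.map (algebraMap R (𝒟.B i))).ResidueField
      ((P1 σ).map (algebraMap (R1 σ) (B' σ i))).ResidueField :=
    (Ideal.ResidueField.map (p.map (algebraMap R (𝒟.B i)))
      ((P1 σ).map (algebraMap (R1 σ) (B' σ i))) (algebraMap (𝒟.B i) (B' σ i)) hlo.over).toAlgebra
  haveI : IsScalarTower (𝒟.B i) (p.map (algebraMap R (𝒟.B i))).ResidueField
      ((P1 σ).map (algebraMap (R1 σ) (B' σ i))).ResidueField :=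
    .of_algebraMap_eq fun b => by
      rw [RingHom.algebraMap_toAlgebra, Ideal.ResidueField.map_algebraMap,
        ← IsScalarTower.algebraMap_apply]
  exact bijective_baseChange_of_comm (B := 𝒟.B i) (B' := B' σ i)
    (K := (p.map (algebraMap R (𝒟.B i))).ResidueField)
    (K' := ((P1 σ).map (algebraMap (R1 σ) (B' σ i))).ResidueField)
    ((Algebra.linearMap (𝒟.B i) (B' σ i)).compLeft (Fin (𝒟.r i)))
    (IsBaseChange.finitePow (Fin (𝒟.r i)) (IsBaseChange.linearMap (𝒟.B i) (B' σ i)))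
    (gMB σ i) (gMB_isBaseChange σ i)
    (𝒟.α i) (α' σ i) (α'_compLeft σ i) (𝒟.fibreIso i hi)

theorem commRB' (i : ℕ) [Fact (i < 𝒟.n)] :
    (algebraMap (R1 σ) (B' σ i)).comp (algebraMap R (R1 σ)) =
      (algebraMap (𝒟.B i) (B' σ i)).comp (algebraMap R (𝒟.B i)) := by
  rw [← IsScalarTower.algebraMap_eq, ← IsScalarTower.algebraMap_eq]

include hσ in
theorem surjSpec (i : ℕ) (hi : i < 𝒟.n) :
    Function.Surjective (PrimeSpectrum.comap (algebraMap (R1 σ) (B' σ i))) := by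
  haveI : Fact (i < 𝒟.n) := ⟨hi⟩
  intro P₁
  set P : PrimeSpectrum R := PrimeSpectrum.comap (algebraMap R (R1 σ)) P₁ with hP
  have hgP : σ.g ∉ P.asIdeal := by
    intro hmem
    have h5 : algebraMap R (R1 σ) σ.g ∈ P₁.asIdeal := hmem
    exact P₁.2.ne_top (Ideal.eq_top_of_isUnit_mem _ h5
      (IsLocalization.Away.algebraMap_isUnit σ.g))
  obtain ⟨Q, hQY, hQP⟩ := hσ.hU i hi P hgP
  haveI : (Q.asIdeal.map (algebraMap (𝒟.B i) (B' σ i))).IsPrime :=
    map_isPrime_away (σ.b i) Q.asIdeal hQY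
  refine ⟨⟨Q.asIdeal.map (algebraMap (𝒟.B i) (B' σ i)), inferInstance⟩, ?_⟩
  apply PrimeSpectrum.ext
  change (Q.asIdeal.map (algebraMap (𝒟.B i) (B' σ i))).comap
    (algebraMap (R1 σ) (B' σ i)) = P₁.asIdeal
  rw [comap_map_map_away σ.g (σ.b i) (commRB' i) P.asIdeal Q.asIdeal hQY hQP]
  exact (eq_map_comap_away σ.g P₁.asIdeal).symm

include hσ in
theorem relDim' (i : ℕ) (hi : i < 𝒟.n) :
    FlatCA.SmoothRelDim (𝒜.d i) (R1 σ) (B' σ i) ∧ FlatCA.GeomIrredFibres (R1 σ) (B' σ i) := by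
  haveI : Fact (i < 𝒟.n) := ⟨hi⟩
  exact smooth_and_geomIrred_away (R₁ := R1 σ) (D₁ := B' σ i) σ.g (σ.b i) (𝒜.d i)
    (𝒜.relDim i hi) (𝒟.geomIrred i hi) (surjSpec hσ i hi)

end At

end Groth.Agent.Lib.Helper15.CDS
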