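import Mathlib
import Groth.Prelude.Def_FlatCA
import Groth.Agent.Lib.Helper15.CDS6

/-!
# Standard shrinking of complete dévissages: the structure over `S[1/hX]`
-/

set_option autoImplicit false
universe u

namespace Groth.Agent.Lib.Helper15.CDS

open TensorProduct Groth.Agent.Lib.Helper15.SHR Groth.Agent.Lib.Helper15.CDB
open Groth.Agent.Lib.Helper15.CDB (IfRing)

section OverS

variable {R S : Type u} [CommRing R] [CommRing S] [Algebra R S]
  {N : Type u} [AddCommGroup N] [Module S N] {p : Ideal R} [p.IsPrime]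
  {𝒟 : FlatCA.CompleteDevissage R S N p} (σ : Shrink 𝒟)

/-- the localized module -/
abbrev LN : Type u := LocalizedModule (Submonoid.powers σ.hX) N

theorem isUnit_v0' : IsUnit (algebraMap (𝒟.A 0) (A' σ 0) σ.v0) :=
  isUnit_of_dvd_unit (map_dvd _ σ.v0_dvd) (IsLocalization.Away.algebraMap_isUnit (σ.a 0))

theorem surjSA' : Function.Surjective (algebraMap (S1 σ) (A' σ 0)) :=
  surjective_away (S := S) (C := 𝒟.A 0) (S₁ := S1 σ) (C₁ := A' σ 0) σ.hX (σ.a 0) σ.v0 σ.hv0
    (isUnit_v0' σ) 𝒟.surjSA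

theorem fpSA' : Algebra.FinitePresentation (S1 σ) (A' σ 0) := by
  haveI := 𝒟.fpSA
  exact finitePresentation_away (S := S) (C := 𝒟.A 0) (S₁ := S1 σ) (C₁ := A' σ 0) σ.hX (σ.a 0)

noncomputable instance modS1M'0 : Module (S1 σ) (M' σ 0) :=
  Module.compHom (M' σ 0) (algebraMap (S1 σ) (A' σ 0))

instance : IsScalarTower (S1 σ) (A' σ 0) (M' σ 0) :=
  IsScalarTower.of_algebraMap_smul fun _ _ => rfl

noncomputable instance modSM'0 : Module S (M' σ 0) :=
  Module.compHom (M' σ 0) (algebraMap S (A' σ 0))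

instance : IsScalarTower S (A' σ 0) (M' σ 0) :=
  IsScalarTower.of_algebraMap_smul fun _ _ => rfl

instance : IsScalarTower S (𝒟.A 0) (M' σ 0) :=
  IsScalarTower.of_algebraMap_smul fun s m => by
    change _ = algebraMap S (A' σ 0) s • m
    rw [IsScalarTower.algebraMap_apply S (𝒟.A 0) (A' σ 0),
      algebraMap_smul (A' σ 0) (algebraMap S (𝒟.A 0) s) m]

instance : IsScalarTower S (S1 σ) (M' σ 0) :=
  IsScalarTower.of_algebraMap_smul fun s m => by
    change algebraMap (S1 σ) (A' σ 0) (algebraMap S (S1 σ) s) • m = algebraMap S (A' σ 0) s • m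
    rw [← IsScalarTower.algebraMap_apply S (S1 σ) (A' σ 0)]

/-- the localization map of the first module, as an `S`-linear map -/
noncomputable def gMS : 𝒟.M 0 →ₗ[S] M' σ 0 :=
  (gM σ 0).restrictScalars S

instance isLoc_gMS : IsLocalizedModule (Submonoid.powers σ.hX) (gMS σ) :=
  isLocalizedModule_of_mul_unit (S := S) (C := 𝒟.A 0) (C₁ := A' σ 0)
    σ.hX (σ.a 0) σ.v0 σ.hv0 (isUnit_v0' σ) (gM σ 0)

instance isLoc_gMS_comp :
    IsLocalizedModule (Submonoid.powers σ.hX) ((gMS σ) ∘ₗ 𝒟.isoN.toLinearMap) :=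
  IsLocalizedModule.of_linearEquiv_right (Submonoid.powers σ.hX) (gMS σ) 𝒟.isoN

/-- the identification of `N[1/hX]` with the first new module -/
noncomputable def isoN' : LN σ ≃ₗ[S1 σ] M' σ 0 :=
  LinearEquiv.extendScalarsOfIsLocalization (Submonoid.powers σ.hX) (S1 σ)
    (IsLocalizedModule.linearEquiv (Submonoid.powers σ.hX)
      (LocalizedModule.mkLinearMap (Submonoid.powers σ.hX) N) ((gMS σ) ∘ₗ 𝒟.isoN.toLinearMap))

theorem isoN'_apply (x : N) :
    isoN' σ (LocalizedModule.mkLinearMap (Submonoid.powers σ.hX) N x) = gM σ 0 (𝒟.isoN x) := by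
  change (IsLocalizedModule.linearEquiv (Submonoid.powers σ.hX)
      (LocalizedModule.mkLinearMap (Submonoid.powers σ.hX) N) ((gMS σ) ∘ₗ 𝒟.isoN.toLinearMap))
    (LocalizedModule.mkLinearMap (Submonoid.powers σ.hX) N x) = _
  rw [IsLocalizedModule.linearEquiv_apply]
  rfl

end OverS

end Groth.Agent.Lib.Helper15.CDS
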