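import Mathlib
import Groth.Prelude.Def_FlatCA
import Groth.Agent.Lib.Helper15.CDS7

/-!
# Standard shrinking of complete dévissages: the new dévissage
-/

set_option autoImplicit false
universe u

namespace Groth.Agent.Lib.Helper15.CDS

open TensorProduct Groth.Agent.Lib.Helper15.SHR Groth.Agent.Lib.Helper15.CDB
open Groth.Agent.Lib.Helper15.CDB (IfRing)

section Assemble

variable {R S : Type u} [CommRing R] [CommRing S] [Algebra R S]
  {N : Type u} [AddCommGroup N] [Module S N] {p : Ideal R} [p.IsPrime] {q : Ideal S} [q.IsPrime]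
  {𝒟 : FlatCA.CompleteDevissage R S N p} {σ : Shrink 𝒟}
  {𝒜 : FlatCA.CompleteDevissageAt R S N p q 𝒟} (hσ : ShrinkAt σ 𝒜) [hP : (P1 σ).IsPrime]

/-- the shrunken complete dévissage -/
noncomputable def shrinkDev : FlatCA.CompleteDevissage (R1 σ) (S1 σ) (LN σ) (P1 σ) where
  n := 𝒟.n
  pos := 𝒟.pos
  A := A' σ
  B := B' σ
  M := M' σ
  r := 𝒟.r
  cA := fun i => inferInstance
  cB := fun i => inferInstance
  aRA := fun i => inferInstance
  aRB := fun i => inferInstance
  aBA := fun i => algB'A' σ i
  tRBA := fun i => inferInstance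
  aSA := algS1A'0 σ
  tRSA := inferInstance
  aBA' := fun i => algB'A'succ σ i
  tRBA' := fun i => inferInstance
  gM := fun i => inferInstance
  mAM := fun i => inferInstance
  mBM := fun i => modB'M' σ i
  tBAM := fun i => inferInstance
  mRM := fun i => modR1M' σ i
  tRBM := fun i => inferInstance
  mSM := modS1M'0 σ
  tSAM := inferInstance
  mB'M := fun i => modB'M'succ σ i
  tB'AM := fun i => inferInstance
  hp := fun i => primeB' hσ i
  α := α' σ
  surjSA := surjSA' σ
  fpSA := fpSA' σ
  surjBA' := surjBA'' σ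
  fpBA' := fpBA'' σ
  finiteBA := finiteBA' σ
  smooth := smoothB' σ
  geomIrred := fun i hi => (relDim' hσ i hi).2
  finiteM := finiteM' σ
  isoN := isoN' σ
  isoCoker := fun i hi => (isoCoker' σ i hi).some
  fibreIso := fibreIso' hσ
  cokerLast := cokerLast' σ

end Assemble

end Groth.Agent.Lib.Helper15.CDS
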