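import Mathlib
import Groth.Prelude.Def_FlatCA
import Groth.Agent.Lib.Helper15.CDS8

/-!
# Standard shrinking of complete dévissages: the new points
-/

set_option autoImplicit false
universe u

namespace Groth.Agent.Lib.Helper15.CDS

open TensorProduct Groth.Agent.Lib.Helper15.SHR Groth.Agent.Lib.Helper15.CDB
open Groth.Agent.Lib.Helper15.CDB (IfRing)

section Generic

theorem uniq_away {D C D₁ C₁ : Type u} [CommRing D] [CommRing C] [CommRing D₁] [CommRing C₁]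
    [Algebra D C] [Algebra D D₁] [Algebra C C₁] [Algebra D₁ C₁] (hY : D) (hZ : C)
    [IsLocalization.Away hY D₁] [IsLocalization.Away hZ C₁]
    (hDC : (algebraMap D₁ C₁).comp (algebraMap D D₁) = (algebraMap C C₁).comp (algebraMap D C))
    (y : Ideal D) [y.IsPrime] (hYy : hY ∉ y) (z : Ideal C)
    (h3 : ∀ (z₁ : Ideal C) [z₁.IsPrime], z₁.LiesOver y → z₁ = z)
    (z₂ : Ideal C₁) [z₂.IsPrime] (hz₂y : z₂.LiesOver (y.map (algebraMap D D₁))) :
    z₂ = z.map (algebraMap C C₁) := by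
  set z₂' := z₂.comap (algebraMap C C₁) with hz₂'
  haveI : z₂'.IsPrime := Ideal.comap_isPrime _ _
  have h5 : z₂'.LiesOver y := by
    constructor
    change y = (z₂.comap (algebraMap C C₁)).comap (algebraMap D C)
    rw [Ideal.comap_comap, ← hDC, ← Ideal.comap_comap]
    have h6 : z₂.comap (algebraMap D₁ C₁) = y.map (algebraMap D D₁) := hz₂y.over.symm
    rw [h6, comap_map_away hY y hYy]
  have h7 := h3 z₂' h5
  rw [eq_map_comap_away hZ z₂, ← hz₂', h7]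

theorem mem_map_equiv_iff {X Y : Type u} [CommRing X] [CommRing Y] (e : X ≃+* Y) (I : Ideal X)
    (y : Y) : y ∈ I.map (e : X →+* Y) ↔ e.symm y ∈ I := by
  constructor
  · intro h
    have hle : I.map (e : X →+* Y) ≤ I.comap (e.symm : Y →+* X) := by
      rw [Ideal.map_le_iff_le_comap]
      intro x hx
      change e.symm (e x) ∈ I
      rw [RingEquiv.symm_apply_apply]
      exact hx
    exact hle h
  · intro h
    have := Ideal.mem_map_of_mem (e : X →+* Y) h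
    change e (e.symm y) ∈ _ at this
    rwa [RingEquiv.apply_symm_apply] at this

end Generic

section Points

variable {R S : Type u} [CommRing R] [CommRing S] [Algebra R S]
  {N : Type u} [AddCommGroup N] [Module S N] {p : Ideal R} [p.IsPrime] {q : Ideal S} [q.IsPrime]
  {𝒟 : FlatCA.CompleteDevissage R S N p} (σ : Shrink 𝒟)
  (𝒜 : FlatCA.CompleteDevissageAt R S N p q 𝒟)

open Classical in
/-- the new points of the smooth algebras -/
noncomputable def qB' (i : ℕ) : Ideal (B' σ i) :=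
  if h : i < 𝒟.n then
    (haveI : Fact (i < 𝒟.n) := ⟨h⟩; (𝒜.qB i).map (algebraMap (𝒟.B i) (B' σ i)))
  else (P1 σ).map (algebraMap (R1 σ) (B' σ i))

open Classical in
/-- the new points of the rings carrying the modules -/
noncomputable def qA' (i : ℕ) : Ideal (A' σ i) :=
  if h : i < 𝒟.n then
    (haveI : Fact (i < 𝒟.n) := ⟨h⟩; (𝒜.qA i).map (algebraMap (𝒟.A i) (A' σ i)))
  else (qB' σ 𝒜 (i - 1)).map ((eAneg σ i h).toRingEquiv : B' σ (i - 1) →+* A' σ i)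

theorem qB'_pos (i : ℕ) [hi : Fact (i < 𝒟.n)] :
    qB' σ 𝒜 i = (𝒜.qB i).map (algebraMap (𝒟.B i) (B' σ i)) := by
  unfold qB'
  rw [dif_pos hi.out]

theorem qB'_neg (i : ℕ) (hi : ¬ i < 𝒟.n) :
    qB' σ 𝒜 i = (P1 σ).map (algebraMap (R1 σ) (B' σ i)) := by
  unfold qB'
  rw [dif_neg hi]

theorem qA'_pos (i : ℕ) [hi : Fact (i < 𝒟.n)] :
    qA' σ 𝒜 i = (𝒜.qA i).map (algebraMap (𝒟.A i) (A' σ i)) := by
  unfold qA'
  rw [dif_pos hi.out]

theorem qA'_neg (i : ℕ) (hi : ¬ i < 𝒟.n) :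
    qA' σ 𝒜 i = (qB' σ 𝒜 (i - 1)).map ((eAneg σ i hi).toRingEquiv : B' σ (i - 1) →+* A' σ i) := by
  unfold qA'
  rw [dif_neg hi]

variable {σ 𝒜} (hσ : ShrinkAt σ 𝒜)

include hσ in
theorem not_mem_qA (i : ℕ) (hi : i < 𝒟.n) : σ.a i ∉ 𝒜.qA i := by
  intro hmem
  apply hσ.hb i hi
  haveI := 𝒜.overA i
  rw [Ideal.LiesOver.over (p := 𝒜.qB i) (P := 𝒜.qA i)]
  exact hmem

include hσ in
theorem isPrime_qB' [(P1 σ).IsPrime] (i : ℕ) : (qB' σ 𝒜 i).IsPrime := by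
  by_cases hi : i < 𝒟.n
  · haveI : Fact (i < 𝒟.n) := ⟨hi⟩
    haveI := 𝒜.hqB i
    rw [qB'_pos]
    exact map_isPrime_away (σ.b i) (𝒜.qB i) (hσ.hb i hi)
  · rw [qB'_neg σ 𝒜 i hi]
    exact primeB' hσ i

include hσ in
theorem isPrime_qA' [(P1 σ).IsPrime] (i : ℕ) : (qA' σ 𝒜 i).IsPrime := by
  by_cases hi : i < 𝒟.n
  · haveI : Fact (i < 𝒟.n) := ⟨hi⟩
    haveI := 𝒜.hqA i
    rw [qA'_pos]
    exact map_isPrime_away (σ.a i) (𝒜.qA i) (not_mem_qA hσ i hi)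
  · rw [qA'_neg σ 𝒜 i hi]
    haveI := isPrime_qB' hσ (i - 1)
    exact Ideal.map_isPrime_of_equiv (eAneg σ i hi).toRingEquiv

include hσ in
theorem liesOver_qB'_P1 (i : ℕ) : (qB' σ 𝒜 i).LiesOver (P1 σ) := by
  by_cases hi : i < 𝒟.n
  · haveI : Fact (i < 𝒟.n) := ⟨hi⟩
    haveI := 𝒜.hqB i
    haveI := 𝒜.overB i
    rw [qB'_pos]
    exact ⟨(comap_map_map_away σ.g (σ.b i) (commRB' i) p (𝒜.qB i) (hσ.hb i hi)
      (Ideal.LiesOver.over (p := p) (P := 𝒜.qB i)).symm).symm⟩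
  · rw [qB'_neg σ 𝒜 i hi]
    constructor
    have h1 : algebraMap (R1 σ) (B' σ i) = ((eBneg σ i hi).toRingEquiv : R1 σ →+* B' σ i) := by
      ext r
      exact ((eBneg σ i hi).commutes r).symm
    change P1 σ = ((P1 σ).map (algebraMap (R1 σ) (B' σ i))).comap (algebraMap (R1 σ) (B' σ i))
    rw [h1]
    exact (Ideal.comap_map_of_bijective _ (eBneg σ i hi).toRingEquiv.bijective).symm

include hσ in
theorem liesOver_qB'_qB (i : ℕ) (hi : i < 𝒟.n) :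
    haveI : Fact (i < 𝒟.n) := ⟨hi⟩
    (qB' σ 𝒜 i).LiesOver (𝒜.qB i) := by
  haveI : Fact (i < 𝒟.n) := ⟨hi⟩
  haveI := 𝒜.hqB i
  rw [qB'_pos]
  exact liesOver_away (σ.b i) (𝒜.qB i) (hσ.hb i hi)

include hσ in
theorem liesOver_qA'_qA (i : ℕ) (hi : i < 𝒟.n) :
    haveI : Fact (i < 𝒟.n) := ⟨hi⟩
    (qA' σ 𝒜 i).LiesOver (𝒜.qA i) := by
  haveI : Fact (i < 𝒟.n) := ⟨hi⟩
  haveI := 𝒜.hqA i
  rw [qA'_pos]
  exact liesOver_away (σ.a i) (𝒜.qA i) (not_mem_qA hσ i hi)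

theorem commBA' (i : ℕ) [Fact (i < 𝒟.n)] :
    (algebraMap (B' σ i) (A' σ i)).comp (algebraMap (𝒟.B i) (B' σ i)) =
      (algebraMap (𝒟.A i) (A' σ i)).comp (algebraMap (𝒟.B i) (𝒟.A i)) := by
  rw [← IsScalarTower.algebraMap_eq, ← IsScalarTower.algebraMap_eq]

theorem commBA'succ (i : ℕ) (h : i + 1 < 𝒟.n) [Fact (i < 𝒟.n)] [Fact (i + 1 < 𝒟.n)] :
    (algebraMap (B' σ i) (A' σ (i + 1))).comp (algebraMap (𝒟.B i) (B' σ i)) =
      (algebraMap (𝒟.A (i + 1)) (A' σ (i + 1))).comp (algebraMap (𝒟.B i) (𝒟.A (i + 1))) := by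
  haveI := towerBAA'succ σ i h
  rw [← IsScalarTower.algebraMap_eq, ← IsScalarTower.algebraMap_eq]

theorem commSA' :
    (algebraMap (S1 σ) (A' σ 0)).comp (algebraMap S (S1 σ)) =
      (algebraMap (𝒟.A 0) (A' σ 0)).comp (algebraMap S (𝒟.A 0)) := by
  rw [← IsScalarTower.algebraMap_eq, ← IsScalarTower.algebraMap_eq]

include hσ in
theorem liesOver_qA'_qB' (i : ℕ) : (qA' σ 𝒜 i).LiesOver (qB' σ 𝒜 i) := by
  by_cases hi : i < 𝒟.n
  · haveI : Fact (i < 𝒟.n) := ⟨hi⟩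
    haveI := 𝒜.hqA i
    haveI := 𝒜.overA i
    rw [qA'_pos, qB'_pos]
    exact ⟨(comap_map_map_away (σ.b i) (σ.a i) (commBA' i) (𝒜.qB i) (𝒜.qA i)
      (not_mem_qA hσ i hi) (Ideal.LiesOver.over (p := 𝒜.qB i) (P := 𝒜.qA i)).symm).symm⟩
  · constructor
    rw [qA'_neg σ 𝒜 i hi, qB'_neg σ 𝒜 i hi]
    have hlo := liesOver_qB'_P1 hσ (i - 1)
    ext x
    obtain ⟨r, rfl⟩ := (eBneg σ i hi).surjective x
    have h1 : algebraMap (R1 σ) (B' σ i) = ((eBneg σ i hi).toRingEquiv : R1 σ →+* B' σ i) := by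
      ext r
      exact ((eBneg σ i hi).commutes r).symm
    rw [h1, mem_map_equiv_iff, Ideal.under, Ideal.mem_comap, mem_map_equiv_iff]
    change (eBneg σ i hi).symm (eBneg σ i hi r) ∈ P1 σ ↔
      (eAneg σ i hi).symm (toA' σ i (eBneg σ i hi r)) ∈ qB' σ 𝒜 (i - 1)
    rw [toA'_eBneg, AlgEquiv.symm_apply_apply, AlgEquiv.symm_apply_apply,
      Ideal.LiesOver.over (p := P1 σ) (P := qB' σ 𝒜 (i - 1))]
    rfl

end Points

end Groth.Agent.Lib.Helper15.CDS
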