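import Mathlib
import Groth.Prelude.Def_FlatCA
import Groth.Agent.Lib.Helper15.CDS9

/-!
# Standard shrinking of complete dévissages: the new dévissage at the point
-/

set_option autoImplicit false
universe u

namespace Groth.Agent.Lib.Helper15.CDS

open TensorProduct Groth.Agent.Lib.Helper15.SHR Groth.Agent.Lib.Helper15.CDB
open Groth.Agent.Lib.Helper15.CDB (IfRing)

section PointProps

variable {R S : Type u} [CommRing R] [CommRing S] [Algebra R S] [Algebra.FiniteType R S]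
  {N : Type u} [AddCommGroup N] [Module S N] {p : Ideal R} [p.IsPrime] {q : Ideal S} [q.IsPrime]
  {𝒟 : FlatCA.CompleteDevissage R S N p} {σ : Shrink 𝒟}
  {𝒜 : FlatCA.CompleteDevissageAt R S N p q 𝒟} (hσ : ShrinkAt σ 𝒜)

include hσ in
theorem pureTrans' [(P1 σ).IsPrime] (i : ℕ) (hi : i < 𝒟.n) :
    haveI := isPrime_qB' hσ i
    haveI := liesOver_qB'_P1 hσ i
    FlatCA.PurelyTranscendental (P1 σ) (qB' σ 𝒜 i) := by
  haveI : Fact (i < 𝒟.n) := ⟨hi⟩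
  haveI := isPrime_qB' hσ i
  haveI := liesOver_qB'_P1 hσ i
  haveI := 𝒜.hqB i
  haveI := 𝒜.overB i
  haveI := liesOver_P1 hσ
  haveI := liesOver_qB'_qB hσ i hi
  exact purelyTranscendental_away σ.g (σ.b i) (commRB' i) p (𝒜.qB i) (P1 σ) (qB' σ 𝒜 i)
    (𝒜.pureTrans i hi)

include hσ in
theorem uniq' (i : ℕ) (hi : i < 𝒟.n) (Q : Ideal (A' σ i)) (hQp : Q.IsPrime)
    (hQ : Q.LiesOver (qB' σ 𝒜 i)) : Q = qA' σ 𝒜 i := by
  haveI := hQp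
  haveI : Fact (i < 𝒟.n) := ⟨hi⟩
  haveI := 𝒜.hqB i
  rw [qA'_pos]
  rw [qB'_pos] at hQ
  exact uniq_away (σ.b i) (σ.a i) (commBA' i) (𝒜.qB i) (hσ.hb i hi) (𝒜.qA i)
    (fun z₁ _ hz₁ => 𝒜.uniq i hi z₁ hz₁) Q hQ

include hσ in
theorem q0' : (qA' σ 𝒜 0).comap (algebraMap (S1 σ) (A' σ 0)) = q.map (algebraMap S (S1 σ)) := by
  haveI := 𝒜.hqA 0
  rw [qA'_pos]
  exact comap_map_map_away σ.hX (σ.a 0) commSA' q (𝒜.qA 0) (not_mem_qA hσ 0 𝒟.pos) 𝒜.q0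

include hσ in
theorem qStep' (i : ℕ) (hi : i + 1 < 𝒟.n) :
    (qA' σ 𝒜 (i + 1)).comap (algebraMap (B' σ i) (A' σ (i + 1))) = qB' σ 𝒜 i := by
  haveI : Fact (i < 𝒟.n) := ⟨Nat.lt_of_succ_lt hi⟩
  haveI : Fact (i + 1 < 𝒟.n) := ⟨hi⟩
  haveI := 𝒜.hqA (i + 1)
  rw [qA'_pos, qB'_pos]
  exact comap_map_map_away (σ.b i) (σ.a (i + 1)) (commBA'succ i hi) (𝒜.qB i) (𝒜.qA (i + 1))
    (not_mem_qA hσ (i + 1) hi) (𝒜.qStep i hi)

include hσ in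
theorem locDim' [(P1 σ).IsPrime] (i : ℕ) (hi : i < 𝒟.n) :
    ∃ (x : PrimeSpectrum ((P1 σ).Fiber (B' σ i)))
      (hx : x ∈ Module.support ((P1 σ).Fiber (B' σ i)) (FlatCA.fiberMod (P1 σ) (B' σ i) (M' σ i))),
      x.asIdeal = FlatCA.fiberIdeal (P1 σ) (qB' σ 𝒜 i) ∧
      FlatMor.localDim (Module.support ((P1 σ).Fiber (B' σ i))
        (FlatCA.fiberMod (P1 σ) (B' σ i) (M' σ i))) ⟨x, hx⟩ = 𝒜.d i := by
  haveI : Fact (i < 𝒟.n) := ⟨hi⟩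
  haveI := 𝒜.hqB i
  haveI := 𝒜.overB i
  haveI := 𝒟.finiteBA i hi
  haveI := 𝒟.finiteM i hi
  haveI : Module.Finite (𝒟.B i) (𝒟.M i) := Module.Finite.trans (𝒟.A i) (𝒟.M i)
  haveI := finiteBA' σ i hi
  haveI := finiteM' σ i hi
  haveI : Module.Finite (B' σ i) (M' σ i) := Module.Finite.trans (A' σ i) (M' σ i)
  have h1 := exists_xi_localization (S := 𝒟.B i) (S₁ := B' σ i) p (σ.b i) (𝒟.M i) (M' σ i)
    (gMB σ i) (𝒜.qB i) (hσ.hb i hi) (𝒜.d i) (𝒜.locDim i hi)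
  haveI := liesOver_P1 hσ
  haveI h2 : ((𝒜.qB i).map (algebraMap (𝒟.B i) (B' σ i))).IsPrime :=
    map_isPrime_away (σ.b i) (𝒜.qB i) (hσ.hb i hi)
  haveI h3 : ((𝒜.qB i).map (algebraMap (𝒟.B i) (B' σ i))).LiesOver (𝒜.qB i) :=
    liesOver_away (σ.b i) (𝒜.qB i) (hσ.hb i hi)
  haveI h4 : ((𝒜.qB i).map (algebraMap (𝒟.B i) (B' σ i))).LiesOver p :=
    Ideal.LiesOver.trans ((𝒜.qB i).map (algebraMap (𝒟.B i) (B' σ i))) (𝒜.qB i) p
  haveI h5 : ((𝒜.qB i).map (algebraMap (𝒟.B i) (B' σ i))).LiesOver (P1 σ) := by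
    have := liesOver_qB'_P1 hσ i
    rwa [qB'_pos] at this
  have h6 := exists_xi_base σ.g p (P1 σ) (B' σ i) (M' σ i)
    ((𝒜.qB i).map (algebraMap (𝒟.B i) (B' σ i))) (𝒜.d i) h1
  rw [qB'_pos]
  exact h6

end PointProps

section AssembleAt

variable {R S : Type u} [CommRing R] [CommRing S] [Algebra R S] [Algebra.FiniteType R S]
  {N : Type u} [AddCommGroup N] [Module S N] {p : Ideal R} [p.IsPrime] {q : Ideal S} [q.IsPrime]
  {𝒟 : FlatCA.CompleteDevissage R S N p} {σ : Shrink 𝒟}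
  {𝒜 : FlatCA.CompleteDevissageAt R S N p q 𝒟} (hσ : ShrinkAt σ 𝒜) [hP : (P1 σ).IsPrime]
  [hQ : (q.map (algebraMap S (S1 σ))).IsPrime]

/-- the shrunken complete dévissage at the point -/
noncomputable def shrinkDevAt :
    FlatCA.CompleteDevissageAt (R1 σ) (S1 σ) (LN σ) (P1 σ) (q.map (algebraMap S (S1 σ)))
      (shrinkDev hσ) where
  qB := qB' σ 𝒜
  qA := qA' σ 𝒜
  hqB := isPrime_qB' hσ
  hqA := isPrime_qA' hσ
  overB := liesOver_qB'_P1 hσ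
  overA := liesOver_qA'_qB' hσ
  pureTrans := fun i hi => pureTrans' hσ i hi
  uniq := fun i hi Q hQp hQ => uniq' hσ i hi Q hQp hQ
  q0 := q0' hσ
  qStep := fun i hi => qStep' hσ i hi
  d := 𝒜.d
  relDim := fun i hi => (relDim' hσ i hi).1
  locDim := fun i hi => locDim' hσ i hi

end AssembleAt

end Groth.Agent.Lib.Helper15.CDS
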