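import Mathlib
import Groth.Prelude.Def_FlatCA
import Groth.Agent.Lib.Helper15.CDS10

/-!
# Standard shrinking of complete dévissages: the structural statement
-/

set_option autoImplicit false
universe u

namespace Groth.Agent.Lib.Helper15.CDS

open TensorProduct Groth.Agent.Lib.Helper15.SHR Groth.Agent.Lib.Helper15.CDB
open Groth.Agent.Lib.Helper15.CDB (IfRing)

theorem shrink_existsA
    (R S : Type u) [CommRing R] [CommRing S] [Algebra R S] [Algebra.FiniteType R S]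
    (N : Type u) [AddCommGroup N] [Module S N] [Module.Finite S N]
    (p : Ideal R) [p.IsPrime] (q : Ideal S) [q.IsPrime] (𝒟 : FlatCA.CompleteDevissage R S N p)
    (𝒜 : FlatCA.CompleteDevissageAt R S N p q 𝒟)
    (σ : Shrink 𝒟) (hσ : ShrinkAt σ 𝒜) :
      ∃ (_ : Algebra (Localization.Away σ.g) (Localization.Away σ.hX)) (_ : IsScalarTower R (Localization.Away σ.g) (Localization.Away σ.hX))
        (_ : Module (Localization.Away σ.g) (LocalizedModule (Submonoid.powers σ.hX) N)) (_ : IsScalarTower (Localization.Away σ.g) (Localization.Away σ.hX) (LocalizedModule (Submonoid.powers σ.hX) N))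
        (_ : (Ideal.map (algebraMap R (Localization.Away σ.g)) p).IsPrime) (_ : (Ideal.map (algebraMap S (Localization.Away σ.hX)) q).IsPrime)
        (𝒟' : FlatCA.CompleteDevissage (Localization.Away σ.g) (Localization.Away σ.hX) (LocalizedModule (Submonoid.powers σ.hX) N) (Ideal.map (algebraMap R (Localization.Away σ.g)) p))
        (𝒜' : FlatCA.CompleteDevissageAt (Localization.Away σ.g) (Localization.Away σ.hX) (LocalizedModule (Submonoid.powers σ.hX) N) (Ideal.map (algebraMap R (Localization.Away σ.g)) p) (Ideal.map (algebraMap S (Localization.Away σ.hX)) q) 𝒟')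
        (a : ∀ i : Fin 𝒟.n, 𝒟.A i) (b : ∀ i : Fin 𝒟.n, 𝒟.B i)
      (aA : ∀ i : Fin 𝒟.n, Algebra (𝒟.A i) (𝒟'.A i)) (rA : ∀ i : Fin 𝒟.n, Algebra R (𝒟'.A i))
      (_t1 : ∀ i : Fin 𝒟.n, IsScalarTower R (Localization.Away σ.g) (𝒟'.A i)) (_t2 : ∀ i : Fin 𝒟.n, IsScalarTower R (𝒟.A i) (𝒟'.A i))
      (aB : ∀ i : Fin 𝒟.n, Algebra (𝒟.B i) (𝒟'.B i)) (rB : ∀ i : Fin 𝒟.n, Algebra R (𝒟'.B i))
      (_t3 : ∀ i : Fin 𝒟.n, IsScalarTower R (Localization.Away σ.g) (𝒟'.B i)) (_t4 : ∀ i : Fin 𝒟.n, IsScalarTower R (𝒟.B i) (𝒟'.B i))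
      (bA : ∀ i : Fin 𝒟.n, Algebra (𝒟.B i) (𝒟'.A i)) (_t5 : ∀ i : Fin 𝒟.n, IsScalarTower (𝒟.B i) (𝒟.A i) (𝒟'.A i))
      (_t6 : ∀ i : Fin 𝒟.n, IsScalarTower (𝒟.B i) (𝒟'.B i) (𝒟'.A i))
      (bA' : ∀ i : Fin 𝒟.n, Algebra (𝒟.B i) (𝒟'.A (i + 1)))
      (_t7 : ∀ i : Fin 𝒟.n, IsScalarTower (𝒟.B i) (𝒟'.B i) (𝒟'.A (i + 1)))
      (sA : Algebra S (𝒟'.A 0)) (_t8 : IsScalarTower S (Localization.Away σ.hX) (𝒟'.A 0))
      (mA : ∀ i : Fin 𝒟.n, Module (𝒟.A i) (𝒟'.M i)) (_t9 : ∀ i : Fin 𝒟.n, IsScalarTower (𝒟.A i) (𝒟'.A i) (𝒟'.M i))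
      (gM : ∀ i : Fin 𝒟.n, 𝒟.M i →ₗ[𝒟.A i] 𝒟'.M i),
        𝒟'.n = 𝒟.n ∧ 𝒟'.r = 𝒟.r ∧ 𝒜'.d = 𝒜.d ∧
        (letI := aA ⟨0, 𝒟.pos⟩; IsScalarTower S (𝒟.A 0) (𝒟'.A 0)) ∧
      (∀ x : N, 𝒟'.isoN (LocalizedModule.mkLinearMap (Submonoid.powers σ.hX) N x) = gM ⟨0, 𝒟.pos⟩ (𝒟.isoN x)) ∧
      (∀ (i : Fin 𝒟.n) (h : (i : ℕ) + 1 < 𝒟.n),
        letI := aA ⟨i + 1, h⟩; IsScalarTower (𝒟.B i) (𝒟.A (i + 1)) (𝒟'.A (i + 1))) ∧
        ∀ i : Fin 𝒟.n,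
          a i ∉ 𝒜.qA i ∧ b i ∉ 𝒜.qB i ∧
          IsLocalization.Away (a i) (𝒟'.A i) ∧ IsLocalization.Away (b i) (𝒟'.B i) ∧
          IsLocalizedModule (Submonoid.powers (a i)) (gM i) ∧
          (𝒜'.qA i).LiesOver (𝒜.qA i) ∧ (𝒜'.qB i).LiesOver (𝒜.qB i) ∧
          LinearMap.range (𝒟'.α i) =
            Submodule.span (𝒟'.B i) ((gM i) '' (LinearMap.range (𝒟.α i) : Set (𝒟.M i))) := by
  haveI hP : (P1 σ).IsPrime := isPrime_P1 hσ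
  haveI hQ : (q.map (algebraMap S (S1 σ))).IsPrime := map_isPrime_away σ.hX q hσ.hXq
  letI mRN : Module (R1 σ) (LN σ) := Module.compHom (LN σ) (algebraMap (R1 σ) (S1 σ))
  haveI tRN : IsScalarTower (R1 σ) (S1 σ) (LN σ) :=
    IsScalarTower.of_algebraMap_smul fun _ _ => rfl
  refine ⟨algR1S1 σ, towerR1S1 σ, mRN, tRN, hP, hQ, shrinkDev hσ, shrinkDevAt hσ,
    fun i => σ.a i, fun i => σ.b i,
    fun i => haveI : Fact ((i : ℕ) < 𝒟.n) := ⟨i.2⟩; algAA' σ i,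
    fun i => (inferInstance : Algebra R (A' σ i)),
    fun i => (inferInstance : IsScalarTower R (R1 σ) (A' σ i)),
    fun i => haveI : Fact ((i : ℕ) < 𝒟.n) := ⟨i.2⟩; towerRAA' σ i,
    fun i => haveI : Fact ((i : ℕ) < 𝒟.n) := ⟨i.2⟩; algBB' σ i,
    fun i => (inferInstance : Algebra R (B' σ i)),
    fun i => (inferInstance : IsScalarTower R (R1 σ) (B' σ i)),
    fun i => haveI : Fact ((i : ℕ) < 𝒟.n) := ⟨i.2⟩; towerRBB' σ i,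
    fun i => haveI : Fact ((i : ℕ) < 𝒟.n) := ⟨i.2⟩; algBA' σ i,
    fun i => haveI : Fact ((i : ℕ) < 𝒟.n) := ⟨i.2⟩; towerBAA' σ i,
    fun i => haveI : Fact ((i : ℕ) < 𝒟.n) := ⟨i.2⟩; towerBB'A' σ i,
    fun i => haveI : Fact ((i : ℕ) < 𝒟.n) := ⟨i.2⟩; algBA'succ σ i,
    fun i => haveI : Fact ((i : ℕ) < 𝒟.n) := ⟨i.2⟩; towerBB'A'succ σ i,
    algSA'0 σ, towerSS1A'0 σ,
    fun i => haveI : Fact ((i : ℕ) < 𝒟.n) := ⟨i.2⟩; modAM' σ i,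
    fun i => haveI : Fact ((i : ℕ) < 𝒟.n) := ⟨i.2⟩;
      (inferInstance : IsScalarTower (𝒟.A i) (A' σ i) (M' σ i)),
    fun i => haveI : Fact ((i : ℕ) < 𝒟.n) := ⟨i.2⟩; gM σ i, rfl, rfl, rfl, ?_, ?_, ?_, ?_⟩
  · exact towerSAA'0 σ
  · intro x
    exact isoN'_apply σ x
  · intro i h
    haveI : Fact ((i : ℕ) < 𝒟.n) := ⟨i.2⟩
    haveI : Fact ((i : ℕ) + 1 < 𝒟.n) := ⟨h⟩
    exact towerBAA'succ σ i h
  · intro i
    haveI : Fact ((i : ℕ) < 𝒟.n) := ⟨i.2⟩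
    refine ⟨not_mem_qA hσ i i.2, hσ.hb i i.2, isLocA' σ i, isLocB' σ i, isLocM' σ i,
      liesOver_qA'_qA hσ i i.2, liesOver_qB'_qB hσ i i.2, range_α' σ i⟩

theorem shrink_existsB
    (R S : Type u) [CommRing R] [CommRing S] [Algebra R S] [Algebra.FiniteType R S]
    (N : Type u) [AddCommGroup N] [Module S N] [Module.Finite S N]
    (p : Ideal R) [p.IsPrime] (q : Ideal S) [q.IsPrime] (𝒟 : FlatCA.CompleteDevissage R S N p)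
    (𝒜 : FlatCA.CompleteDevissageAt R S N p q 𝒟)
    (σ : Shrink 𝒟) (hσ : ShrinkAt σ 𝒜)
    (w : 𝒟.B (𝒟.n - 1)) (hwb : σ.b (𝒟.n - 1) = w * algebraMap R (𝒟.B (𝒟.n - 1)) σ.g) :
      ∃ (_ : Algebra (Localization.Away σ.g) (Localization.Away σ.hX)) (_ : IsScalarTower R (Localization.Away σ.g) (Localization.Away σ.hX))
        (_ : Module (Localization.Away σ.g) (LocalizedModule (Submonoid.powers σ.hX) N)) (_ : IsScalarTower (Localization.Away σ.g) (Localization.Away σ.hX) (LocalizedModule (Submonoid.powers σ.hX) N))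
        (_ : (Ideal.map (algebraMap R (Localization.Away σ.g)) p).IsPrime) (_ : (Ideal.map (algebraMap S (Localization.Away σ.hX)) q).IsPrime)
        (𝒟' : FlatCA.CompleteDevissage (Localization.Away σ.g) (Localization.Away σ.hX) (LocalizedModule (Submonoid.powers σ.hX) N) (Ideal.map (algebraMap R (Localization.Away σ.g)) p))
        (𝒜' : FlatCA.CompleteDevissageAt (Localization.Away σ.g) (Localization.Away σ.hX) (LocalizedModule (Submonoid.powers σ.hX) N) (Ideal.map (algebraMap R (Localization.Away σ.g)) p) (Ideal.map (algebraMap S (Localization.Away σ.hX)) q) 𝒟')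
        (a : ∀ i : Fin 𝒟.n, 𝒟.A i) (b : ∀ i : Fin 𝒟.n, 𝒟.B i)
      (aA : ∀ i : Fin 𝒟.n, Algebra (𝒟.A i) (𝒟'.A i)) (rA : ∀ i : Fin 𝒟.n, Algebra R (𝒟'.A i))
      (_t1 : ∀ i : Fin 𝒟.n, IsScalarTower R (Localization.Away σ.g) (𝒟'.A i)) (_t2 : ∀ i : Fin 𝒟.n, IsScalarTower R (𝒟.A i) (𝒟'.A i))
      (aB : ∀ i : Fin 𝒟.n, Algebra (𝒟.B i) (𝒟'.B i)) (rB : ∀ i : Fin 𝒟.n, Algebra R (𝒟'.B i))
      (_t3 : ∀ i : Fin 𝒟.n, IsScalarTower R (Localization.Away σ.g) (𝒟'.B i)) (_t4 : ∀ i : Fin 𝒟.n, IsScalarTower R (𝒟.B i) (𝒟'.B i))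
      (bA : ∀ i : Fin 𝒟.n, Algebra (𝒟.B i) (𝒟'.A i)) (_t5 : ∀ i : Fin 𝒟.n, IsScalarTower (𝒟.B i) (𝒟.A i) (𝒟'.A i))
      (_t6 : ∀ i : Fin 𝒟.n, IsScalarTower (𝒟.B i) (𝒟'.B i) (𝒟'.A i))
      (bA' : ∀ i : Fin 𝒟.n, Algebra (𝒟.B i) (𝒟'.A (i + 1)))
      (_t7 : ∀ i : Fin 𝒟.n, IsScalarTower (𝒟.B i) (𝒟'.B i) (𝒟'.A (i + 1)))
      (sA : Algebra S (𝒟'.A 0)) (_t8 : IsScalarTower S (Localization.Away σ.hX) (𝒟'.A 0))
      (mA : ∀ i : Fin 𝒟.n, Module (𝒟.A i) (𝒟'.M i)) (_t9 : ∀ i : Fin 𝒟.n, IsScalarTower (𝒟.A i) (𝒟'.A i) (𝒟'.M i))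
      (gM : ∀ i : Fin 𝒟.n, 𝒟.M i →ₗ[𝒟.A i] 𝒟'.M i),
        𝒟'.n = 𝒟.n ∧ 𝒟'.r = 𝒟.r ∧ 𝒜'.d = 𝒜.d ∧
        (letI := aA ⟨0, 𝒟.pos⟩; IsScalarTower S (𝒟.A 0) (𝒟'.A 0)) ∧
      (∀ x : N, 𝒟'.isoN (LocalizedModule.mkLinearMap (Submonoid.powers σ.hX) N x) = gM ⟨0, 𝒟.pos⟩ (𝒟.isoN x)) ∧
      (∀ (i : Fin 𝒟.n) (h : (i : ℕ) + 1 < 𝒟.n),
        letI := aA ⟨i + 1, h⟩; IsScalarTower (𝒟.B i) (𝒟.A (i + 1)) (𝒟'.A (i + 1))) ∧
        b ⟨𝒟.n - 1, Nat.sub_one_lt_of_lt 𝒟.pos⟩ = w * algebraMap R (𝒟.B (𝒟.n - 1)) σ.g ∧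
        ∀ i : Fin 𝒟.n,
          a i ∉ 𝒜.qA i ∧ b i ∉ 𝒜.qB i ∧
          IsLocalization.Away (a i) (𝒟'.A i) ∧ IsLocalization.Away (b i) (𝒟'.B i) ∧
          IsLocalizedModule (Submonoid.powers (a i)) (gM i) ∧
          (𝒜'.qA i).LiesOver (𝒜.qA i) ∧ (𝒜'.qB i).LiesOver (𝒜.qB i) ∧
          LinearMap.range (𝒟'.α i) =
            Submodule.span (𝒟'.B i) ((gM i) '' (LinearMap.range (𝒟.α i) : Set (𝒟.M i))) := by
  haveI hP : (P1 σ).IsPrime := isPrime_P1 hσ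
  haveI hQ : (q.map (algebraMap S (S1 σ))).IsPrime := map_isPrime_away σ.hX q hσ.hXq
  letI mRN : Module (R1 σ) (LN σ) := Module.compHom (LN σ) (algebraMap (R1 σ) (S1 σ))
  haveI tRN : IsScalarTower (R1 σ) (S1 σ) (LN σ) :=
    IsScalarTower.of_algebraMap_smul fun _ _ => rfl
  refine ⟨algR1S1 σ, towerR1S1 σ, mRN, tRN, hP, hQ, shrinkDev hσ, shrinkDevAt hσ,
    fun i => σ.a i, fun i => σ.b i,
    fun i => haveI : Fact ((i : ℕ) < 𝒟.n) := ⟨i.2⟩; algAA' σ i,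
    fun i => (inferInstance : Algebra R (A' σ i)),
    fun i => (inferInstance : IsScalarTower R (R1 σ) (A' σ i)),
    fun i => haveI : Fact ((i : ℕ) < 𝒟.n) := ⟨i.2⟩; towerRAA' σ i,
    fun i => haveI : Fact ((i : ℕ) < 𝒟.n) := ⟨i.2⟩; algBB' σ i,
    fun i => (inferInstance : Algebra R (B' σ i)),
    fun i => (inferInstance : IsScalarTower R (R1 σ) (B' σ i)),
    fun i => haveI : Fact ((i : ℕ) < 𝒟.n) := ⟨i.2⟩; towerRBB' σ i,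
    fun i => haveI : Fact ((i : ℕ) < 𝒟.n) := ⟨i.2⟩; algBA' σ i,
    fun i => haveI : Fact ((i : ℕ) < 𝒟.n) := ⟨i.2⟩; towerBAA' σ i,
    fun i => haveI : Fact ((i : ℕ) < 𝒟.n) := ⟨i.2⟩; towerBB'A' σ i,
    fun i => haveI : Fact ((i : ℕ) < 𝒟.n) := ⟨i.2⟩; algBA'succ σ i,
    fun i => haveI : Fact ((i : ℕ) < 𝒟.n) := ⟨i.2⟩; towerBB'A'succ σ i,
    algSA'0 σ, towerSS1A'0 σ,
    fun i => haveI : Fact ((i : ℕ) < 𝒟.n) := ⟨i.2⟩; modAM' σ i,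
    fun i => haveI : Fact ((i : ℕ) < 𝒟.n) := ⟨i.2⟩;
      (inferInstance : IsScalarTower (𝒟.A i) (A' σ i) (M' σ i)),
    fun i => haveI : Fact ((i : ℕ) < 𝒟.n) := ⟨i.2⟩; gM σ i, rfl, rfl, rfl, ?_, ?_, ?_, hwb, ?_⟩
  · exact towerSAA'0 σ
  · intro x
    exact isoN'_apply σ x
  · intro i h
    haveI : Fact ((i : ℕ) < 𝒟.n) := ⟨i.2⟩
    haveI : Fact ((i : ℕ) + 1 < 𝒟.n) := ⟨h⟩
    exact towerBAA'succ σ i h
  · intro i
    haveI : Fact ((i : ℕ) < 𝒟.n) := ⟨i.2⟩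
    refine ⟨not_mem_qA hσ i i.2, hσ.hb i i.2, isLocA' σ i, isLocB' σ i, isLocM' σ i,
      liesOver_qA'_qA hσ i i.2, liesOver_qB'_qB hσ i i.2, range_α' σ i⟩

end Groth.Agent.Lib.Helper15.CDS
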