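import Mathlib
import Groth.Prelude.Def_FlatCA
import Groth.Agent.Lib.Helper15.CDS11

/-!
# Standard shrinking of complete dévissages: choosing the elements
-/

set_option autoImplicit false
universe u

namespace Groth.Agent.Lib.Helper15.CDS

open TensorProduct Groth.Agent.Lib.Helper15.SHR Groth.Agent.Lib.Helper15.CDB

section Choose

variable {R S : Type u} [CommRing R] [CommRing S] [Algebra R S]
  {N : Type u} [AddCommGroup N] [Module S N] {p : Ideal R} [p.IsPrime] {q : Ideal S} [q.IsPrime]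
  (𝒟 : FlatCA.CompleteDevissage R S N p)
  (𝒜 : FlatCA.CompleteDevissageAt R S N p q 𝒟)

/-- the bottom-up choice of the elements of the smooth algebras -/
theorem exists_beta (W : ∀ i, 𝒟.B i) (hW : ∀ i, i < 𝒟.n → W i ∉ 𝒜.qB i) :
    ∃ β : ∀ i, 𝒟.B i, β (𝒟.n - 1) = W (𝒟.n - 1) ∧
      (∀ i, i < 𝒟.n → β i ∉ 𝒜.qB i ∧ W i ∣ β i) ∧
      (∀ i, i + 1 < 𝒟.n → algebraMap (𝒟.B i) (𝒟.A (i + 1)) (β i) =
        algebraMap (𝒟.B i) (𝒟.A (i + 1)) (W i) *
          algebraMap (𝒟.B (i + 1)) (𝒟.A (i + 1)) (β (i + 1))) := by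
  have hpos := 𝒟.pos
  have key : ∀ k, k ≤ 𝒟.n - 1 → ∃ β : ∀ i, 𝒟.B i, β (𝒟.n - 1) = W (𝒟.n - 1) ∧
      (∀ i, 𝒟.n - 1 - k ≤ i → i < 𝒟.n → β i ∉ 𝒜.qB i ∧ W i ∣ β i) ∧
      (∀ i, 𝒟.n - 1 - k ≤ i → i + 1 < 𝒟.n → algebraMap (𝒟.B i) (𝒟.A (i + 1)) (β i) =
        algebraMap (𝒟.B i) (𝒟.A (i + 1)) (W i) *
          algebraMap (𝒟.B (i + 1)) (𝒟.A (i + 1)) (β (i + 1))) := by
    intro k
    induction k with
    | zero =>
      intro _
      refine ⟨W, rfl, ?_, ?_⟩
      · intro i h1 h2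
        exact ⟨hW i h2, dvd_rfl⟩
      · intro i h1 h2
        omega
    | succ k ih =>
      intro hk
      obtain ⟨β, hβ1, hβ2, hβ3⟩ := ih (by omega)
      set m := 𝒟.n - 1 - (k + 1) with hm
      have hm1 : m + 1 = 𝒟.n - 1 - k := by omega
      have hm2 : m + 1 < 𝒟.n := by omega
      obtain ⟨l, hl⟩ := 𝒟.surjBA' m hm2 (algebraMap (𝒟.B (m + 1)) (𝒟.A (m + 1)) (β (m + 1)))
      refine ⟨Function.update β m (W m * l), ?_, ?_, ?_⟩
      · rw [Function.update_of_ne (by omega)]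
        exact hβ1
      · intro i h1 h2
        by_cases him : i = m
        · rw [him, Function.update_self]
          refine ⟨?_, Dvd.intro _ rfl⟩
          haveI := 𝒜.hqB m
          intro hmem
          rcases Ideal.IsPrime.mem_or_mem inferInstance hmem with h5 | h5
          · exact hW m (by omega) h5
          · have h6 : algebraMap (𝒟.B m) (𝒟.A (m + 1)) l ∈ 𝒜.qA (m + 1) := by
              rw [← 𝒜.qStep m hm2] at h5
              exact h5
            rw [hl] at h6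
            have h7 := (hβ2 (m + 1) (by omega) hm2).1
            apply h7
            haveI := 𝒜.overA (m + 1)
            rw [Ideal.LiesOver.over (p := 𝒜.qB (m + 1)) (P := 𝒜.qA (m + 1))]
            exact h6
        · rw [Function.update_of_ne him]
          exact hβ2 i (by omega) h2
      · intro i h1 h2
        by_cases him : i = m
        · rw [him, Function.update_self, Function.update_of_ne (by omega), map_mul, hl]
        · rw [Function.update_of_ne him, Function.update_of_ne (by omega)]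
          exact hβ3 i (by omega) h2
  obtain ⟨β, hβ1, hβ2, hβ3⟩ := key (𝒟.n - 1) le_rfl
  refine ⟨β, hβ1, fun i hi => hβ2 i (by omega) hi, fun i hi => hβ3 i (by omega) hi⟩

/-- the choice of the element of the base -/
theorem exists_g (β : ∀ i, 𝒟.B i) (hβ : ∀ i, i < 𝒟.n → β i ∉ 𝒜.qB i) :
    ∃ g : R, g ∉ p ∧ ∀ i, i < 𝒟.n → ∀ P : PrimeSpectrum R, g ∉ P.asIdeal →
      ∃ Q : PrimeSpectrum (𝒟.B i), β i ∉ Q.asIdeal ∧
        Q.asIdeal.comap (algebraMap R (𝒟.B i)) = P.asIdeal := by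
  have h1 : ∀ i, i < 𝒟.n → ∃ g : R, g ∉ p ∧ ∀ P : PrimeSpectrum R, g ∉ P.asIdeal →
      ∃ Q : PrimeSpectrum (𝒟.B i), β i ∉ Q.asIdeal ∧
        Q.asIdeal.comap (algebraMap R (𝒟.B i)) = P.asIdeal := by
    intro i hi
    haveI := 𝒜.hqB i
    haveI := 𝒜.overB i
    have hopen := isOpenMap_comap_of_smooth (𝒜.d i) (𝒜.relDim i hi)
    have hUopen : IsOpen (PrimeSpectrum.comap (algebraMap R (𝒟.B i)) ''
        (PrimeSpectrum.basicOpen (β i) : Set (PrimeSpectrum (𝒟.B i)))) :=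
      hopen _ (PrimeSpectrum.basicOpen (β i)).isOpen
    have hpU : (⟨p, inferInstance⟩ : PrimeSpectrum R) ∈
        PrimeSpectrum.comap (algebraMap R (𝒟.B i)) ''
          (PrimeSpectrum.basicOpen (β i) : Set (PrimeSpectrum (𝒟.B i))) :=
      ⟨⟨𝒜.qB i, inferInstance⟩, hβ i hi,
        PrimeSpectrum.ext (Ideal.LiesOver.over (p := p) (P := 𝒜.qB i)).symm⟩
    obtain ⟨_, ⟨g, rfl⟩, hpg, hgU⟩ :=
      PrimeSpectrum.isTopologicalBasis_basic_opens.exists_subset_of_mem_open hpU hUopen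
    refine ⟨g, hpg, ?_⟩
    intro P hgP
    obtain ⟨Q, hQw, hQP⟩ := hgU (show P ∈ (PrimeSpectrum.basicOpen g : Set (PrimeSpectrum R))
      from hgP)
    exact ⟨Q, hQw, congrArg PrimeSpectrum.asIdeal hQP⟩
  classical
  let G : ℕ → R := fun i => if hi : i < 𝒟.n then (h1 i hi).choose else 1
  refine ⟨∏ i ∈ Finset.range 𝒟.n, G i, ?_, ?_⟩
  · rw [Ideal.IsPrime.prod_mem_iff]
    rintro ⟨i, hi, hmem⟩
    rw [Finset.mem_range] at hi
    simp only [G, dif_pos hi] at hmem
    exact (h1 i hi).choose_spec.1 hmem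
  · intro i hi P hgP
    apply (h1 i hi).choose_spec.2 P
    intro hmem
    apply hgP
    have hdvd : G i ∣ ∏ j ∈ Finset.range 𝒟.n, G j :=
      Finset.dvd_prod_of_mem G (Finset.mem_range.mpr hi)
    have : G i ∈ P.asIdeal := by
      simp only [G, dif_pos hi]
      exact hmem
    exact Ideal.mem_of_dvd _ hdvd this

end Choose

end Groth.Agent.Lib.Helper15.CDS
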