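import Mathlib
import Groth.Prelude.Def_FlatCA
import Groth.Agent.Lib.Helper15.CDS12

/-!
# Standard shrinking of complete dévissages: the shrinking data
-/

set_option autoImplicit false
universe u

namespace Groth.Agent.Lib.Helper15.CDS

open TensorProduct Groth.Agent.Lib.Helper15.SHR Groth.Agent.Lib.Helper15.CDB

section Core

variable {R S : Type u} [CommRing R] [CommRing S] [Algebra R S]
  {N : Type u} [AddCommGroup N] [Module S N] {p : Ideal R} [p.IsPrime] {q : Ideal S} [q.IsPrime]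
  (𝒟 : FlatCA.CompleteDevissage R S N p)
  (𝒜 : FlatCA.CompleteDevissageAt R S N p q 𝒟)

include 𝒜 in
theorem comap_q : q.comap (algebraMap R S) = p := by
  haveI := 𝒜.overA 0
  haveI := 𝒜.overB 0
  have h_over_A : (𝒜.qA 0).comap (algebraMap (𝒟.B 0) (𝒟.A 0)) = 𝒜.qB 0 :=
    (Ideal.LiesOver.over (p := 𝒜.qB 0) (P := 𝒜.qA 0)).symm
  have h_over_B : (𝒜.qB 0).comap (algebraMap R (𝒟.B 0)) = p :=
    (Ideal.LiesOver.over (p := p) (P := 𝒜.qB 0)).symm
  rw [← 𝒜.q0, Ideal.comap_comap, ← IsScalarTower.algebraMap_eq,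
    IsScalarTower.algebraMap_eq R (𝒟.B 0) (𝒟.A 0), ← Ideal.comap_comap, h_over_A, h_over_B]

theorem exists_shrink (u : S) (hu : u ∉ q) (W : ∀ i, 𝒟.B i) (hW : ∀ i, i < 𝒟.n → W i ∉ 𝒜.qB i)
    (c0 : 𝒟.A 0) (hc0 : algebraMap S (𝒟.A 0) u * c0 = algebraMap (𝒟.B 0) (𝒟.A 0) (W 0))
    (c : ∀ i, 𝒟.A (i + 1))
    (hc : ∀ i, i + 1 < 𝒟.n → algebraMap (𝒟.B i) (𝒟.A (i + 1)) (W i) * c i =
      algebraMap (𝒟.B (i + 1)) (𝒟.A (i + 1)) (W (i + 1))) :
    ∃ σ : Shrink 𝒟, ShrinkAt σ 𝒜 ∧ IsUnit (algebraMap S (Localization.Away σ.hX) u) ∧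
      σ.b (𝒟.n - 1) = W (𝒟.n - 1) * algebraMap R (𝒟.B (𝒟.n - 1)) σ.g := by
  obtain ⟨β, hβ1, hβ2, hβ3⟩ := exists_beta 𝒟 𝒜 W hW
  obtain ⟨g, hgp, hgU⟩ := exists_g 𝒟 𝒜 β (fun i hi => (hβ2 i hi).1)
  obtain ⟨s0, hs0⟩ := 𝒟.surjSA (algebraMap (𝒟.B 0) (𝒟.A 0) (β 0))
  have hqp := comap_q 𝒟 𝒜
  let σ : Shrink 𝒟 :=
    { g := g
      hX := u * s0 * algebraMap R S g
      b := fun i => β i * algebraMap R (𝒟.B i) g
      g_dvd_b := fun i => Dvd.intro_left _ rfl
      g_dvd_hX := Dvd.intro_left _ rfl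
      v0 := algebraMap S (𝒟.A 0) u
      hv0 := by
        rw [map_mul, map_mul, hs0, map_mul, ← IsScalarTower.algebraMap_apply R S (𝒟.A 0),
          ← IsScalarTower.algebraMap_apply R (𝒟.B 0) (𝒟.A 0)]
        ring
      v0_dvd := by
        have h1 : algebraMap S (𝒟.A 0) u ∣ algebraMap (𝒟.B 0) (𝒟.A 0) (W 0) := Dvd.intro _ hc0
        have h2 : algebraMap (𝒟.B 0) (𝒟.A 0) (W 0) ∣
            algebraMap (𝒟.B 0) (𝒟.A 0) (β 0 * algebraMap R (𝒟.B 0) g) :=
          map_dvd _ (Dvd.dvd.mul_right (hβ2 0 𝒟.pos).2 _)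
        exact h1.trans h2
      v := fun i => algebraMap (𝒟.B i) (𝒟.A (i + 1)) (W i)
      hv := fun i hi => by
        rw [map_mul, map_mul, hβ3 i hi, ← IsScalarTower.algebraMap_apply R (𝒟.B i) (𝒟.A (i + 1)),
          ← IsScalarTower.algebraMap_apply R (𝒟.B (i + 1)) (𝒟.A (i + 1))]
        ring
      v_dvd := fun i hi => by
        have h1 : algebraMap (𝒟.B i) (𝒟.A (i + 1)) (W i) ∣
            algebraMap (𝒟.B (i + 1)) (𝒟.A (i + 1)) (W (i + 1)) := Dvd.intro _ (hc i hi)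
        have h2 : algebraMap (𝒟.B (i + 1)) (𝒟.A (i + 1)) (W (i + 1)) ∣
            algebraMap (𝒟.B (i + 1)) (𝒟.A (i + 1)) (β (i + 1) * algebraMap R (𝒟.B (i + 1)) g) :=
          map_dvd _ (Dvd.dvd.mul_right (hβ2 (i + 1) hi).2 _)
        exact h1.trans h2 }
  have hgq : algebraMap R S g ∉ q := fun hmem => hgp (by rw [← hqp]; exact hmem)
  have hs0q : s0 ∉ q := by
    intro hmem
    apply (hβ2 0 𝒟.pos).1
    haveI := 𝒜.overA 0
    rw [Ideal.LiesOver.over (p := 𝒜.qB 0) (P := 𝒜.qA 0)]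
    change algebraMap (𝒟.B 0) (𝒟.A 0) (β 0) ∈ 𝒜.qA 0
    rw [← hs0]
    rw [← 𝒜.q0] at hmem
    exact hmem
  have hσ : ShrinkAt σ 𝒜 :=
    { hg := hgp
      hXq := fun hmem =>
        (Ideal.IsPrime.mem_or_mem inferInstance hmem).elim
          (fun h' => (Ideal.IsPrime.mem_or_mem inferInstance h').elim hu hs0q) hgq
      hb := fun i hi hmem => by
        haveI := 𝒜.hqB i
        haveI := 𝒜.overB i
        rcases Ideal.IsPrime.mem_or_mem inferInstance hmem with h5 | h5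
        · exact (hβ2 i hi).1 h5
        · apply hgp
          rw [Ideal.LiesOver.over (p := p) (P := 𝒜.qB i)]
          exact h5
      hU := fun i hi P hgP => by
        obtain ⟨Q, hQβ, hQP⟩ := hgU i hi P hgP
        refine ⟨Q, ?_, hQP⟩
        intro hmem
        rcases Ideal.IsPrime.mem_or_mem Q.2 hmem with h5 | h5
        · exact hQβ h5
        · apply hgP
          rw [← hQP]
          exact h5 }
  refine ⟨σ, hσ, ?_, ?_⟩
  · have hd : u ∣ u * s0 * algebraMap R S g := ⟨s0 * algebraMap R S g, by ring⟩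
    exact isUnit_of_dvd_unit (map_dvd _ hd)
      (IsLocalization.Away.algebraMap_isUnit (u * s0 * algebraMap R S g))
  · change β (𝒟.n - 1) * algebraMap R (𝒟.B (𝒟.n - 1)) g = _
    rw [hβ1]

/-- the top-down choice of elements, starting from an element of `S` -/
theorem exists_W (u : S) (hu : u ∉ q) :
    ∃ (W : ∀ i, 𝒟.B i) (c0 : 𝒟.A 0) (c : ∀ i, 𝒟.A (i + 1)),
      (∀ i, i < 𝒟.n → W i ∉ 𝒜.qB i) ∧
      algebraMap S (𝒟.A 0) u * c0 = algebraMap (𝒟.B 0) (𝒟.A 0) (W 0) ∧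
      ∀ i, i + 1 < 𝒟.n → algebraMap (𝒟.B i) (𝒟.A (i + 1)) (W i) * c i =
        algebraMap (𝒟.B (i + 1)) (𝒟.A (i + 1)) (W (i + 1)) := by
  classical
  have key : ∀ m, ∃ (W : ∀ i, 𝒟.B i) (c0 : 𝒟.A 0) (c : ∀ i, 𝒟.A (i + 1)),
      (∀ i, i ≤ m → i < 𝒟.n → W i ∉ 𝒜.qB i) ∧
      algebraMap S (𝒟.A 0) u * c0 = algebraMap (𝒟.B 0) (𝒟.A 0) (W 0) ∧
      ∀ i, i + 1 ≤ m → i + 1 < 𝒟.n → algebraMap (𝒟.B i) (𝒟.A (i + 1)) (W i) * c i =
        algebraMap (𝒟.B (i + 1)) (𝒟.A (i + 1)) (W (i + 1)) := by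
    intro m
    induction m with
    | zero =>
      haveI := 𝒟.finiteBA 0 𝒟.pos
      haveI := 𝒜.hqA 0
      haveI := 𝒜.hqB 0
      haveI := 𝒜.overA 0
      haveI : (𝒜.qA 0).LiesOver q := ⟨𝒜.q0.symm⟩
      obtain ⟨w0, c0, hw0, hc0⟩ := exists_w (S := S) (C := 𝒟.A 0) (D := 𝒟.B 0) q (𝒜.qA 0)
        (𝒜.qB 0) (fun z₁ _ hz₁ => 𝒜.uniq 0 𝒟.pos z₁ hz₁) u hu
      refine ⟨fun i => Nat.casesOn i w0 (fun _ => 1), c0, fun _ => 0, ?_, hc0, ?_⟩
      · intro i hi _
        have : i = 0 := by omega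
        subst this
        exact hw0
      · intro i hi
        omega
    | succ m ih =>
      obtain ⟨W, c0, c, h1, h2, h3⟩ := ih
      by_cases hm : m + 1 < 𝒟.n
      · haveI := 𝒟.finiteBA (m + 1) hm
        haveI := 𝒜.hqA (m + 1)
        haveI := 𝒜.hqB (m + 1)
        haveI := 𝒜.hqB m
        haveI := 𝒜.overA (m + 1)
        haveI : (𝒜.qA (m + 1)).LiesOver (𝒜.qB m) := ⟨(𝒜.qStep m hm).symm⟩
        obtain ⟨w', c', hw', hc'⟩ := exists_w (S := 𝒟.B m) (C := 𝒟.A (m + 1)) (D := 𝒟.B (m + 1))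
          (𝒜.qB m) (𝒜.qA (m + 1)) (𝒜.qB (m + 1))
          (fun z₁ _ hz₁ => 𝒜.uniq (m + 1) hm z₁ hz₁) (W m) (h1 m le_rfl (by omega))
        refine ⟨Function.update W (m + 1) w', c0, Function.update c m c', ?_, ?_, ?_⟩
        · intro i hi hin
          by_cases him : i = m + 1
          · rw [him, Function.update_self]
            exact hw'
          · rw [Function.update_of_ne him]
            exact h1 i (by omega) hin
        · rw [Function.update_of_ne (by omega)]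
          exact h2
        · intro i hi hin
          by_cases him : i = m
          · rw [him, Function.update_self, Function.update_self,
              Function.update_of_ne (by omega)]
            exact hc'
          · rw [Function.update_of_ne him, Function.update_of_ne (by omega),
              Function.update_of_ne (by omega)]
            exact h3 i (by omega) hin
      · refine ⟨W, c0, c, ?_, h2, ?_⟩
        · intro i hi hin
          exact h1 i (by omega) hin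
        · intro i hi hin
          exact h3 i (by omega) hin
  obtain ⟨W, c0, c, h1, h2, h3⟩ := key 𝒟.n
  exact ⟨W, c0, c, fun i hi => h1 i (by omega) hi, h2, fun i hi => h3 i (by omega) hi⟩

/-- the choice of elements starting from an element of the last smooth algebra -/
theorem exists_Wlast (w : 𝒟.B (𝒟.n - 1)) (hw : w ∉ 𝒜.qB (𝒟.n - 1)) :
    ∃ (W : ∀ i, 𝒟.B i) (c0 : 𝒟.A 0) (c : ∀ i, 𝒟.A (i + 1)),
      W (𝒟.n - 1) = w ∧
      (∀ i, i < 𝒟.n → W i ∉ 𝒜.qB i) ∧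
      algebraMap S (𝒟.A 0) 1 * c0 = algebraMap (𝒟.B 0) (𝒟.A 0) (W 0) ∧
      ∀ i, i + 1 < 𝒟.n → algebraMap (𝒟.B i) (𝒟.A (i + 1)) (W i) * c i =
        algebraMap (𝒟.B (i + 1)) (𝒟.A (i + 1)) (W (i + 1)) := by
  classical
  refine ⟨Function.update (fun _ => 1) (𝒟.n - 1) w,
    algebraMap (𝒟.B 0) (𝒟.A 0) (Function.update (fun _ => 1) (𝒟.n - 1) w 0),
    fun i => algebraMap (𝒟.B (i + 1)) (𝒟.A (i + 1))
      (Function.update (fun _ => 1) (𝒟.n - 1) w (i + 1)), Function.update_self .., ?_,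
    (by rw [map_one, one_mul]), ?_⟩
  · intro i hi
    by_cases h : i = 𝒟.n - 1
    · rw [h, Function.update_self]
      exact hw
    · rw [Function.update_of_ne h]
      haveI := 𝒜.hqB i
      exact fun hmem => (Ideal.IsPrime.ne_top inferInstance) ((Ideal.eq_top_iff_one _).mpr hmem)
  · intro i hi
    rw [Function.update_of_ne (by omega : i ≠ 𝒟.n - 1), map_one, one_mul]

end Core

end Groth.Agent.Lib.Helper15.CDS
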