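import Mathlib

set_option autoImplicit false
set_option linter.style.haveILetI false

namespace Groth.Agent.Lib.Helper15.Chase

universe u

variable {R : Type u} [CommRing R]

/-- the linear form `v ↦ ∑ f i * v i`. -/
noncomputable def lin {l : ℕ} (f : Fin l → R) : (Fin l → R) →ₗ[R] R :=
  Fintype.linearCombination R f

theorem lin_apply {l : ℕ} (f : Fin l → R) (v : Fin l → R) : lin f v = ∑ i, v i * f i := by
  simp [lin, Fintype.linearCombination_apply]

theorem forward (hcoh : ∀ I : Ideal R, I.FG → Module.FinitePresentation R I) (A : Type u) :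
    Module.Flat R (A → R) := by
  apply Module.Flat.of_forall_isTrivialRelation
  intro l f x hx
  let I : Ideal R := Ideal.span (Set.range f)
  have hIfg : I.FG := ⟨(Set.finite_range f).toFinset, by simp [I]⟩
  haveI := hcoh I hIfg
  have hmem : ∀ v, lin f v ∈ I := by
    intro v
    rw [lin_apply]
    exact Ideal.sum_mem _ fun i _ => Ideal.mul_mem_left _ _ (Ideal.subset_span ⟨i, rfl⟩)
  let L : (Fin l → R) →ₗ[R] I := LinearMap.codRestrict I (lin f) hmem
  have hLsurj : Function.Surjective L := by
    rintro ⟨y, hy⟩
    obtain ⟨c, hc⟩ := (Ideal.mem_span_range_iff_exists_fun).mp hy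
    refine ⟨c, Subtype.ext ?_⟩
    show lin f c = y
    rw [lin_apply, ← hc]
  have hKfg : (LinearMap.ker L).FG := Module.FinitePresentation.fg_ker L hLsurj
  obtain ⟨m, b, hb⟩ := Submodule.fg_iff_exists_fin_generating_family.mp hKfg
  have hbker : ∀ j, lin f (b j) = 0 := by
    intro j
    have : b j ∈ LinearMap.ker L := hb ▸ Submodule.subset_span ⟨j, rfl⟩
    have h2 : L (b j) = 0 := this
    exact congrArg Subtype.val h2
  have hxα : ∀ α : A, ∃ c : Fin m → R, ∑ j, c j • b j = fun i => x i α := by
    intro α
    have hmemK : (fun i => x i α) ∈ LinearMap.ker L := by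
      rw [LinearMap.mem_ker]
      apply Subtype.ext
      show lin f (fun i => x i α) = 0
      rw [lin_apply]
      have := congrFun hx α
      simp only [Finset.sum_apply, Pi.smul_apply, smul_eq_mul, Pi.zero_apply] at this
      rw [← this]
      exact Finset.sum_congr rfl fun i _ => mul_comm _ _
    rw [← hb] at hmemK
    exact (Submodule.mem_span_range_iff_exists_fun R).mp hmemK
  choose c hc using hxα
  refine ⟨m, fun i j => b j i, fun j α => c α j, ?_, ?_⟩
  · intro i
    funext α
    have := congrFun (hc α) i
    simp only [Finset.sum_apply, Pi.smul_apply, smul_eq_mul] at this ⊢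
    rw [← this]
    exact Finset.sum_congr rfl fun j _ => mul_comm _ _
  · intro j
    have := hbker j
    rw [lin_apply] at this
    rw [← this]
    exact Finset.sum_congr rfl fun i _ => mul_comm _ _

theorem backward (hflat : ∀ (A : Type u), Module.Flat R (A → R)) (I : Ideal R) (hI : I.FG) :
    Module.FinitePresentation R I := by
  obtain ⟨n, a, ha⟩ := Submodule.fg_iff_exists_fin_generating_family.mp hI
  have hmem : ∀ v, lin a v ∈ I := by
    intro v
    rw [lin_apply, ← ha]
    exact Submodule.sum_mem _ fun i _ => Submodule.smul_mem _ _ (Submodule.subset_span ⟨i, rfl⟩)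
  let L : (Fin n → R) →ₗ[R] I := LinearMap.codRestrict I (lin a) hmem
  have hLsurj : Function.Surjective L := by
    rintro ⟨y, hy⟩
    rw [← ha] at hy
    obtain ⟨c, hc⟩ := (Submodule.mem_span_range_iff_exists_fun R).mp hy
    refine ⟨c, Subtype.ext ?_⟩
    show lin a c = y
    rw [lin_apply, ← hc]
    rfl
  let K := LinearMap.ker L
  haveI := hflat K
  let x : Fin n → (K → R) := fun i k => (k : Fin n → R) i
  have hx : ∑ i, a i • x i = 0 := by
    funext k
    have h1 : L (k : Fin n → R) = 0 := k.2
    have h2 : lin a (k : Fin n → R) = 0 := congrArg Subtype.val h1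
    rw [lin_apply] at h2
    simp only [Finset.sum_apply, Pi.smul_apply, smul_eq_mul, Pi.zero_apply]
    rw [← h2]
    exact Finset.sum_congr rfl fun i _ => mul_comm _ _
  obtain ⟨m, b, y, hxy, hab⟩ := Module.Flat.isTrivialRelation_of_sum_smul_eq_zero hx
  have hKfg : K.FG := by
    rw [Submodule.fg_iff_exists_fin_generating_family]
    refine ⟨m, fun j i => b i j, ?_⟩
    apply le_antisymm
    · rw [Submodule.span_le]
      rintro _ ⟨j, rfl⟩
      show L (fun i => b i j) = 0
      apply Subtype.ext
      show lin a (fun i => b i j) = 0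
      rw [lin_apply, ← hab j]
      exact Finset.sum_congr rfl fun i _ => mul_comm _ _
    · intro k hk
      rw [Submodule.mem_span_range_iff_exists_fun]
      refine ⟨fun j => y j ⟨k, hk⟩, ?_⟩
      funext i
      have := congrFun (hxy i) ⟨k, hk⟩
      simp only [Finset.sum_apply, Pi.smul_apply, smul_eq_mul] at this ⊢
      rw [show k i = x i ⟨k, hk⟩ from rfl, this]
      exact Finset.sum_congr rfl fun j _ => mul_comm _ _
  exact Module.finitePresentation_of_free_of_surjective L hLsurj hKfg

end Groth.Agent.Lib.Helper15.Chase
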