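import Mathlib

/-! The Clifford algebra of a quadratic form on a finite free module is finite free of rank `2^n`. -/

set_option autoImplicit false
set_option linter.style.haveILetI false

namespace Groth.Agent.Lib.Helper15.Cl

open CliffordAlgebra

universe u v

section Free
variable {R : Type u} [CommRing R] {M : Type v} [AddCommGroup M] [Module R M]
  (Q : QuadraticForm R M)

theorem exists_neg_bilin [Module.Free R M] :
    ∃ B : LinearMap.BilinForm R M, B.toQuadraticMap = (0 : QuadraticForm R M) - Q := by
  obtain ⟨B, hB⟩ := LinearMap.BilinMap.toQuadraticMap_surjective (-Q)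
  exact ⟨B, by rw [hB, zero_sub]⟩

/-- the (non-canonical) linear isomorphism with the exterior algebra -/
noncomputable def toExt [Module.Free R M] : CliffordAlgebra Q ≃ₗ[R] ExteriorAlgebra R M :=
  CliffordAlgebra.changeFormEquiv (exists_neg_bilin Q).choose_spec

lemma toExt_one [Module.Free R M] : toExt Q 1 = 1 :=
  changeForm_one (exists_neg_bilin Q).choose_spec

lemma toExt_ι [Module.Free R M] (m : M) : toExt Q (ι Q m) = ExteriorAlgebra.ι R m :=
  changeForm_ι (exists_neg_bilin Q).choose_spec m

/-- a retraction of `ι` -/
noncomputable def retr [Module.Free R M] : CliffordAlgebra Q →ₗ[R] M :=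
  ExteriorAlgebra.ιInv ∘ₗ (toExt Q).toLinearMap

lemma retr_ι [Module.Free R M] (m : M) : retr Q (ι Q m) = m := by
  simp only [retr, LinearMap.comp_apply, LinearEquiv.coe_coe, toExt_ι]
  exact ExteriorAlgebra.ι_leftInverse m

theorem ι_injective [Module.Free R M] : Function.Injective (ι Q) :=
  Function.LeftInverse.injective (g := retr Q) (retr_ι Q)

theorem isCompl_range_ι [Module.Free R M] :
    IsCompl (LinearMap.range (ι Q)) (LinearMap.ker (retr Q)) := by
  constructor
  · rw [Submodule.disjoint_def]
    rintro x ⟨m, rfl⟩ hx
    rw [LinearMap.mem_ker, retr_ι] at hx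
    rw [hx, map_zero]
  · rw [codisjoint_iff, eq_top_iff]
    intro x _
    rw [Submodule.mem_sup]
    refine ⟨ι Q (retr Q x), ⟨_, rfl⟩, x - ι Q (retr Q x), ?_, by abel⟩
    rw [LinearMap.mem_ker, map_sub, retr_ι, sub_self]

/-- a retraction of the unit map -/
noncomputable def retr1 [Module.Free R M] : CliffordAlgebra Q →ₗ[R] R :=
  (ExteriorAlgebra.algebraMapInv (R := R) (M := M)).toLinearMap ∘ₗ (toExt Q).toLinearMap

lemma retr1_one [Module.Free R M] : retr1 Q 1 = 1 := by
  simp only [retr1, LinearMap.comp_apply, LinearEquiv.coe_coe, toExt_one]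
  change ExteriorAlgebra.algebraMapInv (1 : ExteriorAlgebra R M) = 1
  exact map_one _

lemma retr1_algebraMap [Module.Free R M] (r : R) : retr1 Q (algebraMap R _ r) = r := by
  rw [Algebra.algebraMap_eq_smul_one, map_smul, retr1_one, smul_eq_mul, mul_one]

theorem algebraMap_injective [Module.Free R M] :
    Function.Injective (algebraMap R (CliffordAlgebra Q)) :=
  Function.LeftInverse.injective (g := retr1 Q) (retr1_algebraMap Q)

/-- the basis of the Clifford algebra attached to a basis of the module -/
noncomputable def basisC {ι' : Type*} [LinearOrder ι'] (b : Module.Basis ι' R M) :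
    Module.Basis (Finset ι') R (CliffordAlgebra Q) :=
  haveI : Module.Free R M := Module.Free.of_basis b
  (b.ExteriorAlgebra).map (toExt Q).symm

theorem free_clifford [Module.Free R M] : Module.Free R (CliffordAlgebra Q) := by
  classical
  obtain ⟨⟨ι', b⟩⟩ := (inferInstance : Module.Free R M)
  letI : LinearOrder ι' := linearOrderOfSTO (WellOrderingRel (α := ι'))
  exact Module.Free.of_basis (basisC Q b)

theorem finite_clifford [Module.Free R M] [Module.Finite R M] :
    Module.Finite R (CliffordAlgebra Q) := by
  classical
  letI : LinearOrder (Module.Free.ChooseBasisIndex R M) :=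
    linearOrderOfSTO (WellOrderingRel (α := Module.Free.ChooseBasisIndex R M))
  exact Module.Finite.of_basis (basisC Q (Module.Free.chooseBasis R M))

/-- a surjective linear map between modules with finite bases of the same size is bijective -/
theorem bijective_of_surjective_of_bases {N N' : Type*} [AddCommGroup N] [Module R N]
    [AddCommGroup N'] [Module R N'] {κ κ' : Type*} [Finite κ] (b : Module.Basis κ R N)
    (b' : Module.Basis κ' R N') (e : κ ≃ κ') (f : N →ₗ[R] N') (hf : Function.Surjective f) :
    Function.Bijective f := by
  haveI : Module.Finite R N := Module.Finite.of_basis b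
  let g : N' ≃ₗ[R] N := (b'.reindex e.symm).equiv b (Equiv.refl _)
  have hs : Function.Surjective (g.toLinearMap ∘ₗ f) := g.surjective.comp hf
  have hi : Function.Injective (g.toLinearMap ∘ₗ f) :=
    OrzechProperty.injective_of_surjective_endomorphism _ hs
  refine ⟨?_, hf⟩
  intro x y hxy
  apply hi
  simp [hxy]

end Free

end Groth.Agent.Lib.Helper15.Cl
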