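import Mathlib
import Groth.Agent.Lib.Helper15.ClFree

/-! Graded homomorphisms out of Clifford algebras; `C(Q₁ ⊥ H) ≃ M₂(C(Q₁))`. -/

set_option autoImplicit false
set_option linter.style.haveILetI false

namespace Groth.Agent.Lib.Helper15.Cl

open CliffordAlgebra Matrix

universe u v w

section Graded
variable {R : Type u} [CommRing R] {M : Type v} [AddCommGroup M] [Module R M]
  (Q : QuadraticForm R M) {A : Type w} [Ring A] [Algebra R A]

theorem zmod2_cases (k : ZMod 2) : k = 0 ∨ k = 1 := by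
  revert k; decide

/-- an algebra map out of a Clifford algebra sending vectors to odd elements is graded -/
theorem map_mem_graded (G : ZMod 2 → Submodule R A) (h1 : (1 : A) ∈ G 0)
    (hmul : ∀ i j a b, a ∈ G i → b ∈ G j → a * b ∈ G (i + j))
    (f : CliffordAlgebra Q →ₐ[R] A) (hf : ∀ m, f (ι Q m) ∈ G 1) (k : ZMod 2)
    (x : CliffordAlgebra Q) (hx : x ∈ evenOdd Q k) : f x ∈ G k := by
  have h2 : ∀ m₁ m₂, f (ι Q m₁) * f (ι Q m₂) ∈ G 0 := fun m₁ m₂ => by
    have := hmul 1 1 _ _ (hf m₁) (hf m₂)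
    rwa [show (1 : ZMod 2) + 1 = 0 from rfl] at this
  rcases zmod2_cases k with rfl | rfl
  · refine even_induction Q (motive := fun x _ => f x ∈ G 0) ?_ ?_ ?_ x hx
    · intro r
      rw [AlgHom.commutes, Algebra.algebraMap_eq_smul_one]
      exact Submodule.smul_mem _ _ h1
    · intro x y hx hy ihx ihy
      rw [map_add]; exact Submodule.add_mem _ ihx ihy
    · intro m₁ m₂ x hx ih
      rw [map_mul, map_mul]
      have := hmul 0 0 _ _ (h2 m₁ m₂) ih
      rwa [zero_add] at this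
  · refine odd_induction Q (P := fun x _ => f x ∈ G 1) ?_ ?_ ?_ x hx
    · intro v; exact hf v
    · intro x y hx hy ihx ihy
      rw [map_add]; exact Submodule.add_mem _ ihx ihy
    · intro m₁ m₂ x hx ih
      rw [map_mul, map_mul]
      have := hmul 0 1 _ _ (h2 m₁ m₂) ih
      rwa [zero_add] at this

theorem exists_decomp (x : CliffordAlgebra Q) :
    ∃ x₀ ∈ evenOdd Q 0, ∃ x₁ ∈ evenOdd Q 1, x₀ + x₁ = x := by
  have h := (evenOdd_isCompl Q).sup_eq_top
  have hx : x ∈ evenOdd Q 0 ⊔ evenOdd Q 1 := by rw [h]; trivial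
  obtain ⟨x₀, h₀, x₁, h₁, e⟩ := Submodule.mem_sup.mp hx
  exact ⟨x₀, h₀, x₁, h₁, e⟩

theorem eq_zero_of_mem_both (x : CliffordAlgebra Q) (h₀ : x ∈ evenOdd Q 0) (h₁ : x ∈ evenOdd Q 1) :
    x = 0 := by
  have := (evenOdd_isCompl Q).disjoint
  rw [Submodule.disjoint_def] at this
  exact this x h₀ h₁

/-- an injective graded map reflects the grading -/
theorem mem_evenOdd_of_map_mem (G : ZMod 2 → Submodule R A) (hG : ∀ a, a ∈ G 0 → a ∈ G 1 → a = 0)
    (f : CliffordAlgebra Q →ₐ[R] A) (hinj : Function.Injective f)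
    (hgr : ∀ k x, x ∈ evenOdd Q k → f x ∈ G k) (k : ZMod 2)
    (x : CliffordAlgebra Q) (hx : f x ∈ G k) : x ∈ evenOdd Q k := by
  obtain ⟨x₀, h₀, x₁, h₁, rfl⟩ := exists_decomp Q x
  rw [map_add] at hx
  rcases zmod2_cases k with rfl | rfl
  · have : f x₁ ∈ G 0 := by
      have := Submodule.sub_mem _ hx (hgr 0 x₀ h₀)
      rwa [add_sub_cancel_left] at this
    have h0 : f x₁ = 0 := hG _ this (hgr 1 x₁ h₁)
    have : x₁ = 0 := hinj (by rw [h0, map_zero])
    rw [this, add_zero]; exact h₀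
  · have : f x₀ ∈ G 1 := by
      have := Submodule.sub_mem _ hx (hgr 1 x₁ h₁)
      rwa [add_sub_cancel_right] at this
    have h0 : f x₀ = 0 := hG _ (hgr 0 x₀ h₀) this
    have : x₀ = 0 := hinj (by rw [h0, map_zero])
    rw [this, zero_add]; exact h₁

end Graded

section M2
variable {R : Type u} [CommRing R] {M : Type v} {M₁ : Type w} [AddCommGroup M] [Module R M]
  [AddCommGroup M₁] [Module R M₁]
  (Q : QuadraticForm R M) (Q₁ : QuadraticForm R M₁) (π : M →ₗ[R] M₁) (α β : M →ₗ[R] R)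

/-- the generator map `x ↦ [[ι(πx), α x], [β x, -ι(πx)]]` -/
noncomputable def fM2 : M →ₗ[R] Matrix (Fin 2) (Fin 2) (CliffordAlgebra Q₁) where
  toFun x := !![ι Q₁ (π x), algebraMap R _ (α x); algebraMap R _ (β x), -ι Q₁ (π x)]
  map_add' x y := by
    ext i j; fin_cases i <;> fin_cases j <;> simp [add_comm]
  map_smul' c x := by
    ext i j; fin_cases i <;> fin_cases j <;> simp [Algebra.smul_def]

lemma fM2_apply (x : M) : fM2 Q₁ π α β x =
    !![ι Q₁ (π x), algebraMap R _ (α x); algebraMap R _ (β x), -ι Q₁ (π x)] := rfl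

variable {Q Q₁ π α β}

lemma algebraMap_fin_two {A : Type*} [Ring A] [Algebra R A] (r : R) :
    algebraMap R (Matrix (Fin 2) (Fin 2) A) r = !![algebraMap R A r, 0; 0, algebraMap R A r] := by
  ext i j
  fin_cases i <;> fin_cases j <;> simp [Matrix.algebraMap_matrix_apply]

theorem fM2_sq (hQ : ∀ x, Q x = Q₁ (π x) + α x * β x) (x : M) :
    fM2 Q₁ π α β x * fM2 Q₁ π α β x = algebraMap R _ (Q x) := by
  rw [fM2_apply, Matrix.mul_fin_two, hQ, algebraMap_fin_two]
  have e1 : ι Q₁ (π x) * ι Q₁ (π x) + algebraMap R _ (α x) * algebraMap R _ (β x) =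
      algebraMap R _ (Q₁ (π x) + α x * β x) := by
    rw [ι_sq_scalar, map_add, map_mul]
  have e2 : ι Q₁ (π x) * algebraMap R _ (α x) + algebraMap R _ (α x) * -ι Q₁ (π x) = 0 := by
    rw [mul_neg, Algebra.commutes]; abel
  have e3 : algebraMap R _ (β x) * ι Q₁ (π x) + -ι Q₁ (π x) * algebraMap R _ (β x) = 0 := by
    rw [neg_mul, Algebra.commutes]; abel
  have e4 : algebraMap R _ (β x) * algebraMap R _ (α x) + -ι Q₁ (π x) * -ι Q₁ (π x) =
      algebraMap R _ (Q₁ (π x) + α x * β x) := by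
    rw [neg_mul_neg, ι_sq_scalar, map_add, map_mul, ← Algebra.commutes]; abel
  rw [e1, e2, e3, e4]

/-- the algebra map `C(Q) → M₂(C(Q₁))` -/
noncomputable def Φ (hQ : ∀ x, Q x = Q₁ (π x) + α x * β x) :
    CliffordAlgebra Q →ₐ[R] Matrix (Fin 2) (Fin 2) (CliffordAlgebra Q₁) :=
  CliffordAlgebra.lift Q ⟨fM2 Q₁ π α β, fM2_sq hQ⟩

lemma Φ_ι (hQ : ∀ x, Q x = Q₁ (π x) + α x * β x) (x : M) :
    Φ hQ (ι Q x) = !![ι Q₁ (π x), algebraMap R _ (α x); algebraMap R _ (β x), -ι Q₁ (π x)] := by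
  rw [Φ, CliffordAlgebra.lift_ι_apply]; rfl

end M2

end Groth.Agent.Lib.Helper15.Cl
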