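import Mathlib
import Groth.Agent.Lib.Helper15.ClFree
import Groth.Agent.Lib.Helper15.ClM2

/-! Base change of Clifford algebras along a semilinear "isometry" `g : M → M'` whose image spans. -/

set_option autoImplicit false
set_option linter.style.haveILetI false

namespace Groth.Agent.Lib.Helper15.Cl

open CliffordAlgebra TensorProduct

universe u v w w'

section BC
variable {R : Type u} [CommRing R] {M : Type v} [AddCommGroup M] [Module R M]
variable {R' : Type w} [CommRing R'] [Algebra R R'] {M' : Type w'} [AddCommGroup M'] [Module R' M']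
  [Module R M'] [IsScalarTower R R' M']
variable (Q : QuadraticForm R M) (Q' : QuadraticForm R' M') (g : M →ₗ[R] M')
  (hg : ∀ m, Q' (g m) = algebraMap R R' (Q m))

/-- the semilinear map of Clifford algebras -/
noncomputable def jj : CliffordAlgebra Q →ₐ[R] CliffordAlgebra Q' :=
  CliffordAlgebra.lift Q ⟨(ι Q').restrictScalars R ∘ₗ g, fun v => by
    refine (CliffordAlgebra.ι_sq_scalar Q' (g v)).trans ?_
    rw [hg, ← IsScalarTower.algebraMap_apply]⟩

@[simp] lemma jj_ι (m : M) : jj Q Q' g hg (ι Q m) = ι Q' (g m) :=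
  CliffordAlgebra.lift_ι_apply _ _ m

/-- the comparison map -/
noncomputable def Ψ : R' ⊗[R] CliffordAlgebra Q →ₐ[R'] CliffordAlgebra Q' :=
  Algebra.TensorProduct.lift (Algebra.ofId _ _) (jj Q Q' g hg) (fun _ _ => Algebra.commutes _ _)

lemma Ψ_tmul (a : R') (x : CliffordAlgebra Q) : Ψ Q Q' g hg (a ⊗ₜ x) = a • jj Q Q' g hg x := by
  change algebraMap _ _ a * jj Q Q' g hg x = _
  rw [Algebra.smul_def]

theorem Ψ_surjective (hspan : Submodule.span R' (Set.range g) = ⊤) :
    Function.Surjective (Ψ Q Q' g hg) := by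
  rw [← AlgHom.range_eq_top, eq_top_iff, ← CliffordAlgebra.adjoin_range_ι, Algebra.adjoin_le_iff]
  rintro _ ⟨v, rfl⟩
  have hv : v ∈ Submodule.span R' (Set.range g) := by rw [hspan]; trivial
  induction hv using Submodule.span_induction with
  | mem x hx =>
    obtain ⟨m, rfl⟩ := hx
    refine ⟨1 ⊗ₜ ι Q m, ?_⟩
    change Ψ Q Q' g hg (1 ⊗ₜ ι Q m) = _
    rw [Ψ_tmul, jj_ι, one_smul]
  | zero => rw [map_zero]; exact Subalgebra.zero_mem _
  | add x y _ _ hx hy => rw [map_add]; exact Subalgebra.add_mem _ hx hy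
  | smul a x _ hx => rw [map_smul]; exact Subalgebra.smul_mem _ hx a

theorem Ψ_bijective {n : ℕ} (b : Module.Basis (Fin n) R M) (b' : Module.Basis (Fin n) R' M')
    (hspan : Submodule.span R' (Set.range g) = ⊤) :
    Function.Bijective (Ψ Q Q' g hg) :=
  bijective_of_surjective_of_bases ((basisC Q b).baseChange R') (basisC Q' b') (Equiv.refl _)
    (Ψ Q Q' g hg).toLinearMap (Ψ_surjective Q Q' g hg hspan)

theorem jj_mem_evenOdd (k : ZMod 2) (x : CliffordAlgebra Q) (hx : x ∈ evenOdd Q k) :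
    jj Q Q' g hg x ∈ evenOdd Q' k := by
  have := map_mem_graded Q (fun k => (evenOdd Q' k).restrictScalars R)
    (SetLike.one_mem_graded (evenOdd Q'))
    (fun i j a b ha hb => SetLike.mul_mem_graded (A := evenOdd Q') ha hb)
    (jj Q Q' g hg) (fun m => by
      rw [jj_ι]
      exact ι_mem_evenOdd_one Q' _) k x hx
  exact this

theorem jj_star (x : CliffordAlgebra Q) : jj Q Q' g hg (star x) = star (jj Q Q' g hg x) := by
  induction x using CliffordAlgebra.induction with
  | algebraMap r =>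
    rw [star_algebraMap, AlgHom.commutes, IsScalarTower.algebraMap_apply R R' (CliffordAlgebra Q'),
      star_algebraMap]
  | ι m => rw [star_ι, map_neg, jj_ι, star_ι]
  | mul a b ha hb => rw [star_mul, map_mul, map_mul, ha, hb, star_mul]
  | add a b ha hb => rw [star_add, map_add, map_add, ha, hb, star_add]

theorem jj_injective [Module.FaithfullyFlat R R'] {n : ℕ} (b : Module.Basis (Fin n) R M)
    (b' : Module.Basis (Fin n) R' M') (hspan : Submodule.span R' (Set.range g) = ⊤) :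
    Function.Injective (jj Q Q' g hg) := by
  intro x y hxy
  have h1 : Ψ Q Q' g hg (1 ⊗ₜ x) = Ψ Q Q' g hg (1 ⊗ₜ y) := by
    rw [Ψ_tmul, Ψ_tmul, hxy]
  have h2 := (Ψ_bijective Q Q' g hg b b' hspan).1 h1
  exact Module.FaithfullyFlat.tensorProduct_mk_injective (A := R) (B := R') (CliffordAlgebra Q) h2

/-- the comparison map on even parts, into the whole algebra -/
noncomputable def Ψ0 : R' ⊗[R] ↥(even Q) →ₐ[R'] CliffordAlgebra Q' :=
  (Ψ Q Q' g hg).comp (Algebra.TensorProduct.map (AlgHom.id R' R') (even Q).val)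

lemma Ψ0_tmul (a : R') (x : ↥(even Q)) : Ψ0 Q Q' g hg (a ⊗ₜ x) = a • jj Q Q' g hg x.1 := by
  change Ψ Q Q' g hg (Algebra.TensorProduct.map (AlgHom.id R' R') (even Q).val (a ⊗ₜ x)) = _
  rw [Algebra.TensorProduct.map_tmul, Ψ_tmul]
  rfl

lemma Ψ0_mem (t : R' ⊗[R] ↥(even Q)) : Ψ0 Q Q' g hg t ∈ even Q' := by
  induction t using TensorProduct.induction_on with
  | zero => rw [map_zero]; exact Subalgebra.zero_mem _
  | tmul a x =>
    rw [Ψ0_tmul]
    refine Subalgebra.smul_mem _ ?_ a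
    have hx : x.1 ∈ evenOdd Q 0 := by
      have := x.2
      rwa [← SetLike.mem_coe, ← Subalgebra.coe_toSubmodule, even_toSubmodule] at this
    have := jj_mem_evenOdd Q Q' g hg 0 x.1 hx
    rwa [← SetLike.mem_coe, ← Subalgebra.coe_toSubmodule, even_toSubmodule]
  | add x y hx hy => rw [map_add]; exact Subalgebra.add_mem _ hx hy

/-- the comparison map on even parts -/
noncomputable def ΨEv : R' ⊗[R] ↥(even Q) →ₐ[R'] ↥(even Q') :=
  (Ψ0 Q Q' g hg).codRestrict (even Q') (Ψ0_mem Q Q' g hg)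

lemma ΨEv_coe (t : R' ⊗[R] ↥(even Q)) : (ΨEv Q Q' g hg t : CliffordAlgebra Q') = Ψ0 Q Q' g hg t := rfl

lemma Ψ_decomp (t : R' ⊗[R] CliffordAlgebra Q) :
    ∃ t₀ : R' ⊗[R] ↥(even Q), ∃ y₁ ∈ evenOdd Q' 1, Ψ Q Q' g hg t = Ψ0 Q Q' g hg t₀ + y₁ := by
  induction t using TensorProduct.induction_on with
  | zero => exact ⟨0, 0, Submodule.zero_mem _, by simp⟩
  | tmul a x =>
    obtain ⟨x₀, h₀, x₁, h₁, rfl⟩ := exists_decomp Q x
    have h₀' : x₀ ∈ even Q := by
      rwa [← SetLike.mem_coe, ← Subalgebra.coe_toSubmodule, even_toSubmodule]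
    refine ⟨a ⊗ₜ ⟨x₀, h₀'⟩, a • jj Q Q' g hg x₁,
      Submodule.smul_mem _ _ (jj_mem_evenOdd Q Q' g hg 1 x₁ h₁), ?_⟩
    rw [Ψ_tmul, Ψ0_tmul, map_add, smul_add]
  | add x y hx hy =>
    obtain ⟨t₀, y₁, hy₁, e⟩ := hx
    obtain ⟨t₀', y₁', hy₁', e'⟩ := hy
    refine ⟨t₀ + t₀', y₁ + y₁', Submodule.add_mem _ hy₁ hy₁', ?_⟩
    rw [map_add, e, e', map_add]; abel

theorem ΨEv_bijective [Module.Flat R R'] {n : ℕ} (b : Module.Basis (Fin n) R M)
    (b' : Module.Basis (Fin n) R' M') (hspan : Submodule.span R' (Set.range g) = ⊤) :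
    Function.Bijective (ΨEv Q Q' g hg) := by
  have hb := Ψ_bijective Q Q' g hg b b' hspan
  constructor
  · intro s t hst
    have h1 : Ψ0 Q Q' g hg s = Ψ0 Q Q' g hg t := by
      rw [← ΨEv_coe, ← ΨEv_coe, hst]
    have h2 := hb.1 h1
    have h3 : Function.Injective
        (Algebra.TensorProduct.map (AlgHom.id R' R') (even Q).val) := by
      have := Module.Flat.lTensor_preserves_injective_linearMap (M := R')
        ((even Q).val.toLinearMap) Subtype.val_injective
      intro s t hst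
      apply this
      exact hst
    exact h3 h2
  · intro y
    obtain ⟨t, ht⟩ := hb.2 y.1
    obtain ⟨t₀, y₁, hy₁, e⟩ := Ψ_decomp Q Q' g hg t
    refine ⟨t₀, Subtype.ext ?_⟩
    rw [ΨEv_coe]
    have hy0 : y.1 ∈ evenOdd Q' 0 := by
      have := y.2
      rwa [← SetLike.mem_coe, ← Subalgebra.coe_toSubmodule, even_toSubmodule] at this
    have h0 : Ψ0 Q Q' g hg t₀ ∈ evenOdd Q' 0 := by
      have := Ψ0_mem Q Q' g hg t₀
      rwa [← SetLike.mem_coe, ← Subalgebra.coe_toSubmodule, even_toSubmodule] at this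
    have hz : y₁ = 0 := by
      apply eq_zero_of_mem_both Q' y₁ _ hy₁
      have : y₁ = y.1 - Ψ0 Q Q' g hg t₀ := by rw [← ht, e]; abel
      rw [this]
      exact Submodule.sub_mem _ hy0 h0
    rw [← ht, e, hz, add_zero]

end BC

end Groth.Agent.Lib.Helper15.Cl
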