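import Mathlib
import Groth.Agent.Lib.Helper15.ClM2

/-! `C(Q₁ ⊥ H) ≃ M₂(C(Q₁))`: grading, surjectivity, bijectivity. -/

set_option autoImplicit false
set_option linter.style.haveILetI false

namespace Groth.Agent.Lib.Helper15.Cl

open CliffordAlgebra Matrix

universe u v w

section Gr
variable {R : Type u} [CommRing R] {M₁ : Type w} [AddCommGroup M₁] [Module R M₁]
  (Q₁ : QuadraticForm R M₁)

/-- parity of an index -/
def par (i : Fin 2) : ZMod 2 := (i.val : ZMod 2)

@[simp] lemma par_zero : par 0 = 0 := rfl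
@[simp] lemma par_one : par 1 = 1 := rfl

lemma par_add_self (i : Fin 2) : par i + par i = 0 := by
  fin_cases i <;> rfl

/-- the checkerboard grading on `M₂(C(Q₁))` -/
def Gr (k : ZMod 2) : Submodule R (Matrix (Fin 2) (Fin 2) (CliffordAlgebra Q₁)) where
  carrier := {X | ∀ i j : Fin 2, X i j ∈ evenOdd Q₁ (k + par i + par j)}
  add_mem' := fun {X Y} hX hY i j => Submodule.add_mem _ (hX i j) (hY i j)
  zero_mem' := fun i j => Submodule.zero_mem _
  smul_mem' := fun c X hX i j => Submodule.smul_mem _ c (hX i j)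

lemma mem_Gr (k : ZMod 2) (X : Matrix (Fin 2) (Fin 2) (CliffordAlgebra Q₁)) :
    X ∈ Gr Q₁ k ↔ ∀ i j : Fin 2, X i j ∈ evenOdd Q₁ (k + par i + par j) := Iff.rfl

lemma one_mem_Gr : (1 : Matrix (Fin 2) (Fin 2) (CliffordAlgebra Q₁)) ∈ Gr Q₁ 0 := by
  intro i j
  by_cases h : i = j
  · subst h
    rw [Matrix.one_apply_eq, zero_add, par_add_self]
    exact SetLike.one_mem_graded _
  · rw [Matrix.one_apply_ne h]
    exact Submodule.zero_mem _

lemma mul_mem_Gr {k l : ZMod 2} {X Y : Matrix (Fin 2) (Fin 2) (CliffordAlgebra Q₁)}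
    (hX : X ∈ Gr Q₁ k) (hY : Y ∈ Gr Q₁ l) : X * Y ∈ Gr Q₁ (k + l) := by
  intro i j
  rw [Matrix.mul_apply]
  refine Submodule.sum_mem _ fun t _ => ?_
  have := SetLike.mul_mem_graded (hX i t) (hY t j)
  have e : k + par i + par t + (l + par t + par j) = k + l + par i + par j := by
    have := par_add_self t
    linear_combination this
  rwa [e] at this

lemma Gr_disjoint (X : Matrix (Fin 2) (Fin 2) (CliffordAlgebra Q₁)) (h0 : X ∈ Gr Q₁ 0)
    (h1 : X ∈ Gr Q₁ 1) : X = 0 := by
  ext i j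
  have a := h0 i j
  have b := h1 i j
  rcases zmod2_cases (par i + par j) with h | h
  · rw [add_assoc, h, add_zero] at a b
    exact eq_zero_of_mem_both Q₁ _ a b
  · rw [add_assoc, h] at a b
    rw [show (1 : ZMod 2) + 1 = 0 from rfl] at b
    rw [zero_add] at a
    exact eq_zero_of_mem_both Q₁ _ b a

lemma scalar_mem_Gr_iff (c : CliffordAlgebra Q₁) (k : ZMod 2) :
    Matrix.scalar (Fin 2) c ∈ Gr Q₁ k ↔ c ∈ evenOdd Q₁ k := by
  constructor
  · intro h
    have := h 0 0
    simpa using this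
  · intro h i j
    by_cases hij : i = j
    · subst hij
      rw [Matrix.scalar_apply, Matrix.diagonal_apply_eq, add_assoc, par_add_self, add_zero]
      exact h
    · rw [Matrix.scalar_apply, Matrix.diagonal_apply_ne _ hij]
      exact Submodule.zero_mem _

end Gr

section Phi
variable {R : Type u} [CommRing R] {M : Type v} {M₁ : Type w} [AddCommGroup M] [Module R M]
  [AddCommGroup M₁] [Module R M₁]
  {Q : QuadraticForm R M} {Q₁ : QuadraticForm R M₁} {π : M →ₗ[R] M₁} {α β : M →ₗ[R] R}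
  (hQ : ∀ x, Q x = Q₁ (π x) + α x * β x)

include hQ in
theorem Φ_mem_Gr (k : ZMod 2) (x : CliffordAlgebra Q) (hx : x ∈ evenOdd Q k) :
    Φ hQ x ∈ Gr Q₁ k := by
  refine map_mem_graded Q (Gr Q₁) (one_mem_Gr Q₁) (fun i j a b ha hb => mul_mem_Gr Q₁ ha hb)
    (Φ hQ) (fun m => ?_) k x hx
  rw [Φ_ι]
  intro i j
  fin_cases i <;> fin_cases j
  · simpa using ι_mem_evenOdd_one Q₁ (π m)
  · simp only [Fin.zero_eta, Fin.mk_one, par_zero, par_one, add_zero]
    rw [show (1 : ZMod 2) + 1 = 0 from rfl]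
    exact SetLike.algebraMap_mem_graded _ _
  · simp only [Fin.zero_eta, Fin.mk_one, par_zero, par_one, add_zero]
    rw [show (1 : ZMod 2) + 1 = 0 from rfl]
    exact SetLike.algebraMap_mem_graded _ _
  · simp only [Fin.mk_one, par_one]
    rw [show (1 : ZMod 2) + 1 + 1 = 1 from rfl]
    exact Submodule.neg_mem _ (ι_mem_evenOdd_one Q₁ (π m))

include hQ in
theorem Φ_surjective (he : ∃ e : M, π e = 0 ∧ α e = 1 ∧ β e = 0)
    (hf : ∃ f : M, π f = 0 ∧ α f = 0 ∧ β f = 1)
    (hπ : ∀ m₁ : M₁, ∃ x : M, π x = m₁ ∧ α x = 0 ∧ β x = 0) :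
    Function.Surjective (Φ hQ) := by
  obtain ⟨e, e1, e2, e3⟩ := he
  obtain ⟨f, f1, f2, f3⟩ := hf
  let S := (Φ hQ).range
  have hE12 : (Matrix.single 0 1 1 : Matrix (Fin 2) (Fin 2) (CliffordAlgebra Q₁)) ∈ S := by
    refine ⟨ι Q e, ?_⟩
    change Φ hQ (ι Q e) = _
    rw [Φ_ι, e1, e2, e3]
    ext i j; fin_cases i <;> fin_cases j <;> simp [Matrix.single_apply]
  have hE21 : (Matrix.single 1 0 1 : Matrix (Fin 2) (Fin 2) (CliffordAlgebra Q₁)) ∈ S := by
    refine ⟨ι Q f, ?_⟩
    change Φ hQ (ι Q f) = _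
    rw [Φ_ι, f1, f2, f3]
    ext i j; fin_cases i <;> fin_cases j <;> simp [Matrix.single_apply]
  have hE11 : (Matrix.single 0 0 1 : Matrix (Fin 2) (Fin 2) (CliffordAlgebra Q₁)) ∈ S := by
    have := S.mul_mem hE12 hE21
    rwa [Matrix.single_mul_single_same, mul_one] at this
  have hE22 : (Matrix.single 1 1 1 : Matrix (Fin 2) (Fin 2) (CliffordAlgebra Q₁)) ∈ S := by
    have := S.mul_mem hE21 hE12
    rwa [Matrix.single_mul_single_same, mul_one] at this
  have hE : ∀ i j : Fin 2, (Matrix.single i j 1 : Matrix (Fin 2) (Fin 2) (CliffordAlgebra Q₁)) ∈ S := by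
    intro i j
    fin_cases i <;> fin_cases j
    · exact hE11
    · exact hE12
    · exact hE21
    · exact hE22
  have hsc : ∀ c : CliffordAlgebra Q₁, Matrix.scalar (Fin 2) c ∈ S := by
    intro c
    induction c using CliffordAlgebra.induction with
    | algebraMap r =>
      have : Matrix.scalar (Fin 2) (algebraMap R (CliffordAlgebra Q₁) r) =
          algebraMap R (Matrix (Fin 2) (Fin 2) (CliffordAlgebra Q₁)) r := by
        ext i j; simp [Matrix.algebraMap_matrix_apply, Matrix.diagonal_apply]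
      rw [this]; exact S.algebraMap_mem r
    | ι m₁ =>
      obtain ⟨x, x1, x2, x3⟩ := hπ m₁
      have h1 : Φ hQ (ι Q x) ∈ S := ⟨_, rfl⟩
      have h2 := S.mul_mem h1 (S.sub_mem hE11 hE22)
      have : Φ hQ (ι Q x) * (Matrix.single 0 0 1 - Matrix.single 1 1 1) =
          Matrix.scalar (Fin 2) (ι Q₁ m₁) := by
        rw [Φ_ι, x1, x2, x3]
        ext i j; fin_cases i <;> fin_cases j <;>
          simp [Matrix.mul_apply, Fin.sum_univ_two, Matrix.single_apply, Matrix.diagonal_apply]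
      rwa [this] at h2
    | mul a b ha hb => rw [map_mul]; exact S.mul_mem ha hb
    | add a b ha hb => rw [map_add]; exact S.add_mem ha hb
  intro X
  change X ∈ S
  rw [Matrix.matrix_eq_sum_single X]
  refine S.sum_mem fun i _ => S.sum_mem fun j _ => ?_
  have : Matrix.single i j (X i j) = Matrix.scalar (Fin 2) (X i j) * Matrix.single i j 1 := by
    ext a b
    simp [Matrix.single_apply, Matrix.diagonal_mul]
  rw [this]
  exact S.mul_mem (hsc _) (hE i j)

end Phi

end Groth.Agent.Lib.Helper15.Cl
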