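import Mathlib

/-! Quadratic forms given by (not necessarily symmetric) matrices: `qf W x = xᵀ W x`. -/

set_option autoImplicit false
set_option linter.style.haveILetI false

namespace Groth.Agent.Lib.Helper15.QSplit

open Matrix

universe u v

section Basic
variable {T : Type u} [CommRing T] {ι : Type v} [Fintype ι] [DecidableEq ι]

/-- the bilinear lift -/
def bl (W : Matrix ι ι T) (x y : ι → T) : T := x ⬝ᵥ W *ᵥ y

/-- the quadratic form -/
def qf (W : Matrix ι ι T) (x : ι → T) : T := bl W x x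

/-- the polar form -/
def bf (W : Matrix ι ι T) (x y : ι → T) : T := bl W x y + bl W y x

lemma bl_add_left (W : Matrix ι ι T) (x x' y : ι → T) : bl W (x + x') y = bl W x y + bl W x' y := by
  simp [bl, add_dotProduct]

lemma bl_add_right (W : Matrix ι ι T) (x y y' : ι → T) : bl W x (y + y') = bl W x y + bl W x y' := by
  simp [bl, Matrix.mulVec_add, dotProduct_add]

lemma bl_smul_left (W : Matrix ι ι T) (c : T) (x y : ι → T) : bl W (c • x) y = c * bl W x y := by
  simp [bl, smul_dotProduct]

lemma bl_smul_right (W : Matrix ι ι T) (c : T) (x y : ι → T) : bl W x (c • y) = c * bl W x y := by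
  simp [bl, Matrix.mulVec_smul, dotProduct_smul]

lemma bl_sub_left (W : Matrix ι ι T) (x x' y : ι → T) : bl W (x - x') y = bl W x y - bl W x' y := by
  simp [bl, sub_dotProduct]

lemma bl_sub_right (W : Matrix ι ι T) (x y y' : ι → T) : bl W x (y - y') = bl W x y - bl W x y' := by
  simp [bl, Matrix.mulVec_sub, dotProduct_sub]

lemma bl_zero_left (W : Matrix ι ι T) (y : ι → T) : bl W 0 y = 0 := by simp [bl]
lemma bl_zero_right (W : Matrix ι ι T) (x : ι → T) : bl W x 0 = 0 := by simp [bl]

lemma bl_single (W : Matrix ι ι T) (i j : ι) : bl W (Pi.single i 1) (Pi.single j 1) = W i j := by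
  simp [bl]

lemma bl_conj (W G : Matrix ι ι T) (x y : ι → T) :
    bl (Gᵀ * W * G) x y = bl W (G *ᵥ x) (G *ᵥ y) := by
  unfold bl
  rw [← Matrix.mulVec_mulVec, ← Matrix.mulVec_mulVec, Matrix.dotProduct_mulVec x Gᵀ,
    Matrix.vecMul_transpose]

lemma bl_map {T' : Type*} [CommRing T'] (φ : T →+* T') (W : Matrix ι ι T) (x y : ι → T) :
    bl (W.map φ) (φ ∘ x) (φ ∘ y) = φ (bl W x y) := by
  unfold bl
  rw [RingHom.map_dotProduct]
  congr 1
  funext i
  exact (RingHom.map_mulVec φ W y i).symm

lemma qf_add (W : Matrix ι ι T) (x y : ι → T) : qf W (x + y) = qf W x + qf W y + bf W x y := by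
  unfold qf bf
  rw [bl_add_left, bl_add_right, bl_add_right]; ring

lemma qf_smul (W : Matrix ι ι T) (c : T) (x : ι → T) : qf W (c • x) = c * c * qf W x := by
  unfold qf
  rw [bl_smul_left, bl_smul_right]; ring

lemma qf_zero (W : Matrix ι ι T) : qf W 0 = 0 := bl_zero_left W 0

lemma bf_comm (W : Matrix ι ι T) (x y : ι → T) : bf W x y = bf W y x := by
  unfold bf; ring

lemma bf_self (W : Matrix ι ι T) (x : ι → T) : bf W x x = 2 * qf W x := by
  unfold bf qf; ring

lemma bf_add_left (W : Matrix ι ι T) (x x' y : ι → T) : bf W (x + x') y = bf W x y + bf W x' y := by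
  unfold bf; rw [bl_add_left, bl_add_right]; ring

lemma bf_add_right (W : Matrix ι ι T) (x y y' : ι → T) : bf W x (y + y') = bf W x y + bf W x y' := by
  unfold bf; rw [bl_add_left, bl_add_right]; ring

lemma bf_sub_left (W : Matrix ι ι T) (x x' y : ι → T) : bf W (x - x') y = bf W x y - bf W x' y := by
  unfold bf; rw [bl_sub_left, bl_sub_right]; ring

lemma bf_sub_right (W : Matrix ι ι T) (x y y' : ι → T) : bf W x (y - y') = bf W x y - bf W x y' := by
  unfold bf; rw [bl_sub_left, bl_sub_right]; ring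

lemma bf_smul_left (W : Matrix ι ι T) (c : T) (x y : ι → T) : bf W (c • x) y = c * bf W x y := by
  unfold bf; rw [bl_smul_left, bl_smul_right]; ring

lemma bf_smul_right (W : Matrix ι ι T) (c : T) (x y : ι → T) : bf W x (c • y) = c * bf W x y := by
  unfold bf; rw [bl_smul_left, bl_smul_right]; ring

lemma bf_zero_left (W : Matrix ι ι T) (y : ι → T) : bf W 0 y = 0 := by
  unfold bf; rw [bl_zero_left, bl_zero_right]; ring

lemma bf_zero_right (W : Matrix ι ι T) (x : ι → T) : bf W x 0 = 0 := by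
  unfold bf; rw [bl_zero_left, bl_zero_right]; ring

lemma qf_sub (W : Matrix ι ι T) (x y : ι → T) : qf W (x - y) = qf W x + qf W y - bf W x y := by
  unfold qf bf
  rw [bl_sub_left, bl_sub_right, bl_sub_right]; ring

lemma qf_single (W : Matrix ι ι T) (i : ι) : qf W (Pi.single i 1) = W i i := bl_single W i i

lemma bf_single (W : Matrix ι ι T) (i j : ι) :
    bf W (Pi.single i 1) (Pi.single j 1) = W i j + W j i := by
  unfold bf; rw [bl_single, bl_single]

lemma qf_conj (W G : Matrix ι ι T) (x : ι → T) : qf (Gᵀ * W * G) x = qf W (G *ᵥ x) :=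
  bl_conj W G x x

lemma bf_conj (W G : Matrix ι ι T) (x y : ι → T) :
    bf (Gᵀ * W * G) x y = bf W (G *ᵥ x) (G *ᵥ y) := by
  unfold bf; rw [bl_conj, bl_conj]

lemma qf_map {T' : Type*} [CommRing T'] (φ : T →+* T') (W : Matrix ι ι T) (x : ι → T) :
    qf (W.map φ) (φ ∘ x) = φ (qf W x) := bl_map φ W x x

lemma bf_map {T' : Type*} [CommRing T'] (φ : T →+* T') (W : Matrix ι ι T) (x y : ι → T) :
    bf (W.map φ) (φ ∘ x) (φ ∘ y) = φ (bf W x y) := by
  unfold bf; rw [bl_map, bl_map, map_add]

/-- the "discriminant" of the pair `(x, y)` -/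
def dd (W : Matrix ι ι T) (x y : ι → T) : T := bf W x y * bf W x y - 4 * qf W x * qf W y

lemma dd_comm (W : Matrix ι ι T) (x y : ι → T) : dd W x y = dd W y x := by
  unfold dd; rw [bf_comm W x y]; ring

lemma dd_add_left (W : Matrix ι ι T) (x y : ι → T) : dd W (x + y) y = dd W x y := by
  unfold dd
  rw [bf_add_left, qf_add, bf_self]; ring

lemma dd_map {T' : Type*} [CommRing T'] (φ : T →+* T') (W : Matrix ι ι T) (x y : ι → T) :
    dd (W.map φ) (φ ∘ x) (φ ∘ y) = φ (dd W x y) := by
  unfold dd; rw [bf_map, qf_map, qf_map]; simp [map_ofNat]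

/-- sum of an alternating matrix against `x xᵀ` vanishes -/
lemma alt_sum_eq_zero (A : Matrix ι ι T) (hd : ∀ i, A i i = 0) (hs : ∀ i j, A i j + A j i = 0)
    (x : ι → T) (s : Finset ι) : ∑ i ∈ s, ∑ j ∈ s, x i * A i j * x j = 0 := by
  classical
  induction s using Finset.induction_on with
  | empty => simp
  | insert a s ha ih =>
    rw [Finset.sum_insert ha, Finset.sum_insert ha]
    have h1 : ∑ i ∈ s, ∑ j ∈ insert a s, x i * A i j * x j =
        ∑ i ∈ s, x i * A i a * x a + ∑ i ∈ s, ∑ j ∈ s, x i * A i j * x j := by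
      rw [← Finset.sum_add_distrib]
      refine Finset.sum_congr rfl fun i _ => ?_
      rw [Finset.sum_insert ha]
    rw [h1, ih, hd a, add_zero, mul_zero, zero_mul, zero_add, ← Finset.sum_add_distrib]
    refine Finset.sum_eq_zero fun i _ => ?_
    have := hs a i
    linear_combination (x a * x i) * this

/-- same quadratic form -/
def QEq (W W' : Matrix ι ι T) : Prop :=
  (∀ i, W i i = W' i i) ∧ ∀ i j, W i j + W j i = W' i j + W' j i

lemma QEq.refl (W : Matrix ι ι T) : QEq W W := ⟨fun _ => rfl, fun _ _ => rfl⟩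

lemma QEq.symm {W W' : Matrix ι ι T} (h : QEq W W') : QEq W' W :=
  ⟨fun i => (h.1 i).symm, fun i j => (h.2 i j).symm⟩

lemma QEq.trans {W W' W'' : Matrix ι ι T} (h : QEq W W') (h' : QEq W' W'') : QEq W W'' :=
  ⟨fun i => (h.1 i).trans (h'.1 i), fun i j => (h.2 i j).trans (h'.2 i j)⟩

lemma QEq.qf_eq {W W' : Matrix ι ι T} (h : QEq W W') (x : ι → T) : qf W x = qf W' x := by
  have key := alt_sum_eq_zero (W - W') (fun i => by simp [h.1 i])
    (fun i j => by simp only [Matrix.sub_apply]; linear_combination h.2 i j) x Finset.univ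
  have e : ∀ V : Matrix ι ι T, qf V x = ∑ i, ∑ j, x i * V i j * x j := by
    intro V
    unfold qf bl
    simp only [dotProduct, Matrix.mulVec, Finset.mul_sum]
    refine Finset.sum_congr rfl fun i _ => Finset.sum_congr rfl fun j _ => ?_
    ring
  rw [e W, e W', ← sub_eq_zero, ← Finset.sum_sub_distrib]
  rw [← key]
  refine Finset.sum_congr rfl fun i _ => ?_
  rw [← Finset.sum_sub_distrib]
  refine Finset.sum_congr rfl fun j _ => ?_
  simp only [Matrix.sub_apply]; ring

lemma QEq.bf_eq {W W' : Matrix ι ι T} (h : QEq W W') (x y : ι → T) : bf W x y = bf W' x y := by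
  have e : ∀ V : Matrix ι ι T, bf V x y = ∑ i, ∑ j, x i * (V i j + V j i) * y j := by
    intro V
    unfold bf bl
    simp only [dotProduct, Matrix.mulVec, Finset.mul_sum]
    rw [Finset.sum_comm (f := fun i j => y i * (V i j * x j)), ← Finset.sum_add_distrib]
    refine Finset.sum_congr rfl fun i _ => ?_
    rw [← Finset.sum_add_distrib]
    refine Finset.sum_congr rfl fun j _ => ?_
    ring
  rw [e W, e W']
  refine Finset.sum_congr rfl fun i _ => Finset.sum_congr rfl fun j _ => ?_
  rw [h.2 i j]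

lemma QEq_of_forall {W W' : Matrix ι ι T} (h : ∀ x, qf W x = qf W' x) : QEq W W' := by
  refine ⟨fun i => ?_, fun i j => ?_⟩
  · have := h (Pi.single i 1)
    rwa [qf_single, qf_single] at this
  · have h1 := h (Pi.single i 1 + Pi.single j 1)
    rw [qf_add, qf_add, h (Pi.single i 1), h (Pi.single j 1), bf_single, bf_single] at h1
    exact add_left_cancel h1

lemma QEq.conj {W W' : Matrix ι ι T} (h : QEq W W') (G : Matrix ι ι T) :
    QEq (Gᵀ * W * G) (Gᵀ * W' * G) := by
  apply QEq_of_forall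
  intro x
  rw [qf_conj, qf_conj, h.qf_eq]

lemma QEq.map {T' : Type*} [CommRing T'] {W W' : Matrix ι ι T} (h : QEq W W') (φ : T →+* T') :
    QEq (W.map φ) (W'.map φ) := by
  refine ⟨fun i => ?_, fun i j => ?_⟩
  · simp only [Matrix.map_apply]; rw [h.1 i]
  · simp only [Matrix.map_apply]; rw [← map_add, ← map_add, h.2 i j]

end Basic

end Groth.Agent.Lib.Helper15.QSplit
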