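import Mathlib
import Groth.Agent.Lib.Helper15.QSplit1
import Groth.Agent.Lib.Helper2.HalfDisc
import Groth.Agent.Lib.Helper2.HalfDiscField

/-! Block sums with a hyperbolic plane; the standard split matrices; half-discriminants. -/

set_option autoImplicit false
set_option linter.style.haveILetI false

namespace Groth.Agent.Lib.Helper15.QSplit

open Matrix MvPolynomial
open Groth.Agent.Lib.Helper2.HalfDisc

universe u v

section Blocks
variable {T : Type u} [CommRing T]

/-- the hyperbolic plane `x₀ x₁` -/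
def Hmat (T : Type u) [CommRing T] : Matrix (Fin 2) (Fin 2) T := !![0, 1; 0, 0]

/-- `W ⊥ H` on a sum type -/
def bsumS {κ : Type v} (W : Matrix κ κ T) : Matrix (κ ⊕ Fin 2) (κ ⊕ Fin 2) T :=
  Matrix.fromBlocks W 0 0 (Hmat T)

/-- `G ⊕ 1` on a sum type -/
def gsumS {κ : Type v} (G : Matrix κ κ T) : Matrix (κ ⊕ Fin 2) (κ ⊕ Fin 2) T :=
  Matrix.fromBlocks G 0 0 1

/-- `W ⊥ H` -/
def bsum {k : ℕ} (W : Matrix (Fin k) (Fin k) T) : Matrix (Fin (k + 2)) (Fin (k + 2)) T :=
  Matrix.reindex finSumFinEquiv finSumFinEquiv (bsumS W)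

/-- `G ⊕ 1` -/
def gsum {k : ℕ} (G : Matrix (Fin k) (Fin k) T) : Matrix (Fin (k + 2)) (Fin (k + 2)) T :=
  Matrix.reindex finSumFinEquiv finSumFinEquiv (gsumS G)

lemma Hmat_map {T' : Type*} [CommRing T'] (φ : T →+* T') : (Hmat T).map φ = Hmat T' := by
  ext i j; fin_cases i <;> fin_cases j <;> simp [Hmat]

lemma bsumS_map {κ : Type v} {T' : Type*} [CommRing T'] (φ : T →+* T') (W : Matrix κ κ T) :
    (bsumS W).map φ = bsumS (W.map φ) := by
  unfold bsumS
  rw [Matrix.fromBlocks_map, Hmat_map]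
  simp

lemma bsum_map {k : ℕ} {T' : Type*} [CommRing T'] (φ : T →+* T') (W : Matrix (Fin k) (Fin k) T) :
    (bsum W).map φ = bsum (W.map φ) := by
  unfold bsum
  rw [← bsumS_map]
  rfl

lemma gsumS_map {κ : Type v} [DecidableEq κ] {T' : Type*} [CommRing T'] (φ : T →+* T')
    (G : Matrix κ κ T) : (gsumS G).map φ = gsumS (G.map φ) := by
  unfold gsumS
  rw [Matrix.fromBlocks_map]
  simp

lemma gsum_map {k : ℕ} {T' : Type*} [CommRing T'] (φ : T →+* T') (G : Matrix (Fin k) (Fin k) T) :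
    (gsum G).map φ = gsum (G.map φ) := by
  unfold gsum
  rw [← gsumS_map]
  rfl

lemma gsumS_conj {κ : Type v} [Fintype κ] [DecidableEq κ] (W G : Matrix κ κ T) :
    (gsumS G)ᵀ * bsumS W * gsumS G = bsumS (Gᵀ * W * G) := by
  unfold gsumS bsumS
  rw [Matrix.fromBlocks_transpose, Matrix.fromBlocks_multiply, Matrix.fromBlocks_multiply]
  simp

lemma gsum_conj {k : ℕ} (W G : Matrix (Fin k) (Fin k) T) :
    (gsum G)ᵀ * bsum W * gsum G = bsum (Gᵀ * W * G) := by
  unfold gsum bsum
  rw [← gsumS_conj]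
  simp only [Matrix.reindex_apply, Matrix.transpose_submatrix, Matrix.submatrix_mul_equiv]

lemma det_gsum {k : ℕ} (G : Matrix (Fin k) (Fin k) T) : (gsum G).det = G.det := by
  unfold gsum gsumS
  rw [Matrix.det_reindex_self, Matrix.det_fromBlocks_zero₂₁]
  simp

lemma gsum_mul {k : ℕ} (G G' : Matrix (Fin k) (Fin k) T) : gsum (G * G') = gsum G * gsum G' := by
  unfold gsum gsumS
  simp only [Matrix.reindex_apply, Matrix.submatrix_mul_equiv, Matrix.fromBlocks_multiply]
  simp

lemma QEq.bsumS {κ : Type v} {W W' : Matrix κ κ T} (h : QEq W W') : QEq (bsumS W) (bsumS W') := by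
  refine ⟨fun i => ?_, fun i j => ?_⟩
  · rcases i with i | i
    · simpa [QSplit.bsumS] using h.1 i
    · simp [QSplit.bsumS]
  · rcases i with i | i <;> rcases j with j | j
    · simpa [QSplit.bsumS] using h.2 i j
    · simp [QSplit.bsumS]
    · simp [QSplit.bsumS]
    · simp [QSplit.bsumS]

lemma QEq.reindex {ι ι' : Type*} {W W' : Matrix ι ι T} (h : QEq W W') (e : ι ≃ ι') :
    QEq (Matrix.reindex e e W) (Matrix.reindex e e W') :=
  ⟨fun i => h.1 _, fun i j => h.2 _ _⟩

lemma QEq.bsum {k : ℕ} {W W' : Matrix (Fin k) (Fin k) T} (h : QEq W W') :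
    QEq (bsum W) (bsum W') := h.bsumS.reindex _

lemma polar_bsum {k : ℕ} (W : Matrix (Fin k) (Fin k) T) :
    bsum W + (bsum W)ᵀ =
      Matrix.reindex finSumFinEquiv finSumFinEquiv
        (Matrix.fromBlocks (W + Wᵀ) 0 0 (!![0, 1; 1, 0] : Matrix (Fin 2) (Fin 2) T)) := by
  unfold bsum bsumS
  ext i j
  simp only [Matrix.reindex_apply, Matrix.submatrix_apply, Matrix.add_apply, Matrix.transpose_apply]
  rcases finSumFinEquiv.symm i with a | a <;> rcases finSumFinEquiv.symm j with b | b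
  · simp
  · simp
  · simp
  · fin_cases a <;> fin_cases b <;> simp [Hmat]

lemma det_polar_bsum {k : ℕ} (W : Matrix (Fin k) (Fin k) T) :
    (bsum W + (bsum W)ᵀ).det = -(W + Wᵀ).det := by
  rw [polar_bsum, Matrix.det_reindex_self, Matrix.det_fromBlocks_zero₂₁, Matrix.det_fin_two_of]
  ring

theorem hd_bsum {k : ℕ} (hk : Odd k) (W : Matrix (Fin k) (Fin k) T) : hd (bsum W) = -hd W := by
  have hk2 : Odd (k + 2) := by
    obtain ⟨r, hr⟩ := hk
    exact ⟨r + 1, by omega⟩
  let R' := MvPolynomial (Fin k × Fin k) ℤ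
  let W' : Matrix (Fin k) (Fin k) R' := Matrix.of fun i j => X (i, j)
  have key : hd (bsum W') = -hd W' := by
    apply mul_left_cancel₀ (two_ne_zero : (2 : R') ≠ 0)
    rw [two_mul_hd hk2, det_polar_bsum, mul_neg, two_mul_hd hk]
  let φ : R' →+* T := eval₂Hom (Int.castRingHom T) (fun p => W p.1 p.2)
  have hW : φ.mapMatrix W' = W := by
    refine Matrix.ext fun i j => ?_
    simp only [φ, W', RingHom.mapMatrix_apply, Matrix.map_apply, of_apply]
    rw [eval₂Hom_X']
  have := congrArg φ key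
  rw [← hd_map, map_neg, ← hd_map, hW, RingHom.mapMatrix_apply, bsum_map,
    ← RingHom.mapMatrix_apply, hW] at this
  exact this

theorem hd_one (W : Matrix (Fin 1) (Fin 1) T) : hd W = W 0 0 := by
  let R' := MvPolynomial (Fin 1 × Fin 1) ℤ
  let W' : Matrix (Fin 1) (Fin 1) R' := Matrix.of fun i j => X (i, j)
  have key : hd W' = W' 0 0 := by
    apply mul_left_cancel₀ (two_ne_zero : (2 : R') ≠ 0)
    rw [two_mul_hd (by decide : Odd 1), Matrix.det_fin_one]
    simp [two_mul]
  let φ : R' →+* T := eval₂Hom (Int.castRingHom T) (fun p => W p.1 p.2)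
  have hW : φ.mapMatrix W' = W := by
    refine Matrix.ext fun i j => ?_
    simp only [φ, W', RingHom.mapMatrix_apply, Matrix.map_apply, of_apply]
    rw [eval₂Hom_X']
  have := congrArg φ key
  rw [← hd_map, hW] at this
  rw [this]
  simp only [φ, W', of_apply]
  rw [eval₂Hom_X']

lemma QEq.cf_eq {n : ℕ} {W W' : Matrix (Fin n) (Fin n) T} (h : QEq W W') : cf W = cf W' := by
  funext s
  induction s using Sym2.ind with
  | _ i j =>
    rw [cf_mk, cf_mk]
    split_ifs with hij
    · exact h.1 i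
    · exact h.2 i j

lemma QEq.hd_eq {n : ℕ} {W W' : Matrix (Fin n) (Fin n) T} (h : QEq W W') : hd W = hd W' :=
  hd_congr_cf W W' h.cf_eq

lemma QEq.det_eq {ι : Type*} [Fintype ι] [DecidableEq ι] {W W' : Matrix ι ι T} (h : QEq W W') :
    (W + Wᵀ).det = (W' + W'ᵀ).det := by
  congr 1
  ext i j
  exact h.2 i j

end Blocks

section Split
variable (T : Type u) [CommRing T]

/-- the standard split matrices -/
def Wsp : (n : ℕ) → Matrix (Fin n) (Fin n) T
  | 0 => 0
  | 1 => 1
  | (k + 2) => bsum (Wsp k)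

lemma Wsp_map {T' : Type*} [CommRing T'] (φ : T →+* T') (n : ℕ) : (Wsp T n).map φ = Wsp T' n := by
  induction n using Nat.twoStepInduction with
  | zero => ext i; exact i.elim0
  | one => ext i j; simp [Wsp, Matrix.one_apply]
  | more k ih _ => rw [Wsp, bsum_map, ih, Wsp]

end Split

section Reindex
variable {T : Type u} [CommRing T]

lemma bl_reindex {ι ι' : Type*} [Fintype ι] [Fintype ι'] (e : ι ≃ ι') (W : Matrix ι ι T)
    (x y : ι' → T) : bl (Matrix.reindex e e W) x y = bl W (x ∘ e) (y ∘ e) := by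
  unfold bl
  simp only [Matrix.reindex_apply, dotProduct, Matrix.mulVec, Matrix.submatrix_apply,
    Function.comp_apply]
  rw [← Equiv.sum_comp e]
  refine Finset.sum_congr rfl fun i _ => ?_
  congr 1
  rw [← Equiv.sum_comp e]
  simp

lemma qf_reindex {ι ι' : Type*} [Fintype ι] [Fintype ι'] (e : ι ≃ ι') (W : Matrix ι ι T)
    (x : ι' → T) : qf (Matrix.reindex e e W) x = qf W (x ∘ e) := bl_reindex e W x x

lemma qf_bsumS {κ : Type*} [Fintype κ] (W : Matrix κ κ T) (x : κ ⊕ Fin 2 → T) :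
    qf (bsumS W) x = qf W (x ∘ Sum.inl) + x (Sum.inr 0) * x (Sum.inr 1) := by
  unfold qf bl bsumS
  rw [Matrix.fromBlocks_mulVec]
  conv_lhs => rw [← Sum.elim_comp_inl_inr x]
  rw [sumElim_dotProduct_sumElim]
  simp [Hmat, dotProduct, Matrix.mulVec, Fin.sum_univ_two]

lemma qf_bsum {k : ℕ} (W : Matrix (Fin k) (Fin k) T) (x : Fin (k + 2) → T) :
    qf (bsum W) x = qf W (fun i => x (Fin.castAdd 2 i)) + x (Fin.natAdd k 0) * x (Fin.natAdd k 1) := by
  unfold bsum
  rw [qf_reindex, qf_bsumS]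
  rfl

end Reindex

end Groth.Agent.Lib.Helper15.QSplit
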