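import Mathlib
import Groth.Agent.Lib.Helper15.ClM2b
import Groth.Agent.Lib.Helper15.QSplit2

/-! `C(Q₁ ⊥ H) ≃ M₂(C(Q₁))` as an algebra equivalence; the concrete step for matrix forms. -/

set_option autoImplicit false
set_option linter.style.haveILetI false

namespace Groth.Agent.Lib.Helper15.Cl

open CliffordAlgebra Matrix
open Groth.Agent.Lib.Helper15.QSplit

universe u v w

section Bij
variable {R : Type u} [CommRing R] {M : Type v} {M₁ : Type w} [AddCommGroup M] [Module R M]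
  [AddCommGroup M₁] [Module R M₁]
  {Q : QuadraticForm R M} {Q₁ : QuadraticForm R M₁} {π : M →ₗ[R] M₁} {α β : M →ₗ[R] R}
  (hQ : ∀ x, Q x = Q₁ (π x) + α x * β x)

include hQ in
theorem Φ_bijective (he : ∃ e : M, π e = 0 ∧ α e = 1 ∧ β e = 0)
    (hf : ∃ f : M, π f = 0 ∧ α f = 0 ∧ β f = 1)
    (hπ : ∀ m₁ : M₁, ∃ x : M, π x = m₁ ∧ α x = 0 ∧ β x = 0)
    {k : ℕ} (b : Module.Basis (Fin (k + 2)) R M) (b₁ : Module.Basis (Fin k) R M₁) :
    Function.Bijective (Φ hQ) := by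
  have hcard : Fintype.card (Finset (Fin (k + 2))) =
      Fintype.card (Fin 2 × Fin 2 × Finset (Fin k)) := by
    simp [Fintype.card_finset, pow_succ]; ring
  exact bijective_of_surjective_of_bases (basisC Q b) ((basisC Q₁ b₁).matrix (Fin 2) (Fin 2))
    (Fintype.equivOfCardEq hcard) (Φ hQ).toLinearMap (Φ_surjective hQ he hf hπ)

include hQ in
theorem mem_evenOdd_of_Φ_mem (hinj : Function.Injective (Φ hQ)) (k : ZMod 2)
    (x : CliffordAlgebra Q) (hx : Φ hQ x ∈ Gr Q₁ k) : x ∈ evenOdd Q k :=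
  mem_evenOdd_of_map_mem Q (Gr Q₁) (Gr_disjoint Q₁) (Φ hQ) hinj (Φ_mem_Gr hQ) k x hx

end Bij

section Concrete
variable {R : Type u} [CommRing R]

/-- the quadratic form of a matrix -/
noncomputable def Qm {κ : Type*} [Fintype κ] [DecidableEq κ] (W : Matrix κ κ R) :
    QuadraticForm R (κ → R) :=
  LinearMap.BilinMap.toQuadraticMap (Matrix.toLinearMap₂' R W)

lemma Qm_apply {κ : Type*} [Fintype κ] [DecidableEq κ] (W : Matrix κ κ R) (x : κ → R) :
    Qm W x = qf W x := by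
  rw [Qm, LinearMap.BilinMap.toQuadraticMap_apply, Matrix.toLinearMap₂'_apply']
  rfl

variable {k : ℕ} (W : Matrix (Fin k) (Fin k) R)

/-- restriction to the first `k` coordinates -/
noncomputable def πk : (Fin (k + 2) → R) →ₗ[R] (Fin k → R) := LinearMap.funLeft R R (Fin.castAdd 2)

noncomputable def αk : (Fin (k + 2) → R) →ₗ[R] R := LinearMap.proj (Fin.natAdd k 0)
noncomputable def βk : (Fin (k + 2) → R) →ₗ[R] R := LinearMap.proj (Fin.natAdd k 1)

lemma hQ_bsum (x : Fin (k + 2) → R) :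
    Qm (bsum W) x = Qm W (πk x) + αk x * βk x := by
  rw [Qm_apply, Qm_apply, qf_bsum]; rfl

/-- a vector from its three components -/
def mkv (y : Fin k → R) (a b : R) : Fin (k + 2) → R :=
  Fin.addCases y ![a, b]

lemma πk_mkv (y : Fin k → R) (a b : R) : πk (mkv y a b) = y := by
  funext i
  simp [πk, mkv, LinearMap.funLeft_apply]

lemma αk_mkv (y : Fin k → R) (a b : R) : αk (mkv y a b) = a := by
  simp [αk, mkv]

lemma βk_mkv (y : Fin k → R) (a b : R) : βk (mkv y a b) = b := by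
  simp [βk, mkv]

/-- the algebra equivalence `C(W ⊥ H) ≃ M₂(C(W))` -/
noncomputable def ΦE : CliffordAlgebra (Qm (bsum W)) ≃ₐ[R]
    Matrix (Fin 2) (Fin 2) (CliffordAlgebra (Qm W)) :=
  AlgEquiv.ofBijective (Φ (hQ_bsum W))
    (Φ_bijective (hQ_bsum W) ⟨mkv 0 1 0, πk_mkv _ _ _, αk_mkv _ _ _, βk_mkv _ _ _⟩
      ⟨mkv 0 0 1, πk_mkv _ _ _, αk_mkv _ _ _, βk_mkv _ _ _⟩
      (fun y => ⟨mkv y 0 0, πk_mkv _ _ _, αk_mkv _ _ _, βk_mkv _ _ _⟩)
      (Pi.basisFun R (Fin (k + 2))) (Pi.basisFun R (Fin k)))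

lemma ΦE_apply (x : CliffordAlgebra (Qm (bsum W))) : ΦE W x = Φ (hQ_bsum W) x := rfl

theorem ΦE_mem_Gr_iff (j : ZMod 2) (x : CliffordAlgebra (Qm (bsum W))) :
    ΦE W x ∈ Gr (Qm W) j ↔ x ∈ evenOdd (Qm (bsum W)) j :=
  ⟨fun h => mem_evenOdd_of_Φ_mem (hQ_bsum W) (ΦE W).injective j x h,
    fun h => Φ_mem_Gr (hQ_bsum W) j x h⟩

end Concrete

end Groth.Agent.Lib.Helper15.Cl
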