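import Mathlib
import Groth.Agent.Lib.Helper15.ClM2c

/-! Centre and principal anti-involution through `C(W ⊥ H) ≃ M₂(C(W))`. -/

set_option autoImplicit false
set_option linter.style.haveILetI false

namespace Groth.Agent.Lib.Helper15.Cl

open CliffordAlgebra Matrix
open Groth.Agent.Lib.Helper15.QSplit

universe u v w

section AdjR
variable {R : Type u} [CommRing R] {M₁ : Type w} [AddCommGroup M₁] [Module R M₁]
  (Q₁ : QuadraticForm R M₁)

/-- the anti-automorphism of `M₂(C(Q₁))` corresponding to `star` -/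
noncomputable def adjR (X : Matrix (Fin 2) (Fin 2) (CliffordAlgebra Q₁)) :
    Matrix (Fin 2) (Fin 2) (CliffordAlgebra Q₁) :=
  !![reverse (X 1 1), -reverse (X 0 1); -reverse (X 1 0), reverse (X 0 0)]

lemma adjR_add (X Y : Matrix (Fin 2) (Fin 2) (CliffordAlgebra Q₁)) :
    adjR Q₁ (X + Y) = adjR Q₁ X + adjR Q₁ Y := by
  ext i j
  fin_cases i <;> fin_cases j <;> simp [adjR, add_comm]

lemma adjR_mul (X Y : Matrix (Fin 2) (Fin 2) (CliffordAlgebra Q₁)) :
    adjR Q₁ (X * Y) = adjR Q₁ Y * adjR Q₁ X := by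
  ext i j
  fin_cases i <;> fin_cases j <;>
    simp [adjR, Matrix.mul_apply, Fin.sum_univ_two, reverse.map_mul, add_comm]

lemma adjR_scalar (c : CliffordAlgebra Q₁) :
    adjR Q₁ (Matrix.scalar (Fin 2) c) = Matrix.scalar (Fin 2) (reverse c) := by
  ext i j
  fin_cases i <;> fin_cases j <;> simp [adjR, Matrix.diagonal_apply]

end AdjR

section PhiStar
variable {R : Type u} [CommRing R] {M : Type v} {M₁ : Type w} [AddCommGroup M] [Module R M]
  [AddCommGroup M₁] [Module R M₁]
  {Q : QuadraticForm R M} {Q₁ : QuadraticForm R M₁} {π : M →ₗ[R] M₁} {α β : M →ₗ[R] R}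
  (hQ : ∀ x, Q x = Q₁ (π x) + α x * β x)

include hQ in
theorem Φ_star (x : CliffordAlgebra Q) : Φ hQ (star x) = adjR Q₁ (Φ hQ x) := by
  induction x using CliffordAlgebra.induction with
  | algebraMap r =>
    rw [star_algebraMap, AlgHom.commutes, algebraMap_fin_two]
    ext i j
    fin_cases i <;> fin_cases j <;> simp [adjR, reverse.commutes]
  | ι m =>
    rw [star_ι, map_neg, Φ_ι]
    ext i j
    fin_cases i <;> fin_cases j <;> simp [adjR, reverse.commutes]
  | mul a b ha hb => rw [star_mul, map_mul, map_mul, ha, hb, adjR_mul]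
  | add a b ha hb => rw [star_add, map_add, map_add, ha, hb, adjR_add]

end PhiStar

section OddCenter
variable {R : Type u} [CommRing R]

/-- the structure of the centre of `C(W)` for the split forms of odd size -/
structure OddCenter {k : ℕ} (W : Matrix (Fin k) (Fin k) R) (ε : R) : Prop where
  cen0 : ∀ z ∈ Subalgebra.center R (CliffordAlgebra (Qm W)), z ∈ evenOdd (Qm W) 0 →
    z ∈ (algebraMap R (CliffordAlgebra (Qm W))).range
  cen1 : ∃ z' : CliffordAlgebra (Qm W), z' ∈ Subalgebra.center R (CliffordAlgebra (Qm W)) ∧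
    z' ∈ evenOdd (Qm W) 1 ∧ z' * z' = 1 ∧
    ∀ z ∈ Subalgebra.center R (CliffordAlgebra (Qm W)), z ∈ evenOdd (Qm W) 1 → ∃ r : R, z = r • z'
  star1 : ∀ z ∈ Subalgebra.center R (CliffordAlgebra (Qm W)), z ∈ evenOdd (Qm W) 1 →
    star z = ε • z

lemma star_eq_neg_reverse_of_odd {M : Type*} [AddCommGroup M] [Module R M] {Q : QuadraticForm R M}
    (z : CliffordAlgebra Q) (hz : z ∈ evenOdd Q 1) : star z = -reverse z := by
  rw [star_def, involute_eq_of_mem_odd hz, map_neg]

lemma reverse_eq_neg_star_of_odd {M : Type*} [AddCommGroup M] [Module R M] {Q : QuadraticForm R M}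
    (z : CliffordAlgebra Q) (hz : z ∈ evenOdd Q 1) : reverse z = -star z := by
  rw [star_eq_neg_reverse_of_odd z hz, neg_neg]

variable {k : ℕ} (W : Matrix (Fin k) (Fin k) R)

/-- central elements correspond to scalar matrices with central entry -/
lemma ΦE_center (z : CliffordAlgebra (Qm (bsum W)))
    (hz : z ∈ Subalgebra.center R (CliffordAlgebra (Qm (bsum W)))) :
    ∃ c ∈ Subalgebra.center R (CliffordAlgebra (Qm W)), ΦE W z = Matrix.scalar (Fin 2) c := by
  have h1 : ΦE W z ∈ Set.center (Matrix (Fin 2) (Fin 2) (CliffordAlgebra (Qm W))) := by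
    rw [Semigroup.mem_center_iff]
    intro Y
    obtain ⟨y, rfl⟩ := (ΦE W).surjective Y
    rw [← map_mul, ← map_mul, (Subalgebra.mem_center_iff.mp hz y)]
  rw [Matrix.center_eq_scalar_image] at h1
  obtain ⟨c, hc, hcz⟩ := h1
  exact ⟨c, hc, hcz.symm⟩

lemma ΦE_symm_scalar_center (c : CliffordAlgebra (Qm W))
    (hc : c ∈ Subalgebra.center R (CliffordAlgebra (Qm W))) :
    (ΦE W).symm (Matrix.scalar (Fin 2) c) ∈
      Subalgebra.center R (CliffordAlgebra (Qm (bsum W))) := by
  rw [Subalgebra.mem_center_iff]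
  intro y
  apply (ΦE W).injective
  rw [map_mul, map_mul, AlgEquiv.apply_symm_apply]
  have : Matrix.scalar (Fin 2) c ∈ Set.center (Matrix (Fin 2) (Fin 2) (CliffordAlgebra (Qm W))) := by
    rw [Matrix.center_eq_scalar_image]
    exact ⟨c, hc, rfl⟩
  exact (Semigroup.mem_center_iff.mp this) _

theorem OddCenter.step {ε : R} (h : OddCenter W ε) : OddCenter (bsum W) (-ε) := by
  refine ⟨?_, ?_, ?_⟩
  · intro z hz hz0
    obtain ⟨c, hc, hcz⟩ := ΦE_center W z hz
    have hc0 : c ∈ evenOdd (Qm W) 0 := by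
      rw [← scalar_mem_Gr_iff, ← hcz, ΦE_mem_Gr_iff]; exact hz0
    obtain ⟨r, hr⟩ := h.cen0 c hc hc0
    refine ⟨r, ?_⟩
    apply (ΦE W).injective
    rw [hcz, ← hr]
    change (ΦE W) (algebraMap R _ r) = _
    rw [AlgEquiv.commutes]
    ext i j; simp [Matrix.algebraMap_matrix_apply, Matrix.diagonal_apply]
  · obtain ⟨z', hz'c, hz'1, hz'sq, hz'gen⟩ := h.cen1
    refine ⟨(ΦE W).symm (Matrix.scalar (Fin 2) z'), ΦE_symm_scalar_center W z' hz'c, ?_, ?_, ?_⟩
    · rw [← ΦE_mem_Gr_iff, AlgEquiv.apply_symm_apply, scalar_mem_Gr_iff]; exact hz'1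
    · rw [← map_mul, ← map_mul, hz'sq, map_one, map_one]
    · intro z hz hz1
      obtain ⟨c, hc, hcz⟩ := ΦE_center W z hz
      have hc1 : c ∈ evenOdd (Qm W) 1 := by
        rw [← scalar_mem_Gr_iff, ← hcz, ΦE_mem_Gr_iff]; exact hz1
      obtain ⟨r, hr⟩ := hz'gen c hc hc1
      refine ⟨r, ?_⟩
      apply (ΦE W).injective
      rw [map_smul, AlgEquiv.apply_symm_apply, hcz, hr]
      ext i j; simp [Matrix.diagonal_apply]
  · intro z hz hz1
    obtain ⟨c, hc, hcz⟩ := ΦE_center W z hz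
    have hc1 : c ∈ evenOdd (Qm W) 1 := by
      rw [← scalar_mem_Gr_iff, ← hcz, ΦE_mem_Gr_iff]; exact hz1
    apply (ΦE W).injective
    rw [ΦE_apply, Φ_star, ← ΦE_apply, hcz, adjR_scalar, reverse_eq_neg_star_of_odd c hc1,
      h.star1 c hc hc1, map_smul, hcz]
    ext i j; simp [Matrix.diagonal_apply]

end OddCenter

end Groth.Agent.Lib.Helper15.Cl
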