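import Mathlib
import Groth.Agent.Lib.Helper15.ClOdd1

/-! The centre of the Clifford algebra of the split form of odd rank. -/

set_option autoImplicit false
set_option linter.style.haveILetI false

namespace Groth.Agent.Lib.Helper15.Cl

open CliffordAlgebra Matrix
open Groth.Agent.Lib.Helper15.QSplit

universe u

section Base
variable (R : Type u) [CommRing R]

/-- the generator of `C(⟨1⟩)` -/
noncomputable def e0 : CliffordAlgebra (Qm (Wsp R 1)) := ι (Qm (Wsp R 1)) (fun _ => 1)

lemma Qm_one_apply (x : Fin 1 → R) : Qm (Wsp R 1) x = x 0 * x 0 := by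
  rw [Qm_apply]
  simp [qf, bl, Wsp, dotProduct, Matrix.mulVec]

lemma ι_eq_smul_e0 (x : Fin 1 → R) : ι (Qm (Wsp R 1)) x = x 0 • e0 R := by
  rw [e0, ← map_smul]
  congr 1
  funext i
  fin_cases i
  simp

lemma e0_mul_e0 : e0 R * e0 R = 1 := by
  rw [e0, ι_sq_scalar, Qm_one_apply]
  simp

lemma e0_mem_odd : e0 R ∈ evenOdd (Qm (Wsp R 1)) 1 := ι_mem_evenOdd_one _ _

lemma exists_repr (c : CliffordAlgebra (Qm (Wsp R 1))) :
    ∃ a b : R, c = algebraMap R _ a + b • e0 R := by
  induction c using CliffordAlgebra.induction with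
  | algebraMap r => exact ⟨r, 0, by simp⟩
  | ι x => exact ⟨0, x 0, by rw [ι_eq_smul_e0]; simp⟩
  | mul c d hc hd =>
    obtain ⟨a, b, rfl⟩ := hc
    obtain ⟨a', b', rfl⟩ := hd
    refine ⟨a * a' + b * b', a * b' + b * a', ?_⟩
    have h := e0_mul_e0 R
    simp only [Algebra.algebraMap_eq_smul_one, add_mul, mul_add, smul_mul_smul_comm, mul_one,
      one_mul, h, add_smul]
    abel
  | add c d hc hd =>
    obtain ⟨a, b, rfl⟩ := hc
    obtain ⟨a', b', rfl⟩ := hd
    exact ⟨a + a', b + b', by rw [map_add, add_smul]; abel⟩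

lemma e0_comm (c : CliffordAlgebra (Qm (Wsp R 1))) : c * e0 R = e0 R * c := by
  obtain ⟨a, b, rfl⟩ := exists_repr R c
  simp only [Algebra.algebraMap_eq_smul_one, add_mul, mul_add, smul_mul_assoc, mul_smul_comm,
    one_mul, mul_one]

theorem oddCenter_one : OddCenter (Wsp R 1) (-1) := by
  have hgen : ∀ z ∈ evenOdd (Qm (Wsp R 1)) 1, ∃ r : R, z = r • e0 R := by
    intro z hz1
    obtain ⟨a, b, rfl⟩ := exists_repr R z
    have h1 : algebraMap R (CliffordAlgebra (Qm (Wsp R 1))) a ∈ evenOdd (Qm (Wsp R 1)) 1 := by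
      have := Submodule.sub_mem _ hz1 (Submodule.smul_mem _ b (e0_mem_odd R))
      rwa [add_sub_cancel_right] at this
    have h0 : algebraMap R (CliffordAlgebra (Qm (Wsp R 1))) a = 0 :=
      eq_zero_of_mem_both _ _ (SetLike.algebraMap_mem_graded _ _) h1
    exact ⟨b, by rw [h0, zero_add]⟩
  refine ⟨?_, ?_, ?_⟩
  · intro z _ hz0
    obtain ⟨a, b, rfl⟩ := exists_repr R z
    have h0 : b • e0 R ∈ evenOdd (Qm (Wsp R 1)) 0 := by
      have := Submodule.sub_mem _ hz0 (SetLike.algebraMap_mem_graded (evenOdd (Qm (Wsp R 1))) a)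
      rwa [add_sub_cancel_left] at this
    have h1 : b • e0 R = 0 :=
      eq_zero_of_mem_both _ _ h0 (Submodule.smul_mem _ b (e0_mem_odd R))
    exact ⟨a, by rw [h1, add_zero]⟩
  · refine ⟨e0 R, ?_, e0_mem_odd R, e0_mul_e0 R, fun z _ hz1 => hgen z hz1⟩
    rw [Subalgebra.mem_center_iff]
    intro c
    exact e0_comm R c
  · intro z _ hz1
    obtain ⟨r, rfl⟩ := hgen z hz1
    rw [CliffordAlgebra.star_smul, e0, star_ι, smul_neg, neg_smul, one_smul]

end Base

section Induction
variable (R : Type u) [CommRing R]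

theorem oddCenter_Wsp : ∀ n : ℕ, n % 2 = 1 → OddCenter (Wsp R n) ((-1) ^ ((n + 1) / 2)) := by
  intro n
  induction n using Nat.twoStepInduction with
  | zero => intro h; omega
  | one => intro _; simpa using oddCenter_one R
  | more k ih _ =>
    intro h
    have hk : k % 2 = 1 := by omega
    have := (ih hk).step
    have e : (k + 2 + 1) / 2 = (k + 1) / 2 + 1 := by omega
    rw [e, pow_succ, mul_neg_one]
    exact this

end Induction

end Groth.Agent.Lib.Helper15.Cl
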