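import Mathlib
import Groth.Agent.Lib.Helper15.ClOdd2

/-! The even Clifford algebra of the split form of odd rank is a matrix algebra. -/

set_option autoImplicit false
set_option linter.style.haveILetI false

namespace Groth.Agent.Lib.Helper15.Cl

open CliffordAlgebra Matrix
open Groth.Agent.Lib.Helper15.QSplit

universe u

section EvenStep
variable {R : Type u} [CommRing R] {k : ℕ} (W : Matrix (Fin k) (Fin k) R)

/-- the diagonal matrix `diag(1, u)` -/
noncomputable def Dm (u : CliffordAlgebra (Qm W)) : Matrix (Fin 2) (Fin 2) (CliffordAlgebra (Qm W)) :=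
  Matrix.diagonal ![1, u]

lemma Dm_mul_Dm (u : CliffordAlgebra (Qm W)) (hu : u * u = 1) : Dm W u * Dm W u = 1 := by
  rw [Dm, Matrix.diagonal_mul_diagonal]
  rw [← Matrix.diagonal_one]
  congr 1
  funext i
  fin_cases i <;> simp [hu]

lemma Dm_conj_apply (u : CliffordAlgebra (Qm W)) (X : Matrix (Fin 2) (Fin 2) (CliffordAlgebra (Qm W)))
    (i j : Fin 2) : (Dm W u * X * Dm W u) i j = ![1, u] i * X i j * ![1, u] j := by
  rw [Dm, Matrix.mul_diagonal, Matrix.diagonal_mul]

lemma d_mem (u : CliffordAlgebra (Qm W)) (hu1 : u ∈ evenOdd (Qm W) 1) (i : Fin 2) :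
    (![1, u] : Fin 2 → CliffordAlgebra (Qm W)) i ∈ evenOdd (Qm W) (par i) := by
  fin_cases i
  · change (1 : CliffordAlgebra (Qm W)) ∈ evenOdd (Qm W) 0
    exact SetLike.one_mem_graded _
  · exact hu1

/-- conjugation by `diag(1,u)` turns the checkerboard grading into the entrywise grading -/
lemma conj_mem_iff (u : CliffordAlgebra (Qm W)) (hu1 : u ∈ evenOdd (Qm W) 1) (j : ZMod 2)
    (X : Matrix (Fin 2) (Fin 2) (CliffordAlgebra (Qm W))) (hX : X ∈ Gr (Qm W) j) (a b : Fin 2) :
    (Dm W u * X * Dm W u) a b ∈ evenOdd (Qm W) j := by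
  rw [Dm_conj_apply]
  have := SetLike.mul_mem_graded (SetLike.mul_mem_graded (d_mem W u hu1 a) (hX a b)) (d_mem W u hu1 b)
  have e : par a + (j + par a + par b) + par b = j := by
    have h1 := par_add_self a
    have h2 := par_add_self b
    linear_combination h1 + h2
  rwa [e] at this

lemma conj_mem_Gr (u : CliffordAlgebra (Qm W)) (hu1 : u ∈ evenOdd (Qm W) 1) (j : ZMod 2)
    (X : Matrix (Fin 2) (Fin 2) (CliffordAlgebra (Qm W)))
    (hX : ∀ a b, X a b ∈ evenOdd (Qm W) j) : Dm W u * X * Dm W u ∈ Gr (Qm W) j := by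
  intro a b
  rw [Dm_conj_apply]
  have := SetLike.mul_mem_graded (SetLike.mul_mem_graded (d_mem W u hu1 a) (hX a b)) (d_mem W u hu1 b)
  have e : par a + j + par b = j + par a + par b := by ring
  rwa [e] at this

/-- conjugation by `diag(1,u)` composed with `Φ`, as an algebra map -/
noncomputable def ψm (u : CliffordAlgebra (Qm W)) (hu : u * u = 1) :
    CliffordAlgebra (Qm (bsum W)) →ₐ[R] Matrix (Fin 2) (Fin 2) (CliffordAlgebra (Qm W)) :=
  AlgHom.ofLinearMap
    ((LinearMap.mulLeft R (Dm W u)).comp ((LinearMap.mulRight R (Dm W u)).comp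
      (ΦE W).toLinearMap))
    (by simp [Dm_mul_Dm W u hu])
    (fun x y => by
      simp only [LinearMap.comp_apply, LinearMap.mulLeft_apply, LinearMap.mulRight_apply,
        AlgEquiv.toLinearMap_apply, map_mul]
      have h := Dm_mul_Dm W u hu
      calc Dm W u * ((ΦE W) x * (ΦE W) y * Dm W u)
          = Dm W u * ((ΦE W) x * 1 * (ΦE W) y * Dm W u) := by rw [mul_one]
        _ = Dm W u * ((ΦE W) x * (Dm W u * Dm W u) * (ΦE W) y * Dm W u) := by rw [h]
        _ = Dm W u * ((ΦE W) x * Dm W u) * (Dm W u * ((ΦE W) y * Dm W u)) := by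
          simp only [mul_assoc])

lemma ψm_apply (u : CliffordAlgebra (Qm W)) (hu : u * u = 1) (x : CliffordAlgebra (Qm (bsum W))) :
    ψm W u hu x = Dm W u * ΦE W x * Dm W u := by
  change Dm W u * ((ΦE W) x * Dm W u) = _
  rw [mul_assoc]

lemma ψm_injective (u : CliffordAlgebra (Qm W)) (hu : u * u = 1) :
    Function.Injective (ψm W u hu) := by
  intro x y hxy
  rw [ψm_apply, ψm_apply] at hxy
  have h := Dm_mul_Dm W u hu
  have := congrArg (fun X => Dm W u * X * Dm W u) hxy
  beta_reduce at this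
  have e : ∀ X : Matrix (Fin 2) (Fin 2) (CliffordAlgebra (Qm W)),
      Dm W u * (Dm W u * X * Dm W u) * Dm W u = X := by
    intro X
    calc Dm W u * (Dm W u * X * Dm W u) * Dm W u
        = (Dm W u * Dm W u) * X * (Dm W u * Dm W u) := by simp only [mul_assoc]
      _ = X := by rw [h, one_mul, mul_one]
  rw [e, e] at this
  exact (ΦE W).injective this

theorem even_step (u : CliffordAlgebra (Qm W)) (hu : u * u = 1) (hu1 : u ∈ evenOdd (Qm W) 1) :
    Nonempty (↥(even (Qm (bsum W))) ≃ₐ[R] Matrix (Fin 2) (Fin 2) ↥(even (Qm W))) := by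
  let V : Matrix (Fin 2) (Fin 2) ↥(even (Qm W)) →ₐ[R]
      Matrix (Fin 2) (Fin 2) (CliffordAlgebra (Qm W)) := (even (Qm W)).val.mapMatrix
  have hV : Function.Injective V := by
    intro X Y hXY
    ext i j
    have := congrFun (congrFun hXY i) j
    exact this
  have hrange : ∀ X : Matrix (Fin 2) (Fin 2) (CliffordAlgebra (Qm W)),
      (∀ a b, X a b ∈ evenOdd (Qm W) 0) → X ∈ V.range := by
    intro X hX
    refine ⟨Matrix.of fun a b => ⟨X a b, by
      rw [← SetLike.mem_coe, ← Subalgebra.coe_toSubmodule, even_toSubmodule]; exact hX a b⟩, ?_⟩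
    ext a b; rfl
  have hA : ∀ x : ↥(even (Qm (bsum W))),
      ((ψm W u hu).comp (even (Qm (bsum W))).val) x ∈ V.range := by
    intro x
    apply hrange
    intro a b
    change (ψm W u hu (x : CliffordAlgebra (Qm (bsum W)))) a b ∈ _
    rw [ψm_apply]
    apply conj_mem_iff W u hu1 0
    rw [ΦE_mem_Gr_iff]
    have := x.2
    rwa [← SetLike.mem_coe, ← Subalgebra.coe_toSubmodule, even_toSubmodule] at this
  let g : ↥(even (Qm (bsum W))) →ₐ[R] Matrix (Fin 2) (Fin 2) ↥(even (Qm W)) :=
    (AlgEquiv.ofInjective V hV).symm.toAlgHom.comp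
      (((ψm W u hu).comp (even (Qm (bsum W))).val).codRestrict V.range hA)
  have hg : ∀ x, V (g x) = ψm W u hu (x : CliffordAlgebra (Qm (bsum W))) := by
    intro x
    have := (AlgEquiv.ofInjective V hV).apply_symm_apply
      ((((ψm W u hu).comp (even (Qm (bsum W))).val).codRestrict V.range hA) x)
    exact congrArg Subtype.val this
  refine ⟨AlgEquiv.ofBijective g ⟨?_, ?_⟩⟩
  · intro x y hxy
    have := congrArg V hxy
    rw [hg, hg] at this
    exact Subtype.ext (ψm_injective W u hu this)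
  · intro Y
    have h1 : Dm W u * V Y * Dm W u ∈ Gr (Qm W) 0 := by
      apply conj_mem_Gr W u hu1 0
      intro a b
      have := (Y a b).2
      rwa [← SetLike.mem_coe, ← Subalgebra.coe_toSubmodule, even_toSubmodule] at this
    have h2 : (ΦE W).symm (Dm W u * V Y * Dm W u) ∈ even (Qm (bsum W)) := by
      rw [← SetLike.mem_coe, ← Subalgebra.coe_toSubmodule, even_toSubmodule, SetLike.mem_coe,
        ← ΦE_mem_Gr_iff, AlgEquiv.apply_symm_apply]
      exact h1
    refine ⟨⟨_, h2⟩, ?_⟩
    apply hV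
    rw [hg]
    change ψm W u hu ((ΦE W).symm (Dm W u * V Y * Dm W u)) = V Y
    rw [ψm_apply, AlgEquiv.apply_symm_apply]
    have h := Dm_mul_Dm W u hu
    calc Dm W u * (Dm W u * V Y * Dm W u) * Dm W u
        = (Dm W u * Dm W u) * V Y * (Dm W u * Dm W u) := by simp only [mul_assoc]
      _ = V Y := by rw [h, one_mul, mul_one]

end EvenStep

end Groth.Agent.Lib.Helper15.Cl
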