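import Mathlib
import Groth.Agent.Lib.Helper15.ClOdd3

/-! The even Clifford algebra of the split form of odd rank `2m+1` is `M_{2^m}`. -/

set_option autoImplicit false
set_option linter.style.haveILetI false

namespace Groth.Agent.Lib.Helper15.Cl

open CliffordAlgebra Matrix
open Groth.Agent.Lib.Helper15.QSplit

universe u

section
variable (R : Type u) [CommRing R]

/-- `R ≃ M₁(R)` -/
noncomputable def scalarEquiv : R ≃ₐ[R] Matrix (Fin 1) (Fin 1) R :=
  AlgEquiv.ofBijective (Algebra.ofId R (Matrix (Fin 1) (Fin 1) R)) (by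
    constructor
    · intro a b hab
      have := congrFun (congrFun hab 0) 0
      simpa [Algebra.ofId_apply, Matrix.algebraMap_matrix_apply] using this
    · intro X
      refine ⟨X 0 0, ?_⟩
      ext i j
      rw [Subsingleton.elim i 0, Subsingleton.elim j 0]
      simp [Algebra.ofId_apply, Matrix.algebraMap_matrix_apply])

lemma even_one_eq_bot : even (Qm (Wsp R 1)) = ⊥ := by
  rw [eq_bot_iff]
  intro z hz
  rw [← SetLike.mem_coe, ← Subalgebra.coe_toSubmodule, even_toSubmodule, SetLike.mem_coe] at hz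
  obtain ⟨a, b, rfl⟩ := exists_repr R z
  have h0 : b • e0 R ∈ evenOdd (Qm (Wsp R 1)) 0 := by
    have := Submodule.sub_mem _ hz (SetLike.algebraMap_mem_graded (evenOdd (Qm (Wsp R 1))) a)
    rwa [add_sub_cancel_left] at this
  have h1 : b • e0 R = 0 :=
    eq_zero_of_mem_both _ _ h0 (Submodule.smul_mem _ b (e0_mem_odd R))
  rw [h1, add_zero]
  exact Subalgebra.algebraMap_mem _ a

theorem even_Wsp_odd : ∀ n : ℕ, n % 2 = 1 →
    Nonempty (↥(even (Qm (Wsp R n))) ≃ₐ[R] Matrix (Fin (2 ^ (n / 2))) (Fin (2 ^ (n / 2))) R) := by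
  intro n
  induction n using Nat.twoStepInduction with
  | zero => intro h; omega
  | one =>
    intro _
    haveI : Module.Free R (Fin 1 → R) := inferInstance
    have e1 : ↥(even (Qm (Wsp R 1))) ≃ₐ[R] (⊥ : Subalgebra R (CliffordAlgebra (Qm (Wsp R 1)))) :=
      Subalgebra.equivOfEq _ _ (even_one_eq_bot R)
    have e2 : (⊥ : Subalgebra R (CliffordAlgebra (Qm (Wsp R 1)))) ≃ₐ[R] R :=
      Algebra.botEquivOfInjective (algebraMap_injective (Qm (Wsp R 1)))
    exact ⟨(e1.trans e2).trans (scalarEquiv R)⟩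
  | more k ih _ =>
    intro h
    have hk : k % 2 = 1 := by omega
    obtain ⟨E⟩ := ih hk
    obtain ⟨u, _, hu1, hu, _⟩ := (oddCenter_Wsp R k hk).cen1
    obtain ⟨S⟩ := even_step (Wsp R k) u hu hu1
    have hpow : 2 * 2 ^ (k / 2) = 2 ^ ((k + 2) / 2) := by
      have : (k + 2) / 2 = k / 2 + 1 := by omega
      rw [this, pow_succ]; ring
    refine ⟨S.trans (E.mapMatrix.trans ((Matrix.compAlgEquiv (Fin 2) (Fin (2 ^ (k / 2))) R R).trans
      (Matrix.reindexAlgEquiv R R (finProdFinEquiv.trans (finCongr hpow)))))⟩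

end

end Groth.Agent.Lib.Helper15.Cl
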