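import Mathlib
import Groth.Agent.Lib.Helper15.QSplit2

/-! Existence of a good pair of vectors over a domain. -/

set_option autoImplicit false
set_option linter.style.haveILetI false

namespace Groth.Agent.Lib.Helper15.QSplit

open Matrix
open Groth.Agent.Lib.Helper2.HalfDisc

universe u

section Domain
variable {D : Type u} [CommRing D] [IsDomain D] {n : ℕ}

lemma polar_entry (W : Matrix (Fin n) (Fin n) D) (i j : Fin n) :
    (W + Wᵀ) i j = bf W (Pi.single i 1) (Pi.single j 1) := by
  rw [bf_single]; rfl

/-- if the polar matrix vanishes then determinant and half-discriminant vanish -/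
lemma nd_zero_of_polar_zero (hn : 2 ≤ n) (W : Matrix (Fin n) (Fin n) D)
    (h : ∀ v w : Fin n → D, bf W v w = 0) :
    (W + Wᵀ).det = 0 ∧ (Odd n → hd W = 0) := by
  have hB : W + Wᵀ = 0 := by
    ext i j
    rw [polar_entry, h]; rfl
  constructor
  · rw [hB]
    haveI : Nonempty (Fin n) := ⟨⟨0, by omega⟩⟩
    exact Matrix.det_zero
  · intro hodd
    obtain ⟨n', rfl⟩ : ∃ n', n = n' + 1 := ⟨n - 1, by omega⟩
    rw [hd_laplace hodd W 0 (fun i _ => by
      have := congrFun (congrFun hB i) 0
      simpa using this)]
    rw [hB]
    have : ((0 : Matrix (Fin (n' + 1)) (Fin (n' + 1)) D).submatrix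
        (0 : Fin (n' + 1)).succAbove (0 : Fin (n' + 1)).succAbove) = 0 := by
      ext; simp
    rw [this]
    haveI : Nonempty (Fin n') := ⟨⟨0, by omega⟩⟩
    rw [Matrix.det_zero, mul_zero]

lemma dd_expand (W : Matrix (Fin n) (Fin n) D) (v y y' : Fin n → D) :
    dd W v (y + y') = dd W v y + dd W v y' + 2 * (bf W v y * bf W v y' - bf W v v * bf W y y') := by
  unfold dd
  rw [bf_add_right, qf_add, bf_self]; ring

theorem exists_good_pair (hn : 2 ≤ n) (W : Matrix (Fin n) (Fin n) D)
    (hND : (Odd n → hd W ≠ 0) ∧ (Even n → (W + Wᵀ).det ≠ 0)) :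
    ∃ v w : Fin n → D, qf W v ≠ 0 ∧ dd W v w ≠ 0 := by
  by_contra hcon
  push Not at hcon
  -- step 1: dd vanishes identically
  have hdd : ∀ v w : Fin n → D, dd W v w = 0 := by
    intro v w
    by_contra hne
    have hv : qf W v = 0 := by
      by_contra h
      exact hne (hcon v w h)
    have hw : qf W w = 0 := by
      by_contra h
      exact hne (by rw [dd_comm]; exact hcon w v h)
    have hb : bf W v w ≠ 0 := by
      intro hb
      apply hne
      unfold dd; rw [hb, hv]; ring
    have hvw : qf W (v + w) ≠ 0 := by
      rw [qf_add, hv, hw, zero_add, zero_add]; exact hb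
    have := hcon (v + w) w hvw
    rw [dd_add_left] at this
    exact hne this
  -- step 2: contradiction
  have hfin : (W + Wᵀ).det = 0 ∧ (Odd n → hd W = 0) := by
    by_cases h2 : (2 : D) = 0
    · apply nd_zero_of_polar_zero hn
      intro v w
      have := hdd v w
      unfold dd at this
      have h4 : (4 : D) = 0 := by
        have : (4 : D) = 2 * 2 := by norm_num
        rw [this, h2, mul_zero]
      rw [h4, zero_mul, zero_mul, sub_zero] at this
      exact mul_self_eq_zero.mp this
    · have hdet : (W + Wᵀ).det = 0 := by
        by_cases hv : ∃ v : Fin n → D, bf W v v ≠ 0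
        · obtain ⟨v, hv⟩ := hv
          have hrel : ∀ y y' : Fin n → D, bf W v y * bf W v y' = bf W v v * bf W y y' := by
            intro y y'
            have := dd_expand W v y y'
            rw [hdd, hdd, hdd, zero_add, zero_add] at this
            have h3 := (mul_eq_zero.mp this.symm).resolve_left h2
            exact sub_eq_zero.mp h3
          have hmat : bf W v v • (W + Wᵀ) =
              Matrix.vecMulVec (fun i => bf W v (Pi.single i 1)) (fun i => bf W v (Pi.single i 1)) := by
            ext i j
            rw [Matrix.smul_apply, polar_entry, Matrix.vecMulVec_apply, hrel, smul_eq_mul]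
          have hdet' := congrArg Matrix.det hmat
          haveI : Nontrivial (Fin n) := Fin.nontrivial_iff_two_le.mpr hn
          rw [Matrix.det_vecMulVec, Matrix.det_smul] at hdet'
          exact (mul_eq_zero.mp hdet').resolve_left (pow_ne_zero _ hv)
        · push Not at hv
          apply (nd_zero_of_polar_zero hn W ?_).1
          intro v w
          have := hdd v w
          unfold dd at this
          have e : 4 * qf W v * qf W w = bf W v v * bf W w w := by
            rw [bf_self, bf_self]; ring
          rw [e, hv v, zero_mul, sub_zero] at this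
          exact mul_self_eq_zero.mp this
      refine ⟨hdet, fun hodd => ?_⟩
      have := two_mul_hd hodd W
      rw [hdet] at this
      exact (mul_eq_zero.mp this).resolve_left h2
  rcases Nat.even_or_odd n with he | ho
  · exact hND.2 he hfin.1
  · exact hND.1 ho (hfin.2 ho)

end Domain

end Groth.Agent.Lib.Helper15.QSplit
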