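import Mathlib

/-! Pointed flat finitely presented ring maps, and gluing them into an fppf cover. -/

set_option autoImplicit false
set_option linter.style.haveILetI false

namespace Groth.Agent.Lib.Helper15.QSplit

open Polynomial

universe u

section Good

/-- a flat finitely presented ring map with a chosen prime over a given prime -/
def Good {T T' : Type u} [CommRing T] [CommRing T'] (φ : T →+* T') (p : PrimeSpectrum T)
    (q : PrimeSpectrum T') : Prop :=
  φ.Flat ∧ φ.FinitePresentation ∧ PrimeSpectrum.comap φ q = p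

lemma Good.comp {T T' T'' : Type u} [CommRing T] [CommRing T'] [CommRing T'']
    {φ : T →+* T'} {ψ : T' →+* T''} {p : PrimeSpectrum T} {q : PrimeSpectrum T'}
    {r : PrimeSpectrum T''} (h : Good φ p q) (h' : Good ψ q r) : Good (ψ.comp φ) p r := by
  refine ⟨h.1.comp h'.1, h'.2.1.comp h.2.1, ?_⟩
  rw [← h.2.2, ← h'.2.2]
  rfl

lemma Good.id {T : Type u} [CommRing T] (p : PrimeSpectrum T) : Good (RingHom.id T) p p := by
  refine ⟨RingHom.Flat.id T, RingHom.FinitePresentation.id T, ?_⟩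
  ext x; rfl

lemma Good.mem_iff {T T' : Type u} [CommRing T] [CommRing T']
    {φ : T →+* T'} {p : PrimeSpectrum T} {q : PrimeSpectrum T'} (h : Good φ p q) (x : T) :
    φ x ∈ q.asIdeal ↔ x ∈ p.asIdeal := by
  rw [← h.2.2]; rfl

lemma nontrivial_of_prime {T : Type u} [CommRing T] (p : PrimeSpectrum T) : Nontrivial T :=
  ⟨⟨0, 1, fun h => p.isPrime.ne_top ((Ideal.eq_top_iff_one _).mpr (h ▸ p.asIdeal.zero_mem))⟩⟩

lemma natDegree_X_sq_add {T : Type u} [CommRing T] [Nontrivial T] (r : T[X])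
    (h : r.degree < ((2 : ℕ) : WithBot ℕ)) : (X ^ 2 + r).natDegree = 2 := by
  apply natDegree_eq_of_degree_eq_some
  rw [degree_add_eq_left_of_degree_lt (by rwa [degree_X_pow]), degree_X_pow]

theorem good_away {T : Type u} [CommRing T] (p : PrimeSpectrum T) (g : T) (hg : g ∉ p.asIdeal) :
    ∃ (T' : Type u) (_ : CommRing T') (φ : T →+* T') (q : PrimeSpectrum T'),
      Good φ p q ∧ IsUnit (φ g) := by
  have hp : p ∈ Set.range (PrimeSpectrum.comap (algebraMap T (Localization.Away g))) := by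
    rw [PrimeSpectrum.localization_away_comap_range (Localization.Away g) g]
    exact hg
  obtain ⟨q, hq⟩ := hp
  refine ⟨Localization.Away g, inferInstance, algebraMap T _, q, ⟨?_, ?_, hq⟩,
    IsLocalization.Away.algebraMap_isUnit g⟩
  · rw [RingHom.flat_algebraMap_iff]
    exact IsLocalization.flat _ (Submonoid.powers g)
  · rw [RingHom.finitePresentation_algebraMap]
    exact IsLocalization.Away.finitePresentation g

theorem good_monic {T : Type u} [CommRing T] (p : PrimeSpectrum T) (P : T[X]) (hP : P.Monic)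
    (hdeg : 1 ≤ P.natDegree) :
    ∃ (T' : Type u) (_ : CommRing T') (φ : T →+* T') (q : PrimeSpectrum T') (θ : T'),
      Good φ p q ∧ P.eval₂ φ θ = 0 := by
  haveI : Nontrivial T := nontrivial_of_prime p
  haveI : Module.Free T (AdjoinRoot P) := hP.free_adjoinRoot
  haveI : Nontrivial (AdjoinRoot P) := by
    refine ⟨⟨AdjoinRoot.mk P 1, 0, ?_⟩⟩
    apply AdjoinRoot.mk_ne_zero_of_natDegree_lt hP one_ne_zero
    rw [natDegree_one]; omega
  obtain ⟨q, hq⟩ := PrimeSpectrum.comap_surjective_of_faithfullyFlat (A := T) (B := AdjoinRoot P) p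
  refine ⟨AdjoinRoot P, inferInstance, algebraMap T _, q, AdjoinRoot.root P, ⟨?_, ?_, hq⟩, ?_⟩
  · rw [RingHom.flat_algebraMap_iff]
    infer_instance
  · rw [RingHom.finitePresentation_algebraMap]
    infer_instance
  · exact AdjoinRoot.eval₂_root P

theorem good_quadratic {T : Type u} [CommRing T] (p : PrimeSpectrum T) (a b c : T)
    (h : a * (b * b - 4 * a * c) ∉ p.asIdeal) :
    ∃ (T' : Type u) (_ : CommRing T') (φ : T →+* T') (q : PrimeSpectrum T') (θ : T'),
      Good φ p q ∧ IsUnit (φ a) ∧ φ a * θ * θ + φ b * θ + φ c = 0 ∧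
        IsUnit (2 * φ a * θ + φ b) := by
  obtain ⟨T₁, _, φ₁, q₁, hg₁, hu⟩ := good_away p _ h
  rw [map_mul] at hu
  have hua : IsUnit (φ₁ a) := isUnit_of_mul_isUnit_left hu
  have hud : IsUnit (φ₁ (b * b - 4 * a * c)) := isUnit_of_mul_isUnit_right hu
  obtain ⟨u, hu1⟩ := hua.exists_left_inv
  let P : T₁[X] := X ^ 2 + (C (u * φ₁ b) * X + C (u * φ₁ c))
  have hlt : (C (u * φ₁ b) * X + C (u * φ₁ c) : T₁[X]).degree < ((2 : ℕ) : WithBot ℕ) :=
    lt_of_le_of_lt (degree_linear_le) (by norm_num)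
  have hP : P.Monic := monic_X_pow_add hlt
  haveI : Nontrivial T₁ := nontrivial_of_prime q₁
  have hdeg : P.natDegree = 2 := natDegree_X_sq_add _ hlt
  obtain ⟨T₂, _, φ₂, q₂, θ, hg₂, hθ⟩ := good_monic q₁ P hP (by omega)
  have hθ' : θ ^ 2 + (φ₂ (u * φ₁ b) * θ + φ₂ (u * φ₁ c)) = 0 := by
    simpa [P, eval₂_add, eval₂_mul, eval₂_pow] using hθ
  have hu2 : φ₂ u * φ₂ (φ₁ a) = 1 := by rw [← map_mul, hu1, map_one]
  have hquad : φ₂ (φ₁ a) * θ * θ + φ₂ (φ₁ b) * θ + φ₂ (φ₁ c) = 0 := by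
    have := congrArg (fun z => φ₂ (φ₁ a) * z) hθ'
    simp only [mul_zero, map_mul] at this
    linear_combination this - (φ₂ (φ₁ b) * θ + φ₂ (φ₁ c)) * hu2
  refine ⟨T₂, inferInstance, φ₂.comp φ₁, q₂, θ, hg₁.comp hg₂, ?_, hquad, ?_⟩
  · exact (hu.map φ₂ |> fun h => isUnit_of_mul_isUnit_left (by rwa [map_mul] at h))
  · have hsq : (2 * φ₂ (φ₁ a) * θ + φ₂ (φ₁ b)) * (2 * φ₂ (φ₁ a) * θ + φ₂ (φ₁ b)) =
        φ₂ (φ₁ (b * b - 4 * a * c)) := by
      simp only [map_sub, map_mul, map_ofNat]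
      linear_combination 4 * φ₂ (φ₁ a) * hquad
    have : IsUnit ((2 * φ₂ (φ₁ a) * θ + φ₂ (φ₁ b)) * (2 * φ₂ (φ₁ a) * θ + φ₂ (φ₁ b))) := by
      rw [hsq]; exact hud.map φ₂
    exact isUnit_of_mul_isUnit_left this

theorem good_sqrt {T : Type u} [CommRing T] (p : PrimeSpectrum T) (a : T) (h : a ∉ p.asIdeal) :
    ∃ (T' : Type u) (_ : CommRing T') (φ : T →+* T') (q : PrimeSpectrum T') (g : T'),
      Good φ p q ∧ g * g * φ a = 1 := by
  obtain ⟨T₁, _, φ₁, q₁, hg₁, hu⟩ := good_away p _ h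
  obtain ⟨u, hu1⟩ := hu.exists_left_inv
  let P : T₁[X] := X ^ 2 + (- C u)
  have hlt : (- C u : T₁[X]).degree < ((2 : ℕ) : WithBot ℕ) := by
    rw [degree_neg]
    exact lt_of_le_of_lt degree_C_le (by norm_num)
  have hP : P.Monic := monic_X_pow_add hlt
  haveI : Nontrivial T₁ := nontrivial_of_prime q₁
  have hdeg : P.natDegree = 2 := natDegree_X_sq_add _ hlt
  obtain ⟨T₂, _, φ₂, q₂, θ, hg₂, hθ⟩ := good_monic q₁ P hP (by omega)
  have hθ' : θ ^ 2 + - φ₂ u = 0 := by
    simpa [P, eval₂_add, eval₂_neg, eval₂_pow] using hθ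
  refine ⟨T₂, inferInstance, φ₂.comp φ₁, q₂, θ, hg₁.comp hg₂, ?_⟩
  have hu2 : φ₂ u * φ₂ (φ₁ a) = 1 := by rw [← map_mul, hu1, map_one]
  change θ * θ * φ₂ (φ₁ a) = 1
  linear_combination φ₂ (φ₁ a) * hθ' + hu2

end Good

section Glue
variable {R : Type u} [CommRing R]

theorem isOpen_range_comap_fppf (A : Type u) [CommRing A] [Algebra R A] [Module.Flat R A]
    [Algebra.FinitePresentation R A] :
    IsOpen (Set.range (PrimeSpectrum.comap (algebraMap R A))) :=
  (PrimeSpectrum.isOpenMap_comap_of_hasGoingDown_of_finitePresentation (R := R) (S := A)).isOpen_range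

/-- gluing pointed fppf neighbourhoods into one faithfully flat finitely presented algebra -/
theorem exists_cover_of_points_fppf (Φ : ∀ (A : Type u) [CommRing A] [Algebra R A], Prop)
    (hpt : ∀ p : PrimeSpectrum R, ∃ (A : Type u) (_ : CommRing A) (_ : Algebra R A)
      (_ : Module.Flat R A) (_ : Algebra.FinitePresentation R A), Φ A ∧
        p ∈ Set.range (PrimeSpectrum.comap (algebraMap R A)))
    (hprod : ∀ (ι : Type u) [Fintype ι] [DecidableEq ι] (A : ι → Type u) [∀ i, CommRing (A i)]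
      [∀ i, Algebra R (A i)], (∀ i, Φ (A i)) → Φ (Π i, A i)) :
    ∃ (S' : Type u) (_ : CommRing S') (_ : Algebra R S'), Module.FaithfullyFlat R S' ∧
      Algebra.FinitePresentation R S' ∧ Φ S' := by
  classical
  choose A iR iA iF iP hΦ hp using hpt
  let U : PrimeSpectrum R → Set (PrimeSpectrum R) :=
    fun p => Set.range (PrimeSpectrum.comap (algebraMap R (A p)))
  have hUo : ∀ p, IsOpen (U p) := fun p => isOpen_range_comap_fppf (A p)
  obtain ⟨F, hF⟩ := isCompact_univ.elim_finite_subcover U hUo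
    (fun p _ => Set.mem_iUnion.mpr ⟨p, hp p⟩)
  let ι := {p : PrimeSpectrum R // p ∈ F}
  letI : ∀ i : ι, CommRing (A i.1) := fun i => iR i.1
  letI : ∀ i : ι, Algebra R (A i.1) := fun i => iA i.1
  haveI : ∀ i : ι, Module.Flat R (A i.1) := fun i => iF i.1
  haveI : ∀ i : ι, Algebra.FinitePresentation R (A i.1) := fun i => iP i.1
  haveI : Module.Flat R (Π i : ι, A i.1) :=
    Module.Flat.of_linearEquiv (DirectSum.linearEquivFunOnFintype R ι (fun i => A i.1)).symm
  refine ⟨Π i : ι, A i.1, inferInstance, inferInstance, ?_, inferInstance,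
    hprod ι (fun i => A i.1) (fun i => hΦ i.1)⟩
  apply Module.FaithfullyFlat.of_comap_surjective
  intro p
  have := hF (Set.mem_univ p)
  simp only [Set.mem_iUnion] at this
  obtain ⟨i, hi, Q, hQ⟩ := this
  refine ⟨PrimeSpectrum.comap (Pi.evalRingHom (fun j : ι => A j.1) ⟨i, hi⟩) Q, ?_⟩
  rw [← hQ, ← PrimeSpectrum.comap_comp_apply]
  rfl

end Glue

end Groth.Agent.Lib.Helper15.QSplit
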