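import Mathlib
import Groth.Agent.Lib.Helper15.QSplit3
import Groth.Agent.Lib.Helper15.QSplit4

/-! Splitting off a hyperbolic plane locally. -/

set_option autoImplicit false
set_option linter.style.haveILetI false

namespace Groth.Agent.Lib.Helper15.QSplit

open Matrix

universe u v

section Aux
variable {T : Type u} [CommRing T] {ι : Type v} [Fintype ι] [DecidableEq ι]

lemma single_map {T' : Type*} [CommRing T'] (φ : T →+* T') (i : ι) :
    φ ∘ (Pi.single i (1 : T) : ι → T) = Pi.single i 1 := by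
  funext j
  by_cases h : j = i
  · subst h; simp
  · simp [Pi.single_apply, h]

lemma conj_map_mul {T' : Type*} [CommRing T'] (ψ : T →+* T') (W G₁ : Matrix ι ι T)
    (G₂ : Matrix ι ι T') :
    (G₁.map ψ * G₂)ᵀ * W.map ψ * (G₁.map ψ * G₂) = G₂ᵀ * (G₁ᵀ * W * G₁).map ψ * G₂ := by
  rw [Matrix.map_mul, Matrix.map_mul, Matrix.transpose_mul, Matrix.transpose_map]
  simp only [Matrix.mul_assoc]

lemma isUnit_det_map_mul {T' : Type*} [CommRing T'] (ψ : T →+* T') (G₁ : Matrix ι ι T)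
    (G₂ : Matrix ι ι T') (h₁ : IsUnit G₁.det) (h₂ : IsUnit G₂.det) :
    IsUnit (G₁.map ψ * G₂).det := by
  rw [Matrix.det_mul]
  refine IsUnit.mul ?_ h₂
  have : (G₁.map ψ).det = ψ G₁.det := by
    rw [RingHom.map_det]; rfl
  rw [this]
  exact h₁.map ψ

lemma bl_mem_right (I : Ideal T) (W : Matrix ι ι T) (x y : ι → T) (h : ∀ j, y j ∈ I) :
    bl W x y ∈ I := by
  unfold bl
  simp only [dotProduct, Matrix.mulVec]
  refine Ideal.sum_mem _ fun i _ => Ideal.mul_mem_left _ _ ?_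
  exact Ideal.sum_mem _ fun j _ => Ideal.mul_mem_left _ _ (h j)

lemma bl_mem_left (I : Ideal T) (W : Matrix ι ι T) (x y : ι → T) (h : ∀ j, x j ∈ I) :
    bl W x y ∈ I := by
  unfold bl
  simp only [dotProduct]
  exact Ideal.sum_mem _ fun i _ => Ideal.mul_mem_right _ _ (h i)

lemma bf_mem_right (I : Ideal T) (W : Matrix ι ι T) (x y : ι → T) (h : ∀ j, y j ∈ I) :
    bf W x y ∈ I :=
  I.add_mem (bl_mem_right I W x y h) (bl_mem_left I W y x h)

/-- placing a vector with a unit coordinate at a prescribed position of a basis -/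
lemma exists_place (x : ι → T) (a t : ι) (hx : IsUnit (x a)) :
    ∃ G : Matrix ι ι T, IsUnit G.det ∧ G *ᵥ Pi.single t 1 = x ∧
      ∀ j, j ≠ a → j ≠ t → G *ᵥ Pi.single j 1 = Pi.single j 1 := by
  refine ⟨((1 : Matrix ι ι T).updateCol a x).submatrix id (Equiv.swap a t), ?_, ?_, ?_⟩
  · rw [Matrix.det_permute']
    have : ((1 : Matrix ι ι T).updateCol a x).det = x a := by
      rw [← Matrix.cramer_apply, Matrix.cramer_one]; rfl
    rw [this]
    refine IsUnit.mul ?_ hx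
    rcases Int.units_eq_one_or (Equiv.Perm.sign (Equiv.swap a t)) with h | h <;> rw [h] <;> simp
  · funext i
    rw [Matrix.mulVec_single_one]
    simp [Matrix.col_apply, Matrix.submatrix_apply]
  · intro j hja hjt
    funext i
    rw [Matrix.mulVec_single_one]
    simp only [Matrix.col_apply, Matrix.submatrix_apply, id_eq,
      Equiv.swap_apply_of_ne_of_ne hja hjt]
    rw [Matrix.updateCol_ne hja, Matrix.one_apply, Pi.single_apply]

/-- the hyperbolic pair attached to a root of the quadratic equation -/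
lemma exists_hyperbolic_pair (W : Matrix ι ι T) (v w : ι → T) (θ : T)
    (hθ : qf W v * θ * θ + bf W v w * θ + qf W w = 0)
    (hδ : IsUnit (2 * qf W v * θ + bf W v w)) :
    ∃ e f : ι → T, qf W e = 0 ∧ qf W f = 0 ∧ bf W e f = 1 := by
  obtain ⟨δi, hδi⟩ := hδ.exists_left_inv
  obtain ⟨e, he⟩ : ∃ e : ι → T, e = θ • v + w := ⟨_, rfl⟩
  obtain ⟨f₀, hf₀⟩ : ∃ f₀ : ι → T, f₀ = δi • v := ⟨_, rfl⟩
  have hqe : qf W e = 0 := by
    rw [he, qf_add, qf_smul, bf_smul_left]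
    linear_combination hθ
  have hbe : bf W e f₀ = 1 := by
    rw [he, hf₀, bf_smul_right, bf_add_left, bf_smul_left, bf_self, bf_comm W w v]
    linear_combination hδi
  clear he hf₀
  refine ⟨e, f₀ - qf W f₀ • e, hqe, ?_, ?_⟩
  · rw [qf_sub, qf_smul, hqe, bf_smul_right, bf_comm W f₀ e, hbe]; ring
  · rw [bf_sub_right, bf_smul_right, bf_self, hqe, hbe]; ring

end Aux

section Exchange
variable {T : Type u} [CommRing T] {ι : Type v} [Fintype ι] [DecidableEq ι]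

/-- first exchange: make `e` a basis vector -/
theorem exchange_one (W : Matrix ι ι T) (p : PrimeSpectrum T) (e f : ι → T)
    (he : qf W e = 0) (hf : qf W f = 0) (hef : bf W e f = 1) (t₁ : ι) :
    ∃ (T' : Type u) (_ : CommRing T') (φ : T →+* T') (q : PrimeSpectrum T')
      (G : Matrix ι ι T') (f' : ι → T'), Good φ p q ∧ IsUnit G.det ∧
      qf (Gᵀ * W.map φ * G) (Pi.single t₁ 1) = 0 ∧ qf (Gᵀ * W.map φ * G) f' = 0 ∧
      bf (Gᵀ * W.map φ * G) (Pi.single t₁ 1) f' = 1 := by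
  -- some coordinate of `e` is not in `p`
  obtain ⟨a, ha⟩ : ∃ a, e a ∉ p.asIdeal := by
    by_contra hcon
    push Not at hcon
    have h1 : bf W f e ∈ p.asIdeal := bf_mem_right _ W f e hcon
    rw [bf_comm, hef] at h1
    exact p.isPrime.ne_top ((Ideal.eq_top_iff_one _).mpr h1)
  obtain ⟨T', _, φ, q, hg, hu⟩ := good_away p (e a) ha
  obtain ⟨G, hG, hGe, -⟩ := exists_place (φ ∘ e) a t₁ hu
  obtain ⟨Gi, hGi⟩ : ∃ Gi : Matrix ι ι T', G * Gi = 1 :=
    ⟨G⁻¹, Matrix.mul_nonsing_inv G hG⟩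
  refine ⟨T', inferInstance, φ, q, G, Gi *ᵥ (φ ∘ f), hg, hG, ?_, ?_, ?_⟩
  · rw [qf_conj, hGe, qf_map, he, map_zero]
  · rw [qf_conj, Matrix.mulVec_mulVec, hGi, Matrix.one_mulVec, qf_map, hf, map_zero]
  · rw [bf_conj, Matrix.mulVec_mulVec, hGi, Matrix.one_mulVec, hGe, bf_map, hef, map_one]

/-- second exchange: make `f` a basis vector too -/
theorem exchange_two (W : Matrix ι ι T) (p : PrimeSpectrum T) (t₀ t₁ : ι) (ht : t₀ ≠ t₁)
    (f : ι → T) (he : qf W (Pi.single t₁ 1) = 0) (hf : qf W f = 0)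
    (hef : bf W (Pi.single t₁ 1) f = 1) :
    ∃ (T' : Type u) (_ : CommRing T') (φ : T →+* T') (q : PrimeSpectrum T')
      (G : Matrix ι ι T'), Good φ p q ∧ IsUnit G.det ∧
      qf (Gᵀ * W.map φ * G) (Pi.single t₁ 1) = 0 ∧ qf (Gᵀ * W.map φ * G) (Pi.single t₀ 1) = 0 ∧
      bf (Gᵀ * W.map φ * G) (Pi.single t₀ 1) (Pi.single t₁ 1) = 1 := by
  obtain ⟨b, hb1, hb⟩ : ∃ b, b ≠ t₁ ∧ f b ∉ p.asIdeal := by
    by_contra hcon
    push Not at hcon
    set f'' : ι → T := f - f t₁ • Pi.single t₁ 1 with hf''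
    have hmem : ∀ j, f'' j ∈ p.asIdeal := by
      intro j
      by_cases hj : j = t₁
      · subst hj; simp [hf'']
      · simpa [hf'', Pi.single_apply, hj] using hcon j hj
    have h1 : bf W (Pi.single t₁ 1) f'' ∈ p.asIdeal := bf_mem_right _ W _ f'' hmem
    rw [hf'', bf_sub_right, bf_smul_right, bf_self, he, hef, mul_zero, mul_zero, sub_zero] at h1
    exact p.isPrime.ne_top ((Ideal.eq_top_iff_one _).mpr h1)
  obtain ⟨T', _, φ, q, hg, hu⟩ := good_away p (f b) hb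
  obtain ⟨G, hG, hGf, hGo⟩ := exists_place (φ ∘ f) b t₀ hu
  have hGe : G *ᵥ Pi.single t₁ 1 = Pi.single t₁ 1 := hGo t₁ (Ne.symm hb1) (Ne.symm ht)
  refine ⟨T', inferInstance, φ, q, G, hg, hG, ?_, ?_, ?_⟩
  · rw [qf_conj, hGe, ← single_map φ, qf_map, he, map_zero]
  · rw [qf_conj, hGf, qf_map, hf, map_zero]
  · rw [bf_conj, hGf, hGe, ← single_map φ, bf_map, bf_comm, hef, map_one]

/-- a hyperbolic pair can be moved to two prescribed positions, locally -/
theorem exchange (W : Matrix ι ι T) (p : PrimeSpectrum T) (t₀ t₁ : ι) (ht : t₀ ≠ t₁)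
    (e f : ι → T) (he : qf W e = 0) (hf : qf W f = 0) (hef : bf W e f = 1) :
    ∃ (T' : Type u) (_ : CommRing T') (φ : T →+* T') (q : PrimeSpectrum T')
      (G : Matrix ι ι T'), Good φ p q ∧ IsUnit G.det ∧
      qf (Gᵀ * W.map φ * G) (Pi.single t₁ 1) = 0 ∧ qf (Gᵀ * W.map φ * G) (Pi.single t₀ 1) = 0 ∧
      bf (Gᵀ * W.map φ * G) (Pi.single t₀ 1) (Pi.single t₁ 1) = 1 := by
  obtain ⟨T₁, _, φ₁, q₁, G₁, f', hg₁, hG₁, h1, h2, h3⟩ := exchange_one W p e f he hf hef t₁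
  obtain ⟨T₂, _, φ₂, q₂, G₂, hg₂, hG₂, k1, k2, k3⟩ :=
    exchange_two (G₁ᵀ * W.map φ₁ * G₁) q₁ t₀ t₁ ht f' h1 h2 h3
  refine ⟨T₂, inferInstance, φ₂.comp φ₁, q₂, G₁.map φ₂ * G₂, hg₁.comp hg₂,
    isUnit_det_map_mul φ₂ G₁ G₂ hG₁ hG₂, ?_⟩
  have e1 : W.map (φ₂.comp φ₁) = (W.map φ₁).map φ₂ := by
    rw [Matrix.map_map]; rfl
  rw [e1, conj_map_mul]
  exact ⟨k1, k2, k3⟩

end Exchange

end Groth.Agent.Lib.Helper15.QSplit
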