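import Mathlib
import Groth.Agent.Lib.Helper15.QSplit5

/-! Orthogonalisation and the induction step. -/

set_option autoImplicit false
set_option linter.style.haveILetI false

namespace Groth.Agent.Lib.Helper15.QSplit

open Matrix
open Groth.Agent.Lib.Helper2.HalfDisc

universe u v

section Orth
variable {T : Type u} [CommRing T] {κ : Type v} [Fintype κ] [DecidableEq κ]

theorem orthogonalize (W : Matrix (κ ⊕ Fin 2) (κ ⊕ Fin 2) T)
    (h00 : W (Sum.inr 0) (Sum.inr 0) = 0) (h11 : W (Sum.inr 1) (Sum.inr 1) = 0)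
    (h01 : W (Sum.inr 0) (Sum.inr 1) + W (Sum.inr 1) (Sum.inr 0) = 1) :
    ∃ (U : Matrix (κ ⊕ Fin 2) (κ ⊕ Fin 2) T) (W₁ : Matrix κ κ T),
      IsUnit U.det ∧ QEq (Uᵀ * W * U) (bsumS W₁) := by
  obtain ⟨W₁₁, W₁₂, W₂₁, W₂₂, hW⟩ : ∃ (W₁₁ : Matrix κ κ T) (W₁₂ : Matrix κ (Fin 2) T)
      (W₂₁ : Matrix (Fin 2) κ T) (W₂₂ : Matrix (Fin 2) (Fin 2) T),
      W = Matrix.fromBlocks W₁₁ W₁₂ W₂₁ W₂₂ :=
    ⟨_, _, _, _, (Matrix.fromBlocks_toBlocks W).symm⟩
  have e00 : W₂₂ 0 0 = 0 := by rw [hW] at h00; simpa using h00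
  have e11 : W₂₂ 1 1 = 0 := by rw [hW] at h11; simpa using h11
  have e01 : W₂₂ 0 1 + W₂₂ 1 0 = 1 := by rw [hW] at h01; simpa using h01
  let J : Matrix (Fin 2) (Fin 2) T := !![0, 1; 1, 0]
  have hJ : W₂₂ + W₂₂ᵀ = J := by
    ext i j
    fin_cases i <;> fin_cases j
    · simp [J, e00]
    · simpa [J] using e01
    · simpa [J, add_comm] using e01
    · simp [J, e11]
  have hJJ : J * J = 1 := by
    ext i j
    fin_cases i <;> fin_cases j <;> simp [J, Matrix.mul_apply, Fin.sum_univ_two]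
  let S : Matrix κ (Fin 2) T := W₁₂ + W₂₁ᵀ
  let C : Matrix (Fin 2) κ T := -(S * J)ᵀ
  let U : Matrix (κ ⊕ Fin 2) (κ ⊕ Fin 2) T := Matrix.fromBlocks 1 0 C 1
  have hX : Uᵀ * W * U = Matrix.fromBlocks (W₁₁ + Cᵀ * W₂₁ + (W₁₂ + Cᵀ * W₂₂) * C)
      (W₁₂ + Cᵀ * W₂₂) (W₂₁ + W₂₂ * C) W₂₂ := by
    rw [hW]
    simp only [U, Matrix.fromBlocks_transpose, Matrix.fromBlocks_multiply]
    simp
  have hoff : (W₁₂ + Cᵀ * W₂₂) + (W₂₁ + W₂₂ * C)ᵀ = 0 := by
    have : (W₁₂ + Cᵀ * W₂₂) + (W₂₁ + W₂₂ * C)ᵀ = S + Cᵀ * (W₂₂ + W₂₂ᵀ) := by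
      simp only [S, Matrix.transpose_add, Matrix.transpose_mul, Matrix.mul_add]
      abel
    rw [this, hJ]
    simp only [C, Matrix.transpose_neg, Matrix.transpose_transpose, Matrix.neg_mul,
      Matrix.mul_assoc, hJJ, Matrix.mul_one]
    abel
  refine ⟨U, W₁₁ + Cᵀ * W₂₁ + (W₁₂ + Cᵀ * W₂₂) * C, ?_, ?_⟩
  · have : U.det = 1 := by
      simp only [U]
      rw [Matrix.det_fromBlocks_zero₁₂]
      simp
    rw [this]; exact isUnit_one
  · rw [hX]
    refine ⟨fun i => ?_, fun i j => ?_⟩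
    · rcases i with i | i
      · simp [bsumS]
      · fin_cases i
        · simpa [bsumS, Hmat] using e00
        · simpa [bsumS, Hmat] using e11
    · rcases i with i | i <;> rcases j with j | j
      · simp [bsumS]
      · have := congrFun (congrFun hoff i) j
        simp only [Matrix.add_apply, Matrix.transpose_apply, Matrix.zero_apply] at this
        simp only [bsumS, Matrix.fromBlocks_apply₂₁, Matrix.fromBlocks_apply₁₂, Matrix.zero_apply,
          add_zero]
        exact this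
      · have := congrFun (congrFun hoff j) i
        simp only [Matrix.add_apply, Matrix.transpose_apply, Matrix.zero_apply] at this
        simp only [bsumS, Matrix.fromBlocks_apply₂₁, Matrix.fromBlocks_apply₁₂, Matrix.zero_apply,
          add_zero]
        rw [add_comm]; exact this
      · fin_cases i <;> fin_cases j
        · simp [bsumS, Hmat, e00]
        · simpa [bsumS, Hmat] using e01
        · simpa [bsumS, Hmat, add_comm] using e01
        · simp [bsumS, Hmat, e11]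

end Orth

section ND
variable {T : Type u} [CommRing T]

/-- nondegeneracy: unit half-discriminant (odd size) resp. unit polar determinant (even size) -/
def ND {n : ℕ} (W : Matrix (Fin n) (Fin n) T) : Prop :=
  (Odd n → IsUnit (hd W)) ∧ (Even n → IsUnit (W + Wᵀ).det)

lemma ND.map {n : ℕ} {W : Matrix (Fin n) (Fin n) T} (h : ND W) {T' : Type*} [CommRing T']
    (φ : T →+* T') : ND (W.map φ) := by
  refine ⟨fun ho => ?_, fun he => ?_⟩
  · have := hd_map φ W
    rw [RingHom.mapMatrix_apply] at this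
    rw [this]; exact (h.1 ho).map φ
  · have : W.map φ + (W.map φ)ᵀ = φ.mapMatrix (W + Wᵀ) := by
      ext i j; simp
    rw [this, ← RingHom.map_det]
    exact (h.2 he).map φ

lemma polar_conj {ι : Type*} [Fintype ι] (W G : Matrix ι ι T) :
    Gᵀ * W * G + (Gᵀ * W * G)ᵀ = Gᵀ * (W + Wᵀ) * G := by
  simp [Matrix.transpose_mul, Matrix.mul_add, Matrix.add_mul, Matrix.mul_assoc]

lemma ND.conj {n : ℕ} {W : Matrix (Fin n) (Fin n) T} (h : ND W) (G : Matrix (Fin n) (Fin n) T)
    (hG : IsUnit G.det) : ND (Gᵀ * W * G) := by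
  refine ⟨fun ho => ?_, fun he => ?_⟩
  · rw [hd_conj ho]
    exact (hG.pow 2).mul (h.1 ho)
  · rw [polar_conj, Matrix.det_mul, Matrix.det_mul, Matrix.det_transpose]
    exact (hG.mul (h.2 he)).mul hG

lemma ND.of_qeq {n : ℕ} {W W' : Matrix (Fin n) (Fin n) T} (h : ND W) (hq : QEq W W') : ND W' := by
  refine ⟨fun ho => ?_, fun he => ?_⟩
  · rw [← hq.hd_eq]; exact h.1 ho
  · rw [← hq.det_eq]; exact h.2 he

lemma ND.of_bsum {k : ℕ} {W : Matrix (Fin k) (Fin k) T} (h : ND (bsum W)) : ND W := by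
  refine ⟨fun ho => ?_, fun he => ?_⟩
  · have ho2 : Odd (k + 2) := by
      obtain ⟨r, hr⟩ := ho
      exact ⟨r + 1, by omega⟩
    have := h.1 ho2
    rw [hd_bsum ho] at this
    exact (IsUnit.neg_iff _).mp this
  · have he2 : Even (k + 2) := by
      obtain ⟨r, hr⟩ := he
      exact ⟨r + 1, by omega⟩
    have := h.2 he2
    rw [det_polar_bsum] at this
    simpa using this

end ND

end Groth.Agent.Lib.Helper15.QSplit
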