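import Mathlib
import Groth.Agent.Lib.Helper15.QSplit6

/-! The induction: a nondegenerate matrix form is split locally for the fppf topology (pointed version). -/

set_option autoImplicit false
set_option linter.style.haveILetI false

namespace Groth.Agent.Lib.Helper15.QSplit

open Matrix
open Groth.Agent.Lib.Helper2.HalfDisc

universe u

section Step
variable {T : Type u} [CommRing T]

theorem lift_good_pair {n : ℕ} (hn : 2 ≤ n) (W : Matrix (Fin n) (Fin n) T) (hW : ND W)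
    (p : PrimeSpectrum T) : ∃ v w : Fin n → T, qf W v * dd W v w ∉ p.asIdeal := by
  let D₀ := T ⧸ p.asIdeal
  haveI : IsDomain D₀ := Ideal.Quotient.isDomain p.asIdeal
  let mk : T →+* D₀ := Ideal.Quotient.mk p.asIdeal
  have hW' : ND (W.map mk) := hW.map mk
  obtain ⟨v', w', h1, h2⟩ := exists_good_pair hn (W.map mk)
    ⟨fun ho => (hW'.1 ho).ne_zero, fun he => (hW'.2 he).ne_zero⟩
  have hsurj : Function.Surjective mk := Ideal.Quotient.mk_surjective
  choose v hv using fun i => hsurj (v' i)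
  choose w hw using fun i => hsurj (w' i)
  have hv' : mk ∘ v = v' := funext hv
  have hw' : mk ∘ w = w' := funext hw
  refine ⟨v, w, fun hmem => ?_⟩
  rcases p.isPrime.mem_or_mem hmem with h | h
  · apply h1
    rw [← hv', qf_map]
    exact Ideal.Quotient.eq_zero_iff_mem.mpr h
  · apply h2
    rw [← hv', ← hw', dd_map]
    exact Ideal.Quotient.eq_zero_iff_mem.mpr h

theorem step {k : ℕ} (W : Matrix (Fin (k + 2)) (Fin (k + 2)) T) (hW : ND W)
    (p : PrimeSpectrum T) :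
    ∃ (T' : Type u) (_ : CommRing T') (φ : T →+* T') (q : PrimeSpectrum T')
      (G : Matrix (Fin (k + 2)) (Fin (k + 2)) T') (W₁ : Matrix (Fin k) (Fin k) T'),
      Good φ p q ∧ IsUnit G.det ∧ QEq (Gᵀ * W.map φ * G) (bsum W₁) := by
  obtain ⟨v, w, hvw⟩ := lift_good_pair (by omega) W hW p
  obtain ⟨T₁, _, φ₁, q₁, θ, hg₁, -, hθ, hδ⟩ :=
    good_quadratic p (qf W v) (bf W v w) (qf W w) hvw
  rw [← qf_map, ← bf_map, ← qf_map] at hθ
  rw [← qf_map, ← bf_map] at hδ
  obtain ⟨e, f, he, hf, hef⟩ := exists_hyperbolic_pair (W.map φ₁) (φ₁ ∘ v) (φ₁ ∘ w) θ hθ hδ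
  obtain ⟨T₂, _, φ₂, q₂, G, hg₂, hG, k1, k2, k3⟩ :=
    exchange (W.map φ₁) q₁ (Fin.natAdd k 0) (Fin.natAdd k 1) (by simp [Fin.ext_iff]) e f he hf hef
  set W₂ := Gᵀ * (W.map φ₁).map φ₂ * G with hW₂
  rw [qf_single] at k1 k2
  rw [bf_single] at k3
  let ee : Fin k ⊕ Fin 2 ≃ Fin (k + 2) := finSumFinEquiv
  let Ws : Matrix (Fin k ⊕ Fin 2) (Fin k ⊕ Fin 2) T₂ := Matrix.reindex ee.symm ee.symm W₂
  obtain ⟨Us, W₁, hUs, hq⟩ := orthogonalize Ws
    (by simpa [Ws, ee] using k2) (by simpa [Ws, ee] using k1) (by simpa [Ws, ee] using k3)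
  let U : Matrix (Fin (k + 2)) (Fin (k + 2)) T₂ := Matrix.reindex ee ee Us
  have hU : IsUnit U.det := by
    simp only [U]
    rw [Matrix.det_reindex_self]; exact hUs
  have hW₂s : W₂ = Ws.submatrix ee.symm ee.symm := by
    ext i j; simp [Ws]
  have hconj : Uᵀ * W₂ * U = (Usᵀ * Ws * Us).submatrix ee.symm ee.symm := by
    rw [hW₂s]
    simp only [U, Matrix.reindex_apply, Matrix.transpose_submatrix]
    rw [Matrix.submatrix_mul_equiv, Matrix.submatrix_mul_equiv]
  refine ⟨T₂, inferInstance, φ₂.comp φ₁, q₂, G * U, W₁, hg₁.comp hg₂, ?_, ?_⟩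
  · rw [Matrix.det_mul]; exact hG.mul hU
  · have e1 : W.map (φ₂.comp φ₁) = (W.map φ₁).map φ₂ := by
      rw [Matrix.map_map]; rfl
    have e2 : (G * U)ᵀ * W.map (φ₂.comp φ₁) * (G * U) = Uᵀ * W₂ * U := by
      rw [e1, hW₂, Matrix.transpose_mul]
      simp only [Matrix.mul_assoc]
    rw [e2, hconj]
    exact hq.reindex ee

end Step

section Induction

theorem exists_split_pointed : ∀ (n : ℕ) (T : Type u) [CommRing T] (W : Matrix (Fin n) (Fin n) T),
    ND W → ∀ p : PrimeSpectrum T,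
    ∃ (T' : Type u) (_ : CommRing T') (φ : T →+* T') (q : PrimeSpectrum T')
      (G : Matrix (Fin n) (Fin n) T'),
      Good φ p q ∧ IsUnit G.det ∧ QEq (Gᵀ * W.map φ * G) (Wsp T' n) := by
  intro n
  induction n using Nat.twoStepInduction with
  | zero =>
    intro T _ W _ p
    refine ⟨T, inferInstance, RingHom.id T, p, 1, Good.id p, by simp, ?_⟩
    exact ⟨fun i => i.elim0, fun i => i.elim0⟩
  | one =>
    intro T _ W hW p
    have hu : IsUnit (W 0 0) := by
      have := hW.1 (by decide)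
      rwa [hd_one] at this
    have hnp : W 0 0 ∉ p.asIdeal := fun h => p.isPrime.ne_top (Ideal.eq_top_of_isUnit_mem _ h hu)
    obtain ⟨T', _, φ, q, g, hg, hgg⟩ := good_sqrt p (W 0 0) hnp
    refine ⟨T', inferInstance, φ, q, Matrix.of fun _ _ => g, hg, ?_, ?_⟩
    · rw [Matrix.det_fin_one, Matrix.of_apply]
      exact IsUnit.of_mul_eq_one (g * φ (W 0 0)) (by rw [← mul_assoc]; exact hgg)
    · have key : (((Matrix.of fun _ _ => g : Matrix (Fin 1) (Fin 1) T')ᵀ * W.map φ *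
          (Matrix.of fun _ _ => g : Matrix (Fin 1) (Fin 1) T')) : Matrix (Fin 1) (Fin 1) T') 0 0 = 1 := by
        simp [Matrix.mul_apply]
        linear_combination hgg
      refine ⟨fun i => ?_, fun i j => ?_⟩
      · fin_cases i
        simp only [Fin.zero_eta, Fin.isValue]
        rw [key]; simp [Wsp]
      · fin_cases i; fin_cases j
        simp only [Fin.zero_eta, Fin.isValue]
        rw [key]; simp [Wsp]
  | more k ih _ =>
    intro T _ W hW p
    obtain ⟨T₁, _, φ₁, q₁, G, W₁, hg₁, hG, hq⟩ := step W hW p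
    have hW₁ : ND W₁ := ND.of_bsum (((hW.map φ₁).conj G hG).of_qeq hq)
    obtain ⟨T₂, _, φ₂, q₂, G₁, hg₂, hG₁, hq₁⟩ := ih T₁ W₁ hW₁ q₁
    refine ⟨T₂, inferInstance, φ₂.comp φ₁, q₂, G.map φ₂ * gsum G₁, hg₁.comp hg₂,
      isUnit_det_map_mul φ₂ G (gsum G₁) hG (by rw [det_gsum]; exact hG₁), ?_⟩
    have e1 : W.map (φ₂.comp φ₁) = (W.map φ₁).map φ₂ := by
      rw [Matrix.map_map]; rfl
    rw [e1, conj_map_mul]
    have h1 : QEq ((gsum G₁)ᵀ * (Gᵀ * W.map φ₁ * G).map φ₂ * gsum G₁)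
        ((gsum G₁)ᵀ * (bsum W₁).map φ₂ * gsum G₁) := (hq.map φ₂).conj _
    rw [bsum_map, gsum_conj] at h1
    exact h1.trans hq₁.bsum

end Induction

end Groth.Agent.Lib.Helper15.QSplit
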