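import Mathlib
import Groth.Agent.Lib.Helper15.QSplit7

/-! Global fppf splitting of nondegenerate matrix forms. -/

set_option autoImplicit false
set_option linter.style.haveILetI false

namespace Groth.Agent.Lib.Helper15.QSplit

open Matrix
open Groth.Agent.Lib.Helper2.HalfDisc

universe u

section Pi

lemma QEq_pi {ι : Type u} {A : ι → Type u} [∀ i, CommRing (A i)] {n : Type*}
    (X Y : Matrix n n (Π i, A i))
    (h : ∀ i, QEq (X.map (Pi.evalRingHom A i)) (Y.map (Pi.evalRingHom A i))) : QEq X Y := by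
  refine ⟨fun a => ?_, fun a b => ?_⟩
  · funext i
    exact (h i).1 a
  · funext i
    exact (h i).2 a b

end Pi

section Global
variable {R : Type u} [CommRing R]

theorem exists_split_fppf {n : ℕ} (W : Matrix (Fin n) (Fin n) R) (hW : ND W) :
    ∃ (A : Type u) (_ : CommRing A) (_ : Algebra R A), Module.FaithfullyFlat R A ∧
      Algebra.FinitePresentation R A ∧
      ∃ G : Matrix (Fin n) (Fin n) A, IsUnit G.det ∧
        QEq (Gᵀ * W.map (algebraMap R A) * G) (Wsp A n) := by
  apply exists_cover_of_points_fppf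
    (fun A _ _ => ∃ G : Matrix (Fin n) (Fin n) A, IsUnit G.det ∧
        QEq (Gᵀ * W.map (algebraMap R A) * G) (Wsp A n))
  · intro p
    obtain ⟨T', _, φ, q, G, hg, hG, hq⟩ := exists_split_pointed n R W hW p
    letI : Algebra R T' := φ.toAlgebra
    refine ⟨T', inferInstance, inferInstance, hg.1, hg.2.1, ⟨G, hG, hq⟩, ⟨q, hg.2.2⟩⟩
  · intro ι _ _ A _ _ hA
    choose G hG hq using hA
    let GG : Matrix (Fin n) (Fin n) (Π i, A i) := Matrix.of fun a b i => G i a b
    have hGG : ∀ i, GG.map (Pi.evalRingHom A i) = G i := by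
      intro i; ext a b; rfl
    refine ⟨GG, ?_, ?_⟩
    · rw [Pi.isUnit_iff]
      intro i
      have : GG.det i = (G i).det := by
        have := RingHom.map_det (Pi.evalRingHom A i) GG
        rw [RingHom.mapMatrix_apply, hGG] at this
        exact this
      rw [this]; exact hG i
    · apply QEq_pi
      intro i
      rw [Wsp_map, Matrix.map_mul, Matrix.map_mul, Matrix.transpose_map, hGG, Matrix.map_map]
      exact hq i

end Global

section SplitForm
variable {T : Type u} [CommRing T]

/-- extension by zero of a vector to a function on `ℕ` -/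
def ext0 {n : ℕ} (x : Fin n → T) (j : ℕ) : T := if h : j < n then x ⟨j, h⟩ else 0

lemma ext0_of_lt {n : ℕ} (x : Fin n → T) (j : ℕ) (h : j < n) : ext0 x j = x ⟨j, h⟩ := dif_pos h

/-- the split form as a sum over a range -/
def SS (n : ℕ) (xx : ℕ → T) : T :=
  ∑ i ∈ Finset.range (n / 2), xx (2 * i + n % 2) * xx (2 * i + 1 + n % 2) +
    (if n % 2 = 1 then xx 0 * xx 0 else 0)

lemma SS_succ2 (k : ℕ) (xx : ℕ → T) : SS (k + 2) xx = SS k xx + xx k * xx (k + 1) := by
  unfold SS
  have h1 : (k + 2) / 2 = k / 2 + 1 := by omega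
  have h2 : (k + 2) % 2 = k % 2 := by omega
  rw [h1, h2, Finset.sum_range_succ]
  have h3 : 2 * (k / 2) + k % 2 = k := by omega
  have h4 : 2 * (k / 2) + 1 + k % 2 = k + 1 := by omega
  rw [h3, h4]; ring

lemma SS_congr (k : ℕ) (xx yy : ℕ → T) (h : ∀ j, j < k → xx j = yy j) : SS k xx = SS k yy := by
  unfold SS
  congr 1
  · refine Finset.sum_congr rfl fun i hi => ?_
    have hi' := Finset.mem_range.mp hi
    rw [h _ (by omega), h _ (by omega)]
  · split_ifs with hk
    · rw [h 0 (by omega)]
    · rfl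

lemma splitForm_apply (n : ℕ) (x : Fin n → T) : QuadGrp.splitForm T n x = SS n (ext0 x) := by
  unfold QuadGrp.splitForm SS
  rw [QuadraticMap.add_apply, QuadraticMap.sum_apply]
  congr 1
  · rw [← Fin.sum_univ_eq_sum_range (fun i => ext0 x (2 * i + n % 2) * ext0 x (2 * i + 1 + n % 2))]
    refine Finset.sum_congr rfl fun i _ => ?_
    rw [QuadraticMap.linMulLin_apply, LinearMap.proj_apply, LinearMap.proj_apply,
      ext0_of_lt x _ (by omega), ext0_of_lt x _ (by omega)]
  · split_ifs with h
    · rw [QuadraticMap.comp_apply, QuadraticMap.sq_apply, LinearMap.proj_apply,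
        ext0_of_lt x 0 (by omega)]
    · rfl

lemma qf_Wsp (n : ℕ) : ∀ x : Fin n → T, qf (Wsp T n) x = SS n (ext0 x) := by
  induction n using Nat.twoStepInduction with
  | zero =>
    intro x
    simp [qf, bl, SS, Wsp]
  | one =>
    intro x
    simp [qf, bl, SS, Wsp, ext0, dotProduct, Matrix.mulVec]
  | more k ih _ =>
    intro x
    rw [Wsp, qf_bsum, ih, SS_succ2]
    congr 1
    · apply SS_congr
      intro j hj
      rw [ext0_of_lt _ j hj, ext0_of_lt x j (by omega)]
      rfl
    · rw [ext0_of_lt x k (by omega), ext0_of_lt x (k + 1) (by omega)]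
      rfl

theorem qf_Wsp_eq_splitForm (n : ℕ) (x : Fin n → T) : qf (Wsp T n) x = QuadGrp.splitForm T n x := by
  rw [qf_Wsp, splitForm_apply]

end SplitForm

end Groth.Agent.Lib.Helper15.QSplit
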