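import Mathlib
import Groth.Agent.Lib.Helper15.QSplit8
import Groth.Agent.Lib.Helper8.QuadCtr1

/-! fppf-local isometry with the split form, in the language of `QuadGrp`. -/

set_option autoImplicit false
set_option linter.style.haveILetI false

namespace Groth.Agent.Lib.Helper15.QSplit

open Matrix TensorProduct
open Groth.Agent.Lib.Helper2.HalfDisc
open Groth.Agent.Lib.Helper8.QuadCtr (bmat bmat_spec qc qc_apply E baseChangeForm_apply)

universe u

section Final
variable {R : Type u} [CommRing R] {n : ℕ}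

lemma hd_bmat (Q : QuadraticForm R (Fin n → R)) :
    hd (bmat Q) = QuadGrp.halfDisc (Pi.basisFun R (Fin n)) (LinearEquiv.refl R R) Q := by
  unfold hd QuadGrp.halfDisc
  rw [coeffs_eq_cf (Pi.basisFun R (Fin n)) Q (QuadGrp.bilinLift Q) (QuadGrp.bilinLift_spec Q),
    LinearMap.toMatrix₂_basisFun]
  rfl

lemma qf_bmat (Q : QuadraticForm R (Fin n → R)) (x : Fin n → R) : qf (bmat Q) x = Q x :=
  bmat_spec Q x

lemma qeq_bmat_splitForm : QEq (bmat (QuadGrp.splitForm R n)) (Wsp R n) := by
  apply QEq_of_forall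
  intro x
  rw [qf_bmat, qf_Wsp_eq_splitForm]

lemma qc_eq_qf (Q : QuadraticForm R (Fin n → R)) (A : Type u) [CommRing A] [Algebra R A]
    (y : Fin n → A) : qc Q A y = qf ((bmat Q).map (algebraMap R A)) y := by
  rw [qc_apply]; rfl

theorem exists_isometry_split (Q : QuadraticForm R (Fin n → R)) (hW : ND (bmat Q)) :
    ∃ (A : Type u) (_ : CommRing A) (_ : Algebra R A), Module.FaithfullyFlat R A ∧
      Algebra.FinitePresentation R A ∧
      Nonempty ((QuadGrp.baseChangeForm A Q).IsometryEquiv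
        (QuadGrp.baseChangeForm A (QuadGrp.splitForm R n))) := by
  obtain ⟨A, _, _, hff, hfp, G, hG, hq⟩ := exists_split_fppf (bmat Q) hW
  refine ⟨A, inferInstance, inferInstance, hff, hfp, ⟨?_⟩⟩
  letI : Invertible G := G.invertibleOfIsUnitDet hG
  let L : (Fin n → A) ≃ₗ[A] (Fin n → A) := Matrix.toLinearEquiv' G inferInstance
  have hL : ∀ y, L y = G *ᵥ y := fun y => by
    change Matrix.toLin' G y = G *ᵥ y
    rw [Matrix.toLin'_apply]
  let f : (A ⊗[R] (Fin n → R)) ≃ₗ[A] (A ⊗[R] (Fin n → R)) :=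
    (E (R := R) (n := n) A).trans (L.symm.trans (E (R := R) (n := n) A).symm)
  refine { toLinearEquiv := f, map_app' := fun z => ?_ }
  change QuadGrp.baseChangeForm A (QuadGrp.splitForm R n) (f z) = QuadGrp.baseChangeForm A Q z
  rw [baseChangeForm_apply, baseChangeForm_apply, qc_eq_qf, qc_eq_qf]
  have hf : E (R := R) (n := n) A (f z) = L.symm (E (R := R) (n := n) A z) := by
    simp [f]
  rw [hf]
  set y := L.symm (E (R := R) (n := n) A z) with hy
  have hGy : G *ᵥ y = E (R := R) (n := n) A z := by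
    rw [← hL, hy, LinearEquiv.apply_symm_apply]
  rw [← hGy, ← qf_conj, hq.qf_eq, ((qeq_bmat_splitForm (R := R) (n := n)).map (algebraMap R A)).qf_eq,
    Wsp_map]

theorem isometry_split_odd (m : ℕ) (Q : QuadraticForm R (Fin (2 * m + 1) → R))
    (hQ : QuadGrp.IsSemiregular (Pi.basisFun R (Fin (2 * m + 1))) (LinearEquiv.refl R R) Q) :
    ∃ (A : Type u) (_ : CommRing A) (_ : Algebra R A), Module.FaithfullyFlat R A ∧
      Algebra.FinitePresentation R A ∧
      Nonempty ((QuadGrp.baseChangeForm A Q).IsometryEquiv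
        (QuadGrp.baseChangeForm A (QuadGrp.splitForm R (2 * m + 1)))) := by
  apply exists_isometry_split
  refine ⟨fun _ => ?_, fun he => ?_⟩
  · rw [hd_bmat]; exact hQ
  · exfalso
    obtain ⟨r, hr⟩ := he
    omega

end Final

end Groth.Agent.Lib.Helper15.QSplit
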