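import Mathlib
import Groth.Agent.Lib.Helper15.ClBC
import Groth.Agent.Lib.Helper15.ClOdd4
import Groth.Agent.Lib.Helper15.QSplit9

/-! fppf-local splitting data for a quadratic form on a free module with basis. -/

set_option autoImplicit false
set_option linter.style.haveILetI false

namespace Groth.Agent.Lib.Helper15.Cl

open CliffordAlgebra TensorProduct Matrix
open Groth.Agent.Lib.Helper15.QSplit
open Groth.Agent.Lib.Helper2.HalfDisc

universe u v

section Setup
variable {R : Type u} [CommRing R] {M : Type v} [AddCommGroup M] [Module R M]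

lemma qf_toMatrix₂ {n : ℕ} (b : Module.Basis (Fin n) R M) (B : LinearMap.BilinMap R M R) (m : M) :
    qf (LinearMap.toMatrix₂ b b B) (b.repr m) = B m m := by
  have := apply_eq_dotProduct_toMatrix₂_mulVec (b₁ := b) (b₂ := b) B m m
  rw [this]
  rfl

theorem exists_split_data {n : ℕ} (b : Module.Basis (Fin n) R M) (Q : QuadraticForm R M)
    (B : LinearMap.BilinMap R M R) (hB : B.toQuadraticMap = Q)
    (hND : ND (LinearMap.toMatrix₂ b b B)) :
    ∃ (R' : Type u) (_ : CommRing R') (_ : Algebra R R'), Module.FaithfullyFlat R R' ∧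
      Algebra.FinitePresentation R R' ∧
      ∃ g : M →ₗ[R] (Fin n → R'), (∀ m, Qm (Wsp R' n) (g m) = algebraMap R R' (Q m)) ∧
        Submodule.span R' (Set.range g) = ⊤ := by
  obtain ⟨A, _, _, hff, hfp, G, hG, hq⟩ := exists_split_fppf _ hND
  refine ⟨A, inferInstance, inferInstance, hff, hfp, ?_⟩
  letI : Invertible G := G.invertibleOfIsUnitDet hG
  let L : (Fin n → A) →ₗ[A] (Fin n → A) := Matrix.toLin' G⁻¹
  have hL : ∀ y, L y = G⁻¹ *ᵥ y := fun y => by
    change Matrix.toLin' G⁻¹ y = G⁻¹ *ᵥ y
    rw [Matrix.toLin'_apply]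
  let c : (Fin n → R) →ₗ[R] (Fin n → A) := (Algebra.linearMap R A).compLeft (Fin n)
  have hc : ∀ x, c x = algebraMap R A ∘ x := fun x => rfl
  let g : M →ₗ[R] (Fin n → A) := (L.restrictScalars R) ∘ₗ c ∘ₗ b.equivFun.toLinearMap
  have hg : ∀ m, g m = G⁻¹ *ᵥ (algebraMap R A ∘ (b.repr m)) := fun m => by
    change L (c (b.equivFun m)) = _
    rw [hL, hc]
    rfl
  refine ⟨g, fun m => ?_, ?_⟩
  · rw [Qm_apply, ← hq.qf_eq, qf_conj, hg, Matrix.mulVec_mulVec, Matrix.mul_inv_of_invertible,
      Matrix.one_mulVec, qf_map, qf_toMatrix₂, ← hB]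
    rfl
  · rw [eq_top_iff]
    intro v _
    have hv : v = ∑ i, (G *ᵥ v) i • g (b i) := by
      have h1 : ∀ i, g (b i) = L (Pi.single i 1) := by
        intro i
        change L (c (b.equivFun (b i))) = _
        congr 1
        rw [hc]
        funext j
        change algebraMap R A (b.equivFun (b i) j) = _
        rw [Module.Basis.equivFun_self, Pi.single_apply]
        by_cases h : i = j
        · rw [if_pos h, if_pos h.symm, map_one]
        · rw [if_neg h, if_neg (Ne.symm h), map_zero]
      simp_rw [h1, ← map_smul, ← map_sum]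
      have h2 : ∑ i, (G *ᵥ v) i • (Pi.single i 1 : Fin n → A) = G *ᵥ v := by
        funext j
        simp [Pi.single_apply]
      rw [h2, hL, Matrix.mulVec_mulVec, Matrix.inv_mul_of_invertible, Matrix.one_mulVec]
    rw [hv]
    exact Submodule.sum_mem _ fun i _ => Submodule.smul_mem _ _ (Submodule.subset_span ⟨_, rfl⟩)

end Setup

end Groth.Agent.Lib.Helper15.Cl
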