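import Mathlib
import Groth.Agent.Lib.Helper15.ClSetup
import Groth.Agent.Lib.Helper15.ClDesc
import Groth.Agent.Lib.Helper15.ClOdd2

/-! The centre of an odd-rank semiregular Clifford algebra, by fppf descent from the split case. -/

set_option autoImplicit false
set_option linter.style.haveILetI false

namespace Groth.Agent.Lib.Helper15.Cl

open CliffordAlgebra TensorProduct Matrix
open Groth.Agent.Lib.Helper15.QSplit

universe u v w

section Gen
variable {R : Type u} [CommRing R] {M : Type v} [AddCommGroup M] [Module R M]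
  (Q : QuadraticForm R M)

lemma decomp_unique {a₀ a₁ b₀ b₁ : CliffordAlgebra Q} (ha₀ : a₀ ∈ evenOdd Q 0)
    (ha₁ : a₁ ∈ evenOdd Q 1) (hb₀ : b₀ ∈ evenOdd Q 0) (hb₁ : b₁ ∈ evenOdd Q 1)
    (h : a₀ + a₁ = b₀ + b₁) : a₀ = b₀ ∧ a₁ = b₁ := by
  have h1 : a₀ - b₀ = b₁ - a₁ := by
    rw [sub_eq_sub_iff_add_eq_add, h, add_comm]
  have h2 : a₀ - b₀ = 0 := by
    apply eq_zero_of_mem_both Q _ (Submodule.sub_mem _ ha₀ hb₀)
    rw [h1]; exact Submodule.sub_mem _ hb₁ ha₁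
  refine ⟨sub_eq_zero.mp h2, ?_⟩
  rw [h2] at h1
  exact (sub_eq_zero.mp h1.symm).symm

lemma mem_even_iff (x : CliffordAlgebra Q) : x ∈ even Q ↔ x ∈ evenOdd Q 0 := by
  rw [← SetLike.mem_coe, ← Subalgebra.coe_toSubmodule, even_toSubmodule]; rfl

/-- homogeneous components of central elements are central -/
theorem center_decomp (ζ : CliffordAlgebra Q) (hζ : ζ ∈ Subalgebra.center R (CliffordAlgebra Q)) :
    ∃ ζ₀ ∈ evenOdd Q 0, ∃ ζ₁ ∈ evenOdd Q 1, ζ₀ ∈ Subalgebra.center R (CliffordAlgebra Q) ∧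
      ζ₁ ∈ Subalgebra.center R (CliffordAlgebra Q) ∧ ζ₀ + ζ₁ = ζ := by
  obtain ⟨ζ₀, h₀, ζ₁, h₁, rfl⟩ := exists_decomp Q ζ
  rw [Subalgebra.mem_center_iff] at hζ
  have key : ∀ d : ZMod 2, ∀ x ∈ evenOdd Q d, x * ζ₀ = ζ₀ * x ∧ x * ζ₁ = ζ₁ * x := by
    intro d x hx
    have e := hζ x
    rw [mul_add, add_mul] at e
    have m1 : x * ζ₀ ∈ evenOdd Q (d + 0) := SetLike.mul_mem_graded hx h₀
    have m2 : x * ζ₁ ∈ evenOdd Q (d + 1) := SetLike.mul_mem_graded hx h₁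
    have m3 : ζ₀ * x ∈ evenOdd Q (0 + d) := SetLike.mul_mem_graded h₀ hx
    have m4 : ζ₁ * x ∈ evenOdd Q (1 + d) := SetLike.mul_mem_graded h₁ hx
    rcases zmod2_cases d with rfl | rfl
    · exact decomp_unique Q m1 m2 m3 m4 e
    · have e' : x * ζ₁ + x * ζ₀ = ζ₁ * x + ζ₀ * x := by rw [add_comm, e, add_comm]
      have := decomp_unique Q (a₀ := x * ζ₁) (a₁ := x * ζ₀) (b₀ := ζ₁ * x) (b₁ := ζ₀ * x)
        m2 m1 m4 m3 e'
      exact ⟨this.2, this.1⟩
  refine ⟨ζ₀, h₀, ζ₁, h₁, ?_, ?_, rfl⟩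
  · rw [Subalgebra.mem_center_iff]
    intro x
    obtain ⟨x₀, hx₀, x₁, hx₁, rfl⟩ := exists_decomp Q x
    rw [add_mul, mul_add, (key 0 x₀ hx₀).1, (key 1 x₁ hx₁).1]
  · rw [Subalgebra.mem_center_iff]
    intro x
    obtain ⟨x₀, hx₀, x₁, hx₁, rfl⟩ := exists_decomp Q x
    rw [add_mul, mul_add, (key 0 x₀ hx₀).2, (key 1 x₁ hx₁).2]

theorem adjoin_ι_basis {κ : Type*} [Fintype κ] (b : Module.Basis κ R M) :
    Algebra.adjoin R (Set.range fun k => ι Q (b k)) = ⊤ := by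
  rw [eq_top_iff, ← CliffordAlgebra.adjoin_range_ι, Algebra.adjoin_le_iff]
  rintro _ ⟨m, rfl⟩
  rw [← b.sum_repr m, map_sum]
  refine Subalgebra.sum_mem _ fun k _ => ?_
  rw [map_smul]
  exact Subalgebra.smul_mem _ (Algebra.subset_adjoin (Set.mem_range_self k)) _

end Gen

section Desc
variable {R : Type u} [CommRing R] {M : Type v} [AddCommGroup M] [Module R M]
  {R' : Type w} [CommRing R'] [Algebra R R'] {M' : Type*} [AddCommGroup M'] [Module R' M']
  [Module R M'] [IsScalarTower R R' M']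
  {n : ℕ} (b : Module.Basis (Fin n) R M) (b' : Module.Basis (Fin n) R' M')
  (Q : QuadraticForm R M) (Q' : QuadraticForm R' M')
  (g : M →ₗ[R] M') (hg : ∀ m, Q' (g m) = algebraMap R R' (Q m))
  (hspan : Submodule.span R' (Set.range g) = ⊤)

include hspan in
theorem jj_mem_center (z : CliffordAlgebra Q) (hz : z ∈ Subalgebra.center R (CliffordAlgebra Q)) :
    jj Q Q' g hg z ∈ Subalgebra.center R' (CliffordAlgebra Q') := by
  rw [Subalgebra.mem_center_iff] at hz ⊢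
  intro y
  obtain ⟨t, rfl⟩ := Ψ_surjective Q Q' g hg hspan y
  induction t using TensorProduct.induction_on with
  | zero => simp
  | tmul a x => rw [Ψ_tmul, smul_mul_assoc, mul_smul_comm, ← map_mul, ← map_mul, hz]
  | add x y hx hy => rw [map_add, add_mul, mul_add, hx, hy]

variable [Module.FaithfullyFlat R R']

include b b' hspan hg in
theorem even_center_scalar
    (cen0' : ∀ z ∈ Subalgebra.center R' (CliffordAlgebra Q'), z ∈ evenOdd Q' 0 →
      z ∈ (algebraMap R' (CliffordAlgebra Q')).range)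
    (z : CliffordAlgebra Q) (hz : z ∈ Subalgebra.center R (CliffordAlgebra Q))
    (hz0 : z ∈ evenOdd Q 0) : z ∈ (algebraMap R (CliffordAlgebra Q)).range := by
  haveI : Module.Free R M := Module.Free.of_basis b
  obtain ⟨r', hr'⟩ := cen0' _ (jj_mem_center Q Q' g hg hspan z hz) (jj_mem_evenOdd Q Q' g hg 0 z hz0)
  have h1 : Ψ Q Q' g hg (1 ⊗ₜ z) = Ψ Q Q' g hg (r' ⊗ₜ 1) := by
    rw [Ψ_tmul, Ψ_tmul, one_smul, map_one, ← hr', Algebra.algebraMap_eq_smul_one]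
  have h2 := (Ψ_bijective Q Q' g hg b b' hspan).1 h1
  have h3 := congrArg (fun t => TensorProduct.rid R R' (LinearMap.lTensor R' (retr1 Q) t)) h2
  simp only [LinearMap.lTensor_tmul, TensorProduct.rid_tmul, retr1_one, one_smul] at h3
  refine ⟨retr1 Q z, ?_⟩
  apply Module.FaithfullyFlat.tensorProduct_mk_injective (A := R) (B := R') (CliffordAlgebra Q)
  change (1 : R') ⊗ₜ[R] (algebraMap R (CliffordAlgebra Q) (retr1 Q z)) = 1 ⊗ₜ z
  rw [h2, ← h3, Algebra.algebraMap_eq_smul_one, TensorProduct.smul_tmul]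

include b b' hspan hg in
theorem star_odd_center (ε : R)
    (star1' : ∀ z ∈ Subalgebra.center R' (CliffordAlgebra Q'), z ∈ evenOdd Q' 1 →
      star z = (algebraMap R R' ε) • z)
    (z : CliffordAlgebra Q) (hz : z ∈ Subalgebra.center R (CliffordAlgebra Q))
    (hz1 : z ∈ evenOdd Q 1) : star z = ε • z := by
  apply jj_injective Q Q' g hg b b' hspan
  rw [jj_star, star1' _ (jj_mem_center Q Q' g hg hspan z hz) (jj_mem_evenOdd Q Q' g hg 1 z hz1),
    map_smul, algebraMap_smul]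

include b b' hspan hg in
theorem exists_odd_central_family
    (cen0' : ∀ z ∈ Subalgebra.center R' (CliffordAlgebra Q'), z ∈ evenOdd Q' 0 →
      z ∈ (algebraMap R' (CliffordAlgebra Q')).range)
    (cen1' : ∃ z' : CliffordAlgebra Q', z' ∈ Subalgebra.center R' (CliffordAlgebra Q') ∧
      z' ∈ evenOdd Q' 1 ∧ z' * z' = 1 ∧
      ∀ z ∈ Subalgebra.center R' (CliffordAlgebra Q'), z ∈ evenOdd Q' 1 → ∃ r : R', z = r • z') :
    ∃ (N : ℕ) (c : Fin N → R) (z w : Fin N → CliffordAlgebra Q),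
      (∀ i, z i ∈ Subalgebra.center R (CliffordAlgebra Q) ∧ z i ∈ evenOdd Q 1) ∧
      (∀ i, w i ∈ Subalgebra.center R (CliffordAlgebra Q) ∧ w i ∈ evenOdd Q 1) ∧
      ∑ i, c i • (z i * w i) = 1 := by
  classical
  haveI : Module.Free R M := Module.Free.of_basis b
  haveI : Module.Free R' M' := Module.Free.of_basis b'
  obtain ⟨z', hz'c, hz'1, hz'sq, hz'gen⟩ := cen1'
  have hbij := Ψ_bijective Q Q' g hg b b' hspan
  obtain ⟨t, ht⟩ := hbij.2 z'
  have htc : ∀ k, t * (1 ⊗ₜ ι Q (b k)) = (1 ⊗ₜ ι Q (b k)) * t := by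
    intro k
    apply hbij.1
    rw [map_mul, map_mul, ht, Ψ_tmul, one_smul]
    exact ((Subalgebra.mem_center_iff.mp hz'c) _).symm
  have hts := center_descent (fun k => ι Q (b k)) R' (adjoin_ι_basis Q b) t htc
  let Z1 : Set (CliffordAlgebra Q) :=
    {z | z ∈ Subalgebra.center R (CliffordAlgebra Q) ∧ z ∈ evenOdd Q 1}
  let S : Submodule R' (CliffordAlgebra Q') := Submodule.span R' ((jj Q Q' g hg) '' Z1)
  have hS1 : S ≤ evenOdd Q' 1 := Submodule.span_le.mpr (by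
    rintro _ ⟨z, hz, rfl⟩
    exact jj_mem_evenOdd Q Q' g hg 1 z hz.2)
  have hdec : ∀ t ∈ Submodule.span R' {y : R' ⊗[R] CliffordAlgebra Q |
        ∃ z ∈ Subalgebra.center R (CliffordAlgebra Q), y = 1 ⊗ₜ z},
      ∃ y₀ ∈ evenOdd Q' 0, ∃ y₁ ∈ S, Ψ Q Q' g hg t = y₀ + y₁ := by
    intro t ht
    induction ht using Submodule.span_induction with
    | mem x hx =>
      obtain ⟨ζ, hζ, rfl⟩ := hx
      obtain ⟨ζ₀, h₀, ζ₁, h₁, hc₀, hc₁, rfl⟩ := center_decomp Q ζ hζ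
      refine ⟨jj Q Q' g hg ζ₀, jj_mem_evenOdd Q Q' g hg 0 ζ₀ h₀, jj Q Q' g hg ζ₁,
        Submodule.subset_span ⟨ζ₁, ⟨hc₁, h₁⟩, rfl⟩, ?_⟩
      rw [Ψ_tmul, one_smul, map_add]
    | zero => exact ⟨0, Submodule.zero_mem _, 0, Submodule.zero_mem _, by simp⟩
    | add x y _ _ hx hy =>
      obtain ⟨x₀, hx₀, x₁, hx₁, ex⟩ := hx
      obtain ⟨y₀, hy₀, y₁, hy₁, ey⟩ := hy
      exact ⟨x₀ + y₀, Submodule.add_mem _ hx₀ hy₀, x₁ + y₁, Submodule.add_mem _ hx₁ hy₁, by
        rw [map_add, ex, ey]; abel⟩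
    | smul a x _ hx =>
      obtain ⟨x₀, hx₀, x₁, hx₁, ex⟩ := hx
      exact ⟨a • x₀, Submodule.smul_mem _ _ hx₀, a • x₁, Submodule.smul_mem _ _ hx₁, by
        rw [map_smul, ex, smul_add]⟩
  obtain ⟨y₀, hy₀, y₁, hy₁, e⟩ := hdec t hts
  rw [ht] at e
  have hz'S : z' ∈ S := by
    have h0 : y₀ = 0 := by
      apply eq_zero_of_mem_both Q' _ hy₀
      have : y₀ = z' - y₁ := by rw [e]; abel
      rw [this]; exact Submodule.sub_mem _ hz'1 (hS1 hy₁)
    rw [e, h0, zero_add]; exact hy₁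
  let J : Set R' := {s | ∃ z ∈ Z1, jj Q Q' g hg z = s • z'}
  have hI' : ∀ y ∈ S, ∃ s ∈ Ideal.span J, y = s • z' := by
    intro y hy
    induction hy using Submodule.span_induction with
    | mem x hx =>
      obtain ⟨z, hz, rfl⟩ := hx
      obtain ⟨s, hs⟩ := hz'gen _ (jj_mem_center Q Q' g hg hspan z hz.1)
        (jj_mem_evenOdd Q Q' g hg 1 z hz.2)
      exact ⟨s, Ideal.subset_span ⟨z, hz, hs⟩, hs⟩
    | zero => exact ⟨0, Ideal.zero_mem _, by simp⟩
    | add x y _ _ hx hy =>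
      obtain ⟨s, hs, rfl⟩ := hx
      obtain ⟨s', hs', rfl⟩ := hy
      exact ⟨s + s', Ideal.add_mem _ hs hs', by rw [add_smul]⟩
    | smul a x _ hx =>
      obtain ⟨s, hs, rfl⟩ := hx
      exact ⟨a * s, Ideal.mul_mem_left _ _ hs, by rw [mul_smul]⟩
  obtain ⟨s, hs, hsz⟩ := hI' z' hz'S
  have hs1 : s = 1 := by
    apply algebraMap_injective Q'
    have h1 : algebraMap R' (CliffordAlgebra Q') s = (s • z') * z' := by
      rw [smul_mul_assoc, hz'sq, Algebra.algebraMap_eq_smul_one]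
    rw [h1, ← hsz, hz'sq, map_one]
  have hJtop : Ideal.span J = ⊤ := by
    rw [Ideal.eq_top_iff_one, ← hs1]; exact hs
  let Gn : Set R := {r | ∃ z ∈ Z1, ∃ w ∈ Z1, z * w = algebraMap R (CliffordAlgebra Q) r}
  have hJJ : Ideal.span J * Ideal.span J ≤ (Ideal.span Gn).map (algebraMap R R') := by
    rw [Ideal.span_mul_span', Ideal.span_le]
    rintro _ ⟨s₁, ⟨z₁, hz₁, e₁⟩, s₂, ⟨z₂, hz₂, e₂⟩, rfl⟩
    have hc : z₁ * z₂ ∈ Subalgebra.center R (CliffordAlgebra Q) :=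
      Subalgebra.mul_mem _ hz₁.1 hz₂.1
    have he : z₁ * z₂ ∈ evenOdd Q 0 := by
      have := SetLike.mul_mem_graded (A := evenOdd Q) hz₁.2 hz₂.2
      exact this
    obtain ⟨r, hr⟩ := even_center_scalar b b' Q Q' g hg hspan cen0' _ hc he
    have hrs : algebraMap R R' r = s₁ * s₂ := by
      apply algebraMap_injective Q'
      rw [← IsScalarTower.algebraMap_apply R R' (CliffordAlgebra Q'),
        ← AlgHom.commutes (jj Q Q' g hg), hr, map_mul, e₁, e₂, smul_mul_smul_comm, hz'sq,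
        Algebra.algebraMap_eq_smul_one]
    change s₁ * s₂ ∈ Ideal.map (algebraMap R R') (Ideal.span Gn)
    rw [← hrs]
    exact Ideal.mem_map_of_mem _ (Ideal.subset_span ⟨z₁, hz₁, z₂, hz₂, hr.symm⟩)
  have hItop : Ideal.span Gn = ⊤ := by
    have h1 : (Ideal.span Gn).map (algebraMap R R') = ⊤ := by
      rw [eq_top_iff]
      calc (⊤ : Ideal R') = Ideal.span J * Ideal.span J := by rw [hJtop, Ideal.mul_top]
        _ ≤ _ := hJJ
    rw [← Ideal.comap_map_eq_self_of_faithfullyFlat (B := R') (Ideal.span Gn), h1, Ideal.comap_top]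
  have h1 : (1 : R) ∈ Submodule.span R Gn := by
    change (1 : R) ∈ Ideal.span Gn
    rw [hItop]; trivial
  obtain ⟨N, c, r, hsum⟩ := Submodule.mem_span_set'.mp h1
  choose z hz w hw hzw using fun i => (r i).2
  refine ⟨N, c, z, w, hz, hw, ?_⟩
  rw [← map_one (algebraMap R (CliffordAlgebra Q)), ← hsum, map_sum]
  refine Finset.sum_congr rfl fun i _ => ?_
  rw [hzw, smul_eq_mul, map_mul, Algebra.smul_def]

end Desc

end Groth.Agent.Lib.Helper15.Cl
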