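import Mathlib
import Groth.Agent.Lib.Helper15.ClOdd4

/-! The Clifford algebra of the split form of even rank `2m` is `M_{2^m}`. -/

set_option autoImplicit false
set_option linter.style.haveILetI false

namespace Groth.Agent.Lib.Helper15.Cl

open CliffordAlgebra Matrix
open Groth.Agent.Lib.Helper15.QSplit

universe u

section
variable (R : Type u) [CommRing R]

/-- the Clifford algebra of the zero module -/
noncomputable def zeroEquiv : R ≃ₐ[R] CliffordAlgebra (Qm (Wsp R 0)) :=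
  AlgEquiv.ofBijective (Algebra.ofId R (CliffordAlgebra (Qm (Wsp R 0)))) (by
    constructor
    · exact algebraMap_injective (Qm (Wsp R 0))
    · rw [← AlgHom.range_eq_top, eq_top_iff, ← CliffordAlgebra.adjoin_range_ι, Algebra.adjoin_le_iff]
      rintro _ ⟨v, rfl⟩
      have : v = 0 := Subsingleton.elim _ _
      rw [this, map_zero]
      exact Subalgebra.zero_mem _)

theorem full_Wsp_even : ∀ n : ℕ, n % 2 = 0 →
    Nonempty (CliffordAlgebra (Qm (Wsp R n)) ≃ₐ[R] Matrix (Fin (2 ^ (n / 2))) (Fin (2 ^ (n / 2))) R) := by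
  intro n
  induction n using Nat.twoStepInduction with
  | zero =>
    intro _
    exact ⟨(zeroEquiv R).symm.trans (scalarEquiv R)⟩
  | one => intro h; omega
  | more k ih _ =>
    intro h
    have hk : k % 2 = 0 := by omega
    obtain ⟨E⟩ := ih hk
    have hpow : 2 * 2 ^ (k / 2) = 2 ^ ((k + 2) / 2) := by
      have : (k + 2) / 2 = k / 2 + 1 := by omega
      rw [this, pow_succ]; ring
    exact ⟨(ΦE (Wsp R k)).trans (E.mapMatrix.trans
      ((Matrix.compAlgEquiv (Fin 2) (Fin (2 ^ (k / 2))) R R).trans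
      (Matrix.reindexAlgEquiv R R (finProdFinEquiv.trans (finCongr hpow)))))⟩

/-- matrices over a product are products of matrices -/
noncomputable def prodMatrixEquiv (n : Type*) [Fintype n] [DecidableEq n] (B B' : Type*)
    [Ring B] [Ring B'] [Algebra R B] [Algebra R B'] :
    Matrix n n (B × B') ≃ₐ[R] (Matrix n n B × Matrix n n B') :=
  AlgEquiv.ofBijective
    (AlgHom.prod (AlgHom.mapMatrix (AlgHom.fst R B B')) (AlgHom.mapMatrix (AlgHom.snd R B B'))) (by
    constructor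
    · intro X Y hXY
      ext i j
      · have := congrFun (congrFun (congrArg Prod.fst hXY) i) j
        exact this
      · have := congrFun (congrFun (congrArg Prod.snd hXY) i) j
        exact this
    · rintro ⟨Y, Y'⟩
      refine ⟨Matrix.of fun i j => (Y i j, Y' i j), ?_⟩
      ext i j <;> rfl)

lemma Wsp_succ2 (k : ℕ) : Wsp R (k + 2) = bsum (Wsp R k) := rfl

lemma zero_surj (c : CliffordAlgebra (Qm (Wsp R 0))) : ∃ r : R, algebraMap R _ r = c :=
  (zeroEquiv R).surjective c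

lemma zero_odd (c : CliffordAlgebra (Qm (Wsp R 0))) (hc : c ∈ evenOdd (Qm (Wsp R 0)) 1) : c = 0 := by
  obtain ⟨r, rfl⟩ := zero_surj R c
  exact eq_zero_of_mem_both _ _ (SetLike.algebraMap_mem_graded _ r) hc

/-- diagonal matrices with scalar entries -/
noncomputable def dg2 : R × R →ₐ[R] Matrix (Fin 2) (Fin 2) (CliffordAlgebra (Qm (Wsp R 0))) where
  toFun p := Matrix.diagonal ![algebraMap R _ p.1, algebraMap R _ p.2]
  map_one' := by
    ext i j; fin_cases i <;> fin_cases j <;> simp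
  map_mul' p q := by
    ext i j; fin_cases i <;> fin_cases j <;> simp
  map_zero' := by
    ext i j; fin_cases i <;> fin_cases j <;> simp
  map_add' p q := by
    ext i j; fin_cases i <;> fin_cases j <;> simp
  commutes' r := by
    ext i j; fin_cases i <;> fin_cases j <;> simp [Matrix.algebraMap_matrix_apply]

lemma dg2_apply (p : R × R) :
    dg2 R p = Matrix.diagonal ![algebraMap R _ p.1, algebraMap R _ p.2] := rfl

lemma dg2_mem (p : R × R) : dg2 R p ∈ Gr (Qm (Wsp R 0)) 0 := by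
  intro i j
  rw [dg2_apply]
  fin_cases i <;> fin_cases j
  · simpa using SetLike.algebraMap_mem_graded (evenOdd (Qm (Wsp R 0))) p.1
  · simp
  · simp
  · have h11 : (1 : ZMod 2) + 1 = 0 := rfl
    simpa [h11] using SetLike.algebraMap_mem_graded (evenOdd (Qm (Wsp R 0))) p.2

lemma mem_range_dg2 (X : Matrix (Fin 2) (Fin 2) (CliffordAlgebra (Qm (Wsp R 0))))
    (hX : X ∈ Gr (Qm (Wsp R 0)) 0) : ∃ p, dg2 R p = X := by
  obtain ⟨a, ha⟩ := zero_surj R (X 0 0)
  obtain ⟨b, hb⟩ := zero_surj R (X 1 1)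
  have h01 : X 0 1 = 0 := zero_odd R _ (by simpa using hX 0 1)
  have h10 : X 1 0 = 0 := zero_odd R _ (by simpa using hX 1 0)
  refine ⟨(a, b), ?_⟩
  rw [dg2_apply]
  ext i j
  fin_cases i <;> fin_cases j <;> simp [ha, hb, h01, h10]

theorem even_two : Nonempty (↥(even (Qm (Wsp R 2))) ≃ₐ[R] R × R) := by
  let W₀ := Wsp R 0
  let h0 : R × R →ₐ[R] CliffordAlgebra (Qm (Wsp R 2)) :=
    (ΦE W₀).symm.toAlgHom.comp (dg2 R)
  have hmem : ∀ p, h0 p ∈ even (Qm (Wsp R 2)) := by
    intro p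
    rw [← SetLike.mem_coe, ← Subalgebra.coe_toSubmodule, even_toSubmodule, SetLike.mem_coe]
    have := (ΦE_mem_Gr_iff W₀ 0 ((ΦE W₀).symm (dg2 R p))).mp (by
      rw [AlgEquiv.apply_symm_apply]; exact dg2_mem R p)
    exact this
  let h : R × R →ₐ[R] ↥(even (Qm (Wsp R 2))) := h0.codRestrict _ hmem
  have hbij : Function.Bijective h := by
    constructor
    · intro p q hpq
      have h1 : h0 p = h0 q := congrArg Subtype.val hpq
      have h2 : dg2 R p = dg2 R q := (ΦE W₀).symm.injective h1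
      rw [dg2_apply, dg2_apply] at h2
      have e0 := congrFun (congrFun h2 0) 0
      have e1 := congrFun (congrFun h2 1) 1
      simp only [Matrix.diagonal_apply_eq, Matrix.cons_val_zero, Matrix.cons_val_one] at e0 e1
      exact Prod.ext (algebraMap_injective (Qm (Wsp R 0)) e0)
        (algebraMap_injective (Qm (Wsp R 0)) e1)
    · intro x
      have hx : (x : CliffordAlgebra (Qm (Wsp R 2))) ∈ evenOdd (Qm (Wsp R 2)) 0 := by
        have := x.2
        rwa [← SetLike.mem_coe, ← Subalgebra.coe_toSubmodule, even_toSubmodule] at this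
      obtain ⟨p, hp⟩ := mem_range_dg2 R (ΦE W₀ x.1) ((ΦE_mem_Gr_iff W₀ 0 x.1).mpr hx)
      refine ⟨p, Subtype.ext ?_⟩
      change (ΦE W₀).symm (dg2 R p) = x.1
      rw [hp, AlgEquiv.symm_apply_apply]
  exact ⟨(AlgEquiv.ofBijective h hbij).symm⟩

/-- the odd unit `ι(e + f)` of square one -/
lemma exists_odd_unit (k : ℕ) : ∃ u : CliffordAlgebra (Qm (Wsp R (k + 2))),
    u * u = 1 ∧ u ∈ evenOdd (Qm (Wsp R (k + 2))) 1 := by
  refine ⟨ι (Qm (Wsp R (k + 2))) (mkv 0 1 1), ?_, ι_mem_evenOdd_one _ _⟩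
  rw [ι_sq_scalar]
  have : Qm (Wsp R (k + 2)) (mkv 0 1 1) = 1 := by
    rw [Wsp_succ2, hQ_bsum, πk_mkv, αk_mkv, βk_mkv, map_zero, zero_add, one_mul]
  rw [this, map_one]

theorem even_Wsp_even_aux : ∀ j : ℕ,
    Nonempty (↥(even (Qm (Wsp R (2 * j + 2)))) ≃ₐ[R]
      (Matrix (Fin (2 ^ j)) (Fin (2 ^ j)) R × Matrix (Fin (2 ^ j)) (Fin (2 ^ j)) R)) := by
  intro j
  induction j with
  | zero =>
    obtain ⟨e⟩ := even_two R
    exact ⟨e.trans (AlgEquiv.prodCongr (scalarEquiv R) (scalarEquiv R))⟩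
  | succ j ih =>
    obtain ⟨E⟩ := ih
    have h2 : 2 * (j + 1) + 2 = (2 * j + 2) + 2 := by ring
    rw [h2]
    obtain ⟨u, hu, hu1⟩ := exists_odd_unit R (2 * j)
    obtain ⟨S⟩ := even_step (Wsp R (2 * j + 2)) u hu hu1
    have hpow : 2 * 2 ^ j = 2 ^ (j + 1) := by rw [pow_succ]; ring
    let c : Matrix (Fin 2) (Fin 2) (Matrix (Fin (2 ^ j)) (Fin (2 ^ j)) R) ≃ₐ[R]
        Matrix (Fin (2 ^ (j + 1))) (Fin (2 ^ (j + 1))) R :=
      (Matrix.compAlgEquiv (Fin 2) (Fin (2 ^ j)) R R).trans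
        (Matrix.reindexAlgEquiv R R (finProdFinEquiv.trans (finCongr hpow)))
    exact ⟨S.trans (E.mapMatrix.trans ((prodMatrixEquiv R (Fin 2) _ _).trans
      (AlgEquiv.prodCongr c c)))⟩

theorem even_Wsp_even (n : ℕ) (h : n % 2 = 0) (h2 : 2 ≤ n) :
    Nonempty (↥(even (Qm (Wsp R n))) ≃ₐ[R]
      (Matrix (Fin (2 ^ (n / 2 - 1))) (Fin (2 ^ (n / 2 - 1))) R ×
        Matrix (Fin (2 ^ (n / 2 - 1))) (Fin (2 ^ (n / 2 - 1))) R)) := by
  obtain ⟨j, rfl⟩ : ∃ j, n = 2 * j + 2 := ⟨n / 2 - 1, by omega⟩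
  have : (2 * j + 2) / 2 - 1 = j := by omega
  rw [this]
  exact even_Wsp_even_aux R j

end

end Groth.Agent.Lib.Helper15.Cl
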