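import Mathlib
import Groth.Agent.Lib.Helper15.ClEv1

/-! The idempotent of the centre of the even part, for split forms of even rank. -/

set_option autoImplicit false
set_option linter.style.haveILetI false

namespace Groth.Agent.Lib.Helper15.Cl

open CliffordAlgebra Matrix
open Groth.Agent.Lib.Helper15.QSplit

universe u

section
variable (R : Type u) [CommRing R]

theorem zeta_step {k : ℕ} (W : Matrix (Fin k) (Fin k) R) (ζ₀ : CliffordAlgebra (Qm W))
    (hζ₀ : ζ₀ ∈ evenOdd (Qm W) 0) (hid : ζ₀ * ζ₀ = ζ₀)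
    (hrel : ∀ v, ζ₀ * ι (Qm W) v + ι (Qm W) v * ζ₀ = ι (Qm W) v) :
    ∃ ζ : CliffordAlgebra (Qm (bsum W)), ζ ∈ evenOdd (Qm (bsum W)) 0 ∧ ζ * ζ = ζ ∧
      ∀ v, ζ * ι (Qm (bsum W)) v + ι (Qm (bsum W)) v * ζ = ι (Qm (bsum W)) v := by
  obtain ⟨D, hD⟩ : ∃ D : Matrix (Fin 2) (Fin 2) (CliffordAlgebra (Qm W)),
      D = !![ζ₀, 0; 0, 1 - ζ₀] := ⟨_, rfl⟩
  have hid' : (1 - ζ₀) * (1 - ζ₀) = 1 - ζ₀ := by
    have : (1 - ζ₀) * (1 - ζ₀) = 1 - ζ₀ - ζ₀ + ζ₀ * ζ₀ := by noncomm_ring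
    rw [this, hid]; abel
  have hDD : D * D = D := by
    rw [hD, Matrix.mul_fin_two]
    simp [hid, hid']
  have hD0 : D ∈ Gr (Qm W) 0 := by
    intro i j
    have h11 : (1 : ZMod 2) + 1 = 0 := rfl
    rw [hD]
    fin_cases i <;> fin_cases j
    · simpa using hζ₀
    · simp
    · simp
    · have : (1 : CliffordAlgebra (Qm W)) - ζ₀ ∈ evenOdd (Qm W) 0 :=
        Submodule.sub_mem _ (SetLike.one_mem_graded _) hζ₀
      simpa [h11] using this
  refine ⟨(ΦE W).symm D, ?_, ?_, ?_⟩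
  · have := (ΦE_mem_Gr_iff W 0 ((ΦE W).symm D)).mp (by rw [AlgEquiv.apply_symm_apply]; exact hD0)
    exact this
  · apply (ΦE W).injective
    rw [map_mul, AlgEquiv.apply_symm_apply, hDD]
  · intro v
    apply (ΦE W).injective
    rw [map_add, map_mul, map_mul, AlgEquiv.apply_symm_apply, ΦE_apply, Φ_ι, hD,
      Matrix.mul_fin_two, Matrix.mul_fin_two]
    have r0 := hrel (πk v)
    have ca : ∀ r : R, ζ₀ * algebraMap R _ r = algebraMap R _ r * ζ₀ :=
      fun r => (Algebra.commutes r ζ₀).symm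
    have e11 : ∀ y : CliffordAlgebra (Qm W), (1 - ζ₀) * -y + -y * (1 - ζ₀) =
        -y - y + (ζ₀ * y + y * ζ₀) := by
      intro y; noncomm_ring
    ext i j
    fin_cases i <;> fin_cases j
    · simpa using r0
    · simp only [Matrix.add_apply, Matrix.of_apply, Matrix.cons_val', Matrix.cons_val_zero,
        Matrix.cons_val_one, Matrix.cons_val_fin_one, Fin.zero_eta, Fin.mk_one]
      rw [zero_mul, add_zero, mul_zero, zero_add, mul_sub, mul_one, ca]; abel
    · simp only [Matrix.add_apply, Matrix.of_apply, Matrix.cons_val', Matrix.cons_val_zero,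
        Matrix.cons_val_one, Matrix.cons_val_fin_one, Fin.zero_eta, Fin.mk_one]
      rw [zero_mul, zero_add, mul_zero, add_zero, sub_mul, one_mul, ca]; abel
    · simp only [Matrix.add_apply, Matrix.of_apply, Matrix.cons_val', Matrix.cons_val_zero,
        Matrix.cons_val_one, Matrix.cons_val_fin_one, Fin.zero_eta, Fin.mk_one]
      rw [zero_mul, zero_add, mul_zero, zero_add, e11, r0]
      abel

theorem exists_zeta : ∀ n : ℕ, n % 2 = 0 →
    ∃ ζ : CliffordAlgebra (Qm (Wsp R n)), ζ ∈ evenOdd (Qm (Wsp R n)) 0 ∧ ζ * ζ = ζ ∧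
      ∀ v, ζ * ι (Qm (Wsp R n)) v + ι (Qm (Wsp R n)) v * ζ = ι (Qm (Wsp R n)) v := by
  intro n
  induction n using Nat.twoStepInduction with
  | zero =>
    intro _
    refine ⟨1, SetLike.one_mem_graded _, one_mul 1, fun v => ?_⟩
    have : v = 0 := Subsingleton.elim _ _
    rw [this, map_zero, mul_zero, zero_mul, add_zero]
  | one => intro h; omega
  | more k ih _ =>
    intro h
    have hk : k % 2 = 0 := by omega
    obtain ⟨ζ₀, hζ₀, hid, hrel⟩ := ih hk
    exact zeta_step R (Wsp R k) ζ₀ hζ₀ hid hrel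

end

end Groth.Agent.Lib.Helper15.Cl
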