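import Mathlib
import Groth.Agent.Lib.Helper15.ClCen

/-! Generators of the even Clifford algebra. -/

set_option autoImplicit false
set_option linter.style.haveILetI false

namespace Groth.Agent.Lib.Helper15.Cl

open CliffordAlgebra

universe u v

section
variable {R : Type u} [CommRing R] {M : Type v} [AddCommGroup M] [Module R M]
  (Q : QuadraticForm R M)

/-- the product of two vectors as an element of the even subalgebra -/
noncomputable def pairE (m₁ m₂ : M) : ↥(even Q) :=
  ⟨ι Q m₁ * ι Q m₂, (mem_even_iff Q _).mpr (ι_mul_ι_mem_evenOdd_zero Q m₁ m₂)⟩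

lemma pairE_coe (m₁ m₂ : M) : (pairE Q m₁ m₂ : CliffordAlgebra Q) = ι Q m₁ * ι Q m₂ := rfl

lemma pairE_add_left (m₁ m₁' m₂ : M) : pairE Q (m₁ + m₁') m₂ = pairE Q m₁ m₂ + pairE Q m₁' m₂ :=
  Subtype.ext (by simp [pairE_coe, add_mul])

lemma pairE_add_right (m₁ m₂ m₂' : M) : pairE Q m₁ (m₂ + m₂') = pairE Q m₁ m₂ + pairE Q m₁ m₂' :=
  Subtype.ext (by simp [pairE_coe, mul_add])

lemma pairE_smul_left (c : R) (m₁ m₂ : M) : pairE Q (c • m₁) m₂ = c • pairE Q m₁ m₂ :=
  Subtype.ext (by simp [pairE_coe])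

lemma pairE_smul_right (c : R) (m₁ m₂ : M) : pairE Q m₁ (c • m₂) = c • pairE Q m₁ m₂ :=
  Subtype.ext (by simp [pairE_coe])

lemma pairE_sum_left {κ : Type*} (s : Finset κ) (f : κ → M) (m₂ : M) :
    pairE Q (∑ i ∈ s, f i) m₂ = ∑ i ∈ s, pairE Q (f i) m₂ := by
  classical
  induction s using Finset.induction_on with
  | empty => exact Subtype.ext (by simp [pairE_coe])
  | insert a s ha ih => rw [Finset.sum_insert ha, Finset.sum_insert ha, pairE_add_left, ih]

lemma pairE_sum_right {κ : Type*} (s : Finset κ) (m₁ : M) (f : κ → M) :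
    pairE Q m₁ (∑ i ∈ s, f i) = ∑ i ∈ s, pairE Q m₁ (f i) := by
  classical
  induction s using Finset.induction_on with
  | empty => exact Subtype.ext (by simp [pairE_coe])
  | insert a s ha ih => rw [Finset.sum_insert ha, Finset.sum_insert ha, pairE_add_right, ih]

theorem adjoin_pairE_basis {κ : Type*} [Fintype κ] (b : Module.Basis κ R M) :
    Algebra.adjoin R (Set.range fun p : κ × κ => pairE Q (b p.1) (b p.2)) = ⊤ := by
  set S := Algebra.adjoin R (Set.range fun p : κ × κ => pairE Q (b p.1) (b p.2)) with hS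
  have hpair : ∀ m₁ m₂, pairE Q m₁ m₂ ∈ S := by
    intro m₁ m₂
    rw [← b.sum_repr m₁, ← b.sum_repr m₂, pairE_sum_left]
    refine Subalgebra.sum_mem _ fun i _ => ?_
    rw [pairE_sum_right]
    refine Subalgebra.sum_mem _ fun j _ => ?_
    rw [pairE_smul_left, pairE_smul_right]
    exact Subalgebra.smul_mem _ (Subalgebra.smul_mem _
      (Algebra.subset_adjoin (Set.mem_range_self (i, j))) _) _
  rw [eq_top_iff]
  rintro ⟨x, hx⟩ _
  have hx0 : x ∈ evenOdd Q 0 := (mem_even_iff Q x).mp hx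
  refine even_induction Q (motive := fun x hx => (⟨x, (mem_even_iff Q x).mpr hx⟩ : ↥(even Q)) ∈ S)
    ?_ ?_ ?_ x hx0
  · intro r
    exact Subalgebra.algebraMap_mem S r
  · intro x y hx hy ihx ihy
    exact Subalgebra.add_mem S ihx ihy
  · intro m₁ m₂ x hx ih
    exact Subalgebra.mul_mem S (hpair m₁ m₂) ih

end

end Groth.Agent.Lib.Helper15.Cl
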