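import Mathlib
import Groth.Agent.Lib.Helper15.ClCen

/-! `Z(C) ⊗ C₀ → C` is bijective when the odd part of the centre is "invertible". -/

set_option autoImplicit false
set_option linter.style.haveILetI false

namespace Groth.Agent.Lib.Helper15.Cl

open CliffordAlgebra TensorProduct

universe u v

section Mul
variable {R : Type u} [CommRing R] {M : Type v} [AddCommGroup M] [Module R M]
  (Q : QuadraticForm R M)

/-- the homogeneous components -/
noncomputable def pr (k : ZMod 2) : CliffordAlgebra Q →ₗ[R] CliffordAlgebra Q :=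
  GradedAlgebra.proj (evenOdd Q) k

lemma pr_mem (k : ZMod 2) (x : CliffordAlgebra Q) : pr Q k x ∈ evenOdd Q k := by
  rw [pr, GradedAlgebra.proj_apply]
  exact Subtype.property _

lemma pr_of_mem (k : ZMod 2) (x : CliffordAlgebra Q) (hx : x ∈ evenOdd Q k) : pr Q k x = x := by
  rw [pr, GradedAlgebra.proj_apply]
  exact DirectSum.decompose_of_mem_same _ hx

lemma pr_of_mem_ne (k l : ZMod 2) (x : CliffordAlgebra Q) (hx : x ∈ evenOdd Q k) (h : k ≠ l) :
    pr Q l x = 0 := by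
  rw [pr, GradedAlgebra.proj_apply]
  exact DirectSum.decompose_of_mem_ne _ hx h

lemma pr_add (x : CliffordAlgebra Q) : pr Q 0 x + pr Q 1 x = x := by
  obtain ⟨x₀, h₀, x₁, h₁, rfl⟩ := exists_decomp Q x
  rw [map_add, map_add, pr_of_mem Q 0 x₀ h₀, pr_of_mem Q 1 x₁ h₁,
    pr_of_mem_ne Q 0 1 x₀ h₀ (by decide), pr_of_mem_ne Q 1 0 x₁ h₁ (by decide), add_zero, zero_add]

/-- the multiplication map -/
noncomputable def μ : ↥(Subalgebra.center R (CliffordAlgebra Q)) ⊗[R] ↥(even Q) →ₗ[R] CliffordAlgebra Q :=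
  TensorProduct.lift
    (((LinearMap.mul R (CliffordAlgebra Q)).comp
      (Subalgebra.center R (CliffordAlgebra Q)).val.toLinearMap).compl₂
        (CliffordAlgebra.even Q).val.toLinearMap)

lemma μ_tmul (ζ : ↥(Subalgebra.center R (CliffordAlgebra Q))) (x : ↥(even Q)) :
    μ Q (ζ ⊗ₜ x) = ζ.1 * x.1 := rfl

variable {N : ℕ} (c : Fin N → R) (z w : Fin N → CliffordAlgebra Q)
  (hz : ∀ i, z i ∈ Subalgebra.center R (CliffordAlgebra Q) ∧ z i ∈ evenOdd Q 1)
  (hw : ∀ i, w i ∈ Subalgebra.center R (CliffordAlgebra Q) ∧ w i ∈ evenOdd Q 1)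

/-- even component as a map to the even subalgebra -/
noncomputable def e₀ : CliffordAlgebra Q →ₗ[R] ↥(even Q) :=
  LinearMap.codRestrict (Subalgebra.toSubmodule (even Q)) (pr Q 0)
    (fun x => (mem_even_iff Q _).mpr (pr_mem Q 0 x))

lemma e₀_coe (x : CliffordAlgebra Q) : (e₀ Q x : CliffordAlgebra Q) = pr Q 0 x := rfl

/-- `x ↦ w * x₁` for odd `w` -/
noncomputable def f₁ (w : CliffordAlgebra Q) (hw : w ∈ evenOdd Q 1) : CliffordAlgebra Q →ₗ[R] ↥(even Q) :=
  LinearMap.codRestrict (Subalgebra.toSubmodule (even Q)) (LinearMap.mulLeft R w ∘ₗ pr Q 1)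
    (fun x => (mem_even_iff Q _).mpr (by
      have := SetLike.mul_mem_graded (A := evenOdd Q) hw (pr_mem Q 1 x)
      exact this))

lemma f₁_coe (w : CliffordAlgebra Q) (hw : w ∈ evenOdd Q 1) (x : CliffordAlgebra Q) :
    (f₁ Q w hw x : CliffordAlgebra Q) = w * pr Q 1 x := rfl

/-- the inverse of the multiplication map -/
noncomputable def ν : CliffordAlgebra Q →ₗ[R] ↥(Subalgebra.center R (CliffordAlgebra Q)) ⊗[R] ↥(even Q) :=
  (TensorProduct.mk R _ _ 1) ∘ₗ e₀ Q +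
    ∑ i, c i • ((TensorProduct.mk R _ _ ⟨z i, (hz i).1⟩) ∘ₗ f₁ Q (w i) (hw i).2)

lemma ν_apply (x : CliffordAlgebra Q) :
    ν Q c z w hz hw x = (1 : ↥(Subalgebra.center R (CliffordAlgebra Q))) ⊗ₜ e₀ Q x +
      ∑ i, c i • ((⟨z i, (hz i).1⟩ : ↥(Subalgebra.center R (CliffordAlgebra Q))) ⊗ₜ[R]
        f₁ Q (w i) (hw i).2 x) := by
  simp [ν]

include hz hw in
theorem μ_ν (hsum : ∑ i, c i • (z i * w i) = 1) (x : CliffordAlgebra Q) :
    μ Q (ν Q c z w hz hw x) = x := by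
  rw [ν_apply, map_add, map_sum, μ_tmul]
  simp_rw [map_smul, μ_tmul, f₁_coe, ← mul_assoc, ← smul_mul_assoc]
  rw [← Finset.sum_mul]
  simp_rw [smul_mul_assoc]
  rw [hsum, one_mul, e₀_coe]
  change 1 * pr Q 0 x + pr Q 1 x = x
  rw [one_mul, pr_add]

include hz hw in
theorem ν_μ (hb : ∀ z ∈ Subalgebra.center R (CliffordAlgebra Q), z ∈ evenOdd Q 0 →
      z ∈ (algebraMap R (CliffordAlgebra Q)).range)
    (hsum : ∑ i, c i • (z i * w i) = 1)
    (t : ↥(Subalgebra.center R (CliffordAlgebra Q)) ⊗[R] ↥(even Q)) :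
    ν Q c z w hz hw (μ Q t) = t := by
  induction t using TensorProduct.induction_on with
  | zero => simp
  | add x y hx hy => rw [map_add, map_add, hx, hy]
  | tmul ζ x =>
    obtain ⟨ζ₀, h₀, ζ₁, h₁, hc₀, hc₁, e⟩ := center_decomp Q ζ.1 ζ.2
    obtain ⟨r, hr⟩ := hb ζ₀ hc₀ h₀
    have hx0 : x.1 ∈ evenOdd Q 0 := (mem_even_iff Q _).mp x.2
    have hρ : ∀ i, ∃ ρ : R, algebraMap R _ ρ = w i * ζ₁ := fun i =>
      hb _ (Subalgebra.mul_mem _ (hw i).1 hc₁) (by
        have := SetLike.mul_mem_graded (A := evenOdd Q) (hw i).2 h₁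
        exact this)
    choose ρ hρ using hρ
    rw [μ_tmul, ν_apply]
    have m0 : ζ₀ * x.1 ∈ evenOdd Q 0 := by
      have := SetLike.mul_mem_graded (A := evenOdd Q) h₀ hx0
      exact this
    have m1 : ζ₁ * x.1 ∈ evenOdd Q 1 := by
      have := SetLike.mul_mem_graded (A := evenOdd Q) h₁ hx0
      exact this
    have hp0 : pr Q 0 (ζ.1 * x.1) = r • x.1 := by
      rw [← e, add_mul, map_add, pr_of_mem Q 0 _ m0, pr_of_mem_ne Q 1 0 _ m1 (by decide), add_zero,
        ← hr, Algebra.smul_def]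
    have hp1 : pr Q 1 (ζ.1 * x.1) = ζ₁ * x.1 := by
      rw [← e, add_mul, map_add, pr_of_mem Q 1 _ m1, pr_of_mem_ne Q 0 1 _ m0 (by decide), zero_add]
    have he0 : e₀ Q (ζ.1 * x.1) = r • x := Subtype.ext (by rw [e₀_coe, hp0]; rfl)
    have hf1 : ∀ i, f₁ Q (w i) (hw i).2 (ζ.1 * x.1) = ρ i • x := fun i => Subtype.ext (by
      rw [f₁_coe, hp1, ← mul_assoc, ← hρ, ← Algebra.smul_def]; rfl)
    rw [he0]
    simp_rw [hf1]
    have hζ : ζ = r • 1 + ∑ i, (c i * ρ i) • (⟨z i, (hz i).1⟩ :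
        ↥(Subalgebra.center R (CliffordAlgebra Q))) := by
      apply Subtype.ext
      rw [Subalgebra.coe_add, Subalgebra.coe_smul, Subalgebra.coe_one,
        AddSubmonoidClass.coe_finset_sum]
      simp_rw [Subalgebra.coe_smul]
      have h2 : ζ₁ = ∑ i, (c i * ρ i) • z i := by
        calc ζ₁ = (∑ i, c i • (z i * w i)) * ζ₁ := by rw [hsum, one_mul]
          _ = ∑ i, (c i * ρ i) • z i := by
            rw [Finset.sum_mul]
            refine Finset.sum_congr rfl fun i _ => ?_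
            rw [smul_mul_assoc, mul_assoc, ← hρ, ← Algebra.commutes, ← Algebra.smul_def, smul_smul]
      rw [← h2, ← Algebra.algebraMap_eq_smul_one, hr, e]
    conv_rhs => rw [hζ]
    rw [TensorProduct.add_tmul, TensorProduct.sum_tmul, TensorProduct.tmul_smul,
      TensorProduct.smul_tmul']
    congr 1
    refine Finset.sum_congr rfl fun i _ => ?_
    rw [TensorProduct.tmul_smul, smul_smul, TensorProduct.smul_tmul']

include hz hw in
theorem μ_bijective (hb : ∀ z ∈ Subalgebra.center R (CliffordAlgebra Q), z ∈ evenOdd Q 0 →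
      z ∈ (algebraMap R (CliffordAlgebra Q)).range)
    (hsum : ∑ i, c i • (z i * w i) = 1) :
    Function.Bijective (μ Q) := by
  rw [Function.bijective_iff_has_inverse]
  exact ⟨ν Q c z w hz hw, ν_μ Q c z w hz hw hb hsum, μ_ν Q c z w hz hw hsum⟩

end Mul

end Groth.Agent.Lib.Helper15.Cl
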