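import Mathlib
import Groth.Agent.Lib.Helper15.ClEvGen
import Groth.Agent.Lib.Helper15.ClMul

/-! Even-rank regular Clifford algebras: centre and centraliser, by fppf descent. -/

set_option autoImplicit false
set_option linter.style.haveILetI false

namespace Groth.Agent.Lib.Helper15.Cl

open CliffordAlgebra TensorProduct

universe u v w

section Gen
variable {R : Type u} [CommRing R] {M : Type v} [AddCommGroup M] [Module R M]
  (Q : QuadraticForm R M)

lemma rel_pair (ζ : CliffordAlgebra Q) (hrel : ∀ v, ζ * ι Q v + ι Q v * ζ = ι Q v) (m₁ m₂ : M) :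
    ζ * (ι Q m₁ * ι Q m₂) = ι Q m₁ * ι Q m₂ * ζ := by
  have h1 : ζ * ι Q m₁ = ι Q m₁ - ι Q m₁ * ζ := eq_sub_of_add_eq (hrel m₁)
  have h2 : ζ * ι Q m₂ = ι Q m₂ - ι Q m₂ * ζ := eq_sub_of_add_eq (hrel m₂)
  rw [← mul_assoc, h1, sub_mul, mul_assoc (ι Q m₁) ζ, h2, mul_sub, ← mul_assoc (ι Q m₁) (ι Q m₂) ζ]
  abel

theorem rel_even (ζ : CliffordAlgebra Q) (hrel : ∀ v, ζ * ι Q v + ι Q v * ζ = ι Q v)
    (x : CliffordAlgebra Q) (hx : x ∈ evenOdd Q 0) : ζ * x = x * ζ := by
  refine even_induction Q (motive := fun x _ => ζ * x = x * ζ) ?_ ?_ ?_ x hx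
  · intro r
    exact (Algebra.commutes r ζ).symm
  · intro x y _ _ ihx ihy
    rw [mul_add, add_mul, ihx, ihy]
  · intro m₁ m₂ x _ ih
    rw [← mul_assoc, rel_pair Q ζ hrel, mul_assoc, ih, ← mul_assoc]

theorem rel_odd (ζ : CliffordAlgebra Q) (hrel : ∀ v, ζ * ι Q v + ι Q v * ζ = ι Q v)
    (y : CliffordAlgebra Q) (hy : y ∈ evenOdd Q 1) : ζ * y + y * ζ = y := by
  refine odd_induction Q (P := fun y _ => ζ * y + y * ζ = y) ?_ ?_ ?_ y hy
  · exact hrel
  · intro x y _ _ ihx ihy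
    rw [mul_add, add_mul, add_add_add_comm, ihx, ihy]
  · intro m₁ m₂ y _ ih
    have e1 : ζ * (ι Q m₁ * ι Q m₂ * y) = ι Q m₁ * ι Q m₂ * (ζ * y) := by
      rw [← mul_assoc, rel_pair Q ζ hrel, mul_assoc]
    rw [e1, mul_assoc (ι Q m₁ * ι Q m₂) y ζ, ← mul_add, ih]

/-- an odd element commuting with `ζ` vanishes -/
theorem odd_comm_zeta_eq_zero (ζ : CliffordAlgebra Q) (hid : ζ * ζ = ζ)
    (hrel : ∀ v, ζ * ι Q v + ι Q v * ζ = ι Q v)
    (y : CliffordAlgebra Q) (hy : y ∈ evenOdd Q 1) (hc : ζ * y = y * ζ) : y = 0 := by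
  have h1 := rel_odd Q ζ hrel y hy
  rw [← hc] at h1
  -- 2 ζ y = y
  have h2 : (2 * ζ - 1) * y = 0 := by
    rw [sub_mul, one_mul, mul_assoc, two_mul, h1, sub_self]
  have h3 : (2 * ζ - 1) * (2 * ζ - 1) = 1 := by
    have : (2 * ζ - 1) * (2 * ζ - 1) = 4 * (ζ * ζ) - 4 * ζ + 1 := by noncomm_ring
    rw [this, hid]; abel
  calc y = (2 * ζ - 1) * (2 * ζ - 1) * y := by rw [h3, one_mul]
    _ = 0 := by rw [mul_assoc, h2, mul_zero]

end Gen

section Desc
variable {R : Type u} [CommRing R] {M : Type v} [AddCommGroup M] [Module R M]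
  {R' : Type w} [CommRing R'] [Algebra R R'] {M' : Type*} [AddCommGroup M'] [Module R' M']
  [Module R M'] [IsScalarTower R R' M']
  {n : ℕ} (b : Module.Basis (Fin n) R M) (b' : Module.Basis (Fin n) R' M')
  (Q : QuadraticForm R M) (Q' : QuadraticForm R' M')
  (g : M →ₗ[R] M') (hg : ∀ m, Q' (g m) = algebraMap R R' (Q m))
  (hspan : Submodule.span R' (Set.range g) = ⊤)
  [Module.FaithfullyFlat R R']

include b b' hspan in
theorem scalar_of_jj_scalar (z : CliffordAlgebra Q) (r' : R')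
    (hr' : algebraMap R' (CliffordAlgebra Q') r' = jj Q Q' g hg z) :
    z ∈ (algebraMap R (CliffordAlgebra Q)).range := by
  haveI : Module.Free R M := Module.Free.of_basis b
  have h1 : Ψ Q Q' g hg (1 ⊗ₜ z) = Ψ Q Q' g hg (r' ⊗ₜ 1) := by
    rw [Ψ_tmul, Ψ_tmul, one_smul, map_one, ← hr', Algebra.algebraMap_eq_smul_one]
  have h2 := (Ψ_bijective Q Q' g hg b b' hspan).1 h1
  have h3 := congrArg (fun t => TensorProduct.rid R R' (LinearMap.lTensor R' (retr1 Q) t)) h2
  simp only [LinearMap.lTensor_tmul, TensorProduct.rid_tmul, retr1_one, one_smul] at h3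
  refine ⟨retr1 Q z, ?_⟩
  apply Module.FaithfullyFlat.tensorProduct_mk_injective (A := R) (B := R') (CliffordAlgebra Q)
  change (1 : R') ⊗ₜ[R] (algebraMap R (CliffordAlgebra Q) (retr1 Q z)) = 1 ⊗ₜ z
  rw [h2, ← h3, Algebra.algebraMap_eq_smul_one, TensorProduct.smul_tmul]

include b b' hspan hg in
theorem center_scalar
    (cen' : ∀ z ∈ Subalgebra.center R' (CliffordAlgebra Q'),
      z ∈ (algebraMap R' (CliffordAlgebra Q')).range)
    (z : CliffordAlgebra Q) (hz : z ∈ Subalgebra.center R (CliffordAlgebra Q)) :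
    z ∈ (algebraMap R (CliffordAlgebra Q)).range := by
  obtain ⟨r', hr'⟩ := cen' _ (jj_mem_center Q Q' g hg hspan z hz)
  exact scalar_of_jj_scalar b b' Q Q' g hg hspan z r' hr'

include b b' hspan in
theorem evenCenter_span (ζ' : CliffordAlgebra Q') (hζ0 : ζ' ∈ evenOdd Q' 0)
    (hζc : ∀ x ∈ evenOdd Q' 0, ζ' * x = x * ζ') :
    ζ' ∈ Submodule.span R' ((jj Q Q' g hg) ''
      ((even Q).val '' (Subalgebra.center R ↥(even Q) : Set ↥(even Q)))) := by
  classical
  have hbij := ΨEv_bijective Q Q' g hg b b' hspan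
  obtain ⟨t, ht⟩ := hbij.2 ⟨ζ', (mem_even_iff Q' _).mpr hζ0⟩
  have htc : ∀ p : Fin n × Fin n, t * (1 ⊗ₜ pairE Q (b p.1) (b p.2)) =
      (1 ⊗ₜ pairE Q (b p.1) (b p.2)) * t := by
    intro p
    apply hbij.1
    rw [map_mul, map_mul, ht]
    apply Subtype.ext
    rw [Subalgebra.coe_mul, Subalgebra.coe_mul]
    exact hζc _ ((mem_even_iff Q' _).mp (Subtype.property _))
  have hts := center_descent (fun p : Fin n × Fin n => pairE Q (b p.1) (b p.2)) R'
    (adjoin_pairE_basis Q b) t htc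
  have key : ∀ t ∈ Submodule.span R' {y : R' ⊗[R] ↥(even Q) |
        ∃ z ∈ Subalgebra.center R ↥(even Q), y = 1 ⊗ₜ z},
      (ΨEv Q Q' g hg t : CliffordAlgebra Q') ∈ Submodule.span R' ((jj Q Q' g hg) ''
        ((even Q).val '' (Subalgebra.center R ↥(even Q) : Set ↥(even Q)))) := by
    intro t ht
    induction ht using Submodule.span_induction with
    | mem x hx =>
      obtain ⟨z, hz, rfl⟩ := hx
      rw [ΨEv_coe, Ψ0_tmul, one_smul]
      exact Submodule.subset_span ⟨z.1, ⟨z, hz, rfl⟩, rfl⟩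
    | zero => rw [map_zero]; exact Submodule.zero_mem _
    | add x y _ _ hx hy =>
      rw [map_add, Subalgebra.coe_add]; exact Submodule.add_mem _ hx hy
    | smul a x _ hx =>
      rw [map_smul, Subalgebra.coe_smul]; exact Submodule.smul_mem _ _ hx
  have := key t hts
  rwa [ht] at this

include b b' hspan hg in
theorem centralizer_even (ζ' : CliffordAlgebra Q') (hζ0 : ζ' ∈ evenOdd Q' 0) (hid : ζ' * ζ' = ζ')
    (hrel : ∀ v, ζ' * ι Q' v + ι Q' v * ζ' = ι Q' v) :
    Subalgebra.centralizer R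
      ((even Q).val '' (Subalgebra.center R ↥(even Q) : Set ↥(even Q))) = even Q := by
  apply le_antisymm
  · intro x hx
    rw [Subalgebra.mem_centralizer_iff] at hx
    obtain ⟨x₀, h₀, x₁, h₁, rfl⟩ := exists_decomp Q x
    -- the odd part commutes with the centre of the even part
    have hx1 : ∀ z ∈ (even Q).val '' (Subalgebra.center R ↥(even Q) : Set ↥(even Q)),
        z * x₁ = x₁ * z := by
      intro z hz
      have hz0 : z ∈ evenOdd Q 0 := by
        obtain ⟨z', _, rfl⟩ := hz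
        exact (mem_even_iff Q _).mp z'.2
      have e := hx z hz
      rw [mul_add, add_mul] at e
      have m1 : z * x₀ ∈ evenOdd Q 0 := by
        have := SetLike.mul_mem_graded (A := evenOdd Q) hz0 h₀; exact this
      have m2 : z * x₁ ∈ evenOdd Q 1 := by
        have := SetLike.mul_mem_graded (A := evenOdd Q) hz0 h₁; exact this
      have m3 : x₀ * z ∈ evenOdd Q 0 := by
        have := SetLike.mul_mem_graded (A := evenOdd Q) h₀ hz0; exact this
      have m4 : x₁ * z ∈ evenOdd Q 1 := by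
        have := SetLike.mul_mem_graded (A := evenOdd Q) h₁ hz0; exact this
      exact (decomp_unique Q m1 m2 m3 m4 e).2
    -- so its image commutes with ζ'
    have hspan' := evenCenter_span b b' Q Q' g hg hspan ζ' hζ0 (rel_even Q' ζ' hrel)
    have hc' : ∀ y ∈ Submodule.span R' ((jj Q Q' g hg) ''
        ((even Q).val '' (Subalgebra.center R ↥(even Q) : Set ↥(even Q)))),
        y * jj Q Q' g hg x₁ = jj Q Q' g hg x₁ * y := by
      intro y hy
      induction hy using Submodule.span_induction with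
      | mem y hy =>
        obtain ⟨z, hz, rfl⟩ := hy
        rw [← map_mul, ← map_mul, hx1 z hz]
      | zero => rw [zero_mul, mul_zero]
      | add y y' _ _ hy hy' => rw [add_mul, mul_add, hy, hy']
      | smul a y _ hy => rw [smul_mul_assoc, mul_smul_comm, hy]
    have hc := hc' ζ' hspan'
    have h0 := odd_comm_zeta_eq_zero Q' ζ' hid hrel _ (jj_mem_evenOdd Q Q' g hg 1 x₁ h₁) hc
    have hx₁ : x₁ = 0 := jj_injective Q Q' g hg b b' hspan (by rw [h0, map_zero])
    rw [hx₁, add_zero]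
    exact (mem_even_iff Q _).mpr h₀
  · intro x hx
    rw [Subalgebra.mem_centralizer_iff]
    rintro _ ⟨z, hz, rfl⟩
    have := (Subalgebra.mem_center_iff.mp hz) ⟨x, hx⟩
    exact (congrArg Subtype.val this).symm

end Desc

end Groth.Agent.Lib.Helper15.Cl
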