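import Mathlib
import Groth.Agent.Lib.Helper15.ClSetup

/-! fppf-local splitting data for a regular quadratic form of even rank. -/

set_option autoImplicit false
set_option linter.style.haveILetI false

namespace Groth.Agent.Lib.Helper15.Cl

open CliffordAlgebra TensorProduct Matrix
open Groth.Agent.Lib.Helper15.QSplit
open Groth.Agent.Lib.Helper2.HalfDisc

universe u v

section Setup
variable {R : Type u} [CommRing R] {M : Type v} [AddCommGroup M] [Module R M]

theorem nontrivial_of_finrank (k : ℕ) (hk : 2 ≤ k) (hM : Module.finrank R M = k) : Nontrivial R := by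
  by_contra h
  rw [not_nontrivial_iff_subsingleton] at h
  have : Module.finrank R M = 1 := by
    rw [Module.finrank, rank_subsingleton]; simp
  omega

theorem isUnit_det_of_polar_bijective {n : ℕ} (b : Module.Basis (Fin n) R M) (Q : QuadraticForm R M)
    (B : LinearMap.BilinMap R M R) (hB : B.toQuadraticMap = Q)
    (hQ : Function.Bijective (QuadraticMap.polarBilin Q)) :
    IsUnit ((LinearMap.toMatrix₂ b b B) + (LinearMap.toMatrix₂ b b B)ᵀ).det := by
  set P := (LinearMap.toMatrix₂ b b B) + (LinearMap.toMatrix₂ b b B)ᵀ with hP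
  have hPij : ∀ i j, P i j = QuadraticMap.polar Q (b i) (b j) := by
    intro i j
    rw [hP, Matrix.add_apply, Matrix.transpose_apply, LinearMap.toMatrix₂_apply,
      LinearMap.toMatrix₂_apply, ← hB, LinearMap.BilinMap.polar_toQuadraticMap]
  rw [← Matrix.isUnit_iff_isUnit_det, ← Matrix.mulVec_surjective_iff_isUnit]
  intro y
  obtain ⟨v, hv⟩ := hQ.2 (b.constr R y)
  refine ⟨b.repr v, ?_⟩
  funext i
  have h1 : QuadraticMap.polarBilin Q v (b i) = y i := by
    rw [hv, Module.Basis.constr_basis]
  rw [← h1, QuadraticMap.polarBilin_apply_apply, QuadraticMap.polar_comm]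
  conv_rhs => rw [← b.sum_repr v]
  rw [Matrix.mulVec, dotProduct]
  have hlin : QuadraticMap.polar Q (b i) (∑ j, b.repr v j • b j) =
      ∑ j, b.repr v j * QuadraticMap.polar Q (b i) (b j) := by
    have := map_sum (QuadraticMap.polarBilin Q (b i)) (fun j => b.repr v j • b j) Finset.univ
    simp only [QuadraticMap.polarBilin_apply_apply, map_smul, smul_eq_mul] at this
    simpa using this
  rw [hlin]
  refine Finset.sum_congr rfl fun j _ => ?_
  rw [hPij, mul_comm]

theorem even_setup (m : ℕ) (b : Module.Basis (Fin (2 * m)) R M) (Q : QuadraticForm R M)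
    (hQ : Function.Bijective (QuadraticMap.polarBilin Q)) :
    ∃ (R' : Type u) (_ : CommRing R') (_ : Algebra R R'), Module.FaithfullyFlat R R' ∧
      Algebra.FinitePresentation R R' ∧
      ∃ g : M →ₗ[R] (Fin (2 * m) → R'),
        (∀ x, Qm (Wsp R' (2 * m)) (g x) = algebraMap R R' (Q x)) ∧
        Submodule.span R' (Set.range g) = ⊤ := by
  haveI : Module.Free R M := Module.Free.of_basis b
  refine exists_split_data b Q (QuadGrp.bilinLift Q) (QuadGrp.bilinLift_spec Q)
    ⟨fun ho => ?_, fun _ => ?_⟩
  · exfalso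
    obtain ⟨r, hr⟩ := ho
    omega
  · exact isUnit_det_of_polar_bijective b Q _ (QuadGrp.bilinLift_spec Q) hQ

end Setup

end Groth.Agent.Lib.Helper15.Cl
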