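import Mathlib
import Groth.Agent.Lib.Helper15.ClEvCen
import Groth.Agent.Lib.Helper15.ClEvSetup
import Groth.Agent.Lib.Helper15.ClEv2

/-! Even-rank regular Clifford algebras: assembly. -/

set_option autoImplicit false
set_option linter.style.haveILetI false

namespace Groth.Agent.Lib.Helper15.Cl

open CliffordAlgebra TensorProduct Matrix
open Groth.Agent.Lib.Helper15.QSplit

universe u v

section Final
variable {R : Type u} [CommRing R] {M : Type v} [AddCommGroup M] [Module R M]

theorem center_scalar_of_algEquiv_matrix {A : Type*} [Ring A] [Algebra R A] {ι : Type*}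
    [Fintype ι] [DecidableEq ι] (E : A ≃ₐ[R] Matrix ι ι R) (z : A)
    (hz : z ∈ Subalgebra.center R A) : z ∈ (algebraMap R A).range := by
  have h1 : E z ∈ Subalgebra.center R (Matrix ι ι R) := by
    rw [Subalgebra.mem_center_iff] at hz ⊢
    intro Y
    obtain ⟨y, rfl⟩ := E.surjective Y
    rw [← map_mul, ← map_mul, hz]
  have h2 := (Algebra.IsCentral.out (K := R) (D := Matrix ι ι R)) h1
  obtain ⟨r, hr⟩ := Algebra.mem_bot.mp h2
  refine ⟨r, E.injective ?_⟩
  rw [← hr, AlgEquiv.commutes]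

variable {R' : Type u} [CommRing R'] [Algebra R R'] [Module.FaithfullyFlat R R']
  (m : ℕ) (b : Module.Basis (Fin (2 * m)) R M) (Q : QuadraticForm R M)
  (g : M →ₗ[R] (Fin (2 * m) → R'))
  (hg : ∀ x, Qm (Wsp R' (2 * m)) (g x) = algebraMap R R' (Q x))
  (hspan : Submodule.span R' (Set.range g) = ⊤)

include b hg hspan in
theorem even_full :
    Nonempty ((R' ⊗[R] CliffordAlgebra Q) ≃ₐ[R'] Matrix (Fin (2 ^ m)) (Fin (2 ^ m)) R') := by
  obtain ⟨e⟩ := full_Wsp_even R' (2 * m) (by omega)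
  have h : (2 * m) / 2 = m := by omega
  rw [h] at e
  exact ⟨(AlgEquiv.ofBijective (Ψ Q _ g hg)
    (Ψ_bijective Q _ g hg b (Pi.basisFun R' (Fin (2 * m))) hspan)).trans e⟩

include b hg hspan in
theorem even_evenPart (hm : 1 ≤ m) :
    Nonempty ((R' ⊗[R] ↥(even Q)) ≃ₐ[R']
      (Matrix (Fin (2 ^ (m - 1))) (Fin (2 ^ (m - 1))) R' ×
        Matrix (Fin (2 ^ (m - 1))) (Fin (2 ^ (m - 1))) R')) := by
  obtain ⟨e⟩ := even_Wsp_even R' (2 * m) (by omega) (by omega)
  have h : (2 * m) / 2 - 1 = m - 1 := by omega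
  rw [h] at e
  exact ⟨(AlgEquiv.ofBijective (ΨEv Q _ g hg)
    (ΨEv_bijective Q _ g hg b (Pi.basisFun R' (Fin (2 * m))) hspan)).trans e⟩

include b hg hspan in
theorem even_center_scalar' (z : CliffordAlgebra Q)
    (hz : z ∈ Subalgebra.center R (CliffordAlgebra Q)) :
    z ∈ (algebraMap R (CliffordAlgebra Q)).range := by
  obtain ⟨e⟩ := full_Wsp_even R' (2 * m) (by omega)
  exact center_scalar b (Pi.basisFun R' (Fin (2 * m))) Q _ g hg hspan
    (fun z hz => center_scalar_of_algEquiv_matrix e z hz) z hz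

include b hg hspan in
theorem even_center_bot : Subalgebra.center R (CliffordAlgebra Q) = ⊥ := by
  rw [eq_bot_iff]
  intro z hz
  obtain ⟨r, hr⟩ := even_center_scalar' m b Q g hg hspan z hz
  rw [Algebra.mem_bot]
  exact ⟨r, hr⟩

include b hg hspan in
theorem even_centralizer :
    Subalgebra.centralizer R
      ((even Q).val '' (Subalgebra.center R ↥(even Q) : Set ↥(even Q))) = even Q := by
  obtain ⟨ζ', h0, hid, hrel⟩ := exists_zeta R' (2 * m) (by omega)
  exact centralizer_even b (Pi.basisFun R' (Fin (2 * m))) Q _ g hg hspan ζ' h0 hid hrel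

end Final

end Groth.Agent.Lib.Helper15.Cl
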