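import Mathlib
import Groth.Prelude.Def_QuadGrp
import Groth.Agent.Lib.Helper15.ClCen

/-! The naive Clifford group: basic facts. -/

set_option autoImplicit false
set_option linter.style.haveILetI false

namespace Groth.Agent.Lib.Helper15.Cl

open CliffordAlgebra
open scoped Pointwise

universe u v

section
variable {R : Type u} [CommRing R] {M : Type v} [AddCommGroup M] [Module R M]
  (Q : QuadraticForm R M)

theorem conj_ι_of_mem_GPin' (u : (CliffordAlgebra Q)ˣ) (hu : u ∈ QuadGrp.GPin' Q) (m : M) :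
    ∃ m' : M, (u : CliffordAlgebra Q) * ι Q m * ↑u⁻¹ = ι Q m' := by
  rw [QuadGrp.mem_GPin'] at hu
  have h1 : ConjAct.toConjAct u • ι Q m ∈ ConjAct.toConjAct u • LinearMap.range (ι Q) :=
    Submodule.smul_mem_pointwise_smul _ _ _ (LinearMap.mem_range_self _ m)
  rw [hu, ConjAct.units_smul_def, ConjAct.ofConjAct_toConjAct] at h1
  obtain ⟨m', hm'⟩ := h1
  exact ⟨m', hm'.symm⟩

theorem mem_GPin'_of_conj (u : (CliffordAlgebra Q)ˣ)
    (h1 : ∀ m, ∃ m' : M, (u : CliffordAlgebra Q) * ι Q m * ↑u⁻¹ = ι Q m')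
    (h2 : ∀ m, ∃ m' : M, (↑u⁻¹ : CliffordAlgebra Q) * ι Q m * ↑u = ι Q m') :
    u ∈ QuadGrp.GPin' Q := by
  have key : ∀ x : (CliffordAlgebra Q)ˣ,
      (∀ m, ∃ m' : M, (x : CliffordAlgebra Q) * ι Q m * ↑x⁻¹ = ι Q m') →
      ConjAct.toConjAct x • LinearMap.range (ι Q) ≤ LinearMap.range (ι Q) := by
    intro x hx
    rw [Submodule.pointwise_smul_def, Submodule.map_le_iff_le_comap]
    rintro _ ⟨m, rfl⟩
    change ConjAct.toConjAct x • ι Q m ∈ LinearMap.range (ι Q)
    rw [ConjAct.units_smul_def, ConjAct.ofConjAct_toConjAct]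
    obtain ⟨m', hm'⟩ := hx m
    exact ⟨m', hm'.symm⟩
  rw [QuadGrp.mem_GPin']
  apply le_antisymm
  · exact key u h1
  · have := smul_mono_right (ConjAct.toConjAct u) (key u⁻¹ (by simpa using h2))
    refine Eq.trans_le ?_ this
    simp only [map_inv, smul_inv_smul]

theorem mem_center_of_comm_ι (x : CliffordAlgebra Q) (hx : ∀ m, x * ι Q m = ι Q m * x) :
    x ∈ Subalgebra.center R (CliffordAlgebra Q) := by
  rw [Subalgebra.mem_center_iff]
  have h1 : Algebra.adjoin R (Set.range (ι Q)) ≤ Subalgebra.centralizer R {x} := by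
    apply Algebra.adjoin_le
    rintro _ ⟨m, rfl⟩
    rw [SetLike.mem_coe, Subalgebra.mem_centralizer_iff]
    intro y hy
    rw [Set.mem_singleton_iff] at hy
    subst hy
    exact hx m
  intro y
  have hy : y ∈ Subalgebra.centralizer R {x} := h1 (by rw [CliffordAlgebra.adjoin_range_ι]; trivial)
  rw [Subalgebra.mem_centralizer_iff] at hy
  exact (hy x rfl).symm

/-- in a Clifford algebra with trivial centre, normalising units are locally homogeneous -/
theorem isLocHomog_of_mem_GPin' [Module.Free R M]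
    (hcen : ∀ z ∈ Subalgebra.center R (CliffordAlgebra Q), z ∈ (algebraMap R (CliffordAlgebra Q)).range)
    (u : (CliffordAlgebra Q)ˣ) (hu : u ∈ QuadGrp.GPin' Q) :
    QuadGrp.IsLocHomog Q (u : CliffordAlgebra Q) := by
  obtain ⟨u₀, h₀, u₁, h₁, hsum⟩ := exists_decomp Q (u : CliffordAlgebra Q)
  -- the components intertwine
  have hint : ∀ m, ∃ m', u₀ * ι Q m = ι Q m' * u₀ ∧ u₁ * ι Q m = ι Q m' * u₁ ∧
      (↑u⁻¹ : CliffordAlgebra Q) * ι Q m' = ι Q m * ↑u⁻¹ := by
    intro m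
    obtain ⟨m', hm'⟩ := conj_ι_of_mem_GPin' Q u hu m
    have e1 : (u : CliffordAlgebra Q) * ι Q m = ι Q m' * u := by
      rw [← hm', mul_assoc, Units.inv_mul, mul_one]
    have e2 : (↑u⁻¹ : CliffordAlgebra Q) * ι Q m' = ι Q m * ↑u⁻¹ := by
      rw [← hm', ← mul_assoc, ← mul_assoc, Units.inv_mul, one_mul]
    rw [← hsum, add_mul, mul_add] at e1
    have a1 : u₀ * ι Q m ∈ evenOdd Q 1 := by
      have := SetLike.mul_mem_graded (A := evenOdd Q) h₀ (ι_mem_evenOdd_one Q m); exact this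
    have a2 : u₁ * ι Q m ∈ evenOdd Q 0 := by
      have := SetLike.mul_mem_graded (A := evenOdd Q) h₁ (ι_mem_evenOdd_one Q m); exact this
    have a3 : ι Q m' * u₀ ∈ evenOdd Q 1 := by
      have := SetLike.mul_mem_graded (A := evenOdd Q) (ι_mem_evenOdd_one Q m') h₀; exact this
    have a4 : ι Q m' * u₁ ∈ evenOdd Q 0 := by
      have := SetLike.mul_mem_graded (A := evenOdd Q) (ι_mem_evenOdd_one Q m') h₁; exact this
    have e1' : u₁ * ι Q m + u₀ * ι Q m = ι Q m' * u₁ + ι Q m' * u₀ := by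
      rw [add_comm, e1, add_comm]
    obtain ⟨r1, r0⟩ := decomp_unique Q a2 a1 a4 a3 e1'
    exact ⟨m', r0, r1, e2⟩
  have hc : ∀ x : CliffordAlgebra Q, (∀ m, ∃ m', x * ι Q m = ι Q m' * x ∧
      (↑u⁻¹ : CliffordAlgebra Q) * ι Q m' = ι Q m * ↑u⁻¹) →
      ∃ e : R, x = e • (u : CliffordAlgebra Q) := by
    intro x hx
    have hcen' : (↑u⁻¹ : CliffordAlgebra Q) * x ∈ Subalgebra.center R (CliffordAlgebra Q) := by
      apply mem_center_of_comm_ι
      intro m
      obtain ⟨m', e1, e2⟩ := hx m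
      rw [mul_assoc, e1, ← mul_assoc, e2, mul_assoc]
    obtain ⟨e, he⟩ := hcen _ hcen'
    refine ⟨e, ?_⟩
    have : x = (u : CliffordAlgebra Q) * (↑u⁻¹ * x) := by
      rw [← mul_assoc, Units.mul_inv, one_mul]
    rw [this, ← he, ← Algebra.commutes, ← Algebra.smul_def]
  obtain ⟨e, he⟩ := hc u₀ (fun m => by
    obtain ⟨m', r0, _, e2⟩ := hint m; exact ⟨m', r0, e2⟩)
  obtain ⟨e', he'⟩ := hc u₁ (fun m => by
    obtain ⟨m', _, r1, e2⟩ := hint m; exact ⟨m', r1, e2⟩)
  have hinj : ∀ r : R, r • (u : CliffordAlgebra Q) = 0 → r = 0 := by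
    intro r hr
    apply algebraMap_injective Q
    rw [map_zero, Algebra.algebraMap_eq_smul_one, ← Units.mul_inv u, ← smul_mul_assoc, hr, zero_mul]
  have hee' : e' = 1 - e := by
    have : (e + e' - 1) • (u : CliffordAlgebra Q) = 0 := by
      rw [sub_smul, add_smul, ← he, ← he', hsum, one_smul, sub_self]
    have := hinj _ this
    linear_combination this
  have hidem : (1 - e) * e = 0 := by
    apply hinj
    -- (1 - e) • u₀ = e • u₁ is both even and odd
    have h3 : (1 - e) • u₀ = e • u₁ := by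
      rw [he', hee', smul_smul, he, smul_smul, mul_comm]
    have h4 : (1 - e) • u₀ = 0 :=
      eq_zero_of_mem_both Q _ (Submodule.smul_mem _ _ h₀) (by rw [h3]; exact Submodule.smul_mem _ _ h₁)
    rw [mul_smul, ← he, h4]
  refine ⟨e, ?_, ?_, ?_⟩
  · change e * e = e
    linear_combination (-1 : R) * hidem
  · rw [← he]; exact h₀
  · rw [← hee', ← he']; exact h₁

end

end Groth.Agent.Lib.Helper15.Cl
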