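import Mathlib
import Groth.Agent.Lib.Helper15.ClEvFinal
import Groth.Agent.Lib.Helper15.ClGrp
import Groth.Agent.Lib.Helper15.AzumayaInner

/-! Even-rank regular Clifford algebras are Azumaya; isometries over local rings are inner. -/

set_option autoImplicit false
set_option linter.style.haveILetI false

namespace Groth.Agent.Lib.Helper15.Cl

open CliffordAlgebra TensorProduct Matrix
open Groth.Agent.Lib.Helper15.QSplit

universe u v

section
variable {R : Type u} [CommRing R] {M : Type v} [AddCommGroup M] [Module R M]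

/-- the isometry equivalence attached to an element of the orthogonal group -/
def isoOfMem (Q : QuadraticForm R M) (g : M ≃ₗ[R] M) (hg : g ∈ QuadGrp.O Q) : Q.IsometryEquiv Q :=
  { g with map_app' := hg }

lemma isoOfMem_apply (Q : QuadraticForm R M) (g : M ≃ₗ[R] M) (hg : g ∈ QuadGrp.O Q) (v : M) :
    isoOfMem Q g hg v = g v := rfl

lemma equivOfIsometry_ι (Q : QuadraticForm R M) (g : M ≃ₗ[R] M) (hg : g ∈ QuadGrp.O Q) (v : M) :
    equivOfIsometry (isoOfMem Q g hg) (ι Q v) = ι Q (g v) := by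
  rw [equivOfIsometry_apply, map_apply_ι]
  rfl

/-- an inner automorphism inducing `g` on vectors comes from the naive Clifford group -/
theorem mem_GPin'_of_inner (Q : QuadraticForm R M) (g : M ≃ₗ[R] M)
    (a : (CliffordAlgebra Q)ˣ)
    (ha : ∀ v, (a : CliffordAlgebra Q) * ι Q v * ↑a⁻¹ = ι Q (g v)) :
    a ∈ QuadGrp.GPin' Q := by
  apply mem_GPin'_of_conj Q a (fun m => ⟨g m, ha m⟩)
  intro m
  refine ⟨g.symm m, ?_⟩
  have := ha (g.symm m)
  rw [LinearEquiv.apply_symm_apply] at this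
  rw [← this]
  simp only [← mul_assoc, Units.inv_mul, one_mul]
  rw [mul_assoc, Units.inv_mul, mul_one]

variable {R' : Type u} [CommRing R'] [Algebra R R'] [Module.FaithfullyFlat R R']
  (m : ℕ) (b : Module.Basis (Fin (2 * m)) R M) (Q : QuadraticForm R M)
  (g : M →ₗ[R] (Fin (2 * m) → R'))
  (hg : ∀ x, Qm (Wsp R' (2 * m)) (g x) = algebraMap R R' (Q x))
  (hspan : Submodule.span R' (Set.range g) = ⊤)

include b hg hspan in
theorem even_isAzumaya : IsAzumaya R (CliffordAlgebra Q) := by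
  obtain ⟨e⟩ := even_full m b Q g hg hspan
  haveI : Nonempty (Fin (2 ^ m)) := ⟨⟨0, pow_pos (by norm_num) m⟩⟩
  haveI : IsAzumaya R' (Matrix (Fin (2 ^ m)) (Fin (2 ^ m)) R') := IsAzumaya.matrix R' (Fin (2 ^ m))
  haveI : IsAzumaya R' (R' ⊗[R] CliffordAlgebra Q) := IsAzumaya.of_AlgEquiv R' _ _ e.symm
  exact Groth.Agent.Lib.Helper15.Azumaya.isAzumaya_of_faithfullyFlat R' (CliffordAlgebra Q)

include b hg hspan in
theorem even_isometry_inner [IsLocalRing R] (γ : M ≃ₗ[R] M) (hγ : γ ∈ QuadGrp.O Q) :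
    ∃ u ∈ QuadGrp.GPin' Q, ∀ v : M,
      (u : CliffordAlgebra Q) * ι Q v * ↑u⁻¹ = ι Q (γ v) := by
  haveI := even_isAzumaya m b Q g hg hspan
  obtain ⟨a, ha⟩ := Groth.Agent.Lib.Helper15.Azumaya.exists_unit_conj R (CliffordAlgebra Q)
    (equivOfIsometry (isoOfMem Q γ hγ))
  have ha' : ∀ v, (a : CliffordAlgebra Q) * ι Q v * ↑a⁻¹ = ι Q (γ v) := by
    intro v
    rw [← ha, equivOfIsometry_ι]
  exact ⟨a, mem_GPin'_of_inner Q γ a ha', ha'⟩

end

end Groth.Agent.Lib.Helper15.Cl
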