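import Mathlib
import Groth.Agent.Lib.Helper15.ClEvGrp

/-! Even rank over a local ring: Dickson-trivial isometries come from the even Clifford group. -/

set_option autoImplicit false
set_option linter.style.haveILetI false

namespace Groth.Agent.Lib.Helper15.Cl

open CliffordAlgebra TensorProduct Matrix
open Groth.Agent.Lib.Helper15.QSplit

universe u v

section
variable {R : Type u} [CommRing R] {M : Type v} [AddCommGroup M] [Module R M]

lemma map_isometryOfMem_eq (Q : QuadraticForm R M) (γ : M ≃ₗ[R] M) (hγ : γ ∈ QuadGrp.O Q)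
    (x : CliffordAlgebra Q) :
    CliffordAlgebra.map (QuadGrp.isometryOfMem Q γ hγ) x = equivOfIsometry (isoOfMem Q γ hγ) x := by
  rw [equivOfIsometry_apply]
  rfl

/-- even units in the naive Clifford group lie in `GSpin` -/
theorem mem_GSpin_of_even (Q : QuadraticForm R M) (u : (CliffordAlgebra Q)ˣ)
    (hu : u ∈ QuadGrp.GPin' Q) (h0 : (u : CliffordAlgebra Q) ∈ evenOdd Q 0) :
    u ∈ QuadGrp.GSpin Q := by
  refine ⟨⟨hu, ?_⟩, h0⟩
  refine ⟨1, IsIdempotentElem.one, ?_, ?_⟩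
  · rw [one_smul]; exact h0
  · rw [sub_self, zero_smul]; exact Submodule.zero_mem _

variable {R' : Type u} [CommRing R'] [Algebra R R'] [Module.FaithfullyFlat R R']
  (m : ℕ) (b : Module.Basis (Fin (2 * m)) R M) (Q : QuadraticForm R M)
  (g : M →ₗ[R] (Fin (2 * m) → R'))
  (hg : ∀ x, Qm (Wsp R' (2 * m)) (g x) = algebraMap R R' (Q x))
  (hspan : Submodule.span R' (Set.range g) = ⊤)

include b hg hspan in
theorem even_isometry_inner' [IsLocalRing R] (γ : M ≃ₗ[R] M) (hγ : γ ∈ QuadGrp.O Q) :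
    ∃ u : (CliffordAlgebra Q)ˣ, u ∈ QuadGrp.GPin' Q ∧
      (∀ v : M, (u : CliffordAlgebra Q) * ι Q v * ↑u⁻¹ = ι Q (γ v)) ∧
      ∀ x, CliffordAlgebra.map (QuadGrp.isometryOfMem Q γ hγ) x = (u : CliffordAlgebra Q) * x * ↑u⁻¹ := by
  haveI := even_isAzumaya m b Q g hg hspan
  obtain ⟨a, ha⟩ := Groth.Agent.Lib.Helper15.Azumaya.exists_unit_conj R (CliffordAlgebra Q)
    (equivOfIsometry (isoOfMem Q γ hγ))
  have ha' : ∀ v, (a : CliffordAlgebra Q) * ι Q v * ↑a⁻¹ = ι Q (γ v) := by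
    intro v
    rw [← ha, equivOfIsometry_ι]
  exact ⟨a, mem_GPin'_of_inner Q γ a ha', ha', fun x => by rw [map_isometryOfMem_eq, ha]⟩

include b hg hspan in
/-- a unit inducing a Dickson-trivial isometry is even -/
theorem even_of_dickson (γ : M ≃ₗ[R] M) (hγ : γ ∈ QuadGrp.O Q)
    (hD : QuadGrp.IsDicksonTrivial Q γ hγ) (u : (CliffordAlgebra Q)ˣ)
    (hu : ∀ x, CliffordAlgebra.map (QuadGrp.isometryOfMem Q γ hγ) x = (u : CliffordAlgebra Q) * x * ↑u⁻¹) :
    (u : CliffordAlgebra Q) ∈ evenOdd Q 0 := by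
  have h1 : (u : CliffordAlgebra Q) ∈ Subalgebra.centralizer R
      ((even Q).val '' (Subalgebra.center R ↥(even Q) : Set ↥(even Q))) := by
    rw [Subalgebra.mem_centralizer_iff]
    rintro _ ⟨z, hz, rfl⟩
    have := hD z hz
    rw [hu] at this
    change (z : CliffordAlgebra Q) * u = u * z
    calc (z : CliffordAlgebra Q) * u = (u * z * ↑u⁻¹) * u := by rw [this]
      _ = u * z := by rw [mul_assoc, Units.inv_mul, mul_one]
  rw [even_centralizer m b Q g hg hspan] at h1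
  exact (mem_even_iff Q _).mp h1

include b hg hspan in
theorem even_SOeven_inner [IsLocalRing R] (γ : M ≃ₗ[R] M) (hγ : γ ∈ QuadGrp.SOeven Q) :
    ∃ u ∈ QuadGrp.GSpin Q, ∀ v : M,
      (u : CliffordAlgebra Q) * ι Q v * ↑u⁻¹ = ι Q (γ v) := by
  obtain ⟨hO, hD⟩ := hγ
  obtain ⟨u, hu, hconj, hmap⟩ := even_isometry_inner' m b Q g hg hspan γ hO
  exact ⟨u, mem_GSpin_of_even Q u hu (even_of_dickson m b Q g hg hspan γ hO hD u hmap), hconj⟩

end

end Groth.Agent.Lib.Helper15.Cl
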