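import Mathlib
import Groth.Agent.Lib.Helper15.ClEvGrp2

/-! Even rank over a local ring: the Dickson-trivial isometries have index two. -/

set_option autoImplicit false
set_option linter.style.haveILetI false

namespace Groth.Agent.Lib.Helper15.Cl

open CliffordAlgebra TensorProduct Matrix
open Groth.Agent.Lib.Helper15.QSplit

universe u v

section Refl
variable {R : Type u} [CommRing R] {M : Type v} [AddCommGroup M] [Module R M]
  (Q : QuadraticForm R M)

/-- the (negative of the) reflection in `v`, given an inverse `q'` of `Q v` -/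
noncomputable def nrefl (v : M) (q' : R) : M →ₗ[R] M :=
  q' • (LinearMap.smulRight (QuadraticMap.polarBilin Q v) v - Q v • LinearMap.id)

lemma nrefl_apply (v : M) (q' : R) (x : M) :
    nrefl Q v q' x = q' • (QuadraticMap.polar Q v x • v - Q v • x) := by
  simp [nrefl]

lemma nrefl_nrefl (v : M) (q' : R) (hq : Q v * q' = 1) (x : M) :
    nrefl Q v q' (nrefl Q v q' x) = x := by
  rw [nrefl_apply, nrefl_apply]
  have hp : QuadraticMap.polar Q v (q' • (QuadraticMap.polar Q v x • v - Q v • x)) =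
      q' * (QuadraticMap.polar Q v x * (2 * Q v) - Q v * QuadraticMap.polar Q v x) := by
    rw [QuadraticMap.polar_smul_right, QuadraticMap.polar_sub_right, QuadraticMap.polar_smul_right,
      QuadraticMap.polar_smul_right, QuadraticMap.polar_self]
    simp only [smul_eq_mul, nsmul_eq_mul, Nat.cast_ofNat]
  rw [hp]
  have h2 : (Q v * q') * (Q v * q') = 1 := by rw [hq, one_mul]
  have : q' • ((q' * (QuadraticMap.polar Q v x * (2 * Q v) - Q v * QuadraticMap.polar Q v x)) • v -
      Q v • q' • (QuadraticMap.polar Q v x • v - Q v • x)) = ((Q v * q') * (Q v * q')) • x := by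
    module
  rw [this, h2, one_smul]

/-- the linear automorphism `x ↦ -s_v(x)` -/
noncomputable def nreflE (v : M) (q' : R) (hq : Q v * q' = 1) : M ≃ₗ[R] M :=
  LinearEquiv.ofInvolutive (nrefl Q v q') (nrefl_nrefl Q v q' hq)

lemma nreflE_apply (v : M) (q' : R) (hq : Q v * q' = 1) (x : M) :
    nreflE Q v q' hq x = nrefl Q v q' x := rfl

/-- `ι v` as a unit -/
noncomputable def ιU (v : M) (q' : R) (hq : Q v * q' = 1) : (CliffordAlgebra Q)ˣ where
  val := ι Q v
  inv := q' • ι Q v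
  val_inv := by
    rw [mul_smul_comm, ι_sq_scalar, Algebra.algebraMap_eq_smul_one, smul_smul, mul_comm, hq, one_smul]
  inv_val := by
    rw [smul_mul_assoc, ι_sq_scalar, Algebra.algebraMap_eq_smul_one, smul_smul, mul_comm, hq, one_smul]

lemma ιU_val (v : M) (q' : R) (hq : Q v * q' = 1) : (ιU Q v q' hq : CliffordAlgebra Q) = ι Q v := rfl
lemma ιU_inv (v : M) (q' : R) (hq : Q v * q' = 1) :
    ((ιU Q v q' hq)⁻¹ : (CliffordAlgebra Q)ˣ).val = q' • ι Q v := rfl

lemma ιU_conj (v : M) (q' : R) (hq : Q v * q' = 1) (x : M) :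
    (ιU Q v q' hq : CliffordAlgebra Q) * ι Q x * ↑(ιU Q v q' hq)⁻¹ = ι Q (nrefl Q v q' x) := by
  rw [ιU_val, ιU_inv, mul_smul_comm, ι_mul_ι_mul_ι, nrefl_apply, map_smul]

end Refl

section Grp
variable {R : Type u} [CommRing R] {M : Type v} [AddCommGroup M] [Module R M]
  (Q : QuadraticForm R M)

theorem map_eq_conj (γ : M ≃ₗ[R] M) (hγ : γ ∈ QuadGrp.O Q) (u : (CliffordAlgebra Q)ˣ)
    (h : ∀ v, (u : CliffordAlgebra Q) * ι Q v * ↑u⁻¹ = ι Q (γ v)) (x : CliffordAlgebra Q) :
    CliffordAlgebra.map (QuadGrp.isometryOfMem Q γ hγ) x = (u : CliffordAlgebra Q) * x * ↑u⁻¹ := by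
  induction x using CliffordAlgebra.induction with
  | algebraMap r =>
    rw [AlgHom.commutes, ← Algebra.commutes, mul_assoc, Units.mul_inv, mul_one]
  | ι m =>
    rw [map_apply_ι, h]; rfl
  | mul a b ha hb =>
    rw [map_mul, ha, hb]
    simp only [mul_assoc]
    rw [← mul_assoc (↑u⁻¹ : CliffordAlgebra Q) (u : CliffordAlgebra Q), Units.inv_mul, one_mul]
  | add a b ha hb => rw [map_add, ha, hb, mul_add, add_mul]

theorem nreflE_mem_O [Module.Free R M] (v : M) (q' : R) (hq : Q v * q' = 1) :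
    nreflE Q v q' hq ∈ QuadGrp.O Q := by
  intro x
  apply algebraMap_injective Q
  rw [← ι_sq_scalar, ← ι_sq_scalar, nreflE_apply, ← ιU_conj Q v q' hq]
  simp only [mul_assoc]
  rw [← mul_assoc (↑(ιU Q v q' hq)⁻¹ : CliffordAlgebra Q) (ιU Q v q' hq : CliffordAlgebra Q),
    Units.inv_mul, one_mul, ← mul_assoc (ι Q x) (ι Q x), ι_sq_scalar, Algebra.commutes,
    ← mul_assoc, Units.mul_inv, one_mul]

theorem exists_isUnit_value [IsLocalRing R] {n : ℕ} (hn : 0 < n) (b : Module.Basis (Fin n) R M)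
    (hQ : Function.Bijective (QuadraticMap.polarBilin Q)) : ∃ v, IsUnit (Q v) := by
  by_contra h
  push Not at h
  have hm : ∀ v, Q v ∈ IsLocalRing.maximalIdeal R := fun v =>
    (IsLocalRing.mem_maximalIdeal _).mpr (h v)
  obtain ⟨v, hv⟩ := hQ.2 (b.coord ⟨0, hn⟩)
  have h1 : QuadraticMap.polar Q v (b ⟨0, hn⟩) = 1 := by
    have := congrArg (fun f => f (b ⟨0, hn⟩)) hv
    simpa using this
  have h2 : QuadraticMap.polar Q v (b ⟨0, hn⟩) ∈ IsLocalRing.maximalIdeal R := by
    unfold QuadraticMap.polar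
    exact Ideal.sub_mem _ (Ideal.sub_mem _ (hm _) (hm _)) (hm _)
  rw [h1] at h2
  exact (IsLocalRing.mem_maximalIdeal _).mp h2 isUnit_one

variable {R' : Type u} [CommRing R'] [Algebra R R'] [Module.FaithfullyFlat R R']
  (m : ℕ) (b : Module.Basis (Fin (2 * m)) R M)
  (g : M →ₗ[R] (Fin (2 * m) → R'))
  (hg : ∀ x, Qm (Wsp R' (2 * m)) (g x) = algebraMap R R' (Q x))
  (hspan : Submodule.span R' (Set.range g) = ⊤)

/-- `γ` is induced by a unit of parity `k` -/
def Par (γ : M ≃ₗ[R] M) (k : ZMod 2) : Prop :=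
  ∃ hγ : γ ∈ QuadGrp.O Q, ∃ u : (CliffordAlgebra Q)ˣ, (u : CliffordAlgebra Q) ∈ evenOdd Q k ∧
    ∀ x, CliffordAlgebra.map (QuadGrp.isometryOfMem Q γ hγ) x = (u : CliffordAlgebra Q) * x * ↑u⁻¹

include b hg hspan in
theorem par_total [IsLocalRing R] (γ : M ≃ₗ[R] M) (hγ : γ ∈ QuadGrp.O Q) :
    Par Q γ 0 ∨ Par Q γ 1 := by
  haveI : Module.Free R M := Module.Free.of_basis b
  obtain ⟨u, hu, _, hmap⟩ := even_isometry_inner' m b Q g hg hspan γ hγ
  obtain ⟨e, he, h0, h1⟩ := isLocHomog_of_mem_GPin' Q (even_center_scalar' m b Q g hg hspan) u hu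
  rcases IsLocalRing.isUnit_or_isUnit_one_sub_self e with h | h
  · left
    have he1 : e = 1 := by
      have : e * (1 - e) = 0 := by
        have : e * e = e := he
        linear_combination -this
      have := (h.mul_right_eq_zero).mp this
      linear_combination -this
    rw [he1, one_smul] at h0
    exact ⟨hγ, u, h0, hmap⟩
  · right
    have he0 : e = 0 := by
      have : (1 - e) * e = 0 := by
        have : e * e = e := he
        linear_combination -this
      exact (h.mul_right_eq_zero).mp this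
    rw [he0, sub_zero, one_smul] at h1
    exact ⟨hγ, u, h1, hmap⟩

theorem par_zero_mem (γ : M ≃ₗ[R] M) (h : Par Q γ 0) : γ ∈ QuadGrp.SOeven Q := by
  obtain ⟨hγ, u, h0, hmap⟩ := h
  refine ⟨hγ, fun z hz => ?_⟩
  rw [hmap]
  have := (Subalgebra.mem_center_iff.mp hz) ⟨u, (mem_even_iff Q _).mpr h0⟩
  have h1 : (u : CliffordAlgebra Q) * z = z * u := congrArg Subtype.val this
  rw [h1, mul_assoc, Units.mul_inv, mul_one]

include b hg hspan in
theorem par_one_not_mem [Nontrivial R] (γ : M ≃ₗ[R] M) (h : Par Q γ 1) :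
    γ ∉ QuadGrp.SOeven Q := by
  haveI : Module.Free R M := Module.Free.of_basis b
  obtain ⟨hγ, u, h1, hmap⟩ := h
  rintro ⟨hγ', hD⟩
  have h0 := even_of_dickson m b Q g hg hspan γ hγ' hD u hmap
  have hz : (u : CliffordAlgebra Q) = 0 := eq_zero_of_mem_both Q _ h0 h1
  have h10 : (1 : CliffordAlgebra Q) = 0 := by
    rw [← Units.mul_inv u, hz, zero_mul]
  -- but then `R'` is trivial
  have : (1 : R) = 0 := algebraMap_injective Q (by rw [map_one, map_zero, h10])
  exact one_ne_zero this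

theorem par_mul (γ δ : M ≃ₗ[R] M) (j k : ZMod 2) (hγ : Par Q γ j) (hδ : Par Q δ k) :
    Par Q (γ * δ) (j + k) := by
  obtain ⟨hγO, u, hu, hmapu⟩ := hγ
  obtain ⟨hδO, w, hw, hmapw⟩ := hδ
  refine ⟨(QuadGrp.O Q).mul_mem hγO hδO, u * w, ?_, fun x => ?_⟩
  · rw [Units.val_mul]
    exact SetLike.mul_mem_graded hu hw
  · have : CliffordAlgebra.map (QuadGrp.isometryOfMem Q (γ * δ) ((QuadGrp.O Q).mul_mem hγO hδO)) =
        (CliffordAlgebra.map (QuadGrp.isometryOfMem Q γ hγO)).comp
          (CliffordAlgebra.map (QuadGrp.isometryOfMem Q δ hδO)) := by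
      apply CliffordAlgebra.hom_ext; ext v; simp [QuadGrp.isometryOfMem]
    rw [this, AlgHom.comp_apply, hmapw, hmapu, Units.val_mul, _root_.mul_inv_rev, Units.val_mul]
    simp only [mul_assoc]

include b hg hspan in
theorem even_index_two [IsLocalRing R] (hm : 1 ≤ m)
    (hQ : Function.Bijective (QuadraticMap.polarBilin Q)) :
    ((QuadGrp.SOeven Q).subgroupOf (QuadGrp.O Q)).index = 2 := by
  haveI : Module.Free R M := Module.Free.of_basis b
  obtain ⟨v, hv⟩ := exists_isUnit_value Q (by omega) b hQ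
  obtain ⟨q', hq⟩ := hv.exists_right_inv
  have haO := nreflE_mem_O Q v q' hq
  have hapar : Par Q (nreflE Q v q' hq) 1 :=
    ⟨haO, ιU Q v q' hq, ι_mem_evenOdd_one Q v,
      map_eq_conj Q _ haO (ιU Q v q' hq) (fun x => by rw [ιU_conj]; rfl)⟩
  rw [Subgroup.index_eq_two_iff_exists_notMem_and]
  refine ⟨⟨nreflE Q v q' hq, haO⟩, ?_, ?_⟩
  · rw [Subgroup.mem_subgroupOf]
    exact par_one_not_mem Q m b g hg hspan _ hapar
  · rintro ⟨β, hβ⟩
    rw [Subgroup.mem_subgroupOf, Subgroup.mem_subgroupOf]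
    rcases par_total Q m b g hg hspan β hβ with h | h
    · right
      exact par_zero_mem Q β h
    · left
      have := par_mul Q β (nreflE Q v q' hq) 1 1 h hapar
      exact par_zero_mem Q _ this

end Grp

end Groth.Agent.Lib.Helper15.Cl
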