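import Mathlib

/-! Filtration of a Clifford algebra by length of products; `changeForm` is unitriangular. -/

set_option autoImplicit false
set_option linter.style.haveILetI false

namespace Groth.Agent.Lib.Helper15.Cl

open CliffordAlgebra

universe u v

section LP
variable {R : Type u} [CommRing R] {M : Type v} [AddCommGroup M] [Module R M]
  (Q : QuadraticForm R M)

/-- the product of a list of vectors -/
noncomputable def lp (l : List M) : CliffordAlgebra Q := (l.map (ι Q)).prod

@[simp] lemma lp_nil : lp Q [] = 1 := by simp [lp]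
@[simp] lemma lp_cons (v : M) (l : List M) : lp Q (v :: l) = ι Q v * lp Q l := by simp [lp]
lemma lp_append (l l' : List M) : lp Q (l ++ l') = lp Q l * lp Q l' := by simp [lp]

/-- the span of the products of fewer than `k` vectors, of length of parity `p` -/
def S (k : ℕ) (p : ZMod 2) : Submodule R (CliffordAlgebra Q) :=
  Submodule.span R {x | ∃ l : List M, l.length < k ∧ ((l.length : ℕ) : ZMod 2) = p ∧ x = lp Q l}

lemma lp_mem_S (l : List M) (k : ℕ) (p : ZMod 2) (h1 : l.length < k)
    (h2 : ((l.length : ℕ) : ZMod 2) = p) : lp Q l ∈ S Q k p :=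
  Submodule.subset_span ⟨l, h1, h2, rfl⟩

lemma S_mono {k k' : ℕ} (h : k ≤ k') (p : ZMod 2) : S Q k p ≤ S Q k' p :=
  Submodule.span_mono (fun _ ⟨l, h1, h2, e⟩ => ⟨l, lt_of_lt_of_le h1 h, h2, e⟩)

lemma ι_mul_mem_S (v : M) {k : ℕ} {p : ZMod 2} {x : CliffordAlgebra Q} (hx : x ∈ S Q k p) :
    ι Q v * x ∈ S Q (k + 1) (p + 1) := by
  induction hx using Submodule.span_induction with
  | mem x hx =>
    obtain ⟨l, h1, h2, rfl⟩ := hx
    rw [← lp_cons]
    refine lp_mem_S Q (v :: l) _ _ (by simp only [List.length_cons]; omega) ?_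
    simp only [List.length_cons, Nat.cast_add, Nat.cast_one, h2]
  | zero => rw [mul_zero]; exact zero_mem _
  | add x y _ _ hx hy => rw [mul_add]; exact add_mem hx hy
  | smul a x _ hx => rw [mul_smul_comm]; exact Submodule.smul_mem _ _ hx

lemma contractLeft_lp_mem (d : Module.Dual R M) (l : List M) :
    contractLeft d (lp Q l) ∈ S Q l.length (((l.length : ℕ) : ZMod 2) + 1) := by
  induction l with
  | nil => rw [lp_nil, contractLeft_one]; exact zero_mem _
  | cons v l ih =>
    rw [lp_cons, contractLeft_ι_mul]
    refine sub_mem (Submodule.smul_mem _ _ ?_) ?_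
    · refine lp_mem_S Q l _ _ (by simp) ?_
      simp only [List.length_cons, Nat.cast_add, Nat.cast_one, add_assoc]
      rw [show (1 : ZMod 2) + 1 = 0 from rfl, add_zero]
    · have := ι_mul_mem_S Q v ih
      simpa only [List.length_cons, Nat.cast_add, Nat.cast_one] using this

lemma contractLeft_mem_S (d : Module.Dual R M) {k : ℕ} {p : ZMod 2} {x : CliffordAlgebra Q}
    (hx : x ∈ S Q k p) : contractLeft d x ∈ S Q k (p + 1) := by
  induction hx using Submodule.span_induction with
  | mem x hx =>
    obtain ⟨l, h1, h2, rfl⟩ := hx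
    have := contractLeft_lp_mem Q d l
    rw [h2] at this
    exact S_mono Q h1.le _ this
  | zero => rw [map_zero]; exact zero_mem _
  | add x y _ _ hx hy => rw [map_add]; exact add_mem hx hy
  | smul a x _ hx => rw [map_smul]; exact Submodule.smul_mem _ _ hx

variable {Q} {Q' : QuadraticForm R M} {B : LinearMap.BilinForm R M}
  (h : B.toQuadraticMap = Q' - Q)

/-- `changeForm` maps a product of vectors to the corresponding product, up to shorter products
of the same parity -/
theorem changeForm_lp (l : List M) :
    changeForm h (lp Q l) - lp Q' l ∈ S Q' l.length ((l.length : ℕ) : ZMod 2) := by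
  induction l with
  | nil => rw [lp_nil, lp_nil, changeForm_one, sub_self]; exact zero_mem _
  | cons v l ih =>
    rw [lp_cons, lp_cons, changeForm_ι_mul]
    obtain ⟨y, hy⟩ : ∃ y, y = changeForm h (lp Q l) - lp Q' l := ⟨_, rfl⟩
    have hcf : changeForm h (lp Q l) = lp Q' l + y := by rw [hy]; abel
    rw [← hy] at ih
    rw [hcf, mul_add, map_add]
    have e : ι Q' v * lp Q' l + ι Q' v * y - (contractLeft (B v) (lp Q' l) + contractLeft (B v) y) -
        ι Q' v * lp Q' l = ι Q' v * y - contractLeft (B v) (lp Q' l) - contractLeft (B v) y := by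
      abel
    rw [e]
    have hcast : (((v :: l).length : ℕ) : ZMod 2) = ((l.length : ℕ) : ZMod 2) + 1 := by
      simp only [List.length_cons, Nat.cast_add, Nat.cast_one]
    rw [hcast, List.length_cons]
    refine sub_mem (sub_mem ?_ ?_) ?_
    · exact ι_mul_mem_S Q' v ih
    · exact S_mono Q' (Nat.le_succ _) _ (contractLeft_lp_mem Q' (B v) l)
    · exact S_mono Q' (Nat.le_succ _) _ (contractLeft_mem_S Q' (B v) ih)

end LP

end Groth.Agent.Lib.Helper15.Cl
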