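import Mathlib
import Groth.Agent.Lib.Helper15.ClTau1
import Groth.Agent.Lib.Helper15.ClFree

/-! The top-coefficient functional on a Clifford algebra of a free module with basis. -/

set_option autoImplicit false
set_option linter.style.haveILetI false

namespace Groth.Agent.Lib.Helper15.Cl

open CliffordAlgebra

universe u v

section Top
variable {R : Type u} [CommRing R] {M : Type v} [AddCommGroup M] [Module R M] {n : ℕ}
  (b : Module.Basis (Fin n) R M)

/-- the determinant as a linear form on the top exterior power -/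
noncomputable def detL : ⋀[R]^n M →ₗ[R] R := exteriorPower.alternatingMapLinearEquiv b.det

lemma detL_ιMulti (v : Fin n → M) : detL b (exteriorPower.ιMulti R n v) = b.det v :=
  exteriorPower.alternatingMapLinearEquiv_apply_ιMulti _ _

/-- the component of degree `n` -/
noncomputable def compn : ExteriorAlgebra R M →ₗ[R] ⋀[R]^n M :=
  (DirectSum.component R ℕ (fun i => ↥(⋀[R]^i M)) n) ∘ₗ
    (DirectSum.decomposeLinearEquiv (fun i => ⋀[R]^i M)).toLinearMap

lemma compn_apply (y : ExteriorAlgebra R M) :
    compn (n := n) y = DirectSum.decompose (fun i => ⋀[R]^i M) y n := rfl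

/-- the top coefficient -/
noncomputable def top : ExteriorAlgebra R M →ₗ[R] R := detL b ∘ₗ compn

lemma top_of_mem_ne {k : ℕ} (y : ExteriorAlgebra R M) (hy : y ∈ ⋀[R]^k M) (hk : k ≠ n) :
    top b y = 0 := by
  have : compn (n := n) y = 0 := by
    rw [compn_apply]
    apply Subtype.ext
    rw [DirectSum.decompose_of_mem_ne (ℳ := fun i => ⋀[R]^i M) hy hk]
    rfl
  rw [top, LinearMap.comp_apply, this, map_zero]

lemma top_ιMulti (v : Fin n → M) : top b (ExteriorAlgebra.ιMulti R n v) = b.det v := by
  have : compn (n := n) (ExteriorAlgebra.ιMulti R n v) = exteriorPower.ιMulti R n v := by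
    rw [compn_apply]
    apply Subtype.ext
    rw [DirectSum.decompose_of_mem_same (ℳ := fun i => ⋀[R]^i M)
      (ExteriorAlgebra.ιMulti_range R n (Set.mem_range_self v))]
    rfl
  rw [top, LinearMap.comp_apply, this, detL_ιMulti]

lemma lp_zero_eq_ιMulti (l : List M) :
    lp (0 : QuadraticForm R M) l = ExteriorAlgebra.ιMulti R l.length (fun i => l.get i) := by
  rw [ExteriorAlgebra.ιMulti_apply, lp]
  congr 1
  have h0 : (fun i => ExteriorAlgebra.ι R (l.get i)) = (ExteriorAlgebra.ι R) ∘ l.get := rfl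
  rw [h0, ← List.map_ofFn, List.ofFn_get]

lemma lp_zero_mem (l : List M) : lp (0 : QuadraticForm R M) l ∈ ⋀[R]^l.length M := by
  rw [lp_zero_eq_ιMulti]
  exact ExteriorAlgebra.ιMulti_range R _ (Set.mem_range_self _)

lemma top_lp_of_ne (l : List M) (h : l.length ≠ n) : top b (lp (0 : QuadraticForm R M) l) = 0 :=
  top_of_mem_ne b _ (lp_zero_mem l) h

lemma top_lp_ofFn (v : Fin n → M) : top b (lp (0 : QuadraticForm R M) (List.ofFn v)) = b.det v := by
  have : lp (0 : QuadraticForm R M) (List.ofFn v) = ExteriorAlgebra.ιMulti R n v := by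
    rw [ExteriorAlgebra.ιMulti_apply, lp, List.map_ofFn]
    rfl
  rw [this, top_ιMulti]

lemma top_S {k : ℕ} {p : ZMod 2} (x : ExteriorAlgebra R M)
    (hx : x ∈ S (0 : QuadraticForm R M) k p) (hk : k ≤ n ∨ p ≠ ((n : ℕ) : ZMod 2)) :
    top b x = 0 := by
  induction hx using Submodule.span_induction with
  | mem x hx =>
    obtain ⟨l, h1, h2, rfl⟩ := hx
    apply top_lp_of_ne
    rcases hk with hk | hk
    · omega
    · intro hl
      rw [hl] at h2
      exact hk h2.symm
  | zero => rw [map_zero]
  | add x y _ _ hx hy => rw [map_add, hx, hy, add_zero]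
  | smul a x _ hx => rw [map_smul, hx, smul_zero]

end Top

section Tau
variable {R : Type u} [CommRing R] {M : Type v} [AddCommGroup M] [Module R M] {n : ℕ}
  (b : Module.Basis (Fin n) R M) (Q : QuadraticForm R M) [Module.Free R M]

/-- the top-coefficient functional -/
noncomputable def τ : CliffordAlgebra Q →ₗ[R] R := top b ∘ₗ (toExt Q).toLinearMap

lemma toExt_lp (l : List M) :
    toExt Q (lp Q l) - lp (0 : QuadraticForm R M) l ∈
      S (0 : QuadraticForm R M) l.length ((l.length : ℕ) : ZMod 2) :=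
  changeForm_lp (exists_neg_bilin Q).choose_spec l

lemma τ_lp_of_lt (l : List M) (h : l.length < n) : τ b Q (lp Q l) = 0 := by
  have h1 := toExt_lp Q l
  have h2 : toExt Q (lp Q l) = lp (0 : QuadraticForm R M) l +
      (toExt Q (lp Q l) - lp (0 : QuadraticForm R M) l) := by abel
  rw [τ, LinearMap.comp_apply, LinearEquiv.coe_coe, h2, map_add,
    top_lp_of_ne b l (by omega), top_S b _ h1 (Or.inl (by omega)), add_zero]

lemma τ_lp_of_parity (l : List M) (h : ((l.length : ℕ) : ZMod 2) ≠ ((n : ℕ) : ZMod 2)) :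
    τ b Q (lp Q l) = 0 := by
  have h1 := toExt_lp Q l
  have h2 : toExt Q (lp Q l) = lp (0 : QuadraticForm R M) l +
      (toExt Q (lp Q l) - lp (0 : QuadraticForm R M) l) := by abel
  rw [τ, LinearMap.comp_apply, LinearEquiv.coe_coe, h2, map_add,
    top_lp_of_ne b l (by intro hl; rw [hl] at h; exact h rfl), top_S b _ h1 (Or.inr h), add_zero]

lemma τ_lp_ofFn (v : Fin n → M) : τ b Q (lp Q (List.ofFn v)) = b.det v := by
  have h1 := toExt_lp Q (List.ofFn v)
  have h2 : toExt Q (lp Q (List.ofFn v)) = lp (0 : QuadraticForm R M) (List.ofFn v) +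
      (toExt Q (lp Q (List.ofFn v)) - lp (0 : QuadraticForm R M) (List.ofFn v)) := by abel
  rw [τ, LinearMap.comp_apply, LinearEquiv.coe_coe, h2, map_add, top_lp_ofFn,
    top_S b _ h1 (Or.inl (by simp)), add_zero]

end Tau

end Groth.Agent.Lib.Helper15.Cl
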