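import Mathlib
import Groth.Agent.Lib.Helper15.ClTau2

/-! A Clifford algebra of a free module of rank `n` is spanned by products of at most `n` vectors. -/

set_option autoImplicit false
set_option linter.style.haveILetI false

namespace Groth.Agent.Lib.Helper15.Cl

open CliffordAlgebra

universe u v

section Span
variable {R : Type u} [CommRing R] {M : Type v} [AddCommGroup M] [Module R M]
  (Q : QuadraticForm R M)

/-- the span of the products of at most `k` vectors -/
def FQ (k : ℕ) : Submodule R (CliffordAlgebra Q) :=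
  Submodule.span R {x | ∃ l : List M, l.length ≤ k ∧ x = lp Q l}

lemma lp_mem_FQ (l : List M) (k : ℕ) (h : l.length ≤ k) : lp Q l ∈ FQ Q k :=
  Submodule.subset_span ⟨l, h, rfl⟩

lemma FQ_mono {k k' : ℕ} (h : k ≤ k') : FQ Q k ≤ FQ Q k' :=
  Submodule.span_mono (fun _ ⟨l, h1, e⟩ => ⟨l, h1.trans h, e⟩)

variable [Module.Free R M]

theorem symm_lp_mem (l : List M) :
    (toExt Q).symm (lp (0 : QuadraticForm R M) l) ∈ FQ Q l.length := by
  induction' hk : l.length using Nat.strong_induction_on with k ih generalizing l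
  subst hk
  have h1 := toExt_lp Q l
  -- elements of `S 0 (len l)` pull back into `FQ (len l)`
  have key : ∀ y ∈ S (0 : QuadraticForm R M) l.length ((l.length : ℕ) : ZMod 2),
      (toExt Q).symm y ∈ FQ Q l.length := by
    intro y hy
    induction hy using Submodule.span_induction with
    | mem x hx =>
      obtain ⟨l', h1', _, rfl⟩ := hx
      exact FQ_mono Q h1'.le (ih l'.length h1' l' rfl)
    | zero => rw [map_zero]; exact zero_mem _
    | add x y _ _ hx hy => rw [map_add]; exact add_mem hx hy
    | smul a x _ hx => rw [map_smul]; exact Submodule.smul_mem _ _ hx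
  have h2 : (toExt Q).symm (lp (0 : QuadraticForm R M) l) =
      lp Q l - (toExt Q).symm (toExt Q (lp Q l) - lp (0 : QuadraticForm R M) l) := by
    rw [map_sub, LinearEquiv.symm_apply_apply]; abel
  rw [h2]
  exact sub_mem (lp_mem_FQ Q l _ le_rfl) (key _ h1)

theorem FQ_eq_top {n : ℕ} (b : Module.Basis (Fin n) R M) : FQ Q n = ⊤ := by
  rw [eq_top_iff, ← (basisC Q b).span_eq, Submodule.span_le]
  rintro _ ⟨s, rfl⟩
  have h1 : basisC Q b s = (toExt Q).symm (b.ExteriorAlgebra s) := rfl
  obtain ⟨w, h2⟩ : ∃ w : Fin s.card → M, b.ExteriorAlgebra s =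
      lp (0 : QuadraticForm R M) (List.ofFn w) := by
    refine ⟨b ∘ (Set.powersetCard.ofFinEmbEquiv.symm (Set.powersetCard.ofCard (rfl : s.card = s.card))), ?_⟩
    rw [ExteriorAlgebra.basis_apply_ofCard b (rfl : s.card = s.card), lp, List.map_ofFn]
    rfl
  rw [SetLike.mem_coe, h1, h2]
  refine FQ_mono Q ?_ (symm_lp_mem Q _)
  rw [List.length_ofFn]
  calc s.card ≤ (Finset.univ : Finset (Fin n)).card := Finset.card_le_univ s
    _ = n := by simp

end Span

end Groth.Agent.Lib.Helper15.Cl
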