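import Mathlib
import Groth.Agent.Lib.Helper15.ClTau3

/-! The top-coefficient functional: behaviour under isometries and (super)trace property. -/

set_option autoImplicit false
set_option linter.style.haveILetI false

namespace Groth.Agent.Lib.Helper15.Cl

open CliffordAlgebra

universe u v

section Tau
variable {R : Type u} [CommRing R] {M : Type v} [AddCommGroup M] [Module R M] {n : ℕ}
  (b : Module.Basis (Fin n) R M) (Q : QuadraticForm R M) [Module.Free R M]

lemma exists_ofFn (l : List M) (h : l.length = n) : ∃ v : Fin n → M, l = List.ofFn v := by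
  subst h
  exact ⟨l.get, (List.ofFn_get l).symm⟩

lemma map_lp (f : Q →qᵢ Q) (l : List M) : CliffordAlgebra.map f (lp Q l) = lp Q (l.map f) := by
  induction l with
  | nil => simp
  | cons v l ih => rw [lp_cons, map_mul, map_apply_ι, ih, List.map_cons, lp_cons]

theorem τ_map (f : Q →qᵢ Q) (x : CliffordAlgebra Q) :
    τ b Q (CliffordAlgebra.map f x) = LinearMap.det f.toLinearMap * τ b Q x := by
  have hx : x ∈ FQ Q n := by rw [FQ_eq_top Q b]; trivial
  induction hx using Submodule.span_induction with
  | mem x hx =>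
    obtain ⟨l, hl, rfl⟩ := hx
    rw [map_lp]
    rcases Nat.lt_or_ge l.length n with h | h
    · rw [τ_lp_of_lt b Q _ (by rw [List.length_map]; exact h), τ_lp_of_lt b Q _ h, mul_zero]
    · obtain ⟨v, rfl⟩ := exists_ofFn l (le_antisymm hl h)
      rw [List.map_ofFn, τ_lp_ofFn, τ_lp_ofFn]
      exact Module.Basis.det_comp b f.toLinearMap v
  | zero => simp
  | add x y _ _ hx hy => rw [map_add, map_add, map_add, hx, hy, mul_add]
  | smul a x _ hx => rw [map_smul, map_smul, map_smul, hx, smul_eq_mul, smul_eq_mul]; ring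

lemma cons_ofFn {k : ℕ} (v : M) (w : Fin k → M) :
    v :: List.ofFn w = List.ofFn (Fin.cons v w : Fin (k + 1) → M) := by
  rw [List.ofFn_succ]
  simp

lemma ofFn_append_singleton {k : ℕ} (v : M) (w : Fin k → M) :
    List.ofFn w ++ [v] = List.ofFn (Fin.snoc w v : Fin (k + 1) → M) := by
  rw [List.ofFn_succ', List.concat_eq_append]
  simp

/-- `τ(v x) = (-1)^(n+1) τ(x v)` -/
theorem τ_ι_mul (v : M) (x : CliffordAlgebra Q) :
    τ b Q (ι Q v * x) = (-1) ^ (n + 1) * τ b Q (x * ι Q v) := by
  have hx : x ∈ FQ Q n := by rw [FQ_eq_top Q b]; trivial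
  induction hx using Submodule.span_induction with
  | mem x hx =>
    obtain ⟨l, hl, rfl⟩ := hx
    have e1 : ι Q v * lp Q l = lp Q (v :: l) := (lp_cons Q v l).symm
    have e2 : lp Q l * ι Q v = lp Q (l ++ [v]) := by
      rw [lp_append, lp_cons, lp_nil, mul_one]
    rw [e1, e2]
    rcases Nat.lt_trichotomy (l.length + 1) n with h | h | h
    · rw [τ_lp_of_lt b Q _ (by simpa using h), τ_lp_of_lt b Q _ (by simpa using h), mul_zero]
    · obtain ⟨k, rfl⟩ : ∃ k, n = k + 1 := ⟨l.length, h.symm⟩
      obtain ⟨w, rfl⟩ := exists_ofFn l (by omega : l.length = k)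
      rw [cons_ofFn, ofFn_append_singleton, τ_lp_ofFn, τ_lp_ofFn, Fin.snoc_eq_cons_rotate]
      have := AlternatingMap.map_perm b.det (Fin.cons v w : Fin (k + 1) → M) (finRotate (k + 1))
      rw [Function.comp_def] at this
      rw [this, sign_finRotate, Nat.add_sub_cancel]
      simp only [Units.smul_def, Units.val_pow_eq_pow_val, Units.val_neg, Units.val_one,
        zsmul_eq_mul, Int.cast_pow, Int.cast_neg, Int.cast_one]
      rw [← mul_assoc, ← pow_add]
      have : (k + 1 + 1 + k) = 2 * (k + 1) := by ring
      rw [this, pow_mul, neg_one_sq, one_pow, one_mul]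
    · have hn : l.length = n := by omega
      have hp : (((v :: l).length : ℕ) : ZMod 2) ≠ ((n : ℕ) : ZMod 2) := by
        rw [List.length_cons, hn, Nat.cast_add, Nat.cast_one]
        intro h0
        have : (1 : ZMod 2) = 0 := by
          have := congrArg (fun t => t - ((n : ℕ) : ZMod 2)) h0
          simpa using this
        exact one_ne_zero this
      have hp' : (((l ++ [v]).length : ℕ) : ZMod 2) ≠ ((n : ℕ) : ZMod 2) := by
        rw [List.length_append, List.length_singleton]
        rw [List.length_cons] at hp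
        exact hp
      rw [τ_lp_of_parity b Q _ hp, τ_lp_of_parity b Q _ hp', mul_zero]
  | zero => simp
  | add x y _ _ hx hy => rw [mul_add, add_mul, map_add, map_add, hx, hy, mul_add]
  | smul a x _ hx =>
    rw [mul_smul_comm, smul_mul_assoc, map_smul, map_smul, hx, smul_eq_mul, smul_eq_mul]; ring

end Tau

end Groth.Agent.Lib.Helper15.Cl
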