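import Mathlib
import Groth.Prelude.Def_QuadGrp
import Groth.Agent.Lib.Helper15.ClTau4

/-! Determinants of isometries induced by units of the Clifford algebra. -/

set_option autoImplicit false
set_option linter.style.haveILetI false

namespace Groth.Agent.Lib.Helper15.Cl

open CliffordAlgebra

universe u v

section Tau
variable {R : Type u} [CommRing R] {M : Type v} [AddCommGroup M] [Module R M] {n : ℕ}
  (b : Module.Basis (Fin n) R M) (Q : QuadraticForm R M) [Module.Free R M]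

theorem τ_comm_of_odd_rank (hn : Odd n) (a x : CliffordAlgebra Q) :
    τ b Q (a * x) = τ b Q (x * a) := by
  have hε : ((-1 : R)) ^ (n + 1) = 1 := by
    obtain ⟨k, rfl⟩ := hn
    have : 2 * k + 1 + 1 = 2 * (k + 1) := by ring
    rw [this, pow_mul, neg_one_sq, one_pow]
  induction a using CliffordAlgebra.induction generalizing x with
  | algebraMap r => rw [Algebra.commutes]
  | ι v => rw [τ_ι_mul, hε, one_mul]
  | mul a c ha hc => rw [mul_assoc, ha, mul_assoc, hc, mul_assoc]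
  | add a c ha hc => rw [add_mul, mul_add, map_add, map_add, ha, hc]

theorem τ_comm_of_even (a : CliffordAlgebra Q) (ha : a ∈ evenOdd Q 0) (x : CliffordAlgebra Q) :
    τ b Q (a * x) = τ b Q (x * a) := by
  have hε : ((-1 : R)) ^ (n + 1) * (-1) ^ (n + 1) = 1 := by
    rw [← pow_add]
    have : n + 1 + (n + 1) = 2 * (n + 1) := by ring
    rw [this, pow_mul, neg_one_sq, one_pow]
  revert x
  refine even_induction Q (motive := fun a _ => ∀ x, τ b Q (a * x) = τ b Q (x * a)) ?_ ?_ ?_ a ha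
  · intro r x
    rw [Algebra.commutes]
  · intro a c _ _ iha ihc x
    rw [add_mul, mul_add, map_add, map_add, iha, ihc]
  · intro m₁ m₂ a _ ih x
    have e1 : ι Q m₁ * ι Q m₂ * a * x = ι Q m₁ * (ι Q m₂ * a * x) := by simp only [mul_assoc]
    have e2 : ι Q m₂ * a * x * ι Q m₁ = ι Q m₂ * (a * x * ι Q m₁) := by simp only [mul_assoc]
    have e3 : a * x * ι Q m₁ * ι Q m₂ = a * (x * ι Q m₁ * ι Q m₂) := by simp only [mul_assoc]
    rw [e1, τ_ι_mul, e2, τ_ι_mul, ← mul_assoc, hε, one_mul, e3, ih]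
    simp only [mul_assoc]

theorem τ_anticomm_of_odd (hn : Even n) (a : CliffordAlgebra Q) (ha : a ∈ evenOdd Q 1)
    (x : CliffordAlgebra Q) : τ b Q (a * x) = - τ b Q (x * a) := by
  have hε : ((-1 : R)) ^ (n + 1) = -1 := by
    obtain ⟨k, rfl⟩ := hn
    rw [pow_succ, ← two_mul, pow_mul, neg_one_sq, one_pow, one_mul]
  revert x
  refine odd_induction Q (P := fun a _ => ∀ x, τ b Q (a * x) = - τ b Q (x * a)) ?_ ?_ ?_ a ha
  · intro v x
    rw [τ_ι_mul, hε, neg_one_mul]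
  · intro a c _ _ iha ihc x
    rw [add_mul, mul_add, map_add, map_add, iha, ihc, neg_add]
  · intro m₁ m₂ a _ ih x
    have e1 : ι Q m₁ * ι Q m₂ * a * x = ι Q m₁ * (ι Q m₂ * a * x) := by simp only [mul_assoc]
    have e2 : ι Q m₂ * a * x * ι Q m₁ = ι Q m₂ * (a * x * ι Q m₁) := by simp only [mul_assoc]
    have e3 : a * x * ι Q m₁ * ι Q m₂ = a * (x * ι Q m₁ * ι Q m₂) := by simp only [mul_assoc]
    rw [e1, τ_ι_mul, e2, τ_ι_mul, hε, e3, ih]
    simp only [mul_assoc, neg_mul, one_mul, neg_neg]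

theorem τ_top : τ b Q (lp Q (List.ofFn b)) = 1 := by
  rw [τ_lp_ofFn, Module.Basis.det_self]

include b in
theorem det_eq_one_of_conj (γ : M ≃ₗ[R] M) (hγ : γ ∈ QuadGrp.O Q) (u : (CliffordAlgebra Q)ˣ)
    (hu : ∀ x, CliffordAlgebra.map (QuadGrp.isometryOfMem Q γ hγ) x = (u : CliffordAlgebra Q) * x * ↑u⁻¹)
    (h : Odd n ∨ (u : CliffordAlgebra Q) ∈ evenOdd Q 0) :
    LinearMap.det γ.toLinearMap = 1 := by
  have h1 := τ_map b Q (QuadGrp.isometryOfMem Q γ hγ) (lp Q (List.ofFn b))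
  rw [hu, τ_top, mul_one] at h1
  have h2 : τ b Q ((u : CliffordAlgebra Q) * lp Q (List.ofFn b) * ↑u⁻¹) = 1 := by
    rw [mul_assoc]
    rcases h with h | h
    · rw [τ_comm_of_odd_rank b Q h, mul_assoc, Units.inv_mul, mul_one, τ_top]
    · rw [τ_comm_of_even b Q _ h, mul_assoc, Units.inv_mul, mul_one, τ_top]
  rw [h2] at h1
  exact h1.symm

include b in
theorem det_eq_neg_one_of_conj (hn : Even n) (γ : M ≃ₗ[R] M) (hγ : γ ∈ QuadGrp.O Q)
    (u : (CliffordAlgebra Q)ˣ)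
    (hu : ∀ x, CliffordAlgebra.map (QuadGrp.isometryOfMem Q γ hγ) x = (u : CliffordAlgebra Q) * x * ↑u⁻¹)
    (h : (u : CliffordAlgebra Q) ∈ evenOdd Q 1) :
    LinearMap.det γ.toLinearMap = -1 := by
  have h1 := τ_map b Q (QuadGrp.isometryOfMem Q γ hγ) (lp Q (List.ofFn b))
  rw [hu, τ_top, mul_one] at h1
  have h2 : τ b Q ((u : CliffordAlgebra Q) * lp Q (List.ofFn b) * ↑u⁻¹) = -1 := by
    rw [mul_assoc, τ_anticomm_of_odd b Q hn _ h, mul_assoc, Units.inv_mul, mul_one, τ_top]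
  rw [h2] at h1
  exact h1.symm

end Tau

end Groth.Agent.Lib.Helper15.Cl
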