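import Mathlib
import Groth.Prelude.Def_QuadGrp
import Groth.Agent.Lib.Helper15.ClTau5
import Groth.Agent.Lib.Helper15.ClEvGrp3

/-! The isometry induced by a unit of the naive Clifford group. -/

set_option autoImplicit false
set_option linter.style.haveILetI false

namespace Groth.Agent.Lib.Helper15.Cl

open CliffordAlgebra

universe u v

section Conj
variable {R : Type u} [CommRing R] {M : Type v} [AddCommGroup M] [Module R M]
  (Q : QuadraticForm R M) [Module.Free R M]

/-- the linear endomorphism induced on `M` by conjugation with a unit -/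
noncomputable def conjLin (u : (CliffordAlgebra Q)ˣ) : M →ₗ[R] M :=
  retr Q ∘ₗ (LinearMap.mulLeft R (u : CliffordAlgebra Q)) ∘ₗ
    (LinearMap.mulRight R (↑u⁻¹ : CliffordAlgebra Q)) ∘ₗ ι Q

lemma conjLin_apply (u : (CliffordAlgebra Q)ˣ) (v : M) :
    conjLin Q u v = retr Q ((u : CliffordAlgebra Q) * (ι Q v * ↑u⁻¹)) := rfl

theorem ι_conjLin (u : (CliffordAlgebra Q)ˣ) (hu : u ∈ QuadGrp.GPin' Q) (v : M) :
    ι Q (conjLin Q u v) = (u : CliffordAlgebra Q) * ι Q v * ↑u⁻¹ := by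
  obtain ⟨m', hm'⟩ := conj_ι_of_mem_GPin' Q u hu v
  rw [conjLin_apply, ← mul_assoc, hm', retr_ι]

/-- the linear automorphism induced on `M` by conjugation with a unit of the naive Clifford
group -/
noncomputable def conjEquiv (u : (CliffordAlgebra Q)ˣ) (hu : u ∈ QuadGrp.GPin' Q) : M ≃ₗ[R] M :=
  LinearEquiv.ofLinear (conjLin Q u) (conjLin Q u⁻¹)
    (by
      ext v
      apply ι_injective Q
      rw [LinearMap.comp_apply, LinearMap.id_apply, ι_conjLin Q u hu,
        ι_conjLin Q u⁻¹ ((QuadGrp.GPin' Q).inv_mem hu), inv_inv]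
      simp only [mul_assoc]
      rw [Units.mul_inv, mul_one, ← mul_assoc, Units.mul_inv, one_mul])
    (by
      ext v
      apply ι_injective Q
      rw [LinearMap.comp_apply, LinearMap.id_apply, ι_conjLin Q u⁻¹ ((QuadGrp.GPin' Q).inv_mem hu),
        ι_conjLin Q u hu, inv_inv]
      simp only [mul_assoc]
      rw [Units.inv_mul, mul_one, ← mul_assoc, Units.inv_mul, one_mul])

theorem ι_conjEquiv (u : (CliffordAlgebra Q)ˣ) (hu : u ∈ QuadGrp.GPin' Q) (v : M) :
    (u : CliffordAlgebra Q) * ι Q v * ↑u⁻¹ = ι Q (conjEquiv Q u hu v) :=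
  (ι_conjLin Q u hu v).symm

theorem conjEquiv_mem_O (u : (CliffordAlgebra Q)ˣ) (hu : u ∈ QuadGrp.GPin' Q) :
    conjEquiv Q u hu ∈ QuadGrp.O Q := by
  intro x
  apply algebraMap_injective Q
  rw [← ι_sq_scalar, ← ι_sq_scalar, ← ι_conjEquiv Q u hu]
  simp only [mul_assoc]
  rw [← mul_assoc (↑u⁻¹ : CliffordAlgebra Q) (u : CliffordAlgebra Q),
    Units.inv_mul, one_mul, ← mul_assoc (ι Q x) (ι Q x), ι_sq_scalar, Algebra.commutes,
    ← mul_assoc, Units.mul_inv, one_mul]

theorem map_conjEquiv (u : (CliffordAlgebra Q)ˣ) (hu : u ∈ QuadGrp.GPin' Q)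
    (x : CliffordAlgebra Q) :
    CliffordAlgebra.map (QuadGrp.isometryOfMem Q (conjEquiv Q u hu) (conjEquiv_mem_O Q u hu)) x =
      (u : CliffordAlgebra Q) * x * ↑u⁻¹ :=
  map_eq_conj Q _ _ u (ι_conjEquiv Q u hu) x

/-- in odd rank, conjugation by a unit of the naive Clifford group has determinant one -/
theorem conjEquiv_mem_SO'_of_odd [Module.Finite R M] {n : ℕ} (b : Module.Basis (Fin n) R M)
    (hn : Odd n) (u : (CliffordAlgebra Q)ˣ) (hu : u ∈ QuadGrp.GPin' Q) :
    conjEquiv Q u hu ∈ QuadGrp.SO' Q := by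
  refine ⟨conjEquiv_mem_O Q u hu, ?_⟩
  change conjEquiv Q u hu ∈ (LinearEquiv.det (R := R) (M := M)).ker
  rw [MonoidHom.mem_ker]
  apply Units.ext
  rw [LinearEquiv.coe_det, Units.val_one]
  exact det_eq_one_of_conj b Q _ (conjEquiv_mem_O Q u hu) u (map_conjEquiv Q u hu) (Or.inl hn)

/-- even units of the naive Clifford group induce isometries of determinant one -/
theorem conjEquiv_mem_SO'_of_even [Module.Finite R M] {n : ℕ} (b : Module.Basis (Fin n) R M)
    (u : (CliffordAlgebra Q)ˣ) (hu : u ∈ QuadGrp.GPin' Q)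
    (h0 : (u : CliffordAlgebra Q) ∈ evenOdd Q 0) :
    conjEquiv Q u hu ∈ QuadGrp.SO' Q := by
  refine ⟨conjEquiv_mem_O Q u hu, ?_⟩
  change conjEquiv Q u hu ∈ (LinearEquiv.det (R := R) (M := M)).ker
  rw [MonoidHom.mem_ker]
  apply Units.ext
  rw [LinearEquiv.coe_det, Units.val_one]
  exact det_eq_one_of_conj b Q _ (conjEquiv_mem_O Q u hu) u (map_conjEquiv Q u hu) (Or.inr h0)

end Conj

end Groth.Agent.Lib.Helper15.Cl
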