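import Mathlib
import Groth.Agent.Lib.Helper15.AzCenter3
import Groth.Agent.Lib.Helper15.ClEvFinal
import Groth.Agent.Lib.Helper15.ClEvGen

/-! The even Clifford algebra of a regular form of even rank is Azumaya over its étale centre. -/

set_option autoImplicit false
set_option linter.style.haveILetI false

namespace Groth.Agent.Lib.Helper15.Cl

open CliffordAlgebra TensorProduct
open Groth.Agent.Lib.Helper15.Azumaya

universe u v

theorem evenClifford_center (A : Type u) [CommRing A] (V : Type v) [AddCommGroup V] [Module A V]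
    [Module.Free A V] [Module.Finite A V] (m : ℕ) (hm : 1 ≤ m) (hV : Module.finrank A V = 2 * m)
    (Q : QuadraticForm A V) (hQ : Function.Bijective (QuadraticMap.polarBilin Q)) :
    letI : Algebra ↥(Subalgebra.center A ↥(CliffordAlgebra.even Q)) ↥(CliffordAlgebra.even Q) :=
      (Subalgebra.center A ↥(CliffordAlgebra.even Q)).val.toRingHom.toAlgebra'
        (fun c x => (Subalgebra.mem_center_iff.mp c.2 x).symm)
    Algebra.Etale A ↥(Subalgebra.center A ↥(CliffordAlgebra.even Q)) ∧
      Module.Finite A ↥(Subalgebra.center A ↥(CliffordAlgebra.even Q)) ∧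
      Module.Projective A ↥(Subalgebra.center A ↥(CliffordAlgebra.even Q)) ∧
      (∀ p : PrimeSpectrum A, Module.rankAtStalk ↥(Subalgebra.center A ↥(CliffordAlgebra.even Q)) p = 2) ∧
      IsAzumaya ↥(Subalgebra.center A ↥(CliffordAlgebra.even Q)) ↥(CliffordAlgebra.even Q) := by
  letI algZ : Algebra ↥(Subalgebra.center A ↥(CliffordAlgebra.even Q)) ↥(CliffordAlgebra.even Q) :=
    (Subalgebra.center A ↥(CliffordAlgebra.even Q)).val.toRingHom.toAlgebra'
      (fun c x => (Subalgebra.mem_center_iff.mp c.2 x).symm)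
  haveI : @IsScalarTower A ↥(Subalgebra.center A ↥(CliffordAlgebra.even Q))
      ↥(CliffordAlgebra.even Q) _ algZ.toSMul _ :=
    @IsScalarTower.of_algebraMap_eq A ↥(Subalgebra.center A ↥(CliffordAlgebra.even Q))
      ↥(CliffordAlgebra.even Q) _ _ _ _ algZ _ fun a => rfl
  haveI : Nontrivial A := nontrivial_of_finrank (M := V) (2 * m) (by omega) hV
  let b : Module.Basis (Fin (2 * m)) A V := Module.finBasisOfFinrankEq A V hV
  obtain ⟨R', _, _, hff, -, g, hg, hspan⟩ := even_setup m b Q hQ
  obtain ⟨E⟩ := even_evenPart m b Q g hg hspan hm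
  haveI : Nonempty (Fin (2 ^ (m - 1))) := ⟨⟨0, Nat.pos_of_ne_zero (by positivity)⟩⟩
  classical
  exact center_theorem (Z := ↥(Subalgebra.center A ↥(CliffordAlgebra.even Q))) R'
    (fun p : Fin (2 * m) × Fin (2 * m) => pairE Q (b p.1) (b p.2)) (adjoin_pairE_basis Q b)
    Subtype.val_injective
    (fun x hx => ⟨⟨x, Subalgebra.mem_center_iff.mpr hx⟩, rfl⟩) E

end Groth.Agent.Lib.Helper15.Cl
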