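import Mathlib
import Groth.Prelude.Def_QuadGrp
import Groth.Agent.Lib.Helper15.ClEvCen
import Groth.Agent.Lib.Helper15.ClEvGrp3

/-! Transfer of isometries and of the Dickson condition along a flat base change. -/

set_option autoImplicit false
set_option linter.style.haveILetI false

namespace Groth.Agent.Lib.Helper15.Cl

open CliffordAlgebra TensorProduct

universe u v w w'

section Transfer
variable {R : Type u} [CommRing R] {M : Type v} [AddCommGroup M] [Module R M]
  {S : Type w} [CommRing S] [Algebra R S] {M' : Type w'} [AddCommGroup M'] [Module S M']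
  [Module R M'] [IsScalarTower R S M']
  {n : ℕ} (b : Module.Basis (Fin n) R M) (b' : Module.Basis (Fin n) S M')
  (Q : QuadraticForm R M) (Q' : QuadraticForm S M')
  (g : M →ₗ[R] M') (hg : ∀ m, Q' (g m) = algebraMap R S (Q m))
  (hspan : Submodule.span S (Set.range g) = ⊤)
  (γ : M ≃ₗ[R] M) (hγ : γ ∈ QuadGrp.O Q) (γ' : M' ≃ₗ[S] M') (hγ' : γ' ∈ QuadGrp.O Q')
  (hγg : ∀ m, γ' (g m) = g (γ m))

include hγg in
theorem jj_map (x : CliffordAlgebra Q) :
    jj Q Q' g hg (CliffordAlgebra.map (QuadGrp.isometryOfMem Q γ hγ) x) =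
      CliffordAlgebra.map (QuadGrp.isometryOfMem Q' γ' hγ') (jj Q Q' g hg x) := by
  induction x using CliffordAlgebra.induction with
  | algebraMap r =>
    rw [AlgHom.commutes, AlgHom.commutes, IsScalarTower.algebraMap_apply R S (CliffordAlgebra Q'),
      AlgHom.commutes]
  | ι m =>
    rw [map_apply_ι, jj_ι, jj_ι, map_apply_ι, QuadGrp.isometryOfMem_apply,
      QuadGrp.isometryOfMem_apply, hγg]
  | mul a c ha hc => rw [map_mul, map_mul, ha, hc, map_mul, map_mul]
  | add a c ha hc => rw [map_add, map_add, ha, hc, map_add, map_add]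

include b b' hspan in
/-- flat version of `evenCenter_span` -/
theorem evenCenter_span_flat [Module.Flat R S] (ζ' : CliffordAlgebra Q') (hζ0 : ζ' ∈ evenOdd Q' 0)
    (hζc : ∀ x ∈ evenOdd Q' 0, ζ' * x = x * ζ') :
    ζ' ∈ Submodule.span S ((jj Q Q' g hg) ''
      ((even Q).val '' (Subalgebra.center R ↥(even Q) : Set ↥(even Q)))) := by
  classical
  have hbij := ΨEv_bijective Q Q' g hg b b' hspan
  obtain ⟨t, ht⟩ := hbij.2 ⟨ζ', (mem_even_iff Q' _).mpr hζ0⟩
  have htc : ∀ p : Fin n × Fin n, t * (1 ⊗ₜ pairE Q (b p.1) (b p.2)) =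
      (1 ⊗ₜ pairE Q (b p.1) (b p.2)) * t := by
    intro p
    apply hbij.1
    rw [map_mul, map_mul, ht]
    apply Subtype.ext
    rw [Subalgebra.coe_mul, Subalgebra.coe_mul]
    exact hζc _ ((mem_even_iff Q' _).mp (Subtype.property _))
  have hts := center_descent (fun p : Fin n × Fin n => pairE Q (b p.1) (b p.2)) S
    (adjoin_pairE_basis Q b) t htc
  have key : ∀ t ∈ Submodule.span S {y : S ⊗[R] ↥(even Q) |
        ∃ z ∈ Subalgebra.center R ↥(even Q), y = 1 ⊗ₜ z},
      (ΨEv Q Q' g hg t : CliffordAlgebra Q') ∈ Submodule.span S ((jj Q Q' g hg) ''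
        ((even Q).val '' (Subalgebra.center R ↥(even Q) : Set ↥(even Q)))) := by
    intro t ht
    induction ht using Submodule.span_induction with
    | mem x hx =>
      obtain ⟨z, hz, rfl⟩ := hx
      rw [ΨEv_coe, Ψ0_tmul, one_smul]
      exact Submodule.subset_span ⟨z.1, ⟨z, hz, rfl⟩, rfl⟩
    | zero => rw [map_zero]; exact Submodule.zero_mem _
    | add x y _ _ hx hy =>
      rw [map_add, Subalgebra.coe_add]; exact Submodule.add_mem _ hx hy
    | smul a x _ hx =>
      rw [map_smul, Subalgebra.coe_smul]; exact Submodule.smul_mem _ _ hx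
  have := key t hts
  rwa [ht] at this

include b b' hg hspan hγg in
/-- the Dickson condition is stable under flat base change -/
theorem dickson_transfer [Module.Flat R S] (hD : QuadGrp.IsDicksonTrivial Q γ hγ) :
    QuadGrp.IsDicksonTrivial Q' γ' hγ' := by
  intro z' hz'
  have h0 : z'.1 ∈ evenOdd Q' 0 := (mem_even_iff Q' _).mp z'.2
  have hc : ∀ x ∈ evenOdd Q' 0, z'.1 * x = x * z'.1 := by
    intro x hx
    have := (Subalgebra.mem_center_iff.mp hz') ⟨x, (mem_even_iff Q' _).mpr hx⟩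
    exact (congrArg Subtype.val this).symm
  have hs := evenCenter_span_flat b b' Q Q' g hg hspan z'.1 h0 hc
  generalize (z' : CliffordAlgebra Q') = ζ at hs
  clear h0 hc
  induction hs using Submodule.span_induction with
  | mem x hx =>
    obtain ⟨_, ⟨z, hz, rfl⟩, rfl⟩ := hx
    rw [← jj_map Q Q' g hg γ hγ γ' hγ' hγg]
    congr 1
    exact hD z hz
  | zero => rw [map_zero]
  | add x y _ _ hx hy => rw [map_add, hx, hy]
  | smul a x _ hx => rw [map_smul, hx]

include hspan in
theorem Ψ0_surjective_even (x' : CliffordAlgebra Q') (hx' : x' ∈ evenOdd Q' 0) :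
    ∃ t₀ : S ⊗[R] ↥(even Q), Ψ0 Q Q' g hg t₀ = x' := by
  obtain ⟨t, ht⟩ := Ψ_surjective Q Q' g hg hspan x'
  obtain ⟨t₀, y₁, hy₁, e⟩ := Ψ_decomp Q Q' g hg t
  refine ⟨t₀, ?_⟩
  have h0 : Ψ0 Q Q' g hg t₀ ∈ evenOdd Q' 0 := (mem_even_iff Q' _).mp (Ψ0_mem Q Q' g hg t₀)
  have hz : y₁ = 0 := by
    apply eq_zero_of_mem_both Q' y₁ _ hy₁
    have : y₁ = x' - Ψ0 Q Q' g hg t₀ := by rw [← ht, e]; abel
    rw [this]
    exact Submodule.sub_mem _ hx' h0
  rw [← ht, e, hz, add_zero]

include hspan in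
/-- `jj` maps the centre of the even part into the centre of the even part -/
theorem jj_comm_even (z : ↥(even Q)) (hz : z ∈ Subalgebra.center R ↥(even Q))
    (x' : CliffordAlgebra Q') (hx' : x' ∈ evenOdd Q' 0) :
    jj Q Q' g hg z.1 * x' = x' * jj Q Q' g hg z.1 := by
  obtain ⟨t₀, rfl⟩ := Ψ0_surjective_even Q Q' g hg hspan x' hx'
  clear hx'
  induction t₀ using TensorProduct.induction_on with
  | zero => rw [map_zero, mul_zero, zero_mul]
  | tmul a x =>
    rw [Ψ0_tmul, mul_smul_comm, smul_mul_assoc, ← map_mul, ← map_mul]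
    have := (Subalgebra.mem_center_iff.mp hz) x
    have h2 : z.1 * x.1 = x.1 * z.1 := (congrArg Subtype.val this).symm
    rw [h2]
  | add x y hx hy => rw [map_add, mul_add, add_mul, hx, hy]

include hspan in
theorem jj_mem_evenCenter (z : ↥(even Q)) (hz : z ∈ Subalgebra.center R ↥(even Q)) :
    (⟨jj Q Q' g hg z.1, (mem_even_iff Q' _).mpr
      (jj_mem_evenOdd Q Q' g hg 0 z.1 ((mem_even_iff Q _).mp z.2))⟩ : ↥(even Q')) ∈
      Subalgebra.center S ↥(even Q') := by
  rw [Subalgebra.mem_center_iff]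
  intro x'
  apply Subtype.ext
  rw [Subalgebra.coe_mul, Subalgebra.coe_mul]
  exact (jj_comm_even Q Q' g hg hspan z hz x'.1 ((mem_even_iff Q' _).mp x'.2)).symm

include hspan hγg in
/-- if the base-changed isometry satisfies the Dickson condition, then `jj` kills the Dickson
defect -/
theorem jj_dickson_defect (hD' : QuadGrp.IsDicksonTrivial Q' γ' hγ')
    (z : ↥(even Q)) (hz : z ∈ Subalgebra.center R ↥(even Q)) :
    jj Q Q' g hg (CliffordAlgebra.map (QuadGrp.isometryOfMem Q γ hγ) z.1) = jj Q Q' g hg z.1 := by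
  rw [jj_map Q Q' g hg γ hγ γ' hγ' hγg]
  exact hD' _ (jj_mem_evenCenter Q Q' g hg hspan z hz)

end Transfer

end Groth.Agent.Lib.Helper15.Cl
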