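import Mathlib
import Groth.Prelude.Def_QuadGrp
import Groth.Agent.Lib.Helper15.ClLoc1
import Groth.Agent.Lib.Helper15.ClEvSetup

/-! The tensor-product model of base change of a quadratic form on a free module. -/

set_option autoImplicit false
set_option linter.style.haveILetI false

namespace Groth.Agent.Lib.Helper15.Cl

open CliffordAlgebra TensorProduct Matrix
open Groth.Agent.Lib.Helper15.QSplit

universe u v w

section Tensor
variable {R : Type u} [CommRing R] {M : Type v} [AddCommGroup M] [Module R M] [Module.Free R M]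
  (S : Type w) [CommRing S] [Algebra R S] (Q : QuadraticForm R M)

variable (R) in
/-- the canonical map `M → S ⊗ M` -/
noncomputable def g₀ : M →ₗ[R] S ⊗[R] M := TensorProduct.mk R S M 1

omit [Module.Free R M] in
lemma g₀_apply (m : M) : g₀ R S m = (1 : S) ⊗ₜ[R] m := rfl

theorem baseChangeForm_g₀ (m : M) :
    QuadGrp.baseChangeForm S Q (g₀ R S m) = algebraMap R S (Q m) := by
  rw [g₀_apply]
  change (AlgebraTensorModule.rid R S S) (QuadGrp.baseChange S Q (1 ⊗ₜ m)) = _
  rw [QuadGrp.baseChange_tmul, mul_one, AlgebraTensorModule.rid_tmul, Algebra.algebraMap_eq_smul_one]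

omit [Module.Free R M] in
theorem span_g₀ : Submodule.span S (Set.range (g₀ (M := M) R S)) = ⊤ := by
  rw [eq_top_iff]
  rintro t -
  induction t using TensorProduct.induction_on with
  | zero => exact Submodule.zero_mem _
  | tmul a m =>
    have : a ⊗ₜ[R] m = a • g₀ R S m := by
      rw [g₀_apply, TensorProduct.smul_tmul', smul_eq_mul, mul_one]
    rw [this]
    exact Submodule.smul_mem _ _ (Submodule.subset_span ⟨m, rfl⟩)
  | add x y hx hy => exact Submodule.add_mem _ hx hy

/-- base change of a linear automorphism -/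
noncomputable def γS (γ : M ≃ₗ[R] M) : (S ⊗[R] M) ≃ₗ[S] (S ⊗[R] M) := γ.baseChange R S M M

omit [Module.Free R M] in
lemma γS_g₀ (γ : M ≃ₗ[R] M) (m : M) : γS S γ (g₀ R S m) = g₀ R S (γ m) := by
  rw [g₀_apply, g₀_apply, γS, LinearEquiv.baseChange_tmul]

theorem γS_mem_O (γ : M ≃ₗ[R] M) (hγ : γ ∈ QuadGrp.O Q) :
    γS S γ ∈ QuadGrp.O (QuadGrp.baseChangeForm S Q) := by
  have h : (QuadGrp.baseChangeForm S Q).comp (γS S γ).toLinearMap = QuadGrp.baseChangeForm S Q := by
    apply _root_.baseChange_ext
    intro m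
    rw [QuadraticMap.comp_apply]
    have h1 := γS_g₀ S γ m
    rw [g₀_apply, g₀_apply] at h1
    rw [LinearEquiv.coe_coe, h1, ← g₀_apply, ← g₀_apply, baseChangeForm_g₀, baseChangeForm_g₀, hγ m]
  intro v
  have := congrArg (fun q => q v) h
  exact this

omit [Module.Free R M] in
theorem det_γS [Module.Finite R M] [Module.Free R M] (γ : M ≃ₗ[R] M) :
    LinearMap.det (γS S γ).toLinearMap = algebraMap R S (LinearMap.det γ.toLinearMap) := by
  rw [γS, LinearEquiv.coe_baseChange, LinearMap.det_baseChange]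

omit [Module.Free R M] in
lemma baseChange_basis_eq {n : ℕ} (b : Module.Basis (Fin n) R M) (i : Fin n) :
    b.baseChange S i = g₀ R S (b i) := by
  rw [Module.Basis.baseChange_apply, g₀_apply]

theorem polar_baseChangeForm_g₀ (x y : M) :
    QuadraticMap.polar (QuadGrp.baseChangeForm S Q) (g₀ R S x) (g₀ R S y) =
      algebraMap R S (QuadraticMap.polar Q x y) := by
  unfold QuadraticMap.polar
  rw [← map_add, baseChangeForm_g₀, baseChangeForm_g₀, baseChangeForm_g₀, map_sub, map_sub]

theorem bc_even_setup (m : ℕ) (b : Module.Basis (Fin (2 * m)) R M)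
    (hQ : Function.Bijective (QuadraticMap.polarBilin Q)) :
    ∃ (R' : Type w) (_ : CommRing R') (_ : Algebra S R'), Module.FaithfullyFlat S R' ∧
      Algebra.FinitePresentation S R' ∧
      ∃ g : (S ⊗[R] M) →ₗ[S] (Fin (2 * m) → R'),
        (∀ x, Qm (Wsp R' (2 * m)) (g x) = algebraMap S R' (QuadGrp.baseChangeForm S Q x)) ∧
        Submodule.span R' (Set.range g) = ⊤ := by
  refine exists_split_data (b.baseChange S) (QuadGrp.baseChangeForm S Q)
    (QuadGrp.bilinLift (QuadGrp.baseChangeForm S Q))
    (QuadGrp.bilinLift_spec (QuadGrp.baseChangeForm S Q)) ⟨fun ho => ?_, fun _ => ?_⟩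
  · exfalso
    obtain ⟨r, hr⟩ := ho
    omega
  · have h0 := isUnit_det_of_polar_bijective b Q _ (QuadGrp.bilinLift_spec Q) hQ
    set W := LinearMap.toMatrix₂ b b (QuadGrp.bilinLift Q) with hW
    set WS := LinearMap.toMatrix₂ (b.baseChange S) (b.baseChange S)
      (QuadGrp.bilinLift (QuadGrp.baseChangeForm S Q)) with hWS
    have h1 : WS + WSᵀ = (W + Wᵀ).map (algebraMap R S) := by
      ext i j
      rw [Matrix.map_apply, Matrix.add_apply, Matrix.add_apply, Matrix.transpose_apply,
        Matrix.transpose_apply, hWS, hW, LinearMap.toMatrix₂_apply, LinearMap.toMatrix₂_apply,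
        LinearMap.toMatrix₂_apply, LinearMap.toMatrix₂_apply]
      have e1 := LinearMap.BilinMap.polar_toQuadraticMap
        (B := QuadGrp.bilinLift (QuadGrp.baseChangeForm S Q)) (b.baseChange S i) (b.baseChange S j)
      have e2 := LinearMap.BilinMap.polar_toQuadraticMap (B := QuadGrp.bilinLift Q) (b i) (b j)
      rw [QuadGrp.bilinLift_spec] at e1 e2
      rw [← e1, ← e2, baseChange_basis_eq, baseChange_basis_eq, polar_baseChangeForm_g₀]
    rw [h1, ← RingHom.mapMatrix_apply, ← RingHom.map_det]
    exact h0.map _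

end Tensor

end Groth.Agent.Lib.Helper15.Cl
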