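import Mathlib
import Groth.Prelude.Def_QuadGrp
import Groth.Agent.Lib.Helper15.ClLoc2
import Groth.Agent.Lib.Helper15.ClTau5

/-! Even rank: parity of the base change of an isometry to a flat local algebra. -/

set_option autoImplicit false
set_option linter.style.haveILetI false

namespace Groth.Agent.Lib.Helper15.Cl

open CliffordAlgebra TensorProduct Matrix
open Groth.Agent.Lib.Helper15.QSplit

universe u v

section AtLocal
variable {R : Type u} [CommRing R] {M : Type v} [AddCommGroup M] [Module R M] [Module.Free R M]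
  [Module.Finite R M]
  (m : ℕ) (b : Module.Basis (Fin (2 * m)) R M) (Q : QuadraticForm R M)
  (hQ : Function.Bijective (QuadraticMap.polarBilin Q))
  (S : Type u) [CommRing S] [Algebra R S]

include b hQ in
/-- the base change of an isometry to a local algebra has a parity -/
theorem par_baseChange [IsLocalRing S] (γ : M ≃ₗ[R] M) (hγ : γ ∈ QuadGrp.O Q) :
    Par (QuadGrp.baseChangeForm S Q) (γS S γ) 0 ∨ Par (QuadGrp.baseChangeForm S Q) (γS S γ) 1 := by
  obtain ⟨R', _, _, hff, _, g, hg, hspan⟩ := bc_even_setup S Q m b hQ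
  exact par_total (QuadGrp.baseChangeForm S Q) m (b.baseChange S) g hg hspan (γS S γ)
    (γS_mem_O S Q γ hγ)

include b in
theorem det_of_par_zero (γ : M ≃ₗ[R] M)
    (h : Par (QuadGrp.baseChangeForm S Q) (γS S γ) 0) :
    algebraMap R S (LinearMap.det γ.toLinearMap) = 1 := by
  obtain ⟨hO, u, hu, hmap⟩ := h
  rw [← det_γS]
  exact det_eq_one_of_conj (b.baseChange S) (QuadGrp.baseChangeForm S Q) (γS S γ) hO u hmap
    (Or.inr hu)

include b in
theorem det_of_par_one (γ : M ≃ₗ[R] M)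
    (h : Par (QuadGrp.baseChangeForm S Q) (γS S γ) 1) :
    algebraMap R S (LinearMap.det γ.toLinearMap) = -1 := by
  obtain ⟨hO, u, hu, hmap⟩ := h
  rw [← det_γS]
  exact det_eq_neg_one_of_conj (b.baseChange S) (QuadGrp.baseChangeForm S Q) ⟨m, by ring⟩
    (γS S γ) hO u hmap hu

include b hQ in
theorem par_zero_of_dickson [IsLocalRing S] [Module.Flat R S] (γ : M ≃ₗ[R] M)
    (hγ : γ ∈ QuadGrp.O Q) (hD : QuadGrp.IsDicksonTrivial Q γ hγ) :
    Par (QuadGrp.baseChangeForm S Q) (γS S γ) 0 := by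
  obtain ⟨R', _, _, hff, _, g, hg, hspan⟩ := bc_even_setup S Q m b hQ
  have hO := γS_mem_O S Q γ hγ
  have hD' : QuadGrp.IsDicksonTrivial (QuadGrp.baseChangeForm S Q) (γS S γ) hO :=
    dickson_transfer b (b.baseChange S) Q (QuadGrp.baseChangeForm S Q) (g₀ R S)
      (baseChangeForm_g₀ S Q) (span_g₀ S) γ hγ (γS S γ) hO (γS_g₀ S γ) hD
  rcases par_total (QuadGrp.baseChangeForm S Q) m (b.baseChange S) g hg hspan (γS S γ) hO with h | h
  · exact h
  · exact absurd ⟨hO, hD'⟩
      (par_one_not_mem (QuadGrp.baseChangeForm S Q) m (b.baseChange S) g hg hspan _ h)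

/-- if the base change has even parity, `jj` kills the Dickson defect -/
theorem jj_defect_of_par_zero (γ : M ≃ₗ[R] M) (hγ : γ ∈ QuadGrp.O Q)
    (h : Par (QuadGrp.baseChangeForm S Q) (γS S γ) 0)
    (z : ↥(even Q)) (hz : z ∈ Subalgebra.center R ↥(even Q)) :
    jj Q (QuadGrp.baseChangeForm S Q) (g₀ R S) (baseChangeForm_g₀ S Q)
        (CliffordAlgebra.map (QuadGrp.isometryOfMem Q γ hγ) z.1) =
      jj Q (QuadGrp.baseChangeForm S Q) (g₀ R S) (baseChangeForm_g₀ S Q) z.1 := by
  obtain ⟨hO, hD⟩ := par_zero_mem (QuadGrp.baseChangeForm S Q) (γS S γ) h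
  exact jj_dickson_defect Q (QuadGrp.baseChangeForm S Q) (g₀ R S) (baseChangeForm_g₀ S Q)
    (span_g₀ S) γ hγ (γS S γ) hO (γS_g₀ S γ) hD z hz

end AtLocal

end Groth.Agent.Lib.Helper15.Cl
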