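import Mathlib
import Groth.Prelude.Def_QuadGrp
import Groth.Agent.Lib.Helper15.ClLoc3

/-! Even rank: local-to-global arguments for the Dickson condition and the determinant. -/

set_option autoImplicit false
set_option linter.style.haveILetI false

namespace Groth.Agent.Lib.Helper15.Cl

open CliffordAlgebra TensorProduct Matrix
open Groth.Agent.Lib.Helper15.QSplit

universe u v

section Global
variable {R : Type u} [CommRing R] {M : Type v} [AddCommGroup M] [Module R M] [Module.Free R M]
  [Module.Finite R M]
  {n : ℕ} (b : Module.Basis (Fin n) R M) (Q : QuadraticForm R M)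

include b in
/-- an element of the Clifford algebra vanishing in all localizations at maximal ideals is zero -/
theorem eq_zero_of_jj_localization (x : CliffordAlgebra Q)
    (h : ∀ (P : Ideal R) [P.IsMaximal],
      jj Q (QuadGrp.baseChangeForm (Localization.AtPrime P) Q) (g₀ R (Localization.AtPrime P))
        (baseChangeForm_g₀ (Localization.AtPrime P) Q) x = 0) : x = 0 := by
  refine Module.eq_zero_of_localization_maximal
    (fun (P : Ideal R) [P.IsMaximal] => Localization.AtPrime P ⊗[R] CliffordAlgebra Q)
    (fun (P : Ideal R) [P.IsMaximal] =>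
      TensorProduct.mk R (Localization.AtPrime P) (CliffordAlgebra Q) 1) x ?_
  intro P _
  have hbij := Ψ_bijective Q (QuadGrp.baseChangeForm (Localization.AtPrime P) Q)
    (g₀ R (Localization.AtPrime P)) (baseChangeForm_g₀ (Localization.AtPrime P) Q) b
    (b.baseChange (Localization.AtPrime P)) (span_g₀ (Localization.AtPrime P))
  apply hbij.1
  rw [map_zero]
  change Ψ Q _ _ _ ((1 : Localization.AtPrime P) ⊗ₜ[R] x) = 0
  rw [Ψ_tmul, one_smul, h P]

end Global

section Even
variable {R : Type u} [CommRing R] {M : Type v} [AddCommGroup M] [Module R M] [Module.Free R M]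
  [Module.Finite R M]
  (m : ℕ) (b : Module.Basis (Fin (2 * m)) R M) (Q : QuadraticForm R M)
  (hQ : Function.Bijective (QuadraticMap.polarBilin Q))

include b hQ in
theorem SOeven_le_SO' : QuadGrp.SOeven Q ≤ QuadGrp.SO' Q := by
  rintro γ ⟨hγ, hD⟩
  refine ⟨hγ, ?_⟩
  change γ ∈ (LinearEquiv.det (R := R) (M := M)).ker
  rw [MonoidHom.mem_ker]
  apply Units.ext
  rw [LinearEquiv.coe_det, Units.val_one, ← sub_eq_zero]
  apply eq_zero_of_localization
  intro J hJ
  haveI := hJ
  rw [map_sub, map_one, sub_eq_zero]
  exact det_of_par_zero m b Q (Localization.AtPrime J) γ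
    (par_zero_of_dickson m b Q hQ (Localization.AtPrime J) γ hγ hD)

include b hQ in
theorem SO'_le_SOeven_of_invertible_two [Invertible (2 : R)] :
    QuadGrp.SO' Q ≤ QuadGrp.SOeven Q := by
  rintro γ ⟨hγ, hdet⟩
  have hdet1 : LinearMap.det γ.toLinearMap = 1 := by
    have h2 : γ ∈ (LinearEquiv.det (R := R) (M := M)).ker := hdet
    rw [MonoidHom.mem_ker] at h2
    rw [← LinearEquiv.coe_det, h2, Units.val_one]
  refine ⟨hγ, fun z hz => ?_⟩
  rw [← sub_eq_zero]
  apply eq_zero_of_jj_localization b Q
  intro P _
  rw [map_sub, sub_eq_zero]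
  rcases par_baseChange m b Q hQ (Localization.AtPrime P) γ hγ with h | h
  · exact jj_defect_of_par_zero Q (Localization.AtPrime P) γ hγ h z hz
  · exfalso
    have h1 := det_of_par_one m b Q (Localization.AtPrime P) γ h
    rw [hdet1, map_one] at h1
    have h2 : (2 : Localization.AtPrime P) = 0 := by
      have : (1 : Localization.AtPrime P) + 1 = 0 := by
        nth_rewrite 1 [h1]
        exact neg_add_cancel 1
      rw [← this]; norm_num
    have h3 : IsUnit (2 : Localization.AtPrime P) := by
      have := (isUnit_of_invertible (2 : R)).map (algebraMap R (Localization.AtPrime P))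
      rwa [map_ofNat] at this
    rw [h2] at h3
    exact not_isUnit_zero h3

end Even

end Groth.Agent.Lib.Helper15.Cl
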