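import Mathlib
import Groth.Agent.Lib.Helper15.ClMul
import Groth.Agent.Lib.Helper15.ClOdd4

/-! Odd-rank semiregular Clifford algebras: assembly. -/

set_option autoImplicit false
set_option linter.style.haveILetI false

namespace Groth.Agent.Lib.Helper15.Cl

open CliffordAlgebra TensorProduct Matrix
open Groth.Agent.Lib.Helper15.QSplit
open Groth.Agent.Lib.Helper2.HalfDisc

universe u v

section Final
variable {R : Type u} [CommRing R] {M : Type v} [AddCommGroup M] [Module R M]

theorem odd_setup (m : ℕ) (b : Module.Basis (Fin (2 * m + 1)) R M) (Q : QuadraticForm R M)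
    (hQ : QuadGrp.IsSemiregular b (LinearEquiv.refl R R) Q) :
    ∃ (R' : Type u) (_ : CommRing R') (_ : Algebra R R'), Module.FaithfullyFlat R R' ∧
      Algebra.FinitePresentation R R' ∧
      ∃ g : M →ₗ[R] (Fin (2 * m + 1) → R'),
        (∀ x, Qm (Wsp R' (2 * m + 1)) (g x) = algebraMap R R' (Q x)) ∧
        Submodule.span R' (Set.range g) = ⊤ := by
  haveI : Module.Free R M := Module.Free.of_basis b
  refine exists_split_data b Q (QuadGrp.bilinLift Q) (QuadGrp.bilinLift_spec Q) ⟨fun _ => ?_, fun he => ?_⟩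
  · have : hd (LinearMap.toMatrix₂ b b (QuadGrp.bilinLift Q)) =
        QuadGrp.halfDisc b (LinearEquiv.refl R R) Q := by
      unfold hd QuadGrp.halfDisc
      rw [coeffs_eq_cf b Q (QuadGrp.bilinLift Q) (QuadGrp.bilinLift_spec Q)]
    rw [this]; exact hQ
  · exfalso
    obtain ⟨r, hr⟩ := he
    omega

variable {R' : Type u} [CommRing R'] [Algebra R R'] [Module.FaithfullyFlat R R']
  (m : ℕ) (b : Module.Basis (Fin (2 * m + 1)) R M) (Q : QuadraticForm R M)
  (g : M →ₗ[R] (Fin (2 * m + 1) → R'))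
  (hg : ∀ x, Qm (Wsp R' (2 * m + 1)) (g x) = algebraMap R R' (Q x))
  (hspan : Submodule.span R' (Set.range g) = ⊤)

include b hg hspan in
theorem odd_evenPart :
    Nonempty ((R' ⊗[R] ↥(even Q)) ≃ₐ[R'] Matrix (Fin (2 ^ m)) (Fin (2 ^ m)) R') := by
  obtain ⟨e⟩ := even_Wsp_odd R' (2 * m + 1) (by omega)
  have h : (2 * m + 1) / 2 = m := by omega
  rw [h] at e
  exact ⟨(AlgEquiv.ofBijective (ΨEv Q _ g hg)
    (ΨEv_bijective Q _ g hg b (Pi.basisFun R' (Fin (2 * m + 1))) hspan)).trans e⟩

include b hg hspan in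
theorem odd_even_center (z : CliffordAlgebra Q) (hz : z ∈ Subalgebra.center R (CliffordAlgebra Q))
    (hz0 : z ∈ evenOdd Q 0) : z ∈ (algebraMap R (CliffordAlgebra Q)).range :=
  even_center_scalar b (Pi.basisFun R' (Fin (2 * m + 1))) Q _ g hg hspan
    (oddCenter_Wsp R' (2 * m + 1) (by omega)).cen0 z hz hz0

include b hg hspan in
theorem odd_family :
    ∃ (N : ℕ) (c : Fin N → R) (z w : Fin N → CliffordAlgebra Q),
      (∀ i, z i ∈ Subalgebra.center R (CliffordAlgebra Q) ∧ z i ∈ evenOdd Q 1) ∧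
      (∀ i, w i ∈ Subalgebra.center R (CliffordAlgebra Q) ∧ w i ∈ evenOdd Q 1) ∧
      ∑ i, c i • (z i * w i) = 1 :=
  exists_odd_central_family b (Pi.basisFun R' (Fin (2 * m + 1))) Q _ g hg hspan
    (oddCenter_Wsp R' (2 * m + 1) (by omega)).cen0 (oddCenter_Wsp R' (2 * m + 1) (by omega)).cen1

include b hg hspan in
theorem odd_star (z : CliffordAlgebra Q) (hz : z ∈ Subalgebra.center R (CliffordAlgebra Q))
    (hz1 : z ∈ evenOdd Q 1) : star z = ((-1 : R) ^ (m + 1)) • z := by
  refine star_odd_center b (Pi.basisFun R' (Fin (2 * m + 1))) Q _ g hg hspan _ ?_ z hz hz1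
  intro y hy hy1
  have := (oddCenter_Wsp R' (2 * m + 1) (by omega)).star1 y hy hy1
  have h : (2 * m + 1 + 1) / 2 = m + 1 := by omega
  rw [h] at this
  rw [this, map_pow, map_neg, map_one]

include b hg hspan in
theorem odd_mul_bijective :
    Function.Bijective (TensorProduct.lift
        (((LinearMap.mul R (CliffordAlgebra Q)).comp
          (Subalgebra.center R (CliffordAlgebra Q)).val.toLinearMap).compl₂
          (CliffordAlgebra.even Q).val.toLinearMap)) := by
  obtain ⟨N, c, z, w, hz, hw, hsum⟩ := odd_family m b Q g hg hspan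
  exact μ_bijective Q c z w hz hw (odd_even_center m b Q g hg hspan) hsum

end Final

end Groth.Agent.Lib.Helper15.Cl
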