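import Mathlib
import Groth.Agent.Lib.Helper15.ClOddFinal

/-! Odd-rank semiregular Clifford algebras over a local ring: the centre is `R[z]`. -/

set_option autoImplicit false
set_option linter.style.haveILetI false

namespace Groth.Agent.Lib.Helper15.Cl

open CliffordAlgebra TensorProduct Matrix
open Groth.Agent.Lib.Helper15.QSplit

universe u v

section Local
variable {R : Type u} [CommRing R] {M : Type v} [AddCommGroup M] [Module R M]
  {R' : Type u} [CommRing R'] [Algebra R R'] [Module.FaithfullyFlat R R']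
  (m : ℕ) (b : Module.Basis (Fin (2 * m + 1)) R M) (Q : QuadraticForm R M)
  (g : M →ₗ[R] (Fin (2 * m + 1) → R'))
  (hg : ∀ x, Qm (Wsp R' (2 * m + 1)) (g x) = algebraMap R R' (Q x))
  (hspan : Submodule.span R' (Set.range g) = ⊤)

include b hg hspan in
theorem odd_local [IsLocalRing R] :
    ∃ z : CliffordAlgebra Q, z ∈ Subalgebra.center R (CliffordAlgebra Q) ∧ z ∈ evenOdd Q 1 ∧
      IsUnit z ∧ z * z ∈ (algebraMap R (CliffordAlgebra Q)).range ∧
      LinearIndependent R ![(1 : CliffordAlgebra Q), z] ∧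
      Subalgebra.toSubmodule (Subalgebra.center R (CliffordAlgebra Q)) = Submodule.span R {1, z} := by
  haveI : Module.Free R M := Module.Free.of_basis b
  have hb := odd_even_center m b Q g hg hspan
  obtain ⟨N, c, z, w, hz, hw, hsum⟩ := odd_family m b Q g hg hspan
  have hmul0 : ∀ {x y : CliffordAlgebra Q}, x ∈ evenOdd Q 1 → y ∈ evenOdd Q 1 → x * y ∈ evenOdd Q 0 := by
    intro x y hx hy
    have := SetLike.mul_mem_graded (A := evenOdd Q) hx hy
    exact this
  have hr : ∀ i, ∃ r : R, algebraMap R _ r = z i * w i := fun i =>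
    hb _ (Subalgebra.mul_mem _ (hz i).1 (hw i).1) (hmul0 (hz i).2 (hw i).2)
  choose r hr using hr
  have hsum' : ∑ i, c i * r i = 1 := by
    apply algebraMap_injective Q
    rw [map_sum, map_one, ← hsum]
    refine Finset.sum_congr rfl fun i _ => ?_
    rw [map_mul, hr, Algebra.smul_def]
  obtain ⟨i, hi⟩ : ∃ i, IsUnit (c i * r i) := by
    by_contra h
    push Not at h
    have h1 : ∀ i, c i * r i ∈ IsLocalRing.maximalIdeal R := fun i =>
      (IsLocalRing.mem_maximalIdeal _).mpr (h i)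
    have h2 : ∑ i, c i * r i ∈ IsLocalRing.maximalIdeal R := Ideal.sum_mem _ fun i _ => h1 i
    rw [hsum'] at h2
    exact (IsLocalRing.mem_maximalIdeal _).mp h2 isUnit_one
  have hri : IsUnit (r i) := isUnit_of_mul_isUnit_right hi
  obtain ⟨r', hr'⟩ := hri.exists_right_inv
  -- the inverse of z i
  obtain ⟨y, hy⟩ : ∃ y, y = r' • w i := ⟨_, rfl⟩
  have hyc : y ∈ Subalgebra.center R (CliffordAlgebra Q) := by
    rw [hy]; exact Subalgebra.smul_mem _ (hw i).1 _
  have hy1 : y ∈ evenOdd Q 1 := by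
    rw [hy]; exact Submodule.smul_mem _ _ (hw i).2
  have hzy : z i * y = 1 := by
    rw [hy, mul_smul_comm, ← hr, ← map_one (algebraMap R (CliffordAlgebra Q)), ← hr', mul_comm,
      map_mul, Algebra.smul_def]
  have hyz : y * z i = 1 := by
    rw [← hzy]
    exact ((Subalgebra.mem_center_iff.mp hyc) (z i)).symm
  refine ⟨z i, (hz i).1, (hz i).2, isUnit_iff_exists.mpr ⟨y, hzy, hyz⟩,
    hb _ (Subalgebra.mul_mem _ (hz i).1 (hz i).1) (hmul0 (hz i).2 (hz i).2), ?_, ?_⟩
  · rw [LinearIndependent.pair_iff]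
    intro s t hst
    have h0 : s • (1 : CliffordAlgebra Q) ∈ evenOdd Q 0 :=
      Submodule.smul_mem _ _ (SetLike.one_mem_graded (evenOdd Q))
    have h1 : t • z i ∈ evenOdd Q 1 := Submodule.smul_mem _ _ (hz i).2
    have hz0 : (0 : CliffordAlgebra Q) ∈ evenOdd Q 0 := Submodule.zero_mem _
    have hz1 : (0 : CliffordAlgebra Q) ∈ evenOdd Q 1 := Submodule.zero_mem _
    obtain ⟨e0, e1⟩ := decomp_unique Q h0 h1 hz0 hz1 (by rw [hst, add_zero])
    constructor
    · apply algebraMap_injective Q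
      rw [map_zero, Algebra.algebraMap_eq_smul_one, e0]
    · apply algebraMap_injective Q
      rw [map_zero, Algebra.algebraMap_eq_smul_one, ← hzy, ← smul_mul_assoc, e1, zero_mul]
  · apply le_antisymm
    · intro ζ hζ
      rw [Subalgebra.mem_toSubmodule] at hζ
      obtain ⟨ζ₀, h₀, ζ₁, h₁, hc₀, hc₁, rfl⟩ := center_decomp Q ζ hζ
      obtain ⟨a, ha⟩ := hb ζ₀ hc₀ h₀
      obtain ⟨ρ, hρ⟩ := hb (ζ₁ * y) (Subalgebra.mul_mem _ hc₁ hyc) (hmul0 h₁ hy1)
      rw [Submodule.mem_span_pair]
      refine ⟨a, ρ, ?_⟩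
      rw [← Algebra.algebraMap_eq_smul_one, ha, Algebra.smul_def, hρ, mul_assoc, hyz, mul_one]
    · rw [Submodule.span_le]
      rintro x hx
      rcases hx with rfl | hx
      · exact Subalgebra.one_mem _
      · rw [Set.mem_singleton_iff] at hx
        rw [hx]; exact (hz i).1

end Local

end Groth.Agent.Lib.Helper15.Cl
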