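import Mathlib
import Groth.Agent.Lib.Helper15.ClOddLocal
import Groth.Agent.Lib.Helper15.ClEvGrp2

/-! Odd rank over a local ring: `GPin' = Z^× · GSpin`. -/

set_option autoImplicit false
set_option linter.style.haveILetI false

namespace Groth.Agent.Lib.Helper15.Cl

open CliffordAlgebra TensorProduct Matrix
open Groth.Agent.Lib.Helper15.QSplit

universe u v

section Conj
variable {R : Type u} [CommRing R] {A : Type v} [Ring A] [Algebra R A]

/-- conjugation by a unit, as an algebra automorphism -/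
def conjA (u : Aˣ) : A ≃ₐ[R] A where
  toFun x := u * x * ↑u⁻¹
  invFun x := ↑u⁻¹ * x * u
  left_inv x := by
    simp only [← mul_assoc, Units.inv_mul, one_mul]
    rw [mul_assoc, Units.inv_mul, mul_one]
  right_inv x := by
    simp only [← mul_assoc, Units.mul_inv, one_mul]
    rw [mul_assoc, Units.mul_inv, mul_one]
  map_mul' x y := by
    simp only [mul_assoc]
    rw [← mul_assoc (↑u⁻¹ : A) (u : A), Units.inv_mul, one_mul]
  map_add' x y := by rw [mul_add, add_mul]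
  commutes' r := by
    rw [← Algebra.commutes, mul_assoc, Units.mul_inv, mul_one]

lemma conjA_apply (u : Aˣ) (x : A) : conjA (R := R) u x = u * x * ↑u⁻¹ := rfl
lemma conjA_symm_apply (u : Aˣ) (x : A) : (conjA (R := R) u).symm x = ↑u⁻¹ * x * u := rfl

end Conj

section Grp
variable {R : Type u} [CommRing R] {M : Type v} [AddCommGroup M] [Module R M]
  (Q : QuadraticForm R M)

theorem conjA_mem_evenOdd (u : (CliffordAlgebra Q)ˣ) (hu : u ∈ QuadGrp.GPin' Q) (k : ZMod 2)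
    (x : CliffordAlgebra Q) (hx : x ∈ evenOdd Q k) : conjA (R := R) u x ∈ evenOdd Q k := by
  refine map_mem_graded Q (evenOdd Q) (SetLike.one_mem_graded _)
    (fun i j a b ha hb => SetLike.mul_mem_graded ha hb) (conjA (R := R) u).toAlgHom (fun m => ?_) k x hx
  obtain ⟨m', hm'⟩ := conj_ι_of_mem_GPin' Q u hu m
  change (u : CliffordAlgebra Q) * ι Q m * ↑u⁻¹ ∈ _
  rw [hm']
  exact ι_mem_evenOdd_one Q m'

/-- the automorphism of the even subalgebra induced by a normalising unit -/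
noncomputable def conjEven (u : (CliffordAlgebra Q)ˣ) (hu : u ∈ QuadGrp.GPin' Q) :
    ↥(even Q) ≃ₐ[R] ↥(even Q) :=
  AlgEquiv.ofAlgHom
    (((conjA (R := R) u).toAlgHom.comp (even Q).val).codRestrict (even Q) (fun x =>
      (mem_even_iff Q _).mpr (conjA_mem_evenOdd Q u hu 0 x.1 ((mem_even_iff Q _).mp x.2))))
    (((conjA (R := R) u⁻¹).toAlgHom.comp (even Q).val).codRestrict (even Q) (fun x =>
      (mem_even_iff Q _).mpr (conjA_mem_evenOdd Q u⁻¹ (inv_mem hu) 0 x.1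
        ((mem_even_iff Q _).mp x.2))))
    (by
      refine AlgHom.ext fun x => Subtype.ext ?_
      change (u : CliffordAlgebra Q) * (↑u⁻¹ * x.1 * ↑(u⁻¹)⁻¹) * ↑u⁻¹ = x.1
      rw [inv_inv]
      simp only [← mul_assoc, Units.mul_inv, one_mul]
      rw [mul_assoc, Units.mul_inv, mul_one])
    (by
      refine AlgHom.ext fun x => Subtype.ext ?_
      change (↑u⁻¹ : CliffordAlgebra Q) * (u * x.1 * ↑u⁻¹) * ↑(u⁻¹)⁻¹ = x.1
      rw [inv_inv]
      simp only [← mul_assoc, Units.inv_mul, one_mul]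
      rw [mul_assoc, Units.inv_mul, mul_one])

lemma conjEven_coe (u : (CliffordAlgebra Q)ˣ) (hu : u ∈ QuadGrp.GPin' Q) (x : ↥(even Q)) :
    (conjEven Q u hu x : CliffordAlgebra Q) = u * x.1 * ↑u⁻¹ := rfl

variable {R' : Type u} [CommRing R'] [Algebra R R'] [Module.FaithfullyFlat R R']
  (m : ℕ) (b : Module.Basis (Fin (2 * m + 1)) R M)
  (g : M →ₗ[R] (Fin (2 * m + 1) → R'))
  (hg : ∀ x, Qm (Wsp R' (2 * m + 1)) (g x) = algebraMap R R' (Q x))
  (hspan : Submodule.span R' (Set.range g) = ⊤)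

include b hg hspan in
theorem odd_even_isAzumaya : IsAzumaya R ↥(even Q) := by
  obtain ⟨e⟩ := odd_evenPart m b Q g hg hspan
  haveI : Nonempty (Fin (2 ^ m)) := ⟨⟨0, pow_pos (by norm_num) m⟩⟩
  haveI : IsAzumaya R' (Matrix (Fin (2 ^ m)) (Fin (2 ^ m)) R') := IsAzumaya.matrix R' (Fin (2 ^ m))
  haveI : IsAzumaya R' (R' ⊗[R] ↥(even Q)) := IsAzumaya.of_AlgEquiv R' _ _ e.symm
  exact Groth.Agent.Lib.Helper15.Azumaya.isAzumaya_of_faithfullyFlat R' ↥(even Q)

include b hg hspan in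
theorem odd_GPin'_factor [IsLocalRing R] (u' : (CliffordAlgebra Q)ˣ) (hu' : u' ∈ QuadGrp.GPin' Q) :
    ∃ z : CliffordAlgebra Q, z ∈ Subalgebra.center R (CliffordAlgebra Q) ∧ IsUnit z ∧
      ∃ u ∈ QuadGrp.GSpin Q, (u' : CliffordAlgebra Q) = z * u := by
  haveI : Module.Free R M := Module.Free.of_basis b
  haveI := odd_even_isAzumaya Q m b g hg hspan
  obtain ⟨a, ha⟩ := Groth.Agent.Lib.Helper15.Azumaya.exists_unit_conj R ↥(even Q) (conjEven Q u' hu')
  let x : (CliffordAlgebra Q)ˣ := Units.map (even Q).val.toMonoidHom a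
  have hxv : (x : CliffordAlgebra Q) = (a : ↥(even Q)).1 := rfl
  have hxi : ((x⁻¹ : (CliffordAlgebra Q)ˣ) : CliffordAlgebra Q) = ((a⁻¹ : (↥(even Q))ˣ) : ↥(even Q)).1 := rfl
  have hx0 : (x : CliffordAlgebra Q) ∈ evenOdd Q 0 := (mem_even_iff Q _).mp (a : ↥(even Q)).2
  -- conjugation by u' and by x agree on the even part
  have hconj : ∀ c ∈ evenOdd Q 0, (u' : CliffordAlgebra Q) * c * ↑u'⁻¹ = x * c * ↑x⁻¹ := by
    intro c hc
    have := congrArg Subtype.val (ha ⟨c, (mem_even_iff Q _).mpr hc⟩)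
    rw [conjEven_coe] at this
    rw [this]
    rfl
  obtain ⟨z₁, hz₁c, hz₁1, hz₁u, ⟨δ, hδ⟩, _, _⟩ := odd_local m b Q g hg hspan
  -- δ is a unit
  obtain ⟨z₁', hz₁', hz₁''⟩ := isUnit_iff_exists.mp hz₁u
  have hδu : ∃ δ', δ * δ' = 1 := by
    refine ⟨retr1 Q (z₁' * z₁'), ?_⟩
    have h1 : algebraMap R (CliffordAlgebra Q) δ * (z₁' * z₁') = 1 := by
      rw [hδ, mul_assoc, ← mul_assoc z₁ z₁' z₁', hz₁', one_mul, hz₁']
    have h2 := congrArg (retr1 Q) h1
    rw [← Algebra.smul_def, map_smul, retr1_one, smul_eq_mul] at h2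
    exact h2
  obtain ⟨δ', hδ'⟩ := hδu
  have hz₁inv : (δ' • z₁) * z₁ = 1 := by
    rw [smul_mul_assoc, ← hδ, Algebra.algebraMap_eq_smul_one, smul_smul, mul_comm, hδ', one_smul]
  -- y := x⁻¹ u' is central
  obtain ⟨yU, hyU⟩ : ∃ yU : (CliffordAlgebra Q)ˣ, yU = x⁻¹ * u' := ⟨_, rfl⟩
  have hyev : ∀ c ∈ evenOdd Q 0, (yU : CliffordAlgebra Q) * c = c * yU := by
    intro c hc
    have h1 := hconj c hc
    -- u' c = x c x⁻¹ u'
    have h2 : (u' : CliffordAlgebra Q) * c = x * c * ↑x⁻¹ * u' := by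
      rw [← h1, mul_assoc _ (↑u'⁻¹ : CliffordAlgebra Q), Units.inv_mul, mul_one]
    rw [hyU, Units.val_mul, mul_assoc, h2]
    simp only [← mul_assoc, Units.inv_mul, one_mul]
  have hyc : (yU : CliffordAlgebra Q) ∈ Subalgebra.center R (CliffordAlgebra Q) := by
    rw [Subalgebra.mem_center_iff]
    intro w
    obtain ⟨w₀, h₀, w₁, h₁, rfl⟩ := exists_decomp Q w
    have hw₁ : w₁ = (w₁ * (δ' • z₁)) * z₁ := by rw [mul_assoc, hz₁inv, mul_one]
    have hev : w₁ * (δ' • z₁) ∈ evenOdd Q 0 := by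
      have := SetLike.mul_mem_graded (A := evenOdd Q) h₁ (Submodule.smul_mem _ δ' hz₁1)
      exact this
    have hz₁comm : z₁ * (yU : CliffordAlgebra Q) = yU * z₁ :=
      ((Subalgebra.mem_center_iff.mp hz₁c) _).symm
    rw [add_mul, mul_add, ← hyev w₀ h₀]
    congr 1
    rw [hw₁, mul_assoc, hz₁comm, ← mul_assoc, ← hyev _ hev, mul_assoc]
  have hu'x : u' = x * yU := by
    rw [hyU, mul_inv_cancel_left]
  have hycomm : ∀ t : CliffordAlgebra Q, (yU : CliffordAlgebra Q) * t = t * yU :=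
    fun t => ((Subalgebra.mem_center_iff.mp hyc) t).symm
  have hxG : x ∈ QuadGrp.GPin' Q := by
    apply mem_GPin'_of_conj
    · intro v
      obtain ⟨v', hv'⟩ := conj_ι_of_mem_GPin' Q u' hu' v
      refine ⟨v', ?_⟩
      rw [← hv']
      have e : ∀ t : CliffordAlgebra Q, (yU : CliffordAlgebra Q) * t * ↑yU⁻¹ = t := fun t => by
        rw [hycomm, mul_assoc, Units.mul_inv, mul_one]
      calc (x : CliffordAlgebra Q) * ι Q v * ↑x⁻¹
          = x * ((yU : CliffordAlgebra Q) * ι Q v * ↑yU⁻¹) * ↑x⁻¹ := by rw [e]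
        _ = ↑u' * ι Q v * ↑u'⁻¹ := by
          rw [hu'x, _root_.mul_inv_rev, Units.val_mul, Units.val_mul]
          simp only [mul_assoc]
    · intro v
      obtain ⟨v', hv'⟩ := conj_ι_of_mem_GPin' Q u'⁻¹ (inv_mem hu') v
      rw [inv_inv] at hv'
      refine ⟨v', ?_⟩
      rw [← hv']
      have e : ∀ t : CliffordAlgebra Q, (↑yU⁻¹ : CliffordAlgebra Q) * t * yU = t := fun t => by
        rw [mul_assoc, ← hycomm, ← mul_assoc, Units.inv_mul, one_mul]
      calc (↑x⁻¹ : CliffordAlgebra Q) * ι Q v * x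
          = ↑yU⁻¹ * ((↑x⁻¹ : CliffordAlgebra Q) * ι Q v * x) * yU := by rw [e]
        _ = ↑u'⁻¹ * ι Q v * ↑u' := by
          rw [hu'x, _root_.mul_inv_rev, Units.val_mul, Units.val_mul]
          simp only [mul_assoc]
  refine ⟨yU, hyc, yU.isUnit, x, mem_GSpin_of_even Q x hxG hx0, ?_⟩
  rw [hu'x, Units.val_mul]
  exact (hycomm _).symm

end Grp

end Groth.Agent.Lib.Helper15.Cl
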