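import Mathlib
import Groth.Prelude.Def_QuadGrp
import Groth.Agent.Lib.Helper15.ClOddGrp
import Groth.Agent.Lib.Helper15.ClConj

/-! Odd rank over a local ring: `GSpin → SO'` is surjective. -/

set_option autoImplicit false
set_option linter.style.haveILetI false

namespace Groth.Agent.Lib.Helper15.Cl

open CliffordAlgebra TensorProduct Matrix
open Groth.Agent.Lib.Helper15.QSplit

universe u v

section Grp
variable {R : Type u} [CommRing R] {M : Type v} [AddCommGroup M] [Module R M]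
  (Q : QuadraticForm R M)

/-- restriction of a graded automorphism to the even subalgebra -/
noncomputable def restrictEven (φ : CliffordAlgebra Q ≃ₐ[R] CliffordAlgebra Q)
    (h : ∀ x ∈ evenOdd Q 0, φ x ∈ evenOdd Q 0) (h' : ∀ x ∈ evenOdd Q 0, φ.symm x ∈ evenOdd Q 0) :
    ↥(even Q) ≃ₐ[R] ↥(even Q) :=
  AlgEquiv.ofAlgHom
    ((φ.toAlgHom.comp (even Q).val).codRestrict (even Q) (fun x =>
      (mem_even_iff Q _).mpr (h x.1 ((mem_even_iff Q _).mp x.2))))
    ((φ.symm.toAlgHom.comp (even Q).val).codRestrict (even Q) (fun x =>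
      (mem_even_iff Q _).mpr (h' x.1 ((mem_even_iff Q _).mp x.2))))
    (by
      refine AlgHom.ext fun x => Subtype.ext ?_
      change φ (φ.symm x.1) = x.1
      rw [AlgEquiv.apply_symm_apply])
    (by
      refine AlgHom.ext fun x => Subtype.ext ?_
      change φ.symm (φ x.1) = x.1
      rw [AlgEquiv.symm_apply_apply])

lemma restrictEven_coe (φ : CliffordAlgebra Q ≃ₐ[R] CliffordAlgebra Q)
    (h : ∀ x ∈ evenOdd Q 0, φ x ∈ evenOdd Q 0) (h' : ∀ x ∈ evenOdd Q 0, φ.symm x ∈ evenOdd Q 0)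
    (x : ↥(even Q)) : (restrictEven Q φ h h' x : CliffordAlgebra Q) = φ x.1 := rfl

variable {R' : Type u} [CommRing R'] [Algebra R R'] [Module.FaithfullyFlat R R']
  (m : ℕ) (b : Module.Basis (Fin (2 * m + 1)) R M)
  (g : M →ₗ[R] (Fin (2 * m + 1) → R'))
  (hg : ∀ x, Qm (Wsp R' (2 * m + 1)) (g x) = algebraMap R R' (Q x))
  (hspan : Submodule.span R' (Set.range g) = ⊤)

include b hg hspan in
theorem odd_SO'_lift [IsLocalRing R] (γ : M ≃ₗ[R] M) (hγ : γ ∈ QuadGrp.SO' Q) :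
    ∃ u ∈ QuadGrp.GSpin Q, ∀ v : M,
      (u : CliffordAlgebra Q) * ι Q v * ↑u⁻¹ = ι Q (γ v) := by
  haveI : Module.Free R M := Module.Free.of_basis b
  haveI : Module.Finite R M := Module.Finite.of_basis b
  haveI := odd_even_isAzumaya Q m b g hg hspan
  have hγO : γ ∈ QuadGrp.O Q := hγ.1
  have hγdet : LinearMap.det γ.toLinearMap = 1 := by
    have h2 : γ ∈ (LinearEquiv.det (R := R) (M := M)).ker := hγ.2
    rw [MonoidHom.mem_ker] at h2
    rw [← LinearEquiv.coe_det, h2, Units.val_one]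
  obtain ⟨φ, hφ⟩ : ∃ φ : CliffordAlgebra Q ≃ₐ[R] CliffordAlgebra Q,
      φ = equivOfIsometry (isoOfMem Q γ hγO) := ⟨_, rfl⟩
  have hφι : ∀ v, φ (ι Q v) = ι Q (γ v) := fun v => by rw [hφ, equivOfIsometry_ι]
  have hφsι : ∀ v, φ.symm (ι Q v) = ι Q (γ.symm v) := fun v => by
    rw [AlgEquiv.symm_apply_eq, hφι, LinearEquiv.apply_symm_apply]
  have hφgr : ∀ k x, x ∈ evenOdd Q k → φ x ∈ evenOdd Q k := by
    intro k x hx
    refine map_mem_graded Q (evenOdd Q) (SetLike.one_mem_graded _)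
      (fun i j a b ha hb => SetLike.mul_mem_graded ha hb) φ.toAlgHom (fun v => ?_) k x hx
    change φ (ι Q v) ∈ _
    rw [hφι]; exact ι_mem_evenOdd_one Q _
  have hφsgr : ∀ k x, x ∈ evenOdd Q k → φ.symm x ∈ evenOdd Q k := by
    intro k x hx
    refine map_mem_graded Q (evenOdd Q) (SetLike.one_mem_graded _)
      (fun i j a b ha hb => SetLike.mul_mem_graded ha hb) φ.symm.toAlgHom (fun v => ?_) k x hx
    change φ.symm (ι Q v) ∈ _
    rw [hφsι]; exact ι_mem_evenOdd_one Q _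
  obtain ⟨a, ha⟩ := Groth.Agent.Lib.Helper15.Azumaya.exists_unit_conj R ↥(even Q)
    (restrictEven Q φ (hφgr 0) (hφsgr 0))
  let x : (CliffordAlgebra Q)ˣ := Units.map (even Q).val.toMonoidHom a
  have hxv : (x : CliffordAlgebra Q) = (a : ↥(even Q)).1 := rfl
  have hxi : ((x⁻¹ : (CliffordAlgebra Q)ˣ) : CliffordAlgebra Q) = ((a⁻¹ : (↥(even Q))ˣ) : ↥(even Q)).1 := rfl
  have hx0 : (x : CliffordAlgebra Q) ∈ evenOdd Q 0 := (mem_even_iff Q _).mp (a : ↥(even Q)).2
  have hconj : ∀ c ∈ evenOdd Q 0, φ c = x * c * ↑x⁻¹ := by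
    intro c hc
    have := congrArg Subtype.val (ha ⟨c, (mem_even_iff Q _).mpr hc⟩)
    rw [restrictEven_coe] at this
    rw [this]
    rfl
  obtain ⟨z₁, hz₁c, hz₁1, hz₁u, ⟨δ, hδ⟩, hli, hcen⟩ := odd_local m b Q g hg hspan
  -- δ is a unit
  obtain ⟨z₁', hz₁', hz₁''⟩ := isUnit_iff_exists.mp hz₁u
  have hδu : ∃ δ', δ * δ' = 1 := by
    refine ⟨retr1 Q (z₁' * z₁'), ?_⟩
    have h1 : algebraMap R (CliffordAlgebra Q) δ * (z₁' * z₁') = 1 := by
      rw [hδ, mul_assoc, ← mul_assoc z₁ z₁' z₁', hz₁', one_mul, hz₁']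
    have h2 := congrArg (retr1 Q) h1
    rw [← Algebra.smul_def, map_smul, retr1_one, smul_eq_mul] at h2
    exact h2
  obtain ⟨δ', hδ'⟩ := hδu
  have hz₁inv : (δ' • z₁) * z₁ = 1 := by
    rw [smul_mul_assoc, ← hδ, Algebra.algebraMap_eq_smul_one, smul_smul, mul_comm, hδ', one_smul]
  -- φ z₁ is an odd central element, hence a multiple of z₁
  have hφz₁c : φ z₁ ∈ Subalgebra.center R (CliffordAlgebra Q) := by
    rw [Subalgebra.mem_center_iff]
    intro w
    have h1 := (Subalgebra.mem_center_iff.mp hz₁c) (φ.symm w)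
    have h2 := congrArg φ h1
    rw [map_mul, map_mul, AlgEquiv.apply_symm_apply] at h2
    exact h2
  have hφz₁1 : φ z₁ ∈ evenOdd Q 1 := hφgr 1 z₁ hz₁1
  obtain ⟨lam, hlam⟩ : ∃ lam : R, φ z₁ = lam • z₁ := by
    have h1 : φ z₁ ∈ Submodule.span R {1, z₁} := by
      rw [← hcen]; exact hφz₁c
    rw [Submodule.mem_span_pair] at h1
    obtain ⟨α, lam, h2⟩ := h1
    refine ⟨lam, ?_⟩
    have h3 := decomp_unique Q (Submodule.smul_mem _ α (SetLike.one_mem_graded (evenOdd Q)))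
      (Submodule.smul_mem _ lam hz₁1) (Submodule.zero_mem _) hφz₁1 (by rw [h2, zero_add])
    exact h3.2.symm
  have hlam2 : lam * lam = 1 := by
    have h1 : φ z₁ * φ z₁ = algebraMap R _ δ := by
      rw [← map_mul, ← hδ, AlgEquiv.commutes]
    rw [hlam, smul_mul_smul_comm, ← hδ,
      Algebra.algebraMap_eq_smul_one, smul_smul] at h1
    have h2 := congrArg (retr1 Q) h1
    rw [map_smul, map_smul, retr1_one, smul_eq_mul, smul_eq_mul, mul_one, mul_one] at h2
    calc lam * lam = lam * lam * (δ * δ') := by rw [hδ', mul_one]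
      _ = (lam * lam * δ) * δ' := by ring
      _ = 1 := by rw [h2, hδ']
  -- φ on vectors
  have hφv : ∀ v, ι Q (γ v) = lam • ((x : CliffordAlgebra Q) * ι Q v * ↑x⁻¹) := by
    intro v
    have hc : ι Q v * (δ' • z₁) ∈ evenOdd Q 0 := by
      have := SetLike.mul_mem_graded (A := evenOdd Q) (ι_mem_evenOdd_one Q v)
        (Submodule.smul_mem _ δ' hz₁1)
      exact this
    have hv : ι Q v = (ι Q v * (δ' • z₁)) * z₁ := by rw [mul_assoc, hz₁inv, mul_one]
    have hz₁comm : ∀ t : CliffordAlgebra Q, z₁ * t = t * z₁ :=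
      fun t => (Subalgebra.mem_center_iff.mp hz₁c t).symm
    rw [← hφι]
    conv_lhs => rw [hv]
    rw [map_mul, hconj _ hc, hlam, mul_smul_comm]
    congr 1
    rw [mul_assoc _ (↑x⁻¹ : CliffordAlgebra Q) z₁, ← hz₁comm, ← mul_assoc, mul_assoc _ _ z₁,
      mul_assoc _ _ z₁, hz₁inv, mul_one]
  have hxv' : ∀ v, (x : CliffordAlgebra Q) * ι Q v * ↑x⁻¹ = ι Q (lam • γ v) := by
    intro v
    rw [map_smul, hφv, smul_smul, hlam2, one_smul]
  -- the isometry `lam • γ`
  let γ' : M ≃ₗ[R] M := LinearEquiv.ofLinear (lam • γ.toLinearMap) (lam • γ.symm.toLinearMap)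
    (by
      ext v
      simp only [LinearMap.comp_apply, LinearMap.smul_apply, LinearEquiv.coe_coe, map_smul,
        LinearEquiv.apply_symm_apply, smul_smul, hlam2, one_smul, LinearMap.id_apply])
    (by
      ext v
      simp only [LinearMap.comp_apply, LinearMap.smul_apply, LinearEquiv.coe_coe, map_smul,
        LinearEquiv.symm_apply_apply, smul_smul, hlam2, one_smul, LinearMap.id_apply])
  have hγ'v : ∀ v, γ' v = lam • γ v := fun v => rfl
  have hxG : x ∈ QuadGrp.GPin' Q := mem_GPin'_of_inner Q γ' x (fun v => by rw [hxv', hγ'v])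
  have hγ'O : γ' ∈ QuadGrp.O Q := by
    have h1 : γ' = conjEquiv Q x hxG := by
      ext v
      apply ι_injective Q
      rw [← ι_conjEquiv, hxv', hγ'v]
    rw [h1]
    exact conjEquiv_mem_O Q x hxG
  have hdet' : LinearMap.det γ'.toLinearMap = 1 :=
    det_eq_one_of_conj b Q γ' hγ'O x
      (map_eq_conj Q γ' hγ'O x (fun v => by rw [hxv', hγ'v])) (Or.inr hx0)
  have hlam1 : lam = 1 := by
    have h1 : γ'.toLinearMap = lam • γ.toLinearMap := rfl
    rw [h1, LinearMap.det_smul, hγdet, mul_one, Module.finrank_eq_card_basis b,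
      Fintype.card_fin, pow_succ, pow_mul, sq, hlam2, one_pow, one_mul] at hdet'
    exact hdet'
  refine ⟨x, mem_GSpin_of_even Q x hxG hx0, fun v => ?_⟩
  rw [hxv', hlam1, one_smul]

end Grp

end Groth.Agent.Lib.Helper15.Cl
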