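import Mathlib
import Groth.Prelude.Def_QuadGrp
import Groth.Agent.Lib.Helper15.ClLoc4

/-! Even rank: spreading out the parity of an isometry from a localization. -/

set_option autoImplicit false
set_option linter.style.haveILetI false

namespace Groth.Agent.Lib.Helper15.Cl

open CliffordAlgebra TensorProduct Matrix
open Groth.Agent.Lib.Helper15.QSplit

universe u v

section Spread
variable {R : Type u} [CommRing R] {M : Type v} [AddCommGroup M] [Module R M] [Module.Free R M]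
  {n : ℕ} (b : Module.Basis (Fin n) R M) (Q : QuadraticForm R M)

/-- spreading-out data: an element `a` of parity `k` of the Clifford algebra which, after inverting
`r` and `f`, becomes a unit inducing `γ` by conjugation -/
def Spread (γ : M ≃ₗ[R] M) (k : ZMod 2) (r f : R) (a a' : CliffordAlgebra Q) : Prop :=
  a ∈ evenOdd Q k ∧ f • (a * a' - algebraMap R _ r) = 0 ∧ f • (a' * a - algebraMap R _ r) = 0 ∧
    ∀ m : M, f • (a * ι Q m - ι Q (γ m) * a) = 0

variable (S : Type u) [CommRing S] [Algebra R S]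

include b in
theorem jj_isLocalizedModule (T : Submonoid R) [IsLocalization T S] :
    IsLocalizedModule T
      (jj Q (QuadGrp.baseChangeForm S Q) (g₀ R S) (baseChangeForm_g₀ S Q)).toLinearMap := by
  have hbij := Ψ_bijective Q (QuadGrp.baseChangeForm S Q) (g₀ R S) (baseChangeForm_g₀ S Q) b
    (b.baseChange S) (span_g₀ S)
  let e : (S ⊗[R] CliffordAlgebra Q) ≃ₗ[R] CliffordAlgebra (QuadGrp.baseChangeForm S Q) :=
    (LinearEquiv.ofBijective (Ψ Q (QuadGrp.baseChangeForm S Q) (g₀ R S)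
      (baseChangeForm_g₀ S Q)).toLinearMap hbij).restrictScalars R
  have h1 := IsLocalizedModule.of_linearEquiv T
    (TensorProduct.mk R S (CliffordAlgebra Q) 1) e
  have h2 : e.toLinearMap ∘ₗ (TensorProduct.mk R S (CliffordAlgebra Q) 1) =
      (jj Q (QuadGrp.baseChangeForm S Q) (g₀ R S) (baseChangeForm_g₀ S Q)).toLinearMap := by
    ext x
    change Ψ Q _ _ _ ((1 : S) ⊗ₜ[R] x) = _
    rw [Ψ_tmul, one_smul]
    rfl
  rw [h2] at h1
  exact h1

include b in
theorem spread_of_par (T : Submonoid R) [IsLocalization T S] (γ : M ≃ₗ[R] M) (k : ZMod 2)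
    (h : Par (QuadGrp.baseChangeForm S Q) (γS S γ) k) :
    ∃ r ∈ T, ∃ f ∈ T, ∃ a a' : CliffordAlgebra Q, Spread Q γ k r f a a' := by
  classical
  obtain ⟨hO, u, hu, hmap⟩ := h
  haveI := jj_isLocalizedModule b Q S T
  obtain ⟨J, hJ⟩ : ∃ J : CliffordAlgebra Q →ₐ[R] CliffordAlgebra (QuadGrp.baseChangeForm S Q),
      J = jj Q (QuadGrp.baseChangeForm S Q) (g₀ R S) (baseChangeForm_g₀ S Q) := ⟨_, rfl⟩
  haveI : IsLocalizedModule T J.toLinearMap := by rw [hJ]; infer_instance
  have hJι : ∀ m, J (ι Q m) = ι (QuadGrp.baseChangeForm S Q) (g₀ R S m) := fun m => by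
    rw [hJ, jj_ι]
  have hJgr : ∀ k x, x ∈ evenOdd Q k → J x ∈ evenOdd (QuadGrp.baseChangeForm S Q) k := by
    intro k x hx
    rw [hJ]
    exact jj_mem_evenOdd Q _ _ _ k x hx
  -- numerators
  obtain ⟨⟨a, s⟩, hs⟩ := IsLocalizedModule.surj T J.toLinearMap (u : CliffordAlgebra _)
  obtain ⟨⟨a', s'⟩, hs'⟩ := IsLocalizedModule.surj T J.toLinearMap
    ((u⁻¹ : (CliffordAlgebra (QuadGrp.baseChangeForm S Q))ˣ) : CliffordAlgebra _)
  have hs1 : J a = (s : R) • (u : CliffordAlgebra (QuadGrp.baseChangeForm S Q)) := hs.symm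
  have hs1' : J a' = (s' : R) •
      ((u⁻¹ : (CliffordAlgebra (QuadGrp.baseChangeForm S Q))ˣ) : CliffordAlgebra _) := hs'.symm
  -- the homogeneous part of the numerator
  obtain ⟨ak, hak, hJak⟩ : ∃ ak ∈ evenOdd Q k,
      J ak = (s : R) • (u : CliffordAlgebra (QuadGrp.baseChangeForm S Q)) := by
    obtain ⟨a₀, h₀, a₁, h₁, ha⟩ := exists_decomp Q a
    have hsu : (s : R) • (u : CliffordAlgebra (QuadGrp.baseChangeForm S Q)) ∈
        evenOdd (QuadGrp.baseChangeForm S Q) k := by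
      rw [← algebraMap_smul S (s : R)]
      exact Submodule.smul_mem _ _ hu
    rcases zmod2_cases k with rfl | rfl
    · refine ⟨a₀, h₀, ?_⟩
      have := decomp_unique (QuadGrp.baseChangeForm S Q) (hJgr 0 a₀ h₀) (hJgr 1 a₁ h₁) hsu
        (Submodule.zero_mem _) (by rw [add_zero, ← map_add, ha, hs1])
      exact this.1
    · refine ⟨a₁, h₁, ?_⟩
      have := decomp_unique (QuadGrp.baseChangeForm S Q) (hJgr 0 a₀ h₀) (hJgr 1 a₁ h₁)
        (Submodule.zero_mem _) hsu (by rw [zero_add, ← map_add, ha, hs1])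
      exact this.2
  have hJr : J (algebraMap R _ ((s : R) * (s' : R))) =
      ((s : R) * (s' : R)) • (1 : CliffordAlgebra (QuadGrp.baseChangeForm S Q)) := by
    rw [AlgHom.commutes, Algebra.algebraMap_eq_smul_one]
  have E1 : J.toLinearMap (ak * a' - algebraMap R _ ((s : R) * (s' : R))) = 0 := by
    rw [AlgHom.toLinearMap_apply, map_sub, map_mul, hJak, hs1', hJr, smul_mul_smul_comm,
      Units.mul_inv, sub_self]
  have E2 : J.toLinearMap (a' * ak - algebraMap R _ ((s : R) * (s' : R))) = 0 := by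
    rw [AlgHom.toLinearMap_apply, map_sub, map_mul, hJak, hs1', hJr, smul_mul_smul_comm,
      Units.inv_mul, mul_comm (s' : R), sub_self]
  obtain ⟨t₁, ht₁⟩ := (IsLocalizedModule.eq_zero_iff T J.toLinearMap).mp E1
  obtain ⟨t₂, ht₂⟩ := (IsLocalizedModule.eq_zero_iff T J.toLinearMap).mp E2
  -- the intertwining relation
  have hint : ∀ m : M, (u : CliffordAlgebra (QuadGrp.baseChangeForm S Q)) *
      ι (QuadGrp.baseChangeForm S Q) (g₀ R S m) =
      ι (QuadGrp.baseChangeForm S Q) (g₀ R S (γ m)) * u := by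
    intro m
    have h1 := hmap (ι (QuadGrp.baseChangeForm S Q) (g₀ R S m))
    rw [map_apply_ι, QuadGrp.isometryOfMem_apply, γS_g₀] at h1
    rw [h1, mul_assoc, Units.inv_mul, mul_one]
  have E3 : ∀ m : M, J.toLinearMap (ak * ι Q m - ι Q (γ m) * ak) = 0 := by
    intro m
    rw [AlgHom.toLinearMap_apply, map_sub, map_mul, map_mul, hJak, hJι, hJι, smul_mul_assoc,
      mul_smul_comm, hint, sub_self]
  have ht₃ : ∀ i, ∃ t : T, t • (ak * ι Q (b i) - ι Q (γ (b i)) * ak) = 0 := fun i =>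
    (IsLocalizedModule.eq_zero_iff T J.toLinearMap).mp (E3 (b i))
  choose t₃ ht₃ using ht₃
  refine ⟨(s : R) * (s' : R), T.mul_mem s.2 s'.2, (t₁ : R) * (t₂ : R) * ∏ i, (t₃ i : R),
    T.mul_mem (T.mul_mem t₁.2 t₂.2) (T.prod_mem fun i _ => (t₃ i).2), ak, a', hak, ?_, ?_, ?_⟩
  · have : ((t₁ : R) * (t₂ : R) * ∏ i, (t₃ i : R)) = ((t₂ : R) * ∏ i, (t₃ i : R)) * (t₁ : R) := by
      ring
    rw [this, mul_smul]
    have h0 : (t₁ : R) • (ak * a' - algebraMap R _ ((s : R) * (s' : R))) = 0 := ht₁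
    rw [h0, smul_zero]
  · have : ((t₁ : R) * (t₂ : R) * ∏ i, (t₃ i : R)) = ((t₁ : R) * ∏ i, (t₃ i : R)) * (t₂ : R) := by
      ring
    rw [this, mul_smul]
    have h0 : (t₂ : R) • (a' * ak - algebraMap R _ ((s : R) * (s' : R))) = 0 := ht₂
    rw [h0, smul_zero]
  · -- linear extension from the basis
    let D : M →ₗ[R] CliffordAlgebra Q :=
      (LinearMap.mulLeft R ak) ∘ₗ ι Q - (LinearMap.mulRight R ak) ∘ₗ ι Q ∘ₗ γ.toLinearMap
    have hD : ∀ m, D m = ak * ι Q m - ι Q (γ m) * ak := fun m => rfl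
    have hfD : ((t₁ : R) * (t₂ : R) * ∏ i, (t₃ i : R)) • D = 0 := by
      apply b.ext
      intro i
      rw [LinearMap.smul_apply, LinearMap.zero_apply, hD]
      have : ((t₁ : R) * (t₂ : R) * ∏ i, (t₃ i : R)) =
          ((t₁ : R) * (t₂ : R) * ∏ j ∈ Finset.univ.erase i, (t₃ j : R)) * (t₃ i : R) := by
        rw [mul_assoc _ _ (t₃ i : R), Finset.prod_erase_mul _ _ (Finset.mem_univ i)]
      rw [this, mul_smul]
      have h0 : (t₃ i : R) • (ak * ι Q (b i) - ι Q (γ (b i)) * ak) = 0 := ht₃ i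
      rw [h0, smul_zero]
    intro m
    have := congrArg (fun L => L m) hfD
    simpa only [LinearMap.smul_apply, LinearMap.zero_apply, hD] using this

theorem par_of_spread (γ : M ≃ₗ[R] M) (hγ : γ ∈ QuadGrp.O Q) (k : ZMod 2) (r f : R)
    (a a' : CliffordAlgebra Q) (h : Spread Q γ k r f a a')
    (hr : IsUnit (algebraMap R S r)) (hf : IsUnit (algebraMap R S f)) :
    Par (QuadGrp.baseChangeForm S Q) (γS S γ) k := by
  obtain ⟨hak, h1, h2, h3⟩ := h
  obtain ⟨J, hJ⟩ : ∃ J : CliffordAlgebra Q →ₐ[R] CliffordAlgebra (QuadGrp.baseChangeForm S Q),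
      J = jj Q (QuadGrp.baseChangeForm S Q) (g₀ R S) (baseChangeForm_g₀ S Q) := ⟨_, rfl⟩
  have hJι : ∀ m, J (ι Q m) = ι (QuadGrp.baseChangeForm S Q) (g₀ R S m) := fun m => by
    rw [hJ, jj_ι]
  have hO := γS_mem_O S Q γ hγ
  -- cancel `f`
  have hcancel : ∀ y : CliffordAlgebra Q, f • y = 0 → J y = 0 := by
    intro y hy
    have e1 := congrArg J hy
    rw [map_smul, map_zero, ← algebraMap_smul S f] at e1
    have e2 : (algebraMap R S f) • J y = (algebraMap R S f) • (0 : CliffordAlgebra _) := by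
      rw [e1, smul_zero]
    exact hf.smul_left_cancel.mp e2
  obtain ⟨ρ, hρ⟩ := hr
  have hJr : J (algebraMap R _ r) = (ρ : S) • (1 : CliffordAlgebra (QuadGrp.baseChangeForm S Q)) := by
    rw [AlgHom.commutes, IsScalarTower.algebraMap_apply R S, Algebra.algebraMap_eq_smul_one, hρ]
  have e1 : J a * J a' = (ρ : S) • (1 : CliffordAlgebra (QuadGrp.baseChangeForm S Q)) := by
    have := hcancel _ h1
    rw [map_sub, map_mul, hJr, sub_eq_zero] at this
    exact this
  have e2 : J a' * J a = (ρ : S) • (1 : CliffordAlgebra (QuadGrp.baseChangeForm S Q)) := by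
    have := hcancel _ h2
    rw [map_sub, map_mul, hJr, sub_eq_zero] at this
    exact this
  let W : (CliffordAlgebra (QuadGrp.baseChangeForm S Q))ˣ :=
    ⟨J a, ((ρ⁻¹ : Sˣ) : S) • J a',
      by rw [mul_smul_comm, e1, smul_smul, Units.inv_mul, one_smul],
      by rw [smul_mul_assoc, e2, smul_smul, Units.inv_mul, one_smul]⟩
  have hWv : (W : CliffordAlgebra (QuadGrp.baseChangeForm S Q)) = J a := rfl
  have hWi : ((W⁻¹ : (CliffordAlgebra (QuadGrp.baseChangeForm S Q))ˣ) : CliffordAlgebra _) =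
      ((ρ⁻¹ : Sˣ) : S) • J a' := rfl
  have hint0 : ∀ m : M, J a * ι (QuadGrp.baseChangeForm S Q) (g₀ R S m) =
      ι (QuadGrp.baseChangeForm S Q) (g₀ R S (γ m)) * J a := by
    intro m
    have := hcancel _ (h3 m)
    rw [map_sub, map_mul, map_mul, hJι, hJι, sub_eq_zero] at this
    exact this
  have hint : ∀ v : S ⊗[R] M, J a * ι (QuadGrp.baseChangeForm S Q) v =
      ι (QuadGrp.baseChangeForm S Q) (γS S γ v) * J a := by
    intro v
    induction v using TensorProduct.induction_on with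
    | zero => rw [map_zero, map_zero, map_zero, mul_zero, zero_mul]
    | tmul c m =>
      have hc : c ⊗ₜ[R] m = c • g₀ R S m := by
        rw [g₀_apply, TensorProduct.smul_tmul', smul_eq_mul, mul_one]
      rw [hc, map_smul, map_smul, γS_g₀, map_smul, mul_smul_comm, smul_mul_assoc, hint0]
    | add x y hx hy => rw [map_add, map_add, map_add, mul_add, add_mul, hx, hy]
  have hconj : ∀ v : S ⊗[R] M, (W : CliffordAlgebra (QuadGrp.baseChangeForm S Q)) *
      ι (QuadGrp.baseChangeForm S Q) v * ↑W⁻¹ = ι (QuadGrp.baseChangeForm S Q) (γS S γ v) := by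
    intro v
    rw [hWv, hint, mul_assoc, ← hWv, Units.mul_inv, mul_one]
  refine ⟨hO, W, ?_, map_eq_conj (QuadGrp.baseChangeForm S Q) (γS S γ) hO W hconj⟩
  rw [hWv, hJ]
  exact jj_mem_evenOdd Q _ _ _ k a hak

end Spread

end Groth.Agent.Lib.Helper15.Cl
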