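import Mathlib
import Groth.Prelude.Def_QuadGrp
import Groth.Agent.Lib.Helper15.ClSpread1
import Groth.Agent.Lib.Helper15.ClOddSO

/-! Odd rank `3 mod 4`, `2` invertible: `Pin = Pin'`. -/

set_option autoImplicit false
set_option linter.style.haveILetI false

namespace Groth.Agent.Lib.Helper15.Cl

open CliffordAlgebra TensorProduct Matrix
open Groth.Agent.Lib.Helper15.QSplit
open Groth.Agent.Lib.Helper2.HalfDisc

universe u v w w'

section Transfer
variable {R : Type u} [CommRing R] {M : Type v} [AddCommGroup M] [Module R M]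
  {S : Type w} [CommRing S] [Algebra R S] {M' : Type w'} [AddCommGroup M'] [Module S M']
  [Module R M'] [IsScalarTower R S M']
  (Q : QuadraticForm R M) (Q' : QuadraticForm S M')
  (g : M →ₗ[R] M') (hg : ∀ m, Q' (g m) = algebraMap R S (Q m))
  (hspan : Submodule.span S (Set.range g) = ⊤)

include hspan in
theorem jj_conj_ι (u : (CliffordAlgebra Q)ˣ) (hu : u ∈ QuadGrp.GPin' Q) (v : M') :
    ∃ v' : M', jj Q Q' g hg u * ι Q' v * jj Q Q' g hg ↑u⁻¹ = ι Q' v' := by
  have hv : v ∈ Submodule.span S (Set.range g) := by rw [hspan]; trivial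
  induction hv using Submodule.span_induction with
  | mem x hx =>
    obtain ⟨m, rfl⟩ := hx
    obtain ⟨m', hm'⟩ := conj_ι_of_mem_GPin' Q u hu m
    refine ⟨g m', ?_⟩
    rw [← jj_ι Q Q' g hg, ← map_mul, ← map_mul, hm', jj_ι]
  | zero => exact ⟨0, by rw [map_zero, mul_zero, zero_mul]⟩
  | add x y _ _ hx hy =>
    obtain ⟨x', hx'⟩ := hx
    obtain ⟨y', hy'⟩ := hy
    exact ⟨x' + y', by rw [map_add, mul_add, add_mul, hx', hy', map_add]⟩
  | smul c x _ hx =>
    obtain ⟨x', hx'⟩ := hx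
    exact ⟨c • x', by rw [map_smul, mul_smul_comm, smul_mul_assoc, hx', map_smul]⟩

include hspan in
theorem jj_mem_GPin' (u : (CliffordAlgebra Q)ˣ) (hu : u ∈ QuadGrp.GPin' Q) :
    Units.map (jj Q Q' g hg).toMonoidHom u ∈ QuadGrp.GPin' Q' := by
  apply mem_GPin'_of_conj
  · intro v
    exact jj_conj_ι Q Q' g hg hspan u hu v
  · intro v
    have := jj_conj_ι Q Q' g hg hspan u⁻¹ (inv_mem hu) v
    rw [inv_inv] at this
    exact this

end Transfer

section Local
variable {R : Type u} [CommRing R] {M : Type v} [AddCommGroup M] [Module R M]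
  (Q : QuadraticForm R M)

lemma star_mem_evenOdd (k : ZMod 2) (x : CliffordAlgebra Q) (hx : x ∈ evenOdd Q k) :
    star x ∈ evenOdd Q k := by
  rw [star_def, reverse_mem_evenOdd_iff, involute_mem_evenOdd_iff]
  exact hx

variable {R' : Type u} [CommRing R'] [Algebra R R'] [Module.FaithfullyFlat R R']
  (m : ℕ) (b : Module.Basis (Fin (2 * m + 1)) R M)
  (g : M →ₗ[R] (Fin (2 * m + 1) → R'))
  (hg : ∀ x, Qm (Wsp R' (2 * m + 1)) (g x) = algebraMap R R' (Q x))
  (hspan : Submodule.span R' (Set.range g) = ⊤)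

include b hg hspan in
/-- rank `3 mod 4`, `2` invertible, local base: a norm-one element of the naive Clifford group
is homogeneous -/
theorem pin'_homog_local [IsLocalRing R] (hm : Odd m) (h2 : IsUnit (2 : R))
    (u : (CliffordAlgebra Q)ˣ) (hu : u ∈ QuadGrp.GPin' Q)
    (hN : star (u : CliffordAlgebra Q) * u = 1) :
    (u : CliffordAlgebra Q) ∈ evenOdd Q 0 ∨ (u : CliffordAlgebra Q) ∈ evenOdd Q 1 := by
  haveI : Module.Free R M := Module.Free.of_basis b
  obtain ⟨z, hzc, hzu, u₀, hu₀, huz⟩ := odd_GPin'_factor Q m b g hg hspan u hu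
  obtain ⟨z₁, hz₁c, hz₁1, hz₁u, ⟨δ, hδ⟩, hli, hcen⟩ := odd_local m b Q g hg hspan
  have hu₀0 : (u₀ : CliffordAlgebra Q) ∈ evenOdd Q 0 := hu₀.2
  -- z = α + β z₁
  obtain ⟨α, β, hz⟩ : ∃ α β : R, α • (1 : CliffordAlgebra Q) + β • z₁ = z := by
    have h1 : z ∈ Submodule.span R {1, z₁} := by rw [← hcen]; exact hzc
    exact Submodule.mem_span_pair.mp h1
  have hstar₁ : star z₁ = z₁ := by
    rw [odd_star m b Q g hg hspan z₁ hz₁c hz₁1]
    obtain ⟨j, rfl⟩ := hm
    have : 2 * j + 1 + 1 = 2 * (j + 1) := by ring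
    rw [this, pow_mul, neg_one_sq, one_pow, one_smul]
  have hstarz : star z = z := by
    rw [← hz, star_add, CliffordAlgebra.star_smul, CliffordAlgebra.star_smul, star_one, hstar₁]
  have hzcomm : ∀ t : CliffordAlgebra Q, z * t = t * z :=
    fun t => (Subalgebra.mem_center_iff.mp hzc t).symm
  have hz₁comm : ∀ t : CliffordAlgebra Q, z₁ * t = t * z₁ :=
    fun t => (Subalgebra.mem_center_iff.mp hz₁c t).symm
  obtain ⟨N₀, hN₀⟩ : ∃ N₀ : CliffordAlgebra Q, N₀ = star (u₀ : CliffordAlgebra Q) * u₀ := ⟨_, rfl⟩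
  have hN₀0 : N₀ ∈ evenOdd Q 0 := by
    rw [hN₀]
    have := SetLike.mul_mem_graded (A := evenOdd Q) (star_mem_evenOdd Q 0 _ hu₀0) hu₀0
    exact this
  have e1 : (z * z) * N₀ = 1 := by
    have h1 : star (u : CliffordAlgebra Q) = star (u₀ : CliffordAlgebra Q) * z := by
      rw [huz, star_mul, hstarz]
    have h3 : star (u₀ : CliffordAlgebra Q) * (z * z) = (z * z) * star (u₀ : CliffordAlgebra Q) := by
      rw [← mul_assoc, ← hzcomm, mul_assoc, ← hzcomm, ← mul_assoc]
    calc z * z * N₀ = (z * z * star (u₀ : CliffordAlgebra Q)) * u₀ := by rw [hN₀, mul_assoc (z * z)]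
      _ = (star (u₀ : CliffordAlgebra Q) * (z * z)) * u₀ := by rw [h3]
      _ = (star (u₀ : CliffordAlgebra Q) * z) * (z * u₀) := by simp only [mul_assoc]
      _ = 1 := by rw [← h1, ← huz, hN]
  have hzz : z * z = (α * α + β * β * δ) • (1 : CliffordAlgebra Q) + (2 * α * β) • z₁ := by
    rw [← hz]
    have hδ' : z₁ * z₁ = δ • (1 : CliffordAlgebra Q) := by
      rw [← hδ, Algebra.algebraMap_eq_smul_one]
    simp only [add_mul, mul_add, smul_mul_smul_comm, mul_one, one_mul, hδ', smul_smul]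
    module
  rw [hzz, add_mul, smul_mul_assoc, smul_mul_assoc, one_mul] at e1
  have hpar1 : (2 * α * β) • (z₁ * N₀) ∈ evenOdd Q 1 := by
    refine Submodule.smul_mem _ _ ?_
    have := SetLike.mul_mem_graded (A := evenOdd Q) hz₁1 hN₀0
    exact this
  have e2 := decomp_unique Q (Submodule.smul_mem _ (α * α + β * β * δ) hN₀0) hpar1
    (SetLike.one_mem_graded (evenOdd Q)) (Submodule.zero_mem _) (by rw [e1, add_zero])
  obtain ⟨eA, eB⟩ := e2
  have hAunit : IsUnit (α * α + β * β * δ) := by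
    have := congrArg (retr1 Q) eA
    rw [map_smul, retr1_one, smul_eq_mul] at this
    exact IsUnit.of_mul_eq_one _ this
  have hB : 2 * α * β = 0 := by
    have h1 : (2 * α * β) • z₁ = 0 := by
      calc (2 * α * β) • z₁ = (2 * α * β) • (z₁ * ((α * α + β * β * δ) • N₀)) := by
            rw [eA, mul_one]
        _ = (α * α + β * β * δ) • ((2 * α * β) • (z₁ * N₀)) := by
            rw [mul_smul_comm, smul_comm]
        _ = 0 := by rw [eB, smul_zero]
    have h2 := (LinearIndependent.pair_iff.mp hli) 0 (2 * α * β) (by rw [zero_smul, zero_add, h1])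
    exact h2.2
  have hαβ : α * β = 0 := by
    have : 2 * (α * β) = 0 := by rw [← mul_assoc]; exact hB
    exact (h2.mul_right_eq_zero).mp this
  rcases IsLocalRing.isUnit_or_isUnit_of_isUnit_add hAunit with hα | hβ
  · left
    have hαu : IsUnit α := isUnit_of_mul_isUnit_left hα
    have hβ0 : β = 0 := (hαu.mul_right_eq_zero).mp hαβ
    rw [huz, ← hz, hβ0, zero_smul, add_zero, smul_mul_assoc, one_mul]
    exact Submodule.smul_mem _ _ hu₀0
  · right
    have hβu : IsUnit β := isUnit_of_mul_isUnit_left (isUnit_of_mul_isUnit_left hβ)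
    have hα0 : α = 0 := by
      rw [mul_comm] at hαβ
      exact (hβu.mul_right_eq_zero).mp hαβ
    rw [huz, ← hz, hα0, zero_smul, zero_add, smul_mul_assoc]
    refine Submodule.smul_mem _ _ ?_
    have := SetLike.mul_mem_graded (A := evenOdd Q) hz₁1 hu₀0
    exact this

end Local

end Groth.Agent.Lib.Helper15.Cl
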