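import Mathlib
import Groth.Prelude.Def_QuadGrp
import Groth.Agent.Lib.Helper15.ClPin1

/-! Odd rank `3 mod 4`, `2` invertible: `Pin = Pin'` (global). -/

set_option autoImplicit false
set_option linter.style.haveILetI false

namespace Groth.Agent.Lib.Helper15.Cl

open CliffordAlgebra TensorProduct Matrix
open Groth.Agent.Lib.Helper15.QSplit
open Groth.Agent.Lib.Helper2.HalfDisc

universe u v w

section OddBC
variable {R : Type u} [CommRing R] {M : Type v} [AddCommGroup M] [Module R M] [Module.Free R M]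
  (S : Type w) [CommRing S] [Algebra R S] (Q : QuadraticForm R M)

theorem coeffs_baseChange {n : ℕ} (b : Module.Basis (Fin n) R M) :
    QuadGrp.coeffs (b.baseChange S) (LinearEquiv.refl S S) (QuadGrp.baseChangeForm S Q) =
      algebraMap R S ∘ QuadGrp.coeffs b (LinearEquiv.refl R R) Q := by
  funext s
  induction s using Sym2.ind with
  | _ i j =>
    rw [Function.comp_apply, QuadGrp.coeffs_mk, QuadGrp.coeffs_mk]
    by_cases h : i = j
    · rw [if_pos h, if_pos h, LinearEquiv.refl_apply, LinearEquiv.refl_apply, baseChange_basis_eq,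
        baseChangeForm_g₀]
    · rw [if_neg h, if_neg h, LinearEquiv.refl_apply, LinearEquiv.refl_apply, baseChange_basis_eq,
        baseChange_basis_eq, polar_baseChangeForm_g₀]

theorem halfDisc_baseChange {n : ℕ} (b : Module.Basis (Fin n) R M) :
    QuadGrp.halfDisc (b.baseChange S) (LinearEquiv.refl S S) (QuadGrp.baseChangeForm S Q) =
      algebraMap R S (QuadGrp.halfDisc b (LinearEquiv.refl R R) Q) := by
  unfold QuadGrp.halfDisc
  rw [coeffs_baseChange, MvPolynomial.eval₂_comp_left (algebraMap R S)]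
  congr 1
  exact RingHom.ext_int _ _

theorem bc_odd_setup (m : ℕ) (b : Module.Basis (Fin (2 * m + 1)) R M)
    (hQ : QuadGrp.IsSemiregular b (LinearEquiv.refl R R) Q) :
    ∃ (R' : Type w) (_ : CommRing R') (_ : Algebra S R'), Module.FaithfullyFlat S R' ∧
      Algebra.FinitePresentation S R' ∧
      ∃ g : (S ⊗[R] M) →ₗ[S] (Fin (2 * m + 1) → R'),
        (∀ x, Qm (Wsp R' (2 * m + 1)) (g x) = algebraMap S R' (QuadGrp.baseChangeForm S Q x)) ∧
        Submodule.span R' (Set.range g) = ⊤ := by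
  refine odd_setup m (b.baseChange S) (QuadGrp.baseChangeForm S Q) ?_
  unfold QuadGrp.IsSemiregular
  rw [halfDisc_baseChange]
  exact hQ.map _

end OddBC

section Global
variable {R : Type u} [CommRing R] {M : Type v} [AddCommGroup M] [Module R M] [Module.Free R M]
  (m : ℕ) (b : Module.Basis (Fin (2 * m + 1)) R M) (Q : QuadraticForm R M)
  (hQ : QuadGrp.IsSemiregular b (LinearEquiv.refl R R) Q)

include b hQ in
theorem pin'_isLocHomog (hm : Odd m) (h2 : IsUnit (2 : R)) (u : (CliffordAlgebra Q)ˣ)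
    (hu : u ∈ QuadGrp.GPin' Q) (hN : star (u : CliffordAlgebra Q) * u = 1) :
    QuadGrp.IsLocHomog Q (u : CliffordAlgebra Q) := by
  obtain ⟨u₀, h₀, u₁, h₁, hsum⟩ := exists_decomp Q (u : CliffordAlgebra Q)
  -- the local statement
  have hloc : ∀ (P : Ideal R) [P.IsMaximal],
      (∃ t : R, t ∉ P ∧ t • u₁ = 0) ∨ (∃ t : R, t ∉ P ∧ t • u₀ = 0) := by
    intro P _
    obtain ⟨R', _, _, hff, _, g, hg, hspan⟩ := bc_odd_setup (Localization.AtPrime P) Q m b hQ
    haveI := hff
    obtain ⟨J, hJ⟩ : ∃ J : CliffordAlgebra Q →ₐ[R]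
        CliffordAlgebra (QuadGrp.baseChangeForm (Localization.AtPrime P) Q),
        J = jj Q (QuadGrp.baseChangeForm (Localization.AtPrime P) Q) (g₀ R (Localization.AtPrime P))
          (baseChangeForm_g₀ (Localization.AtPrime P) Q) := ⟨_, rfl⟩
    have hJu : Units.map J.toMonoidHom u ∈
        QuadGrp.GPin' (QuadGrp.baseChangeForm (Localization.AtPrime P) Q) := by
      rw [hJ]
      exact jj_mem_GPin' Q _ _ _ (span_g₀ (Localization.AtPrime P)) u hu
    have hJN : star ((Units.map J.toMonoidHom u : (CliffordAlgebra _)ˣ) : CliffordAlgebra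
        (QuadGrp.baseChangeForm (Localization.AtPrime P) Q)) * (Units.map J.toMonoidHom u) = 1 := by
      change star (J u) * J u = 1
      rw [hJ, ← jj_star, ← map_mul, hN, map_one]
    have h2S : IsUnit (2 : Localization.AtPrime P) := by
      have := h2.map (algebraMap R (Localization.AtPrime P))
      rwa [map_ofNat] at this
    haveI : IsLocalizedModule P.primeCompl J.toLinearMap := by
      rw [hJ]; exact jj_isLocalizedModule b Q (Localization.AtPrime P) P.primeCompl
    have hJgr : ∀ k x, x ∈ evenOdd Q k →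
        J x ∈ evenOdd (QuadGrp.baseChangeForm (Localization.AtPrime P) Q) k := by
      intro k x hx
      rw [hJ]
      exact jj_mem_evenOdd Q _ _ _ k x hx
    have hJsum : J u₀ + J u₁ = J u := by rw [← map_add, hsum]
    rcases pin'_homog_local (QuadGrp.baseChangeForm (Localization.AtPrime P) Q) m
      (b.baseChange (Localization.AtPrime P)) g hg hspan hm h2S _ hJu hJN with h | h
    · left
      have h' : J u ∈ evenOdd (QuadGrp.baseChangeForm (Localization.AtPrime P) Q) 0 := h
      have := (decomp_unique (QuadGrp.baseChangeForm (Localization.AtPrime P) Q) (hJgr 0 u₀ h₀)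
        (hJgr 1 u₁ h₁) h' (Submodule.zero_mem _) (by rw [add_zero, hJsum])).2
      obtain ⟨t, ht⟩ := (IsLocalizedModule.eq_zero_iff P.primeCompl J.toLinearMap).mp this
      exact ⟨t, t.2, ht⟩
    · right
      have h' : J u ∈ evenOdd (QuadGrp.baseChangeForm (Localization.AtPrime P) Q) 1 := h
      have := (decomp_unique (QuadGrp.baseChangeForm (Localization.AtPrime P) Q) (hJgr 0 u₀ h₀)
        (hJgr 1 u₁ h₁) (Submodule.zero_mem _) h' (by rw [zero_add, hJsum])).1
      obtain ⟨t, ht⟩ := (IsLocalizedModule.eq_zero_iff P.primeCompl J.toLinearMap).mp this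
      exact ⟨t, t.2, ht⟩
  -- the annihilator ideals
  let I₀ : Ideal R := LinearMap.ker (LinearMap.toSpanSingleton R (CliffordAlgebra Q) u₀)
  let I₁ : Ideal R := LinearMap.ker (LinearMap.toSpanSingleton R (CliffordAlgebra Q) u₁)
  have hI₀ : ∀ t, t ∈ I₀ ↔ t • u₀ = 0 := fun t => by
    rw [LinearMap.mem_ker, LinearMap.toSpanSingleton_apply]
  have hI₁ : ∀ t, t ∈ I₁ ↔ t • u₁ = 0 := fun t => by
    rw [LinearMap.mem_ker, LinearMap.toSpanSingleton_apply]
  have htop : I₀ ⊔ I₁ = ⊤ := by
    by_contra hne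
    obtain ⟨P, hP, hle⟩ := Ideal.exists_le_maximal _ hne
    haveI := hP
    rcases hloc P with ⟨t, htP, ht⟩ | ⟨t, htP, ht⟩
    · exact htP (hle (Submodule.mem_sup_right ((hI₁ t).mpr ht)))
    · exact htP (hle (Submodule.mem_sup_left ((hI₀ t).mpr ht)))
  have h1 : (1 : R) ∈ I₀ ⊔ I₁ := by rw [htop]; trivial
  obtain ⟨t₀, ht₀, t₁, ht₁, h01⟩ := Submodule.mem_sup.mp h1
  rw [hI₀] at ht₀
  rw [hI₁] at ht₁
  have hprod : t₀ * t₁ = 0 := by
    apply algebraMap_injective Q
    have e0 : (t₀ * t₁) • u₀ = 0 := by rw [mul_comm, mul_smul, ht₀, smul_zero]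
    have e1 : (t₀ * t₁) • u₁ = 0 := by rw [mul_smul, ht₁, smul_zero]
    rw [map_zero, Algebra.algebraMap_eq_smul_one, ← Units.mul_inv u, ← smul_mul_assoc, ← hsum,
      smul_add, e0, e1, add_zero, zero_mul]
  have hid : t₁ * t₁ = t₁ := by
    calc t₁ * t₁ = (t₀ + t₁) * t₁ - t₀ * t₁ := by ring
      _ = t₁ := by rw [h01, hprod, one_mul, sub_zero]
  refine ⟨t₁, hid, ?_, ?_⟩
  · rw [← hsum, smul_add, ht₁, add_zero]
    exact Submodule.smul_mem _ _ h₀
  · have : 1 - t₁ = t₀ := by rw [← h01]; ring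
    rw [this, ← hsum, smul_add, ht₀, zero_add]
    exact Submodule.smul_mem _ _ h₁

end Global

end Groth.Agent.Lib.Helper15.Cl
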