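import Mathlib
import Groth.Prelude.Def_QuadGrp
import Groth.Agent.Lib.Helper15.ClSpread1

/-! Even rank over a connected base: isometries violating the Dickson condition have
determinant `-1`. -/

set_option autoImplicit false
set_option linter.style.haveILetI false

namespace Groth.Agent.Lib.Helper15.Cl

open CliffordAlgebra TensorProduct Matrix
open Groth.Agent.Lib.Helper15.QSplit

universe u v

section Locus
variable {R : Type u} [CommRing R] {M : Type v} [AddCommGroup M] [Module R M] [Module.Free R M]
  [Module.Finite R M]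
  (m : ℕ) (b : Module.Basis (Fin (2 * m)) R M) (Q : QuadraticForm R M)
  (hQ : Function.Bijective (QuadraticMap.polarBilin Q))

/-- the locus of primes where the isometry has parity `k` -/
def parLocus (γ : M ≃ₗ[R] M) (k : ZMod 2) : Set (PrimeSpectrum R) :=
  {p | Par (QuadGrp.baseChangeForm (Localization.AtPrime p.asIdeal) Q)
    (γS (Localization.AtPrime p.asIdeal) γ) k}

include b in
theorem isOpen_parLocus (γ : M ≃ₗ[R] M) (hγ : γ ∈ QuadGrp.O Q) (k : ZMod 2) :
    IsOpen (parLocus Q γ k) := by
  rw [isOpen_iff_forall_mem_open]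
  intro p hp
  obtain ⟨r, hr, f, hf, a, a', hsp⟩ := spread_of_par b Q (Localization.AtPrime p.asIdeal)
    p.asIdeal.primeCompl γ k hp
  refine ⟨(PrimeSpectrum.basicOpen (r * f) : Set (PrimeSpectrum R)), ?_,
    (PrimeSpectrum.basicOpen (r * f)).isOpen, ?_⟩
  · intro q hq
    have hq' : r * f ∉ q.asIdeal := hq
    have hrq : r ∉ q.asIdeal := fun h => hq' (Ideal.mul_mem_right _ _ h)
    have hfq : f ∉ q.asIdeal := fun h => hq' (Ideal.mul_mem_left _ _ h)
    exact par_of_spread Q (Localization.AtPrime q.asIdeal) γ hγ k r f a a' hsp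
      (IsLocalization.map_units (Localization.AtPrime q.asIdeal)
        (⟨r, hrq⟩ : q.asIdeal.primeCompl))
      (IsLocalization.map_units (Localization.AtPrime q.asIdeal)
        (⟨f, hfq⟩ : q.asIdeal.primeCompl))
  · change r * f ∉ p.asIdeal
    exact (p.asIdeal.primeCompl.mul_mem hr hf)

include b hQ in
theorem parLocus_union (γ : M ≃ₗ[R] M) (hγ : γ ∈ QuadGrp.O Q) :
    parLocus Q γ 0 ∪ parLocus Q γ 1 = Set.univ := by
  rw [Set.eq_univ_iff_forall]
  intro p
  rcases par_baseChange m b Q hQ (Localization.AtPrime p.asIdeal) γ hγ with h | h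
  · exact Or.inl h
  · exact Or.inr h

include b hQ in
theorem parLocus_disjoint (γ : M ≃ₗ[R] M) :
    parLocus Q γ 0 ∩ parLocus Q γ 1 = ∅ := by
  rw [Set.eq_empty_iff_forall_notMem]
  rintro p ⟨h0, h1⟩
  obtain ⟨R', _, _, hff, _, g, hg, hspan⟩ :=
    bc_even_setup (Localization.AtPrime p.asIdeal) Q m b hQ
  exact par_one_not_mem (QuadGrp.baseChangeForm (Localization.AtPrime p.asIdeal) Q) m
    (b.baseChange (Localization.AtPrime p.asIdeal)) g hg hspan _ h1
    (par_zero_mem (QuadGrp.baseChangeForm (Localization.AtPrime p.asIdeal) Q) _ h0)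

include b hQ in
theorem det_eq_neg_one_of_not_dickson [ConnectedSpace (PrimeSpectrum R)]
    (γ : M ≃ₗ[R] M) (hγ : γ ∈ QuadGrp.O Q) (hD : ¬ QuadGrp.IsDicksonTrivial Q γ hγ) :
    LinearMap.det γ.toLinearMap = -1 := by
  have hU := parLocus_union m b Q hQ γ hγ
  have hI := parLocus_disjoint m b Q hQ γ
  have hcompl : parLocus Q γ 0 = (parLocus Q γ 1)ᶜ := by
    ext p
    constructor
    · intro h0 h1
      have : p ∈ parLocus Q γ 0 ∩ parLocus Q γ 1 := ⟨h0, h1⟩
      rw [hI] at this
      exact this
    · intro h1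
      have : p ∈ parLocus Q γ 0 ∪ parLocus Q γ 1 := by rw [hU]; trivial
      rcases this with h | h
      · exact h
      · exact absurd h h1
  have hclopen : IsClopen (parLocus Q γ 0) :=
    ⟨by rw [hcompl]; exact (isOpen_parLocus m b Q γ hγ 1).isClosed_compl,
      isOpen_parLocus m b Q γ hγ 0⟩
  rcases isClopen_iff.mp hclopen with h0 | h0
  · -- every localization has odd parity
    have h1 : ∀ p, p ∈ parLocus Q γ 1 := by
      intro p
      have : p ∈ parLocus Q γ 0 ∪ parLocus Q γ 1 := by rw [hU]; trivial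
      rw [h0, Set.empty_union] at this
      exact this
    rw [← sub_eq_zero, sub_neg_eq_add]
    apply eq_zero_of_localization
    intro J hJ
    haveI := hJ
    rw [map_add, map_one, ← sub_neg_eq_add, sub_eq_zero]
    exact det_of_par_one m b Q (Localization.AtPrime J) γ (h1 ⟨J, hJ.isPrime⟩)
  · -- every localization has even parity, so the Dickson condition holds
    exfalso
    apply hD
    intro z hz
    rw [← sub_eq_zero]
    apply eq_zero_of_jj_localization b Q
    intro P hP
    rw [map_sub, sub_eq_zero]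
    have hp : (⟨P, hP.isPrime⟩ : PrimeSpectrum R) ∈ parLocus Q γ 0 := by rw [h0]; trivial
    exact jj_defect_of_par_zero Q (Localization.AtPrime P) γ hγ hp z hz

end Locus

end Groth.Agent.Lib.Helper15.Cl
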