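import Mathlib
import Groth.Prelude.Def_QuadGrp2
import Groth.Agent.Lib.Helper15.ClBC
import Groth.Agent.Lib.Helper8.QuadCtr1

/-! Base change of the Clifford algebra of a form on `R^n`: comparison isomorphisms and the
transition maps. -/

set_option autoImplicit false
set_option linter.style.haveILetI false

namespace Groth.Agent.Lib.Helper15.CliffRep

open CliffordAlgebra TensorProduct QuadGrp
open Groth.Agent.Lib.Helper15.Cl
open Groth.Agent.Lib.Helper8.QuadCtr

universe u

section Setup
variable {R : Type u} [CommRing R] {n : ℕ} (Q : QuadraticForm R (Fin n → R))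
variable (A : Type u) [CommRing A] [Algebra R A]

/-- `m ↦ 1 ⊗ m` -/
noncomputable def gA : (Fin n → R) →ₗ[R] A ⊗[R] (Fin n → R) := TensorProduct.mk R A (Fin n → R) 1

lemma gA_apply (m : Fin n → R) : gA (n := n) A m = (1 : A) ⊗ₜ[R] m := rfl

lemma hgA (m : Fin n → R) : baseChangeForm A Q (gA A m) = algebraMap R A (Q m) := by
  rw [baseChangeForm_apply, gA_apply, E_tmul]
  have : (fun j => m j • (1 : A)) = algebraMap R A ∘ m := by
    funext j; simp [Algebra.smul_def]
  rw [this, qc_algebraMap]

lemma span_gA : Submodule.span A (Set.range (gA (R := R) (n := n) A)) = ⊤ := by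
  rw [eq_top_iff]
  rintro z -
  induction z using TensorProduct.induction_on with
  | zero => exact Submodule.zero_mem _
  | add x y hx hy => exact Submodule.add_mem _ hx hy
  | tmul a m =>
    have : a ⊗ₜ[R] m = a • gA (R := R) A m := by
      rw [gA_apply, TensorProduct.smul_tmul', smul_eq_mul, mul_one]
    rw [this]
    exact Submodule.smul_mem _ _ (Submodule.subset_span ⟨m, rfl⟩)

/-- the canonical map of Clifford algebras -/
noncomputable def jA : CliffordAlgebra Q →ₐ[R] CliffordAlgebra (baseChangeForm A Q) :=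
  jj Q (baseChangeForm A Q) (gA A) (hgA Q A)

lemma jA_ι (m : Fin n → R) : jA Q A (ι Q m) = ι (baseChangeForm A Q) ((1 : A) ⊗ₜ[R] m) :=
  jj_ι Q (baseChangeForm A Q) (gA A) (hgA Q A) m

/-- the comparison isomorphism -/
noncomputable def ΨE : A ⊗[R] CliffordAlgebra Q ≃ₐ[A] CliffordAlgebra (baseChangeForm A Q) :=
  AlgEquiv.ofBijective (Ψ Q (baseChangeForm A Q) (gA A) (hgA Q A))
    (Ψ_bijective Q (baseChangeForm A Q) (gA A) (hgA Q A) (Pi.basisFun R (Fin n))
      (Algebra.TensorProduct.basis A (Pi.basisFun R (Fin n))) (span_gA A))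

lemma ΨE_tmul (a : A) (x : CliffordAlgebra Q) : ΨE Q A (a ⊗ₜ x) = a • jA Q A x :=
  Ψ_tmul Q (baseChangeForm A Q) (gA A) (hgA Q A) a x

lemma ι_tmul (a : A) (m : Fin n → R) :
    ι (baseChangeForm A Q) (a ⊗ₜ[R] m) = a • jA Q A (ι Q m) := by
  rw [jA_ι, ← map_smul, TensorProduct.smul_tmul', smul_eq_mul, mul_one]

end Setup

section Trans
variable {R : Type u} [CommRing R] {n : ℕ} (Q : QuadraticForm R (Fin n → R))
variable {A B : Type u} [CommRing A] [Algebra R A] [CommRing B] [Algebra R B] (φ : A →ₐ[R] B)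

/-- the transition map of Clifford algebras over `φ` -/
noncomputable def F : CliffordAlgebra (baseChangeForm A Q) →+* CliffordAlgebra (baseChangeForm B Q) :=
  ((ΨE Q B).toRingEquiv.toRingHom.comp
    (Algebra.TensorProduct.map φ (AlgHom.id R (CliffordAlgebra Q))).toRingHom).comp
      (ΨE Q A).symm.toRingEquiv.toRingHom

lemma F_apply (z : CliffordAlgebra (baseChangeForm A Q)) :
    F Q φ z = ΨE Q B (Algebra.TensorProduct.map φ (AlgHom.id R (CliffordAlgebra Q))
      ((ΨE Q A).symm z)) := rfl

lemma F_Ψ (t : A ⊗[R] CliffordAlgebra Q) :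
    F Q φ (ΨE Q A t) = ΨE Q B (Algebra.TensorProduct.map φ (AlgHom.id R (CliffordAlgebra Q)) t) := by
  rw [F_apply, AlgEquiv.symm_apply_apply]

/-- the key property -/
lemma F_smul_jA (a : A) (x : CliffordAlgebra Q) :
    F Q φ (a • jA Q A x) = φ a • jA Q B x := by
  rw [← ΨE_tmul, F_Ψ, Algebra.TensorProduct.map_tmul, AlgHom.id_apply, ΨE_tmul]

lemma F_jA (x : CliffordAlgebra Q) : F Q φ (jA Q A x) = jA Q B x := by
  have := F_smul_jA Q φ 1 x
  rwa [one_smul, map_one, one_smul] at this

lemma F_smul (a : A) (z : CliffordAlgebra (baseChangeForm A Q)) :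
    F Q φ (a • z) = φ a • F Q φ z := by
  obtain ⟨t, rfl⟩ := (ΨE Q A).surjective z
  induction t using TensorProduct.induction_on with
  | zero => simp
  | add x y hx hy => rw [map_add, smul_add, map_add, map_add, hx, hy, smul_add]
  | tmul a' x =>
    rw [ΨE_tmul, smul_smul, F_smul_jA, F_smul_jA, map_mul, smul_smul]

lemma F_algebraMap (a : A) :
    F Q φ (algebraMap A _ a) = algebraMap B _ (φ a) := by
  rw [Algebra.algebraMap_eq_smul_one, F_smul, map_one, ← Algebra.algebraMap_eq_smul_one]

lemma F_ι (v : A ⊗[R] (Fin n → R)) :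
    F Q φ (ι (baseChangeForm A Q) v) =
      ι (baseChangeForm B Q) (LinearMap.rTensor (Fin n → R) φ.toLinearMap v) := by
  induction v using TensorProduct.induction_on with
  | zero => simp
  | add x y hx hy => rw [map_add, map_add, map_add, map_add, hx, hy]
  | tmul a m =>
    rw [ι_tmul, F_smul_jA, LinearMap.rTensor_tmul, AlgHom.toLinearMap_apply, ι_tmul]

end Trans

end Groth.Agent.Lib.Helper15.CliffRep
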