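import Mathlib
import Groth.Agent.Lib.Helper15.CliffRep1

/-! Coordinates on the base-changed Clifford algebras. -/

set_option autoImplicit false
set_option linter.style.haveILetI false

namespace Groth.Agent.Lib.Helper15.CliffRep

open CliffordAlgebra TensorProduct QuadGrp
open Groth.Agent.Lib.Helper15.Cl
open Groth.Agent.Lib.Helper8.QuadCtr

universe u

section Basis
variable {R : Type u} [CommRing R] {n : ℕ} (Q : QuadraticForm R (Fin n → R))

lemma extBasis_singleton {M I : Type*} [AddCommGroup M] [Module R M] [LinearOrder I]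
    (b : Module.Basis I R M) (i : I) : b.ExteriorAlgebra {i} = ExteriorAlgebra.ι R (b i) := by
  rw [ExteriorAlgebra.basis_apply_ofCard b (Finset.card_singleton i)]
  rw [ExteriorAlgebra.ιMulti_family, ExteriorAlgebra.ιMulti_apply]
  simp [Set.powersetCard.ofFinEmbEquiv_symm_apply]

/-- the basis of the Clifford algebra -/
noncomputable def cB : Module.Basis (Finset (Fin n)) R (CliffordAlgebra Q) :=
  basisC Q (Pi.basisFun R (Fin n))

lemma cB_singleton (i : Fin n) : cB Q {i} = ι Q (Pi.single i 1) := by
  haveI : Module.Free R (Fin n → R) := Module.Free.of_basis (Pi.basisFun R (Fin n))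
  rw [cB, basisC, Module.Basis.map_apply, extBasis_singleton, Pi.basisFun_apply,
    LinearEquiv.symm_apply_eq, toExt_ι]

variable (A : Type u) [CommRing A] [Algebra R A]

/-- the basis of the base-changed Clifford algebra -/
noncomputable def BA :
    Module.Basis (Finset (Fin n)) A (CliffordAlgebra (baseChangeForm A Q)) :=
  (Algebra.TensorProduct.basis A (cB Q)).map (ΨE Q A).toLinearEquiv

lemma BA_apply (k : Finset (Fin n)) : BA Q A k = jA Q A (cB Q k) := by
  rw [BA, Module.Basis.map_apply, Algebra.TensorProduct.basis_apply, AlgEquiv.toLinearEquiv_apply,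
    ΨE_tmul, one_smul]

lemma BA_singleton (i : Fin n) :
    BA Q A {i} = ι (baseChangeForm A Q) ((1 : A) ⊗ₜ[R] (Pi.single i (1 : R) : Fin n → R)) := by
  rw [BA_apply, cB_singleton, jA_ι]

/-- coordinates -/
noncomputable def Φ (z : CliffordAlgebra (baseChangeForm A Q)) : Finset (Fin n) → A :=
  (BA Q A).equivFun z

/-- the element with given coordinates -/
noncomputable def elt (a : Finset (Fin n) → A) : CliffordAlgebra (baseChangeForm A Q) :=
  ∑ k, a k • BA Q A k

lemma elt_Φ (z : CliffordAlgebra (baseChangeForm A Q)) : elt Q A (Φ Q A z) = z :=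
  (BA Q A).sum_equivFun z

lemma Φ_elt (a : Finset (Fin n) → A) : Φ Q A (elt Q A a) = a := by
  rw [Φ, elt, ← Module.Basis.equivFun_symm_apply, LinearEquiv.apply_symm_apply]

lemma Φ_injective : Function.Injective (Φ Q A) := (BA Q A).equivFun.injective

lemma Φ_zero : Φ Q A 0 = 0 := map_zero (BA Q A).equivFun

lemma Φ_eq_zero_iff (z : CliffordAlgebra (baseChangeForm A Q)) : Φ Q A z = 0 ↔ z = 0 :=
  (BA Q A).equivFun.map_eq_zero_iff

variable {A}
variable {B : Type u} [CommRing B] [Algebra R B] (φ : A →ₐ[R] B)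

lemma F_BA (k : Finset (Fin n)) : F Q φ (BA Q A k) = BA Q B k := by
  rw [BA_apply, F_jA, BA_apply]

lemma F_elt (a : Finset (Fin n) → A) : F Q φ (elt Q A a) = elt Q B (φ ∘ a) := by
  rw [elt, map_sum, elt]
  refine Finset.sum_congr rfl fun k _ => ?_
  rw [F_smul, F_BA, Function.comp_apply]

/-- naturality of the coordinates -/
lemma Φ_F (z : CliffordAlgebra (baseChangeForm A Q)) : Φ Q B (F Q φ z) = φ ∘ Φ Q A z := by
  conv_lhs => rw [← elt_Φ Q A z]
  rw [F_elt, Φ_elt]

end Basis

section Range
variable {R : Type u} [CommRing R] {n : ℕ} (Q : QuadraticForm R (Fin n → R))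
variable (A : Type u) [CommRing A] [Algebra R A]

/-- the vector with coordinates `y` -/
noncomputable def vec (y : Fin n → A) : A ⊗[R] (Fin n → R) :=
  ∑ i, y i ⊗ₜ[R] (Pi.single i (1 : R) : Fin n → R)

lemma exists_vec (v : A ⊗[R] (Fin n → R)) : ∃ y : Fin n → A, v = vec A y := by
  refine ⟨E A v, ?_⟩
  apply (E (R := R) (n := n) A).injective
  rw [vec, map_sum]
  funext j
  rw [Finset.sum_apply, Finset.sum_eq_single j]
  · rw [E_tmul]; simp
  · intro i _ hij
    rw [E_tmul]; simp [Pi.single_apply, hij]
  · intro h; exact absurd (Finset.mem_univ j) h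

lemma ι_vec (y : Fin n → A) :
    ι (baseChangeForm A Q) (vec A y) = ∑ i, y i • BA Q A {i} := by
  rw [vec, map_sum]
  refine Finset.sum_congr rfl fun i _ => ?_
  rw [BA_singleton, ← map_smul, TensorProduct.smul_tmul', smul_eq_mul, mul_one]

/-- membership in the range of `ι` in coordinates -/
lemma mem_range_ι_iff (z : CliffordAlgebra (baseChangeForm A Q)) :
    z ∈ LinearMap.range (ι (baseChangeForm A Q)) ↔
      ∀ k : Finset (Fin n), (∀ i, k ≠ {i}) → Φ Q A z k = 0 := by
  constructor
  · rintro ⟨v, rfl⟩ k hk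
    obtain ⟨y, rfl⟩ := exists_vec A v
    rw [ι_vec]
    have : ∑ i, y i • BA Q A {i} = elt Q A (fun k' => ∑ i, if k' = {i} then y i else 0) := by
      rw [elt]
      simp_rw [Finset.sum_smul]
      rw [Finset.sum_comm]
      refine Finset.sum_congr rfl fun i _ => ?_
      rw [Finset.sum_eq_single {i}]
      · rw [if_pos rfl]
      · intro k' _ hk'
        rw [if_neg hk', zero_smul]
      · intro h; exact absurd (Finset.mem_univ _) h
    rw [this, Φ_elt]
    refine Finset.sum_eq_zero fun i _ => ?_
    rw [if_neg (hk i)]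
  · intro h
    refine ⟨vec A (fun i => Φ Q A z {i}), ?_⟩
    rw [ι_vec]
    conv_rhs => rw [← elt_Φ Q A z]
    rw [elt]
    symm
    have hinj : Function.Injective (fun i : Fin n => ({i} : Finset (Fin n))) :=
      fun i j hij => Finset.singleton_injective hij
    rw [← Finset.sum_subset (Finset.subset_univ (Finset.univ.image fun i : Fin n => ({i} : Finset (Fin n))))]
    · rw [Finset.sum_image (fun i _ j _ hij => hinj hij)]
    · intro k _ hk
      rw [h k, zero_smul]
      intro i hi
      apply hk
      rw [hi]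
      exact Finset.mem_image_of_mem _ (Finset.mem_univ i)

end Range

end Groth.Agent.Lib.Helper15.CliffRep
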