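import Mathlib

/-! The algebra representing the zero locus of a family of polynomials. -/

set_option autoImplicit false
set_option linter.style.haveILetI false

namespace Groth.Agent.Lib.Helper15.Rep

universe u

section ZAlg
variable (R : Type u) [CommRing R] {σ : Type} (rels : Set (MvPolynomial σ R))

/-- the coordinate ring of the zero locus of `rels` -/
abbrev ZAlg : Type u := MvPolynomial σ R ⧸ Ideal.span rels

variable {R rels}
variable {A : Type u} [CommRing A] [Algebra R A]

/-- the point of an algebra map -/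
noncomputable def ZAlg.coord (h : ZAlg R rels →ₐ[R] A) : σ → A :=
  fun s => h (Ideal.Quotient.mk _ (MvPolynomial.X s))

lemma ZAlg.apply_mk (h : ZAlg R rels →ₐ[R] A) (p : MvPolynomial σ R) :
    h (Ideal.Quotient.mk _ p) = MvPolynomial.aeval (ZAlg.coord h) p := by
  have : (h.comp (Ideal.Quotient.mkₐ R (Ideal.span rels))) = MvPolynomial.aeval (ZAlg.coord h) := by
    apply MvPolynomial.algHom_ext
    intro s
    rw [MvPolynomial.aeval_X]
    rfl
  exact congrFun (congrArg DFunLike.coe this) p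

lemma ZAlg.coord_mem (h : ZAlg R rels →ₐ[R] A) (p : MvPolynomial σ R) (hp : p ∈ rels) :
    MvPolynomial.aeval (ZAlg.coord h) p = 0 := by
  rw [← ZAlg.apply_mk, Ideal.Quotient.eq_zero_iff_mem.mpr (Ideal.subset_span hp), map_zero]

/-- the algebra map of a point -/
noncomputable def ZAlg.ofPoint (a : σ → A) (ha : ∀ p ∈ rels, MvPolynomial.aeval a p = 0) :
    ZAlg R rels →ₐ[R] A :=
  Ideal.Quotient.liftₐ _ (MvPolynomial.aeval a) (by
    intro p hp
    have : Ideal.span rels ≤ RingHom.ker (MvPolynomial.aeval (R := R) a).toRingHom := by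
      rw [Ideal.span_le]
      intro q hq
      exact ha q hq
    exact this hp)

lemma ZAlg.ofPoint_mk (a : σ → A) (ha : ∀ p ∈ rels, MvPolynomial.aeval a p = 0)
    (p : MvPolynomial σ R) :
    ZAlg.ofPoint a ha (Ideal.Quotient.mk _ p) = MvPolynomial.aeval a p := rfl

lemma ZAlg.coord_ofPoint (a : σ → A) (ha : ∀ p ∈ rels, MvPolynomial.aeval a p = 0) :
    ZAlg.coord (ZAlg.ofPoint a ha) = a := by
  funext s
  change ZAlg.ofPoint a ha (Ideal.Quotient.mk _ (MvPolynomial.X s)) = a s
  rw [ZAlg.ofPoint_mk, MvPolynomial.aeval_X]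

lemma ZAlg.hom_ext (h h' : ZAlg R rels →ₐ[R] A) (hc : ZAlg.coord h = ZAlg.coord h') : h = h' := by
  apply AlgHom.ext
  intro x
  obtain ⟨p, rfl⟩ := Ideal.Quotient.mk_surjective x
  rw [ZAlg.apply_mk, ZAlg.apply_mk, hc]

/-- algebra maps out of `ZAlg` are the points of the zero locus -/
noncomputable def ZAlg.homEquiv :
    (ZAlg R rels →ₐ[R] A) ≃ {a : σ → A // ∀ p ∈ rels, MvPolynomial.aeval a p = 0} where
  toFun h := ⟨ZAlg.coord h, ZAlg.coord_mem h⟩
  invFun a := ZAlg.ofPoint a.1 a.2
  left_inv h := ZAlg.hom_ext _ _ (ZAlg.coord_ofPoint _ _)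
  right_inv a := Subtype.ext (ZAlg.coord_ofPoint _ _)

lemma ZAlg.coord_comp {B : Type u} [CommRing B] [Algebra R B] (φ : A →ₐ[R] B)
    (h : ZAlg R rels →ₐ[R] A) : ZAlg.coord (φ.comp h) = φ ∘ ZAlg.coord h := rfl

theorem ZAlg.finitePresentation [Finite σ] (hr : rels.Finite) :
    Algebra.FinitePresentation R (ZAlg R rels) := by
  apply Algebra.FinitePresentation.quotient
  exact ⟨hr.toFinset, by rw [Set.Finite.coe_toFinset]⟩

end ZAlg

end Groth.Agent.Lib.Helper15.Rep
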