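import Mathlib

/-! A scheme over `Spec R` whose affine-valued points are (naturally) the points of an affine scheme
`Spec H` is isomorphic to `Spec H`. -/

set_option autoImplicit false
set_option linter.style.haveILetI false

namespace Groth.Agent.Lib.Helper15.Rep

open CategoryTheory AlgebraicGeometry Limits

universe u

lemma hom_ext_affine {X Y : Scheme.{u}} (f g : X ⟶ Y)
    (h : ∀ (C : CommRingCat.{u}) (w : Spec C ⟶ X), w ≫ f = w ≫ g) : f = g := by
  refine Scheme.Cover.hom_ext X.affineCover _ _ fun k => ?_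
  exact h _ (X.affineOpenCover.f k)

/-- abstract point data: the `C`-points of `X` are naturally the ring maps `H ⟶ C`. -/
structure PtData (X : Scheme.{u}) (H : CommRingCat.{u}) where
  /-- the classifying map of a point -/
  pt : ∀ {C : CommRingCat.{u}} (_ : Spec C ⟶ X), H ⟶ C
  pt_nat : ∀ {C C' : CommRingCat.{u}} (g : C ⟶ C') (z : Spec C ⟶ X), pt (Spec.map g ≫ z) = pt z ≫ g
  pt_inj : ∀ {C : CommRingCat.{u}} (z z' : Spec C ⟶ X), pt z = pt z' → z = z'
  /-- the universal point -/
  univ : Spec H ⟶ X
  pt_univ : pt univ = 𝟙 H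

namespace PtData

variable {X : Scheme.{u}} {H : CommRingCat.{u}} (D : PtData X H)

/-- naturality in terms of general morphisms between spectra -/
lemma pt_nat' {C C' : CommRingCat.{u}} (a : Spec C' ⟶ Spec C) (z : Spec C ⟶ X) :
    D.pt (a ≫ z) = D.pt z ≫ Spec.preimage a := by
  have := D.pt_nat (Spec.preimage a) z
  rwa [Spec.map_preimage] at this

/-- the local pieces of the inverse map -/
noncomputable def βloc (j : X.affineOpenCover.I₀) : Spec (X.affineOpenCover.X j) ⟶ Spec H :=
  Spec.map (D.pt (X.affineOpenCover.f j))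

lemma comp_βloc {C : CommRingCat.{u}} (j : X.affineOpenCover.I₀)
    (a : Spec C ⟶ Spec (X.affineOpenCover.X j)) :
    a ≫ D.βloc j = Spec.map (D.pt (a ≫ X.affineOpenCover.f j)) := by
  rw [D.pt_nat', Spec.map_comp, Spec.map_preimage, βloc]

lemma βloc_compat (i j : X.affineOpenCover.I₀) :
    pullback.fst (X.affineOpenCover.f i) (X.affineOpenCover.f j) ≫ D.βloc i =
      pullback.snd (X.affineOpenCover.f i) (X.affineOpenCover.f j) ≫ D.βloc j := by
  apply hom_ext_affine
  intro C w
  rw [← Category.assoc, ← Category.assoc, comp_βloc, comp_βloc, Category.assoc, Category.assoc,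
    pullback.condition]

/-- the inverse map -/
noncomputable def β : X ⟶ Spec H :=
  X.affineOpenCover.openCover.glueMorphisms D.βloc D.βloc_compat

lemma ι_β (j : X.affineOpenCover.I₀) : X.affineOpenCover.f j ≫ D.β = D.βloc j :=
  X.affineOpenCover.openCover.ι_glueMorphisms D.βloc D.βloc_compat j

lemma β_univ : D.β ≫ D.univ = 𝟙 X := by
  refine Scheme.Cover.hom_ext X.affineOpenCover.openCover _ _ ?_
  intro j
  change X.affineOpenCover.f j ≫ D.β ≫ D.univ = X.affineOpenCover.f j ≫ 𝟙 X
  rw [← Category.assoc, ι_β, Category.comp_id, βloc]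
  apply D.pt_inj
  rw [D.pt_nat, D.pt_univ, Category.id_comp]

lemma univ_β_aux (j : X.affineOpenCover.I₀) (C : CommRingCat.{u})
    (w : Spec C ⟶ pullback D.univ (X.affineOpenCover.f j)) :
    w ≫ pullback.fst D.univ (X.affineOpenCover.f j) ≫ D.univ ≫ D.β =
      w ≫ pullback.fst D.univ (X.affineOpenCover.f j) ≫ 𝟙 _ := by
  rw [Category.comp_id, pullback.condition_assoc, ι_β, ← Category.assoc, comp_βloc, Category.assoc,
    ← pullback.condition, ← Category.assoc, D.pt_nat', D.pt_univ, Category.id_comp,
    Spec.map_preimage]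

lemma univ_β : D.univ ≫ D.β = 𝟙 (Spec H) := by
  refine Scheme.Cover.hom_ext (X.affineOpenCover.openCover.pullback₁ D.univ) _ _ ?_
  intro j
  apply hom_ext_affine
  intro C w
  exact D.univ_β_aux j C w

/-- the isomorphism -/
noncomputable def iso : X ≅ Spec H where
  hom := D.β
  inv := D.univ
  hom_inv_id := D.β_univ
  inv_hom_id := D.univ_β

end PtData

end Groth.Agent.Lib.Helper15.Rep
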