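import Mathlib
import Groth.Prelude.Def_QuadGrp2
import Groth.Agent.Lib.Helper15.RepIso

/-! From algebra-valued points (`QuadGrp.specOver`) to an isomorphism with `Spec H`. -/

set_option autoImplicit false
set_option linter.style.haveILetI false

namespace Groth.Agent.Lib.Helper15.Rep

open CategoryTheory AlgebraicGeometry Limits QuadGrp

universe u

variable {R : Type u} [CommRing R]

/-- the `A`-points of `G` are naturally the `R`-algebra maps `H → A` -/
structure AlgPts (G : Over (Spec (CommRingCat.of R))) (H : Type u) [CommRing H] [Algebra R H] where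
  /-- the classifying map -/
  pt : ∀ (A : Type u) [CommRing A] [Algebra R A], (specOver R A ⟶ G) ≃ (H →ₐ[R] A)
  nat : ∀ (A B : Type u) [CommRing A] [Algebra R A] [CommRing B] [Algebra R B] (φ : A →ₐ[R] B)
    (y : specOver R A ⟶ G), pt B (specOverMap R φ ≫ y) = φ.comp (pt A y)

namespace AlgPts

variable {G : Over (Spec (CommRingCat.of R))} {H : Type u} [CommRing H] [Algebra R H]
  (P : AlgPts G H)

/-- the classifying ring map of a point, for an explicit algebra structure -/
noncomputable def mkPt (C : CommRingCat.{u}) (inst : Algebra R C) (z : Spec C ⟶ G.left)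
    (hz : z ≫ G.hom = Spec.map (CommRingCat.ofHom (@algebraMap R C _ _ inst))) : H →+* C :=
  (P.pt C (Over.homMk z hz)).toRingHom

lemma mkPt_congr (C : CommRingCat.{u}) (inst₁ inst₂ : Algebra R C) (h : inst₁ = inst₂)
    (z : Spec C ⟶ G.left) (hz₁ hz₂) : P.mkPt C inst₁ z hz₁ = P.mkPt C inst₂ z hz₂ := by
  subst h; rfl

lemma mkPt_comp_algebraMap (C : CommRingCat.{u}) (inst : Algebra R C) (z : Spec C ⟶ G.left) (hz) :
    (P.mkPt C inst z hz).comp (algebraMap R H) = @algebraMap R C _ _ inst := by
  ext r
  exact (P.pt C (Over.homMk z hz)).commutes r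

lemma mkPt_inj (C : CommRingCat.{u}) (inst : Algebra R C) (z z' : Spec C ⟶ G.left) (hz hz')
    (h : P.mkPt C inst z hz = P.mkPt C inst z' hz') : z = z' := by
  have h1 : P.pt C (Over.homMk z hz) = P.pt C (Over.homMk z' hz') := by
    apply AlgHom.coe_ringHom_injective
    exact h
  have h2 := (P.pt C).injective h1
  exact congrArg CommaMorphism.left h2

lemma mkPt_nat (C C' : CommRingCat.{u}) (inst : Algebra R C) (g : C ⟶ C') (z : Spec C ⟶ G.left) (hz)
    (hz') :
    P.mkPt C' (g.hom.comp (@algebraMap R C _ _ inst)).toAlgebra (Spec.map g ≫ z) hz' =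
      g.hom.comp (P.mkPt C inst z hz) := by
  letI := inst
  letI inst' : Algebra R C' := (g.hom.comp (algebraMap R C)).toAlgebra
  let φ : C →ₐ[R] C' := { g.hom with commutes' := fun r => rfl }
  have h1 := P.nat C C' φ (Over.homMk z hz)
  have h2 : specOverMap R φ ≫ (Over.homMk z hz : specOver R C ⟶ G) =
      (Over.homMk (Spec.map g ≫ z) hz' : specOver R C' ⟶ G) := by
    apply Over.OverMorphism.ext
    rfl
  rw [h2] at h1
  change (P.pt C' (Over.homMk (Spec.map g ≫ z) hz')).toRingHom = _
  rw [h1]
  rfl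

/-- the structure ring map of a point -/
noncomputable def strHom {C : CommRingCat.{u}} (z : Spec C ⟶ G.left) : R →+* C :=
  (Spec.preimage (z ≫ G.hom)).hom

lemma strHom_spec {C : CommRingCat.{u}} (z : Spec C ⟶ G.left) :
    z ≫ G.hom = Spec.map (CommRingCat.ofHom (@algebraMap R C _ _ (strHom (G := G) z).toAlgebra)) := by
  change z ≫ G.hom = Spec.map (CommRingCat.ofHom (Spec.preimage (z ≫ G.hom)).hom)
  rw [CommRingCat.ofHom_hom, Spec.map_preimage]

lemma strHom_eq {C : CommRingCat.{u}} (z : Spec C ⟶ G.left) (ρ : R →+* C)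
    (h : z ≫ G.hom = Spec.map (CommRingCat.ofHom ρ)) : strHom (G := G) z = ρ := by
  unfold strHom
  rw [h, Spec.preimage_map]
  rfl

lemma strHom_comp {C C' : CommRingCat.{u}} (g : C ⟶ C') (z : Spec C ⟶ G.left) :
    strHom (G := G) (Spec.map g ≫ z) = g.hom.comp (strHom (G := G) z) := by
  apply strHom_eq
  rw [Category.assoc, strHom_spec z, ← Spec.map_comp]
  rfl

/-- the classifying map of a point -/
noncomputable def ptHom {C : CommRingCat.{u}} (z : Spec C ⟶ G.left) : H →+* C :=
  P.mkPt C (strHom (G := G) z).toAlgebra z (strHom_spec z)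

lemma ptHom_comp_algebraMap {C : CommRingCat.{u}} (z : Spec C ⟶ G.left) :
    (P.ptHom z).comp (algebraMap R H) = strHom (G := G) z :=
  P.mkPt_comp_algebraMap C _ z _

lemma ptHom_nat {C C' : CommRingCat.{u}} (g : C ⟶ C') (z : Spec C ⟶ G.left) :
    P.ptHom (Spec.map g ≫ z) = g.hom.comp (P.ptHom z) := by
  have hz' : (Spec.map g ≫ z) ≫ G.hom = Spec.map (CommRingCat.ofHom
      (@algebraMap R C' _ _ (g.hom.comp (@algebraMap R C _ _ (strHom (G := G) z).toAlgebra)).toAlgebra)) := by
    rw [strHom_spec (Spec.map g ≫ z)]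
    congr 2
    exact strHom_comp g z
  refine Eq.trans ?_ (P.mkPt_nat C C' (strHom (G := G) z).toAlgebra g z (strHom_spec z) hz')
  apply P.mkPt_congr
  change (strHom (G := G) (Spec.map g ≫ z)).toAlgebra = (g.hom.comp (strHom (G := G) z)).toAlgebra
  rw [strHom_comp]

lemma ptHom_inj {C : CommRingCat.{u}} (z z' : Spec C ⟶ G.left) (h : P.ptHom z = P.ptHom z') :
    z = z' := by
  have h1 : strHom (G := G) z = strHom (G := G) z' := by
    rw [← P.ptHom_comp_algebraMap z, ← P.ptHom_comp_algebraMap z', h]
  have hz' : z' ≫ G.hom = Spec.map (CommRingCat.ofHom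
      (@algebraMap R C _ _ (strHom (G := G) z).toAlgebra)) := by
    rw [strHom_spec z']
    congr 2
    exact h1.symm
  apply P.mkPt_inj C (strHom (G := G) z).toAlgebra z z' (strHom_spec z) hz'
  refine h.trans ?_
  apply P.mkPt_congr
  rw [h1]

/-- the universal point -/
noncomputable def univPt : Spec (CommRingCat.of H) ⟶ G.left :=
  ((P.pt H).symm (AlgHom.id R H)).left

lemma univPt_spec : P.univPt ≫ G.hom = Spec.map (CommRingCat.ofHom (algebraMap R H)) :=
  Over.w ((P.pt H).symm (AlgHom.id R H))

lemma ptHom_univPt : P.ptHom P.univPt = RingHom.id H := by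
  have h1 : strHom (G := G) P.univPt = algebraMap R H := strHom_eq _ _ P.univPt_spec
  have h2 : (strHom (G := G) P.univPt).toAlgebra = (inferInstance : Algebra R H) := by
    apply Algebra.algebra_ext
    intro r
    exact congrFun (congrArg DFunLike.coe h1) r
  have h3 := P.mkPt_congr (CommRingCat.of H) _ _ h2 P.univPt (strHom_spec _) P.univPt_spec
  refine h3.trans ?_
  change (P.pt H (Over.homMk ((P.pt H).symm (AlgHom.id R H)).left _)).toRingHom = _
  have h4 : (Over.homMk ((P.pt H).symm (AlgHom.id R H)).left P.univPt_spec :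
      specOver R H ⟶ G) = (P.pt H).symm (AlgHom.id R H) := by
    apply Over.OverMorphism.ext
    rfl
  rw [h4, Equiv.apply_symm_apply]
  rfl

/-- the abstract point data -/
noncomputable def ptData : PtData G.left (CommRingCat.of H) where
  pt z := CommRingCat.ofHom (P.ptHom z)
  pt_nat g z := by
    rw [P.ptHom_nat g z]
    rfl
  pt_inj z z' h := P.ptHom_inj z z' (by
    have := congrArg CommRingCat.Hom.hom h
    exact this)
  univ := P.univPt
  pt_univ := by
    rw [P.ptHom_univPt]
    rfl

/-- the isomorphism over `Spec R` -/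
noncomputable def overIso : G ≅ specOver R H :=
  Over.isoMk P.ptData.iso (by
    change P.ptData.β ≫ Spec.map (CommRingCat.ofHom (algebraMap R H)) = G.hom
    rw [← P.univPt_spec, ← Category.assoc]
    change (P.ptData.β ≫ P.ptData.univ) ≫ G.hom = G.hom
    rw [P.ptData.β_univ, Category.id_comp])

end AlgPts

end Groth.Agent.Lib.Helper15.Rep
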