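import Mathlib
import Groth.Agent.Lib.Helper15.RepIso2

/-! Transfer of properties along `G ≅ Spec H`. -/

set_option autoImplicit false
set_option linter.style.haveILetI false

namespace Groth.Agent.Lib.Helper15.Rep

open CategoryTheory AlgebraicGeometry Limits QuadGrp

universe u

variable {R : Type u} [CommRing R] {G : Over (Spec (CommRingCat.of R))} {H : Type u} [CommRing H]
  [Algebra R H] (P : AlgPts G H)

namespace AlgPts

/-- the isomorphism of schemes -/
noncomputable def schemeIso : G.left ≅ Spec (CommRingCat.of H) := P.ptData.iso

lemma schemeIso_hom_comp :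
    P.schemeIso.hom ≫ Spec.map (CommRingCat.ofHom (algebraMap R H)) = G.hom := by
  change P.ptData.β ≫ Spec.map (CommRingCat.ofHom (algebraMap R H)) = G.hom
  rw [← P.univPt_spec, ← Category.assoc]
  change (P.ptData.β ≫ P.ptData.univ) ≫ G.hom = G.hom
  rw [P.ptData.β_univ, Category.id_comp]

include P in
theorem smooth_iff : Smooth G.hom ↔ Algebra.Smooth R H := by
  rw [← P.schemeIso_hom_comp, MorphismProperty.cancel_left_of_respectsIso (P := @Smooth),
    HasRingHomProperty.Spec_iff (P := @Smooth), CommRingCat.hom_ofHom, RingHom.smooth_algebraMap]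

include P in
theorem flat_iff : Flat G.hom ↔ Module.Flat R H := by
  rw [← P.schemeIso_hom_comp, MorphismProperty.cancel_left_of_respectsIso (P := @Flat),
    HasRingHomProperty.Spec_iff (P := @Flat), CommRingCat.hom_ofHom, RingHom.flat_algebraMap_iff]

include P in
theorem isAffineHom : IsAffineHom G.hom := by
  rw [← P.schemeIso_hom_comp]
  infer_instance

include P in
theorem isReduced_iff : IsReduced G.left ↔ _root_.IsReduced H := by
  constructor
  · intro h
    haveI : IsReduced (Spec (CommRingCat.of H)) := isReduced_of_isOpenImmersion P.schemeIso.inv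
    exact (affine_isReduced_iff (CommRingCat.of H)).mp inferInstance
  · intro h
    haveI : IsReduced (Spec (CommRingCat.of H)) := (affine_isReduced_iff (CommRingCat.of H)).mpr h
    exact isReduced_of_isOpenImmersion P.schemeIso.hom

end AlgPts

end Groth.Agent.Lib.Helper15.Rep
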