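import Mathlib
import Groth.Agent.Lib.Helper15.CliffRep2
import Groth.Agent.Lib.Helper15.ClGrp
import Groth.Agent.Lib.Helper15.RepIso4
import Groth.Agent.Lib.Helper15.RepIso3

/-! The naive Clifford group functor is cut out by polynomial equations in the coordinates of a
unit and its inverse. -/

set_option autoImplicit false
set_option linter.style.haveILetI false

namespace Groth.Agent.Lib.Helper15.CliffRep

open CliffordAlgebra TensorProduct QuadGrp
open Groth.Agent.Lib.Helper15.Cl
open Groth.Agent.Lib.Helper15.Rep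
open Groth.Agent.Lib.Helper8.QuadCtr

universe u

/-- the index set of the coordinates of a unit and its inverse -/
abbrev Cx (n : ℕ) : Type := Finset (Fin n) ⊕ Finset (Fin n)

section Univ
variable {R : Type u} [CommRing R] {n : ℕ} (Q : QuadraticForm R (Fin n → R))

/-- the universal element -/
noncomputable def Uu : CliffordAlgebra (baseChangeForm (MvPolynomial (Cx n) R) Q) :=
  elt Q (MvPolynomial (Cx n) R) (fun k => MvPolynomial.X (Sum.inl k))

/-- the universal inverse -/
noncomputable def Vu : CliffordAlgebra (baseChangeForm (MvPolynomial (Cx n) R) Q) :=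
  elt Q (MvPolynomial (Cx n) R) (fun k => MvPolynomial.X (Sum.inr k))

variable (A : Type u) [CommRing A] [Algebra R A]

/-- the element of a point -/
noncomputable def xOf (a : Cx n → A) : CliffordAlgebra (baseChangeForm A Q) :=
  elt Q A (a ∘ Sum.inl)

/-- the inverse element of a point -/
noncomputable def yOf (a : Cx n → A) : CliffordAlgebra (baseChangeForm A Q) :=
  elt Q A (a ∘ Sum.inr)

variable {A}

lemma F_Uu (a : Cx n → A) : F Q (MvPolynomial.aeval a) (Uu Q) = xOf Q A a := by
  rw [Uu, F_elt, xOf]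
  congr 1
  funext k
  simp

lemma F_Vu (a : Cx n → A) : F Q (MvPolynomial.aeval a) (Vu Q) = yOf Q A a := by
  rw [Vu, F_elt, yOf]
  congr 1
  funext k
  simp

lemma aeval_Φ (a : Cx n → A) (z : CliffordAlgebra (baseChangeForm (MvPolynomial (Cx n) R) Q))
    (k : Finset (Fin n)) :
    MvPolynomial.aeval a (Φ Q (MvPolynomial (Cx n) R) z k) =
      Φ Q A (F Q (MvPolynomial.aeval a) z) k := by
  rw [Φ_F]; rfl

/-- the relations expressing that the two elements are mutually inverse -/
noncomputable def relsInv : Set (MvPolynomial (Cx n) R) :=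
  Set.range (fun k => Φ Q (MvPolynomial (Cx n) R) (Uu Q * Vu Q - 1) k) ∪
    Set.range (fun k => Φ Q (MvPolynomial (Cx n) R) (Vu Q * Uu Q - 1) k)

open Classical in
/-- the relations expressing that conjugation preserves the vectors -/
noncomputable def relsNorm : Set (MvPolynomial (Cx n) R) :=
  Set.range (fun p : Fin n × Finset (Fin n) =>
      if (∃ i, p.2 = {i}) then 0
      else Φ Q (MvPolynomial (Cx n) R) (Uu Q * BA Q _ {p.1} * Vu Q) p.2) ∪
    Set.range (fun p : Fin n × Finset (Fin n) =>
      if (∃ i, p.2 = {i}) then 0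
      else Φ Q (MvPolynomial (Cx n) R) (Vu Q * BA Q _ {p.1} * Uu Q) p.2)

/-- the relations of the naive Clifford group -/
noncomputable def relsGPin : Set (MvPolynomial (Cx n) R) := relsInv Q ∪ relsNorm Q

lemma relsGPin_finite : (relsGPin Q).Finite :=
  ((Set.finite_range _).union (Set.finite_range _)).union
    ((Set.finite_range _).union (Set.finite_range _))

lemma relsInv_iff (a : Cx n → A) :
    (∀ p ∈ relsInv Q, MvPolynomial.aeval a p = 0) ↔
      xOf Q A a * yOf Q A a = 1 ∧ yOf Q A a * xOf Q A a = 1 := by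
  have key : ∀ z : CliffordAlgebra (baseChangeForm (MvPolynomial (Cx n) R) Q),
      (∀ k, MvPolynomial.aeval a (Φ Q (MvPolynomial (Cx n) R) z k) = 0) ↔
        F Q (MvPolynomial.aeval a) z = 0 := by
    intro z
    rw [← Φ_eq_zero_iff]
    constructor
    · intro h
      funext k
      rw [← aeval_Φ, h]; rfl
    · intro h k
      rw [aeval_Φ, h]; rfl
  have h1 : F Q (MvPolynomial.aeval a) (Uu Q * Vu Q - 1) = xOf Q A a * yOf Q A a - 1 := by
    rw [map_sub, map_mul, map_one, F_Uu, F_Vu]
  have h2 : F Q (MvPolynomial.aeval a) (Vu Q * Uu Q - 1) = yOf Q A a * xOf Q A a - 1 := by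
    rw [map_sub, map_mul, map_one, F_Uu, F_Vu]
  constructor
  · intro h
    constructor
    · rw [← sub_eq_zero, ← h1, ← key]
      intro k
      exact h _ (Or.inl ⟨k, rfl⟩)
    · rw [← sub_eq_zero, ← h2, ← key]
      intro k
      exact h _ (Or.inr ⟨k, rfl⟩)
  · rintro ⟨e1, e2⟩ p (⟨k, rfl⟩ | ⟨k, rfl⟩)
    · exact (key _).mpr (by rw [h1, e1, sub_self]) k
    · exact (key _).mpr (by rw [h2, e2, sub_self]) k

lemma relsNorm_iff (a : Cx n → A) :
    (∀ p ∈ relsNorm Q, MvPolynomial.aeval a p = 0) ↔
      ∀ i : Fin n, xOf Q A a * BA Q A {i} * yOf Q A a ∈ LinearMap.range (ι (baseChangeForm A Q)) ∧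
        yOf Q A a * BA Q A {i} * xOf Q A a ∈ LinearMap.range (ι (baseChangeForm A Q)) := by
  classical
  have h1 : ∀ i, F Q (MvPolynomial.aeval a) (Uu Q * BA Q _ {i} * Vu Q) =
      xOf Q A a * BA Q A {i} * yOf Q A a := by
    intro i
    rw [map_mul, map_mul, F_Uu, F_Vu, F_BA]
  have h2 : ∀ i, F Q (MvPolynomial.aeval a) (Vu Q * BA Q _ {i} * Uu Q) =
      yOf Q A a * BA Q A {i} * xOf Q A a := by
    intro i
    rw [map_mul, map_mul, F_Uu, F_Vu, F_BA]
  constructor
  · intro h i
    constructor
    · rw [mem_range_ι_iff]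
      intro k hk
      have := h _ (Or.inl ⟨(i, k), rfl⟩)
      simp only at this
      rw [if_neg (fun ⟨j, hj⟩ => hk j hj), aeval_Φ, h1] at this
      exact this
    · rw [mem_range_ι_iff]
      intro k hk
      have := h _ (Or.inr ⟨(i, k), rfl⟩)
      simp only at this
      rw [if_neg (fun ⟨j, hj⟩ => hk j hj), aeval_Φ, h2] at this
      exact this
  · rintro h p (⟨⟨i, k⟩, rfl⟩ | ⟨⟨i, k⟩, rfl⟩)
    · simp only
      split_ifs with hk
      · exact map_zero _
      · rw [aeval_Φ, h1]
        exact (mem_range_ι_iff Q A _).mp (h i).1 k (fun j hj => hk ⟨j, hj⟩)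
    · simp only
      split_ifs with hk
      · exact map_zero _
      · rw [aeval_Φ, h2]
        exact (mem_range_ι_iff Q A _).mp (h i).2 k (fun j hj => hk ⟨j, hj⟩)

end Univ

end Groth.Agent.Lib.Helper15.CliffRep
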