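import Mathlib
import Groth.Agent.Lib.Helper15.CliffRep3

/-! A group scheme representing the naive Clifford group functor is the spectrum of the explicit
coordinate ring. -/

set_option autoImplicit false
set_option linter.style.haveILetI false

namespace Groth.Agent.Lib.Helper15.CliffRep

open CliffordAlgebra TensorProduct QuadGrp CategoryTheory AlgebraicGeometry
open Groth.Agent.Lib.Helper15.Cl
open Groth.Agent.Lib.Helper15.Rep
open Groth.Agent.Lib.Helper8.QuadCtr

universe u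

section GPin
variable {R : Type u} [CommRing R] {n : ℕ} (Q : QuadraticForm R (Fin n → R))
variable (A : Type u) [CommRing A] [Algebra R A]

lemma conj_mem_range (x y : CliffordAlgebra (baseChangeForm A Q))
    (h : ∀ i : Fin n, x * BA Q A {i} * y ∈ LinearMap.range (ι (baseChangeForm A Q)))
    (v : A ⊗[R] (Fin n → R)) :
    x * ι (baseChangeForm A Q) v * y ∈ LinearMap.range (ι (baseChangeForm A Q)) := by
  obtain ⟨c, rfl⟩ := exists_vec A v
  rw [ι_vec, Finset.mul_sum, Finset.sum_mul]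
  refine Submodule.sum_mem _ fun i _ => ?_
  rw [mul_smul_comm, smul_mul_assoc]
  exact Submodule.smul_mem _ _ (h i)

lemma mem_GPin'_iff (u : (CliffordAlgebra (baseChangeForm A Q))ˣ) :
    u ∈ GPin' (baseChangeForm A Q) ↔
      ∀ i : Fin n, (u : CliffordAlgebra (baseChangeForm A Q)) * BA Q A {i} * ↑u⁻¹ ∈
          LinearMap.range (ι (baseChangeForm A Q)) ∧
        (↑u⁻¹ : CliffordAlgebra (baseChangeForm A Q)) * BA Q A {i} * u ∈
          LinearMap.range (ι (baseChangeForm A Q)) := by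
  constructor
  · intro hu i
    constructor
    · rw [BA_singleton]
      obtain ⟨m', hm'⟩ := conj_ι_of_mem_GPin' _ u hu ((1 : A) ⊗ₜ[R] Pi.single i 1)
      exact ⟨m', hm'.symm⟩
    · rw [BA_singleton]
      obtain ⟨m', hm'⟩ := conj_ι_of_mem_GPin' _ u⁻¹ ((GPin' _).inv_mem hu)
        ((1 : A) ⊗ₜ[R] Pi.single i 1)
      rw [inv_inv] at hm'
      exact ⟨m', hm'.symm⟩
  · intro h
    apply mem_GPin'_of_conj
    · intro m
      obtain ⟨m', hm'⟩ := conj_mem_range Q A _ _ (fun i => (h i).1) m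
      exact ⟨m', hm'.symm⟩
    · intro m
      obtain ⟨m', hm'⟩ := conj_mem_range Q A _ _ (fun i => (h i).2) m
      exact ⟨m', hm'.symm⟩

/-- the coordinates of a unit and its inverse -/
noncomputable def aOf (u : (CliffordAlgebra (baseChangeForm A Q))ˣ) : Cx n → A :=
  Sum.elim (Φ Q A (u : CliffordAlgebra (baseChangeForm A Q)))
    (Φ Q A (↑u⁻¹ : CliffordAlgebra (baseChangeForm A Q)))

lemma xOf_aOf (u : (CliffordAlgebra (baseChangeForm A Q))ˣ) : xOf Q A (aOf Q A u) = u := by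
  rw [xOf, aOf, Sum.elim_comp_inl, elt_Φ]

lemma yOf_aOf (u : (CliffordAlgebra (baseChangeForm A Q))ˣ) : yOf Q A (aOf Q A u) = ↑u⁻¹ := by
  rw [yOf, aOf, Sum.elim_comp_inr, elt_Φ]

lemma rels_aOf (u : (CliffordAlgebra (baseChangeForm A Q))ˣ) (hu : u ∈ GPin' (baseChangeForm A Q)) :
    ∀ p ∈ relsGPin Q, MvPolynomial.aeval (aOf Q A u) p = 0 := by
  rintro p (hp | hp)
  · refine (relsInv_iff Q (aOf Q A u)).mpr ?_ p hp
    rw [xOf_aOf, yOf_aOf]
    exact ⟨u.mul_inv, u.inv_mul⟩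
  · refine (relsNorm_iff Q (aOf Q A u)).mpr ?_ p hp
    rw [xOf_aOf, yOf_aOf]
    exact (mem_GPin'_iff Q A u).mp hu

/-- the unit of a point -/
noncomputable def unitOf (a : Cx n → A) (ha : ∀ p ∈ relsGPin Q, MvPolynomial.aeval a p = 0) :
    (CliffordAlgebra (baseChangeForm A Q))ˣ :=
  ⟨xOf Q A a, yOf Q A a,
    ((relsInv_iff Q a).mp fun p hp => ha p (Or.inl hp)).1,
    ((relsInv_iff Q a).mp fun p hp => ha p (Or.inl hp)).2⟩

lemma unitOf_mem (a : Cx n → A) (ha : ∀ p ∈ relsGPin Q, MvPolynomial.aeval a p = 0) :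
    unitOf Q A a ha ∈ GPin' (baseChangeForm A Q) := by
  rw [mem_GPin'_iff]
  exact (relsNorm_iff Q a).mp fun p hp => ha p (Or.inr hp)

lemma aOf_unitOf (a : Cx n → A) (ha : ∀ p ∈ relsGPin Q, MvPolynomial.aeval a p = 0) :
    aOf Q A (unitOf Q A a ha) = a := by
  funext s
  rcases s with k | k
  · change Φ Q A (xOf Q A a) k = a (Sum.inl k)
    rw [xOf, Φ_elt]; rfl
  · change Φ Q A (yOf Q A a) k = a (Sum.inr k)
    rw [yOf, Φ_elt]; rfl

variable (T : ∀ (A : Type u) [CommRing A] [Algebra R A],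
    Subgroup (CliffordAlgebra (baseChangeForm A Q))ˣ)
  (hT : ∀ (A : Type u) [CommRing A] [Algebra R A], T A = GPin' (baseChangeForm A Q))

/-- points of the subgroup functor are points of the zero locus -/
noncomputable def sEquiv :
    ↥(T A) ≃ {a : Cx n → A // ∀ p ∈ relsGPin Q, MvPolynomial.aeval a p = 0} where
  toFun u := ⟨aOf Q A u.1, rels_aOf Q A u.1 (by rw [← hT A]; exact u.2)⟩
  invFun a := ⟨unitOf Q A a.1 a.2, by rw [hT A]; exact unitOf_mem Q A a.1 a.2⟩
  left_inv u := by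
    apply Subtype.ext
    apply Units.ext
    exact xOf_aOf Q A u.1
  right_inv a := by
    apply Subtype.ext
    exact aOf_unitOf Q A a.1 a.2

lemma sEquiv_coe (u : ↥(T A)) : (sEquiv Q A T hT u).1 = aOf Q A u.1 := rfl

variable {A}
variable {B : Type u} [CommRing B] [Algebra R B] (φ : A →ₐ[R] B)

lemma aOf_F (uA : (CliffordAlgebra (baseChangeForm A Q))ˣ)
    (uB : (CliffordAlgebra (baseChangeForm B Q))ˣ)
    (h : (uB : CliffordAlgebra (baseChangeForm B Q)) = F Q φ uA) :
    aOf Q B uB = φ ∘ aOf Q A uA := by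
  have hinv : (↑uB⁻¹ : CliffordAlgebra (baseChangeForm B Q)) = F Q φ ↑uA⁻¹ := by
    apply Units.inv_eq_of_mul_eq_one_right
    rw [h, ← map_mul, Units.mul_inv, map_one]
  funext s
  rcases s with k | k
  · change Φ Q B (uB : CliffordAlgebra (baseChangeForm B Q)) k = φ (Φ Q A uA k)
    rw [h, Φ_F]; rfl
  · change Φ Q B (↑uB⁻¹ : CliffordAlgebra (baseChangeForm B Q)) k = φ (Φ Q A ↑uA⁻¹ k)
    rw [hinv, Φ_F]; rfl

variable {G : Over (Spec (CommRingCat.of R))} [GrpObj G] (D : CliffRep Q T G)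

open MonObj in
/-- the points of a representing group scheme -/
noncomputable def algPts : AlgPts G (ZAlg R (relsGPin Q)) where
  pt A _ _ := ((D.pts A).toEquiv.trans (sEquiv Q A T hT)).trans ZAlg.homEquiv.symm
  nat A B _ _ _ _ φ y := by
    apply ZAlg.hom_ext
    rw [ZAlg.coord_comp]
    have hco : ∀ (C : Type u) [CommRing C] [Algebra R C]
        (a : {a : Cx n → C // ∀ p ∈ relsGPin Q, MvPolynomial.aeval a p = 0}),
        ZAlg.coord (ZAlg.homEquiv.symm a) = a.1 := fun C _ _ a => ZAlg.coord_ofPoint a.1 a.2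
    rw [Equiv.trans_apply, Equiv.trans_apply, hco, Equiv.trans_apply, Equiv.trans_apply, hco]
    change (sEquiv Q B T hT (D.pts B (specOverMap R φ ≫ y))).1 =
      ⇑φ ∘ (sEquiv Q A T hT (D.pts A y)).1
    rw [sEquiv_coe, sEquiv_coe]
    exact aOf_F Q φ _ _ (D.natural A B φ (F Q φ) (F_ι Q φ) (F_algebraMap Q φ) y)

end GPin

end Groth.Agent.Lib.Helper15.CliffRep
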