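import Mathlib
import Groth.Agent.Lib.Helper15.CliffRep4
import Groth.Agent.Lib.Helper15.ClM2

/-! Parity of the standard basis of a Clifford algebra; parity in coordinates. -/

set_option autoImplicit false
set_option linter.style.haveILetI false

namespace Groth.Agent.Lib.Helper15.CliffRep

open CliffordAlgebra TensorProduct QuadGrp
open Groth.Agent.Lib.Helper15.Cl
open Groth.Agent.Lib.Helper8.QuadCtr

universe u v

section Parity
variable {R : Type u} [CommRing R] {M : Type v} [AddCommGroup M] [Module R M]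
  (Q : QuadraticForm R M)

lemma zmod2_add_one_add_one (i : ZMod 2) : i + 1 + 1 = i := by
  revert i; decide

lemma ι_mul_mem (i : ZMod 2) (m : M) (x : CliffordAlgebra Q) (hx : x ∈ evenOdd Q i) :
    ι Q m * x ∈ evenOdd Q (i + 1) := by
  have := SetLike.mul_mem_graded (ι_mem_evenOdd_one Q m) hx
  rwa [add_comm] at this

/-- contraction shifts the parity -/
theorem contractLeft_mem_evenOdd (d : Module.Dual R M) (i : ZMod 2) (x : CliffordAlgebra Q)
    (hx : x ∈ evenOdd Q i) : contractLeft d x ∈ evenOdd Q (i + 1) := by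
  have step : ∀ (i : ZMod 2) (m₁ m₂ : M) (x : CliffordAlgebra Q), x ∈ evenOdd Q i →
      contractLeft d x ∈ evenOdd Q (i + 1) →
      contractLeft d (ι Q m₁ * ι Q m₂ * x) ∈ evenOdd Q (i + 1) := by
    intro i m₁ m₂ x hx ih
    rw [mul_assoc, contractLeft_ι_mul, contractLeft_ι_mul]
    refine Submodule.sub_mem _ (Submodule.smul_mem _ _ (ι_mul_mem Q i m₂ x hx)) ?_
    rw [mul_sub]
    refine Submodule.sub_mem _ ?_ ?_
    · rw [mul_smul_comm]
      exact Submodule.smul_mem _ _ (ι_mul_mem Q i m₁ x hx)
    · have h1 := ι_mul_mem Q _ m₁ _ (ι_mul_mem Q _ m₂ _ ih)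
      rwa [zmod2_add_one_add_one] at h1
  rcases zmod2_cases i with rfl | rfl
  · refine even_induction Q (motive := fun x _ => contractLeft d x ∈ evenOdd Q (0 + 1)) ?_ ?_ ?_ x hx
    · intro r
      rw [contractLeft_algebraMap]
      exact Submodule.zero_mem _
    · intro x y _ _ ihx ihy
      rw [map_add]; exact Submodule.add_mem _ ihx ihy
    · intro m₁ m₂ x hx ih
      exact step 0 m₁ m₂ x hx ih
  · refine odd_induction Q (P := fun x _ => contractLeft d x ∈ evenOdd Q (1 + 1)) ?_ ?_ ?_ x hx
    · intro v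
      rw [contractLeft_ι]
      change _ ∈ evenOdd Q 0
      exact SetLike.algebraMap_mem_graded (evenOdd Q) _
    · intro x y _ _ ihx ihy
      rw [map_add]; exact Submodule.add_mem _ ihx ihy
    · intro m₁ m₂ x hx ih
      exact step 1 m₁ m₂ x hx ih

variable {Q}
variable {Q' : QuadraticForm R M} {B : LinearMap.BilinForm R M}
  (h : B.toQuadraticMap = Q' - Q)

include h in
/-- changing the form preserves the parity -/
theorem changeForm_mem_evenOdd (i : ZMod 2) (x : CliffordAlgebra Q)
    (hx : x ∈ evenOdd Q i) : changeForm h x ∈ evenOdd Q' i := by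
  have step : ∀ (i : ZMod 2) (m₁ m₂ : M) (x : CliffordAlgebra Q),
      changeForm h x ∈ evenOdd Q' i → changeForm h (ι Q m₁ * ι Q m₂ * x) ∈ evenOdd Q' i := by
    intro i m₁ m₂ x ih
    have h1 : changeForm h (ι Q m₂ * x) ∈ evenOdd Q' (i + 1) := by
      rw [changeForm_ι_mul]
      exact Submodule.sub_mem _ (ι_mul_mem Q' i m₂ _ ih) (contractLeft_mem_evenOdd Q' _ i _ ih)
    rw [mul_assoc, changeForm_ι_mul]
    have h2 := ι_mul_mem Q' _ m₁ _ h1
    have h3 := contractLeft_mem_evenOdd Q' (B m₁) _ _ h1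
    rw [zmod2_add_one_add_one] at h2 h3
    exact Submodule.sub_mem _ h2 h3
  rcases zmod2_cases i with rfl | rfl
  · refine even_induction Q (motive := fun x _ => changeForm h x ∈ evenOdd Q' 0) ?_ ?_ ?_ x hx
    · intro r
      rw [changeForm_algebraMap]
      exact SetLike.algebraMap_mem_graded (evenOdd Q') _
    · intro x y _ _ ihx ihy
      rw [map_add]; exact Submodule.add_mem _ ihx ihy
    · intro m₁ m₂ x _ ih
      exact step 0 m₁ m₂ x ih
  · refine odd_induction Q (P := fun x _ => changeForm h x ∈ evenOdd Q' 1) ?_ ?_ ?_ x hx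
    · intro v
      rw [changeForm_ι]
      exact ι_mem_evenOdd_one _ _
    · intro x y _ _ ihx ihy
      rw [map_add]; exact Submodule.add_mem _ ihx ihy
    · intro m₁ m₂ x _ ih
      exact step 1 m₁ m₂ x ih

variable (Q)

lemma list_prod_mem_evenOdd (l : List (CliffordAlgebra Q)) (hl : ∀ x ∈ l, x ∈ evenOdd Q 1) :
    l.prod ∈ evenOdd Q (l.length : ZMod 2) := by
  induction l with
  | nil =>
    rw [List.prod_nil, List.length_nil, Nat.cast_zero]
    exact SetLike.one_mem_graded (evenOdd Q)
  | cons a l ih =>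
    rw [List.prod_cons, List.length_cons, Nat.cast_succ, add_comm]
    exact SetLike.mul_mem_graded (hl a (List.mem_cons_self)) (ih fun x hx => hl x (List.mem_cons_of_mem _ hx))

/-- a ring map out of a Clifford algebra sending scalars to even and vectors to odd elements is
graded -/
theorem ringHom_mem_graded {S : Type*} [Ring S] (G : ZMod 2 → AddSubgroup S)
    (hmul : ∀ i j a b, a ∈ G i → b ∈ G j → a * b ∈ G (i + j))
    (f : CliffordAlgebra Q →+* S) (hr : ∀ r, f (algebraMap R _ r) ∈ G 0)
    (hf : ∀ m, f (ι Q m) ∈ G 1) (k : ZMod 2)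
    (x : CliffordAlgebra Q) (hx : x ∈ evenOdd Q k) : f x ∈ G k := by
  have h2 : ∀ m₁ m₂, f (ι Q m₁) * f (ι Q m₂) ∈ G 0 := fun m₁ m₂ => by
    have := hmul 1 1 _ _ (hf m₁) (hf m₂)
    rwa [show (1 : ZMod 2) + 1 = 0 from rfl] at this
  rcases zmod2_cases k with rfl | rfl
  · refine even_induction Q (motive := fun x _ => f x ∈ G 0) ?_ ?_ ?_ x hx
    · intro r
      exact hr r
    · intro x y hx hy ihx ihy
      rw [map_add]; exact (G 0).add_mem ihx ihy
    · intro m₁ m₂ x hx ih
      rw [map_mul, map_mul]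
      have := hmul 0 0 _ _ (h2 m₁ m₂) ih
      rwa [zero_add] at this
  · refine odd_induction Q (P := fun x _ => f x ∈ G 1) ?_ ?_ ?_ x hx
    · intro v; exact hf v
    · intro x y hx hy ihx ihy
      rw [map_add]; exact (G 1).add_mem ihx ihy
    · intro m₁ m₂ x hx ih
      rw [map_mul, map_mul]
      have := hmul 0 1 _ _ (h2 m₁ m₂) ih
      rwa [zero_add] at this

end Parity

end Groth.Agent.Lib.Helper15.CliffRep

namespace Groth.Agent.Lib.Helper15.CliffRep

open CliffordAlgebra TensorProduct QuadGrp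
open Groth.Agent.Lib.Helper15.Cl
open Groth.Agent.Lib.Helper8.QuadCtr

universe u

section BasisParity
variable {R : Type u} [CommRing R] {n : ℕ} (Q : QuadraticForm R (Fin n → R))

lemma extBasis_mem {M I : Type*} [AddCommGroup M] [Module R M] [LinearOrder I]
    (b : Module.Basis I R M) (k : Finset I) :
    b.ExteriorAlgebra k ∈ evenOdd (0 : QuadraticForm R M) (k.card : ZMod 2) := by
  rw [ExteriorAlgebra.basis_apply_ofCard b (rfl : k.card = k.card)]
  rw [ExteriorAlgebra.ιMulti_family, ExteriorAlgebra.ιMulti_apply]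
  have := list_prod_mem_evenOdd (0 : QuadraticForm R M)
    (List.ofFn fun i => ExteriorAlgebra.ι R
      (b ((Set.powersetCard.ofFinEmbEquiv.symm (Set.powersetCard.ofCard (rfl : k.card = k.card))) i)))
    (by
      intro x hx
      rw [List.mem_ofFn] at hx
      obtain ⟨i, rfl⟩ := hx
      exact ι_mem_evenOdd_one _ _)
  rw [List.length_ofFn] at this
  exact this

lemma cB_mem (k : Finset (Fin n)) : cB Q k ∈ evenOdd Q (k.card : ZMod 2) := by
  haveI : Module.Free R (Fin n → R) := Module.Free.of_basis (Pi.basisFun R (Fin n))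
  rw [cB, basisC, Module.Basis.map_apply]
  exact changeForm_mem_evenOdd (changeForm.neg_proof (exists_neg_bilin Q).choose_spec) _ _
    (extBasis_mem _ k)

end BasisParity

end Groth.Agent.Lib.Helper15.CliffRep

namespace Groth.Agent.Lib.Helper15.CliffRep

open CliffordAlgebra TensorProduct QuadGrp
open Groth.Agent.Lib.Helper15.Cl
open Groth.Agent.Lib.Helper8.QuadCtr

universe u

section CoordParity
variable {R : Type u} [CommRing R] {n : ℕ} (Q : QuadraticForm R (Fin n → R))
variable (A : Type u) [CommRing A] [Algebra R A]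

lemma BA_mem (k : Finset (Fin n)) :
    BA Q A k ∈ evenOdd (baseChangeForm A Q) (k.card : ZMod 2) := by
  rw [BA_apply]
  exact jj_mem_evenOdd Q _ (gA A) (hgA Q A) _ _ (cB_mem Q k)

/-- mask a coordinate vector by parity -/
def maskP (i : ZMod 2) (a : Finset (Fin n) → A) : Finset (Fin n) → A :=
  fun k => if (k.card : ZMod 2) = i then a k else 0

lemma elt_maskP_mem (i : ZMod 2) (a : Finset (Fin n) → A) :
    elt Q A (maskP A i a) ∈ evenOdd (baseChangeForm A Q) i := by
  rw [elt]
  refine Submodule.sum_mem _ fun k _ => ?_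
  by_cases h : (k.card : ZMod 2) = i
  · rw [maskP, if_pos h]
    exact Submodule.smul_mem _ _ (h ▸ BA_mem Q A k)
  · rw [maskP, if_neg h, zero_smul]
    exact Submodule.zero_mem _

lemma maskP_add (a : Finset (Fin n) → A) : maskP A 0 a + maskP A 1 a = a := by
  funext k
  rw [Pi.add_apply, maskP, maskP]
  rcases zmod2_cases (k.card : ZMod 2) with h | h
  · rw [if_pos h, if_neg (by rw [h]; decide), add_zero]
  · rw [if_neg (by rw [h]; decide), if_pos h, zero_add]

lemma elt_add (a b : Finset (Fin n) → A) : elt Q A (a + b) = elt Q A a + elt Q A b := by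
  rw [elt, elt, elt, ← Finset.sum_add_distrib]
  refine Finset.sum_congr rfl fun k _ => ?_
  rw [Pi.add_apply, add_smul]

lemma disjoint_evenOdd (i : ZMod 2) (z : CliffordAlgebra (baseChangeForm A Q))
    (h0 : z ∈ evenOdd (baseChangeForm A Q) i) (h1 : z ∈ evenOdd (baseChangeForm A Q) (i + 1)) :
    z = 0 := by
  have hd := (evenOdd_isCompl (baseChangeForm A Q)).disjoint
  rw [Submodule.disjoint_def] at hd
  rcases zmod2_cases i with rfl | rfl
  · exact hd z h0 h1
  · exact hd z h1 h0

/-- parity in coordinates -/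
theorem mem_evenOdd_iff_Φ (i : ZMod 2) (z : CliffordAlgebra (baseChangeForm A Q)) :
    z ∈ evenOdd (baseChangeForm A Q) i ↔ ∀ k : Finset (Fin n), (k.card : ZMod 2) = i + 1 →
      Φ Q A z k = 0 := by
  have hz : z = elt Q A (maskP A i (Φ Q A z)) + elt Q A (maskP A (i + 1) (Φ Q A z)) := by
    rw [← elt_add]
    conv_lhs => rw [← elt_Φ Q A z]
    congr 1
    rcases zmod2_cases i with rfl | rfl
    · exact (maskP_add A _).symm
    · rw [add_comm]; exact (maskP_add A _).symm
  constructor
  · intro h k hk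
    have h2 : elt Q A (maskP A (i + 1) (Φ Q A z)) ∈ evenOdd (baseChangeForm A Q) i := by
      have : elt Q A (maskP A (i + 1) (Φ Q A z)) = z - elt Q A (maskP A i (Φ Q A z)) := by
        rw [eq_sub_iff_add_eq, add_comm]; exact hz.symm
      rw [this]
      exact Submodule.sub_mem _ h (elt_maskP_mem Q A i _)
    have h3 := disjoint_evenOdd Q A i _ h2 (elt_maskP_mem Q A (i + 1) _)
    have h4 := congrFun (congrArg (Φ Q A) h3) k
    rw [Φ_elt, Φ_zero, Pi.zero_apply, maskP, if_pos hk] at h4
    exact h4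
  · intro h
    have h2 : maskP A (i + 1) (Φ Q A z) = 0 := by
      funext k
      rw [maskP, Pi.zero_apply]
      split_ifs with hk
      · exact h k hk
      · rfl
    rw [hz, h2]
    have : elt Q A (0 : Finset (Fin n) → A) = 0 := by
      rw [elt]; simp
    rw [this, add_zero]
    exact elt_maskP_mem Q A i _

variable {A}
variable {B : Type u} [CommRing B] [Algebra R B] (φ : A →ₐ[R] B)

/-- the transition maps are graded -/
theorem F_mem_evenOdd (i : ZMod 2) (z : CliffordAlgebra (baseChangeForm A Q))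
    (hz : z ∈ evenOdd (baseChangeForm A Q) i) : F Q φ z ∈ evenOdd (baseChangeForm B Q) i := by
  rw [mem_evenOdd_iff_Φ] at hz ⊢
  intro k hk
  rw [Φ_F, Function.comp_apply, hz k hk, map_zero]

end CoordParity

end Groth.Agent.Lib.Helper15.CliffRep
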