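import Mathlib
import Groth.Agent.Lib.Helper15.CliffOdd1

/-! Subgroup functors of the naive Clifford group cut out by local homogeneity and further
equations are represented by explicit coordinate rings. -/

set_option autoImplicit false
set_option linter.style.haveILetI false

namespace Groth.Agent.Lib.Helper15.CliffRep

open CliffordAlgebra TensorProduct QuadGrp CategoryTheory AlgebraicGeometry
open Groth.Agent.Lib.Helper15.Cl
open Groth.Agent.Lib.Helper15.Rep
open Groth.Agent.Lib.Helper8.QuadCtr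

universe u

/-- coordinates of a unit, its inverse, and an idempotent -/
abbrev Cy (n : ℕ) : Type := Cx n ⊕ Unit

section LH
variable {R : Type u} [CommRing R] {n : ℕ} (Q : QuadraticForm R (Fin n → R))

/-- the idempotent variable -/
noncomputable def Ev : MvPolynomial (Cy n) R := MvPolynomial.X (Sum.inr ())

/-- the coordinate variables of the unit -/
noncomputable def Xv (k : Finset (Fin n)) : MvPolynomial (Cy n) R :=
  MvPolynomial.X (Sum.inl (Sum.inl k))

variable (R n) in
/-- the relations of local homogeneity -/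
noncomputable def relsLH : Set (MvPolynomial (Cy n) R) :=
  {Ev * Ev - Ev} ∪ Set.range (fun k : Finset (Fin n) =>
    if (k.card : ZMod 2) = 1 then Ev * Xv k else (1 - Ev) * Xv k)

lemma relsLH_finite : (relsLH R n).Finite :=
  (Set.finite_singleton _).union (Set.finite_range _)

/-- the relations of the Clifford group -/
noncomputable def relsGPinLH : Set (MvPolynomial (Cy n) R) :=
  (MvPolynomial.rename Sum.inl) '' relsGPin Q ∪ relsLH R n

lemma relsGPinLH_finite : (relsGPinLH Q).Finite :=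
  ((relsGPin_finite Q).image _).union relsLH_finite

variable (A : Type u) [CommRing A] [Algebra R A]

lemma Φ_smul (c : A) (z : CliffordAlgebra (baseChangeForm A Q)) :
    Φ Q A (c • z) = c • Φ Q A z := map_smul (BA Q A).equivFun c z

lemma relsLH_iff (a : Cy n → A) :
    (∀ p ∈ relsLH R n, MvPolynomial.aeval a p = 0) ↔
      a (Sum.inr ()) * a (Sum.inr ()) = a (Sum.inr ()) ∧
      a (Sum.inr ()) • xOf Q A (a ∘ Sum.inl) ∈ evenOdd (baseChangeForm A Q) 0 ∧
      (1 - a (Sum.inr ())) • xOf Q A (a ∘ Sum.inl) ∈ evenOdd (baseChangeForm A Q) 1 := by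
  have hΦ : ∀ k, Φ Q A (xOf Q A (a ∘ Sum.inl)) k = a (Sum.inl (Sum.inl k)) := by
    intro k
    rw [xOf, Φ_elt]; rfl
  rw [mem_evenOdd_iff_Φ, mem_evenOdd_iff_Φ]
  constructor
  · intro h
    refine ⟨?_, ?_, ?_⟩
    · have := h _ (Or.inl rfl)
      rw [map_sub, map_mul, Ev, MvPolynomial.aeval_X, sub_eq_zero] at this
      exact this
    · intro k hk
      rw [zero_add] at hk
      have := h _ (Or.inr ⟨k, rfl⟩)
      simp only at this
      rw [if_pos hk, map_mul, Ev, Xv, MvPolynomial.aeval_X, MvPolynomial.aeval_X] at this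
      rw [Φ_smul, Pi.smul_apply, hΦ, smul_eq_mul]
      exact this
    · intro k hk
      have hk' : ¬ (k.card : ZMod 2) = 1 := by rw [hk]; decide
      have := h _ (Or.inr ⟨k, rfl⟩)
      simp only at this
      rw [if_neg hk', map_mul, map_sub, map_one, Ev, Xv, MvPolynomial.aeval_X,
        MvPolynomial.aeval_X] at this
      rw [Φ_smul, Pi.smul_apply, hΦ, smul_eq_mul]
      exact this
  · rintro ⟨h1, h2, h3⟩ p (hp | ⟨k, rfl⟩)
    · rw [Set.mem_singleton_iff] at hp
      subst hp
      rw [map_sub, map_mul, Ev, MvPolynomial.aeval_X, sub_eq_zero]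
      exact h1
    · simp only
      split_ifs with hk
      · have := h2 k (by rw [zero_add]; exact hk)
        rw [Φ_smul, Pi.smul_apply, hΦ, smul_eq_mul] at this
        rw [map_mul, Ev, Xv, MvPolynomial.aeval_X, MvPolynomial.aeval_X]
        exact this
      · have hk0 : (k.card : ZMod 2) = 1 + 1 := by
          rcases zmod2_cases (k.card : ZMod 2) with h | h
          · rw [h]; rfl
          · exact absurd h hk
        have := h3 k hk0
        rw [Φ_smul, Pi.smul_apply, hΦ, smul_eq_mul] at this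
        rw [map_mul, map_sub, map_one, Ev, Xv, MvPolynomial.aeval_X, MvPolynomial.aeval_X]
        exact this

/-- the point of a unit and an idempotent -/
noncomputable def ptOfLH (u : (CliffordAlgebra (baseChangeForm A Q))ˣ) (e : A) : Cy n → A :=
  Sum.elim (aOf Q A u) (fun _ => e)

lemma ptOfLH_inl (u : (CliffordAlgebra (baseChangeForm A Q))ˣ) (e : A) :
    ptOfLH Q A u e ∘ Sum.inl = aOf Q A u := rfl

lemma ptOfLH_inr (u : (CliffordAlgebra (baseChangeForm A Q))ˣ) (e : A) :
    ptOfLH Q A u e (Sum.inr ()) = e := rfl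

lemma relsLH_ptOfLH_iff (u : (CliffordAlgebra (baseChangeForm A Q))ˣ) (e : A) :
    (∀ p ∈ relsLH R n, MvPolynomial.aeval (ptOfLH Q A u e) p = 0) ↔
      e * e = e ∧ e • (u : CliffordAlgebra (baseChangeForm A Q)) ∈ evenOdd (baseChangeForm A Q) 0 ∧
      (1 - e) • (u : CliffordAlgebra (baseChangeForm A Q)) ∈ evenOdd (baseChangeForm A Q) 1 := by
  rw [relsLH_iff Q A, ptOfLH_inl, ptOfLH_inr, xOf_aOf]

/-- the idempotent of a locally homogeneous unit is unique -/
lemma idem_unique (u : (CliffordAlgebra (baseChangeForm A Q))ˣ) (e e' : A)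
    (h0 : e • (u : CliffordAlgebra (baseChangeForm A Q)) ∈ evenOdd (baseChangeForm A Q) 0)
    (h1 : (1 - e) • (u : CliffordAlgebra (baseChangeForm A Q)) ∈ evenOdd (baseChangeForm A Q) 1)
    (h0' : e' • (u : CliffordAlgebra (baseChangeForm A Q)) ∈ evenOdd (baseChangeForm A Q) 0)
    (h1' : (1 - e') • (u : CliffordAlgebra (baseChangeForm A Q)) ∈
      evenOdd (baseChangeForm A Q) 1) : e = e' := by
  have k0 : (e - e') • (u : CliffordAlgebra (baseChangeForm A Q)) ∈
      evenOdd (baseChangeForm A Q) 0 := by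
    rw [sub_smul]; exact Submodule.sub_mem _ h0 h0'
  have k1 : (e - e') • (u : CliffordAlgebra (baseChangeForm A Q)) ∈
      evenOdd (baseChangeForm A Q) (0 + 1) := by
    have : (e - e') • (u : CliffordAlgebra (baseChangeForm A Q)) =
        (1 - e') • (u : CliffordAlgebra (baseChangeForm A Q)) - (1 - e) • ↑u := by
      rw [← sub_smul]; congr 1; ring
    rw [this, zero_add]; exact Submodule.sub_mem _ h1' h1
  have hz := disjoint_evenOdd Q A 0 _ k0 k1
  have h2 : algebraMap A (CliffordAlgebra (baseChangeForm A Q)) (e - e') = 0 := by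
    rw [Algebra.algebraMap_eq_smul_one, ← Units.mul_inv u, ← smul_mul_assoc, hz, zero_mul]
  have h3 : Φ Q A (algebraMap A (CliffordAlgebra (baseChangeForm A Q)) (e - e')) ∅ = e - e' := by
    have h1' : (1 : CliffordAlgebra (baseChangeForm A Q)) = BA Q A ∅ := by
      rw [BA_apply]
      have : cB Q ∅ = 1 := by
        haveI : Module.Free R (Fin n → R) := Module.Free.of_basis (Pi.basisFun R (Fin n))
        rw [cB, basisC, Module.Basis.map_apply, LinearEquiv.symm_apply_eq, toExt_one]
        rw [ExteriorAlgebra.basis_apply_ofCard _ (Finset.card_empty)]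
        rw [ExteriorAlgebra.ιMulti_family, ExteriorAlgebra.ιMulti_apply]
        simp
      rw [this, map_one]
    rw [Algebra.algebraMap_eq_smul_one, Φ_smul, Pi.smul_apply, h1', Φ, Module.Basis.equivFun_self,
      if_pos rfl, smul_eq_mul, mul_one]
  rw [h2, Φ_zero, Pi.zero_apply] at h3
  exact sub_eq_zero.mp h3.symm

end LH

end Groth.Agent.Lib.Helper15.CliffRep

namespace Groth.Agent.Lib.Helper15.CliffRep

open CliffordAlgebra TensorProduct QuadGrp CategoryTheory AlgebraicGeometry
open Groth.Agent.Lib.Helper15.Cl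
open Groth.Agent.Lib.Helper15.Rep
open Groth.Agent.Lib.Helper8.QuadCtr

universe u

section Rep
variable {R : Type u} [CommRing R] {n : ℕ} (Q : QuadraticForm R (Fin n → R))
variable (rels : Set (MvPolynomial (Cy n) R)) (hrels : relsGPinLH Q ⊆ rels)
variable (T : ∀ (A : Type u) [CommRing A] [Algebra R A],
    Subgroup (CliffordAlgebra (baseChangeForm A Q))ˣ)
  (hT : ∀ (A : Type u) [CommRing A] [Algebra R A]
    (u : (CliffordAlgebra (baseChangeForm A Q))ˣ),
    u ∈ T A ↔ ∃ e : A, ∀ p ∈ rels, MvPolynomial.aeval (ptOfLH Q A u e) p = 0)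
variable (A : Type u) [CommRing A] [Algebra R A]

include hrels in
lemma rels_inl (a : Cy n → A) (ha : ∀ p ∈ rels, MvPolynomial.aeval a p = 0) :
    ∀ p ∈ relsGPin Q, MvPolynomial.aeval (a ∘ Sum.inl) p = 0 := by
  intro p hp
  rw [← MvPolynomial.aeval_rename]
  exact ha _ (hrels (Or.inl ⟨p, hp, rfl⟩))

include hrels in
lemma rels_LH (a : Cy n → A) (ha : ∀ p ∈ rels, MvPolynomial.aeval a p = 0) :
    ∀ p ∈ relsLH R n, MvPolynomial.aeval a p = 0 := fun p hp => ha p (hrels (Or.inr hp))

/-- the idempotent of a point of the subgroup functor -/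
noncomputable def idemOf (u : ↥(T A)) : A := ((hT A u.1).mp u.2).choose

lemma idemOf_spec (u : ↥(T A)) :
    ∀ p ∈ rels, MvPolynomial.aeval (ptOfLH Q A u.1 (idemOf Q rels T hT A u)) p = 0 :=
  ((hT A u.1).mp u.2).choose_spec

lemma ptOfLH_unitOf (a : Cy n → A)
    (ha : ∀ p ∈ relsGPin Q, MvPolynomial.aeval (a ∘ Sum.inl) p = 0) :
    ptOfLH Q A (unitOf Q A (a ∘ Sum.inl) ha) (a (Sum.inr ())) = a := by
  funext s
  rcases s with s | ⟨⟩
  · change aOf Q A (unitOf Q A (a ∘ Sum.inl) ha) s = a (Sum.inl s)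
    rw [aOf_unitOf]; rfl
  · rfl

include hrels in
lemma idemOf_eq (u : ↥(T A)) (e : A)
    (he : ∀ p ∈ rels, MvPolynomial.aeval (ptOfLH Q A u.1 e) p = 0) :
    idemOf Q rels T hT A u = e := by
  have h1 := (relsLH_ptOfLH_iff Q A u.1 _).mp
    (rels_LH Q rels hrels A _ (idemOf_spec Q rels T hT A u))
  have h2 := (relsLH_ptOfLH_iff Q A u.1 e).mp (rels_LH Q rels hrels A _ he)
  exact idem_unique Q A u.1 _ _ h1.2.1 h1.2.2 h2.2.1 h2.2.2

/-- points of the subgroup functor are points of the zero locus -/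
noncomputable def sEquivLH :
    ↥(T A) ≃ {a : Cy n → A // ∀ p ∈ rels, MvPolynomial.aeval a p = 0} where
  toFun u := ⟨ptOfLH Q A u.1 (idemOf Q rels T hT A u), idemOf_spec Q rels T hT A u⟩
  invFun a := ⟨unitOf Q A (a.1 ∘ Sum.inl) (rels_inl Q rels hrels A a.1 a.2),
    (hT A _).mpr ⟨a.1 (Sum.inr ()), by rw [ptOfLH_unitOf]; exact a.2⟩⟩
  left_inv u := by
    apply Subtype.ext
    apply Units.ext
    exact xOf_aOf Q A u.1
  right_inv a := by
    apply Subtype.ext
    change ptOfLH Q A (unitOf Q A (a.1 ∘ Sum.inl) (rels_inl Q rels hrels A a.1 a.2))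
      (idemOf Q rels T hT A ⟨unitOf Q A (a.1 ∘ Sum.inl) (rels_inl Q rels hrels A a.1 a.2), _⟩) = a.1
    rw [idemOf_eq Q rels hrels T hT A _ (a.1 (Sum.inr ()))
      (by rw [ptOfLH_unitOf]; exact a.2), ptOfLH_unitOf]

lemma sEquivLH_coe (u : ↥(T A)) :
    (sEquivLH Q rels hrels T hT A u).1 = ptOfLH Q A u.1 (idemOf Q rels T hT A u) := rfl

variable {A}
variable {B : Type u} [CommRing B] [Algebra R B] (φ : A →ₐ[R] B)

include hrels in
lemma sEquivLH_nat (uA : ↥(T A)) (uB : ↥(T B))
    (h : (uB.1 : CliffordAlgebra (baseChangeForm B Q)) = F Q φ uA.1) :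
    (sEquivLH Q rels hrels T hT B uB).1 = φ ∘ (sEquivLH Q rels hrels T hT A uA).1 := by
  have hA := (relsLH_ptOfLH_iff Q A uA.1 _).mp
    (rels_LH Q rels hrels A _ (idemOf_spec Q rels T hT A uA))
  have hB := (relsLH_ptOfLH_iff Q B uB.1 _).mp
    (rels_LH Q rels hrels B _ (idemOf_spec Q rels T hT B uB))
  have hid : idemOf Q rels T hT B uB = φ (idemOf Q rels T hT A uA) := by
    refine idem_unique Q B uB.1 _ _ hB.2.1 hB.2.2 ?_ ?_
    · rw [h, ← F_smul]
      exact F_mem_evenOdd Q φ 0 _ hA.2.1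
    · rw [h, ← map_one φ, ← map_sub, ← F_smul]
      exact F_mem_evenOdd Q φ 1 _ hA.2.2
  rw [sEquivLH_coe, sEquivLH_coe]
  funext s
  rcases s with s | ⟨⟩
  · change aOf Q B uB.1 s = φ (aOf Q A uA.1 s)
    rw [aOf_F Q φ uA.1 uB.1 h]; rfl
  · exact hid

variable {G : Over (Spec (CommRingCat.of R))} [GrpObj G] (D : CliffRep Q T G)

open MonObj in
/-- the points of a representing group scheme -/
noncomputable def algPtsLH : AlgPts G (ZAlg R rels) where
  pt A _ _ := ((D.pts A).toEquiv.trans (sEquivLH Q rels hrels T hT A)).trans ZAlg.homEquiv.symm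
  nat A B _ _ _ _ φ y := by
    apply ZAlg.hom_ext
    rw [ZAlg.coord_comp]
    have hco : ∀ (C : Type u) [CommRing C] [Algebra R C]
        (a : {a : Cy n → C // ∀ p ∈ rels, MvPolynomial.aeval a p = 0}),
        ZAlg.coord (ZAlg.homEquiv.symm a) = a.1 := fun C _ _ a => ZAlg.coord_ofPoint a.1 a.2
    rw [Equiv.trans_apply, Equiv.trans_apply, hco, Equiv.trans_apply, Equiv.trans_apply, hco]
    exact sEquivLH_nat Q rels hrels T hT φ _ _
      (D.natural A B φ (F Q φ) (F_ι Q φ) (F_algebraMap Q φ) y)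

end Rep

end Groth.Agent.Lib.Helper15.CliffRep
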