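import Mathlib
import Groth.Agent.Lib.Helper15.CliffOdd2
import Groth.Agent.Lib.Helper15.ClCen

/-! Locally homogeneous units: conjugation is graded; a unit inducing a Clifford map on the even
part normalises the vectors (odd rank); homogeneous parts. -/

set_option autoImplicit false
set_option linter.style.haveILetI false

namespace Groth.Agent.Lib.Helper15.CliffRep

open CliffordAlgebra TensorProduct QuadGrp
open Groth.Agent.Lib.Helper15.Cl
open Groth.Agent.Lib.Helper8.QuadCtr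

universe u v

section General
variable {R : Type u} [CommRing R] {M : Type v} [AddCommGroup M] [Module R M]
  (Q : QuadraticForm R M)

/-- conjugation by a locally homogeneous unit is graded -/
theorem conj_mem_evenOdd_of_locHomog (u : (CliffordAlgebra Q)ˣ) (e : R) (he : e * e = e)
    (h0 : e • (u : CliffordAlgebra Q) ∈ evenOdd Q 0)
    (h1 : (1 - e) • (u : CliffordAlgebra Q) ∈ evenOdd Q 1) (i : ZMod 2)
    (w : CliffordAlgebra Q) (hw : w ∈ evenOdd Q i) :
    (↑u⁻¹ : CliffordAlgebra Q) * w * u ∈ evenOdd Q i := by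
  obtain ⟨k0, k1⟩ := isLocHomog_inv_aux Q u e h0 h1
  have hsplit : (↑u⁻¹ : CliffordAlgebra Q) * w * u =
      (e • (↑u⁻¹ : CliffordAlgebra Q)) * w * (e • (u : CliffordAlgebra Q)) +
        ((1 - e) • (↑u⁻¹ : CliffordAlgebra Q)) * w * ((1 - e) • (u : CliffordAlgebra Q)) := by
    simp only [smul_mul_assoc, mul_smul_comm, smul_smul]
    rw [← add_smul]
    have : e * e + (1 - e) * (1 - e) = 1 := by linear_combination 2 * he
    rw [this, one_smul]
  rw [hsplit]
  refine Submodule.add_mem _ ?_ ?_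
  · have := SetLike.mul_mem_graded (SetLike.mul_mem_graded k0 hw) h0
    rwa [zero_add, add_zero] at this
  · have := SetLike.mul_mem_graded (SetLike.mul_mem_graded k1 hw) h1
    have h2 : (1 : ZMod 2) + i + 1 = i := by
      rw [add_comm 1 i]; exact zmod2_add_one_add_one i
    rwa [h2] at this

/-- a unit whose conjugation agrees on the even part with a graded automorphism mapping vectors
to vectors normalises the vectors, when there are enough odd central elements -/
theorem conj_ι_of_even_conj (u : (CliffordAlgebra Q)ˣ)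
    (Γ : CliffordAlgebra Q ≃ₐ[R] CliffordAlgebra Q) (s : M → M)
    (hΓι : ∀ v, Γ (ι Q v) = ι Q (s v))
    (hΓpar : ∀ x, x ∈ evenOdd Q 1 → Γ x ∈ evenOdd Q 1)
    (hconj : ∀ a ∈ evenOdd Q 0, (u : CliffordAlgebra Q) * a * ↑u⁻¹ = Γ a)
    {N : ℕ} (c : Fin N → R) (z w : Fin N → CliffordAlgebra Q)
    (hz : ∀ i, z i ∈ Subalgebra.center R (CliffordAlgebra Q) ∧ z i ∈ evenOdd Q 1)
    (hw : ∀ i, w i ∈ Subalgebra.center R (CliffordAlgebra Q) ∧ w i ∈ evenOdd Q 1)
    (hsum : ∑ i, c i • (z i * w i) = 1)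
    (hcen : ∀ x ∈ Subalgebra.center R (CliffordAlgebra Q), x ∈ evenOdd Q 0 →
      x ∈ (algebraMap R (CliffordAlgebra Q)).range)
    (v : M) : ∃ v' : M, (u : CliffordAlgebra Q) * ι Q v * ↑u⁻¹ = ι Q v' := by
  obtain ⟨X, hX⟩ : ∃ X, X = (u : CliffordAlgebra Q) * ι Q v * ↑u⁻¹ := ⟨_, rfl⟩
  have hXz : ∀ i, X * z i = ι Q (s v) * Γ (z i) := by
    intro i
    have hcomm : (↑u⁻¹ : CliffordAlgebra Q) * z i = z i * ↑u⁻¹ :=
      (Subalgebra.mem_center_iff.mp (hz i).1) _
    have hev : ι Q v * z i ∈ evenOdd Q 0 := by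
      have := SetLike.mul_mem_graded (ι_mem_evenOdd_one Q v) (hz i).2
      rwa [show (1 : ZMod 2) + 1 = 0 from rfl] at this
    rw [hX, mul_assoc, hcomm, ← mul_assoc, mul_assoc (u : CliffordAlgebra Q), hconj _ hev,
      map_mul, hΓι]
  obtain ⟨κ, hκ⟩ : ∃ κ, κ = ∑ i, c i • (Γ (z i) * w i) := ⟨_, rfl⟩
  have hΓcen : ∀ i, Γ (z i) ∈ Subalgebra.center R (CliffordAlgebra Q) := by
    intro i
    rw [Subalgebra.mem_center_iff]
    intro b
    obtain ⟨b', rfl⟩ := Γ.surjective b
    rw [← map_mul, ← map_mul, (Subalgebra.mem_center_iff.mp (hz i).1) b']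
  have hκcen : κ ∈ Subalgebra.center R (CliffordAlgebra Q) := by
    rw [hκ]
    refine Subalgebra.sum_mem _ fun i _ => Subalgebra.smul_mem _ ?_ _
    exact Subalgebra.mul_mem _ (hΓcen i) (hw i).1
  have hκev : κ ∈ evenOdd Q 0 := by
    rw [hκ]
    refine Submodule.sum_mem _ fun i _ => Submodule.smul_mem _ _ ?_
    have := SetLike.mul_mem_graded (hΓpar _ (hz i).2) (hw i).2
    rwa [show (1 : ZMod 2) + 1 = 0 from rfl] at this
  obtain ⟨r, hr⟩ := hcen κ hκcen hκev
  refine ⟨r • s v, ?_⟩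
  rw [← hX]
  calc X = X * ∑ i, c i • (z i * w i) := by rw [hsum, mul_one]
    _ = ∑ i, c i • (X * z i * w i) := by
      rw [Finset.mul_sum]
      refine Finset.sum_congr rfl fun i _ => ?_
      rw [mul_smul_comm, mul_assoc]
    _ = ∑ i, c i • (ι Q (s v) * Γ (z i) * w i) := by
      refine Finset.sum_congr rfl fun i _ => ?_
      rw [hXz]
    _ = ι Q (s v) * κ := by
      rw [hκ, Finset.mul_sum]
      refine Finset.sum_congr rfl fun i _ => ?_
      rw [mul_smul_comm, mul_assoc]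
    _ = ι Q (r • s v) := by
      rw [← hr, ← Algebra.commutes, ← Algebra.smul_def, map_smul]

end General

end Groth.Agent.Lib.Helper15.CliffRep

namespace Groth.Agent.Lib.Helper15.CliffRep

open CliffordAlgebra TensorProduct QuadGrp
open Groth.Agent.Lib.Helper15.Cl
open Groth.Agent.Lib.Helper8.QuadCtr

universe u

section Homog
variable {R : Type u} [CommRing R] {n : ℕ} (Q : QuadraticForm R (Fin n → R))
variable (A : Type u) [CommRing A] [Algebra R A]

/-- the `e`-homogeneous part of an element -/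
noncomputable def hPart (e : A) (z : CliffordAlgebra (baseChangeForm A Q)) :
    CliffordAlgebra (baseChangeForm A Q) :=
  e • elt Q A (maskP A 0 (Φ Q A z)) + (1 - e) • elt Q A (maskP A 1 (Φ Q A z))

lemma hPart_even (e : A) (he : e * e = e) (z : CliffordAlgebra (baseChangeForm A Q)) :
    e • hPart Q A e z ∈ evenOdd (baseChangeForm A Q) 0 := by
  have h0 : e * (1 - e) = 0 := by linear_combination -he
  rw [hPart, smul_add, smul_smul, smul_smul, he, h0, zero_smul, add_zero]
  exact Submodule.smul_mem _ _ (elt_maskP_mem Q A 0 _)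

lemma hPart_odd (e : A) (he : e * e = e) (z : CliffordAlgebra (baseChangeForm A Q)) :
    (1 - e) • hPart Q A e z ∈ evenOdd (baseChangeForm A Q) 1 := by
  have h0 : (1 - e) * e = 0 := by linear_combination -he
  have h1 : (1 - e) * (1 - e) = 1 - e := by linear_combination he
  rw [hPart, smul_add, smul_smul, smul_smul, h0, h1, zero_smul, zero_add]
  exact Submodule.smul_mem _ _ (elt_maskP_mem Q A 1 _)

lemma hPart_eq (e : A) (z : CliffordAlgebra (baseChangeForm A Q))
    (h0 : e • z ∈ evenOdd (baseChangeForm A Q) 0)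
    (h1 : (1 - e) • z ∈ evenOdd (baseChangeForm A Q) 1) : hPart Q A e z = z := by
  obtain ⟨w₀, hw₀⟩ : ∃ w₀, w₀ = elt Q A (maskP A 0 (Φ Q A z)) := ⟨_, rfl⟩
  obtain ⟨w₁, hw₁⟩ : ∃ w₁, w₁ = elt Q A (maskP A 1 (Φ Q A z)) := ⟨_, rfl⟩
  have hm₀ : w₀ ∈ evenOdd (baseChangeForm A Q) 0 := hw₀ ▸ elt_maskP_mem Q A 0 _
  have hm₁ : w₁ ∈ evenOdd (baseChangeForm A Q) 1 := hw₁ ▸ elt_maskP_mem Q A 1 _
  have hz : z = w₀ + w₁ := by
    rw [hw₀, hw₁, ← elt_add, maskP_add, elt_Φ]
  have e1 : e • w₁ = 0 := by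
    refine disjoint_evenOdd Q A 0 _ ?_ ?_
    · have : e • w₁ = e • z - e • w₀ := by rw [hz, smul_add]; abel
      rw [this]
      exact Submodule.sub_mem _ h0 (Submodule.smul_mem _ _ hm₀)
    · rw [zero_add]; exact Submodule.smul_mem _ _ hm₁
  have e2 : (1 - e) • w₀ = 0 := by
    refine disjoint_evenOdd Q A 0 _ (Submodule.smul_mem _ _ hm₀) ?_
    have : (1 - e) • w₀ = (1 - e) • z - (1 - e) • w₁ := by rw [hz, smul_add]; abel
    rw [this, zero_add]
    exact Submodule.sub_mem _ h1 (Submodule.smul_mem _ _ hm₁)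
  rw [hPart, ← hw₀, ← hw₁, hz]
  have e3 : e • w₀ = w₀ := by
    have : e • w₀ = w₀ - (1 - e) • w₀ := by rw [sub_smul, one_smul]; abel
    rw [this, e2, sub_zero]
  have e4 : (1 - e) • w₁ = w₁ := by
    rw [sub_smul, one_smul, e1, sub_zero]
  rw [e3, e4]

variable {A}
variable {B : Type u} [CommRing B] [Algebra R B] (φ : A →ₐ[R] B)

lemma comp_maskP (i : ZMod 2) (a : Finset (Fin n) → A) :
    φ ∘ maskP A i a = maskP B i (φ ∘ a) := by
  funext k
  rw [Function.comp_apply, maskP, maskP]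
  split_ifs
  · rfl
  · exact map_zero φ

lemma F_hPart (e : A) (z : CliffordAlgebra (baseChangeForm A Q)) :
    F Q φ (hPart Q A e z) = hPart Q B (φ e) (F Q φ z) := by
  rw [hPart, hPart, map_add, F_smul, F_smul, F_elt, F_elt, comp_maskP, comp_maskP, Φ_F, map_sub,
    map_one]

end Homog

end Groth.Agent.Lib.Helper15.CliffRep
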