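import Mathlib
import Groth.Agent.Lib.Helper15.AzumayaInner
import Groth.Agent.Lib.Helper15.RepIso3

/-! Automorphisms of an Azumaya algebra close to the identity are inner; conjugation as an
algebra map; extensionality for ring maps out of a Clifford algebra. -/

set_option autoImplicit false
set_option linter.style.haveILetI false

namespace Groth.Agent.Lib.Helper15.CliffRep

open TensorProduct
open Groth.Agent.Lib.Helper15.Azumaya
open Groth.Agent.Lib.Helper15.Rep

universe u

section Inner
variable {C : Type*} [CommRing C] {𝒜 : Type*} [Ring 𝒜] [Algebra C 𝒜]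

/-- conjugation by a unit as an algebra map -/
def conjHom (u : 𝒜ˣ) : 𝒜 →ₐ[C] 𝒜 where
  toFun z := u * z * ↑u⁻¹
  map_one' := by rw [mul_one, Units.mul_inv]
  map_mul' a b := by
    simp only [mul_assoc]
    rw [Units.inv_mul_cancel_left]
  map_zero' := by rw [mul_zero, zero_mul]
  map_add' a b := by rw [mul_add, add_mul]
  commutes' c := by
    rw [← Algebra.commutes, mul_assoc, Units.mul_inv, mul_one]

@[simp] lemma conjHom_apply (u : 𝒜ˣ) (z : 𝒜) : conjHom (C := C) u z = u * z * ↑u⁻¹ := rfl

theorem exists_intertwiner [IsAzumaya C 𝒜] (N : AddSubgroup 𝒜)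
    (hNr : ∀ a ∈ N, ∀ b : 𝒜, a * b ∈ N) (θ : 𝒜 →ₐ[C] 𝒜) (hθ : ∀ z, θ z - z ∈ N) :
    ∃ t : 𝒜, t - 1 ∈ N ∧ ∀ a, θ a * t = t * a := by
  obtain ⟨e, he1, he2⟩ := exists_sepElement (R := C) (A := 𝒜)
  refine ⟨twist θ 1 e, ?_, fun a => ?_⟩
  · have key : ∀ z : 𝒜 ⊗[C] 𝒜ᵐᵒᵖ, twist θ 1 z - AlgHom.mulLeftRight C 𝒜 z 1 ∈ N := by
      intro z
      induction z using TensorProduct.induction_on with
      | zero => simp
      | tmul x y =>
        rw [twist_tmul, AlgHom.mulLeftRight_apply, mul_one, mul_one, ← sub_mul]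
        exact hNr _ (hθ x) _
      | add z z' hz hz' =>
        rw [map_add, map_add, LinearMap.add_apply, add_sub_add_comm]
        exact N.add_mem hz hz'
    have := key e
    rwa [he2] at this
  · have := twist_mul_left θ 1 a e
    rw [he1, twist_mul_right] at this
    exact this.symm

end Inner

section Ext
variable {R : Type*} [CommRing R] {M : Type*} [AddCommGroup M] [Module R M]
  (Q : QuadraticForm R M)

theorem ringHom_ext_clifford {S : Type*} [Semiring S] (f g : CliffordAlgebra Q →+* S)
    (h1 : ∀ r, f (algebraMap R _ r) = g (algebraMap R _ r))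
    (h2 : ∀ v, f (CliffordAlgebra.ι Q v) = g (CliffordAlgebra.ι Q v)) : f = g := by
  ext z
  induction z using CliffordAlgebra.induction with
  | algebraMap r => exact h1 r
  | ι v => exact h2 v
  | mul a b ha hb => rw [map_mul, map_mul, ha, hb]
  | add a b ha hb => rw [map_add, map_add, ha, hb]

end Ext

section Smooth
variable {R : Type u} [CommRing R] {σ : Type} [Finite σ]

/-- a formal smoothness criterion for zero loci: points lift along square-zero extensions -/
theorem formallySmooth_of_lift' (rels : Set (MvPolynomial σ R))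
    (H : ∀ (C : Type u) [CommRing C] [Algebra R C] (I : Ideal C), I ^ 2 = ⊥ →
      ∀ a' : σ → C ⧸ I, (∀ p ∈ rels, MvPolynomial.aeval a' p = 0) →
        ∃ a : σ → C, (∀ p ∈ rels, MvPolynomial.aeval a p = 0) ∧ Ideal.Quotient.mk I ∘ a = a') :
    Algebra.FormallySmooth R (ZAlg R rels) := by
  apply Algebra.FormallySmooth.of_comp_surjective
  intro C _ _ I hI f
  obtain ⟨a, ha, hmk⟩ := H C I hI (ZAlg.coord f) (ZAlg.coord_mem f)
  refine ⟨ZAlg.ofPoint a ha, ?_⟩
  apply ZAlg.hom_ext
  rw [ZAlg.coord_comp, ZAlg.coord_ofPoint]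
  exact hmk

end Smooth

end Groth.Agent.Lib.Helper15.CliffRep
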