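import Mathlib
import Groth.Agent.Lib.Helper8.QuadCtr1

/-! Matrix coordinates for linear endomorphisms of `A ⊗ R^n`, naturality, and a coordinate
criterion for equality of quadratic forms. -/

set_option autoImplicit false
set_option linter.style.haveILetI false

namespace Groth.Agent.Lib.Helper15.Orth

open TensorProduct Matrix
open Groth.Agent.Lib.Helper8.QuadCtr

universe u

section QExt
variable {A : Type*} [CommRing A] {n : ℕ}

theorem quadraticForm_ext_single (q₁ q₂ : QuadraticForm A (Fin n → A))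
    (h1 : ∀ i, q₁ (Pi.single i 1) = q₂ (Pi.single i 1))
    (h2 : ∀ i j, QuadraticMap.polar q₁ (Pi.single i 1) (Pi.single j 1) =
      QuadraticMap.polar q₂ (Pi.single i 1) (Pi.single j 1)) : q₁ = q₂ := by
  have hp : QuadraticMap.polarBilin q₁ = QuadraticMap.polarBilin q₂ := by
    apply LinearMap.ext_basis (Pi.basisFun A (Fin n)) (Pi.basisFun A (Fin n))
    intro i j
    simp only [Pi.basisFun_apply, QuadraticMap.polarBilin_apply_apply]
    exact h2 i j
  have hpol : ∀ x y, QuadraticMap.polar q₁ x y = QuadraticMap.polar q₂ x y := fun x y => by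
    have := congrArg (fun B => B x y) hp
    simpa using this
  -- induction on the number of coordinates used
  have key : ∀ (s : Finset (Fin n)) (c : Fin n → A),
      q₁ (∑ i ∈ s, c i • Pi.single i (1 : A)) = q₂ (∑ i ∈ s, c i • Pi.single i (1 : A)) := by
    intro s c
    induction s using Finset.induction_on with
    | empty => simp
    | insert a s ha ih =>
      rw [Finset.sum_insert ha]
      have e1 := QuadraticMap.polar q₁ (c a • Pi.single a (1 : A)) (∑ i ∈ s, c i • Pi.single i (1 : A))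
      have f1 : ∀ q : QuadraticForm A (Fin n → A), ∀ x y, q (x + y) = q x + q y +
          QuadraticMap.polar q x y := fun q x y => by
        rw [QuadraticMap.polar]; ring
      rw [f1 q₁, f1 q₂, ih, hpol, QuadraticMap.map_smul, QuadraticMap.map_smul, h1]
  ext x
  have hx : x = ∑ i ∈ Finset.univ, x i • Pi.single i (1 : A) := by
    funext j
    simp [Finset.sum_apply, Pi.single_apply]
  rw [hx]
  exact key _ _

end QExt

section Coord
variable {R : Type u} [CommRing R] {n : ℕ}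
variable (A : Type u) [CommRing A] [Algebra R A]

lemma E_one_tmul_single (j : Fin n) :
    E (R := R) (n := n) A ((1 : A) ⊗ₜ[R] (Pi.single j (1 : R) : Fin n → R)) = Pi.single j 1 := by
  rw [E_tmul]
  funext i
  by_cases h : i = j
  · subst h; simp
  · simp [Pi.single_apply, h]

lemma E_symm_single (j : Fin n) :
    (E (R := R) (n := n) A).symm (Pi.single j 1) = (1 : A) ⊗ₜ[R] (Pi.single j (1 : R) : Fin n → R) := by
  rw [LinearEquiv.symm_apply_eq, E_one_tmul_single]

variable {A}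
variable {B : Type u} [CommRing B] [Algebra R B]

lemma E_rTensor (φ : A →ₐ[R] B) (z : A ⊗[R] (Fin n → R)) :
    E (R := R) (n := n) B (LinearMap.rTensor (Fin n → R) φ.toLinearMap z) = φ ∘ E (R := R) (n := n) A z := by
  induction z using TensorProduct.induction_on with
  | zero =>
    rw [map_zero, map_zero, map_zero]
    funext i; simp
  | tmul a m =>
    rw [LinearMap.rTensor_tmul, E_tmul, E_tmul]
    funext i
    simp [Algebra.smul_def]
  | add x y hx hy =>
    rw [map_add, map_add, hx, hy, map_add]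
    funext i; simp

variable (A)

/-- the matrix of a linear endomorphism of `A ⊗ R^n` -/
noncomputable def matOf (g : (A ⊗[R] (Fin n → R)) →ₗ[A] (A ⊗[R] (Fin n → R))) :
    Matrix (Fin n) (Fin n) A :=
  LinearMap.toMatrix' ((E (R := R) (n := n) A).toLinearMap ∘ₗ g ∘ₗ (E (R := R) (n := n) A).symm.toLinearMap)

lemma matOf_mulVec (g : (A ⊗[R] (Fin n → R)) →ₗ[A] (A ⊗[R] (Fin n → R))) (y : Fin n → A) :
    matOf A g *ᵥ y = E A (g ((E (R := R) (n := n) A).symm y)) := by
  rw [matOf, LinearMap.toMatrix'_mulVec]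
  rfl

lemma E_apply_eq (g : (A ⊗[R] (Fin n → R)) →ₗ[A] (A ⊗[R] (Fin n → R))) (z : A ⊗[R] (Fin n → R)) :
    E A (g z) = matOf A g *ᵥ E A z := by
  rw [matOf_mulVec, LinearEquiv.symm_apply_apply]

lemma matOf_comp (g h : (A ⊗[R] (Fin n → R)) →ₗ[A] (A ⊗[R] (Fin n → R))) :
    matOf A (g ∘ₗ h) = matOf A g * matOf A h := by
  rw [matOf, matOf, matOf, ← LinearMap.toMatrix'_comp]
  congr 1
  ext y
  simp

lemma matOf_id : matOf (R := R) (n := n) A LinearMap.id = 1 := by
  rw [matOf, ← LinearMap.toMatrix'_id]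
  congr 1
  ext y
  simp

lemma matOf_col (g : (A ⊗[R] (Fin n → R)) →ₗ[A] (A ⊗[R] (Fin n → R))) (i j : Fin n) :
    matOf A g i j = E A (g ((1 : A) ⊗ₜ[R] (Pi.single j (1 : R) : Fin n → R))) i := by
  rw [← E_symm_single, ← matOf_mulVec]
  simp

variable {A}

/-- naturality of the matrix -/
lemma matOf_natural (φ : A →ₐ[R] B) (g : (A ⊗[R] (Fin n → R)) →ₗ[A] (A ⊗[R] (Fin n → R)))
    (g' : (B ⊗[R] (Fin n → R)) →ₗ[B] (B ⊗[R] (Fin n → R)))
    (h : ∀ m : Fin n → R, g' ((1 : B) ⊗ₜ[R] m) =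
      LinearMap.rTensor (Fin n → R) φ.toLinearMap (g ((1 : A) ⊗ₜ[R] m))) :
    matOf B g' = (matOf A g).map φ := by
  ext i j
  rw [matOf_col, h, E_rTensor, Matrix.map_apply, matOf_col]
  rfl

/-- the linear map of a matrix -/
noncomputable def ofMat (X : Matrix (Fin n) (Fin n) A) :
    (A ⊗[R] (Fin n → R)) →ₗ[A] (A ⊗[R] (Fin n → R)) :=
  (E (R := R) (n := n) A).symm.toLinearMap ∘ₗ Matrix.toLin' X ∘ₗ (E (R := R) (n := n) A).toLinearMap

lemma matOf_ofMat (X : Matrix (Fin n) (Fin n) A) : matOf (R := R) A (ofMat X) = X := by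
  rw [matOf, ofMat]
  have : (E (R := R) (n := n) A).toLinearMap ∘ₗ ((E (R := R) (n := n) A).symm.toLinearMap ∘ₗ
      Matrix.toLin' X ∘ₗ (E (R := R) (n := n) A).toLinearMap) ∘ₗ
      (E (R := R) (n := n) A).symm.toLinearMap = Matrix.toLin' X := by
    ext y
    simp
  rw [this, LinearMap.toMatrix'_toLin']

lemma ofMat_matOf (g : (A ⊗[R] (Fin n → R)) →ₗ[A] (A ⊗[R] (Fin n → R))) :
    ofMat (R := R) (matOf A g) = g := by
  rw [matOf, ofMat, Matrix.toLin'_toMatrix']
  ext y
  simp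

lemma ofMat_mul (X Y : Matrix (Fin n) (Fin n) A) :
    ofMat (R := R) (X * Y) = ofMat X ∘ₗ ofMat Y := by
  rw [ofMat, ofMat, ofMat, Matrix.toLin'_mul]
  ext y
  simp

lemma ofMat_one : ofMat (R := R) (1 : Matrix (Fin n) (Fin n) A) = LinearMap.id := by
  rw [ofMat, Matrix.toLin'_one]
  ext y
  simp

lemma E_ofMat (X : Matrix (Fin n) (Fin n) A) (z : A ⊗[R] (Fin n → R)) :
    E A (ofMat (R := R) X z) = X *ᵥ E A z := by
  rw [ofMat]
  simp

/-- the linear equivalence of an invertible matrix -/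
noncomputable def equivOfMat (X Y : Matrix (Fin n) (Fin n) A) (h1 : X * Y = 1) (h2 : Y * X = 1) :
    (A ⊗[R] (Fin n → R)) ≃ₗ[A] (A ⊗[R] (Fin n → R)) :=
  LinearEquiv.ofLinear (ofMat X) (ofMat Y)
    (by rw [← ofMat_mul, h1, ofMat_one]) (by rw [← ofMat_mul, h2, ofMat_one])

lemma equivOfMat_coe (X Y : Matrix (Fin n) (Fin n) A) (h1 : X * Y = 1) (h2 : Y * X = 1) :
    (equivOfMat (R := R) X Y h1 h2 : (A ⊗[R] (Fin n → R)) →ₗ[A] (A ⊗[R] (Fin n → R))) = ofMat X := rfl

lemma equivOfMat_symm_coe (X Y : Matrix (Fin n) (Fin n) A) (h1 : X * Y = 1) (h2 : Y * X = 1) :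
    ((equivOfMat (R := R) X Y h1 h2).symm : (A ⊗[R] (Fin n → R)) →ₗ[A] (A ⊗[R] (Fin n → R))) =
      ofMat Y := rfl

lemma matOf_mul_symm (g : (A ⊗[R] (Fin n → R)) ≃ₗ[A] (A ⊗[R] (Fin n → R))) :
    matOf A g.toLinearMap * matOf A g.symm.toLinearMap = 1 := by
  rw [← matOf_comp, ← matOf_id (R := R)]
  congr 1
  ext y
  simp

lemma matOf_symm_mul (g : (A ⊗[R] (Fin n → R)) ≃ₗ[A] (A ⊗[R] (Fin n → R))) :
    matOf A g.symm.toLinearMap * matOf A g.toLinearMap = 1 := by
  rw [← matOf_comp, ← matOf_id (R := R)]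
  congr 1
  ext y
  simp

end Coord

end Groth.Agent.Lib.Helper15.Orth
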