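import Mathlib
import Groth.Agent.Lib.Helper15.OrthRep1
import Groth.Agent.Lib.Helper15.RepIso3

/-! The coordinate ring of the orthogonal group of a quadratic form on `R^n`. -/

set_option autoImplicit false
set_option linter.style.haveILetI false

namespace Groth.Agent.Lib.Helper15.Orth

open TensorProduct Matrix
open Groth.Agent.Lib.Helper8.QuadCtr
open Groth.Agent.Lib.Helper15.Rep

universe u

/-- the index set of the coordinates: entries of a matrix and of its inverse -/
abbrev Idx (n : ℕ) : Type := (Fin n × Fin n) ⊕ (Fin n × Fin n)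

section Mats
variable {A : Type*} [CommRing A] {n : ℕ}

/-- the matrix part of a point -/
def Xm (a : Idx n → A) : Matrix (Fin n) (Fin n) A := Matrix.of fun i j => a (Sum.inl (i, j))

/-- the inverse-matrix part of a point -/
def Ym (a : Idx n → A) : Matrix (Fin n) (Fin n) A := Matrix.of fun i j => a (Sum.inr (i, j))

/-- the point of a pair of matrices -/
def ptOf (X Y : Matrix (Fin n) (Fin n) A) : Idx n → A :=
  Sum.elim (fun p => X p.1 p.2) (fun p => Y p.1 p.2)

@[simp] lemma Xm_ptOf (X Y : Matrix (Fin n) (Fin n) A) : Xm (ptOf X Y) = X := rfl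
@[simp] lemma Ym_ptOf (X Y : Matrix (Fin n) (Fin n) A) : Ym (ptOf X Y) = Y := rfl

lemma ptOf_Xm_Ym (a : Idx n → A) : ptOf (Xm a) (Ym a) = a := by
  funext s
  rcases s with ⟨i, j⟩ | ⟨i, j⟩ <;> rfl

lemma Xm_comp {B : Type*} [CommRing B] (φ : A →+* B) (a : Idx n → A) :
    Xm (φ ∘ a) = (Xm a).map φ := rfl

lemma Ym_comp {B : Type*} [CommRing B] (φ : A →+* B) (a : Idx n → A) :
    Ym (φ ∘ a) = (Ym a).map φ := rfl

end Mats

section Rels
variable (R : Type u) [CommRing R] (n : ℕ)

/-- the universal matrix -/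
noncomputable def Xu : Matrix (Fin n) (Fin n) (MvPolynomial (Idx n) R) := Xm MvPolynomial.X

/-- the universal inverse matrix -/
noncomputable def Yu : Matrix (Fin n) (Fin n) (MvPolynomial (Idx n) R) := Ym MvPolynomial.X

variable {R n}
variable {A : Type u} [CommRing A] [Algebra R A]

lemma Xu_map (a : Idx n → A) : (Xu R n).map (MvPolynomial.aeval a) = Xm a := by
  ext i j
  simp [Xu, Xm]

lemma Yu_map (a : Idx n → A) : (Yu R n).map (MvPolynomial.aeval a) = Ym a := by
  ext i j
  simp [Yu, Ym]

lemma aeval_entry (a : Idx n → A) (M : Matrix (Fin n) (Fin n) (MvPolynomial (Idx n) R)) (i j : Fin n) :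
    MvPolynomial.aeval a (M i j) = (M.map (MvPolynomial.aeval a)) i j := rfl

variable (R n)

/-- the relations of `GL_n` -/
noncomputable def relsGL : Set (MvPolynomial (Idx n) R) :=
  (Set.range fun p : Fin n × Fin n => (Xu R n * Yu R n - 1) p.1 p.2) ∪
    (Set.range fun p : Fin n × Fin n => (Yu R n * Xu R n - 1) p.1 p.2)

variable {R n}

lemma relsGL_finite : (relsGL R n).Finite :=
  (Set.finite_range _).union (Set.finite_range _)

lemma relsGL_iff (a : Idx n → A) :
    (∀ p ∈ relsGL R n, MvPolynomial.aeval a p = 0) ↔ Xm a * Ym a = 1 ∧ Ym a * Xm a = 1 := by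
  have key : ∀ (M N : Matrix (Fin n) (Fin n) (MvPolynomial (Idx n) R)) (i j : Fin n),
      MvPolynomial.aeval a ((M * N - 1) i j) =
        (M.map (MvPolynomial.aeval a) * N.map (MvPolynomial.aeval a) - 1) i j := by
    intro M N i j
    change ((MvPolynomial.aeval a : MvPolynomial (Idx n) R →ₐ[R] A).toRingHom.mapMatrix (M * N - 1)) i j =
      ((MvPolynomial.aeval a : MvPolynomial (Idx n) R →ₐ[R] A).toRingHom.mapMatrix M *
        (MvPolynomial.aeval a : MvPolynomial (Idx n) R →ₐ[R] A).toRingHom.mapMatrix N - 1) i j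
    rw [map_sub, map_mul, map_one]
  constructor
  · intro h
    constructor
    · ext i j
      have := h _ (Or.inl ⟨(i, j), rfl⟩)
      rw [key, Xu_map, Yu_map, Matrix.sub_apply, sub_eq_zero] at this
      exact this
    · ext i j
      have := h _ (Or.inr ⟨(i, j), rfl⟩)
      rw [key, Xu_map, Yu_map, Matrix.sub_apply, sub_eq_zero] at this
      exact this
  · rintro ⟨h1, h2⟩ p hp
    rcases hp with ⟨⟨i, j⟩, rfl⟩ | ⟨⟨i, j⟩, rfl⟩
    · change MvPolynomial.aeval a ((Xu R n * Yu R n - 1) i j) = 0
      rw [key, Xu_map, Yu_map, h1, sub_self]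
      rfl
    · change MvPolynomial.aeval a ((Yu R n * Xu R n - 1) i j) = 0
      rw [key, Xu_map, Yu_map, h2, sub_self]
      rfl

variable (Q : QuadraticForm R (Fin n → R))

/-- the relations expressing that the universal matrix is an isometry -/
noncomputable def relsQ : Set (MvPolynomial (Idx n) R) :=
  (Set.range fun i : Fin n => qc Q (MvPolynomial (Idx n) R) (Xu R n *ᵥ Pi.single i 1) -
      qc Q (MvPolynomial (Idx n) R) (Pi.single i 1)) ∪
    (Set.range fun p : Fin n × Fin n =>
      QuadraticMap.polar (qc Q (MvPolynomial (Idx n) R)) (Xu R n *ᵥ Pi.single p.1 1)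
        (Xu R n *ᵥ Pi.single p.2 1) -
      QuadraticMap.polar (qc Q (MvPolynomial (Idx n) R)) (Pi.single p.1 1) (Pi.single p.2 1))

lemma relsQ_finite : (relsQ Q).Finite :=
  (Set.finite_range _).union (Set.finite_range _)

lemma comp_mulVec_single (a : Idx n → A) (i : Fin n) :
    (MvPolynomial.aeval a : MvPolynomial (Idx n) R →ₐ[R] A) ∘ (Xu R n *ᵥ Pi.single i 1) =
      Xm a *ᵥ Pi.single i 1 := by
  funext k
  rw [Function.comp_apply, ← AlgHom.coe_toRingHom, RingHom.map_mulVec]
  change ((Xu R n).map (MvPolynomial.aeval a) *ᵥ _) k = _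
  rw [Xu_map]
  congr 2
  funext l
  by_cases h : l = i
  · subst h; simp
  · simp [h]

lemma comp_single (a : Idx n → A) (i : Fin n) :
    (MvPolynomial.aeval a : MvPolynomial (Idx n) R →ₐ[R] A) ∘
      (Pi.single i 1 : Fin n → MvPolynomial (Idx n) R) = Pi.single i 1 := by
  funext l
  by_cases h : l = i
  · subst h; simp
  · simp [h]

lemma relsQ_iff (a : Idx n → A) :
    (∀ p ∈ relsQ Q, MvPolynomial.aeval a p = 0) ↔ ∀ y, qc Q A (Xm a *ᵥ y) = qc Q A y := by
  have k1 : ∀ i : Fin n, MvPolynomial.aeval a (qc Q (MvPolynomial (Idx n) R) (Xu R n *ᵥ Pi.single i 1) -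
      qc Q (MvPolynomial (Idx n) R) (Pi.single i 1)) =
      qc Q A (Xm a *ᵥ Pi.single i 1) - qc Q A (Pi.single i 1) := by
    intro i
    rw [map_sub, ← qc_map, ← qc_map, comp_mulVec_single, comp_single]
  have k2 : ∀ i j : Fin n, MvPolynomial.aeval a
      (QuadraticMap.polar (qc Q (MvPolynomial (Idx n) R)) (Xu R n *ᵥ Pi.single i 1)
        (Xu R n *ᵥ Pi.single j 1) -
      QuadraticMap.polar (qc Q (MvPolynomial (Idx n) R)) (Pi.single i 1) (Pi.single j 1)) =
      QuadraticMap.polar (qc Q A) (Xm a *ᵥ Pi.single i 1) (Xm a *ᵥ Pi.single j 1) -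
        QuadraticMap.polar (qc Q A) (Pi.single i 1) (Pi.single j 1) := by
    intro i j
    rw [map_sub, ← polar_qc_map, ← polar_qc_map, comp_mulVec_single, comp_mulVec_single,
      comp_single, comp_single]
  constructor
  · intro h
    have hq : (qc Q A).comp (Matrix.toLin' (Xm a)) = qc Q A := by
      apply quadraticForm_ext_single
      · intro i
        have := h _ (Or.inl ⟨i, rfl⟩)
        rw [k1, sub_eq_zero] at this
        rw [QuadraticMap.comp_apply, Matrix.toLin'_apply]
        exact this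
      · intro i j
        have := h _ (Or.inr ⟨(i, j), rfl⟩)
        rw [k2, sub_eq_zero] at this
        rw [QuadraticMap.polar, QuadraticMap.comp_apply, QuadraticMap.comp_apply,
          QuadraticMap.comp_apply, map_add, Matrix.toLin'_apply, Matrix.toLin'_apply]
        exact this
    intro y
    have := congrArg (fun q => q y) hq
    simpa using this
  · intro h p hp
    rcases hp with ⟨i, rfl⟩ | ⟨⟨i, j⟩, rfl⟩
    · rw [k1, h, sub_self]
    · rw [k2, sub_eq_zero]
      rw [QuadraticMap.polar, QuadraticMap.polar, ← Matrix.mulVec_add, h, h, h]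

end Rels

end Groth.Agent.Lib.Helper15.Orth
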