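import Mathlib
import Groth.Agent.Lib.Helper15.OrthRep2
import Groth.Agent.Lib.Helper15.RepIso4

/-! A group scheme representing a subgroup functor of `GL_n` cut out by polynomial equations is
`Spec` of the quotient of the polynomial ring by those equations. -/

set_option autoImplicit false
set_option linter.style.haveILetI false

namespace Groth.Agent.Lib.Helper15.Orth

open TensorProduct Matrix CategoryTheory AlgebraicGeometry
open Groth.Agent.Lib.Helper8.QuadCtr
open Groth.Agent.Lib.Helper15.Rep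
open QuadGrp MonObj

universe u

variable {R : Type u} [CommRing R] {n : ℕ}

/-- the subgroup functor `S` of `GL_n` is cut out by the polynomial relations `rels` -/
structure CutOut
    (S : ∀ (A : Type u) [CommRing A] [Algebra R A],
      Subgroup ((A ⊗[R] (Fin n → R)) ≃ₗ[A] (A ⊗[R] (Fin n → R))))
    (rels : Set (MvPolynomial (Idx n) R)) : Prop where
  gl : relsGL R n ⊆ rels
  mem_iff : ∀ (A : Type u) [CommRing A] [Algebra R A]
    (g : (A ⊗[R] (Fin n → R)) ≃ₗ[A] (A ⊗[R] (Fin n → R))),
    g ∈ S A ↔ ∀ p ∈ rels, MvPolynomial.aeval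
      (ptOf (matOf A g.toLinearMap) (matOf A g.symm.toLinearMap)) p = 0

namespace CutOut

variable {S : ∀ (A : Type u) [CommRing A] [Algebra R A],
      Subgroup ((A ⊗[R] (Fin n → R)) ≃ₗ[A] (A ⊗[R] (Fin n → R)))}
  {rels : Set (MvPolynomial (Idx n) R)} (hc : CutOut S rels)

variable (A : Type u) [CommRing A] [Algebra R A]

include hc in
lemma inv_of_mem (a : Idx n → A) (ha : ∀ p ∈ rels, MvPolynomial.aeval a p = 0) :
    Xm a * Ym a = 1 ∧ Ym a * Xm a = 1 :=
  (relsGL_iff a).mp fun p hp => ha p (hc.gl hp)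

/-- points of `S` are points of the zero locus -/
noncomputable def sEquiv :
    ↥(S A) ≃ {a : Idx n → A // ∀ p ∈ rels, MvPolynomial.aeval a p = 0} where
  toFun g := ⟨ptOf (matOf A g.1.toLinearMap) (matOf A g.1.symm.toLinearMap), (hc.mem_iff A g.1).mp g.2⟩
  invFun a := ⟨equivOfMat (R := R) (Xm a.1) (Ym a.1) (hc.inv_of_mem A a.1 a.2).1
      (hc.inv_of_mem A a.1 a.2).2, by
    rw [hc.mem_iff]
    have h1 : matOf A (equivOfMat (R := R) (Xm a.1) (Ym a.1) (hc.inv_of_mem A a.1 a.2).1
        (hc.inv_of_mem A a.1 a.2).2).toLinearMap = Xm a.1 := matOf_ofMat _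
    have h2 : matOf A (equivOfMat (R := R) (Xm a.1) (Ym a.1) (hc.inv_of_mem A a.1 a.2).1
        (hc.inv_of_mem A a.1 a.2).2).symm.toLinearMap = Ym a.1 := matOf_ofMat _
    rw [h1, h2, ptOf_Xm_Ym]
    exact a.2⟩
  left_inv g := by
    apply Subtype.ext
    apply LinearEquiv.toLinearMap_injective
    change ofMat (R := R) (Xm (ptOf (matOf A g.1.toLinearMap) (matOf A g.1.symm.toLinearMap))) = _
    rw [Xm_ptOf, ofMat_matOf]
  right_inv a := by
    apply Subtype.ext
    change ptOf (matOf A (ofMat (R := R) (Xm a.1))) (matOf A (ofMat (R := R) (Ym a.1))) = a.1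
    rw [matOf_ofMat, matOf_ofMat, ptOf_Xm_Ym]

lemma sEquiv_coe (g : ↥(S A)) :
    (hc.sEquiv A g).1 = ptOf (matOf A g.1.toLinearMap) (matOf A g.1.symm.toLinearMap) := rfl

variable {G : Over (Spec (CommRingCat.of R))} [GrpObj G] (D : LinRep R (Fin n → R) S G)

/-- the points of a representing group scheme -/
noncomputable def algPts : AlgPts G (ZAlg R rels) where
  pt A _ _ := ((D.pts A).toEquiv.trans (hc.sEquiv A)).trans ZAlg.homEquiv.symm
  nat A B _ _ _ _ φ y := by
    apply ZAlg.hom_ext
    rw [ZAlg.coord_comp]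
    have hco : ∀ (C : Type u) [CommRing C] [Algebra R C]
        (a : {a : Idx n → C // ∀ p ∈ rels, MvPolynomial.aeval a p = 0}),
        ZAlg.coord (ZAlg.homEquiv.symm a) = a.1 := fun C _ _ a => ZAlg.coord_ofPoint a.1 a.2
    rw [Equiv.trans_apply, Equiv.trans_apply, hco, Equiv.trans_apply, Equiv.trans_apply, hco]
    change (hc.sEquiv B (D.pts B (specOverMap R φ ≫ y))).1 = ⇑φ ∘ (hc.sEquiv A (D.pts A y)).1
    rw [sEquiv_coe, sEquiv_coe]
    set gB := (D.pts B (specOverMap R φ ≫ y)).1 with hgB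
    set gA := (D.pts A y).1 with hgA
    have h1 : matOf B gB.toLinearMap = (matOf A gA.toLinearMap).map φ :=
      matOf_natural φ gA.toLinearMap gB.toLinearMap (fun m => D.natural A B φ y m)
    have h2 : matOf B gB.symm.toLinearMap = (matOf A gA.symm.toLinearMap).map φ := by
      have e1 : matOf B gB.symm.toLinearMap * matOf B gB.toLinearMap = 1 := matOf_symm_mul gB
      have e2 : matOf B gB.toLinearMap * (matOf A gA.symm.toLinearMap).map φ = 1 := by
        rw [h1]
        change φ.toRingHom.mapMatrix _ * φ.toRingHom.mapMatrix _ = 1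
        rw [← map_mul, matOf_mul_symm, map_one]
      calc matOf B gB.symm.toLinearMap
          = matOf B gB.symm.toLinearMap * (matOf B gB.toLinearMap *
              (matOf A gA.symm.toLinearMap).map φ) := by rw [e2, _root_.mul_one]
        _ = (matOf A gA.symm.toLinearMap).map φ := by rw [← _root_.mul_assoc, e1, _root_.one_mul]
    rw [h1, h2]
    funext s
    rcases s with ⟨i, j⟩ | ⟨i, j⟩ <;> rfl

end CutOut

end Groth.Agent.Lib.Helper15.Orth
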