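import Mathlib
import Groth.Agent.Lib.Helper15.OrthRep3

/-! The orthogonal and naive special orthogonal groups are cut out by polynomial equations. -/

set_option autoImplicit false
set_option linter.style.haveILetI false

namespace Groth.Agent.Lib.Helper15.Orth

open TensorProduct Matrix
open Groth.Agent.Lib.Helper8.QuadCtr
open Groth.Agent.Lib.Helper15.Rep
open QuadGrp

universe u

variable {R : Type u} [CommRing R] {n : ℕ} (Q : QuadraticForm R (Fin n → R))

section Mem
variable (A : Type u) [CommRing A] [Algebra R A]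

lemma mem_orth_iff (g : (A ⊗[R] (Fin n → R)) ≃ₗ[A] (A ⊗[R] (Fin n → R))) :
    g ∈ orth Q A ↔ ∀ y, qc Q A (matOf A g.toLinearMap *ᵥ y) = qc Q A y := by
  constructor
  · intro hg y
    obtain ⟨z, rfl⟩ := (E (R := R) (n := n) A).surjective y
    rw [← E_apply_eq, ← baseChangeForm_apply, ← baseChangeForm_apply, QuadGrp.baseChangeForm,
      LinearMap.compQuadraticMap_apply, LinearMap.compQuadraticMap_apply]
    congr 1
    exact hg z
  · intro h
    apply mem_orth_of_qc
    intro z
    have := h (E A z)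
    rw [← E_apply_eq] at this
    exact this

lemma det_matOf (g : (A ⊗[R] (Fin n → R)) ≃ₗ[A] (A ⊗[R] (Fin n → R))) :
    (matOf A g.toLinearMap).det = LinearMap.det g.toLinearMap := by
  rw [matOf, LinearMap.det_toMatrix']
  exact LinearMap.det_conj g.toLinearMap (E (R := R) (n := n) A)

lemma mem_sorth'_iff (g : (A ⊗[R] (Fin n → R)) ≃ₗ[A] (A ⊗[R] (Fin n → R))) :
    g ∈ sorth' Q A ↔ (∀ y, qc Q A (matOf A g.toLinearMap *ᵥ y) = qc Q A y) ∧
      (matOf A g.toLinearMap).det = 1 := by
  rw [sorth', SO', Subgroup.mem_inf, ← mem_orth_iff, det_matOf]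
  change _ ∧ g ∈ (LinearEquiv.det (R := A) (M := A ⊗[R] (Fin n → R))).ker ↔ _
  rw [MonoidHom.mem_ker, Units.ext_iff, LinearEquiv.coe_det, Units.val_one]
  rfl

end Mem

/-- the relations of the orthogonal group -/
noncomputable def relsO : Set (MvPolynomial (Idx n) R) := relsGL R n ∪ relsQ Q

lemma relsO_finite : (relsO Q).Finite := relsGL_finite.union (relsQ_finite Q)

/-- the relations of the naive special orthogonal group -/
noncomputable def relsSO' : Set (MvPolynomial (Idx n) R) := relsO Q ∪ {(Xu R n).det - 1}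

lemma relsSO'_finite : (relsSO' Q).Finite := (relsO_finite Q).union (Set.finite_singleton _)

lemma relsO_iff {A : Type u} [CommRing A] [Algebra R A] (a : Idx n → A) :
    (∀ p ∈ relsO Q, MvPolynomial.aeval a p = 0) ↔
      (Xm a * Ym a = 1 ∧ Ym a * Xm a = 1) ∧ ∀ y, qc Q A (Xm a *ᵥ y) = qc Q A y := by
  rw [← relsGL_iff (R := R), ← relsQ_iff]
  constructor
  · intro h
    exact ⟨fun p hp => h p (Or.inl hp), fun p hp => h p (Or.inr hp)⟩
  · rintro ⟨h1, h2⟩ p (hp | hp)
    · exact h1 p hp
    · exact h2 p hp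

lemma aeval_det {A : Type u} [CommRing A] [Algebra R A] (a : Idx n → A) :
    MvPolynomial.aeval a ((Xu R n).det - 1) = (Xm a).det - 1 := by
  rw [map_sub, map_one, ← Xu_map (R := R) a]
  congr 1
  exact AlgHom.map_det (MvPolynomial.aeval a) (Xu R n)

lemma relsSO'_iff {A : Type u} [CommRing A] [Algebra R A] (a : Idx n → A) :
    (∀ p ∈ relsSO' Q, MvPolynomial.aeval a p = 0) ↔
      ((Xm a * Ym a = 1 ∧ Ym a * Xm a = 1) ∧ ∀ y, qc Q A (Xm a *ᵥ y) = qc Q A y) ∧
        (Xm a).det = 1 := by
  rw [← relsO_iff]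
  constructor
  · intro h
    refine ⟨fun p hp => h p (Or.inl hp), ?_⟩
    have := h _ (Or.inr rfl)
    rw [aeval_det, sub_eq_zero] at this
    exact this
  · rintro ⟨h1, h2⟩ p (hp | hp)
    · exact h1 p hp
    · rw [Set.mem_singleton_iff] at hp
      rw [hp, aeval_det, h2, sub_self]

theorem cutOut_orth : CutOut (fun A _ _ => orth Q A) (relsO Q) where
  gl := Set.subset_union_left
  mem_iff A _ _ g := by
    rw [relsO_iff, Xm_ptOf, Ym_ptOf, mem_orth_iff]
    constructor
    · intro h
      exact ⟨⟨matOf_mul_symm g, matOf_symm_mul g⟩, h⟩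
    · intro h
      exact h.2

theorem cutOut_sorth' : CutOut (fun A _ _ => sorth' Q A) (relsSO' Q) where
  gl := Set.subset_union_left.trans Set.subset_union_left
  mem_iff A _ _ g := by
    rw [relsSO'_iff, Xm_ptOf, Ym_ptOf, mem_sorth'_iff]
    constructor
    · intro h
      exact ⟨⟨⟨matOf_mul_symm g, matOf_symm_mul g⟩, h.1⟩, h.2⟩
    · intro h
      exact ⟨h.1.2, h.2⟩

end Groth.Agent.Lib.Helper15.Orth
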