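import Mathlib
import Groth.Agent.Lib.Helper15.OrthRep4

/-! Infinitesimal lifting of isometries when the polar form is perfect. -/

set_option autoImplicit false
set_option linter.style.haveILetI false

namespace Groth.Agent.Lib.Helper15.Orth

open TensorProduct Matrix
open Groth.Agent.Lib.Helper8.QuadCtr
open Groth.Agent.Lib.Helper15.Rep

universe u

section Lift
variable {R : Type u} [CommRing R] {n : ℕ} (Q : QuadraticForm R (Fin n → R))
variable {C : Type u} [CommRing C] [Algebra R C] (I : Ideal C)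

/-- the upper triangular matrix of a quadratic form -/
noncomputable def triMat (q : QuadraticForm C (Fin n → C)) : Matrix (Fin n) (Fin n) C :=
  Matrix.of fun i j => if i = j then q (Pi.single i 1)
    else if i < j then QuadraticMap.polar q (Pi.single i 1) (Pi.single j 1) else 0

lemma triMat_spec (q : QuadraticForm C (Fin n → C)) (y : Fin n → C) :
    y ⬝ᵥ triMat q *ᵥ y = q y := by
  have h : (LinearMap.BilinMap.toQuadraticMap
      (Matrix.toLinearMap₂' C (triMat q) : LinearMap.BilinMap C (Fin n → C) C)) = q := by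
    apply quadraticForm_ext_single
    · intro i
      rw [LinearMap.BilinMap.toQuadraticMap_apply]
      have : (Matrix.toLinearMap₂' C (triMat q) : LinearMap.BilinMap C (Fin n → C) C)
          (Pi.single i 1) (Pi.single i 1) = triMat q i i := by
        rw [Matrix.toLinearMap₂'_apply']; simp
      refine this.trans ?_
      simp [triMat]
    · intro i j
      rw [LinearMap.BilinMap.polar_toQuadraticMap]
      have h1 : (Matrix.toLinearMap₂' C (triMat q) : LinearMap.BilinMap C (Fin n → C) C)
          (Pi.single i 1) (Pi.single j 1) = triMat q i j := by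
        rw [Matrix.toLinearMap₂'_apply']; simp
      have h2 : (Matrix.toLinearMap₂' C (triMat q) : LinearMap.BilinMap C (Fin n → C) C)
          (Pi.single j 1) (Pi.single i 1) = triMat q j i := by
        rw [Matrix.toLinearMap₂'_apply']; simp
      refine (congrArg₂ (· + ·) h1 h2).trans ?_
      change triMat q i j + triMat q j i = _
      rcases lt_trichotomy i j with hij | hij | hij
      · have h1 : ¬ j < i := not_lt.mpr hij.le
        simp [triMat, hij.ne, hij.ne', hij, h1]
      · subst hij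
        simp only [triMat, Matrix.of_apply, if_true]
        rw [QuadraticMap.polar_self, two_smul]
      · have h1 : ¬ i < j := not_lt.mpr hij.le
        simp only [triMat, Matrix.of_apply, hij.ne, hij.ne', hij, h1, if_false, if_true, zero_add]
        rw [QuadraticMap.polar_comm]
  have := congrArg (fun q' => q' y) h
  simp only [LinearMap.BilinMap.toQuadraticMap_apply, Matrix.toLinearMap₂'_apply'] at this
  exact this

lemma triMat_mem (q : QuadraticForm C (Fin n → C)) (hq : ∀ y, q y ∈ I) (i j : Fin n) :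
    triMat q i j ∈ I := by
  simp only [triMat, Matrix.of_apply]
  split_ifs
  · exact hq _
  · rw [QuadraticMap.polar]
    exact I.sub_mem (I.sub_mem (hq _) (hq _)) (hq _)
  · exact I.zero_mem

lemma mul_mem_of_right (M W : Matrix (Fin n) (Fin n) C) (hW : ∀ i j, W i j ∈ I) (i j : Fin n) :
    (M * W) i j ∈ I := by
  rw [Matrix.mul_apply]
  exact I.sum_mem fun k _ => I.mul_mem_left _ (hW k j)

lemma mulVec_mem (W : Matrix (Fin n) (Fin n) C) (hW : ∀ i j, W i j ∈ I) (y : Fin n → C) (i : Fin n) :
    (W *ᵥ y) i ∈ I := by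
  rw [Matrix.mulVec, dotProduct]
  exact I.sum_mem fun k _ => I.mul_mem_right _ (hW i k)

lemma qc_eq_zero_of_mem (hI : I ^ 2 = ⊥) (v : Fin n → C) (hv : ∀ i, v i ∈ I) : qc Q C v = 0 := by
  rw [qc_apply, dotProduct]
  refine Finset.sum_eq_zero fun k _ => ?_
  have h1 : ((bmat Q).map (algebraMap R C) *ᵥ v) k ∈ I := by
    rw [Matrix.mulVec, dotProduct]
    exact I.sum_mem fun l _ => I.mul_mem_left _ (hv l)
  have h2 : v k * ((bmat Q).map (algebraMap R C) *ᵥ v) k ∈ I ^ 2 := by
    rw [pow_two]
    exact Ideal.mul_mem_mul (hv k) h1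
  rw [hI] at h2
  exact h2

/-- the key lifting step: correct an approximate isometry -/
theorem exists_correction (hI : I ^ 2 = ⊥) (hS : IsUnit (smat Q).det)
    (X₀ : Matrix (Fin n) (Fin n) C) (hX₀ : IsUnit X₀.det)
    (hq : ∀ y, qc Q C (X₀ *ᵥ y) - qc Q C y ∈ I) :
    ∃ δ : Matrix (Fin n) (Fin n) C, (∀ i j, δ i j ∈ I) ∧
      ∀ y, qc Q C ((X₀ + δ) *ᵥ y) = qc Q C y := by
  set Sc : Matrix (Fin n) (Fin n) C := (smat Q).map (algebraMap R C) with hSc
  have hScu : IsUnit Sc.det := by
    have : Sc.det = algebraMap R C (smat Q).det := by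
      rw [hSc, ← RingHom.mapMatrix_apply, ← RingHom.map_det]
    rw [this]
    exact hS.map _
  -- the defect
  let q' : QuadraticForm C (Fin n → C) := (qc Q C).comp (Matrix.toLin' X₀) - qc Q C
  have hq' : ∀ y, q' y = qc Q C (X₀ *ᵥ y) - qc Q C y := fun y => by
    simp only [q', _root_.sub_apply, QuadraticMap.comp_apply, Matrix.toLin'_apply]
  let W : Matrix (Fin n) (Fin n) C := - triMat q'
  have hW : ∀ i j, W i j ∈ I := fun i j => by
    simp only [W, Matrix.neg_apply]
    exact I.neg_mem (triMat_mem I q' (fun y => by rw [hq']; exact hq y) i j)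
  have hXt : IsUnit X₀ᵀ.det := by rw [Matrix.det_transpose]; exact hX₀
  let δ : Matrix (Fin n) (Fin n) C := Sc⁻¹ * (X₀ᵀ⁻¹ * W)
  have hδ : ∀ i j, δ i j ∈ I :=
    mul_mem_of_right I _ _ (mul_mem_of_right I _ _ hW)
  have hkey : X₀ᵀ * Sc * δ = W := by
    simp only [δ]
    rw [Matrix.mul_assoc, ← Matrix.mul_assoc Sc, Matrix.mul_nonsing_inv _ hScu, Matrix.one_mul,
      ← Matrix.mul_assoc, Matrix.mul_nonsing_inv _ hXt, Matrix.one_mul]
  refine ⟨δ, hδ, fun y => ?_⟩
  rw [Matrix.add_mulVec]
  have e1 : qc Q C (X₀ *ᵥ y + δ *ᵥ y) = qc Q C (X₀ *ᵥ y) + qc Q C (δ *ᵥ y) +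
      QuadraticMap.polar (qc Q C) (X₀ *ᵥ y) (δ *ᵥ y) := by
    rw [QuadraticMap.polar]; ring
  have e2 : qc Q C (δ *ᵥ y) = 0 := qc_eq_zero_of_mem Q I hI _ (mulVec_mem I δ hδ y)
  have e3 : QuadraticMap.polar (qc Q C) (X₀ *ᵥ y) (δ *ᵥ y) = - q' y := by
    rw [polar_qc, ← hSc, Matrix.mulVec_mulVec, ← Matrix.vecMul_transpose, ← Matrix.dotProduct_mulVec,
      Matrix.mulVec_mulVec, ← Matrix.mul_assoc, hkey]
    simp only [W]
    rw [Matrix.neg_mulVec, dotProduct_neg, triMat_spec]
  rw [e1, e2, e3, hq']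
  ring

end Lift

end Groth.Agent.Lib.Helper15.Orth
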