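import Mathlib
import Groth.Agent.Lib.Helper15.OrthLift1

/-! Formal smoothness of the orthogonal group when the polar form is perfect. -/

set_option autoImplicit false
set_option linter.style.haveILetI false

namespace Groth.Agent.Lib.Helper15.Orth

open TensorProduct Matrix
open Groth.Agent.Lib.Helper8.QuadCtr
open Groth.Agent.Lib.Helper15.Rep

universe u

section
variable {R : Type u} [CommRing R] {n : ℕ} (Q : QuadraticForm R (Fin n → R))
variable {C : Type u} [CommRing C] [Algebra R C] (I : Ideal C)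

lemma map_mk_Xm (a : Idx n → C) :
    (Xm a).map (Ideal.Quotient.mk I) = Xm (Ideal.Quotient.mk I ∘ a) := rfl

lemma isUnit_det_of_mk (hI : I ^ 2 = ⊥) (X : Matrix (Fin n) (Fin n) C)
    (Y' : Matrix (Fin n) (Fin n) (C ⧸ I)) (h : X.map (Ideal.Quotient.mk I) * Y' = 1) :
    IsUnit X.det := by
  rw [← IsNilpotent.isUnit_quotient_mk_iff (I := I) ⟨2, hI⟩, RingHom.map_det,
    RingHom.mapMatrix_apply]
  exact IsUnit.of_mul_eq_one _ (by rw [← Matrix.det_mul, h, Matrix.det_one])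

lemma qc_mk (y : Fin n → C) :
    qc Q (C ⧸ I) (Ideal.Quotient.mk I ∘ y) = Ideal.Quotient.mk I (qc Q C y) :=
  qc_map Q (Ideal.Quotient.mkₐ R I) y

/-- lifting of points of the orthogonal group along square-zero extensions -/
theorem lift_point_orth (hI : I ^ 2 = ⊥) (hS : IsUnit (smat Q).det)
    (a' : Idx n → C ⧸ I) (ha' : ∀ p ∈ relsO Q, MvPolynomial.aeval a' p = 0) :
    ∃ a : Idx n → C, (∀ p ∈ relsO Q, MvPolynomial.aeval a p = 0) ∧ Ideal.Quotient.mk I ∘ a = a' := by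
  rw [relsO_iff] at ha'
  obtain ⟨⟨h1, h2⟩, h3⟩ := ha'
  -- an arbitrary lift
  obtain ⟨a₀, ha₀⟩ : ∃ a₀ : Idx n → C, Ideal.Quotient.mk I ∘ a₀ = a' :=
    ⟨fun s => Function.surjInv Ideal.Quotient.mk_surjective (a' s), by
      funext s; exact Function.surjInv_eq Ideal.Quotient.mk_surjective (a' s)⟩
  have hX₀map : (Xm a₀).map (Ideal.Quotient.mk I) = Xm a' := by rw [map_mk_Xm, ha₀]
  have hX₀ : IsUnit (Xm a₀).det := isUnit_det_of_mk I hI _ (Ym a') (by rw [hX₀map, h1])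
  have hq : ∀ y, qc Q C (Xm a₀ *ᵥ y) - qc Q C y ∈ I := by
    intro y
    rw [← Ideal.Quotient.eq_zero_iff_mem, map_sub, ← qc_mk, ← qc_mk, sub_eq_zero]
    have : Ideal.Quotient.mk I ∘ (Xm a₀ *ᵥ y) = Xm a' *ᵥ (Ideal.Quotient.mk I ∘ y) := by
      funext k
      rw [Function.comp_apply, RingHom.map_mulVec, hX₀map]
    rw [this, h3]
  obtain ⟨δ, hδ, hiso⟩ := exists_correction Q I hI hS (Xm a₀) hX₀ hq
  have hδmap : δ.map (Ideal.Quotient.mk I) = 0 := by
    ext i j
    rw [Matrix.map_apply, Matrix.zero_apply, Ideal.Quotient.eq_zero_iff_mem]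
    exact hδ i j
  set X₁ := Xm a₀ + δ with hX₁def
  have hX₁map : X₁.map (Ideal.Quotient.mk I) = Xm a' := by
    rw [hX₁def, ← RingHom.mapMatrix_apply, map_add, RingHom.mapMatrix_apply, RingHom.mapMatrix_apply,
      hX₀map, hδmap, add_zero]
  have hX₁ : IsUnit X₁.det := isUnit_det_of_mk I hI _ (Ym a') (by rw [hX₁map, h1])
  have e1 : X₁ * X₁⁻¹ = 1 := Matrix.mul_nonsing_inv _ hX₁
  have e2 : X₁⁻¹ * X₁ = 1 := Matrix.nonsing_inv_mul _ hX₁
  have hYmap : (X₁⁻¹).map (Ideal.Quotient.mk I) = Ym a' := by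
    have f1 : (X₁⁻¹).map (Ideal.Quotient.mk I) * Xm a' = 1 := by
      rw [← hX₁map, ← RingHom.mapMatrix_apply, ← RingHom.mapMatrix_apply, ← map_mul, e2, map_one]
    calc (X₁⁻¹).map (Ideal.Quotient.mk I)
        = (X₁⁻¹).map (Ideal.Quotient.mk I) * (Xm a' * Ym a') := by rw [h1, mul_one]
      _ = Ym a' := by rw [← mul_assoc, f1, one_mul]
  refine ⟨ptOf X₁ X₁⁻¹, ?_, ?_⟩
  · rw [relsO_iff, Xm_ptOf, Ym_ptOf]
    exact ⟨⟨e1, e2⟩, hiso⟩
  · rw [← ptOf_Xm_Ym a', ← hX₁map, ← hYmap]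
    funext s
    rcases s with ⟨i, j⟩ | ⟨i, j⟩ <;> rfl

end

section Smooth
variable {R : Type u} [CommRing R] {n : ℕ} (Q : QuadraticForm R (Fin n → R))

/-- a formal smoothness criterion for zero loci: points lift along square-zero extensions -/
theorem formallySmooth_of_lift (rels : Set (MvPolynomial (Idx n) R))
    (H : ∀ (C : Type u) [CommRing C] [Algebra R C] (I : Ideal C), I ^ 2 = ⊥ →
      ∀ a' : Idx n → C ⧸ I, (∀ p ∈ rels, MvPolynomial.aeval a' p = 0) →
        ∃ a : Idx n → C, (∀ p ∈ rels, MvPolynomial.aeval a p = 0) ∧ Ideal.Quotient.mk I ∘ a = a') :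
    Algebra.FormallySmooth R (ZAlg R rels) := by
  apply Algebra.FormallySmooth.of_comp_surjective
  intro C _ _ I hI f
  obtain ⟨a, ha, hmk⟩ := H C I hI (ZAlg.coord f) (ZAlg.coord_mem f)
  refine ⟨ZAlg.ofPoint a ha, ?_⟩
  apply ZAlg.hom_ext
  rw [ZAlg.coord_comp, ZAlg.coord_ofPoint]
  exact hmk

theorem formallySmooth_orth (hS : IsUnit (smat Q).det) :
    Algebra.FormallySmooth R (ZAlg R (relsO Q)) :=
  formallySmooth_of_lift _ fun _ _ _ I hI a' ha' => lift_point_orth Q I hI hS a' ha'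

theorem smooth_orth (hS : IsUnit (smat Q).det) : Algebra.Smooth R (ZAlg R (relsO Q)) :=
  { formallySmooth := formallySmooth_orth Q hS
    finitePresentation := ZAlg.finitePresentation (relsO_finite Q) }

end Smooth

end Groth.Agent.Lib.Helper15.Orth
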