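import Mathlib
import Groth.Agent.Lib.Helper15.CliffSmooth1
import Groth.Agent.Lib.Helper15.CliffRep4
import Groth.Agent.Lib.Helper15.OrthLift2
import Groth.Agent.Lib.Helper15.ClConj

/-! Lifting isometries as linear equivalences; the kernel of the reduction map of Clifford
algebras. -/

set_option autoImplicit false
set_option linter.style.haveILetI false

namespace Groth.Agent.Lib.Helper15.CliffRep

open CliffordAlgebra TensorProduct QuadGrp Matrix
open Groth.Agent.Lib.Helper15.Cl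
open Groth.Agent.Lib.Helper15.Rep
open Groth.Agent.Lib.Helper15.Orth
open Groth.Agent.Lib.Helper8.QuadCtr

universe u

section LiftIso
variable {R : Type u} [CommRing R] {n : ℕ} (Q : QuadraticForm R (Fin n → R))
variable {C : Type u} [CommRing C] [Algebra R C] (I : Ideal C)

theorem lift_isometry (hS : IsUnit (smat Q).det) (hI : I ^ 2 = ⊥)
    (g₀ : ((C ⧸ I) ⊗[R] (Fin n → R)) ≃ₗ[C ⧸ I] ((C ⧸ I) ⊗[R] (Fin n → R)))
    (hg₀ : ∀ v, baseChangeForm (C ⧸ I) Q (g₀ v) = baseChangeForm (C ⧸ I) Q v) :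
    ∃ g : (C ⊗[R] (Fin n → R)) ≃ₗ[C] (C ⊗[R] (Fin n → R)),
      (∀ v, baseChangeForm C Q (g v) = baseChangeForm C Q v) ∧
      ∀ v, LinearMap.rTensor (Fin n → R) (Ideal.Quotient.mkₐ R I).toLinearMap (g v) =
        g₀ (LinearMap.rTensor (Fin n → R) (Ideal.Quotient.mkₐ R I).toLinearMap v) := by
  set X₀ := matOf (C ⧸ I) g₀.toLinearMap with hX₀
  set Y₀ := matOf (C ⧸ I) g₀.symm.toLinearMap with hY₀
  have ha' : ∀ p ∈ relsO Q, MvPolynomial.aeval (ptOf X₀ Y₀) p = 0 := by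
    rw [relsO_iff, Xm_ptOf, Ym_ptOf]
    refine ⟨⟨matOf_mul_symm g₀, matOf_symm_mul g₀⟩, fun y => ?_⟩
    obtain ⟨z, rfl⟩ := (E (R := R) (n := n) (C ⧸ I)).surjective y
    rw [hX₀, ← E_apply_eq, ← baseChangeForm_apply, ← baseChangeForm_apply]
    exact hg₀ z
  obtain ⟨a, ha, hmk⟩ := lift_point_orth Q I hI hS _ ha'
  rw [relsO_iff] at ha
  obtain ⟨⟨h1, h2⟩, hiso⟩ := ha
  refine ⟨equivOfMat (R := R) (Xm a) (Ym a) h1 h2, fun v => ?_, fun v => ?_⟩
  · rw [baseChangeForm_apply, baseChangeForm_apply]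
    change qc Q C (E C (ofMat (R := R) (Xm a) v)) = _
    rw [E_ofMat, hiso]
  · apply (E (R := R) (n := n) (C ⧸ I)).injective
    rw [E_rTensor]
    change _ ∘ E C (ofMat (R := R) (Xm a) v) = E (C ⧸ I) (g₀.toLinearMap _)
    rw [E_ofMat, E_apply_eq, E_rTensor, ← hX₀]
    have hX : X₀ = (Xm a).map (Ideal.Quotient.mk I) := by
      rw [map_mk_Xm, hmk, Xm_ptOf]
    rw [hX]
    funext i
    rw [Function.comp_apply]
    exact RingHom.map_mulVec (Ideal.Quotient.mk I) (Xm a) (E C v) i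

end LiftIso

section Kernel
variable {R : Type u} [CommRing R] {n : ℕ} (Q : QuadraticForm R (Fin n → R))
variable {C : Type u} [CommRing C] [Algebra R C] (I : Ideal C)

lemma F_mk_eq_zero_iff (z : CliffordAlgebra (baseChangeForm C Q)) :
    F Q (Ideal.Quotient.mkₐ R I) z = 0 ↔ ∀ k, Φ Q C z k ∈ I := by
  rw [← Φ_eq_zero_iff, Φ_F]
  constructor
  · intro h k
    have := congrFun h k
    rw [Function.comp_apply, Pi.zero_apply] at this
    exact Ideal.Quotient.eq_zero_iff_mem.mp this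
  · intro h
    funext k
    rw [Function.comp_apply, Pi.zero_apply]
    exact Ideal.Quotient.eq_zero_iff_mem.mpr (h k)

lemma mul_eq_zero_of_F_eq_zero (hI : I ^ 2 = ⊥) (a b : CliffordAlgebra (baseChangeForm C Q))
    (ha : F Q (Ideal.Quotient.mkₐ R I) a = 0) (hb : F Q (Ideal.Quotient.mkₐ R I) b = 0) :
    a * b = 0 := by
  rw [F_mk_eq_zero_iff] at ha hb
  rw [← elt_Φ Q C a, ← elt_Φ Q C b, elt, elt, Finset.sum_mul]
  refine Finset.sum_eq_zero fun k _ => ?_
  rw [Finset.mul_sum]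
  refine Finset.sum_eq_zero fun l _ => ?_
  rw [smul_mul_smul_comm]
  have : Φ Q C a k * Φ Q C b l = 0 := by
    have h2 : Φ Q C a k * Φ Q C b l ∈ I ^ 2 := by
      rw [pow_two]
      exact Ideal.mul_mem_mul (ha k) (hb l)
    rw [hI] at h2
    exact h2
  rw [this, zero_smul]

/-- the kernel of the reduction map as an additive subgroup -/
noncomputable def kerF : AddSubgroup (CliffordAlgebra (baseChangeForm C Q)) :=
  (F Q (Ideal.Quotient.mkₐ R I)).toAddMonoidHom.ker

lemma mem_kerF (z : CliffordAlgebra (baseChangeForm C Q)) :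
    z ∈ kerF Q I ↔ F Q (Ideal.Quotient.mkₐ R I) z = 0 := Iff.rfl

end Kernel

end Groth.Agent.Lib.Helper15.CliffRep
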