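import Mathlib
import Groth.Agent.Lib.Helper15.OrthLift2
import Groth.Agent.Lib.Helper15.ClEvSetup
import Groth.Agent.Lib.Helper2.HalfDisc

/-! Smoothness of the orthogonal group scheme: the "if" direction. -/

set_option autoImplicit false
set_option linter.style.haveILetI false

namespace Groth.Agent.Lib.Helper15.Orth

open TensorProduct Matrix CategoryTheory AlgebraicGeometry
open Groth.Agent.Lib.Helper8.QuadCtr
open Groth.Agent.Lib.Helper15.Rep
open Groth.Agent.Lib.Helper2.HalfDisc
open QuadGrp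

universe u

variable {R : Type u} [CommRing R] {n : ℕ} (Q : QuadraticForm R (Fin n → R))

lemma bmat_eq : bmat Q = LinearMap.toMatrix₂ (Pi.basisFun R (Fin n)) (Pi.basisFun R (Fin n))
    (QuadGrp.bilinLift Q) := by
  rw [LinearMap.toMatrix₂_basisFun]; rfl

lemma halfDisc_eq_hd_bmat :
    QuadGrp.halfDisc (Pi.basisFun R (Fin n)) (LinearEquiv.refl R R) Q = hd (bmat Q) := by
  unfold hd QuadGrp.halfDisc
  rw [coeffs_eq_cf (Pi.basisFun R (Fin n)) Q (QuadGrp.bilinLift Q) (QuadGrp.bilinLift_spec Q), bmat_eq]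

theorem isUnit_smat_det_of_isRegular (hQ : IsRegular Q) : IsUnit (smat Q).det := by
  have := Groth.Agent.Lib.Helper15.Cl.isUnit_det_of_polar_bijective (Pi.basisFun R (Fin n)) Q
    (QuadGrp.bilinLift Q) (QuadGrp.bilinLift_spec Q) hQ
  rw [← bmat_eq] at this
  exact this

theorem two_mul_halfDisc (hn : Odd n) :
    2 * QuadGrp.halfDisc (Pi.basisFun R (Fin n)) (LinearEquiv.refl R R) Q = (smat Q).det := by
  rw [halfDisc_eq_hd_bmat, two_mul_hd hn]
  rfl

theorem isUnit_smat_det_of_isNondeg
    (hQ : IsNondeg (Pi.basisFun R (Fin n)) (LinearEquiv.refl R R) Q)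
    (h : Even n ∨ IsUnit (2 : R)) : IsUnit (smat Q).det := by
  rcases Nat.even_or_odd n with he | ho
  · exact isUnit_smat_det_of_isRegular Q (hQ.1 he)
  · rcases h with he | h2
    · exact absurd he (Nat.not_even_iff_odd.mpr ho)
    · rw [← two_mul_halfDisc Q ho]
      exact h2.mul (hQ.2 ho)

variable {G : Over (Spec (CommRingCat.of R))} [GrpObj G]

theorem smooth_orthRep_of_isUnit (D : OrthRep Q G) (hS : IsUnit (smat Q).det) :
    Smooth G.hom :=
  (((cutOut_orth Q).algPts D).smooth_iff).mpr (smooth_orth Q hS)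

end Groth.Agent.Lib.Helper15.Orth
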