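import Mathlib
import Groth.Agent.Lib.Helper15.CliffSmooth2
import Groth.Agent.Lib.Helper15.ClEvGrp
import Groth.Agent.Lib.Helper15.OrthSmooth1

/-! Lifting points of the naive Clifford group along square-zero extensions; smoothness. -/

set_option autoImplicit false
set_option linter.style.haveILetI false

namespace Groth.Agent.Lib.Helper15.CliffRep

open CliffordAlgebra TensorProduct QuadGrp Matrix CategoryTheory AlgebraicGeometry
open Groth.Agent.Lib.Helper15.Cl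
open Groth.Agent.Lib.Helper15.Rep
open Groth.Agent.Lib.Helper15.Orth
open Groth.Agent.Lib.Helper15.Azumaya
open Groth.Agent.Lib.Helper8.QuadCtr

universe u

section Lift
variable {R : Type u} [CommRing R] {n : ℕ} (Q : QuadraticForm R (Fin n → R))
variable {C : Type u} [CommRing C] [Algebra R C] (I : Ideal C)

theorem lift_point_gpin' (hS : IsUnit (smat Q).det) (hAz : IsAzumaya R (CliffordAlgebra Q))
    (hI : I ^ 2 = ⊥) (a' : Cx n → C ⧸ I)
    (ha' : ∀ p ∈ relsGPin Q, MvPolynomial.aeval a' p = 0) :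
    ∃ a : Cx n → C, (∀ p ∈ relsGPin Q, MvPolynomial.aeval a p = 0) ∧
      Ideal.Quotient.mk I ∘ a = a' := by
  haveI := hAz
  haveI : IsAzumaya C (C ⊗[R] CliffordAlgebra Q) := isAzumaya_baseChange R C (CliffordAlgebra Q)
  haveI : IsAzumaya C (CliffordAlgebra (baseChangeForm C Q)) :=
    IsAzumaya.of_AlgEquiv C _ _ (ΨE Q C)
  obtain ⟨π, hπ⟩ : ∃ π : C →ₐ[R] C ⧸ I, π = Ideal.Quotient.mkₐ R I := ⟨_, rfl⟩
  have hπfun : ∀ c, π c = Ideal.Quotient.mk I c := fun c => by rw [hπ]; rfl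
  -- the point downstairs
  obtain ⟨u₀, hu₀⟩ : ∃ u₀, u₀ = unitOf Q (C ⧸ I) a' ha' := ⟨_, rfl⟩
  have hu₀mem : u₀ ∈ GPin' (baseChangeForm (C ⧸ I) Q) := by
    rw [hu₀]; exact unitOf_mem Q (C ⧸ I) a' ha'
  have hu₀x : (u₀ : CliffordAlgebra (baseChangeForm (C ⧸ I) Q)) = xOf Q (C ⧸ I) a' := by
    rw [hu₀]; rfl
  have hu₀y : (↑u₀⁻¹ : CliffordAlgebra (baseChangeForm (C ⧸ I) Q)) = yOf Q (C ⧸ I) a' := by
    rw [hu₀]; rfl
  -- a lift of the coordinates
  obtain ⟨ã, hã⟩ : ∃ ã : Cx n → C, Ideal.Quotient.mk I ∘ ã = a' :=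
    ⟨fun s => Function.surjInv Ideal.Quotient.mk_surjective (a' s), by
      funext s; exact Function.surjInv_eq Ideal.Quotient.mk_surjective (a' s)⟩
  have hπã : ⇑π ∘ ã = a' := by
    rw [← hã]; funext s; exact hπfun _
  obtain ⟨x₁, hx₁⟩ : ∃ x₁, x₁ = xOf Q C ã := ⟨_, rfl⟩
  obtain ⟨y₁, hy₁⟩ : ∃ y₁, y₁ = yOf Q C ã := ⟨_, rfl⟩
  have hFx : F Q π x₁ = u₀ := by
    rw [hx₁, xOf, F_elt, hu₀x, xOf, ← Function.comp_assoc, hπã]
  have hFy : F Q π y₁ = ↑u₀⁻¹ := by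
    rw [hy₁, yOf, F_elt, hu₀y, yOf, ← Function.comp_assoc, hπã]
  have hzero : ∀ a b, F Q π a = 0 → F Q π b = 0 → a * b = 0 := by
    intro a b ha hb
    rw [hπ] at ha hb
    exact mul_eq_zero_of_F_eq_zero Q I hI a b ha hb
  -- `x₁` is a unit
  obtain ⟨ν, hν⟩ : ∃ ν, ν = x₁ * y₁ - 1 := ⟨_, rfl⟩
  obtain ⟨ν', hν'⟩ : ∃ ν', ν' = y₁ * x₁ - 1 := ⟨_, rfl⟩
  have hFν : F Q π ν = 0 := by
    rw [hν, map_sub, map_mul, hFx, hFy, Units.mul_inv, map_one, sub_self]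
  have hFν' : F Q π ν' = 0 := by
    rw [hν', map_sub, map_mul, hFx, hFy, Units.inv_mul, map_one, sub_self]
  have hνν : ν * ν = 0 := hzero _ _ hFν hFν
  have hν'ν' : ν' * ν' = 0 := hzero _ _ hFν' hFν'
  have hxy : x₁ * y₁ = 1 + ν := by rw [hν]; abel
  have hyx : y₁ * x₁ = 1 + ν' := by rw [hν']; abel
  have hr : x₁ * (y₁ * (1 - ν)) = 1 := by
    rw [← mul_assoc, hxy, mul_sub, mul_one, add_mul, one_mul, hνν]; abel
  have hl : ((1 - ν') * y₁) * x₁ = 1 := by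
    rw [mul_assoc, hyx, sub_mul, one_mul, mul_add, mul_one, hν'ν']; abel
  have hlr : (1 - ν') * y₁ = y₁ * (1 - ν) := by
    calc (1 - ν') * y₁ = ((1 - ν') * y₁) * (x₁ * (y₁ * (1 - ν))) := by rw [hr, mul_one]
      _ = (((1 - ν') * y₁) * x₁) * (y₁ * (1 - ν)) := by simp only [mul_assoc]
      _ = y₁ * (1 - ν) := by rw [hl, one_mul]
  let u₁ : (CliffordAlgebra (baseChangeForm C Q))ˣ :=
    ⟨x₁, y₁ * (1 - ν), hr, by rw [← hlr]; exact hl⟩
  have hu₁val : (u₁ : CliffordAlgebra (baseChangeForm C Q)) = x₁ := rfl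
  have hFu₁ : F Q π (u₁ : CliffordAlgebra (baseChangeForm C Q)) = u₀ := hFx
  have hFu₁inv : F Q π (↑u₁⁻¹ : CliffordAlgebra (baseChangeForm C Q)) = ↑u₀⁻¹ := by
    symm
    apply Units.inv_eq_of_mul_eq_one_right
    rw [← hFu₁, ← map_mul, Units.mul_inv, map_one]
  -- the isometry
  obtain ⟨g₀, hg₀def⟩ : ∃ g₀, g₀ = conjEquiv (baseChangeForm (C ⧸ I) Q) u₀ hu₀mem := ⟨_, rfl⟩
  have hg₀ : ∀ v, baseChangeForm (C ⧸ I) Q (g₀ v) = baseChangeForm (C ⧸ I) Q v := by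
    rw [hg₀def]; exact conjEquiv_mem_O _ u₀ hu₀mem
  have hg₀ι : ∀ v, (u₀ : CliffordAlgebra (baseChangeForm (C ⧸ I) Q)) *
      ι (baseChangeForm (C ⧸ I) Q) v * (↑u₀⁻¹ : CliffordAlgebra (baseChangeForm (C ⧸ I) Q)) =
      ι (baseChangeForm (C ⧸ I) Q) (g₀ v) := by
    intro v; rw [hg₀def]; exact ι_conjEquiv _ u₀ hu₀mem v
  obtain ⟨g, hg, hcompat⟩ := lift_isometry Q I hS hI g₀ hg₀
  rw [← hπ] at hcompat
  obtain ⟨Γ, hΓ⟩ : ∃ Γ, Γ = CliffordAlgebra.map (isometryOfMem (baseChangeForm C Q) g hg) :=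
    ⟨_, rfl⟩
  have hΓι : ∀ v, Γ (ι (baseChangeForm C Q) v) = ι (baseChangeForm C Q) (g v) := by
    intro v; rw [hΓ, CliffordAlgebra.map_apply_ι]; rfl
  have hFΓ : ∀ z, F Q π (Γ z) = (u₀ : CliffordAlgebra (baseChangeForm (C ⧸ I) Q)) * F Q π z *
      (↑u₀⁻¹ : CliffordAlgebra (baseChangeForm (C ⧸ I) Q)) := by
    have := ringHom_ext_clifford (baseChangeForm C Q) ((F Q π).comp Γ.toRingHom)
      ((conjHom (C := C ⧸ I) u₀).toRingHom.comp (F Q π)) ?_ ?_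
    · intro z
      exact RingHom.congr_fun this z
    · intro c
      change F Q π (Γ (algebraMap C _ c)) = conjHom (C := C ⧸ I) u₀ (F Q π (algebraMap C _ c))
      rw [AlgHom.commutes, F_algebraMap, AlgHom.commutes]
    · intro v
      change F Q π (Γ (ι (baseChangeForm C Q) v)) =
        (u₀ : CliffordAlgebra (baseChangeForm (C ⧸ I) Q)) *
        F Q π (ι (baseChangeForm C Q) v) * (↑u₀⁻¹ : CliffordAlgebra (baseChangeForm (C ⧸ I) Q))
      rw [hΓι, F_ι, F_ι, hcompat, hg₀ι]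
  -- the automorphism close to the identity
  obtain ⟨θ, hθdef⟩ : ∃ θ : CliffordAlgebra (baseChangeForm C Q) →ₐ[C]
      CliffordAlgebra (baseChangeForm C Q), θ = (conjHom (C := C) u₁⁻¹).comp Γ := ⟨_, rfl⟩
  have hθapp : ∀ z, θ z = (↑u₁⁻¹ : CliffordAlgebra (baseChangeForm C Q)) * Γ z *
      (u₁ : CliffordAlgebra (baseChangeForm C Q)) := by
    intro z
    rw [hθdef, AlgHom.comp_apply, conjHom_apply, inv_inv]
  let N : AddSubgroup (CliffordAlgebra (baseChangeForm C Q)) := (F Q π).toAddMonoidHom.ker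
  have hN : ∀ z, z ∈ N ↔ F Q π z = 0 := fun z => Iff.rfl
  have hθ : ∀ z, θ z - z ∈ N := by
    intro z
    rw [hN, map_sub, sub_eq_zero, hθapp, map_mul, map_mul, hFu₁inv, hFΓ, hFu₁]
    simp only [mul_assoc, Units.inv_mul_cancel_left, Units.inv_mul, mul_one]
  obtain ⟨t, ht1, htθ⟩ := exists_intertwiner N
    (fun a ha b => by rw [hN, map_mul, (hN a).mp ha, zero_mul]) θ hθ
  obtain ⟨w, hw⟩ : ∃ w, w = t - 1 := ⟨_, rfl⟩
  have hFw : F Q π w = 0 := by rw [hw]; exact (hN _).mp ht1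
  have hww : w * w = 0 := hzero _ _ hFw hFw
  have htw : t = 1 + w := by rw [hw]; abel
  let tu : (CliffordAlgebra (baseChangeForm C Q))ˣ :=
    ⟨t, 1 - w, by rw [htw, mul_sub, mul_one, add_mul, one_mul, hww]; abel,
      by rw [htw, sub_mul, one_mul, mul_add, mul_one, hww]; abel⟩
  have htuval : (tu : CliffordAlgebra (baseChangeForm C Q)) = t := rfl
  -- the lifted unit
  have hconj : ∀ v, ((u₁ * tu : (CliffordAlgebra (baseChangeForm C Q))ˣ) :
      CliffordAlgebra (baseChangeForm C Q)) * ι (baseChangeForm C Q) v *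
      (↑(u₁ * tu)⁻¹ : CliffordAlgebra (baseChangeForm C Q)) = ι (baseChangeForm C Q) (g v) := by
    intro v
    have h1 := htθ (ι (baseChangeForm C Q) v)
    rw [hθapp, hΓι] at h1
    rw [_root_.mul_inv_rev, Units.val_mul, Units.val_mul, htuval]
    have h2 : t * ι (baseChangeForm C Q) v =
        (↑u₁⁻¹ : CliffordAlgebra (baseChangeForm C Q)) * ι (baseChangeForm C Q) (g v) *
          (u₁ : CliffordAlgebra (baseChangeForm C Q)) * t := h1.symm
    have h3 : t * (↑tu⁻¹ : CliffordAlgebra (baseChangeForm C Q)) = 1 := by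
      rw [← htuval, Units.mul_inv]
    calc (u₁ : CliffordAlgebra (baseChangeForm C Q)) * t * ι (baseChangeForm C Q) v *
          ((↑tu⁻¹ : CliffordAlgebra (baseChangeForm C Q)) * ↑u₁⁻¹)
        = ↑u₁ * (t * ι (baseChangeForm C Q) v) * ((↑tu⁻¹ : CliffordAlgebra (baseChangeForm C Q)) *
            ↑u₁⁻¹) := by simp only [mul_assoc]
      _ = ↑u₁ * (↑u₁⁻¹ * ι (baseChangeForm C Q) (g v) * ↑u₁ * t) *
            ((↑tu⁻¹ : CliffordAlgebra (baseChangeForm C Q)) * ↑u₁⁻¹) := by rw [h2]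
      _ = ι (baseChangeForm C Q) (g v) * (↑u₁ * (t * ↑tu⁻¹) * ↑u₁⁻¹) := by
        simp only [mul_assoc, Units.mul_inv_cancel_left]
      _ = ι (baseChangeForm C Q) (g v) := by
        rw [h3, mul_one, Units.mul_inv, mul_one]
  have humem : u₁ * tu ∈ GPin' (baseChangeForm C Q) :=
    mem_GPin'_of_inner _ g (u₁ * tu) hconj
  have hFu : F Q π ((u₁ * tu : (CliffordAlgebra (baseChangeForm C Q))ˣ) :
      CliffordAlgebra (baseChangeForm C Q)) = u₀ := by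
    rw [Units.val_mul, map_mul, hFu₁, htuval, htw, map_add, map_one, hFw, add_zero, mul_one]
  refine ⟨aOf Q C (u₁ * tu), rels_aOf Q C _ humem, ?_⟩
  have := aOf_F Q π (u₁ * tu) u₀ hFu.symm
  rw [hu₀, aOf_unitOf] at this
  rw [this]
  funext s
  exact (hπfun _).symm

end Lift

end Groth.Agent.Lib.Helper15.CliffRep
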