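import Mathlib

/-! Kernel of a matrix with an invertible principal minor; the ring `k[t]/(t^3)`. -/

set_option autoImplicit false
set_option linter.style.haveILetI false

namespace Groth.Agent.Lib.Helper15.Orth

open Matrix

universe u

section Ker
variable {C : Type*} [CommRing C] {n : ℕ}

theorem ker_proportional (S : Matrix (Fin (n + 1)) (Fin (n + 1)) C) (k : Fin (n + 1))
    (hM : IsUnit (S.submatrix k.succAbove k.succAbove).det) (x v : Fin (n + 1) → C)
    (hx : S *ᵥ x = 0) (hv : S *ᵥ v = 0) (j : Fin (n + 1)) : v k * x j = x k * v j := by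
  set M := S.submatrix k.succAbove k.succAbove with hMdef
  have key : ∀ (y : Fin (n + 1) → C), S *ᵥ y = 0 → ∀ i,
      (M *ᵥ (y ∘ k.succAbove)) i = - (S (k.succAbove i) k * y k) := by
    intro y hy i
    have h1 := congrFun hy (k.succAbove i)
    rw [Matrix.mulVec, dotProduct, Fin.sum_univ_succAbove _ k, Pi.zero_apply] at h1
    rw [Matrix.mulVec, dotProduct]
    simp only [hMdef, Matrix.submatrix_apply, Function.comp_apply]
    linear_combination h1
  have h0 : M *ᵥ (v k • (x ∘ k.succAbove) - x k • (v ∘ k.succAbove)) = 0 := by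
    funext i
    rw [Matrix.mulVec_sub, Matrix.mulVec_smul, Matrix.mulVec_smul, Pi.sub_apply, Pi.smul_apply,
      Pi.smul_apply, key x hx, key v hv, Pi.zero_apply, smul_eq_mul, smul_eq_mul]
    ring
  have hinj := Matrix.mulVec_injective_of_isUnit ((Matrix.isUnit_iff_isUnit_det M).mpr hM)
  have h1 : v k • (x ∘ k.succAbove) - x k • (v ∘ k.succAbove) = 0 := by
    apply hinj
    rw [h0, Matrix.mulVec_zero]
  by_cases hj : j = k
  · subst hj; ring
  · obtain ⟨i, rfl⟩ := Fin.exists_succAbove_eq hj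
    have := congrFun h1 i
    simp only [Pi.sub_apply, Pi.smul_apply, Function.comp_apply, smul_eq_mul, Pi.zero_apply] at this
    linear_combination this

end Ker

section Ring
variable (k : Type u) [Field k]

/-- the ring `k[t]/(t^3)` -/
abbrev T3 : Type u := Polynomial k ⧸ Ideal.span {(Polynomial.X : Polynomial k) ^ 3}

/-- the class of `t` -/
noncomputable def tt : T3 k := Ideal.Quotient.mk _ Polynomial.X

lemma tt_pow_three : tt k ^ 3 = 0 := by
  rw [tt, ← map_pow, Ideal.Quotient.eq_zero_iff_mem]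
  exact Ideal.subset_span rfl

lemma tt_sq_ne_zero : tt k ^ 2 ≠ 0 := by
  rw [tt, ← map_pow, Ne, Ideal.Quotient.eq_zero_iff_mem, Ideal.mem_span_singleton]
  intro h
  have := Polynomial.degree_le_of_dvd h (by simp)
  rw [Polynomial.degree_X_pow, Polynomial.degree_X_pow] at this
  norm_cast at this

/-- the square-zero ideal `(t^2)` -/
noncomputable def I3 : Ideal (T3 k) := Ideal.span {tt k ^ 2}

lemma I3_sq : I3 k ^ 2 = ⊥ := by
  rw [I3, Ideal.span_singleton_pow, ← pow_mul, Ideal.span_singleton_eq_bot]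
  have : tt k ^ (2 * 2) = tt k ^ 3 * tt k := by ring
  rw [this, tt_pow_three, zero_mul]

lemma mem_I3_iff (x : T3 k) : x ∈ I3 k ↔ ∃ c, x = c * tt k ^ 2 := by
  rw [I3, Ideal.mem_span_singleton']
  constructor
  · rintro ⟨c, hc⟩; exact ⟨c, hc.symm⟩
  · rintro ⟨c, hc⟩; exact ⟨c, hc.symm⟩

/-- the obstruction: in characteristic 2, no lift of `1 + t` mod `t^2` squares to `1` -/
theorem no_sqrt_lift (h2 : (2 : k) = 0) (l : T3 k) (hl : l - (1 + tt k) ∈ I3 k) : l ^ 2 ≠ 1 := by
  obtain ⟨c, hc⟩ := (mem_I3_iff k _).mp hl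
  have h2' : (2 : T3 k) = 0 := by
    have : (2 : T3 k) = algebraMap k (T3 k) 2 := (map_ofNat (algebraMap k (T3 k)) 2).symm
    rw [this, h2, map_zero]
  have hl' : l = 1 + tt k + c * tt k ^ 2 := by rw [← hc]; ring
  intro h
  have e : l ^ 2 = 1 + tt k ^ 2 + 2 * (tt k + c * tt k ^ 2 + c * tt k ^ 3) +
      c ^ 2 * tt k * tt k ^ 3 := by
    rw [hl']; ring
  rw [e, h2', tt_pow_three] at h
  have : tt k ^ 2 = 0 := by linear_combination h
  exact tt_sq_ne_zero k this

end Ring

end Groth.Agent.Lib.Helper15.Orth
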