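import Mathlib
import Groth.Agent.Lib.Helper15.OrthNS1
import Groth.Agent.Lib.Helper15.OrthSmooth1
import Groth.Agent.Lib.Helper2.HalfDiscField

/-! The orthogonal group of a semiregular form of odd rank is not smooth when `2` is not a unit. -/

set_option autoImplicit false
set_option linter.style.haveILetI false

namespace Groth.Agent.Lib.Helper15.Orth

open TensorProduct Matrix
open Groth.Agent.Lib.Helper8.QuadCtr
open Groth.Agent.Lib.Helper15.Rep
open Groth.Agent.Lib.Helper2.HalfDisc
open QuadGrp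

universe u

section General
variable {R : Type u} [CommRing R] {n : ℕ} (Q : QuadraticForm R (Fin n → R))
variable {C : Type u} [CommRing C] [Algebra R C]

lemma smat_transpose : (smat Q)ᵀ = smat Q := by
  rw [smat, Matrix.transpose_add, Matrix.transpose_transpose, add_comm]

lemma polar_qc_symm (v y : Fin n → C) :
    QuadraticMap.polar (qc Q C) v y = ((smat Q).map (algebraMap R C) *ᵥ v) ⬝ᵥ y := by
  rw [polar_qc, Matrix.dotProduct_mulVec, ← Matrix.mulVec_transpose, ← Matrix.transpose_map,
    smat_transpose]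

/-- an isometry preserves the kernel of the polar matrix -/
lemma polar_ker_of_isometry (X Y : Matrix (Fin n) (Fin n) C) (hXY : X * Y = 1)
    (hX : ∀ y, qc Q C (X *ᵥ y) = qc Q C y) (v : Fin n → C)
    (hv : (smat Q).map (algebraMap R C) *ᵥ v = 0) :
    (smat Q).map (algebraMap R C) *ᵥ (X *ᵥ v) = 0 := by
  have h1 : ∀ y, QuadraticMap.polar (qc Q C) (X *ᵥ v) (X *ᵥ y) = 0 := by
    intro y
    rw [QuadraticMap.polar, ← Matrix.mulVec_add, hX, hX, hX]
    have := polar_qc_symm Q v y
    rw [hv, zero_dotProduct] at this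
    rw [← this]
    rfl
  have h2 : ∀ z, QuadraticMap.polar (qc Q C) (X *ᵥ v) z = 0 := by
    intro z
    have := h1 (Y *ᵥ z)
    rwa [Matrix.mulVec_mulVec, hXY, Matrix.one_mulVec] at this
  funext i
  have := h2 (Pi.single i 1)
  rw [polar_qc_symm] at this
  simpa using this

end General

section Main
variable {R : Type u} [CommRing R] {n : ℕ} (Q : QuadraticForm R (Fin (n + 1) → R))

/-- over a field of characteristic two: a kernel vector of the polar matrix of a semiregular form of
odd rank, with nonzero value and an invertible complementary minor -/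
theorem exists_radical_vector (hn : Odd (n + 1)) (k : Type u) [Field k] [Algebra R k]
    (h2 : (2 : k) = 0)
    (hsemi : IsUnit (QuadGrp.halfDisc (Pi.basisFun R (Fin (n + 1))) (LinearEquiv.refl R R) Q)) :
    ∃ (v₀ : Fin (n + 1) → k) (j₀ : Fin (n + 1)), v₀ j₀ ≠ 0 ∧
      (smat Q).map (algebraMap R k) *ᵥ v₀ = 0 ∧
      v₀ ⬝ᵥ (bmat Q).map (algebraMap R k) *ᵥ v₀ ≠ 0 ∧
      (((smat Q).map (algebraMap R k)).submatrix j₀.succAbove j₀.succAbove).det ≠ 0 := by
  set W := (bmat Q).map (algebraMap R k) with hW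
  have hS : (smat Q).map (algebraMap R k) = W + Wᵀ := by
    rw [smat, hW]
    ext i j
    simp
  have hhd : hd W ≠ 0 := by
    have : hd W = algebraMap R k (hd (bmat Q)) := hd_map (algebraMap R k) (bmat Q)
    rw [this, ← halfDisc_eq_hd_bmat]
    exact (hsemi.map (algebraMap R k)).ne_zero
  have hdet : (W + Wᵀ).det = 0 := by
    rw [← two_mul_hd hn, h2, zero_mul]
  obtain ⟨v₀, hv₀, hker⟩ := Matrix.exists_mulVec_eq_zero_iff.mpr hdet
  obtain ⟨j₀, hj₀⟩ : ∃ j₀, v₀ j₀ ≠ 0 := by
    by_contra h
    push_neg at h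
    exact hv₀ (funext h)
  have hk := hd_kernel hn W v₀ j₀ hker
  have hne : v₀ j₀ ^ 2 * hd W ≠ 0 := mul_ne_zero (pow_ne_zero 2 hj₀) hhd
  rw [hk] at hne
  refine ⟨v₀, j₀, hj₀, by rw [hS]; exact hker, left_ne_zero_of_mul hne, ?_⟩
  rw [hS]
  exact right_ne_zero_of_mul hne

end Main

end Groth.Agent.Lib.Helper15.Orth
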