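import Mathlib
import Groth.Agent.Lib.Helper15.OrthNS2

/-! The orthogonal group of a semiregular form of odd rank is not smooth when `2` is not a unit:
main argument. -/

set_option autoImplicit false
set_option linter.style.haveILetI false

namespace Groth.Agent.Lib.Helper15.Orth

open TensorProduct Matrix
open Groth.Agent.Lib.Helper8.QuadCtr
open Groth.Agent.Lib.Helper15.Rep
open Groth.Agent.Lib.Helper2.HalfDisc
open QuadGrp

universe u

section Main
variable {R : Type u} [CommRing R] {n : ℕ} (Q : QuadraticForm R (Fin (n + 1) → R))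

/-- no isometry over `k[t]/(t^3)` lifts the homothety `1 + t` over `k[t]/(t^2)` -/
theorem no_lift (hn : Odd (n + 1)) (k : Type u) [Field k] [Algebra R k] (h2 : (2 : k) = 0)
    (hsemi : IsUnit (QuadGrp.halfDisc (Pi.basisFun R (Fin (n + 1))) (LinearEquiv.refl R R) Q))
    (X Y : Matrix (Fin (n + 1)) (Fin (n + 1)) (T3 k)) (hXY : X * Y = 1)
    (hX : ∀ y, qc Q (T3 k) (X *ᵥ y) = qc Q (T3 k) y)
    (hmod : ∀ i j, X i j - (1 + tt k) * (1 : Matrix _ _ (T3 k)) i j ∈ I3 k) : False := by
  obtain ⟨v₀, j₀, hj₀, hker, hq, hminor⟩ := exists_radical_vector Q hn k h2 hsemi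
  set v : Fin (n + 1) → T3 k := algebraMap k (T3 k) ∘ v₀ with hv
  have hcomp : (algebraMap R (T3 k)) = (algebraMap k (T3 k)).comp (algebraMap R k) :=
    IsScalarTower.algebraMap_eq R k (T3 k)
  have hSmap : (smat Q).map (algebraMap R (T3 k)) =
      ((smat Q).map (algebraMap R k)).map (algebraMap k (T3 k)) := by
    rw [hcomp, Matrix.map_map]; rfl
  have hBmap : (bmat Q).map (algebraMap R (T3 k)) =
      ((bmat Q).map (algebraMap R k)).map (algebraMap k (T3 k)) := by
    rw [hcomp, Matrix.map_map]; rfl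
  -- `v` is in the kernel of the polar matrix
  have hkerC : (smat Q).map (algebraMap R (T3 k)) *ᵥ v = 0 := by
    funext i
    rw [hSmap, hv, ← RingHom.map_mulVec, hker]
    simp
  -- the value of the form at `v`
  have hqC : qc Q (T3 k) v = algebraMap k (T3 k) (v₀ ⬝ᵥ (bmat Q).map (algebraMap R k) *ᵥ v₀) := by
    rw [qc_apply, hBmap, hv, RingHom.map_dotProduct]
    congr 1
    funext i
    rw [Function.comp_apply, RingHom.map_mulVec]
  have hqCu : IsUnit (qc Q (T3 k) v) := by
    rw [hqC]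
    exact (IsUnit.mk0 _ hq).map _
  -- `X v` is in the kernel too
  have hkerX := polar_ker_of_isometry Q X Y hXY hX v hkerC
  -- the minor is invertible
  have hM : IsUnit (((smat Q).map (algebraMap R (T3 k))).submatrix j₀.succAbove j₀.succAbove).det := by
    have : ((smat Q).map (algebraMap R (T3 k))).submatrix j₀.succAbove j₀.succAbove =
        (algebraMap k (T3 k)).mapMatrix
          (((smat Q).map (algebraMap R k)).submatrix j₀.succAbove j₀.succAbove) := by
      rw [hSmap]; rfl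
    rw [this, ← RingHom.map_det]
    exact (IsUnit.mk0 _ hminor).map _
  have hprop := ker_proportional _ j₀ hM (X *ᵥ v) v hkerX hkerC
  have hvu : IsUnit (v j₀) := by
    rw [hv, Function.comp_apply]
    exact (IsUnit.mk0 _ hj₀).map _
  obtain ⟨u, hu⟩ := hvu
  set l : T3 k := (X *ᵥ v) j₀ * ↑u⁻¹ with hl
  have hXv : X *ᵥ v = l • v := by
    funext j
    have := hprop j
    rw [Pi.smul_apply, smul_eq_mul, hl]
    have e : (↑u⁻¹ : T3 k) * v j₀ = 1 := by rw [← hu, Units.inv_mul]
    calc (X *ᵥ v) j = (↑u⁻¹ * v j₀) * (X *ᵥ v) j := by rw [e, one_mul]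
      _ = ↑u⁻¹ * ((X *ᵥ v) j₀ * v j) := by rw [mul_assoc, this]
      _ = (X *ᵥ v) j₀ * ↑u⁻¹ * v j := by ring
  -- `l ^ 2 = 1`
  have hl2 : l ^ 2 = 1 := by
    have := hX v
    rw [hXv, QuadraticMap.map_smul, smul_eq_mul] at this
    have h3 : (l * l - 1) * qc Q (T3 k) v = 0 := by rw [sub_mul, one_mul, this, sub_self]
    have h4 := hqCu.mul_left_eq_zero.mp h3
    rw [pow_two]
    exact sub_eq_zero.mp h4
  -- `l ≡ 1 + t`
  have hlmod : l - (1 + tt k) ∈ I3 k := by
    have h5 : (X *ᵥ v) j₀ - (1 + tt k) * v j₀ ∈ I3 k := by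
      have : (X *ᵥ v) j₀ - (1 + tt k) * v j₀ =
          ∑ j, (X j₀ j - (1 + tt k) * (1 : Matrix _ _ (T3 k)) j₀ j) * v j := by
        rw [Matrix.mulVec, dotProduct]
        simp only [sub_mul, Finset.sum_sub_distrib]
        congr 1
        simp [Matrix.one_apply, mul_assoc]
      rw [this]
      exact (I3 k).sum_mem fun j _ => (I3 k).mul_mem_right _ (hmod j₀ j)
    have h6 : l - (1 + tt k) = ((X *ᵥ v) j₀ - (1 + tt k) * v j₀) * ↑u⁻¹ := by
      rw [hl, sub_mul, mul_assoc (1 + tt k), ← hu, Units.mul_inv, mul_one]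
    rw [h6]
    exact (I3 k).mul_mem_right _ h5
  exact no_sqrt_lift k h2 l hlmod hl2

end Main

end Groth.Agent.Lib.Helper15.Orth
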