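import Mathlib
import Groth.Agent.Lib.Helper15.OrthNS3

/-! Non-smoothness of the orthogonal group in odd rank when `2` is not a unit: assembly. -/

set_option autoImplicit false
set_option linter.style.haveILetI false

namespace Groth.Agent.Lib.Helper15.Orth

open TensorProduct Matrix CategoryTheory AlgebraicGeometry
open Groth.Agent.Lib.Helper8.QuadCtr
open Groth.Agent.Lib.Helper15.Rep
open Groth.Agent.Lib.Helper2.HalfDisc
open QuadGrp

universe u

section Conv
variable {R : Type u} [CommRing R] {n : ℕ}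

theorem lift_of_formallySmooth (rels : Set (MvPolynomial (Idx n) R))
    [Algebra.FormallySmooth R (ZAlg R rels)]
    (C : Type u) [CommRing C] [Algebra R C] (I : Ideal C) (hI : I ^ 2 = ⊥)
    (a' : Idx n → C ⧸ I) (ha' : ∀ p ∈ rels, MvPolynomial.aeval a' p = 0) :
    ∃ a : Idx n → C, (∀ p ∈ rels, MvPolynomial.aeval a p = 0) ∧ Ideal.Quotient.mk I ∘ a = a' := by
  obtain ⟨f, hf⟩ := Algebra.FormallySmooth.comp_surjective R (ZAlg R rels) I hI
    (ZAlg.ofPoint a' ha')
  refine ⟨ZAlg.coord f, ZAlg.coord_mem f, ?_⟩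
  have := congrArg ZAlg.coord hf
  rw [ZAlg.coord_ofPoint] at this
  exact this

end Conv

section Main
variable {R : Type u} [CommRing R] {n : ℕ} (Q : QuadraticForm R (Fin (n + 1) → R))

omit Q in
lemma diagonal_map_apply {C D : Type*} [NonAssocSemiring C] [NonAssocSemiring D] (φ : C →+* D) (x : C)
    (i j : Fin (n + 1)) :
    (Matrix.diagonal fun _ : Fin (n + 1) => φ x) i j = φ (x * (1 : Matrix _ _ C) i j) := by
  by_cases hij : i = j
  · subst hij; simp
  · simp [hij]

/-- a homothety of square one is an isometry -/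
lemma homothety_mem {D : Type u} [CommRing D] [Algebra R D] (lam : D) (hlam2 : lam * lam = 1) :
    ∀ p ∈ relsO Q, MvPolynomial.aeval
      (ptOf (Matrix.diagonal fun _ : Fin (n + 1) => lam) (Matrix.diagonal fun _ => lam)) p = 0 := by
  have hXX : (Matrix.diagonal fun _ : Fin (n + 1) => lam) * (Matrix.diagonal fun _ => lam) = 1 := by
    rw [Matrix.diagonal_mul_diagonal, ← Matrix.diagonal_one]
    congr 1
    funext i
    exact hlam2
  have hXv : ∀ y : Fin (n + 1) → D, (Matrix.diagonal fun _ : Fin (n + 1) => lam) *ᵥ y = lam • y := by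
    intro y
    funext i
    rw [Matrix.mulVec_diagonal, Pi.smul_apply, smul_eq_mul]
  rw [relsO_iff, Xm_ptOf, Ym_ptOf]
  refine ⟨⟨hXX, hXX⟩, fun y => ?_⟩
  rw [hXv, QuadraticMap.map_smul, hlam2, one_smul]

theorem not_formallySmooth_orth_aux (hn : Odd (n + 1)) (k : Type u) [Field k] [Algebra R k]
    (h2k : (2 : k) = 0)
    (hsemi : IsUnit (QuadGrp.halfDisc (Pi.basisFun R (Fin (n + 1))) (LinearEquiv.refl R R) Q)) :
    ¬ Algebra.FormallySmooth R (ZAlg R (relsO Q)) := by
  intro hfs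
  have h2C : (2 : T3 k) = 0 := by
    have : (2 : T3 k) = algebraMap k (T3 k) 2 := (map_ofNat (algebraMap k (T3 k)) 2).symm
    rw [this, h2k, map_zero]
  have hlam2 : Ideal.Quotient.mk (I3 k) (1 + tt k) * Ideal.Quotient.mk (I3 k) (1 + tt k) = 1 := by
    rw [← map_mul, ← map_one (Ideal.Quotient.mk (I3 k)), ← sub_eq_zero, ← map_sub,
      Ideal.Quotient.eq_zero_iff_mem, mem_I3_iff]
    refine ⟨1, ?_⟩
    linear_combination (tt k) * h2C
  obtain ⟨a, hz, hcoord⟩ := lift_of_formallySmooth (relsO Q) (T3 k) (I3 k) (I3_sq k) _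
    (homothety_mem Q (Ideal.Quotient.mk (I3 k) (1 + tt k)) hlam2)
  obtain ⟨⟨hXY, -⟩, hX⟩ := (relsO_iff (A := T3 k) Q a).mp hz
  refine no_lift Q hn k h2k hsemi (Xm a) (Ym a) hXY hX ?_
  intro i j
  rw [← Ideal.Quotient.eq_zero_iff_mem, map_sub, sub_eq_zero]
  have h1 : Ideal.Quotient.mk (I3 k) (Xm a i j) =
      (Matrix.diagonal fun _ : Fin (n + 1) => Ideal.Quotient.mk (I3 k) (1 + tt k)) i j :=
    congrFun hcoord (Sum.inl (i, j))
  rw [h1]
  exact diagonal_map_apply (Ideal.Quotient.mk (I3 k)) (1 + tt k) i j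

theorem not_formallySmooth_orth (hn : Odd (n + 1)) (h2 : ¬ IsUnit (2 : R))
    (hsemi : IsUnit (QuadGrp.halfDisc (Pi.basisFun R (Fin (n + 1))) (LinearEquiv.refl R R) Q)) :
    ¬ Algebra.FormallySmooth R (ZAlg R (relsO Q)) := by
  -- a maximal ideal containing 2
  have hne : Ideal.span {(2 : R)} ≠ ⊤ := by
    rw [Ne, Ideal.span_singleton_eq_top]
    exact h2
  obtain ⟨m, hm, hle⟩ := Ideal.exists_le_maximal _ hne
  letI : Field (R ⧸ m) := Ideal.Quotient.field m
  have h2k : (2 : R ⧸ m) = 0 := by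
    have : (2 : R ⧸ m) = Ideal.Quotient.mk m 2 := (map_ofNat (Ideal.Quotient.mk m) 2).symm
    rw [this, Ideal.Quotient.eq_zero_iff_mem]
    exact hle (Ideal.subset_span rfl)
  exact not_formallySmooth_orth_aux Q hn (R ⧸ m) h2k hsemi

end Main

section Final
variable {R : Type u} [CommRing R] {n : ℕ} (Q : QuadraticForm R (Fin n → R))
variable {G : Over (Spec (CommRingCat.of R))} [GrpObj G]

theorem smooth_orthRep_iff (hn : 1 ≤ n)
    (hQ : IsNondeg (Pi.basisFun R (Fin n)) (LinearEquiv.refl R R) Q) (D : OrthRep Q G) :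
    Smooth G.hom ↔ (Even n ∨ IsUnit (2 : R)) := by
  constructor
  · intro hs
    by_contra hcon
    push Not at hcon
    obtain ⟨hne, h2⟩ := hcon
    have hodd : Odd n := Nat.not_even_iff_odd.mp hne
    obtain ⟨n', rfl⟩ : ∃ n', n = n' + 1 := ⟨n - 1, by omega⟩
    have hsm : Algebra.Smooth R (ZAlg R (relsO Q)) :=
      (((cutOut_orth Q).algPts D).smooth_iff).mp hs
    exact not_formallySmooth_orth Q hodd h2 (hQ.2 hodd) hsm.formallySmooth
  · intro h
    exact smooth_orthRep_of_isUnit Q D (isUnit_smat_det_of_isNondeg Q hQ h)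

end Final

end Groth.Agent.Lib.Helper15.Orth
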