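import Mathlib
import Groth.Agent.Lib.Helper15.OrthNS4

/-! Quadratic forms of matrices; solving the linearised isometry equation in the
semi-diagonal situation. -/

set_option autoImplicit false
set_option linter.style.haveILetI false

namespace Groth.Agent.Lib.Helper15.Orth

open Matrix
open Groth.Agent.Lib.Helper8.QuadCtr
open Groth.Agent.Lib.Helper15.Rep
open Groth.Agent.Lib.Helper2.HalfDisc

universe u

section QF
variable {C : Type u} [CommRing C] {n : ℕ}

/-- the quadratic form `y ↦ yᵀ A y` of a matrix -/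
noncomputable def qf (A : Matrix (Fin n) (Fin n) C) : QuadraticForm C (Fin n → C) :=
  LinearMap.BilinMap.toQuadraticMap
    (Matrix.toLinearMap₂' C A : LinearMap.BilinMap C (Fin n → C) C)

lemma qf_apply (A : Matrix (Fin n) (Fin n) C) (y : Fin n → C) : qf A y = y ⬝ᵥ A *ᵥ y := by
  rw [qf, LinearMap.BilinMap.toQuadraticMap_apply, Matrix.toLinearMap₂'_apply']

lemma polar_qf (A : Matrix (Fin n) (Fin n) C) (x y : Fin n → C) :
    QuadraticMap.polar (qf A) x y = x ⬝ᵥ (A + Aᵀ) *ᵥ y := by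
  rw [qf, LinearMap.BilinMap.polar_toQuadraticMap, Matrix.toLinearMap₂'_apply',
    Matrix.toLinearMap₂'_apply', Matrix.add_mulVec, dotProduct_add, Matrix.mulVec_transpose]
  congr 1
  rw [Matrix.dotProduct_mulVec, dotProduct_comm]

lemma qf_single (A : Matrix (Fin n) (Fin n) C) (i : Fin n) : qf A (Pi.single i 1) = A i i := by
  rw [qf_apply]; simp

lemma polar_qf_single (A : Matrix (Fin n) (Fin n) C) (i j : Fin n) :
    QuadraticMap.polar (qf A) (Pi.single i 1) (Pi.single j 1) = A i j + A j i := by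
  rw [polar_qf]; simp

lemma qf_ext {A B : Matrix (Fin n) (Fin n) C} (h1 : ∀ i, A i i = B i i)
    (h2 : ∀ i j, i ≠ j → A i j + A j i = B i j + B j i) : qf A = qf B := by
  apply quadraticForm_ext_single
  · intro i; rw [qf_single, qf_single, h1]
  · intro i j
    rw [polar_qf_single, polar_qf_single]
    by_cases hij : i = j
    · subst hij; rw [h1]
    · exact h2 i j hij

lemma cf_eq_of_qf_eq {A B : Matrix (Fin n) (Fin n) C} (h : qf A = qf B) : cf A = cf B := by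
  funext s
  induction s using Sym2.ind with
  | _ i j =>
    rw [cf_mk, cf_mk]
    by_cases hij : i = j
    · subst hij
      rw [if_pos rfl, if_pos rfl, ← qf_single A, ← qf_single B, h]
    · rw [if_neg hij, if_neg hij, ← polar_qf_single A, ← polar_qf_single B, h]

lemma hd_eq_of_qf_eq {A B : Matrix (Fin n) (Fin n) C} (h : qf A = qf B) : hd A = hd B :=
  hd_congr_cf _ _ (cf_eq_of_qf_eq h)

lemma qf_conj (A G : Matrix (Fin n) (Fin n) C) (y : Fin n → C) :
    qf (Gᵀ * A * G) y = qf A (G *ᵥ y) := by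
  rw [qf_apply, qf_apply, ← Matrix.mulVec_mulVec, ← Matrix.mulVec_mulVec,
    Matrix.dotProduct_mulVec, Matrix.vecMul_transpose]

lemma qf_add (A B : Matrix (Fin n) (Fin n) C) : qf (A + B) = qf A + qf B := by
  ext y
  rw [QuadraticMap.add_apply, qf_apply, qf_apply, qf_apply, Matrix.add_mulVec, dotProduct_add]

lemma qf_neg (A : Matrix (Fin n) (Fin n) C) : qf (-A) = -qf A := by
  ext y
  rw [QuadraticMap.neg_apply, qf_apply, qf_apply, Matrix.neg_mulVec, dotProduct_neg]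

lemma qf_triMat (q : QuadraticForm C (Fin n → C)) : qf (triMat q) = q := by
  ext y
  rw [qf_apply, triMat_spec]

lemma qf_add_vec (A : Matrix (Fin n) (Fin n) C) (a b : Fin n → C) :
    qf A (a + b) = qf A a + qf A b + a ⬝ᵥ (A + Aᵀ) *ᵥ b := by
  rw [← polar_qf, QuadraticMap.polar]; ring

variable (I : Ideal C)

lemma mul_mem_of_left (M W : Matrix (Fin n) (Fin n) C) (hW : ∀ i j, W i j ∈ I) (i j : Fin n) :
    (W * M) i j ∈ I := by
  rw [Matrix.mul_apply]
  exact I.sum_mem fun k _ => I.mul_mem_right _ (hW i k)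

lemma qf_eq_zero_of_mem (hI : I ^ 2 = ⊥) (A : Matrix (Fin n) (Fin n) C) (v : Fin n → C)
    (hv : ∀ i, v i ∈ I) : qf A v = 0 := by
  rw [qf_apply, dotProduct]
  refine Finset.sum_eq_zero fun k _ => ?_
  have h1 : (A *ᵥ v) k ∈ I := by
    rw [Matrix.mulVec, dotProduct]
    exact I.sum_mem fun l _ => I.mul_mem_left _ (hv l)
  have h2 : v k * (A *ᵥ v) k ∈ I ^ 2 := by
    rw [pow_two]
    exact Ideal.mul_mem_mul (hv k) h1
  rw [hI] at h2
  exact h2

lemma dot_mulVec_eq_zero_of_mem (hI : I ^ 2 = ⊥) (N : Matrix (Fin n) (Fin n) C)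
    (hN : ∀ i j, N i j ∈ I) (y v : Fin n → C) (hv : ∀ i, v i ∈ I) : y ⬝ᵥ N *ᵥ v = 0 := by
  rw [dotProduct]
  refine Finset.sum_eq_zero fun k _ => ?_
  have h1 : (N *ᵥ v) k = 0 := by
    rw [Matrix.mulVec, dotProduct]
    refine Finset.sum_eq_zero fun l _ => ?_
    have h2 : N k l * v l ∈ I ^ 2 := by
      rw [pow_two]
      exact Ideal.mul_mem_mul (hN k l) (hv l)
    rw [hI] at h2
    exact h2
  rw [h1, mul_zero]

lemma mul_eq_zero_of_mem (hI : I ^ 2 = ⊥) {a b : C} (ha : a ∈ I) (hb : b ∈ I) : a * b = 0 := by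
  have h2 : a * b ∈ I ^ 2 := by
    rw [pow_two]
    exact Ideal.mul_mem_mul ha hb
  rw [hI] at h2
  exact h2

lemma polar_mem_of_forall_mem (t : QuadraticForm C (Fin n → C)) (ht : ∀ y, t y ∈ I)
    (x y : Fin n → C) : QuadraticMap.polar t x y ∈ I := by
  rw [QuadraticMap.polar]
  exact I.sub_mem (I.sub_mem (ht _) (ht _)) (ht _)

/-- apply a solution of the linearised equation -/
theorem correction_of_solve (hI : I ^ 2 = ⊥) (W Z₀ E : Matrix (Fin n) (Fin n) C)
    (hE : ∀ i j, E i j ∈ I)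
    (hq : ∀ y, qf W (Z₀ *ᵥ y) - qf W y ∈ I)
    (hsolve : ∀ y, y ⬝ᵥ ((W + Wᵀ) * E) *ᵥ y = -(qf W (Z₀ *ᵥ y) - qf W y)) :
    ∀ y, qf W ((Z₀ + Z₀ * E) *ᵥ y) = qf W y := by
  intro y
  have hEy : ∀ i, (E *ᵥ y) i ∈ I := mulVec_mem I E hE y
  have hZEy : ∀ i, (Z₀ *ᵥ (E *ᵥ y)) i ∈ I := by
    intro i
    rw [Matrix.mulVec, dotProduct]
    exact I.sum_mem fun l _ => I.mul_mem_left _ (hEy l)
  rw [Matrix.add_mulVec, ← Matrix.mulVec_mulVec, qf_add_vec,
    qf_eq_zero_of_mem I hI W _ hZEy, add_zero]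
  -- the polar term
  set M : Matrix (Fin n) (Fin n) C := Z₀ᵀ * W * Z₀ - W with hM
  have hMq : ∀ z, qf M z = qf W (Z₀ *ᵥ z) - qf W z := by
    intro z
    rw [hM, sub_eq_add_neg, qf_add, qf_neg, QuadraticMap.add_apply, QuadraticMap.neg_apply,
      qf_conj]
    ring
  have hN : ∀ i j, (M + Mᵀ) i j ∈ I := by
    intro i j
    have : (M + Mᵀ) i j = QuadraticMap.polar (qf M) (Pi.single i 1) (Pi.single j 1) := by
      rw [polar_qf_single]; rfl
    rw [this]
    exact polar_mem_of_forall_mem I _ (fun z => by rw [hMq]; exact hq z) _ _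
  have e1 : Z₀ *ᵥ y ⬝ᵥ (W + Wᵀ) *ᵥ Z₀ *ᵥ (E *ᵥ y) =
      y ⬝ᵥ (Z₀ᵀ * (W + Wᵀ) * Z₀) *ᵥ (E *ᵥ y) := by
    rw [← Matrix.mulVec_mulVec, ← Matrix.mulVec_mulVec, Matrix.dotProduct_mulVec y,
      Matrix.vecMul_transpose]
  have e2 : Z₀ᵀ * (W + Wᵀ) * Z₀ = (W + Wᵀ) + (M + Mᵀ) := by
    rw [hM]
    simp only [Matrix.transpose_sub, Matrix.transpose_mul, Matrix.transpose_transpose,
      Matrix.mul_add, Matrix.add_mul, Matrix.mul_assoc]
    abel
  rw [e1, e2, Matrix.add_mulVec, dotProduct_add,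
    dot_mulVec_eq_zero_of_mem I hI _ hN y _ hEy, add_zero, Matrix.mulVec_mulVec, hsolve]
  ring

end QF

end Groth.Agent.Lib.Helper15.Orth
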