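import Mathlib
import Groth.Agent.Lib.Helper15.OrthOdd1

/-! Solving the linearised isometry equation: the invertible case and the semi-diagonal case. -/

set_option autoImplicit false
set_option linter.style.haveILetI false

namespace Groth.Agent.Lib.Helper15.Orth

open Matrix
open Groth.Agent.Lib.Helper8.QuadCtr
open Groth.Agent.Lib.Helper15.Rep
open Groth.Agent.Lib.Helper2.HalfDisc

universe u

section Unit
variable {C : Type u} [CommRing C] {n : ℕ} (I : Ideal C)

/-- the invertible case -/
theorem unit_lift (hI : I ^ 2 = ⊥) (W : Matrix (Fin n) (Fin n) C) (hS : IsUnit (W + Wᵀ).det)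
    (X₀ : Matrix (Fin n) (Fin n) C) (hq : ∀ y, qf W (X₀ *ᵥ y) - qf W y ∈ I) :
    ∃ δ : Matrix (Fin n) (Fin n) C, (∀ i j, δ i j ∈ I) ∧
      ∀ y, qf W ((X₀ + δ) *ᵥ y) = qf W y := by
  let t : QuadraticForm C (Fin n → C) := (qf W).comp (Matrix.toLin' X₀) - qf W
  have ht : ∀ y, t y = qf W (X₀ *ᵥ y) - qf W y := fun y => by
    simp only [t, _root_.sub_apply, QuadraticMap.comp_apply, Matrix.toLin'_apply]
  let T : Matrix (Fin n) (Fin n) C := - triMat t
  have hT : ∀ i j, T i j ∈ I := fun i j => by
    simp only [T, Matrix.neg_apply]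
    exact I.neg_mem (triMat_mem I t (fun y => by rw [ht]; exact hq y) i j)
  let E : Matrix (Fin n) (Fin n) C := (W + Wᵀ)⁻¹ * T
  have hE : ∀ i j, E i j ∈ I := mul_mem_of_right I _ _ hT
  refine ⟨X₀ * E, mul_mem_of_right I _ _ hE, correction_of_solve I hI W X₀ E hE hq ?_⟩
  intro y
  have : (W + Wᵀ) * E = T := by
    simp only [E]
    rw [← Matrix.mul_assoc, Matrix.mul_nonsing_inv _ hS, Matrix.one_mul]
  rw [this]
  simp only [T]
  rw [Matrix.neg_mulVec, dotProduct_neg, triMat_spec, ht]

end Unit

section SD
variable {C : Type u} [CommRing C] {n : ℕ} (I : Ideal C)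

/-- the modified triangular matrix adapted to the index `k` -/
noncomputable def sdMat (k : Fin (n + 1)) (κ : C) (t : QuadraticForm C (Fin (n + 1) → C)) :
    Matrix (Fin (n + 1)) (Fin (n + 1)) C :=
  Matrix.of fun i j =>
    if i = k then (if j = k then κ else 0)
    else if i = j then t (Pi.single i 1)
    else if j = k ∨ i < j then QuadraticMap.polar t (Pi.single i 1) (Pi.single j 1) else 0

lemma sdMat_mem (k : Fin (n + 1)) (κ : C) (hκ : κ ∈ I) (t : QuadraticForm C (Fin (n + 1) → C))
    (ht : ∀ y, t y ∈ I) (i j : Fin (n + 1)) : sdMat k κ t i j ∈ I := by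
  simp only [sdMat, Matrix.of_apply]
  split_ifs
  · exact hκ
  · exact I.zero_mem
  · exact ht _
  · exact polar_mem_of_forall_mem I t ht _ _
  · exact I.zero_mem

lemma qf_diag_sdMat (k : Fin (n + 1)) (u κ : C) (t : QuadraticForm C (Fin (n + 1) → C))
    (htk : t (Pi.single k 1) = 2 * u * κ) :
    qf (Matrix.diagonal (fun i => if i = k then 2 * u else 1) * sdMat k κ t) = t := by
  apply quadraticForm_ext_single
  · intro i
    rw [qf_single, Matrix.diagonal_mul]
    by_cases hik : i = k
    · subst hik
      simp only [sdMat, Matrix.of_apply, if_true]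
      rw [htk]
    · simp only [sdMat, Matrix.of_apply, if_neg hik, if_true, one_mul]
  · intro i j
    rw [polar_qf_single, Matrix.diagonal_mul, Matrix.diagonal_mul]
    by_cases hij : i = j
    · subst hij
      rw [QuadraticMap.polar_self, two_smul]
      by_cases hik : i = k
      · subst hik
        simp only [sdMat, Matrix.of_apply, if_true]
        rw [htk]
      · simp only [sdMat, Matrix.of_apply, if_neg hik, if_true, one_mul]
    · by_cases hik : i = k
      · subst hik
        have hji : ¬ j = i := fun h => hij h.symm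
        simp only [sdMat, Matrix.of_apply, if_true, if_neg hji, mul_zero, zero_add, one_mul,
          true_or]
        rw [QuadraticMap.polar_comm]
      · by_cases hjk : j = k
        · subst hjk
          have hji : ¬ j = i := fun h => hij h.symm
          simp only [sdMat, Matrix.of_apply, if_neg hik, if_neg hij, if_true, true_or, one_mul,
            mul_zero, add_zero]
        · have hji : ¬ j = i := fun h => hij h.symm
          simp only [sdMat, Matrix.of_apply, if_neg hik, if_neg hjk, if_neg hij, if_neg hji,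
            one_mul, false_or]
          rcases lt_or_gt_of_ne hij with h | h
          · rw [if_pos (Or.inr h), if_neg (fun hh => hh.elim hik (not_lt.mpr h.le)), add_zero]
          · rw [if_neg (fun hh => hh.elim hjk (not_lt.mpr h.le)), if_pos (Or.inr h), zero_add,
              QuadraticMap.polar_comm]

/-- solving in the semi-diagonal situation -/
theorem sd_solve (S : Matrix (Fin (n + 1)) (Fin (n + 1)) C) (k : Fin (n + 1)) (u : C)
    (hrow : ∀ j, j ≠ k → S k j = 0) (hkk : S k k = 2 * u)
    (hd' : IsUnit (S.submatrix k.succAbove k.succAbove).det)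
    (t : QuadraticForm C (Fin (n + 1) → C)) (ht : ∀ y, t y ∈ I) (κ : C) (hκ : κ ∈ I)
    (htk : t (Pi.single k 1) = 2 * u * κ) :
    ∃ E : Matrix (Fin (n + 1)) (Fin (n + 1)) C, (∀ i j, E i j ∈ I) ∧
      ∀ y, y ⬝ᵥ (S * E) *ᵥ y = t y := by
  classical
  set Sb : Matrix (Fin (n + 1)) (Fin (n + 1)) C := S.updateRow k (Pi.single k 1) with hSb
  set D : Matrix (Fin (n + 1)) (Fin (n + 1)) C :=
    Matrix.diagonal (fun i => if i = k then 2 * u else 1) with hD
  have hdet : Sb.det = (S.submatrix k.succAbove k.succAbove).det := by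
    rw [Matrix.det_succ_row _ k, Finset.sum_eq_single k]
    · have h1 : Sb k k = 1 := by rw [hSb, Matrix.updateRow_self, Pi.single_eq_same]
      have h2 : Sb.submatrix k.succAbove k.succAbove = S.submatrix k.succAbove k.succAbove := by
        ext a b
        rw [Matrix.submatrix_apply, Matrix.submatrix_apply, hSb,
          Matrix.updateRow_ne (Fin.succAbove_ne k a)]
      have h3 : ((-1 : C)) ^ ((k : ℕ) + (k : ℕ)) = 1 := by
        rw [← two_mul, pow_mul]; simp
      rw [h1, h2, h3]; ring
    · intro j _ hjk
      have : Sb k j = 0 := by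
        rw [hSb, Matrix.updateRow_self, Pi.single_eq_of_ne hjk]
      rw [this, mul_zero, zero_mul]
    · intro hk; exact absurd (Finset.mem_univ k) hk
  have hSbu : IsUnit Sb.det := by rw [hdet]; exact hd'
  have hS : S = D * Sb := by
    ext i j
    rw [hD, Matrix.diagonal_mul]
    by_cases hik : i = k
    · subst hik
      rw [if_pos rfl, hSb, Matrix.updateRow_self]
      by_cases hji : j = i
      · subst hji; rw [Pi.single_eq_same, mul_one, hkk]
      · rw [Pi.single_eq_of_ne hji, mul_zero, hrow j hji]
    · rw [if_neg hik, one_mul, hSb, Matrix.updateRow_ne hik]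
  set T := sdMat k κ t with hT
  refine ⟨Sb⁻¹ * T, mul_mem_of_right I _ _ (sdMat_mem I k κ hκ t ht), fun y => ?_⟩
  have : S * (Sb⁻¹ * T) = D * T := by
    rw [hS, Matrix.mul_assoc, ← Matrix.mul_assoc Sb, Matrix.mul_nonsing_inv _ hSbu, Matrix.one_mul]
  rw [this, ← qf_apply, hD, hT, qf_diag_sdMat k u κ t htk]

end SD

end Groth.Agent.Lib.Helper15.Orth
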