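import Mathlib
import Groth.Agent.Lib.Helper15.OrthOdd2

/-! The obstruction in the semi-diagonal situation vanishes for determinant one. -/

set_option autoImplicit false
set_option linter.style.haveILetI false

namespace Groth.Agent.Lib.Helper15.Orth

open Matrix
open Groth.Agent.Lib.Helper8.QuadCtr
open Groth.Agent.Lib.Helper15.Rep
open Groth.Agent.Lib.Helper2.HalfDisc

universe u

section Obs
variable {C : Type u} [CommRing C] {n : ℕ} (I : Ideal C)

lemma det_sub_det_mem (X Y : Matrix (Fin n) (Fin n) C) (h : ∀ i j, X i j - Y i j ∈ I) :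
    X.det - Y.det ∈ I := by
  rw [← Ideal.Quotient.eq_zero_iff_mem, map_sub, sub_eq_zero, RingHom.map_det, RingHom.map_det]
  congr 1
  ext i j
  rw [RingHom.mapMatrix_apply, RingHom.mapMatrix_apply, Matrix.map_apply, Matrix.map_apply,
    ← sub_eq_zero, ← map_sub, Ideal.Quotient.eq_zero_iff_mem]
  exact h i j

lemma qf_single_mat (k : Fin n) (c : C) (y : Fin n → C) :
    qf (Matrix.single k k c) y = c * (y k * y k) := by
  classical
  rw [qf_apply, dotProduct, Finset.sum_eq_single k]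
  · rw [Matrix.mulVec, dotProduct, Finset.sum_eq_single k]
    · rw [Matrix.single_apply_same]; ring
    · intro j _ hj
      rw [Matrix.single_apply_of_col_ne _ _ hj.symm, zero_mul]
    · intro h; exact absurd (Finset.mem_univ k) h
  · intro i _ hi
    have : (Matrix.single k k c *ᵥ y) i = 0 := by
      rw [Matrix.mulVec, dotProduct]
      refine Finset.sum_eq_zero fun j _ => ?_
      rw [Matrix.single_apply_of_row_ne hi.symm, zero_mul]
    rw [this, mul_zero]
  · intro h; exact absurd (Finset.mem_univ k) h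

/-- the obstruction vanishes -/
theorem sd_obstruction (hn : Odd (n + 1)) (hI : I ^ 2 = ⊥)
    (W : Matrix (Fin (n + 1)) (Fin (n + 1)) C) (k : Fin (n + 1))
    (hrow : ∀ i, i ≠ k → W i k + W k i = 0)
    (hd' : IsUnit ((W + Wᵀ).submatrix k.succAbove k.succAbove).det)
    (Z₀ : Matrix (Fin (n + 1)) (Fin (n + 1)) C) (hdet : Z₀.det - 1 ∈ I)
    (hq : ∀ y, qf W (Z₀ *ᵥ y) - qf W y ∈ I) :
    ∃ κ ∈ I, qf W (Z₀ *ᵥ Pi.single k 1) - qf W (Pi.single k 1) = 2 * W k k * κ := by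
  classical
  set S := W + Wᵀ with hS
  set u := W k k with hu
  have hSrow : ∀ j, j ≠ k → S k j = 0 := fun j hj => by
    rw [hS, Matrix.add_apply, Matrix.transpose_apply, add_comm]
    exact hrow j hj
  have hSkk : S k k = 2 * u := by
    rw [hS, Matrix.add_apply, Matrix.transpose_apply]; ring
  let t : QuadraticForm C (Fin (n + 1) → C) := (qf W).comp (Matrix.toLin' Z₀) - qf W
  have ht : ∀ y, t y = qf W (Z₀ *ᵥ y) - qf W y := fun y => by
    simp only [t, _root_.sub_apply, QuadraticMap.comp_apply, Matrix.toLin'_apply]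
  have htI : ∀ y, t y ∈ I := fun y => by rw [ht]; exact hq y
  obtain ⟨t₀, ht₀def⟩ : ∃ t₀, t₀ = t (Pi.single k 1) := ⟨_, rfl⟩
  have ht₀ : t₀ ∈ I := by rw [ht₀def]; exact htI _
  let t₁ : QuadraticForm C (Fin (n + 1) → C) := t - qf (Matrix.single k k t₀)
  have ht₁ : ∀ y, t₁ y = t y - t₀ * (y k * y k) := fun y => by
    simp only [t₁, _root_.sub_apply, qf_single_mat]
  have ht₁I : ∀ y, t₁ y ∈ I := fun y => by
    rw [ht₁]; exact I.sub_mem (htI y) (I.mul_mem_right _ ht₀)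
  have ht₁k : t₁ (Pi.single k 1) = 2 * u * 0 := by
    rw [ht₁, ← ht₀def, Pi.single_eq_same]; ring
  obtain ⟨E₁, hE₁, hsolve⟩ := sd_solve I S k u hSrow hSkk hd' t₁ ht₁I 0 I.zero_mem ht₁k
  set G₁ : Matrix (Fin (n + 1)) (Fin (n + 1)) C := 1 + E₁ with hG₁
  obtain ⟨ι, hιdef⟩ : ∃ ι, ι = G₁.det - 1 := ⟨_, rfl⟩
  have hι : ι ∈ I := by
    rw [hιdef, ← Matrix.det_one (n := Fin (n + 1)) (R := C)]
    apply det_sub_det_mem
    intro i j
    rw [hG₁, Matrix.add_apply, add_sub_cancel_left]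
    exact hE₁ i j
  obtain ⟨i₀, hi₀def⟩ : ∃ i₀, i₀ = Z₀.det - 1 := ⟨_, rfl⟩
  have hi₀ : i₀ ∈ I := by rw [hi₀def]; exact hdet
  set W₂ : Matrix (Fin (n + 1)) (Fin (n + 1)) C := W + Matrix.single k k t₀ with hW₂
  have key : qf (G₁ᵀ * W₂ * G₁) = qf (Z₀ᵀ * W * Z₀) := by
    ext y
    rw [qf_conj, qf_conj]
    have hGy : G₁ *ᵥ y = y + E₁ *ᵥ y := by rw [hG₁, Matrix.add_mulVec, Matrix.one_mulVec]
    have hEy : ∀ i, (E₁ *ᵥ y) i ∈ I := mulVec_mem I E₁ hE₁ y
    rw [hGy, hW₂, qf_add, QuadraticMap.add_apply, qf_add_vec W, qf_eq_zero_of_mem I hI W _ hEy,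
      qf_single_mat, Matrix.mulVec_mulVec, ← hS, hsolve, ht₁, ht, Pi.add_apply]
    have e1 : t₀ * (E₁ *ᵥ y) k = 0 := mul_eq_zero_of_mem I hI ht₀ (hEy k)
    have e2 : t y = qf W (Z₀ *ᵥ y) - qf W y := ht y
    linear_combination (2 * y k + (E₁ *ᵥ y) k) * e1
  have hhd := hd_eq_of_qf_eq key
  rw [hd_conj hn, hd_conj hn] at hhd
  have h1 : hd W = u * (S.submatrix k.succAbove k.succAbove).det := hd_laplace hn W k hrow
  have hrow₂ : ∀ i, i ≠ k → W₂ i k + W₂ k i = 0 := by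
    intro i hi
    rw [hW₂, Matrix.add_apply, Matrix.add_apply, Matrix.single_apply_of_row_ne hi.symm,
      Matrix.single_apply_of_col_ne _ _ hi.symm, add_zero, add_zero]
    exact hrow i hi
  have hsub₂ : (W₂ + W₂ᵀ).submatrix k.succAbove k.succAbove =
      S.submatrix k.succAbove k.succAbove := by
    ext a b
    simp only [Matrix.submatrix_apply, hW₂, hS, Matrix.add_apply, Matrix.transpose_apply]
    rw [Matrix.single_apply_of_row_ne (Fin.succAbove_ne k a).symm,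
      Matrix.single_apply_of_row_ne (Fin.succAbove_ne k b).symm, add_zero, add_zero]
  have h2 : hd W₂ = (u + t₀) * (S.submatrix k.succAbove k.succAbove).det := by
    rw [hd_laplace hn W₂ k hrow₂, hsub₂, hW₂, Matrix.add_apply, Matrix.single_apply_same]
  rw [h1, h2] at hhd
  have hG₁det : G₁.det = 1 + ι := by rw [hιdef]; ring
  have hZ₀det : Z₀.det = 1 + i₀ := by rw [hi₀def]; ring
  rw [hG₁det, hZ₀det, ← mul_assoc, ← mul_assoc] at hhd
  have hh := hd'.mul_left_injective hhd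
  have e1 : ι * ι = 0 := mul_eq_zero_of_mem I hI hι hι
  have e2 : i₀ * i₀ = 0 := mul_eq_zero_of_mem I hI hi₀ hi₀
  have e3 : ι * t₀ = 0 := mul_eq_zero_of_mem I hI hι ht₀
  refine ⟨i₀ - ι, I.sub_mem hi₀ hι, ?_⟩
  rw [← ht, ← ht₀def]
  linear_combination hh - 2 * e3 - (u + t₀) * e1 + u * e2

/-- lifting in the semi-diagonal situation -/
theorem sd_lift (hn : Odd (n + 1)) (hI : I ^ 2 = ⊥)
    (W : Matrix (Fin (n + 1)) (Fin (n + 1)) C) (k : Fin (n + 1))
    (hrow : ∀ i, i ≠ k → W i k + W k i = 0)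
    (hd' : IsUnit ((W + Wᵀ).submatrix k.succAbove k.succAbove).det)
    (Z₀ : Matrix (Fin (n + 1)) (Fin (n + 1)) C) (hdet : Z₀.det - 1 ∈ I)
    (hq : ∀ y, qf W (Z₀ *ᵥ y) - qf W y ∈ I) :
    ∃ δ : Matrix (Fin (n + 1)) (Fin (n + 1)) C, (∀ i j, δ i j ∈ I) ∧
      ∀ y, qf W ((Z₀ + δ) *ᵥ y) = qf W y := by
  obtain ⟨κ, hκ, hobs⟩ := sd_obstruction I hn hI W k hrow hd' Z₀ hdet hq
  set S := W + Wᵀ with hS
  have hSrow : ∀ j, j ≠ k → S k j = 0 := fun j hj => by
    rw [hS, Matrix.add_apply, Matrix.transpose_apply, add_comm]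
    exact hrow j hj
  have hSkk : S k k = 2 * W k k := by
    rw [hS, Matrix.add_apply, Matrix.transpose_apply]; ring
  let t : QuadraticForm C (Fin (n + 1) → C) := -((qf W).comp (Matrix.toLin' Z₀) - qf W)
  have ht : ∀ y, t y = -(qf W (Z₀ *ᵥ y) - qf W y) := fun y => by
    simp only [t, QuadraticMap.neg_apply, _root_.sub_apply, QuadraticMap.comp_apply,
      Matrix.toLin'_apply]
  have htI : ∀ y, t y ∈ I := fun y => by rw [ht]; exact I.neg_mem (hq y)
  have htk : t (Pi.single k 1) = 2 * W k k * (-κ) := by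
    rw [ht, hobs]; ring
  obtain ⟨E, hE, hsolve⟩ := sd_solve I S k (W k k) hSrow hSkk hd' t htI (-κ) (I.neg_mem hκ) htk
  refine ⟨Z₀ * E, mul_mem_of_right I _ _ hE, correction_of_solve I hI W Z₀ E hE hq ?_⟩
  intro y
  rw [← hS, hsolve, ht]

end Obs

end Groth.Agent.Lib.Helper15.Orth
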