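import Mathlib
import Groth.Agent.Lib.Helper15.OrthOdd3

/-! Reduction to the semi-diagonal situation when a principal polar minor is a unit. -/

set_option autoImplicit false
set_option linter.style.haveILetI false

namespace Groth.Agent.Lib.Helper15.Orth

open Matrix
open Groth.Agent.Lib.Helper8.QuadCtr
open Groth.Agent.Lib.Helper15.Rep
open Groth.Agent.Lib.Helper2.HalfDisc

universe u

section Red
variable {C : Type u} [CommRing C] {n : ℕ} (I : Ideal C)

/-- lifting when a principal minor of the polar matrix is a unit -/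
theorem odd_lift (hn : Odd (n + 1)) (hI : I ^ 2 = ⊥)
    (W : Matrix (Fin (n + 1)) (Fin (n + 1)) C) (k : Fin (n + 1))
    (hd' : IsUnit ((W + Wᵀ).submatrix k.succAbove k.succAbove).det)
    (X₀ : Matrix (Fin (n + 1)) (Fin (n + 1)) C) (hdet : X₀.det - 1 ∈ I)
    (hq : ∀ y, qf W (X₀ *ᵥ y) - qf W y ∈ I) :
    ∃ δ : Matrix (Fin (n + 1)) (Fin (n + 1)) C, (∀ i j, δ i j ∈ I) ∧
      ∀ y, qf W ((X₀ + δ) *ᵥ y) = qf W y := by
  classical
  set N := W + Wᵀ with hN
  -- the kernel-like vector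
  set v : Fin (n + 1) → C := fun i => N.adjugate i k with hv
  have hNv : N *ᵥ v = N.det • Pi.single k 1 := by
    funext a
    have := congrFun (congrFun (Matrix.mul_adjugate N) a) k
    rw [Matrix.mul_apply] at this
    rw [Matrix.mulVec, dotProduct]
    simp only [hv]
    rw [this, Matrix.smul_apply, Pi.smul_apply, Matrix.one_apply, Pi.single_apply]
  have hvk : v k = (N.submatrix k.succAbove k.succAbove).det := by
    simp only [hv]
    rw [Matrix.adjugate_fin_succ_eq_det_submatrix]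
    have : ((-1 : C)) ^ ((k : ℕ) + (k : ℕ)) = 1 := by
      rw [← two_mul, pow_mul]; simp
    rw [this, one_mul]
  set G : Matrix (Fin (n + 1)) (Fin (n + 1)) C := (1 : Matrix _ _ C).updateCol k v with hG
  have hGdet : G.det = v k := by
    rw [hG, ← Matrix.cramer_apply, Matrix.cramer_one]; rfl
  have hGu : IsUnit G.det := by rw [hGdet, hvk]; exact hd'
  have hGk : ∀ a, G a k = v a := fun a => by rw [hG, Matrix.updateCol_self]
  have hGne : ∀ a j, j ≠ k → G a j = (1 : Matrix _ _ C) a j := fun a j hj => by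
    rw [hG, Matrix.updateCol_ne hj]
  have hR : ∀ (M : Matrix (Fin (n + 1)) (Fin (n + 1)) C) a j, j ≠ k → (M * G) a j = M a j := by
    intro M a j hj
    rw [Matrix.mul_apply]
    simp only [hGne _ j hj]
    rw [← Matrix.mul_apply, Matrix.mul_one]
  have hL : ∀ (M : Matrix (Fin (n + 1)) (Fin (n + 1)) C) i a, i ≠ k → (Gᵀ * M) i a = M i a := by
    intro M i a hi
    rw [Matrix.mul_apply]
    simp only [Matrix.transpose_apply, hGne _ i hi]
    simp [Matrix.one_apply]
  have hNG : ∀ a, (N * G) a k = N.det * (Pi.single k (1 : C) : Fin (n + 1) → C) a := by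
    intro a
    rw [Matrix.mul_apply]
    simp only [hGk]
    have := congrFun hNv a
    rw [Matrix.mulVec, dotProduct] at this
    rw [this, Pi.smul_apply, smul_eq_mul]
  set W' := Gᵀ * W * G with hW'
  have hN' : W' + W'ᵀ = Gᵀ * N * G := by
    simp [hW', hN, Matrix.transpose_mul, Matrix.mul_add, Matrix.add_mul, Matrix.mul_assoc]
  have h1 : ∀ i, i ≠ k → W' i k + W' k i = 0 := by
    intro i hi
    have : (W' + W'ᵀ) i k = 0 := by
      rw [hN', Matrix.mul_assoc, hL _ _ _ hi, hNG, Pi.single_eq_of_ne hi, mul_zero]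
    simpa [Matrix.add_apply, Matrix.transpose_apply] using this
  have h3 : (W' + W'ᵀ).submatrix k.succAbove k.succAbove
      = N.submatrix k.succAbove k.succAbove := by
    refine Matrix.ext fun a b => ?_
    rw [hN', Matrix.submatrix_apply, Matrix.submatrix_apply, hR _ _ _ (Fin.succAbove_ne k b),
      hL _ _ _ (Fin.succAbove_ne k a)]
  have hd'' : IsUnit ((W' + W'ᵀ).submatrix k.succAbove k.succAbove).det := by rw [h3]; exact hd'
  have e1 : G * G⁻¹ = 1 := Matrix.mul_nonsing_inv _ hGu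
  have e2 : G⁻¹ * G = 1 := Matrix.nonsing_inv_mul _ hGu
  set Z₀ := G⁻¹ * X₀ * G with hZ₀
  have hGZ : G * Z₀ = X₀ * G := by
    rw [hZ₀, ← Matrix.mul_assoc, ← Matrix.mul_assoc, e1, Matrix.one_mul]
  have hZdet : Z₀.det - 1 ∈ I := by
    have : Z₀.det = X₀.det := by
      rw [hZ₀, Matrix.det_mul, Matrix.det_mul, mul_right_comm, ← Matrix.det_mul, e2,
        Matrix.det_one, one_mul]
    rw [this]; exact hdet
  have hq' : ∀ y, qf W' (Z₀ *ᵥ y) - qf W' y ∈ I := by
    intro y
    rw [hW', qf_conj, qf_conj, Matrix.mulVec_mulVec, hGZ, ← Matrix.mulVec_mulVec]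
    exact hq _
  obtain ⟨δ', hδ', hiso⟩ := sd_lift I hn hI W' k h1 hd'' Z₀ hZdet hq'
  refine ⟨G * δ' * G⁻¹, mul_mem_of_left I _ _ (mul_mem_of_right I _ _ hδ'), fun y => ?_⟩
  have hy : y = G *ᵥ (G⁻¹ *ᵥ y) := by rw [Matrix.mulVec_mulVec, e1, Matrix.one_mulVec]
  have e3 : (X₀ + G * δ' * G⁻¹) * G = G * (Z₀ + δ') := by
    rw [Matrix.add_mul, Matrix.mul_add, hGZ, Matrix.mul_assoc (G * δ'), e2, Matrix.mul_one]
  have := hiso (G⁻¹ *ᵥ y)
  rw [hW', qf_conj, qf_conj, Matrix.mulVec_mulVec, ← e3, ← Matrix.mulVec_mulVec, ← hy] at this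
  exact this

end Red

end Groth.Agent.Lib.Helper15.Orth
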