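import Mathlib
import Groth.Agent.Lib.Helper15.OrthOdd4

/-! Formal smoothness from local lifting; lifting points of the naive special orthogonal group. -/

set_option autoImplicit false
set_option linter.style.haveILetI false

namespace Groth.Agent.Lib.Helper15.Orth

open Matrix
open Groth.Agent.Lib.Helper8.QuadCtr
open Groth.Agent.Lib.Helper15.Rep
open Groth.Agent.Lib.Helper2.HalfDisc

universe u

section Local
variable {R : Type u} [CommRing R] {n : ℕ}

theorem formallySmooth_away_of_lift {H : Type u} [CommRing H] [Algebra R H] (f : R)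
    (Hl : ∀ (C : Type u) [CommRing C] [Algebra R C] (I : Ideal C), I ^ 2 = ⊥ →
      IsUnit (algebraMap R C f) → ∀ g₀ : H →ₐ[R] C ⧸ I,
        ∃ g₁ : H →ₐ[R] C, (Ideal.Quotient.mkₐ R I).comp g₁ = g₀) :
    Algebra.FormallySmooth R (Localization.Away (algebraMap R H f)) := by
  apply Algebra.FormallySmooth.of_comp_surjective
  intro C _ _ I hI g
  have hfu' : IsUnit (algebraMap R (C ⧸ I) f) := by
    have h1 : algebraMap R (C ⧸ I) f =
        g (algebraMap H (Localization.Away (algebraMap R H f)) (algebraMap R H f)) := by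
      rw [← IsScalarTower.algebraMap_apply R H (Localization.Away (algebraMap R H f)),
        AlgHom.commutes]
    rw [h1]
    exact (IsLocalization.Away.algebraMap_isUnit (algebraMap R H f)).map g
  have hfu : IsUnit (algebraMap R C f) := by
    rw [← IsNilpotent.isUnit_quotient_mk_iff (I := I) ⟨2, hI⟩]
    exact hfu'
  obtain ⟨g₁, hg₁⟩ := Hl C I hI hfu
    (g.comp (Algebra.algHom R H (Localization.Away (algebraMap R H f))))
  have hunits : ∀ y : Submonoid.powers (algebraMap R H f), IsUnit (g₁ y) := by
    rintro ⟨y, m, rfl⟩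
    rw [map_pow]
    refine IsUnit.pow _ ?_
    rw [AlgHom.commutes]
    exact hfu
  refine ⟨IsLocalization.liftAlgHom (M := Submonoid.powers (algebraMap R H f))
    (S := Localization.Away (algebraMap R H f)) hunits, ?_⟩
  apply IsLocalization.algHom_ext (Submonoid.powers (algebraMap R H f))
  rw [← hg₁]
  ext x
  simp only [AlgHom.comp_apply]
  congr 1
  exact IsLocalization.lift_eq _ x

/-- formal smoothness of a zero locus from lifting over algebras in which one of a family of
elements spanning the unit ideal becomes a unit -/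
theorem formallySmooth_of_span_lift (rels : Set (MvPolynomial (Idx n) R)) (hfin : rels.Finite)
    (F : Set R) (hF : Ideal.span F = ⊤)
    (H : ∀ f ∈ F, ∀ (C : Type u) [CommRing C] [Algebra R C] (I : Ideal C), I ^ 2 = ⊥ →
      IsUnit (algebraMap R C f) →
      ∀ a' : Idx n → C ⧸ I, (∀ p ∈ rels, MvPolynomial.aeval a' p = 0) →
        ∃ a : Idx n → C, (∀ p ∈ rels, MvPolynomial.aeval a p = 0) ∧ Ideal.Quotient.mk I ∘ a = a') :
    Algebra.FormallySmooth R (ZAlg R rels) := by
  haveI : Algebra.FinitePresentation R (ZAlg R rels) := ZAlg.finitePresentation hfin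
  rw [← Algebra.smoothLocus_eq_univ_iff, Set.eq_univ_iff_forall]
  intro p
  have hex : ∃ f ∈ F, algebraMap R (ZAlg R rels) f ∉ p.asIdeal := by
    by_contra hcon
    push Not at hcon
    have hle : Ideal.span F ≤ Ideal.comap (algebraMap R (ZAlg R rels)) p.asIdeal :=
      Ideal.span_le.mpr (fun f hf => hcon f hf)
    rw [hF, top_le_iff, Ideal.comap_eq_top_iff] at hle
    exact p.isPrime.ne_top hle
  obtain ⟨f, hf, hfp⟩ := hex
  have hsub : ↑(PrimeSpectrum.basicOpen (algebraMap R (ZAlg R rels) f)) ⊆
      Algebra.smoothLocus R (ZAlg R rels) := by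
    rw [Algebra.basicOpen_subset_smoothLocus_iff]
    apply formallySmooth_away_of_lift
    intro C _ _ I hI hfu g₀
    obtain ⟨a, ha, hmk⟩ := H f hf C I hI hfu (ZAlg.coord g₀) (ZAlg.coord_mem g₀)
    refine ⟨ZAlg.ofPoint a ha, ?_⟩
    apply ZAlg.hom_ext
    rw [ZAlg.coord_comp, ZAlg.coord_ofPoint]
    exact hmk
  exact hsub hfp

end Local

end Groth.Agent.Lib.Helper15.Orth
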