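import Mathlib
import Groth.Agent.Lib.Helper15.OrthOdd5

/-! Lifting points of the naive special orthogonal group; smoothness. -/

set_option autoImplicit false
set_option linter.style.haveILetI false

namespace Groth.Agent.Lib.Helper15.Orth

open Matrix CategoryTheory AlgebraicGeometry
open Groth.Agent.Lib.Helper8.QuadCtr
open Groth.Agent.Lib.Helper15.Rep
open Groth.Agent.Lib.Helper2.HalfDisc
open QuadGrp

universe u

section Pt
variable {R : Type u} [CommRing R] {n : ℕ} (Q : QuadraticForm R (Fin n → R))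
variable {C : Type u} [CommRing C] [Algebra R C]

lemma qc_eq_qf : qc Q C = qf ((bmat Q).map (algebraMap R C)) := rfl

lemma smat_map_eq :
    (smat Q).map (algebraMap R C) =
      (bmat Q).map (algebraMap R C) + ((bmat Q).map (algebraMap R C))ᵀ := by
  rw [smat]
  ext i j
  simp

lemma hd_bmat_map :
    hd ((bmat Q).map (algebraMap R C)) =
      algebraMap R C (QuadGrp.halfDisc (Pi.basisFun R (Fin n)) (LinearEquiv.refl R R) Q) := by
  rw [halfDisc_eq_hd_bmat, ← hd_map, RingHom.mapMatrix_apply]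

variable (I : Ideal C)

/-- from a matrix congruent to a point of `SO'` modulo `I` which is an isometry, produce
a point of `SO'` -/
theorem sorth'_point_of_isometry (hn : Odd n) (hI : I ^ 2 = ⊥)
    (hsemi : IsUnit (QuadGrp.halfDisc (Pi.basisFun R (Fin n)) (LinearEquiv.refl R R) Q))
    (a' : Idx n → C ⧸ I) (ha' : ∀ p ∈ relsSO' Q, MvPolynomial.aeval a' p = 0)
    (X₁ : Matrix (Fin n) (Fin n) C) (hX₁map : X₁.map (Ideal.Quotient.mk I) = Xm a')
    (hiso : ∀ y, qc Q C (X₁ *ᵥ y) = qc Q C y) :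
    ∃ a : Idx n → C, (∀ p ∈ relsSO' Q, MvPolynomial.aeval a p = 0) ∧
      Ideal.Quotient.mk I ∘ a = a' := by
  rw [relsSO'_iff] at ha'
  obtain ⟨⟨⟨h1, h2⟩, h3⟩, h4⟩ := ha'
  set W := (bmat Q).map (algebraMap R C) with hW
  have hWu : IsUnit (hd W) := by rw [hW, hd_bmat_map]; exact hsemi.map _
  obtain ⟨D₁, hD₁def⟩ : ∃ D₁, D₁ = X₁.det := ⟨_, rfl⟩
  have hD₁ : D₁ - 1 ∈ I := by
    rw [← Ideal.Quotient.eq_zero_iff_mem, map_sub, map_one, hD₁def, RingHom.map_det,
      RingHom.mapMatrix_apply, hX₁map, h4, sub_self]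
  have hD₁sq : D₁ * D₁ = 1 := by
    have key : qf (X₁ᵀ * W * X₁) = qf W := by
      ext y
      rw [qf_conj]
      exact hiso y
    have := hd_eq_of_qf_eq key
    rw [hd_conj hn, ← hD₁def] at this
    have h5 : D₁ ^ 2 * hd W = 1 * hd W := by rw [this, one_mul]
    have := hWu.mul_left_injective h5
    rw [← this]; ring
  obtain ⟨m, hm⟩ := hn
  set X₂ := D₁ • X₁ with hX₂
  have hX₂det : X₂.det = 1 := by
    rw [hX₂, Matrix.det_smul, Fintype.card_fin, ← hD₁def, hm, ← pow_succ]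
    have : 2 * m + 1 + 1 = 2 * (m + 1) := by ring
    rw [this, pow_mul, pow_two, hD₁sq, one_pow]
  have hiso₂ : ∀ y, qc Q C (X₂ *ᵥ y) = qc Q C y := by
    intro y
    rw [hX₂, Matrix.smul_mulVec, QuadraticMap.map_smul, hD₁sq, one_smul, hiso]
  have hX₂map : X₂.map (Ideal.Quotient.mk I) = Xm a' := by
    rw [← hX₁map]
    ext i j
    rw [Matrix.map_apply, Matrix.map_apply, hX₂, Matrix.smul_apply, smul_eq_mul, map_mul]
    have : Ideal.Quotient.mk I D₁ = 1 := by
      rw [← sub_eq_zero, ← map_one (Ideal.Quotient.mk I), ← map_sub,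
        Ideal.Quotient.eq_zero_iff_mem]
      exact hD₁
    rw [this, one_mul]
  have hX₂u : IsUnit X₂.det := by rw [hX₂det]; exact isUnit_one
  have e1 : X₂ * X₂⁻¹ = 1 := Matrix.mul_nonsing_inv _ hX₂u
  have e2 : X₂⁻¹ * X₂ = 1 := Matrix.nonsing_inv_mul _ hX₂u
  have hYmap : (X₂⁻¹).map (Ideal.Quotient.mk I) = Ym a' := by
    have f1 : (X₂⁻¹).map (Ideal.Quotient.mk I) * Xm a' = 1 := by
      rw [← hX₂map, ← RingHom.mapMatrix_apply, ← RingHom.mapMatrix_apply, ← map_mul, e2, map_one]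
    calc (X₂⁻¹).map (Ideal.Quotient.mk I)
        = (X₂⁻¹).map (Ideal.Quotient.mk I) * (Xm a' * Ym a') := by rw [h1, mul_one]
      _ = Ym a' := by rw [← mul_assoc, f1, one_mul]
  refine ⟨ptOf X₂ X₂⁻¹, ?_, ?_⟩
  · rw [relsSO'_iff, Xm_ptOf, Ym_ptOf]
    exact ⟨⟨⟨e1, e2⟩, hiso₂⟩, hX₂det⟩
  · rw [← ptOf_Xm_Ym a', ← hX₂map, ← hYmap]
    funext s
    rcases s with ⟨i, j⟩ | ⟨i, j⟩ <;> rfl

/-- an arbitrary lift of a point of `SO'` -/
lemma exists_matrix_lift (a' : Idx n → C ⧸ I) (ha' : ∀ p ∈ relsSO' Q, MvPolynomial.aeval a' p = 0) :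
    ∃ X₀ : Matrix (Fin n) (Fin n) C, X₀.map (Ideal.Quotient.mk I) = Xm a' ∧ X₀.det - 1 ∈ I ∧
      ∀ y, qc Q C (X₀ *ᵥ y) - qc Q C y ∈ I := by
  rw [relsSO'_iff] at ha'
  obtain ⟨⟨⟨h1, h2⟩, h3⟩, h4⟩ := ha'
  obtain ⟨a₀, ha₀⟩ : ∃ a₀ : Idx n → C, Ideal.Quotient.mk I ∘ a₀ = a' :=
    ⟨fun s => Function.surjInv Ideal.Quotient.mk_surjective (a' s), by
      funext s; exact Function.surjInv_eq Ideal.Quotient.mk_surjective (a' s)⟩
  have hX₀map : (Xm a₀).map (Ideal.Quotient.mk I) = Xm a' := by rw [map_mk_Xm, ha₀]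
  refine ⟨Xm a₀, hX₀map, ?_, ?_⟩
  · rw [← Ideal.Quotient.eq_zero_iff_mem, map_sub, map_one, RingHom.map_det,
      RingHom.mapMatrix_apply, hX₀map, h4, sub_self]
  · intro y
    rw [← Ideal.Quotient.eq_zero_iff_mem, map_sub, ← qc_mk, ← qc_mk, sub_eq_zero]
    have : Ideal.Quotient.mk I ∘ (Xm a₀ *ᵥ y) = Xm a' *ᵥ (Ideal.Quotient.mk I ∘ y) := by
      funext k
      rw [Function.comp_apply, RingHom.map_mulVec, hX₀map]
    rw [this, h3]

lemma map_add_of_mem (X₀ δ : Matrix (Fin n) (Fin n) C) (hδ : ∀ i j, δ i j ∈ I) :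
    (X₀ + δ).map (Ideal.Quotient.mk I) = X₀.map (Ideal.Quotient.mk I) := by
  ext i j
  rw [Matrix.map_apply, Matrix.map_apply, Matrix.add_apply, map_add,
    Ideal.Quotient.eq_zero_iff_mem.mpr (hδ i j), add_zero]

end Pt

section Odd
variable {R : Type u} [CommRing R] {n : ℕ} (Q : QuadraticForm R (Fin (n + 1) → R))
variable {C : Type u} [CommRing C] [Algebra R C] (I : Ideal C)

/-- lifting points of `SO'` in odd rank, when `2` or a principal minor becomes a unit -/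
theorem lift_point_sorth'_odd (hn : Odd (n + 1)) (hI : I ^ 2 = ⊥)
    (hsemi : IsUnit (QuadGrp.halfDisc (Pi.basisFun R (Fin (n + 1))) (LinearEquiv.refl R R) Q))
    (hloc : IsUnit (algebraMap R C 2) ∨ ∃ k : Fin (n + 1),
      IsUnit (algebraMap R C ((smat Q).submatrix k.succAbove k.succAbove).det))
    (a' : Idx (n + 1) → C ⧸ I) (ha' : ∀ p ∈ relsSO' Q, MvPolynomial.aeval a' p = 0) :
    ∃ a : Idx (n + 1) → C, (∀ p ∈ relsSO' Q, MvPolynomial.aeval a p = 0) ∧
      Ideal.Quotient.mk I ∘ a = a' := by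
  obtain ⟨X₀, hX₀map, hdet, hq⟩ := exists_matrix_lift Q I a' ha'
  set W := (bmat Q).map (algebraMap R C) with hW
  have hWu : IsUnit (hd W) := by rw [hW, hd_bmat_map]; exact hsemi.map _
  have hS : (smat Q).map (algebraMap R C) = W + Wᵀ := smat_map_eq Q
  have hex : ∃ δ : Matrix (Fin (n + 1)) (Fin (n + 1)) C, (∀ i j, δ i j ∈ I) ∧
      ∀ y, qf W ((X₀ + δ) *ᵥ y) = qf W y := by
    rcases hloc with h2 | ⟨k, hk⟩
    · refine unit_lift I hI W ?_ X₀ hq
      rw [← two_mul_hd hn]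
      have : (2 : C) = algebraMap R C 2 := (map_ofNat (algebraMap R C) 2).symm
      rw [this]
      exact h2.mul hWu
    · refine odd_lift I hn hI W k ?_ X₀ hdet hq
      have : (W + Wᵀ).submatrix k.succAbove k.succAbove =
          (algebraMap R C).mapMatrix ((smat Q).submatrix k.succAbove k.succAbove) := by
        rw [← hS]; rfl
      rw [this, ← RingHom.map_det]
      exact hk
  obtain ⟨δ, hδ, hiso⟩ := hex
  exact sorth'_point_of_isometry Q I hn hI hsemi a' ha' (X₀ + δ)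
    (by rw [map_add_of_mem I X₀ δ hδ, hX₀map]) hiso

/-- `2` and the principal minors of the polar matrix span the unit ideal -/
theorem span_minors (hn : Odd (n + 1))
    (hsemi : IsUnit (QuadGrp.halfDisc (Pi.basisFun R (Fin (n + 1))) (LinearEquiv.refl R R) Q)) :
    Ideal.span ({(2 : R)} ∪ Set.range (fun k : Fin (n + 1) =>
      ((smat Q).submatrix k.succAbove k.succAbove).det)) = ⊤ := by
  by_contra hne
  obtain ⟨m, hm, hle⟩ := Ideal.exists_le_maximal _ hne
  letI : Field (R ⧸ m) := Ideal.Quotient.field m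
  have h2k : (2 : R ⧸ m) = 0 := by
    have : (2 : R ⧸ m) = Ideal.Quotient.mk m 2 := (map_ofNat (Ideal.Quotient.mk m) 2).symm
    rw [this, Ideal.Quotient.eq_zero_iff_mem]
    exact hle (Ideal.subset_span (Or.inl rfl))
  obtain ⟨v₀, j₀, -, -, -, hminor⟩ := exists_radical_vector Q hn (R ⧸ m) h2k hsemi
  apply hminor
  have : ((smat Q).map (algebraMap R (R ⧸ m))).submatrix j₀.succAbove j₀.succAbove =
      (algebraMap R (R ⧸ m)).mapMatrix ((smat Q).submatrix j₀.succAbove j₀.succAbove) := rfl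
  rw [this, ← RingHom.map_det]
  exact Ideal.Quotient.eq_zero_iff_mem.mpr (hle (Ideal.subset_span (Or.inr ⟨j₀, rfl⟩)))

theorem formallySmooth_sorth'_odd (hn : Odd (n + 1))
    (hsemi : IsUnit (QuadGrp.halfDisc (Pi.basisFun R (Fin (n + 1))) (LinearEquiv.refl R R) Q)) :
    Algebra.FormallySmooth R (ZAlg R (relsSO' Q)) := by
  refine formallySmooth_of_span_lift (relsSO' Q) (relsSO'_finite Q) _ (span_minors Q hn hsemi) ?_
  rintro f (hf | ⟨k, rfl⟩) C _ _ I hI hfu a' ha'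
  · rw [Set.mem_singleton_iff] at hf
    subst hf
    exact lift_point_sorth'_odd Q I hn hI hsemi (Or.inl hfu) a' ha'
  · exact lift_point_sorth'_odd Q I hn hI hsemi (Or.inr ⟨k, hfu⟩) a' ha'

end Odd

end Groth.Agent.Lib.Helper15.Orth
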