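import Mathlib
import Groth.Agent.Lib.Helper15.OrthOdd6

/-! Smoothness of the naive special orthogonal group in odd rank or when `2` is a unit. -/

set_option autoImplicit false
set_option linter.style.haveILetI false

namespace Groth.Agent.Lib.Helper15.Orth

open Matrix CategoryTheory AlgebraicGeometry
open Groth.Agent.Lib.Helper8.QuadCtr
open Groth.Agent.Lib.Helper15.Rep
open Groth.Agent.Lib.Helper2.HalfDisc
open QuadGrp

universe u

section Two
variable {R : Type u} [CommRing R] {n : ℕ} (Q : QuadraticForm R (Fin n → R))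
variable {C : Type u} [CommRing C] [Algebra R C] (I : Ideal C)

lemma symm_eq_of_qf_eq {A B : Matrix (Fin n) (Fin n) C} (h : qf A = qf B) : A + Aᵀ = B + Bᵀ := by
  ext i j
  have h1 : (A + Aᵀ) i j = QuadraticMap.polar (qf A) (Pi.single i 1) (Pi.single j 1) := by
    rw [polar_qf_single]; rfl
  have h2 : (B + Bᵀ) i j = QuadraticMap.polar (qf B) (Pi.single i 1) (Pi.single j 1) := by
    rw [polar_qf_single]; rfl
  rw [h1, h2, h]

/-- lifting points of `SO'` when `2` is a unit and the polar form is perfect -/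
theorem lift_point_sorth'_two (hI : I ^ 2 = ⊥) (hS : IsUnit (smat Q).det) (h2 : IsUnit (2 : R))
    (a' : Idx n → C ⧸ I) (ha' : ∀ p ∈ relsSO' Q, MvPolynomial.aeval a' p = 0) :
    ∃ a : Idx n → C, (∀ p ∈ relsSO' Q, MvPolynomial.aeval a p = 0) ∧
      Ideal.Quotient.mk I ∘ a = a' := by
  have haO : ∀ p ∈ relsO Q, MvPolynomial.aeval a' p = 0 := fun p hp => ha' p (Or.inl hp)
  obtain ⟨a, ha, hmk⟩ := lift_point_orth Q I hI hS a' haO
  refine ⟨a, ?_, hmk⟩
  rw [relsSO'_iff] at ha' ⊢
  rw [relsO_iff] at ha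
  refine ⟨ha, ?_⟩
  obtain ⟨-, hiso⟩ := ha
  obtain ⟨-, h4⟩ := ha'
  set W := (bmat Q).map (algebraMap R C) with hW
  have hSW : (smat Q).map (algebraMap R C) = W + Wᵀ := smat_map_eq Q
  have hSu : IsUnit (W + Wᵀ).det := by
    rw [← hSW]
    have : ((smat Q).map (algebraMap R C)).det = algebraMap R C (smat Q).det := by
      rw [← RingHom.mapMatrix_apply, ← RingHom.map_det]
    rw [this]
    exact hS.map _
  obtain ⟨d, hddef⟩ : ∃ d, d = (Xm a).det := ⟨_, rfl⟩
  have hd1 : d - 1 ∈ I := by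
    rw [← Ideal.Quotient.eq_zero_iff_mem, map_sub, map_one, hddef, RingHom.map_det,
      RingHom.mapMatrix_apply, map_mk_Xm, hmk, h4, sub_self]
  have hdsq : d * d = 1 := by
    have key : qf ((Xm a)ᵀ * W * Xm a) = qf W := by
      ext y
      rw [qf_conj]
      exact hiso y
    have h5 := symm_eq_of_qf_eq key
    have h6 : (Xm a)ᵀ * W * Xm a + ((Xm a)ᵀ * W * Xm a)ᵀ = (Xm a)ᵀ * (W + Wᵀ) * Xm a := by
      simp [Matrix.transpose_mul, Matrix.mul_add, Matrix.add_mul, Matrix.mul_assoc]
    rw [h6] at h5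
    have h7 := congrArg Matrix.det h5
    rw [Matrix.det_mul, Matrix.det_mul, Matrix.det_transpose, ← hddef] at h7
    have h8 : (d * d) * (W + Wᵀ).det = 1 * (W + Wᵀ).det := by linear_combination h7
    exact hSu.mul_left_injective h8
  have h2C : IsUnit (2 : C) := by
    have : (2 : C) = algebraMap R C 2 := (map_ofNat (algebraMap R C) 2).symm
    rw [this]; exact h2.map _
  have hsq : (d - 1) * (d - 1) = 0 := mul_eq_zero_of_mem I hI hd1 hd1
  have h9 : 2 * (d - 1) = 2 * 0 := by linear_combination hdsq - hsq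
  have := h2C.mul_right_injective h9
  rw [← hddef]
  exact sub_eq_zero.mp this

end Two

section Final
variable {R : Type u} [CommRing R] {n : ℕ} (Q : QuadraticForm R (Fin n → R))
variable {G : Over (Spec (CommRingCat.of R))} [GrpObj G]

theorem formallySmooth_sorth' (hn : 1 ≤ n)
    (hQ : IsNondeg (Pi.basisFun R (Fin n)) (LinearEquiv.refl R R) Q)
    (h : Odd n ∨ IsUnit (2 : R)) : Algebra.FormallySmooth R (ZAlg R (relsSO' Q)) := by
  rcases Nat.even_or_odd n with he | ho
  · have h2 : IsUnit (2 : R) := by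
      rcases h with h | h
      · exact absurd he (Nat.not_even_iff_odd.mpr h)
      · exact h
    have hS : IsUnit (smat Q).det := isUnit_smat_det_of_isNondeg Q hQ (Or.inl he)
    exact formallySmooth_of_lift _ fun _ _ _ I hI a' ha' =>
      lift_point_sorth'_two Q I hI hS h2 a' ha'
  · obtain ⟨n', rfl⟩ : ∃ n', n = n' + 1 := ⟨n - 1, by omega⟩
    exact formallySmooth_sorth'_odd Q ho (hQ.2 ho)

theorem smooth_sorth'Rep (hn : 1 ≤ n)
    (hQ : IsNondeg (Pi.basisFun R (Fin n)) (LinearEquiv.refl R R) Q) (D : SOrth'Rep Q G)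
    (h : Odd n ∨ IsUnit (2 : R)) : Smooth G.hom :=
  (((cutOut_sorth' Q).algPts D).smooth_iff).mpr
    { formallySmooth := formallySmooth_sorth' Q hn hQ h
      finitePresentation := ZAlg.finitePresentation (relsSO'_finite Q) }

end Final

end Groth.Agent.Lib.Helper15.Orth
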