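import Mathlib
import Groth.Agent.Lib.Helper15.CliffOdd3
import Groth.Agent.Lib.Helper15.CliffSmooth3
import Groth.Agent.Lib.Helper15.OrthOdd7
import Groth.Agent.Lib.Helper15.ClPin2
import Groth.Agent.Lib.Helper15.ClOddGrp

/-! Lifting points of the Clifford group in odd rank along square-zero extensions. -/

set_option autoImplicit false
set_option linter.style.haveILetI false

namespace Groth.Agent.Lib.Helper15.CliffRep

open CliffordAlgebra TensorProduct QuadGrp Matrix CategoryTheory AlgebraicGeometry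
open Groth.Agent.Lib.Helper15.Cl
open Groth.Agent.Lib.Helper15.Rep
open Groth.Agent.Lib.Helper15.Orth
open Groth.Agent.Lib.Helper15.Azumaya
open Groth.Agent.Lib.Helper8.QuadCtr

universe u

section LiftIso
variable {R : Type u} [CommRing R] {n : ℕ} (Q : QuadraticForm R (Fin (n + 1) → R))
variable {C : Type u} [CommRing C] [Algebra R C] (I : Ideal C)

theorem lift_isometry_odd (hn : Odd (n + 1)) (hI : I ^ 2 = ⊥)
    (hsemi : IsUnit (QuadGrp.halfDisc (Pi.basisFun R (Fin (n + 1))) (LinearEquiv.refl R R) Q))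
    (hloc : IsUnit (algebraMap R C 2) ∨ ∃ k : Fin (n + 1),
      IsUnit (algebraMap R C ((smat Q).submatrix k.succAbove k.succAbove).det))
    (g₀ : ((C ⧸ I) ⊗[R] (Fin (n + 1) → R)) ≃ₗ[C ⧸ I] ((C ⧸ I) ⊗[R] (Fin (n + 1) → R)))
    (hg₀ : g₀ ∈ sorth' Q (C ⧸ I)) :
    ∃ g : (C ⊗[R] (Fin (n + 1) → R)) ≃ₗ[C] (C ⊗[R] (Fin (n + 1) → R)),
      (∀ v, baseChangeForm C Q (g v) = baseChangeForm C Q v) ∧
      ∀ v, LinearMap.rTensor (Fin (n + 1) → R) (Ideal.Quotient.mkₐ R I).toLinearMap (g v) =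
        g₀ (LinearMap.rTensor (Fin (n + 1) → R) (Ideal.Quotient.mkₐ R I).toLinearMap v) := by
  set X₀ := matOf (C ⧸ I) g₀.toLinearMap with hX₀
  set Y₀ := matOf (C ⧸ I) g₀.symm.toLinearMap with hY₀
  have ha' : ∀ p ∈ relsSO' Q, MvPolynomial.aeval (ptOf X₀ Y₀) p = 0 :=
    ((cutOut_sorth' Q).mem_iff (C ⧸ I) g₀).mp hg₀
  obtain ⟨a, ha, hmk⟩ := lift_point_sorth'_odd Q I hn hI hsemi hloc _ ha'
  rw [relsSO'_iff] at ha
  obtain ⟨⟨⟨h1, h2⟩, hiso⟩, -⟩ := ha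
  refine ⟨equivOfMat (R := R) (Xm a) (Ym a) h1 h2, fun v => ?_, fun v => ?_⟩
  · rw [baseChangeForm_apply, baseChangeForm_apply]
    change qc Q C (E C (ofMat (R := R) (Xm a) v)) = _
    rw [E_ofMat, hiso]
  · apply (E (R := R) (n := n + 1) (C ⧸ I)).injective
    rw [E_rTensor]
    change _ ∘ E C (ofMat (R := R) (Xm a) v) = E (C ⧸ I) (g₀.toLinearMap _)
    rw [E_ofMat, E_apply_eq, E_rTensor, ← hX₀]
    have hX : X₀ = (Xm a).map (Ideal.Quotient.mk I) := by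
      rw [map_mk_Xm, hmk, Xm_ptOf]
    rw [hX]
    funext i
    rw [Function.comp_apply]
    exact RingHom.map_mulVec (Ideal.Quotient.mk I) (Xm a) (E C v) i

end LiftIso

section Mem
variable {R : Type u} [CommRing R] {n : ℕ} (Q : QuadraticForm R (Fin n → R))
variable (A : Type u) [CommRing A] [Algebra R A]

lemma mem_sorth'_of_SO' (g : (A ⊗[R] (Fin n → R)) ≃ₗ[A] (A ⊗[R] (Fin n → R)))
    (hg : g ∈ SO' (baseChangeForm A Q)) : g ∈ sorth' Q A := by
  obtain ⟨hO, hdet⟩ := hg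
  refine ⟨?_, hdet⟩
  apply mem_orth_of_qc
  intro z
  rw [← baseChangeForm_apply, ← baseChangeForm_apply]
  exact hO z

end Mem

end Groth.Agent.Lib.Helper15.CliffRep

namespace Groth.Agent.Lib.Helper15.CliffRep

open CliffordAlgebra TensorProduct QuadGrp Matrix CategoryTheory AlgebraicGeometry
open Groth.Agent.Lib.Helper15.Cl
open Groth.Agent.Lib.Helper15.Rep
open Groth.Agent.Lib.Helper15.Orth
open Groth.Agent.Lib.Helper15.Azumaya
open Groth.Agent.Lib.Helper8.QuadCtr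

universe u

section Lift
variable {R : Type u} [CommRing R] (m : ℕ) (Q : QuadraticForm R (Fin (2 * m + 1) → R))
variable {C : Type u} [CommRing C] [Algebra R C] (I : Ideal C)

/-- lifting a locally homogeneous unit of the naive Clifford group, odd rank -/
theorem lift_unit_gpin_odd
    (hsemi : QuadGrp.IsSemiregular (Pi.basisFun R (Fin (2 * m + 1))) (LinearEquiv.refl R R) Q)
    (hI : I ^ 2 = ⊥)
    (hloc : IsUnit (algebraMap R C 2) ∨ ∃ k : Fin (2 * m + 1),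
      IsUnit (algebraMap R C ((smat Q).submatrix k.succAbove k.succAbove).det))
    (u₀ : (CliffordAlgebra (baseChangeForm (C ⧸ I) Q))ˣ)
    (hu₀mem : u₀ ∈ GPin' (baseChangeForm (C ⧸ I) Q)) (e : C) (he : e * e = e)
    (h0' : Ideal.Quotient.mk I e • (u₀ : CliffordAlgebra (baseChangeForm (C ⧸ I) Q)) ∈
      evenOdd (baseChangeForm (C ⧸ I) Q) 0)
    (h1' : (1 - Ideal.Quotient.mk I e) • (u₀ : CliffordAlgebra (baseChangeForm (C ⧸ I) Q)) ∈
      evenOdd (baseChangeForm (C ⧸ I) Q) 1) :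
    ∃ u : (CliffordAlgebra (baseChangeForm C Q))ˣ, u ∈ GPin' (baseChangeForm C Q) ∧
      e • (u : CliffordAlgebra (baseChangeForm C Q)) ∈ evenOdd (baseChangeForm C Q) 0 ∧
      (1 - e) • (u : CliffordAlgebra (baseChangeForm C Q)) ∈ evenOdd (baseChangeForm C Q) 1 ∧
      F Q (Ideal.Quotient.mkₐ R I) (u : CliffordAlgebra (baseChangeForm C Q)) = u₀ := by
  -- the structure of the Clifford algebra over `C`
  obtain ⟨R', _, _, hff, -, gs, hgs, hspan⟩ :=
    bc_odd_setup C Q m (Pi.basisFun R (Fin (2 * m + 1))) hsemi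
  haveI := hff
  obtain ⟨bC, hbC⟩ : ∃ bC, bC = (Pi.basisFun R (Fin (2 * m + 1))).baseChange C := ⟨_, rfl⟩
  haveI hAz0 : IsAzumaya C ↥(even (baseChangeForm C Q)) :=
    odd_even_isAzumaya (baseChangeForm C Q) m bC gs hgs hspan
  obtain ⟨N, c, z, w, hz, hw, hsum⟩ := odd_family m bC (baseChangeForm C Q) gs hgs hspan
  have hcen := odd_even_center m bC (baseChangeForm C Q) gs hgs hspan
  obtain ⟨π, hπ⟩ : ∃ π : C →ₐ[R] C ⧸ I, π = Ideal.Quotient.mkₐ R I := ⟨_, rfl⟩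
  have hπfun : ∀ c, π c = Ideal.Quotient.mk I c := fun c => by rw [hπ]; rfl
  rw [← hπ]
  obtain ⟨k0', k1'⟩ := isLocHomog_inv_aux _ u₀ _ h0' h1'
  -- lifts of the coordinates
  obtain ⟨xt, hxt⟩ : ∃ xt : CliffordAlgebra (baseChangeForm C Q), F Q π xt = u₀ := by
    refine ⟨elt Q C (fun s => Function.surjInv Ideal.Quotient.mk_surjective
      (Φ Q (C ⧸ I) (u₀ : CliffordAlgebra (baseChangeForm (C ⧸ I) Q)) s)), ?_⟩
    rw [F_elt]
    conv_rhs => rw [← elt_Φ Q (C ⧸ I) (u₀ : CliffordAlgebra (baseChangeForm (C ⧸ I) Q))]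
    congr 1
    funext s
    rw [Function.comp_apply, hπfun]
    exact Function.surjInv_eq Ideal.Quotient.mk_surjective _
  obtain ⟨yt, hyt⟩ : ∃ yt : CliffordAlgebra (baseChangeForm C Q), F Q π yt = ↑u₀⁻¹ := by
    refine ⟨elt Q C (fun s => Function.surjInv Ideal.Quotient.mk_surjective
      (Φ Q (C ⧸ I) (↑u₀⁻¹ : CliffordAlgebra (baseChangeForm (C ⧸ I) Q)) s)), ?_⟩
    rw [F_elt]
    conv_rhs => rw [← elt_Φ Q (C ⧸ I) (↑u₀⁻¹ : CliffordAlgebra (baseChangeForm (C ⧸ I) Q))]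
    congr 1
    funext s
    rw [Function.comp_apply, hπfun]
    exact Function.surjInv_eq Ideal.Quotient.mk_surjective _
  obtain ⟨x₁, hx₁⟩ : ∃ x₁, x₁ = hPart Q C e xt := ⟨_, rfl⟩
  obtain ⟨y₁, hy₁⟩ : ∃ y₁, y₁ = hPart Q C e yt := ⟨_, rfl⟩
  have hFx : F Q π x₁ = u₀ := by
    rw [hx₁, F_hPart, hxt, hπfun]
    exact hPart_eq Q (C ⧸ I) _ _ h0' h1'
  have hFy : F Q π y₁ = ↑u₀⁻¹ := by
    rw [hy₁, F_hPart, hyt, hπfun]
    exact hPart_eq Q (C ⧸ I) _ _ k0' k1'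
  have hx₁0 : e • x₁ ∈ evenOdd (baseChangeForm C Q) 0 := hx₁ ▸ hPart_even Q C e he _
  have hx₁1 : (1 - e) • x₁ ∈ evenOdd (baseChangeForm C Q) 1 := hx₁ ▸ hPart_odd Q C e he _
  have hzero : ∀ a b, F Q π a = 0 → F Q π b = 0 → a * b = 0 := by
    intro a b ha hb
    rw [hπ] at ha hb
    exact mul_eq_zero_of_F_eq_zero Q I hI a b ha hb
  -- `x₁` is a unit
  obtain ⟨ν, hν⟩ : ∃ ν, ν = x₁ * y₁ - 1 := ⟨_, rfl⟩
  obtain ⟨ν', hν'⟩ : ∃ ν', ν' = y₁ * x₁ - 1 := ⟨_, rfl⟩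
  have hFν : F Q π ν = 0 := by
    rw [hν, map_sub, map_mul, hFx, hFy, Units.mul_inv, map_one, sub_self]
  have hFν' : F Q π ν' = 0 := by
    rw [hν', map_sub, map_mul, hFx, hFy, Units.inv_mul, map_one, sub_self]
  have hνν : ν * ν = 0 := hzero _ _ hFν hFν
  have hν'ν' : ν' * ν' = 0 := hzero _ _ hFν' hFν'
  have hxy : x₁ * y₁ = 1 + ν := by rw [hν]; abel
  have hyx : y₁ * x₁ = 1 + ν' := by rw [hν']; abel
  have hr : x₁ * (y₁ * (1 - ν)) = 1 := by
    rw [← mul_assoc, hxy, mul_sub, mul_one, add_mul, one_mul, hνν]; abel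
  have hl : ((1 - ν') * y₁) * x₁ = 1 := by
    rw [mul_assoc, hyx, sub_mul, one_mul, mul_add, mul_one, hν'ν']; abel
  have hlr : (1 - ν') * y₁ = y₁ * (1 - ν) := by
    calc (1 - ν') * y₁ = ((1 - ν') * y₁) * (x₁ * (y₁ * (1 - ν))) := by rw [hr, mul_one]
      _ = (((1 - ν') * y₁) * x₁) * (y₁ * (1 - ν)) := by simp only [mul_assoc]
      _ = y₁ * (1 - ν) := by rw [hl, one_mul]
  let u₁ : (CliffordAlgebra (baseChangeForm C Q))ˣ :=
    ⟨x₁, y₁ * (1 - ν), hr, by rw [← hlr]; exact hl⟩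
  have hu₁val : (u₁ : CliffordAlgebra (baseChangeForm C Q)) = x₁ := rfl
  have hFu₁ : F Q π (u₁ : CliffordAlgebra (baseChangeForm C Q)) = u₀ := hFx
  have hFu₁inv : F Q π (↑u₁⁻¹ : CliffordAlgebra (baseChangeForm C Q)) = ↑u₀⁻¹ := by
    symm
    apply Units.inv_eq_of_mul_eq_one_right
    rw [← hFu₁, ← map_mul, Units.mul_inv, map_one]
  -- the isometry
  obtain ⟨g₀, hg₀def⟩ : ∃ g₀, g₀ = conjEquiv (baseChangeForm (C ⧸ I) Q) u₀ hu₀mem := ⟨_, rfl⟩
  have hg₀SO : g₀ ∈ sorth' Q (C ⧸ I) := by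
    rw [hg₀def]
    exact mem_sorth'_of_SO' Q (C ⧸ I) _ (conjEquiv_mem_SO'_of_odd (baseChangeForm (C ⧸ I) Q)
      ((Pi.basisFun R (Fin (2 * m + 1))).baseChange (C ⧸ I)) ⟨m, rfl⟩ u₀ hu₀mem)
  have hg₀ι : ∀ v, (u₀ : CliffordAlgebra (baseChangeForm (C ⧸ I) Q)) *
      ι (baseChangeForm (C ⧸ I) Q) v * (↑u₀⁻¹ : CliffordAlgebra (baseChangeForm (C ⧸ I) Q)) =
      ι (baseChangeForm (C ⧸ I) Q) (g₀ v) := by
    intro v; rw [hg₀def]; exact ι_conjEquiv _ u₀ hu₀mem v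
  obtain ⟨g, hg, hcompat⟩ := lift_isometry_odd Q I ⟨m, rfl⟩ hI hsemi hloc g₀ hg₀SO
  rw [← hπ] at hcompat
  obtain ⟨Γ, hΓ⟩ : ∃ Γ, Γ = equivOfIsometry (isoOfMem (baseChangeForm C Q) g hg) := ⟨_, rfl⟩
  have hΓι : ∀ v, Γ (ι (baseChangeForm C Q) v) = ι (baseChangeForm C Q) (g v) := by
    intro v; rw [hΓ]; exact equivOfIsometry_ι _ g hg v
  have hΓsymmι : ∀ v, Γ.symm (ι (baseChangeForm C Q) v) = ι (baseChangeForm C Q) (g.symm v) := by
    intro v
    rw [AlgEquiv.symm_apply_eq, hΓι, LinearEquiv.apply_symm_apply]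
  have hΓpar : ∀ (i : ZMod 2) (x : CliffordAlgebra (baseChangeForm C Q)),
      x ∈ evenOdd (baseChangeForm C Q) i → Γ x ∈ evenOdd (baseChangeForm C Q) i := by
    intro i x hx
    refine map_mem_graded (baseChangeForm C Q) (evenOdd (baseChangeForm C Q))
      (SetLike.one_mem_graded _) (fun i j a b ha hb => SetLike.mul_mem_graded ha hb)
      Γ.toAlgHom (fun v => ?_) i x hx
    change Γ (ι (baseChangeForm C Q) v) ∈ _
    rw [hΓι]
    exact ι_mem_evenOdd_one _ _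
  have hΓsymmpar : ∀ (i : ZMod 2) (x : CliffordAlgebra (baseChangeForm C Q)),
      x ∈ evenOdd (baseChangeForm C Q) i → Γ.symm x ∈ evenOdd (baseChangeForm C Q) i := by
    intro i x hx
    refine map_mem_graded (baseChangeForm C Q) (evenOdd (baseChangeForm C Q))
      (SetLike.one_mem_graded _) (fun i j a b ha hb => SetLike.mul_mem_graded ha hb)
      Γ.symm.toAlgHom (fun v => ?_) i x hx
    change Γ.symm (ι (baseChangeForm C Q) v) ∈ _
    rw [hΓsymmι]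
    exact ι_mem_evenOdd_one _ _
  have hFΓ : ∀ z, F Q π (Γ z) = (u₀ : CliffordAlgebra (baseChangeForm (C ⧸ I) Q)) * F Q π z *
      (↑u₀⁻¹ : CliffordAlgebra (baseChangeForm (C ⧸ I) Q)) := by
    have := ringHom_ext_clifford (baseChangeForm C Q) ((F Q π).comp Γ.toAlgHom.toRingHom)
      ((conjHom (C := C ⧸ I) u₀).toRingHom.comp (F Q π)) ?_ ?_
    · intro z
      exact RingHom.congr_fun this z
    · intro c
      change F Q π (Γ (algebraMap C _ c)) = conjHom (C := C ⧸ I) u₀ (F Q π (algebraMap C _ c))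
      rw [AlgEquiv.commutes, F_algebraMap, AlgHom.commutes]
    · intro v
      change F Q π (Γ (ι (baseChangeForm C Q) v)) =
        (u₀ : CliffordAlgebra (baseChangeForm (C ⧸ I) Q)) *
        F Q π (ι (baseChangeForm C Q) v) * (↑u₀⁻¹ : CliffordAlgebra (baseChangeForm (C ⧸ I) Q))
      rw [hΓι, F_ι, F_ι, hcompat, hg₀ι]
  -- the automorphism of the even part close to the identity
  have hθmem : ∀ x : ↥(even (baseChangeForm C Q)),
      (↑u₁⁻¹ : CliffordAlgebra (baseChangeForm C Q)) * Γ x.1 *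
        (u₁ : CliffordAlgebra (baseChangeForm C Q)) ∈ even (baseChangeForm C Q) := by
    intro x
    rw [mem_even_iff]
    exact conj_mem_evenOdd_of_locHomog _ u₁ e he hx₁0 hx₁1 0 _
      (hΓpar 0 _ ((mem_even_iff _ _).mp x.2))
  obtain ⟨θ, hθ⟩ : ∃ θ : ↥(even (baseChangeForm C Q)) →ₐ[C] ↥(even (baseChangeForm C Q)),
      ∀ x, (θ x : CliffordAlgebra (baseChangeForm C Q)) =
        (↑u₁⁻¹ : CliffordAlgebra (baseChangeForm C Q)) * Γ x.1 * u₁ := by
    refine ⟨((((conjHom (C := C) u₁⁻¹).comp Γ.toAlgHom).comp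
      (even (baseChangeForm C Q)).val).codRestrict (even (baseChangeForm C Q)) ?_), ?_⟩
    · intro x
      change (↑u₁⁻¹ : CliffordAlgebra (baseChangeForm C Q)) * Γ x.1 * ↑(u₁⁻¹)⁻¹ ∈ _
      rw [inv_inv]
      exact hθmem x
    · intro x
      change (↑u₁⁻¹ : CliffordAlgebra (baseChangeForm C Q)) * Γ x.1 * ↑(u₁⁻¹)⁻¹ = _
      rw [inv_inv]
  let N₀ : AddSubgroup ↥(even (baseChangeForm C Q)) :=
    ((F Q π).toAddMonoidHom.comp (even (baseChangeForm C Q)).val.toAddMonoidHom).ker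
  have hN₀ : ∀ x : ↥(even (baseChangeForm C Q)), x ∈ N₀ ↔ F Q π x.1 = 0 := fun x => Iff.rfl
  have hθN : ∀ x, θ x - x ∈ N₀ := by
    intro x
    rw [hN₀]
    change F Q π ((θ x : CliffordAlgebra (baseChangeForm C Q)) - x.1) = 0
    rw [map_sub, sub_eq_zero, hθ, map_mul, map_mul, hFu₁inv, hFΓ, hFu₁]
    simp only [mul_assoc, Units.inv_mul_cancel_left, Units.inv_mul, mul_one]
  obtain ⟨t₀, ht1, htθ⟩ := exists_intertwiner N₀
    (fun a ha b => by
      rw [hN₀] at ha ⊢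
      change F Q π (a.1 * b.1) = 0
      rw [map_mul, ha, zero_mul]) θ hθN
  obtain ⟨t, ht⟩ : ∃ t : CliffordAlgebra (baseChangeForm C Q), t = t₀.1 := ⟨_, rfl⟩
  have ht0 : t ∈ evenOdd (baseChangeForm C Q) 0 := by
    rw [ht]; exact (mem_even_iff _ _).mp t₀.2
  obtain ⟨w', hw'⟩ : ∃ w', w' = t - 1 := ⟨_, rfl⟩
  have hFw : F Q π w' = 0 := by
    rw [hw', ht]
    exact (hN₀ _).mp ht1
  have hww : w' * w' = 0 := hzero _ _ hFw hFw
  have htw : t = 1 + w' := by rw [hw']; abel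
  let tu : (CliffordAlgebra (baseChangeForm C Q))ˣ :=
    ⟨t, 1 - w', by rw [htw, mul_sub, mul_one, add_mul, one_mul, hww]; abel,
      by rw [htw, sub_mul, one_mul, mul_add, mul_one, hww]; abel⟩
  have htuval : (tu : CliffordAlgebra (baseChangeForm C Q)) = t := rfl
  -- conjugation by the lifted unit is `Γ` on the even part
  have hconj : ∀ a ∈ evenOdd (baseChangeForm C Q) 0,
      ((u₁ * tu : (CliffordAlgebra (baseChangeForm C Q))ˣ) :
        CliffordAlgebra (baseChangeForm C Q)) * a *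
        (↑(u₁ * tu)⁻¹ : CliffordAlgebra (baseChangeForm C Q)) = Γ a := by
    intro a ha
    have h1 := congrArg Subtype.val (htθ ⟨a, (mem_even_iff _ _).mpr ha⟩)
    change (θ ⟨a, _⟩ : CliffordAlgebra (baseChangeForm C Q)) * t₀.1 = t₀.1 * a at h1
    rw [hθ, ← ht] at h1
    rw [_root_.mul_inv_rev, Units.val_mul, Units.val_mul, htuval]
    have h3 : t * (↑tu⁻¹ : CliffordAlgebra (baseChangeForm C Q)) = 1 := by
      rw [← htuval, Units.mul_inv]
    calc (u₁ : CliffordAlgebra (baseChangeForm C Q)) * t * a *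
          ((↑tu⁻¹ : CliffordAlgebra (baseChangeForm C Q)) * ↑u₁⁻¹)
        = ↑u₁ * (t * a) * ((↑tu⁻¹ : CliffordAlgebra (baseChangeForm C Q)) * ↑u₁⁻¹) := by
          simp only [mul_assoc]
      _ = ↑u₁ * (↑u₁⁻¹ * Γ a * ↑u₁ * t) *
            ((↑tu⁻¹ : CliffordAlgebra (baseChangeForm C Q)) * ↑u₁⁻¹) := by rw [h1]
      _ = Γ a * (↑u₁ * (t * ↑tu⁻¹) * ↑u₁⁻¹) := by
        simp only [mul_assoc, Units.mul_inv_cancel_left]
      _ = Γ a := by
        rw [h3, mul_one, Units.mul_inv, mul_one]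
  have hconj' : ∀ a ∈ evenOdd (baseChangeForm C Q) 0,
      ((↑(u₁ * tu)⁻¹ : (CliffordAlgebra (baseChangeForm C Q))ˣ) :
        CliffordAlgebra (baseChangeForm C Q)) * a *
        (↑((u₁ * tu)⁻¹)⁻¹ : CliffordAlgebra (baseChangeForm C Q)) = Γ.symm a := by
    intro a ha
    rw [inv_inv]
    have h1 := hconj _ (hΓsymmpar 0 a ha)
    rw [AlgEquiv.apply_symm_apply] at h1
    calc (↑(u₁ * tu)⁻¹ : CliffordAlgebra (baseChangeForm C Q)) * a * ↑(u₁ * tu)
        = ↑(u₁ * tu)⁻¹ * (↑(u₁ * tu) * Γ.symm a * ↑(u₁ * tu)⁻¹) * ↑(u₁ * tu) := by rw [h1]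
      _ = Γ.symm a := by
        simp only [mul_assoc, Units.inv_mul_cancel_left, Units.inv_mul, mul_one]
  have humem : u₁ * tu ∈ GPin' (baseChangeForm C Q) := by
    apply mem_GPin'_of_conj
    · intro v
      exact conj_ι_of_even_conj _ (u₁ * tu) Γ g hΓι (hΓpar 1) hconj c z w hz hw hsum hcen v
    · intro v
      have := conj_ι_of_even_conj _ (u₁ * tu)⁻¹ Γ.symm g.symm hΓsymmι (hΓsymmpar 1) hconj'
        c z w hz hw hsum hcen v
      rw [inv_inv] at this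
      exact this
  refine ⟨u₁ * tu, humem, ?_, ?_, ?_⟩
  · rw [Units.val_mul, ← smul_mul_assoc]
    have := SetLike.mul_mem_graded hx₁0 ht0
    rwa [add_zero] at this
  · rw [Units.val_mul, ← smul_mul_assoc]
    have := SetLike.mul_mem_graded hx₁1 ht0
    rwa [add_zero] at this
  · rw [Units.val_mul, map_mul, hFu₁, htuval, htw, map_add, map_one, hFw, add_zero, mul_one]

end Lift

end Groth.Agent.Lib.Helper15.CliffRep
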