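import Mathlib
import Groth.Agent.Lib.Helper15.CliffOdd4

/-! The Clifford group scheme of a semiregular form of odd rank is smooth. -/

set_option autoImplicit false
set_option linter.style.haveILetI false

namespace Groth.Agent.Lib.Helper15.CliffRep

open CliffordAlgebra TensorProduct QuadGrp Matrix CategoryTheory AlgebraicGeometry
open Groth.Agent.Lib.Helper15.Cl
open Groth.Agent.Lib.Helper15.Rep
open Groth.Agent.Lib.Helper15.Orth
open Groth.Agent.Lib.Helper8.QuadCtr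

universe u

section Local
variable {R : Type u} [CommRing R] {σ : Type} [Finite σ]

/-- formal smoothness of a zero locus from lifting over algebras in which one of a family of
elements spanning the unit ideal becomes a unit -/
theorem formallySmooth_of_span_lift' (rels : Set (MvPolynomial σ R)) (hfin : rels.Finite)
    (F : Set R) (hF : Ideal.span F = ⊤)
    (H : ∀ f ∈ F, ∀ (C : Type u) [CommRing C] [Algebra R C] (I : Ideal C), I ^ 2 = ⊥ →
      IsUnit (algebraMap R C f) →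
      ∀ a' : σ → C ⧸ I, (∀ p ∈ rels, MvPolynomial.aeval a' p = 0) →
        ∃ a : σ → C, (∀ p ∈ rels, MvPolynomial.aeval a p = 0) ∧ Ideal.Quotient.mk I ∘ a = a') :
    Algebra.FormallySmooth R (ZAlg R rels) := by
  haveI : Algebra.FinitePresentation R (ZAlg R rels) := ZAlg.finitePresentation hfin
  rw [← Algebra.smoothLocus_eq_univ_iff, Set.eq_univ_iff_forall]
  intro p
  have hex : ∃ f ∈ F, algebraMap R (ZAlg R rels) f ∉ p.asIdeal := by
    by_contra hcon
    push Not at hcon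
    have hle : Ideal.span F ≤ Ideal.comap (algebraMap R (ZAlg R rels)) p.asIdeal :=
      Ideal.span_le.mpr (fun f hf => hcon f hf)
    rw [hF, top_le_iff, Ideal.comap_eq_top_iff] at hle
    exact p.isPrime.ne_top hle
  obtain ⟨f, hf, hfp⟩ := hex
  have hsub : ↑(PrimeSpectrum.basicOpen (algebraMap R (ZAlg R rels) f)) ⊆
      Algebra.smoothLocus R (ZAlg R rels) := by
    rw [Algebra.basicOpen_subset_smoothLocus_iff]
    apply formallySmooth_away_of_lift
    intro C _ _ I hI hfu g₀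
    obtain ⟨a, ha, hmk⟩ := H f hf C I hI hfu (ZAlg.coord g₀) (ZAlg.coord_mem g₀)
    refine ⟨ZAlg.ofPoint a ha, ?_⟩
    apply ZAlg.hom_ext
    rw [ZAlg.coord_comp, ZAlg.coord_ofPoint]
    exact hmk
  exact hsub hfp

end Local

section Lift
variable {R : Type u} [CommRing R] (m : ℕ) (Q : QuadraticForm R (Fin (2 * m + 1) → R))
variable {C : Type u} [CommRing C] [Algebra R C] (I : Ideal C)

lemma exists_idem_lift (hI : I ^ 2 = ⊥) (e' : C ⧸ I) (he' : e' * e' = e') :
    ∃ e : C, e * e = e ∧ Ideal.Quotient.mk I e = e' := by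
  obtain ⟨e₀, he₀⟩ := Ideal.Quotient.mk_surjective e'
  obtain ⟨e, he, hee'⟩ := exists_isIdempotentElem_eq_of_ker_isNilpotent (Ideal.Quotient.mk I)
    (fun x hx => by
      rw [Ideal.mk_ker] at hx
      refine ⟨2, ?_⟩
      have := Ideal.pow_mem_pow hx 2
      rwa [hI] at this) e' ⟨e₀, he₀⟩ he'
  exact ⟨e, he, hee'⟩

theorem lift_point_gpin_odd
    (hsemi : QuadGrp.IsSemiregular (Pi.basisFun R (Fin (2 * m + 1))) (LinearEquiv.refl R R) Q)
    (hI : I ^ 2 = ⊥)
    (hloc : IsUnit (algebraMap R C 2) ∨ ∃ k : Fin (2 * m + 1),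
      IsUnit (algebraMap R C ((smat Q).submatrix k.succAbove k.succAbove).det))
    (a' : Cy (2 * m + 1) → C ⧸ I)
    (ha' : ∀ p ∈ relsGPinLH Q, MvPolynomial.aeval a' p = 0) :
    ∃ a : Cy (2 * m + 1) → C, (∀ p ∈ relsGPinLH Q, MvPolynomial.aeval a p = 0) ∧
      Ideal.Quotient.mk I ∘ a = a' := by
  have hb' := rels_inl Q (relsGPinLH Q) subset_rfl (C ⧸ I) a' ha'
  obtain ⟨he', h0', h1'⟩ := (relsLH_iff Q (C ⧸ I) a').mp
    (rels_LH Q (relsGPinLH Q) subset_rfl (C ⧸ I) a' ha')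
  obtain ⟨u₀, hu₀⟩ : ∃ u₀, u₀ = unitOf Q (C ⧸ I) (a' ∘ Sum.inl) hb' := ⟨_, rfl⟩
  have hu₀x : (u₀ : CliffordAlgebra (baseChangeForm (C ⧸ I) Q)) =
      xOf Q (C ⧸ I) (a' ∘ Sum.inl) := by rw [hu₀]; rfl
  obtain ⟨e, he, hee'⟩ := exists_idem_lift I hI _ he'
  rw [← hu₀x, ← hee'] at h0' h1'
  obtain ⟨u, humem, hu0, hu1, hFu⟩ := lift_unit_gpin_odd m Q I hsemi hI hloc u₀
    (by rw [hu₀]; exact unitOf_mem Q (C ⧸ I) _ hb') e he h0' h1'
  refine ⟨ptOfLH Q C u e, ?_, ?_⟩
  · rintro p (⟨q, hq, rfl⟩ | hp)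
    · rw [MvPolynomial.aeval_rename, ptOfLH_inl]
      exact rels_aOf Q C u humem q hq
    · exact (relsLH_ptOfLH_iff Q C u e).mpr ⟨he, hu0, hu1⟩ p hp
  · funext s
    rcases s with s | ⟨⟩
    · have := aOf_F Q (Ideal.Quotient.mkₐ R I) u u₀ hFu.symm
      rw [hu₀, aOf_unitOf] at this
      exact (congrFun this s).symm
    · exact hee'

end Lift

end Groth.Agent.Lib.Helper15.CliffRep

namespace Groth.Agent.Lib.Helper15.CliffRep

open CliffordAlgebra TensorProduct QuadGrp Matrix CategoryTheory AlgebraicGeometry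
open Groth.Agent.Lib.Helper15.Cl
open Groth.Agent.Lib.Helper15.Rep
open Groth.Agent.Lib.Helper15.Orth
open Groth.Agent.Lib.Helper8.QuadCtr

universe u

section Final
variable {R : Type u} [CommRing R] {n : ℕ} (Q : QuadraticForm R (Fin n → R))
variable (A : Type u) [CommRing A] [Algebra R A]

lemma mem_GPin'_iff_rels (u : (CliffordAlgebra (baseChangeForm A Q))ˣ) :
    u ∈ GPin' (baseChangeForm A Q) ↔
      ∀ p ∈ relsGPin Q, MvPolynomial.aeval (aOf Q A u) p = 0 := by
  constructor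
  · exact rels_aOf Q A u
  · intro h
    rw [mem_GPin'_iff]
    have := (relsNorm_iff Q (aOf Q A u)).mp (fun p hp => h p (Or.inr hp))
    simp only [xOf_aOf, yOf_aOf] at this
    exact this

theorem mem_gpin_iff (u : (CliffordAlgebra (baseChangeForm A Q))ˣ) :
    u ∈ gpin Q A ↔
      ∃ e : A, ∀ p ∈ relsGPinLH Q, MvPolynomial.aeval (ptOfLH Q A u e) p = 0 := by
  constructor
  · intro hu
    obtain ⟨hu', e, he, h0, h1⟩ := Subgroup.mem_inf.mp hu
    refine ⟨e, ?_⟩
    rintro p (⟨q, hq, rfl⟩ | hp)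
    · rw [MvPolynomial.aeval_rename, ptOfLH_inl]
      exact rels_aOf Q A u hu' q hq
    · exact (relsLH_ptOfLH_iff Q A u e).mpr ⟨he, h0, h1⟩ p hp
  · rintro ⟨e, h⟩
    refine Subgroup.mem_inf.mpr ⟨(mem_GPin'_iff_rels Q A u).mpr fun q hq => ?_, e, ?_⟩
    · have := h _ (Or.inl ⟨q, hq, rfl⟩)
      rwa [MvPolynomial.aeval_rename, ptOfLH_inl] at this
    · exact (relsLH_ptOfLH_iff Q A u e).mp (fun p hp => h p (Or.inr hp))

end Final

theorem smooth_gpin_odd {R : Type u} [CommRing R] (m : ℕ)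
    (Q : QuadraticForm R (Fin (2 * m + 1) → R))
    (hQ : QuadGrp.IsSemiregular (Pi.basisFun R (Fin (2 * m + 1))) (LinearEquiv.refl R R) Q)
    (G : Over (Spec (CommRingCat.of R))) [GrpObj G] (D : GPinRep Q G) :
    Smooth G.hom := by
  let P := algPtsLH Q (relsGPinLH Q) subset_rfl (fun A _ _ => gpin Q A)
    (fun A _ _ u => mem_gpin_iff Q A u) D
  refine P.smooth_iff.mpr ⟨?_, ZAlg.finitePresentation (relsGPinLH_finite Q)⟩
  refine formallySmooth_of_span_lift' (relsGPinLH Q) (relsGPinLH_finite Q) _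
    (span_minors Q ⟨m, rfl⟩ hQ) ?_
  rintro f (hf | ⟨k, rfl⟩) C _ _ I hI hfu a' ha'
  · rw [Set.mem_singleton_iff] at hf
    subst hf
    exact lift_point_gpin_odd m Q I hQ hI (Or.inl hfu) a' ha'
  · exact lift_point_gpin_odd m Q I hQ hI (Or.inr ⟨k, hfu⟩) a' ha'

end Groth.Agent.Lib.Helper15.CliffRep
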