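import Mathlib
import Groth.Agent.Lib.Helper15.CliffOdd3
import Groth.Agent.Lib.Helper15.ClPin1

/-! The Clifford norm is central on the naive Clifford group; units close to one. -/

set_option autoImplicit false
set_option linter.style.haveILetI false

namespace Groth.Agent.Lib.Helper15.CliffRep

open CliffordAlgebra TensorProduct QuadGrp
open Groth.Agent.Lib.Helper15.Cl

universe u v

section Norm
variable {R : Type u} [CommRing R] {M : Type v} [AddCommGroup M] [Module R M]
  (Q : QuadraticForm R M)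

/-- the Clifford norm of an element of the naive Clifford group is central -/
theorem norm_mem_center (u : (CliffordAlgebra Q)ˣ) (hu : u ∈ GPin' Q) :
    star (u : CliffordAlgebra Q) * u ∈ Subalgebra.center R (CliffordAlgebra Q) := by
  apply mem_center_of_comm_ι
  intro v
  obtain ⟨v', hv'⟩ := conj_ι_of_mem_GPin' Q u hu v
  have h1 : star (↑u⁻¹ : CliffordAlgebra Q) * ι Q v * star (u : CliffordAlgebra Q) = ι Q v' := by
    have := congrArg star hv'
    rw [star_mul, star_mul, star_ι, star_ι] at this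
    have h2 : star (↑u⁻¹ : CliffordAlgebra Q) * (ι Q v * star (u : CliffordAlgebra Q)) =
        ι Q v' := by
      have h3 := congrArg Neg.neg this
      rw [neg_neg] at h3
      rw [← h3]
      simp only [neg_mul, mul_neg, neg_neg]
    rw [mul_assoc]; exact h2
  have hs : star (u : CliffordAlgebra Q) * star (↑u⁻¹ : CliffordAlgebra Q) = 1 := by
    rw [← star_mul, Units.inv_mul, star_one]
  have h4 : ι Q v * star (u : CliffordAlgebra Q) =
      star (u : CliffordAlgebra Q) * (u * ι Q v * ↑u⁻¹) := by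
    rw [hv', ← h1]
    simp only [← mul_assoc]
    rw [hs, one_mul]
  calc star (u : CliffordAlgebra Q) * u * ι Q v
      = star (u : CliffordAlgebra Q) * (u * ι Q v * ↑u⁻¹) * u := by
        simp only [mul_assoc, Units.inv_mul, mul_one]
    _ = ι Q v * (star (u : CliffordAlgebra Q) * u) := by
        rw [← h4, mul_assoc]

/-- the Clifford norm of a locally homogeneous element is even -/
theorem norm_mem_even (x : CliffordAlgebra Q) (e : R) (he : e * e = e)
    (h0 : e • x ∈ evenOdd Q 0) (h1 : (1 - e) • x ∈ evenOdd Q 1) :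
    star x * x ∈ evenOdd Q 0 := by
  have hsplit : star x * x = star (e • x) * (e • x) + star ((1 - e) • x) * ((1 - e) • x) := by
    rw [CliffordAlgebra.star_smul, CliffordAlgebra.star_smul]
    simp only [smul_mul_assoc, mul_smul_comm, smul_smul]
    rw [← add_smul]
    have : e * e + (1 - e) * (1 - e) = 1 := by linear_combination 2 * he
    rw [this, one_smul]
  rw [hsplit]
  refine Submodule.add_mem _ ?_ ?_
  · have := SetLike.mul_mem_graded (star_mem_evenOdd Q 0 _ h0) h0
    rwa [add_zero] at this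
  · have := SetLike.mul_mem_graded (star_mem_evenOdd Q 1 _ h1) h1
    rwa [show (1 : ZMod 2) + 1 = 0 from rfl] at this

end Norm

end Groth.Agent.Lib.Helper15.CliffRep

namespace Groth.Agent.Lib.Helper15.CliffRep

open CliffordAlgebra TensorProduct QuadGrp
open Groth.Agent.Lib.Helper15.Cl

universe u v

section Tiny
variable {R : Type u} [CommRing R] {M : Type v} [AddCommGroup M] [Module R M]
  (Q : QuadraticForm R M)

lemma conj_tiny_aux {A : Type*} [Ring A] [Algebra R A] (δ : R) (hδ : δ * δ = 0) (a Y : A) :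
    (1 + δ • a) * Y * (1 + (-δ) • a) = Y + δ • (a * Y - Y * a) := by
  calc (1 + δ • a) * Y * (1 + (-δ) • a) = (Y + δ • (a * Y)) * (1 + (-δ) • a) := by
        rw [add_mul, one_mul, smul_mul_assoc]
    _ = Y + δ • (a * Y) + ((-δ) • (Y * a) + (δ * -δ) • (a * Y * a)) := by
        rw [mul_add, mul_one, add_mul, mul_smul_comm, smul_mul_smul_comm]
    _ = Y + δ • (a * Y - Y * a) := by
        rw [mul_neg, hδ, neg_zero, zero_smul, add_zero, neg_smul, smul_sub]; abel

/-- `1 + δ v w` -/
noncomputable def tiny (δ : R) (v w : M) : CliffordAlgebra Q := 1 + δ • (ι Q v * ι Q w)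

lemma tiny_mul_tiny (δ δ' : R) (h : δ * δ' = 0) (v w : M) :
    tiny Q δ v w * tiny Q δ' v w = 1 + (δ + δ') • (ι Q v * ι Q w) := by
  rw [tiny, tiny, add_mul, one_mul, mul_add, mul_one, smul_mul_smul_comm, h, zero_smul, add_zero,
    add_smul]
  abel

lemma tiny_mul_neg (δ : R) (hδ : δ * δ = 0) (v w : M) :
    tiny Q δ v w * tiny Q (-δ) v w = 1 := by
  rw [tiny_mul_tiny Q _ _ (by rw [mul_neg, hδ, neg_zero]), add_neg_cancel, zero_smul, add_zero]

lemma tiny_neg_mul (δ : R) (hδ : δ * δ = 0) (v w : M) :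
    tiny Q (-δ) v w * tiny Q δ v w = 1 := by
  rw [tiny_mul_tiny Q _ _ (by rw [neg_mul, hδ, neg_zero]), neg_add_cancel, zero_smul, add_zero]

/-- the unit `1 + δ v w` for `δ² = 0` -/
noncomputable def tinyUnit (δ : R) (hδ : δ * δ = 0) (v w : M) : (CliffordAlgebra Q)ˣ :=
  ⟨tiny Q δ v w, tiny Q (-δ) v w, tiny_mul_neg Q δ hδ v w, tiny_neg_mul Q δ hδ v w⟩

lemma tiny_mem_even (δ : R) (v w : M) : tiny Q δ v w ∈ evenOdd Q 0 := by
  rw [tiny]
  exact Submodule.add_mem _ (SetLike.one_mem_graded (evenOdd Q))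
    (Submodule.smul_mem _ _ (ι_mul_ι_mem_evenOdd_zero Q v w))

lemma tiny_conj (δ : R) (hδ : δ * δ = 0) (v w y : M) :
    tiny Q δ v w * ι Q y * tiny Q (-δ) v w =
      ι Q (y + δ • (QuadraticMap.polar Q w y • v - QuadraticMap.polar Q v y • w)) := by
  have hWY : ι Q w * ι Q y = algebraMap R _ (QuadraticMap.polar Q w y) - ι Q y * ι Q w :=
    eq_sub_of_add_eq (ι_mul_ι_add_swap w y)
  have hVY : ι Q v * ι Q y = algebraMap R _ (QuadraticMap.polar Q v y) - ι Q y * ι Q v :=
    eq_sub_of_add_eq (ι_mul_ι_add_swap v y)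
  have key : ι Q v * ι Q w * ι Q y - ι Q y * (ι Q v * ι Q w) =
      QuadraticMap.polar Q w y • ι Q v - QuadraticMap.polar Q v y • ι Q w := by
    rw [mul_assoc, hWY, mul_sub, ← mul_assoc, hVY, sub_mul, ← Algebra.commutes,
      ← Algebra.smul_def, ← Algebra.smul_def, mul_assoc]
    abel
  rw [tiny, tiny, conj_tiny_aux δ hδ, key, map_add, map_smul, map_sub, map_smul, map_smul]

lemma tinyUnit_mem (δ : R) (hδ : δ * δ = 0) (v w : M) : tinyUnit Q δ hδ v w ∈ GPin' Q := by
  apply mem_GPin'_of_conj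
  · intro y
    exact ⟨_, tiny_conj Q δ hδ v w y⟩
  · intro y
    have := tiny_conj Q (-δ) (by rw [neg_mul_neg, hδ]) v w y
    rw [neg_neg] at this
    exact ⟨_, this⟩

lemma star_tiny (δ : R) (v w : M) : star (tiny Q δ v w) = tiny Q δ w v := by
  rw [tiny, tiny, star_add, star_one, CliffordAlgebra.star_smul, star_mul, star_ι, star_ι,
    neg_mul_neg]

lemma norm_tiny (δ : R) (hδ : δ * δ = 0) (v w : M) :
    star (tiny Q δ v w) * tiny Q δ v w =
      algebraMap R _ (1 + δ * QuadraticMap.polar Q v w) := by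
  rw [star_tiny, tiny, tiny, add_mul, one_mul, mul_add, mul_one, smul_mul_smul_comm, hδ, zero_smul,
    add_zero, add_assoc, ← smul_add, ι_mul_ι_add_swap, map_add, map_one, map_mul,
    ← Algebra.smul_def]

end Tiny

end Groth.Agent.Lib.Helper15.CliffRep
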