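import Mathlib
import Groth.Agent.Lib.Helper15.CliffPin1
import Groth.Agent.Lib.Helper15.CliffOdd5

/-! The Pin group functor is cut out by polynomial equations. -/

set_option autoImplicit false
set_option linter.style.haveILetI false

namespace Groth.Agent.Lib.Helper15.CliffRep

open CliffordAlgebra TensorProduct QuadGrp CategoryTheory AlgebraicGeometry
open Groth.Agent.Lib.Helper15.Cl
open Groth.Agent.Lib.Helper15.Rep
open Groth.Agent.Lib.Helper8.QuadCtr

universe u

section Star
variable {R : Type u} [CommRing R] {n : ℕ} (Q : QuadraticForm R (Fin n → R))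
variable {A B : Type u} [CommRing A] [Algebra R A] [CommRing B] [Algebra R B] (φ : A →ₐ[R] B)

lemma jA_star (x : CliffordAlgebra Q) : jA Q A (star x) = star (jA Q A x) :=
  jj_star Q _ (gA A) (hgA Q A) x

lemma F_star (z : CliffordAlgebra (baseChangeForm A Q)) : F Q φ (star z) = star (F Q φ z) := by
  obtain ⟨t, rfl⟩ := (ΨE Q A).surjective z
  induction t using TensorProduct.induction_on with
  | zero => simp
  | add x y hx hy => rw [map_add, star_add, map_add, map_add, hx, hy, star_add]
  | tmul a x =>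
    rw [ΨE_tmul, CliffordAlgebra.star_smul, ← jA_star, F_smul_jA, F_smul_jA,
      CliffordAlgebra.star_smul, jA_star]

end Star

section Rels
variable {R : Type u} [CommRing R] {n : ℕ} (Q : QuadraticForm R (Fin n → R))
variable {A : Type u} [CommRing A] [Algebra R A]

lemma aeval_Φ_eq_zero_iff (a : Cx n → A)
    (z : CliffordAlgebra (baseChangeForm (MvPolynomial (Cx n) R) Q)) :
    (∀ k, MvPolynomial.aeval a (Φ Q (MvPolynomial (Cx n) R) z k) = 0) ↔
      F Q (MvPolynomial.aeval a) z = 0 := by
  rw [← Φ_eq_zero_iff]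
  constructor
  · intro h
    funext k
    rw [← aeval_Φ, h]; rfl
  · intro h k
    rw [aeval_Φ, h]; rfl

/-- the relations expressing that the Clifford norm is one -/
noncomputable def relsN : Set (MvPolynomial (Cx n) R) :=
  Set.range (fun k => Φ Q (MvPolynomial (Cx n) R) (star (Uu Q) * Uu Q - 1) k)

lemma relsN_finite : (relsN Q).Finite := Set.finite_range _

lemma relsN_iff (a : Cx n → A) :
    (∀ p ∈ relsN Q, MvPolynomial.aeval a p = 0) ↔ star (xOf Q A a) * xOf Q A a = 1 := by
  have h1 : F Q (MvPolynomial.aeval a) (star (Uu Q) * Uu Q - 1) =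
      star (xOf Q A a) * xOf Q A a - 1 := by
    rw [map_sub, map_mul, map_one, F_star, F_Uu]
  rw [← sub_eq_zero, ← h1, ← aeval_Φ_eq_zero_iff]
  constructor
  · intro h k
    exact h _ ⟨k, rfl⟩
  · rintro h p ⟨k, rfl⟩
    exact h k

/-- the relations of the Pin group -/
noncomputable def relsPin : Set (MvPolynomial (Cy n) R) :=
  relsGPinLH Q ∪ (MvPolynomial.rename Sum.inl) '' relsN Q

lemma relsPin_finite : (relsPin Q).Finite :=
  (relsGPinLH_finite Q).union ((relsN_finite Q).image _)

variable (A)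

theorem mem_pin_iff (u : (CliffordAlgebra (baseChangeForm A Q))ˣ) :
    u ∈ pin Q A ↔
      ∃ e : A, ∀ p ∈ relsPin Q, MvPolynomial.aeval (ptOfLH Q A u e) p = 0 := by
  constructor
  · intro hu
    obtain ⟨hu1, hu2⟩ := Subgroup.mem_inf.mp hu
    obtain ⟨e, he⟩ := (mem_gpin_iff Q A u).mp hu1
    refine ⟨e, ?_⟩
    rintro p (hp | ⟨q, hq, rfl⟩)
    · exact he p hp
    · rw [MvPolynomial.aeval_rename, ptOfLH_inl]
      refine (relsN_iff Q (aOf Q A u)).mpr ?_ q hq
      rw [xOf_aOf]
      exact hu2
  · rintro ⟨e, h⟩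
    refine Subgroup.mem_inf.mpr ⟨(mem_gpin_iff Q A u).mpr ⟨e, fun p hp => h p (Or.inl hp)⟩, ?_⟩
    have := (relsN_iff Q (aOf Q A u)).mp (fun q hq => by
      have := h _ (Or.inr ⟨q, hq, rfl⟩)
      rwa [MvPolynomial.aeval_rename, ptOfLH_inl] at this)
    rw [xOf_aOf] at this
    exact this

end Rels

end Groth.Agent.Lib.Helper15.CliffRep
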