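import Mathlib
import Groth.Agent.Lib.Helper15.CliffPin2

/-! Lifting points of the Pin group in odd rank at least three. -/

set_option autoImplicit false
set_option linter.style.haveILetI false

namespace Groth.Agent.Lib.Helper15.CliffRep

open CliffordAlgebra TensorProduct QuadGrp Matrix CategoryTheory AlgebraicGeometry
open Groth.Agent.Lib.Helper15.Cl
open Groth.Agent.Lib.Helper15.Rep
open Groth.Agent.Lib.Helper15.Orth
open Groth.Agent.Lib.Helper8.QuadCtr

universe u

section SpanEntries
variable {R : Type u} [CommRing R] (m : ℕ) (Q : QuadraticForm R (Fin (2 * m + 1) → R))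

theorem span_smat_entries (hm : 1 ≤ m)
    (hsemi : QuadGrp.IsSemiregular (Pi.basisFun R (Fin (2 * m + 1))) (LinearEquiv.refl R R) Q) :
    Ideal.span (Set.range fun p : Fin (2 * m + 1) × Fin (2 * m + 1) => smat Q p.1 p.2) = ⊤ := by
  obtain ⟨J, hJ⟩ : ∃ J, J = Ideal.span
    (Set.range fun p : Fin (2 * m + 1) × Fin (2 * m + 1) => smat Q p.1 p.2) := ⟨_, rfl⟩
  rw [← hJ]
  have hentry : ∀ i j, smat Q i j ∈ J := fun i j => by
    rw [hJ]; exact Ideal.subset_span ⟨(i, j), rfl⟩
  have hdet : ∀ {k : ℕ} (N : Matrix (Fin k) (Fin k) R), 0 < k → (∀ i j, N i j ∈ J) →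
      N.det ∈ J := by
    intro k N hk hN
    rw [← Ideal.Quotient.eq_zero_iff_mem, RingHom.map_det]
    have : (Ideal.Quotient.mk J).mapMatrix N = 0 := by
      ext i j
      rw [RingHom.mapMatrix_apply, Matrix.map_apply, Matrix.zero_apply]
      exact Ideal.Quotient.eq_zero_iff_mem.mpr (hN i j)
    rw [this]
    haveI : Nonempty (Fin k) := ⟨⟨0, hk⟩⟩
    exact Matrix.det_zero
  have h2 : (2 : R) ∈ J := by
    obtain ⟨h', hh'⟩ := (show IsUnit (QuadGrp.halfDisc (Pi.basisFun R (Fin (2 * m + 1)))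
      (LinearEquiv.refl R R) Q) from hsemi).exists_right_inv
    have h3 := two_mul_halfDisc Q (⟨m, rfl⟩ : Odd (2 * m + 1))
    have h4 : (2 : R) = (smat Q).det * h' := by
      rw [← h3, mul_assoc, hh', mul_one]
    rw [h4]
    exact J.mul_mem_right _ (hdet _ (by omega) hentry)
  rw [eq_top_iff, ← span_minors Q ⟨m, rfl⟩ hsemi, Ideal.span_le]
  rintro x (hx | ⟨k, rfl⟩)
  · rw [Set.mem_singleton_iff] at hx
    rw [hx]; exact h2
  · exact hdet _ (by omega) (fun i j => hentry _ _)

end SpanEntries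

section Good
variable {R : Type u} [CommRing R] {n : ℕ} (Q : QuadraticForm R (Fin n → R))
variable {C : Type u} [CommRing C] [Algebra R C] (I : Ideal C)

/-- `1 + ε` is the Clifford norm of an even unit of the naive Clifford group reducing to one -/
def Good (ε : C) : Prop :=
  ∃ x : (CliffordAlgebra (baseChangeForm C Q))ˣ, x ∈ GPin' (baseChangeForm C Q) ∧
    (x : CliffordAlgebra (baseChangeForm C Q)) ∈ evenOdd (baseChangeForm C Q) 0 ∧
    F Q (Ideal.Quotient.mkₐ R I) (x : CliffordAlgebra (baseChangeForm C Q)) = 1 ∧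
    star (x : CliffordAlgebra (baseChangeForm C Q)) * x = algebraMap C _ (1 + ε)

lemma good_zero : Good Q I 0 :=
  ⟨1, one_mem _, by rw [Units.val_one]; exact SetLike.one_mem_graded (evenOdd _),
    by rw [Units.val_one, map_one], by rw [Units.val_one, star_one, mul_one, add_zero, map_one]⟩

lemma good_tiny (hI : I ^ 2 = ⊥) (δ : C) (hδ : δ ∈ I) (v w : C ⊗[R] (Fin n → R)) :
    Good Q I (δ * QuadraticMap.polar (baseChangeForm C Q) v w) := by
  have hδδ : δ * δ = 0 := mul_eq_zero_of_mem I hI hδ hδ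
  refine ⟨tinyUnit (baseChangeForm C Q) δ hδδ v w, tinyUnit_mem _ δ hδδ v w,
    tiny_mem_even _ δ v w, ?_, norm_tiny _ δ hδδ v w⟩
  change F Q (Ideal.Quotient.mkₐ R I) (tiny (baseChangeForm C Q) δ v w) = 1
  rw [tiny, map_add, map_one, F_smul]
  have : (Ideal.Quotient.mkₐ R I) δ = 0 := Ideal.Quotient.eq_zero_iff_mem.mpr hδ
  rw [this, zero_smul, add_zero]

lemma good_add (hI : I ^ 2 = ⊥) {ε ε' : C} (hε : ε ∈ I) (hε' : ε' ∈ I) (h : Good Q I ε)
    (h' : Good Q I ε') : Good Q I (ε + ε') := by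
  obtain ⟨x, hx1, hx2, hx3, hx4⟩ := h
  obtain ⟨x', hx1', hx2', hx3', hx4'⟩ := h'
  refine ⟨x * x', mul_mem hx1 hx1', ?_, ?_, ?_⟩
  · rw [Units.val_mul]
    have := SetLike.mul_mem_graded hx2 hx2'
    rwa [add_zero] at this
  · rw [Units.val_mul, map_mul, hx3, hx3', mul_one]
  · have h0 : ε * ε' = 0 := mul_eq_zero_of_mem I hI hε hε'
    rw [Units.val_mul, star_mul]
    calc star (x' : CliffordAlgebra (baseChangeForm C Q)) *
          star (x : CliffordAlgebra (baseChangeForm C Q)) *
          ((x : CliffordAlgebra (baseChangeForm C Q)) * (x' : CliffordAlgebra (baseChangeForm C Q)))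
        = star (x' : CliffordAlgebra (baseChangeForm C Q)) *
            (star (x : CliffordAlgebra (baseChangeForm C Q)) *
              (x : CliffordAlgebra (baseChangeForm C Q))) *
            (x' : CliffordAlgebra (baseChangeForm C Q)) := by
          simp only [mul_assoc]
      _ = algebraMap C _ (1 + ε) * (star (x' : CliffordAlgebra (baseChangeForm C Q)) * x') := by
          rw [hx4, ← Algebra.commutes, mul_assoc]
      _ = algebraMap C _ (1 + (ε + ε')) := by
          rw [hx4', ← map_mul]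
          congr 1
          linear_combination h0

lemma good_sum (hI : I ^ 2 = ⊥) {κ : Type*} (s : Finset κ) (δ p : κ → C) (hδ : ∀ k, δ k ∈ I)
    (h : ∀ k, Good Q I (δ k * p k)) : Good Q I (∑ k ∈ s, δ k * p k) := by
  classical
  induction s using Finset.induction_on with
  | empty => rw [Finset.sum_empty]; exact good_zero Q I
  | insert a s ha ih =>
    rw [Finset.sum_insert ha]
    exact good_add Q I hI (I.mul_mem_right _ (hδ a))
      (I.sum_mem fun k _ => I.mul_mem_right _ (hδ k)) (h a) ih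

lemma good_of_span (hI : I ^ 2 = ⊥)
    (hspan : Ideal.span (Set.range fun p : Fin n × Fin n => smat Q p.1 p.2) = ⊤)
    (ε : C) (hε : ε ∈ I) : Good Q I ε := by
  have h1 : (1 : R) ∈ Ideal.span (Set.range fun p : Fin n × Fin n => smat Q p.1 p.2) := by
    rw [hspan]; trivial
  obtain ⟨r, hr⟩ := Ideal.mem_span_range_iff_exists_fun.mp h1
  have h2 : ε = ∑ p : Fin n × Fin n, (ε * algebraMap R C (r p)) *
      QuadraticMap.polar (baseChangeForm C Q) (g₀ R C (Pi.single p.1 1))
        (g₀ R C (Pi.single p.2 1)) := by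
    have h3 := congrArg (algebraMap R C) hr
    rw [map_sum, map_one] at h3
    calc ε = ε * 1 := (mul_one ε).symm
      _ = ε * ∑ p : Fin n × Fin n, algebraMap R C (r p * smat Q p.1 p.2) := by rw [h3]
      _ = _ := by
        rw [Finset.mul_sum]
        refine Finset.sum_congr rfl fun p _ => ?_
        rw [map_mul, polar_baseChangeForm_g₀, ← smat_apply, mul_assoc]
  rw [h2]
  exact good_sum Q I hI _ _ _ (fun p => I.mul_mem_right _ hε)
    (fun p => good_tiny Q I hI _ (I.mul_mem_right _ hε) _ _)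

end Good

end Groth.Agent.Lib.Helper15.CliffRep
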