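import Mathlib
import Groth.Agent.Lib.Helper15.CliffPin3

/-! The Pin group scheme of a semiregular form of odd rank at least three is smooth. -/

set_option autoImplicit false
set_option linter.style.haveILetI false

namespace Groth.Agent.Lib.Helper15.CliffRep

open CliffordAlgebra TensorProduct QuadGrp Matrix CategoryTheory AlgebraicGeometry
open Groth.Agent.Lib.Helper15.Cl
open Groth.Agent.Lib.Helper15.Rep
open Groth.Agent.Lib.Helper15.Orth
open Groth.Agent.Lib.Helper8.QuadCtr

universe u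

section Lift
variable {R : Type u} [CommRing R] (m : ℕ) (Q : QuadraticForm R (Fin (2 * m + 1) → R))
variable {C : Type u} [CommRing C] [Algebra R C] (I : Ideal C)

theorem lift_point_pin_odd (hm : 1 ≤ m)
    (hsemi : QuadGrp.IsSemiregular (Pi.basisFun R (Fin (2 * m + 1))) (LinearEquiv.refl R R) Q)
    (hI : I ^ 2 = ⊥)
    (hloc : IsUnit (algebraMap R C 2) ∨ ∃ k : Fin (2 * m + 1),
      IsUnit (algebraMap R C ((smat Q).submatrix k.succAbove k.succAbove).det))
    (a' : Cy (2 * m + 1) → C ⧸ I)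
    (ha' : ∀ p ∈ relsPin Q, MvPolynomial.aeval a' p = 0) :
    ∃ a : Cy (2 * m + 1) → C, (∀ p ∈ relsPin Q, MvPolynomial.aeval a p = 0) ∧
      Ideal.Quotient.mk I ∘ a = a' := by
  have hsub : relsGPinLH Q ⊆ relsPin Q := Set.subset_union_left
  have hb' := rels_inl Q (relsPin Q) hsub (C ⧸ I) a' ha'
  obtain ⟨he', h0', h1'⟩ := (relsLH_iff Q (C ⧸ I) a').mp
    (rels_LH Q (relsPin Q) hsub (C ⧸ I) a' ha')
  have hN' : star (xOf Q (C ⧸ I) (a' ∘ Sum.inl)) * xOf Q (C ⧸ I) (a' ∘ Sum.inl) = 1 :=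
    (relsN_iff Q (a' ∘ Sum.inl)).mp (fun q hq => by
      have := ha' _ (Or.inr ⟨q, hq, rfl⟩)
      rwa [MvPolynomial.aeval_rename] at this)
  obtain ⟨u₀, hu₀⟩ : ∃ u₀, u₀ = unitOf Q (C ⧸ I) (a' ∘ Sum.inl) hb' := ⟨_, rfl⟩
  have hu₀x : (u₀ : CliffordAlgebra (baseChangeForm (C ⧸ I) Q)) =
      xOf Q (C ⧸ I) (a' ∘ Sum.inl) := by rw [hu₀]; rfl
  obtain ⟨e, he, hee'⟩ := exists_idem_lift I hI _ he'
  rw [← hu₀x, ← hee'] at h0' h1'
  rw [← hu₀x] at hN'
  obtain ⟨u, humem, hu0, hu1, hFu⟩ := lift_unit_gpin_odd m Q I hsemi hI hloc u₀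
    (by rw [hu₀]; exact unitOf_mem Q (C ⧸ I) _ hb') e he h0' h1'
  -- the norm of `u` is a scalar
  obtain ⟨R', _, _, hff, -, gs, hgs, hspan⟩ :=
    bc_odd_setup C Q m (Pi.basisFun R (Fin (2 * m + 1))) hsemi
  haveI := hff
  have hcen := odd_even_center m ((Pi.basisFun R (Fin (2 * m + 1))).baseChange C)
    (baseChangeForm C Q) gs hgs hspan
  obtain ⟨r, hr⟩ := hcen _ (norm_mem_center _ u humem) (norm_mem_even _ _ e he hu0 hu1)
  have hr' : algebraMap C (CliffordAlgebra (baseChangeForm C Q)) r =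
      star (u : CliffordAlgebra (baseChangeForm C Q)) * u := hr
  have hπr : Ideal.Quotient.mk I r = 1 := by
    have h1 : F Q (Ideal.Quotient.mkₐ R I) (algebraMap C _ r) = 1 := by
      rw [hr', map_mul, F_star, hFu, hN']
    rw [F_algebraMap] at h1
    exact Cl.algebraMap_injective (baseChangeForm (C ⧸ I) Q) (h1.trans (map_one _).symm)
  obtain ⟨ε, hε⟩ : ∃ ε, ε = r - 1 := ⟨_, rfl⟩
  have hεI : ε ∈ I := by
    rw [hε, ← Ideal.Quotient.eq_zero_iff_mem, map_sub, hπr, map_one, sub_self]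
  have hεε : ε * ε = 0 := mul_eq_zero_of_mem I hI hεI hεI
  obtain ⟨x, hx1, hx2, hx3, hx4⟩ :=
    good_of_span Q I hI (span_smat_entries m Q hm hsemi) (-ε) (I.neg_mem hεI)
  have hmem : u * x ∈ GPin' (baseChangeForm C Q) := mul_mem humem hx1
  have hnorm : star ((u * x : (CliffordAlgebra (baseChangeForm C Q))ˣ) :
      CliffordAlgebra (baseChangeForm C Q)) * ((u * x : (CliffordAlgebra (baseChangeForm C Q))ˣ) :
      CliffordAlgebra (baseChangeForm C Q)) = 1 := by
    rw [Units.val_mul, star_mul]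
    calc star (x : CliffordAlgebra (baseChangeForm C Q)) *
          star (u : CliffordAlgebra (baseChangeForm C Q)) *
          ((u : CliffordAlgebra (baseChangeForm C Q)) * (x : CliffordAlgebra (baseChangeForm C Q)))
        = star (x : CliffordAlgebra (baseChangeForm C Q)) *
            (star (u : CliffordAlgebra (baseChangeForm C Q)) *
              (u : CliffordAlgebra (baseChangeForm C Q))) *
            (x : CliffordAlgebra (baseChangeForm C Q)) := by simp only [mul_assoc]
      _ = algebraMap C _ r * (star (x : CliffordAlgebra (baseChangeForm C Q)) * x) := by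
          rw [← hr', ← Algebra.commutes, mul_assoc]
      _ = 1 := by
          rw [hx4, ← map_mul]
          have : r * (1 + -ε) = 1 := by
            have hr1 : r = 1 + ε := by rw [hε]; ring
            rw [hr1]
            linear_combination -hεε
          rw [this, map_one]
  refine ⟨ptOfLH Q C (u * x) e, ?_, ?_⟩
  · rintro p ((⟨q, hq, rfl⟩ | hp) | ⟨q, hq, rfl⟩)
    · rw [MvPolynomial.aeval_rename, ptOfLH_inl]
      exact rels_aOf Q C _ hmem q hq
    · refine (relsLH_ptOfLH_iff Q C (u * x) e).mpr ⟨he, ?_, ?_⟩ p hp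
      · rw [Units.val_mul, ← smul_mul_assoc]
        have := SetLike.mul_mem_graded hu0 hx2
        rwa [add_zero] at this
      · rw [Units.val_mul, ← smul_mul_assoc]
        have := SetLike.mul_mem_graded hu1 hx2
        rwa [add_zero] at this
    · rw [MvPolynomial.aeval_rename, ptOfLH_inl]
      refine (relsN_iff Q (aOf Q C (u * x))).mpr ?_ q hq
      rw [xOf_aOf]
      exact hnorm
  · funext s
    rcases s with s | ⟨⟩
    · have hF : F Q (Ideal.Quotient.mkₐ R I)
          ((u * x : (CliffordAlgebra (baseChangeForm C Q))ˣ) :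
            CliffordAlgebra (baseChangeForm C Q)) = u₀ := by
        rw [Units.val_mul, map_mul, hFu, hx3, mul_one]
      have := aOf_F Q (Ideal.Quotient.mkₐ R I) (u * x) u₀ hF.symm
      rw [hu₀, aOf_unitOf] at this
      exact (congrFun this s).symm
    · exact hee'

end Lift

theorem smooth_pin_odd {R : Type u} [CommRing R] (m : ℕ) (hm : 1 ≤ m)
    (Q : QuadraticForm R (Fin (2 * m + 1) → R))
    (hQ : QuadGrp.IsSemiregular (Pi.basisFun R (Fin (2 * m + 1))) (LinearEquiv.refl R R) Q)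
    (G : Over (Spec (CommRingCat.of R))) [GrpObj G] (D : PinRep Q G) :
    Smooth G.hom := by
  let P := algPtsLH Q (relsPin Q) Set.subset_union_left (fun A _ _ => pin Q A)
    (fun A _ _ u => mem_pin_iff Q A u) D
  refine P.smooth_iff.mpr ⟨?_, ZAlg.finitePresentation (relsPin_finite Q)⟩
  refine formallySmooth_of_span_lift' (relsPin Q) (relsPin_finite Q) _
    (span_minors Q ⟨m, rfl⟩ hQ) ?_
  rintro f (hf | ⟨k, rfl⟩) C _ _ I hI hfu a' ha'
  · rw [Set.mem_singleton_iff] at hf
    subst hf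
    exact lift_point_pin_odd m Q I hm hQ hI (Or.inl hfu) a' ha'
  · exact lift_point_pin_odd m Q I hm hQ hI (Or.inr ⟨k, hfu⟩) a' ha'

end Groth.Agent.Lib.Helper15.CliffRep
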