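import Mathlib
import Groth.Agent.Lib.Helper15.CliffSmooth3
import Groth.Agent.Lib.Helper15.ClEvSetup
import Groth.Agent.Lib.Helper15.ClEvGrp

/-! The Clifford group scheme of a regular form of even rank is smooth and affine. -/

set_option autoImplicit false
set_option linter.style.haveILetI false

namespace Groth.Agent.Lib.Helper15.CliffRep

open CliffordAlgebra TensorProduct QuadGrp Matrix CategoryTheory AlgebraicGeometry
open Groth.Agent.Lib.Helper15.Cl
open Groth.Agent.Lib.Helper15.Rep
open Groth.Agent.Lib.Helper15.Orth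
open Groth.Agent.Lib.Helper15.Azumaya
open Groth.Agent.Lib.Helper8.QuadCtr

universe u

section
variable {R : Type u} [CommRing R] {n : ℕ} (Q : QuadraticForm R (Fin n → R))

theorem gpin_eq (hAz : IsAzumaya R (CliffordAlgebra Q)) (A : Type u) [CommRing A] [Algebra R A] :
    gpin Q A = GPin' (baseChangeForm A Q) := by
  haveI := hAz
  haveI : IsAzumaya A (A ⊗[R] CliffordAlgebra Q) := isAzumaya_baseChange R A (CliffordAlgebra Q)
  haveI : IsAzumaya A (CliffordAlgebra (baseChangeForm A Q)) :=
    IsAzumaya.of_AlgEquiv A _ _ (ΨE Q A)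
  have hcen := isCentral_of_isAzumaya_ring A (CliffordAlgebra (baseChangeForm A Q))
  apply le_antisymm
  · exact inf_le_left
  · intro u hu
    refine ⟨hu, ?_⟩
    change IsLocHomog (baseChangeForm A Q) (u : CliffordAlgebra (baseChangeForm A Q))
    refine Cl.isLocHomog_of_mem_GPin' (baseChangeForm A Q) (fun z hz => ?_) u hu
    obtain ⟨r, hr⟩ := Algebra.mem_bot.mp (hcen.out hz)
    exact ⟨r, hr⟩

variable {G : Over (Spec (CommRingCat.of R))} [GrpObj G]

theorem smooth_affine_gpin_of_isAzumaya (hAz : IsAzumaya R (CliffordAlgebra Q))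
    (hS : IsUnit (smat Q).det) (D : GPinRep Q G) :
    Smooth G.hom ∧ IsAffineHom G.hom := by
  let P := algPts Q (fun A _ _ => gpin Q A) (fun A _ _ => gpin_eq Q hAz A) D
  refine ⟨P.smooth_iff.mpr ⟨?_, ZAlg.finitePresentation (relsGPin_finite Q)⟩, P.isAffineHom⟩
  exact formallySmooth_of_lift' _
    (fun C _ _ I hI a' ha' => lift_point_gpin' Q I hS hAz hI a' ha')

end

theorem smooth_affine_gpin_even {R : Type u} [CommRing R] (m : ℕ)
    (Q : QuadraticForm R (Fin (2 * m) → R)) (hQ : IsRegular Q)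
    (G : Over (Spec (CommRingCat.of R))) [GrpObj G] (D : GPinRep Q G) :
    Smooth G.hom ∧ IsAffineHom G.hom := by
  obtain ⟨R', _, _, hff, hfp, g', hg', hspan⟩ :=
    Cl.even_setup m (Pi.basisFun R (Fin (2 * m))) Q hQ
  have hAz : IsAzumaya R (CliffordAlgebra Q) :=
    Cl.even_isAzumaya m (Pi.basisFun R (Fin (2 * m))) Q g' hg' hspan
  exact smooth_affine_gpin_of_isAzumaya Q hAz (isUnit_smat_det_of_isRegular Q hQ) D

end Groth.Agent.Lib.Helper15.CliffRep
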