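import Mathlib

set_option autoImplicit false
set_option linter.style.haveILetI false

namespace Groth.Agent.Lib.Helper15.CountCyclic

open Classical in
/-- number of linear maps `P → M` with prescribed range -/
noncomputable def cnt {A : Type*} [Ring A] (P : Type*) [AddCommGroup P] [Module A P]
    {M : Type*} [AddCommGroup M] [Module A M] [Fintype (P →ₗ[A] M)] (Z : Submodule A M) : ℕ :=
  (Finset.univ.filter (fun f : P →ₗ[A] M => LinearMap.range f = Z)).card

section
variable {A : Type*} [Ring A] {M : Type*} [AddCommGroup M] [Module A M]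

/-- maps into `M` with range inside `Y` are maps into `Y` -/
noncomputable def homEquiv (P : Type*) [AddCommGroup P] [Module A P] (Y : Submodule A M) :
    {f : P →ₗ[A] M // LinearMap.range f ≤ Y} ≃ (P →ₗ[A] Y) where
  toFun f := LinearMap.codRestrict Y f.1 (fun x => f.2 ⟨x, rfl⟩)
  invFun g := ⟨Y.subtype.comp g, by
    rintro _ ⟨x, rfl⟩
    exact (g x).2⟩
  left_inv f := by ext; rfl
  right_inv g := by ext; rfl

open Classical in
theorem sum_cnt (P : Type*) [AddCommGroup P] [Module A P] [Fintype (P →ₗ[A] M)]
    [Fintype (Submodule A M)] (Y : Submodule A M) :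
    ∑ Z ∈ Finset.univ.filter (fun Z : Submodule A M => Z ≤ Y), cnt P Z =
      Nat.card (P →ₗ[A] Y) := by
  rw [← Nat.card_congr (homEquiv P Y), Nat.card_eq_fintype_card, Fintype.card_subtype]
  rw [Finset.card_eq_sum_card_fiberwise (f := fun f : P →ₗ[A] M => LinearMap.range f)
    (t := Finset.univ.filter (fun Z : Submodule A M => Z ≤ Y))]
  · refine Finset.sum_congr rfl (fun Z hZ => ?_)
    unfold cnt
    congr 1
    ext f
    simp only [Finset.mem_filter, Finset.mem_univ, true_and]
    constructor
    · intro h; exact ⟨h ▸ (Finset.mem_filter.mp hZ).2, h⟩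
    · intro h; exact h.2
  · intro f hf
    simp only [Finset.coe_filter, Finset.mem_univ, true_and, Set.mem_setOf_eq] at hf ⊢
    exact hf

open Classical in
theorem cnt_eq (P Q : Type*) [AddCommGroup P] [Module A P] [AddCommGroup Q] [Module A Q]
    [Fintype (P →ₗ[A] M)] [Fintype (Q →ₗ[A] M)] [Finite M]
    (h : ∀ Y : Submodule A M, Nat.card (P →ₗ[A] Y) = Nat.card (Q →ₗ[A] Y)) (Y : Submodule A M) :
    cnt P Y = cnt Q Y := by
  haveI : Finite (Submodule A M) := Finite.of_injective (fun Y => (Y : Set M)) SetLike.coe_injective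
  haveI : Fintype (Submodule A M) := Fintype.ofFinite _
  induction Y using WellFoundedLT.induction with
  | ind Y ih =>
    have hP := sum_cnt (A := A) (M := M) P Y
    have hQ := sum_cnt (A := A) (M := M) Q Y
    have hsplit : ∀ (c : Submodule A M → ℕ),
        ∑ Z ∈ Finset.univ.filter (fun Z : Submodule A M => Z ≤ Y), c Z =
          c Y + ∑ Z ∈ Finset.univ.filter (fun Z : Submodule A M => Z < Y), c Z := by
      intro c
      have : Finset.univ.filter (fun Z : Submodule A M => Z ≤ Y) =
          insert Y (Finset.univ.filter (fun Z : Submodule A M => Z < Y)) := by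
        ext Z
        simp only [Finset.mem_filter, Finset.mem_univ, true_and, Finset.mem_insert]
        exact le_iff_eq_or_lt
      rw [this, Finset.sum_insert (by simp)]
    rw [hsplit] at hP hQ
    have hlt : ∑ Z ∈ Finset.univ.filter (fun Z : Submodule A M => Z < Y), cnt P Z =
        ∑ Z ∈ Finset.univ.filter (fun Z : Submodule A M => Z < Y), cnt Q Z :=
      Finset.sum_congr rfl (fun Z hZ => ih Z (Finset.mem_filter.mp hZ).2)
    have := h Y
    omega

/-- the counting criterion for cyclicity -/
theorem exists_surjective_of_card_hom [Finite M]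
    (h : ∀ Y : Submodule A M, Nat.card (M →ₗ[A] Y) = Nat.card Y) :
    ∃ f : A →ₗ[A] M, Function.Surjective f := by
  classical
  haveI : Finite (M →ₗ[A] M) := Finite.of_injective (fun f => (f : M → M)) DFunLike.coe_injective
  haveI : Fintype (M →ₗ[A] M) := Fintype.ofFinite _
  haveI : Finite (A →ₗ[A] M) := Finite.of_equiv M (LinearMap.ringLmapEquivSelf A ℕ M).symm.toEquiv
  haveI : Fintype (A →ₗ[A] M) := Fintype.ofFinite _
  have h' : ∀ Y : Submodule A M, Nat.card (M →ₗ[A] Y) = Nat.card (A →ₗ[A] Y) := by
    intro Y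
    rw [h Y]
    exact Nat.card_congr (LinearMap.ringLmapEquivSelf A ℕ Y).symm.toEquiv
  have key := cnt_eq (A := A) (M := M) M A h' ⊤
  have hpos : 0 < cnt (A := A) M (⊤ : Submodule A M) := by
    unfold cnt
    rw [Finset.card_pos]
    exact ⟨LinearMap.id, by simp⟩
  rw [key] at hpos
  unfold cnt at hpos
  obtain ⟨f, hf⟩ := Finset.card_pos.mp hpos
  exact ⟨f, LinearMap.range_eq_top.mp (Finset.mem_filter.mp hf).2⟩

end

end Groth.Agent.Lib.Helper15.CountCyclic
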