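import Mathlib
import Groth.Prelude.Def_Curves
import Groth.Agent.Lib.Helper15.CSABaseChange

/-!
# A subfield of maximal degree splits a central simple algebra (helper15)
-/

set_option autoImplicit false
universe u v w
open scoped TensorProduct

namespace Groth.Agent.Lib.Helper15.CSA

section rmod

variable {k : Type u} [Field k] {L : Type v} [Field L] [Algebra k L]
variable {A : Type w} [Ring A] [Algebra k A]

/-- `A` as a right `L`-vector space via `ι : L →ₐ[k] A`. -/
def RMod (_ι : L →ₐ[k] A) : Type w := A

variable (ι : L →ₐ[k] A)

instance : AddCommGroup (RMod ι) := inferInstanceAs (AddCommGroup A)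
instance : Module k (RMod ι) := inferInstanceAs (Module k A)

instance : Module L (RMod ι) where
  smul c z := (show A from z) * ι c
  one_smul z := by change (show A from z) * ι 1 = z; rw [map_one, mul_one]
  mul_smul c d z := by
    change (show A from z) * ι (c * d) = ((show A from z) * ι d) * ι c
    rw [mul_comm c d, map_mul, mul_assoc]
  smul_zero c := by change (0 : A) * ι c = 0; rw [zero_mul]
  smul_add c z w := by
    change ((show A from z) + (show A from w)) * ι c = (show A from z) * ι c + (show A from w) * ι c
    rw [add_mul]
  add_smul c d z := by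
    change (show A from z) * ι (c + d) = (show A from z) * ι c + (show A from z) * ι d
    rw [map_add, mul_add]
  zero_smul z := by change (show A from z) * ι 0 = 0; rw [map_zero, mul_zero]

lemma RMod.smul_def (c : L) (z : RMod ι) : c • z = (show A from z) * ι c := rfl

instance : IsScalarTower k L (RMod ι) where
  smul_assoc r c z := by
    change (show A from z) * ι (r • c) = r • ((show A from z) * ι c)
    rw [map_smul, mul_smul_comm]

instance [FiniteDimensional k A] : FiniteDimensional k (RMod ι) :=
  inferInstanceAs (FiniteDimensional k A)

/-- Left multiplication by `a` as an `L`-linear endomorphism of `RMod ι`. -/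
def RMod.lmul : A →ₐ[k] Module.End L (RMod ι) where
  toFun a :=
    { toFun := fun z => (a * (show A from z) : A)
      map_add' := fun z w => mul_add a _ _
      map_smul' := fun c z => by
        change a * ((show A from z) * ι c) = (a * (show A from z)) * ι c
        rw [mul_assoc] }
  map_one' := by
    ext z
    change (1 : A) * (show A from z) = z
    rw [one_mul]
  map_mul' a b := by
    ext z
    change (a * b) * (show A from z) = a * (b * (show A from z))
    rw [mul_assoc]
  map_zero' := by
    ext z
    change (0 : A) * (show A from z) = 0
    rw [zero_mul]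
  map_add' a b := by
    ext z
    change (a + b) * (show A from z) = a * (show A from z) + b * (show A from z)
    rw [add_mul]
  commutes' r := by
    ext z
    change (algebraMap k A r) * (show A from z) = (algebraMap k (Module.End L (RMod ι)) r) z
    rw [Algebra.algebraMap_eq_smul_one, smul_mul_assoc, one_mul, Algebra.algebraMap_eq_smul_one,
      LinearMap.smul_apply]
    rfl

end rmod

/-- A subfield `L` of a central simple `k`-algebra `A` with `[L : k]² = dim_k A` splits `A`. -/
theorem splits_of_algHom_of_finrank_sq (k : Type u) [Field k] (L : Type v) [Field L] [Algebra k L]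
    [FiniteDimensional k L] (A : Type w) [Ring A] [Algebra k A] [Algebra.IsCentral k A]
    [IsSimpleRing A] (ι : L →ₐ[k] A) (h : Module.finrank k A = (Module.finrank k L) ^ 2) :
    Curves.Splits k A L := by
  have hnpos : 0 < Module.finrank k L := Module.finrank_pos
  have hfinA : FiniteDimensional k A := by
    apply Module.finite_of_finrank_pos
    rw [h]; positivity
  set n := Module.finrank k L with hn
  have hfinV : Module.Finite L (RMod ι) := Module.Finite.of_restrictScalars_finite k L (RMod ι)
  have hdimV : Module.finrank L (RMod ι) = n := by
    have h1 := Module.finrank_mul_finrank k L (RMod ι)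
    have h2 : Module.finrank k (RMod ι) = n ^ 2 := h
    rw [h2, ← hn, pow_two] at h1
    exact Nat.eq_of_mul_eq_mul_left hnpos h1
  let bV : Module.Basis (Fin n) L (RMod ι) := Module.finBasisOfFinrankEq L (RMod ι) hdimV
  let e1 : Module.End L (RMod ι) ≃ₐ[L] Matrix (Fin n) (Fin n) L := algEquivMatrix bV
  let f : L ⊗[k] A →ₐ[L] Module.End L (RMod ι) :=
    Algebra.TensorProduct.lift (Algebra.ofId L _) (RMod.lmul ι)
      (fun c a => Algebra.commute_algebraMap_left _ _)
  have hsimple : IsSimpleRing (L ⊗[k] A) := isSimpleRing_baseChange k L A
  have hntV : Nontrivial (Module.End L (RMod ι)) := by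
    have : Nontrivial (Matrix (Fin n) (Fin n) L) := by
      haveI : Nonempty (Fin n) := ⟨⟨0, hnpos⟩⟩
      infer_instance
    exact e1.toEquiv.nontrivial
  have hinj : Function.Injective f := (f : L ⊗[k] A →+* Module.End L (RMod ι)).injective
  have hdim1 : Module.finrank L (L ⊗[k] A) = n ^ 2 := by
    rw [Module.finrank_baseChange, h]
  have hdim2 : Module.finrank L (Module.End L (RMod ι)) = n ^ 2 := by
    rw [e1.toLinearEquiv.finrank_eq, Module.finrank_matrix]
    simp [pow_two]
  have hbij : Function.Bijective f := by
    refine ⟨hinj, ?_⟩
    have := (LinearMap.injective_iff_surjective_of_finrank_eq_finrank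
      (f := f.toLinearMap) (hdim1.trans hdim2.symm)).mp hinj
    exact this
  exact ⟨n, hnpos.ne', ⟨(AlgEquiv.ofBijective f hbij).trans e1⟩⟩

end Groth.Agent.Lib.Helper15.CSA
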