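import Mathlib
import Groth.Prelude.Def_GSzCSA
import Groth.Agent.Lib.Helper15.MaxSubfield

/-!
# Cyclic algebras are central simple (helper15)
-/

set_option autoImplicit false
universe u v w
open scoped TensorProduct

namespace Groth.Agent.Lib.Helper15.CSA.Cyclic

section basic

variable {k : Type u} [Field k] {K : Type v} [Field K] [Algebra k K]
  {A : Type w} [Ring A] [Algebra k A]
  (σ : K ≃ₐ[k] K) (b : k) (n : ℕ) (ι : K →ₐ[k] A) (y : A)

/-- `ι c * y ^ i = y ^ i * ι (σ ^ i c)`. -/
lemma comm_pow (hrel : ∀ x, ι x * y = y * ι (σ x)) (i : ℕ) (c : K) :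
    ι c * y ^ i = y ^ i * ι ((σ ^ i) c) := by
  induction i generalizing c with
  | zero => simp
  | succ i ih =>
    rw [pow_succ, ← mul_assoc, ih, mul_assoc, hrel, ← mul_assoc, pow_succ' σ i,
      AlgEquiv.mul_apply]

/-- The map `(x_i) ↦ ∑ y ^ i ι(x_i)`. -/
def Φ : (Fin n → K) →ₗ[k] A where
  toFun x := ∑ i : Fin n, y ^ (i : ℕ) * ι (x i)
  map_add' x x' := by simp [mul_add, Finset.sum_add_distrib]
  map_smul' r x := by simp [Finset.smul_sum, mul_smul_comm]

lemma Φ_apply (x : Fin n → K) : Φ n ι y x = ∑ i : Fin n, y ^ (i : ℕ) * ι (x i) := rfl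

lemma Φ_single (i : Fin n) (d : K) : Φ n ι y (Pi.single i d) = y ^ (i : ℕ) * ι d := by
  classical
  rw [Φ_apply, Finset.sum_eq_single i]
  · rw [Pi.single_eq_same]
  · intro j _ hj
    rw [Pi.single_eq_of_ne hj, map_zero, mul_zero]
  · intro h; exact absurd (Finset.mem_univ i) h

lemma pow_mul_mem_range (hn : 0 < n) (hy : y ^ n = algebraMap k A b) (j : ℕ) (c : K) :
    y ^ j * ι c ∈ LinearMap.range (Φ n ι y) := by
  refine ⟨Pi.single ⟨j % n, Nat.mod_lt _ hn⟩ (b ^ (j / n) • c), ?_⟩
  rw [Φ_single]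
  conv_rhs => rw [← Nat.div_add_mod j n]
  rw [pow_add, pow_mul, hy, map_smul, ← map_pow, Algebra.algebraMap_eq_smul_one, smul_mul_assoc,
    one_mul, mul_smul_comm, smul_mul_assoc]

lemma ι_mul_Φ (hrel : ∀ x, ι x * y = y * ι (σ x)) (c : K) (x : Fin n → K) :
    ι c * Φ n ι y x = Φ n ι y (fun i => (σ ^ (i : ℕ)) c * x i) := by
  rw [Φ_apply, Φ_apply, Finset.mul_sum]
  refine Finset.sum_congr rfl fun i _ => ?_
  rw [← mul_assoc, comm_pow σ ι y hrel, mul_assoc, ← map_mul]

lemma Φ_mul_ι (d : K) (x : Fin n → K) :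
    Φ n ι y x * ι d = Φ n ι y (fun i => x i * d) := by
  rw [Φ_apply, Φ_apply, Finset.sum_mul]
  refine Finset.sum_congr rfl fun i _ => ?_
  rw [mul_assoc, ← map_mul]

lemma Φ_surjective (hn : 0 < n) (hy : y ^ n = algebraMap k A b)
    (hrel : ∀ x, ι x * y = y * ι (σ x))
    (hadj : Algebra.adjoin k (Set.range ι ∪ {y}) = ⊤) :
    Function.Surjective (Φ n ι y) := by
  let R := LinearMap.range (Φ n ι y)
  let T : Subalgebra k A :=
    { carrier := {a | ∀ z ∈ R, a * z ∈ R}
      mul_mem' := by
        intro a a' ha ha' z hz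
        rw [mul_assoc]
        exact ha _ (ha' _ hz)
      add_mem' := by
        intro a a' ha ha' z hz
        rw [add_mul]
        exact R.add_mem (ha _ hz) (ha' _ hz)
      algebraMap_mem' := by
        intro r z hz
        rw [Algebra.algebraMap_eq_smul_one, smul_mul_assoc, one_mul]
        exact R.smul_mem r hz }
  have hT : T = ⊤ := by
    rw [eq_top_iff, ← hadj]
    refine Algebra.adjoin_le ?_
    rintro a (⟨c, rfl⟩ | ha)
    · rintro z ⟨x, rfl⟩
      change ι c * Φ n ι y x ∈ R
      rw [ι_mul_Φ σ n ι y hrel]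
      exact ⟨_, rfl⟩
    · rintro z ⟨x, rfl⟩
      rw [Set.mem_singleton_iff] at ha
      rw [ha]
      change y * Φ n ι y x ∈ R
      rw [Φ_apply, Finset.mul_sum]
      refine R.sum_mem fun i _ => ?_
      rw [← mul_assoc, ← pow_succ']
      exact pow_mul_mem_range b n ι y hn hy _ _
  intro a
  have ha : a ∈ T := by rw [hT]; exact Algebra.mem_top
  have h1 : (1 : A) ∈ R := by
    have := pow_mul_mem_range b n ι y hn hy 0 1
    rw [pow_zero, one_mul, map_one] at this
    exact this
  have := ha 1 h1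
  rwa [mul_one] at this

end basic

section main

variable {k : Type u} [Field k] {K : Type v} [Field K] [Algebra k K] [FiniteDimensional k K]
  {A : Type w} [Ring A] [Algebra k A]
  (σ : K ≃ₐ[k] K) (b : k) (ι : K →ₐ[k] A) (y : A)

lemma Φ_bijective (hy : y ^ Module.finrank k K = algebraMap k A b)
    (hrel : ∀ x, ι x * y = y * ι (σ x))
    (hadj : Algebra.adjoin k (Set.range ι ∪ {y}) = ⊤)
    (hn : 0 < Module.finrank k K) (hfin : Module.finrank k A = Module.finrank k K ^ 2) :
    Function.Bijective (Φ (Module.finrank k K) ι y) := by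
  have hsurj := Φ_surjective σ b _ ι y hn hy hrel hadj
  have hfinA : FiniteDimensional k A := by
    apply Module.finite_of_finrank_pos
    rw [hfin]; positivity
  have hdim : Module.finrank k (Fin (Module.finrank k K) → K) = Module.finrank k A := by
    rw [Module.finrank_pi_fintype, hfin]
    simp [pow_two]
  exact ⟨(LinearMap.injective_iff_surjective_of_finrank_eq_finrank hdim).mpr hsurj, hsurj⟩

end main

section galois

variable {k : Type u} [Field k] {K : Type v} [Field K] [Algebra k K] [FiniteDimensional k K]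
  [IsGalois k K] {A : Type w} [Ring A] [Algebra k A]
  (σ : K ≃ₐ[k] K) (hσ : ∀ τ : K ≃ₐ[k] K, τ ∈ Subgroup.zpowers σ)

include hσ in
lemma orderOf_eq : orderOf σ = Module.finrank k K := by
  rw [orderOf_eq_card_of_forall_mem_zpowers hσ, IsGalois.card_aut_eq_finrank]

include hσ in
/-- Core lemma: a vector killed by all the `σ^i c - σ^j c` is supported at `j`. -/
lemma eq_zero_of_forall (x : Fin (Module.finrank k K) → K) (j : Fin (Module.finrank k K))
    (h : ∀ (c : K) (i : Fin (Module.finrank k K)),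
      ((σ ^ (i : ℕ)) c - (σ ^ (j : ℕ)) c) * x i = 0)
    (i : Fin (Module.finrank k K)) (hij : i ≠ j) : x i = 0 := by
  have hne : σ ^ (i : ℕ) ≠ σ ^ (j : ℕ) := by
    intro heq
    apply hij
    have := pow_injOn_Iio_orderOf (x := σ)
      (by rw [Set.mem_Iio, orderOf_eq σ hσ]; exact i.2)
      (by rw [Set.mem_Iio, orderOf_eq σ hσ]; exact j.2) heq
    exact Fin.ext this
  obtain ⟨c, hc⟩ : ∃ c, (σ ^ (i : ℕ)) c ≠ (σ ^ (j : ℕ)) c := by
    by_contra hcon
    push Not at hcon
    exact hne (AlgEquiv.ext hcon)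
  rcases mul_eq_zero.mp (h c i) with h1 | h1
  · exact absurd (sub_eq_zero.mp h1) hc
  · exact h1

include hσ in
lemma eq_single_of_forall (x : Fin (Module.finrank k K) → K) (j : Fin (Module.finrank k K))
    (h : ∀ (c : K) (i : Fin (Module.finrank k K)),
      ((σ ^ (i : ℕ)) c - (σ ^ (j : ℕ)) c) * x i = 0) : x = Pi.single j (x j) := by
  ext i
  by_cases hi : i = j
  · subst hi; rw [Pi.single_eq_same]
  · rw [Pi.single_eq_of_ne hi, eq_zero_of_forall σ hσ x j h i hi]

include hσ in
/-- A cyclic algebra is central. -/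
theorem isCentral (b : k) (hb : b ≠ 0) (ι : K →ₐ[k] A) (y : A)
    (hy : y ^ Module.finrank k K = algebraMap k A b)
    (hrel : ∀ x, ι x * y = y * ι (σ x))
    (hadj : Algebra.adjoin k (Set.range ι ∪ {y}) = ⊤)
    (hn : 0 < Module.finrank k K) (hfin : Module.finrank k A = Module.finrank k K ^ 2) :
    Algebra.IsCentral k A := by
  have hbij := Φ_bijective σ b ι y hy hrel hadj hn hfin
  have hntA : Nontrivial A := by
    apply Module.nontrivial_of_finrank_pos (R := k)
    rw [hfin]; positivity
  have hιinj : Function.Injective ι := (ι : K →+* A).injective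
  refine ⟨fun z hz => ?_⟩
  rw [Subalgebra.mem_center_iff] at hz
  obtain ⟨x, rfl⟩ := hbij.2 z
  have h1 : ∀ (c : K) (i : Fin (Module.finrank k K)),
      ((σ ^ (i : ℕ)) c - (σ ^ ((⟨0, hn⟩ : Fin (Module.finrank k K)) : ℕ)) c) * x i = 0 := by
    intro c i
    have h := hz (ι c)
    rw [ι_mul_Φ σ _ ι y hrel, Φ_mul_ι] at h
    have h' : (σ ^ (i : ℕ)) c * x i = x i * c := congrFun (hbij.1 h) i
    rw [sub_mul, h', pow_zero, AlgEquiv.one_apply, mul_comm, sub_self]
  have hx := eq_single_of_forall σ hσ x ⟨0, hn⟩ h1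
  have hzx : Φ (Module.finrank k K) ι y x = ι (x ⟨0, hn⟩) := by
    rw [hx, Φ_single, pow_zero, one_mul, Pi.single_eq_same]
  rw [hzx] at hz ⊢
  set x0 := x ⟨0, hn⟩
  have hyu : IsUnit y := by
    rw [← isUnit_pow_iff hn.ne', hy]
    exact (isUnit_iff_ne_zero.mpr hb).map (algebraMap k A)
  have h3 : y * ι (σ x0) = y * ι x0 := by rw [← hrel, ← hz y]
  have h4 : σ x0 = x0 := hιinj (hyu.mul_left_cancel h3)
  have h5 : x0 ∈ (⊥ : IntermediateField k K) := by
    rw [IsGalois.mem_bot_iff_fixed]
    intro f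
    have hle : Subgroup.zpowers σ ≤ MulAction.stabilizer (K ≃ₐ[k] K) x0 := by
      rw [Subgroup.zpowers_le, MulAction.mem_stabilizer_iff]
      exact h4
    exact MulAction.mem_stabilizer_iff.mp (hle (hσ f))
  rw [IntermediateField.mem_bot] at h5
  obtain ⟨r, hr⟩ := h5
  rw [← hr, AlgHom.commutes]
  exact Subalgebra.algebraMap_mem ⊥ r

include hσ in
/-- A cyclic algebra is simple. -/
theorem isSimpleRing (b : k) (hb : b ≠ 0) (ι : K →ₐ[k] A) (y : A)
    (hy : y ^ Module.finrank k K = algebraMap k A b)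
    (hrel : ∀ x, ι x * y = y * ι (σ x))
    (hadj : Algebra.adjoin k (Set.range ι ∪ {y}) = ⊤)
    (hn : 0 < Module.finrank k K) (hfin : Module.finrank k A = Module.finrank k K ^ 2) :
    IsSimpleRing A := by
  classical
  have hbij := Φ_bijective σ b ι y hy hrel hadj hn hfin
  have hntA : Nontrivial A := by
    apply Module.nontrivial_of_finrank_pos (R := k)
    rw [hfin]; positivity
  refine IsSimpleRing.of_eq_bot_or_eq_top fun I => ?_
  rw [or_iff_not_imp_left]
  intro hI
  have key : ∀ m : ℕ, ∀ x : Fin (Module.finrank k K) → K,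
      (Finset.univ.filter (fun i => x i ≠ 0)).card = m → x ≠ 0 →
      Φ (Module.finrank k K) ι y x ∈ I → (1 : A) ∈ I := by
    intro m
    induction m using Nat.strong_induction_on with
    | _ m ih =>
      intro x hcard hx0 hxI
      obtain ⟨j, hj⟩ : ∃ j, x j ≠ 0 := Function.ne_iff.mp hx0
      by_cases hall : ∀ c : K,
          (fun i : Fin (Module.finrank k K) => ((σ ^ (i : ℕ)) c - (σ ^ (j : ℕ)) c) * x i) = 0
      · have hx := eq_single_of_forall σ hσ x j (fun c i => congrFun (hall c) i)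
        rw [hx, Φ_single] at hxI
        have h3 : y ^ (j : ℕ) ∈ I := by
          have := I.mul_mem_right _ (ι (x j)⁻¹) hxI
          rwa [mul_assoc, ← map_mul, mul_inv_cancel₀ hj, map_one, mul_one] at this
        have h4 : y ^ Module.finrank k K ∈ I := by
          have := I.mul_mem_left (y ^ (Module.finrank k K - j)) _ h3
          rwa [← pow_add, Nat.sub_add_cancel j.2.le] at this
        rw [hy] at h4
        have := I.mul_mem_left (algebraMap k A b⁻¹) _ h4
        rwa [← map_mul, inv_mul_cancel₀ hb, map_one] at this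
      · push Not at hall
        obtain ⟨c, hc⟩ := hall
        have hx'I : Φ (Module.finrank k K) ι y
            (fun i => ((σ ^ (i : ℕ)) c - (σ ^ (j : ℕ)) c) * x i) ∈ I := by
          have h5 : Φ (Module.finrank k K) ι y
              (fun i => ((σ ^ (i : ℕ)) c - (σ ^ (j : ℕ)) c) * x i) =
              ι c * Φ (Module.finrank k K) ι y x -
                Φ (Module.finrank k K) ι y x * ι ((σ ^ (j : ℕ)) c) := by
            rw [ι_mul_Φ σ _ ι y hrel, Φ_mul_ι, ← map_sub]
            congr 1
            ext i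
            simp only [Pi.sub_apply]
            ring
          rw [h5]
          exact I.sub_mem (I.mul_mem_left _ _ hxI) (I.mul_mem_right _ _ hxI)
        have hlt : (Finset.univ.filter (fun i : Fin (Module.finrank k K) =>
            ((σ ^ (i : ℕ)) c - (σ ^ (j : ℕ)) c) * x i ≠ 0)).card < m := by
          rw [← hcard]
          apply Finset.card_lt_card
          rw [Finset.ssubset_iff_of_subset]
          · exact ⟨j, by simp [hj], by simp⟩
          · intro i
            simp only [Finset.mem_filter, Finset.mem_univ, true_and]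
            intro h h0
            exact h (by rw [h0, mul_zero])
        exact ih _ hlt _ rfl hc hx'I
  obtain ⟨z, hzI, hz0⟩ : ∃ z ∈ I, z ≠ 0 := by
    by_contra hcon
    push Not at hcon
    apply hI
    rw [eq_bot_iff]
    intro z hz
    rw [hcon z hz]
    exact (⊥ : TwoSidedIdeal A).zero_mem
  obtain ⟨x, rfl⟩ := hbij.2 z
  have hx0 : x ≠ 0 := by
    rintro rfl
    exact hz0 (map_zero _)
  exact (TwoSidedIdeal.one_mem_iff I).mp (key _ x rfl hx0 hzI)

end galois

end Groth.Agent.Lib.Helper15.CSA.Cyclic
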