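import Mathlib
import Groth.Agent.Lib.Helper15.Cyclic

/-!
# Cyclic algebras: universal property, uniqueness (helper15)
-/

set_option autoImplicit false
universe u v w w'
open scoped TensorProduct

namespace Groth.Agent.Lib.Helper15.CSA.Cyclic

section nat

variable {k : Type u} [Field k] {K : Type v} [Field K] [Algebra k K]
  {A : Type w} [Ring A] [Algebra k A] {R : Type w'} [Ring R] [Algebra k R]

/-- Naturality of `Φ`. -/
lemma map_Φ (n : ℕ) (ι : K →ₐ[k] A) (y : A) (f : A →ₐ[k] R) (x : Fin n → K) :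
    f (Φ n ι y x) = Φ n (f.comp ι) (f y) x := by
  rw [Φ_apply, Φ_apply, map_sum]
  refine Finset.sum_congr rfl fun i _ => ?_
  rw [map_mul, map_pow]
  rfl

/-- The range of `Φ` is closed under multiplication. -/
lemma range_mul_mem (σ : K ≃ₐ[k] K) (b : k) (n : ℕ) (ι : K →ₐ[k] A) (y : A)
    (hn : 0 < n) (hy : y ^ n = algebraMap k A b)
    (hrel : ∀ x, ι x * y = y * ι (σ x)) (z z' : A)
    (hz : z ∈ LinearMap.range (Φ n ι y)) (hz' : z' ∈ LinearMap.range (Φ n ι y)) :
    z * z' ∈ LinearMap.range (Φ n ι y) := by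
  let R := LinearMap.range (Φ n ι y)
  let T : Subalgebra k A :=
    { carrier := {a | ∀ z ∈ R, a * z ∈ R}
      mul_mem' := by
        intro a a' ha ha' z hz
        rw [mul_assoc]
        exact ha _ (ha' _ hz)
      add_mem' := by
        intro a a' ha ha' z hz
        rw [add_mul]
        exact R.add_mem (ha _ hz) (ha' _ hz)
      algebraMap_mem' := by
        intro r z hz
        rw [Algebra.algebraMap_eq_smul_one, smul_mul_assoc, one_mul]
        exact R.smul_mem r hz }
  have hιT : ∀ c, ι c ∈ T := by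
    rintro c z ⟨x, rfl⟩
    change ι c * Φ n ι y x ∈ R
    rw [ι_mul_Φ σ n ι y hrel]
    exact ⟨_, rfl⟩
  have hyT : y ∈ T := by
    rintro z ⟨x, rfl⟩
    change y * Φ n ι y x ∈ R
    rw [Φ_apply, Finset.mul_sum]
    refine R.sum_mem fun i _ => ?_
    rw [← mul_assoc, ← pow_succ']
    exact pow_mul_mem_range b n ι y hn hy _ _
  obtain ⟨x, rfl⟩ := hz
  have : Φ n ι y x ∈ T := by
    rw [Φ_apply]
    exact T.sum_mem fun i _ => T.mul_mem (T.pow_mem hyT _) (hιT _)
  exact this z' hz'

end nat

section lift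

variable {k : Type u} [Field k] {K : Type v} [Field K] [Algebra k K] [FiniteDimensional k K]
  {A : Type w} [Ring A] [Algebra k A] {R : Type w'} [Ring R] [Algebra k R]
  (σ : K ≃ₐ[k] K) (b : k) (ι : K →ₐ[k] A) (y : A)
  (hy : y ^ Module.finrank k K = algebraMap k A b)
  (hrel : ∀ x, ι x * y = y * ι (σ x))
  (hadj : Algebra.adjoin k (Set.range ι ∪ {y}) = ⊤)
  (hn : 0 < Module.finrank k K) (hfin : Module.finrank k A = Module.finrank k K ^ 2)
  (ιR : K →ₐ[k] R) (yR : R)
  (hyR : yR ^ Module.finrank k K = algebraMap k R b)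
  (hrelR : ∀ x, ιR x * yR = yR * ιR (σ x))

include hy hrel hadj hn hfin hyR hrelR in
/-- The universal property of a cyclic algebra. -/
theorem exists_lift : ∃ f : A →ₐ[k] R, (∀ c, f (ι c) = ιR c) ∧ f y = yR ∧
    ∀ x, f (Φ (Module.finrank k K) ι y x) = Φ (Module.finrank k K) ιR yR x := by
  have hbij := Φ_bijective σ b ι y hy hrel hadj hn hfin
  let e : (Fin (Module.finrank k K) → K) ≃ₗ[k] A := LinearEquiv.ofBijective _ hbij
  let g : A →ₗ[k] R := (Φ (Module.finrank k K) ιR yR) ∘ₗ e.symm.toLinearMap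
  have hg : ∀ x, g (Φ (Module.finrank k K) ι y x) = Φ (Module.finrank k K) ιR yR x := by
    intro x
    change Φ (Module.finrank k K) ιR yR (e.symm (e x)) = _
    rw [e.symm_apply_apply]
  -- the pair algebra
  let ιP : K →ₐ[k] A × R := AlgHom.prod ι ιR
  let yP : A × R := (y, yR)
  have hyP : yP ^ Module.finrank k K = algebraMap k (A × R) b := by
    ext
    · exact hy
    · exact hyR
  have hrelP : ∀ x, ιP x * yP = yP * ιP (σ x) := by
    intro x
    ext
    · exact hrel x
    · exact hrelR x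
  have hfst : ∀ x, (Φ (Module.finrank k K) ιP yP x).1 = Φ (Module.finrank k K) ι y x := by
    intro x
    exact map_Φ _ ιP yP (AlgHom.fst k A R) x
  have hsnd : ∀ x, (Φ (Module.finrank k K) ιP yP x).2 = Φ (Module.finrank k K) ιR yR x := by
    intro x
    exact map_Φ _ ιP yP (AlgHom.snd k A R) x
  have hmul : ∀ a a', g (a * a') = g a * g a' := by
    intro a a'
    obtain ⟨x, rfl⟩ := hbij.2 a
    obtain ⟨x', rfl⟩ := hbij.2 a'
    obtain ⟨x'', hx''⟩ := range_mul_mem σ b _ ιP yP hn hyP hrelP _ _ ⟨x, rfl⟩ ⟨x', rfl⟩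
    have h1 := congrArg Prod.fst hx''
    have h2 := congrArg Prod.snd hx''
    rw [Prod.fst_mul, hfst, hfst, hfst] at h1
    rw [Prod.snd_mul, hsnd, hsnd, hsnd] at h2
    rw [← h1, hg, hg, hg, h2]
  have hι0 : ∀ (ι' : K →ₐ[k] A) (y' : A) (c : K),
      Φ (Module.finrank k K) ι' y' (Pi.single ⟨0, hn⟩ c) = ι' c := by
    intro ι' y' c
    rw [Φ_single, pow_zero, one_mul]
  have hι0R : ∀ (c : K),
      Φ (Module.finrank k K) ιR yR (Pi.single ⟨0, hn⟩ c) = ιR c := by
    intro c
    rw [Φ_single, pow_zero, one_mul]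
  have hgι : ∀ c, g (ι c) = ιR c := by
    intro c
    rw [← hι0 ι y c, hg, hι0R]
  let f : A →ₐ[k] R := AlgHom.ofLinearMap g (by rw [← map_one ι, hgι, map_one]) hmul
  have hfg : ∀ a, f a = g a := fun a => rfl
  refine ⟨f, hgι, ?_, hg⟩
  rw [hfg]
  by_cases h1 : Module.finrank k K = 1
  · -- degenerate case: y = y^1 = b
    have e1 : y = algebraMap k A b := by rw [← hy, h1, pow_one]
    have e2 : yR = algebraMap k R b := by rw [← hyR, h1, pow_one]
    rw [e1, e2, ← AlgHom.commutes ι, hgι, AlgHom.commutes]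
  · have h2 : 1 < Module.finrank k K := by omega
    have e1 : Φ (Module.finrank k K) ι y (Pi.single ⟨1, h2⟩ 1) = y := by
      rw [Φ_single, pow_one, map_one, mul_one]
    have e2 : Φ (Module.finrank k K) ιR yR (Pi.single ⟨1, h2⟩ 1) = yR := by
      rw [Φ_single, pow_one, map_one, mul_one]
    rw [← e1, hg, e2]

end lift

section inj

variable {k : Type u} [Field k] {K : Type v} [Field K] [Algebra k K] [FiniteDimensional k K]
  [IsGalois k K] {A : Type w} [Ring A] [Algebra k A]
  (σ : K ≃ₐ[k] K) (hσ : ∀ τ : K ≃ₐ[k] K, τ ∈ Subgroup.zpowers σ)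
  (ι : K →ₐ[k] A) (y : A) (hrel : ∀ x, ι x * y = y * ι (σ x))

include hσ hrel in
/-- A predicate on `A` stable under subtraction and under multiplication by `ι(K)` on both sides,
which holds at some `Φ x` with `x ≠ 0`, holds at some monomial `y ^ j * ι u` with `u ≠ 0`. -/
theorem exists_monomial (P : A → Prop) (hsub : ∀ a a', P a → P a' → P (a - a'))
    (hl : ∀ c a, P a → P (ι c * a)) (hr : ∀ d a, P a → P (a * ι d))
    (x : Fin (Module.finrank k K) → K) (hx0 : x ≠ 0)
    (hx : P (Φ (Module.finrank k K) ι y x)) :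
    ∃ (j : Fin (Module.finrank k K)) (u : K), u ≠ 0 ∧ P (y ^ (j : ℕ) * ι u) := by
  classical
  have key : ∀ m : ℕ, ∀ x : Fin (Module.finrank k K) → K,
      (Finset.univ.filter (fun i => x i ≠ 0)).card = m → x ≠ 0 →
      P (Φ (Module.finrank k K) ι y x) →
      ∃ (j : Fin (Module.finrank k K)) (u : K), u ≠ 0 ∧ P (y ^ (j : ℕ) * ι u) := by
    intro m
    induction m using Nat.strong_induction_on with
    | _ m ih =>
      intro x hcard hx0 hxI
      obtain ⟨j, hj⟩ : ∃ j, x j ≠ 0 := Function.ne_iff.mp hx0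
      by_cases hall : ∀ c : K,
          (fun i : Fin (Module.finrank k K) => ((σ ^ (i : ℕ)) c - (σ ^ (j : ℕ)) c) * x i) = 0
      · have hx := eq_single_of_forall σ hσ x j (fun c i => congrFun (hall c) i)
        rw [hx, Φ_single] at hxI
        exact ⟨j, x j, hj, hxI⟩
      · push Not at hall
        obtain ⟨c, hc⟩ := hall
        have hx'I : P (Φ (Module.finrank k K) ι y
            (fun i => ((σ ^ (i : ℕ)) c - (σ ^ (j : ℕ)) c) * x i)) := by
          have h5 : Φ (Module.finrank k K) ι y
              (fun i => ((σ ^ (i : ℕ)) c - (σ ^ (j : ℕ)) c) * x i) =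
              ι c * Φ (Module.finrank k K) ι y x -
                Φ (Module.finrank k K) ι y x * ι ((σ ^ (j : ℕ)) c) := by
            rw [ι_mul_Φ σ _ ι y hrel, Φ_mul_ι, ← map_sub]
            congr 1
            ext i
            simp only [Pi.sub_apply]
            ring
          rw [h5]
          exact hsub _ _ (hl _ _ hxI) (hr _ _ hxI)
        have hlt : (Finset.univ.filter (fun i : Fin (Module.finrank k K) =>
            ((σ ^ (i : ℕ)) c - (σ ^ (j : ℕ)) c) * x i ≠ 0)).card < m := by
          rw [← hcard]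
          apply Finset.card_lt_card
          rw [Finset.ssubset_iff_of_subset]
          · exact ⟨j, by simp [hj], by simp⟩
          · intro i
            simp only [Finset.mem_filter, Finset.mem_univ, true_and]
            intro h h0
            exact h (by rw [h0, mul_zero])
        exact ih _ hlt _ rfl hc hx'I
  exact key _ x rfl hx0 hx

include hσ hrel in
/-- If `y` is a unit then `Φ` is injective. -/
theorem Φ_injective_of_isUnit [Nontrivial A] (hyu : IsUnit y) :
    Function.Injective (Φ (Module.finrank k K) ι y) := by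
  rw [← LinearMap.ker_eq_bot, eq_bot_iff]
  intro x hx
  rw [LinearMap.mem_ker] at hx
  by_contra hx0
  obtain ⟨j, u, hu, h0⟩ := exists_monomial σ hσ ι y hrel (fun a => a = 0)
    (fun a a' ha ha' => by rw [ha, ha', sub_zero])
    (fun c a ha => by rw [ha, mul_zero]) (fun d a ha => by rw [ha, zero_mul]) x hx0 hx
  have h1 : IsUnit (y ^ (j : ℕ) * ι u) := (hyu.pow _).mul ((isUnit_iff_ne_zero.mpr hu).map ι)
  rw [h0] at h1
  exact not_isUnit_zero h1

include hσ hrel in
/-- An element `Φ x` commuting with `ι(K)` is in `ι(K)`, if `Φ` is injective. -/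
theorem eq_single_of_commute (hn : 0 < Module.finrank k K)
    (hinj : Function.Injective (Φ (Module.finrank k K) ι y))
    (x : Fin (Module.finrank k K) → K)
    (hx : ∀ c, ι c * Φ (Module.finrank k K) ι y x = Φ (Module.finrank k K) ι y x * ι c) :
    Φ (Module.finrank k K) ι y x = ι (x ⟨0, hn⟩) := by
  have h1 : ∀ (c : K) (i : Fin (Module.finrank k K)),
      ((σ ^ (i : ℕ)) c - (σ ^ ((⟨0, hn⟩ : Fin (Module.finrank k K)) : ℕ)) c) * x i = 0 := by
    intro c i
    have h := hx c
    rw [ι_mul_Φ σ _ ι y hrel, Φ_mul_ι] at h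
    have h' : (σ ^ (i : ℕ)) c * x i = x i * c := congrFun (hinj h) i
    rw [sub_mul, h', pow_zero, AlgEquiv.one_apply, mul_comm, sub_self]
  have hx' := eq_single_of_forall σ hσ x ⟨0, hn⟩ h1
  rw [hx', Φ_single, pow_zero, one_mul, Pi.single_eq_same]

end inj

section ofUnit

variable {k : Type u} [Field k] {K : Type v} [Field K] [Algebra k K] [FiniteDimensional k K]
  [IsGalois k K] {A : Type w} [Ring A] [Algebra k A]
  (σ : K ≃ₐ[k] K) (hσ : ∀ τ : K ≃ₐ[k] K, τ ∈ Subgroup.zpowers σ)
  (ι : K →ₐ[k] A) (y : A) (hrel : ∀ x, ι x * y = y * ι (σ x))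

include hσ hrel in
/-- A `k`-algebra of dimension `[K:k]²` containing `K` and a unit `y` with `ι x * y = y * ι (σ x)`
is a cyclic algebra. -/
theorem exists_of_isUnit (hfin : Module.finrank k A = Module.finrank k K ^ 2) (hyu : IsUnit y) :
    ∃ b : kˣ, y ^ Module.finrank k K = algebraMap k A (b : k) ∧
      Algebra.adjoin k (Set.range ι ∪ {y}) = ⊤ := by
  have hn : 0 < Module.finrank k K := Module.finrank_pos
  have hntA : Nontrivial A := by
    apply Module.nontrivial_of_finrank_pos (R := k)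
    rw [hfin]; positivity
  have hfinA : FiniteDimensional k A := by
    apply Module.finite_of_finrank_pos
    rw [hfin]; positivity
  have hιinj : Function.Injective ι := (ι : K →+* A).injective
  have hinj := Φ_injective_of_isUnit σ hσ ι y hrel hyu
  have hdim : Module.finrank k (Fin (Module.finrank k K) → K) = Module.finrank k A := by
    rw [Module.finrank_pi_fintype, hfin]
    simp [pow_two]
  have hsurj : Function.Surjective (Φ (Module.finrank k K) ι y) :=
    (LinearMap.injective_iff_surjective_of_finrank_eq_finrank hdim).mp hinj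
  have hσn : σ ^ Module.finrank k K = 1 := by
    rw [← orderOf_eq σ hσ]; exact pow_orderOf_eq_one σ
  obtain ⟨x, hx⟩ := hsurj (y ^ Module.finrank k K)
  have hcomm : ∀ c, ι c * Φ (Module.finrank k K) ι y x = Φ (Module.finrank k K) ι y x * ι c := by
    intro c
    rw [hx, comm_pow σ ι y hrel, hσn, AlgEquiv.one_apply]
  have h1 := eq_single_of_commute σ hσ ι y hrel hn hinj x hcomm
  rw [hx] at h1
  set x0 := x ⟨0, hn⟩
  have h3 : y * ι (σ x0) = y * ι x0 := by
    rw [← hrel, ← h1, ← pow_succ, ← pow_succ']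
  have h4 : σ x0 = x0 := hιinj (hyu.mul_left_cancel h3)
  have h5 : x0 ∈ (⊥ : IntermediateField k K) := by
    rw [IsGalois.mem_bot_iff_fixed]
    intro f
    have hle : Subgroup.zpowers σ ≤ MulAction.stabilizer (K ≃ₐ[k] K) x0 := by
      rw [Subgroup.zpowers_le, MulAction.mem_stabilizer_iff]
      exact h4
    exact MulAction.mem_stabilizer_iff.mp (hle (hσ f))
  rw [IntermediateField.mem_bot] at h5
  obtain ⟨r, hr⟩ := h5
  have hyr : y ^ Module.finrank k K = algebraMap k A r := by
    rw [h1, ← hr, AlgHom.commutes]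
  have hr0 : r ≠ 0 := by
    rintro rfl
    rw [map_zero] at hyr
    have := hyu.pow (Module.finrank k K)
    rw [hyr] at this
    exact not_isUnit_zero this
  refine ⟨Units.mk0 r hr0, hyr, ?_⟩
  rw [eq_top_iff]
  intro a _
  obtain ⟨x', rfl⟩ := hsurj a
  rw [Φ_apply]
  refine Subalgebra.sum_mem _ fun t _ => ?_
  exact Subalgebra.mul_mem _
    (Subalgebra.pow_mem _ (Algebra.subset_adjoin (Set.mem_union_right _ (Set.mem_singleton _))) _)
    (Algebra.subset_adjoin (Set.mem_union_left _ ⟨_, rfl⟩))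

end ofUnit

end Groth.Agent.Lib.Helper15.CSA.Cyclic
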