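import Mathlib
import Groth.Agent.Lib.Helper15.WedderburnUnique

/-!
# Dimensions of modules over matrix algebras over division rings; base change of matrices (helper15)
-/

set_option autoImplicit false
universe u v w
open scoped TensorProduct

namespace Groth.Agent.Lib.Helper15.CSA

/-- If `R ≃ M_m(D)` with `D` a division ring finite over the field `F`, every finite-dimensional
`R`-module has `F`-dimension divisible by `m * dim_F D`. -/
theorem finrank_dvd_of_module (F : Type u) [Field F] (R : Type v) [Ring R] [Algebra F R]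
    (D : Type w) [DivisionRing D] [Algebra F D] [FiniteDimensional F D] (m : ℕ) [NeZero m]
    (e : R ≃ₐ[F] Matrix (Fin m) (Fin m) D)
    (M : Type*) [AddCommGroup M] [Module R M] [Module F M] [IsScalarTower F R M]
    [FiniteDimensional F M] :
    m * Module.finrank F D ∣ Module.finrank F M := by
  have hfR : FiniteDimensional F R := Module.Finite.equiv e.symm.toLinearEquiv
  have hart : IsArtinianRing R := IsArtinianRing.of_finite F R
  have hsimp : IsSimpleRing R := IsSimpleRing.of_ringEquiv e.symm.toRingEquiv inferInstance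
  rcases subsingleton_or_nontrivial M with hM | hM
  · rw [Module.finrank_zero_of_subsingleton (M := M)]; exact dvd_zero _
  have hfM : Module.Finite R M := Module.Finite.of_restrictScalars_finite F R M
  obtain ⟨c, _, S, hS, ⟨ψ⟩⟩ := (IsSimpleRing.isIsotypic R M).linearEquiv_fun
  -- the standard simple module
  let e' : R →ₐ[F] Matrix (Fin m) (Fin m) D := e
  have h2 : IsSimpleModule (Matrix (Fin m) (Fin m) D) (Fin m → D) := isSimpleModule_vec D m
  have h3 : IsSimpleModule R (Pull e' (Fin m → D)) :=
    Pull.isSimpleModule e' (Fin m → D) e.surjective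
  obtain ⟨χ⟩ := nonempty_linearEquiv_of_isSimpleModule R S (Pull e' (Fin m → D))
  have hdimS : Module.finrank F S = m * Module.finrank F D := by
    rw [(χ.restrictScalars F).finrank_eq, Pull.finrank_eq, Module.finrank_pi_fintype]
    simp
  have hfS : Module.Finite F S :=
    Module.Finite.of_injective (S.subtype.restrictScalars F) S.injective_subtype
  rw [(ψ.restrictScalars F).finrank_eq, Module.finrank_pi_fintype]
  simp only [Finset.sum_const, Finset.card_univ, Fintype.card_fin, smul_eq_mul, hdimS]
  exact Dvd.intro_left c rfl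

/-- `K ⊗ M_m(D) ≃ M_m(K ⊗ D)` as `K`-algebras. -/
noncomputable def baseChangeMatrixEquiv (k : Type u) [Field k] (K : Type v) [Field K] [Algebra k K]
    (D : Type w) [Ring D] [Algebra k D] (m : ℕ) :
    K ⊗[k] Matrix (Fin m) (Fin m) D ≃ₐ[K] Matrix (Fin m) (Fin m) (K ⊗[k] D) :=
  (Algebra.TensorProduct.congr
      (AlgEquiv.ofBijective (Algebra.ofId K (Matrix (Fin 1) (Fin 1) K))
        ⟨(Algebra.ofId K (Matrix (Fin 1) (Fin 1) K)).toRingHom.injective, fun M => ⟨M 0 0, by
          ext i j
          rw [Subsingleton.elim i 0, Subsingleton.elim j 0]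
          simp [Algebra.ofId_apply, Matrix.algebraMap_matrix_apply]⟩⟩)
      (AlgEquiv.refl : Matrix (Fin m) (Fin m) D ≃ₐ[k] Matrix (Fin m) (Fin m) D)).trans <|
    (Matrix.kroneckerTMulAlgEquiv (Fin 1) (Fin m) k K K D).trans <|
      Matrix.reindexAlgEquiv K (K ⊗[k] D) ((Equiv.prodComm _ _).trans (Equiv.prodUnique (Fin m) (Fin 1)))

end Groth.Agent.Lib.Helper15.CSA
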