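import Mathlib
import Groth.Agent.Lib.Helper15.Cyclic2
import Groth.Agent.Lib.Helper15.BrEq
import Groth.Agent.Lib.Helper15.ModuleDim

/-!
# Crossed product algebras (helper15)

`K/k` finite Galois with group `G = K ≃ₐ[k] K`.  A crossed product structure on a `k`-algebra `A`
consists of `ι : K →ₐ[k] A`, elements `u σ` with `u σ * ι x = ι (σ x) * u σ`,
`u σ * u τ = ι (f σ τ) * u (σ * τ)`, `u 1 = 1`, and `dim A = [K:k]²`.
-/

set_option autoImplicit false
universe u v w w'
open scoped TensorProduct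

namespace Groth.Agent.Lib.Helper15.CSA.CrossedProd

section basic

variable {k : Type u} [Field k] {K : Type v} [Field K] [Algebra k K] [FiniteDimensional k K]
  {A : Type w} [Ring A] [Algebra k A]
  (ι : K →ₐ[k] A) (u : (K ≃ₐ[k] K) → A)

/-- The map `(x_σ) ↦ ∑ ι(x_σ) u_σ`. -/
noncomputable def Ψ : ((K ≃ₐ[k] K) → K) →ₗ[k] A where
  toFun x := ∑ σ : K ≃ₐ[k] K, ι (x σ) * u σ
  map_add' x x' := by simp [add_mul, Finset.sum_add_distrib]
  map_smul' r x := by simp [Finset.smul_sum]

lemma Ψ_apply (x : (K ≃ₐ[k] K) → K) : Ψ ι u x = ∑ σ : K ≃ₐ[k] K, ι (x σ) * u σ := rfl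

lemma Ψ_single [DecidableEq (K ≃ₐ[k] K)] (σ : K ≃ₐ[k] K) (d : K) :
    Ψ ι u (Pi.single σ d) = ι d * u σ := by
  rw [Ψ_apply, Finset.sum_eq_single σ]
  · rw [Pi.single_eq_same]
  · intro j _ hj
    rw [Pi.single_eq_of_ne hj, map_zero, zero_mul]
  · intro h; exact absurd (Finset.mem_univ σ) h

variable (hrel : ∀ (σ : K ≃ₐ[k] K) (x : K), u σ * ι x = ι (σ x) * u σ)

include hrel in
lemma Ψ_mul_ι (c : K) (x : (K ≃ₐ[k] K) → K) :
    Ψ ι u x * ι c = Ψ ι u (fun σ => x σ * σ c) := by
  rw [Ψ_apply, Ψ_apply, Finset.sum_mul]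
  refine Finset.sum_congr rfl fun σ _ => ?_
  rw [mul_assoc, hrel, ← mul_assoc, ← map_mul]

lemma ι_mul_Ψ (c : K) (x : (K ≃ₐ[k] K) → K) :
    ι c * Ψ ι u x = Ψ ι u (fun σ => c * x σ) := by
  rw [Ψ_apply, Ψ_apply, Finset.mul_sum]
  refine Finset.sum_congr rfl fun σ _ => ?_
  rw [← mul_assoc, ← map_mul]

include hrel in
/-- Dedekind-type independence: a predicate stable under subtraction and multiplication by `ι(K)`
on both sides which holds at some `Ψ x`, `x ≠ 0`, holds at a monomial. -/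
theorem exists_monomial (P : A → Prop) (hsub : ∀ a a', P a → P a' → P (a - a'))
    (hl : ∀ c a, P a → P (ι c * a)) (hr : ∀ d a, P a → P (a * ι d))
    (x : (K ≃ₐ[k] K) → K) (hx0 : x ≠ 0) (hx : P (Ψ ι u x)) :
    ∃ (τ : K ≃ₐ[k] K) (a : K), a ≠ 0 ∧ P (ι a * u τ) := by
  classical
  have key : ∀ m : ℕ, ∀ x : (K ≃ₐ[k] K) → K,
      (Finset.univ.filter (fun σ => x σ ≠ 0)).card = m → x ≠ 0 → P (Ψ ι u x) →
      ∃ (τ : K ≃ₐ[k] K) (a : K), a ≠ 0 ∧ P (ι a * u τ) := by
    intro m
    induction m using Nat.strong_induction_on with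
    | _ m ih =>
      intro x hcard hx0 hxI
      obtain ⟨τ, hτ⟩ : ∃ τ, x τ ≠ 0 := Function.ne_iff.mp hx0
      by_cases hall : ∀ c : K, (fun σ : K ≃ₐ[k] K => x σ * (σ c - τ c)) = 0
      · have hx : x = Pi.single τ (x τ) := by
          ext σ
          by_cases hσ : σ = τ
          · subst hσ; rw [Pi.single_eq_same]
          · rw [Pi.single_eq_of_ne hσ]
            obtain ⟨c, hc⟩ : ∃ c, σ c ≠ τ c := by
              by_contra hcon
              push Not at hcon
              exact hσ (DFunLike.ext σ τ hcon)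
            have := congrFun (hall c) σ
            simp only [Pi.zero_apply] at this
            rcases mul_eq_zero.mp this with h1 | h1
            · exact h1
            · exact absurd (sub_eq_zero.mp h1) hc
        rw [hx, Ψ_single] at hxI
        exact ⟨τ, x τ, hτ, hxI⟩
      · push Not at hall
        obtain ⟨c, hc⟩ := hall
        have hx'I : P (Ψ ι u (fun σ => x σ * (σ c - τ c))) := by
          have h5 : Ψ ι u (fun σ => x σ * (σ c - τ c)) =
              Ψ ι u x * ι c - ι (τ c) * Ψ ι u x := by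
            rw [Ψ_mul_ι ι u hrel, ι_mul_Ψ, ← map_sub]
            congr 1
            ext σ
            simp only [Pi.sub_apply]
            ring
          rw [h5]
          exact hsub _ _ (hr _ _ hxI) (hl _ _ hxI)
        have hlt : (Finset.univ.filter (fun σ : K ≃ₐ[k] K => x σ * (σ c - τ c) ≠ 0)).card < m := by
          rw [← hcard]
          apply Finset.card_lt_card
          rw [Finset.ssubset_iff_of_subset]
          · exact ⟨τ, by simp [hτ], by simp⟩
          · intro σ
            simp only [Finset.mem_filter, Finset.mem_univ, true_and]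
            intro h h0
            exact h (by rw [h0, zero_mul])
        exact ih _ hlt _ rfl hc hx'I
  exact key _ x rfl hx0 hx

include hrel in
/-- If the `u σ` are units then `Ψ` is injective. -/
theorem Ψ_injective [Nontrivial A] (hu : ∀ σ, IsUnit (u σ)) : Function.Injective (Ψ ι u) := by
  rw [← LinearMap.ker_eq_bot, eq_bot_iff]
  intro x hx
  rw [LinearMap.mem_ker] at hx
  by_contra hx0
  obtain ⟨τ, a, ha, h0⟩ := exists_monomial ι u hrel (fun a => a = 0)
    (fun a a' ha ha' => by rw [ha, ha', sub_zero])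
    (fun c a ha => by rw [ha, mul_zero]) (fun d a ha => by rw [ha, zero_mul]) x hx0 hx
  have h1 : IsUnit (ι a * u τ) := ((isUnit_iff_ne_zero.mpr ha).map ι).mul (hu τ)
  rw [h0] at h1
  exact not_isUnit_zero h1

end basic

section cp

variable (k : Type u) [Field k] (K : Type v) [Field K] [Algebra k K] [FiniteDimensional k K]
  (A : Type w) [Ring A] [Algebra k A]

/-- A crossed product structure on `A` with cocycle `f`. -/
structure IsCP (ι : K →ₐ[k] A) (u : (K ≃ₐ[k] K) → A) (f : (K ≃ₐ[k] K) → (K ≃ₐ[k] K) → K) :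
    Prop where
  rel : ∀ (σ : K ≃ₐ[k] K) (x : K), u σ * ι x = ι (σ x) * u σ
  mul : ∀ σ τ : K ≃ₐ[k] K, u σ * u τ = ι (f σ τ) * u (σ * τ)
  one : u 1 = 1
  ne : ∀ σ τ : K ≃ₐ[k] K, f σ τ ≠ 0
  fin : Module.finrank k A = Module.finrank k K ^ 2

variable {k K A}
variable {ι : K →ₐ[k] A} {u : (K ≃ₐ[k] K) → A} {f : (K ≃ₐ[k] K) → (K ≃ₐ[k] K) → K}

theorem IsCP.nontrivial (h : IsCP k K A ι u f) : Nontrivial A := by
  apply Module.nontrivial_of_finrank_pos (R := k)
  rw [h.fin]
  have : 0 < Module.finrank k K := Module.finrank_pos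
  positivity

theorem IsCP.finite (h : IsCP k K A ι u f) : FiniteDimensional k A := by
  apply Module.finite_of_finrank_pos
  rw [h.fin]
  have : 0 < Module.finrank k K := Module.finrank_pos
  positivity

theorem IsCP.isUnit_u (h : IsCP k K A ι u f) (σ : K ≃ₐ[k] K) : IsUnit (u σ) := by
  rw [isUnit_iff_exists_and_exists]
  constructor
  · refine ⟨u σ⁻¹ * ι (f σ σ⁻¹)⁻¹, ?_⟩
    rw [← mul_assoc, h.mul, mul_inv_cancel, h.one, mul_one, ← map_mul,
      mul_inv_cancel₀ (h.ne _ _), map_one]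
  · refine ⟨ι (f σ⁻¹ σ)⁻¹ * u σ⁻¹, ?_⟩
    rw [mul_assoc, h.mul, inv_mul_cancel, h.one, mul_one, ← map_mul,
      inv_mul_cancel₀ (h.ne _ _), map_one]

theorem IsCP.Ψ_bijective [IsGalois k K] (h : IsCP k K A ι u f) : Function.Bijective (Ψ ι u) := by
  have := h.nontrivial
  have := h.finite
  have hinj := Ψ_injective ι u h.rel h.isUnit_u
  have hdim : Module.finrank k ((K ≃ₐ[k] K) → K) = Module.finrank k A := by
    rw [Module.finrank_pi_fintype, h.fin]
    simp only [Finset.sum_const, Finset.card_univ, smul_eq_mul]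
    rw [← Nat.card_eq_fintype_card, IsGalois.card_aut_eq_finrank, pow_two]
  exact ⟨hinj, (LinearMap.injective_iff_surjective_of_finrank_eq_finrank hdim).mp hinj⟩

/-- The centralizer of `ι(K)` in a crossed product is `ι(K)`. -/
theorem IsCP.mem_range_of_commute [IsGalois k K] (h : IsCP k K A ι u f) (z : A)
    (hz : ∀ c, ι c * z = z * ι c) : ∃ a : K, z = ι a := by
  classical
  have hbij := h.Ψ_bijective
  obtain ⟨x, rfl⟩ := hbij.2 z
  have hx : x = Pi.single 1 (x 1) := by
    ext σ
    by_cases hσ : σ = 1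
    · subst hσ; rw [Pi.single_eq_same]
    · rw [Pi.single_eq_of_ne hσ]
      obtain ⟨c, hc⟩ : ∃ c, σ c ≠ c := by
        by_contra hcon
        push Not at hcon
        exact hσ (DFunLike.ext σ 1 hcon)
      have h1 := hz c
      rw [ι_mul_Ψ, Ψ_mul_ι ι u h.rel] at h1
      have h2 : c * x σ = x σ * σ c := congrFun (hbij.1 h1) σ
      have h3 : x σ * (σ c - c) = 0 := by rw [mul_sub, ← h2]; ring
      rcases mul_eq_zero.mp h3 with h4 | h4
      · exact h4
      · exact absurd (sub_eq_zero.mp h4) hc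
  refine ⟨x 1, ?_⟩
  rw [hx, Ψ_single, h.one, mul_one, Pi.single_eq_same]

theorem IsCP.isCSA [IsGalois k K] (h : IsCP k K A ι u f) : IsCSA k A := by
  classical
  have hnt := h.nontrivial
  have hfin := h.finite
  have hbij := h.Ψ_bijective
  have hιinj : Function.Injective ι := (ι : K →+* A).injective
  refine ⟨⟨fun z hz => ?_⟩, ?_, hfin⟩
  · rw [Subalgebra.mem_center_iff] at hz
    obtain ⟨a, rfl⟩ := h.mem_range_of_commute z (fun c => hz (ι c))
    have ha : a ∈ (⊥ : IntermediateField k K) := by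
      rw [IsGalois.mem_bot_iff_fixed]
      intro σ
      have h1 := hz (u σ)
      rw [h.rel] at h1
      exact hιinj ((h.isUnit_u σ).mul_right_cancel h1)
    rw [IntermediateField.mem_bot] at ha
    obtain ⟨r, hr⟩ := ha
    rw [← hr, AlgHom.commutes]
    exact Subalgebra.algebraMap_mem ⊥ r
  · refine IsSimpleRing.of_eq_bot_or_eq_top fun I => ?_
    rw [or_iff_not_imp_left]
    intro hI
    obtain ⟨z, hzI, hz0⟩ : ∃ z ∈ I, z ≠ 0 := by
      by_contra hcon
      push Not at hcon
      apply hI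
      rw [eq_bot_iff]
      intro z hz
      rw [hcon z hz]
      exact (⊥ : TwoSidedIdeal A).zero_mem
    obtain ⟨x, rfl⟩ := hbij.2 z
    have hx0 : x ≠ 0 := by
      rintro rfl
      exact hz0 (map_zero _)
    obtain ⟨τ, a, ha, hmem⟩ := exists_monomial ι u h.rel (fun a => a ∈ I)
      (fun a a' ha ha' => I.sub_mem ha ha') (fun c a ha => I.mul_mem_left _ _ ha)
      (fun d a ha => I.mul_mem_right _ _ ha) x hx0 hzI
    have hunit : IsUnit (ι a * u τ) := ((isUnit_iff_ne_zero.mpr ha).map ι).mul (h.isUnit_u τ)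
    obtain ⟨w, hw⟩ := hunit.exists_left_inv
    have h1 : (1 : A) ∈ I := by
      rw [← hw]
      exact I.mul_mem_left _ _ hmem
    exact (TwoSidedIdeal.one_mem_iff I).mp h1

end cp

section small

/-- A central simple algebra of degree `n` with a nonzero module of dimension `≤ n` is split. -/
theorem isSplit_of_small_module (k : Type u) [Field k] (X : Type v) [Ring X] [Algebra k X]
    (hX : IsCSA k X) (n : ℕ) (hn : Module.finrank k X = n ^ 2)
    (M : Type w) [AddCommGroup M] [Module X M] [Module k M] [IsScalarTower k X M]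
    [FiniteDimensional k M] [Nontrivial M] (hM : Module.finrank k M ≤ n) : IsSplit k X := by
  obtain ⟨h1, h2, h3⟩ := hX
  obtain ⟨t, ht, D', _, _, hc, hf, ⟨e⟩⟩ := exists_algEquiv_matrix_central_division k X
  have hdvd := finrank_dvd_of_module k X D' t e M
  have hMpos : 0 < Module.finrank k M := Module.finrank_pos
  have hle : t * Module.finrank k D' ≤ n := (Nat.le_of_dvd hMpos hdvd).trans hM
  have hdimX : t * t * Module.finrank k D' = n ^ 2 := by
    rw [← hn, e.toLinearEquiv.finrank_eq, Module.finrank_matrix]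
    simp
  have htpos : 0 < t := Nat.pos_of_ne_zero (NeZero.ne t)
  have hepos : 0 < Module.finrank k D' := Module.finrank_pos
  have he1 : Module.finrank k D' = 1 := by
    by_contra hne
    have h2' : 2 ≤ Module.finrank k D' := by omega
    have h3' : (t * Module.finrank k D') ^ 2 ≤ n ^ 2 := Nat.pow_le_pow_left hle 2
    rw [← hdimX] at h3'
    have h4 : t * t * Module.finrank k D' * 2 ≤ (t * Module.finrank k D') ^ 2 := by
      have : (t * Module.finrank k D') ^ 2 =
          t * t * Module.finrank k D' * Module.finrank k D' := by ring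
      rw [this]
      exact Nat.mul_le_mul_left _ h2'
    have h5 : 0 < t * t * Module.finrank k D' := by positivity
    omega
  have hbij : Function.Bijective (Algebra.ofId k D') := by
    have hinj : Function.Injective (Algebra.ofId k D') := (algebraMap k D').injective
    refine ⟨hinj, ?_⟩
    exact (LinearMap.injective_iff_surjective_of_finrank_eq_finrank
      (f := (Algebra.ofId k D').toLinearMap) (by rw [Module.finrank_self, he1])).mp hinj
  exact ⟨t, NeZero.ne t,
    ⟨e.trans (AlgEquiv.mapMatrix (AlgEquiv.ofBijective (Algebra.ofId k D') hbij).symm)⟩⟩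

end small

section cob

variable {k : Type u} [Field k] {K : Type v} [Field K] [Algebra k K] [FiniteDimensional k K]
  [IsGalois k K] {A : Type w} [Ring A] [Algebra k A]
  {ι : K →ₐ[k] A} {u : (K ≃ₐ[k] K) → A} {f : (K ≃ₐ[k] K) → (K ≃ₐ[k] K) → K}

/-- A crossed product whose cocycle is a coboundary is split. -/
theorem IsCP.isSplit_of_coboundary (h : IsCP k K A ι u f) (c : (K ≃ₐ[k] K) → K)
    (hc : ∀ σ, c σ ≠ 0) (hf : ∀ σ τ, f σ τ * c (σ * τ) = c σ * σ (c τ)) : IsSplit k A := by
  classical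
  have hnt := h.nontrivial
  have hfin := h.finite
  have hbij := h.Ψ_bijective
  let u' : (K ≃ₐ[k] K) → A := fun σ => ι (c σ)⁻¹ * u σ
  have hu : ∀ σ, u σ = ι (c σ) * u' σ := by
    intro σ
    change u σ = ι (c σ) * (ι (c σ)⁻¹ * u σ)
    rw [← mul_assoc, ← map_mul, mul_inv_cancel₀ (hc σ), map_one, one_mul]
  have hu' : ∀ σ τ, u' σ * u' τ = u' (σ * τ) := by
    intro σ τ
    change ι (c σ)⁻¹ * u σ * (ι (c τ)⁻¹ * u τ) = ι (c (σ * τ))⁻¹ * u (σ * τ)
    rw [mul_assoc, ← mul_assoc (u σ), h.rel, mul_assoc, h.mul, ← mul_assoc, ← mul_assoc,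
      ← map_mul, ← map_mul]
    congr 2
    have h1 := hf σ τ
    have h2 : σ (c τ) ≠ 0 := by
      rw [Ne, map_eq_zero_iff σ σ.injective]
      exact hc τ
    rw [map_inv₀]
    field_simp
    rw [div_eq_div_iff (hc σ) (hc (σ * τ)), h1]
    ring
  let ε : A := ∑ σ : K ≃ₐ[k] K, u' σ
  have hε : ∀ τ, u' τ * ε = ε := by
    intro τ
    change u' τ * ∑ σ : K ≃ₐ[k] K, u' σ = ∑ σ : K ≃ₐ[k] K, u' σ
    rw [Finset.mul_sum]
    simp_rw [hu']
    exact Fintype.sum_bijective (fun σ => τ * σ) (Group.mulLeft_bijective τ) _ _ (fun σ => rfl)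
  have hε0 : ε ≠ 0 := by
    have h1 : ε = Ψ ι u (fun σ => (c σ)⁻¹) := rfl
    rw [h1]
    intro h0
    have h2 := hbij.1 (h0.trans (map_zero (Ψ ι u)).symm)
    have h3 := congrFun h2 1
    simp only [Pi.zero_apply, inv_eq_zero] at h3
    exact hc 1 h3
  let J : Ideal A := Ideal.span {ε}
  have hJnt : Nontrivial J := by
    refine ⟨⟨⟨ε, Ideal.subset_span rfl⟩, 0, ?_⟩⟩
    intro h0
    exact hε0 (congrArg Subtype.val h0)
  let g : K →ₗ[k] A :=
    { toFun := fun x => ι x * ε
      map_add' := fun x y => by rw [map_add, add_mul]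
      map_smul' := fun r x => by rw [map_smul, smul_mul_assoc]; rfl }
  have hJle : J.restrictScalars k ≤ LinearMap.range g := by
    intro z hz
    rw [Submodule.restrictScalars_mem] at hz
    obtain ⟨a, rfl⟩ := Ideal.mem_span_singleton'.mp hz
    obtain ⟨y, rfl⟩ := hbij.2 a
    refine ⟨∑ σ : K ≃ₐ[k] K, y σ * c σ, ?_⟩
    change ι (∑ σ : K ≃ₐ[k] K, y σ * c σ) * ε = Ψ ι u y * ε
    rw [Ψ_apply, map_sum, Finset.sum_mul, Finset.sum_mul]
    refine Finset.sum_congr rfl fun σ _ => ?_
    rw [hu σ, ← mul_assoc, ← map_mul, mul_assoc, hε]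
  have hJfin : Module.finrank k J ≤ Module.finrank k K := by
    calc Module.finrank k J = Module.finrank k (J.restrictScalars k) := rfl
      _ ≤ Module.finrank k (LinearMap.range g) := Submodule.finrank_mono hJle
      _ ≤ Module.finrank k K := LinearMap.finrank_range_le g
  exact isSplit_of_small_module k A h.isCSA (Module.finrank k K) h.fin J hJfin

end cob

section det

variable {k : Type u} [Field k] {K : Type v} [Field K] [Algebra k K] [FiniteDimensional k K]
  {A : Type w} [Ring A] [Algebra k A]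
  {ι : K →ₐ[k] A} {u : (K ≃ₐ[k] K) → A} {f : (K ≃ₐ[k] K) → (K ≃ₐ[k] K) → K}

/-- The determinant trick: if a crossed product `A` has a module of `K`-dimension `d`, then the
`d`-th power of the cocycle is a coboundary. -/
theorem IsCP.exists_coboundary_pow (h : IsCP k K A ι u f)
    (V : Type w') [AddCommGroup V] [Module A V] [Module k V] [IsScalarTower k A V]
    [FiniteDimensional k V] (d : ℕ) (hd : Module.finrank k V = Module.finrank k K * d) :
    ∃ c : (K ≃ₐ[k] K) → K, (∀ σ, c σ ≠ 0) ∧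
      ∀ σ τ, (f σ τ) ^ d * c (σ * τ) = c σ * σ (c τ) := by
  classical
  letI : Module K V := Module.compHom V (ι : K →+* A)
  have hsmul : ∀ (c : K) (v : V), c • v = ι c • v := fun c v => rfl
  haveI : IsScalarTower k K V := ⟨fun r c v => by
    rw [hsmul, hsmul, map_smul, smul_assoc]⟩
  haveI : Module.Finite K V := Module.Finite.of_restrictScalars_finite k K V
  have hn : 0 < Module.finrank k K := Module.finrank_pos
  have hdV : Module.finrank K V = d := by
    have h1 := Module.finrank_mul_finrank k K V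
    rw [hd] at h1
    exact Nat.eq_of_mul_eq_mul_left hn h1
  let b : Module.Basis (Fin d) K V := Module.finBasisOfFinrankEq K V hdV
  let M : (K ≃ₐ[k] K) → Matrix (Fin d) (Fin d) K :=
    fun σ => Matrix.of fun i j => b.repr (u σ • b j) i
  have husmul : ∀ (σ : K ≃ₐ[k] K) (c : K) (v : V), u σ • (c • v) = σ c • (u σ • v) := by
    intro σ c v
    rw [hsmul, hsmul, ← mul_smul, ← mul_smul, h.rel]
  have hkey : ∀ σ τ, M σ * (M τ).map σ = f σ τ • M (σ * τ) := by
    intro σ τ
    ext i j
    rw [Matrix.mul_apply, Matrix.smul_apply, smul_eq_mul]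
    have h1 : (u σ * u τ) • b j = ∑ l, σ (M τ l j) • (u σ • b l) := by
      rw [mul_smul]
      conv_lhs => rw [← b.sum_repr (u τ • b j)]
      rw [Finset.smul_sum]
      refine Finset.sum_congr rfl fun l _ => ?_
      rw [husmul]
      rfl
    have h2 : b.repr ((u σ * u τ) • b j) i = ∑ l, M σ i l * (M τ).map σ l j := by
      rw [h1, map_sum, Finsupp.coe_finsetSum, Finset.sum_apply]
      refine Finset.sum_congr rfl fun l _ => ?_
      rw [map_smul, Finsupp.smul_apply, smul_eq_mul, mul_comm]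
      rfl
    rw [← h2, h.mul, mul_smul, ← hsmul, map_smul, Finsupp.smul_apply, smul_eq_mul]
    rfl
  have hM1 : M 1 = 1 := by
    ext i j
    change b.repr (u 1 • b j) i = _
    rw [h.one, one_smul, b.repr_self, Matrix.one_apply, Finsupp.single_apply]
    simp only [eq_comm]
  have hdet : ∀ σ τ, (f σ τ) ^ d * (M (σ * τ)).det = (M σ).det * σ ((M τ).det) := by
    intro σ τ
    have h1 := congrArg Matrix.det (hkey σ τ)
    rw [Matrix.det_mul, Matrix.det_smul, Fintype.card_fin] at h1
    rw [← h1]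
    congr 1
    have := RingHom.map_det (σ : K →+* K) (M τ)
    exact this.symm
  refine ⟨fun σ => (M σ).det, ?_, hdet⟩
  intro σ h0
  have h0' : (M σ).det = 0 := h0
  have h1 := hdet σ σ⁻¹
  rw [mul_inv_cancel, hM1, Matrix.det_one, mul_one, h0', zero_mul] at h1
  exact pow_ne_zero d (h.ne σ σ⁻¹) h1

end det

section range

variable {k : Type u} [Field k] {K : Type v} [Field K] [Algebra k K] [FiniteDimensional k K]
  {A : Type w} [Ring A] [Algebra k A]
  (ι : K →ₐ[k] A) (u : (K ≃ₐ[k] K) → A) (f : (K ≃ₐ[k] K) → (K ≃ₐ[k] K) → K)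
  (hrel : ∀ (σ : K ≃ₐ[k] K) (x : K), u σ * ι x = ι (σ x) * u σ)
  (hmul : ∀ σ τ : K ≃ₐ[k] K, u σ * u τ = ι (f σ τ) * u (σ * τ))
  (hone : u 1 = 1)

include hmul hone in
theorem isUnit_u_of (hne : ∀ σ τ : K ≃ₐ[k] K, f σ τ ≠ 0) (σ : K ≃ₐ[k] K) : IsUnit (u σ) := by
  rw [isUnit_iff_exists_and_exists]
  constructor
  · refine ⟨u σ⁻¹ * ι (f σ σ⁻¹)⁻¹, ?_⟩
    rw [← mul_assoc, hmul, mul_inv_cancel, hone, mul_one, ← map_mul,
      mul_inv_cancel₀ (hne _ _), map_one]
  · refine ⟨ι (f σ⁻¹ σ)⁻¹ * u σ⁻¹, ?_⟩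
    rw [mul_assoc, hmul, inv_mul_cancel, hone, mul_one, ← map_mul,
      inv_mul_cancel₀ (hne _ _), map_one]

lemma monomial_mem_range (a : K) (σ : K ≃ₐ[k] K) : ι a * u σ ∈ LinearMap.range (Ψ ι u) := by
  classical
  exact ⟨Pi.single σ a, Ψ_single ι u σ a⟩

/-- The span of the monomials `ι(a) u_σ` as a subalgebra. -/
noncomputable def rangeSubalgebra : Subalgebra k A where
  carrier := LinearMap.range (Ψ ι u)
  mul_mem' := by
    rintro _ _ ⟨x, rfl⟩ ⟨y, rfl⟩
    rw [Ψ_apply, Ψ_apply, Finset.sum_mul]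
    refine Submodule.sum_mem _ fun σ _ => ?_
    rw [Finset.mul_sum]
    refine Submodule.sum_mem _ fun τ _ => ?_
    rw [mul_assoc, ← mul_assoc (u σ), hrel, mul_assoc, hmul, ← mul_assoc, ← mul_assoc,
      ← map_mul, ← map_mul]
    exact monomial_mem_range ι u _ _
  add_mem' := fun ha hb => Submodule.add_mem _ ha hb
  algebraMap_mem' := by
    intro r
    have := monomial_mem_range ι u (algebraMap k K r) 1
    rw [hone, mul_one, AlgHom.commutes] at this
    exact this

lemma mem_rangeSubalgebra (z : A) :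
    z ∈ rangeSubalgebra ι u f hrel hmul hone ↔ z ∈ LinearMap.range (Ψ ι u) := Iff.rfl

end range

section rangeCP

variable {k : Type u} [Field k] {K : Type v} [Field K] [Algebra k K] [FiniteDimensional k K]
  [IsGalois k K] {A : Type w} [Ring A] [Algebra k A] [Nontrivial A]
  (ι : K →ₐ[k] A) (u : (K ≃ₐ[k] K) → A) (f : (K ≃ₐ[k] K) → (K ≃ₐ[k] K) → K)
  (hrel : ∀ (σ : K ≃ₐ[k] K) (x : K), u σ * ι x = ι (σ x) * u σ)
  (hmul : ∀ σ τ : K ≃ₐ[k] K, u σ * u τ = ι (f σ τ) * u (σ * τ))
  (hone : u 1 = 1) (hne : ∀ σ τ : K ≃ₐ[k] K, f σ τ ≠ 0)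

lemma ι_mem_rangeSubalgebra (c : K) : ι c ∈ rangeSubalgebra ι u f hrel hmul hone := by
  have := monomial_mem_range ι u c 1
  rw [hone, mul_one] at this
  exact this

lemma u_mem_rangeSubalgebra (σ : K ≃ₐ[k] K) : u σ ∈ rangeSubalgebra ι u f hrel hmul hone := by
  have := monomial_mem_range ι u 1 σ
  rw [map_one, one_mul] at this
  exact this

include hne in
/-- The subalgebra spanned by the monomials is a crossed product. -/
theorem isCP_rangeSubalgebra :
    IsCP k K (rangeSubalgebra ι u f hrel hmul hone)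
      (ι.codRestrict (rangeSubalgebra ι u f hrel hmul hone)
        (ι_mem_rangeSubalgebra ι u f hrel hmul hone))
      (fun σ => ⟨u σ, u_mem_rangeSubalgebra ι u f hrel hmul hone σ⟩) f := by
  refine ⟨fun σ x => Subtype.ext (hrel σ x), fun σ τ => Subtype.ext (hmul σ τ),
    Subtype.ext hone, hne, ?_⟩
  have hinj := Ψ_injective ι u hrel (isUnit_u_of ι u f hmul hone hne)
  let Ψ' : ((K ≃ₐ[k] K) → K) →ₗ[k] (rangeSubalgebra ι u f hrel hmul hone) :=
    (Ψ ι u).codRestrict (Subalgebra.toSubmodule (rangeSubalgebra ι u f hrel hmul hone))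
      (fun x => ⟨x, rfl⟩)
  have hbij : Function.Bijective Ψ' := by
    constructor
    · intro x y hxy
      exact hinj (congrArg Subtype.val hxy)
    · rintro ⟨z, x, rfl⟩
      exact ⟨x, rfl⟩
  rw [← (LinearEquiv.ofBijective Ψ' hbij).finrank_eq, Module.finrank_pi_fintype]
  simp only [Finset.sum_const, Finset.card_univ, smul_eq_mul]
  rw [← Nat.card_eq_fintype_card, IsGalois.card_aut_eq_finrank, pow_two]

end rangeCP

end Groth.Agent.Lib.Helper15.CSA.CrossedProd
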