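import Mathlib
import Groth.Agent.Lib.Helper15.Cyclic2
import Groth.Agent.Lib.Helper15.SkolemNoether

/-!
# Embedding a splitting field of the right degree (helper15)
-/

set_option autoImplicit false
universe u v w w'
open scoped TensorProduct

namespace Groth.Agent.Lib.Helper15.CSA

/-- If a finite-dimensional simple `k`-algebra `B` acts `K`-linearly on a `K`-vector space `V`
with `dim_k V = dim_k B`, then `K` embeds in `B`. -/
theorem exists_algHom_of_module (k : Type u) [Field k] (K : Type v) [Field K] [Algebra k K]
    (B : Type w) [Ring B] [Algebra k B] [IsSimpleRing B] [FiniteDimensional k B]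
    (V : Type w') [AddCommGroup V] [Module K V] [Module k V] [IsScalarTower k K V]
    [FiniteDimensional k V]
    (ρ : B →ₐ[k] Module.End K V) (h : Module.finrank k V = Module.finrank k B) :
    Nonempty (K →ₐ[k] B) := by
  have hart : IsArtinianRing B := IsArtinianRing.of_finite k B
  let ρk : B →ₐ[k] Module.End k V :=
    { toFun := fun b => (ρ b).restrictScalars k
      map_one' := by ext v; simp
      map_mul' := fun b b' => by ext v; simp
      map_zero' := by ext v; simp
      map_add' := fun b b' => by ext v; simp
      commutes' := fun r => by
        ext v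
        simp only [LinearMap.coe_restrictScalars, AlgHom.commutes]
        rw [Module.algebraMap_end_apply, Module.algebraMap_end_apply] }
  have i1 : FiniteDimensional k (Rep ρk) := inferInstance
  obtain ⟨φ⟩ := @nonempty_linearEquiv_of_finrank_eq k B _ _ _ _ _ (Rep ρk) B _ _ _ _ _ _ _ _ i1
    inferInstance h
  -- the action of `K` on `Rep ρk`
  have hsmul : ∀ (b : B) (c : K) (v : V), (b • (show Rep ρk from c • v) : Rep ρk) =
      (show Rep ρk from c • (show V from (b • (show Rep ρk from v) : Rep ρk))) := by
    intro b c v
    change ρ b (c • v) = c • ρ b v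
    rw [map_smul]
  let f : K → B := fun c => φ (show Rep ρk from c • (show V from φ.symm 1))
  have hf1 : ∀ (c : K) (b : B), φ (show Rep ρk from c • (show V from φ.symm b)) = b * f c := by
    intro c b
    have : φ.symm b = b • φ.symm 1 := by rw [← map_smul, smul_eq_mul, mul_one]
    rw [this, ← hsmul, map_smul, smul_eq_mul]
  have hfmul : ∀ c d, f (c * d) = f d * f c := by
    intro c d
    rw [← hf1 c (f d)]
    change φ _ = φ _
    congr 1
    change (c * d) • (show V from φ.symm 1) = c • (show V from φ.symm (f d))
    rw [mul_smul]
    congr 1
    change _ = (show V from φ.symm (φ _))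
    rw [φ.symm_apply_apply]
  refine ⟨{ toFun := f
            map_one' := ?_
            map_mul' := ?_
            map_zero' := ?_
            map_add' := ?_
            commutes' := ?_ }⟩
  · change φ (show Rep ρk from (1 : K) • (show V from φ.symm 1)) = 1
    rw [one_smul]
    exact φ.apply_symm_apply 1
  · intro c d
    rw [mul_comm c d]
    exact hfmul d c
  · change φ (show Rep ρk from (0 : K) • (show V from φ.symm 1)) = 0
    rw [zero_smul]
    exact map_zero φ
  · intro c d
    change φ (show Rep ρk from (c + d) • (show V from φ.symm 1)) = _
    rw [add_smul]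
    exact map_add φ _ _
  · intro r
    change φ (show Rep ρk from (algebraMap k K r) • (show V from φ.symm 1)) = _
    rw [algebraMap_smul]
    have : φ (r • φ.symm 1) = r • φ (φ.symm 1) := by
      have := (φ.restrictScalars k).map_smul r (φ.symm 1)
      exact this
    change φ (r • φ.symm 1) = _
    rw [this, φ.apply_symm_apply, Algebra.algebraMap_eq_smul_one]

/-- A splitting field `K` of a central simple algebra `B` with `[K:k]² = dim_k B` embeds in `B`. -/
theorem exists_algHom_of_splits (k : Type u) [Field k] (K : Type v) [Field K] [Algebra k K]
    [FiniteDimensional k K]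
    (B : Type w) [Ring B] [Algebra k B] [IsSimpleRing B] [FiniteDimensional k B]
    (hs : Curves.Splits k B K) (h : Module.finrank k B = Module.finrank k K ^ 2) :
    Nonempty (K →ₐ[k] B) := by
  obtain ⟨n, hn, ⟨e⟩⟩ := hs
  have hnm : n = Module.finrank k K := by
    have h1 := e.toLinearEquiv.finrank_eq
    rw [Module.finrank_baseChange, h, Module.finrank_matrix] at h1
    simp only [Fintype.card_fin, Module.finrank_self, mul_one] at h1
    rw [pow_two] at h1
    exact (Nat.mul_self_inj.mp h1).symm
  let ρ : B →ₐ[k] Module.End K (Fin n → K) :=
    ((Matrix.toLinAlgEquiv' (R := K) (n := Fin n)).restrictScalars k).toAlgHom.comp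
      ((e.restrictScalars k).toAlgHom.comp Algebra.TensorProduct.includeRight)
  refine exists_algHom_of_module k K B (Fin n → K) ρ ?_
  rw [h, Module.finrank_pi_fintype]
  simp [hnm, pow_two]

end Groth.Agent.Lib.Helper15.CSA
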