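import Mathlib
import Groth.Agent.Lib.Helper15.CyclicEmbed
import Groth.Agent.Lib.Helper15.WedderburnUnique
import Groth.Agent.Lib.Helper15.ModuleDim
import Groth.Agent.Lib.Helper15.BrEq

/-!
# Algebras split by a cyclic extension are Brauer equivalent to cyclic algebras (helper15)
-/

set_option autoImplicit false
universe u v w
open scoped TensorProduct

namespace Groth.Agent.Lib.Helper15.CSA

section splitDiv

variable (k : Type u) [Field k] (K : Type v) [Field K] [Algebra k K]

/-- If `K` splits `M_r(D)` then `K` splits `D`. -/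
theorem splits_of_splits_matrix (D : Type w) [DivisionRing D] [Algebra k D]
    [Algebra.IsCentral k D] [FiniteDimensional k D] (r : ℕ) [NeZero r]
    (h : Curves.Splits k (Matrix (Fin r) (Fin r) D) K) : Curves.Splits k D K := by
  obtain ⟨n, hn, ⟨e⟩⟩ := h
  have hcK : Algebra.IsCentral K (K ⊗[k] D) := isCentral_baseChange k K D
  have hsK : IsSimpleRing (K ⊗[k] D) := isSimpleRing_baseChange k K D
  obtain ⟨t, ht, E, _, _, hc, hf, ⟨e2⟩⟩ := exists_algEquiv_matrix_central_division K (K ⊗[k] D)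
  have : NeZero (r * t) := ⟨Nat.mul_ne_zero (NeZero.ne r) (NeZero.ne t)⟩
  have : NeZero n := ⟨hn⟩
  let φ : Matrix (Fin (r * t)) (Fin (r * t)) E ≃ₐ[K] Matrix (Fin n) (Fin n) K :=
    (Matrix.reindexAlgEquiv K E finProdFinEquiv).symm.trans <|
      (Matrix.compAlgEquiv (Fin r) (Fin t) E K).symm.trans <|
        (AlgEquiv.mapMatrix e2.symm).trans <|
          (baseChangeMatrixEquiv k K D r).symm.trans e
  obtain ⟨-, ⟨eE⟩⟩ := matrix_division_unique K E K (r * t) n φ
  exact ⟨t, NeZero.ne t, ⟨e2.trans (AlgEquiv.mapMatrix eE)⟩⟩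

/-- If `K ⊗ D ≅ M_t(K)` for a division algebra `D`, then `dim D = t²` and `t ∣ [K:k]`. -/
theorem dvd_of_splits_division [FiniteDimensional k K] (D : Type w) [DivisionRing D] [Algebra k D]
    [FiniteDimensional k D] (t : ℕ)
    (e : K ⊗[k] D ≃ₐ[K] Matrix (Fin t) (Fin t) K) :
    Module.finrank k D = t ^ 2 ∧ t ∣ Module.finrank k K := by
  have h1 : Module.finrank k D = t ^ 2 := by
    have := e.toLinearEquiv.finrank_eq
    rw [Module.finrank_baseChange, Module.finrank_matrix] at this
    simpa [pow_two] using this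
  refine ⟨h1, ?_⟩
  have ht : 0 < t := by
    have : 0 < Module.finrank k D := Module.finrank_pos
    rw [h1] at this
    exact Nat.pos_of_ne_zero (by rintro rfl; simp at this)
  let φ : D →ₐ[k] Matrix (Fin t) (Fin t) K :=
    ((e : K ⊗[k] D →ₐ[K] Matrix (Fin t) (Fin t) K).restrictScalars k).comp
      Algebra.TensorProduct.includeRight
  have h2 := Module.finrank_mul_finrank k D (Pull φ (Fin t → K))
  rw [Pull.finrank_eq, Module.finrank_pi_fintype, h1] at h2
  simp only [Finset.sum_const, Finset.card_univ, Fintype.card_fin, smul_eq_mul] at h2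
  have h3 : t * (t * Module.finrank D (Pull φ (Fin t → K))) = t * Module.finrank k K := by
    rw [← h2]; ring
  have h4 := Nat.eq_of_mul_eq_mul_left ht h3
  exact ⟨_, h4.symm⟩

end splitDiv

section cyc

variable (k : Type u) [Field k] (K : Type v) [Field K] [Algebra k K] [FiniteDimensional k K]
  [IsGalois k K] (σ : K ≃ₐ[k] K) (hσ : ∀ τ : K ≃ₐ[k] K, τ ∈ Subgroup.zpowers σ)

include hσ in
/-- A central simple algebra of degree `[K:k]` split by the cyclic extension `K` is a cyclic
algebra. -/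
theorem exists_isCyclicAlg_of_splits (B : Type w) [Ring B] [Algebra k B] [Algebra.IsCentral k B]
    [IsSimpleRing B] [FiniteDimensional k B] (hB : Curves.Splits k B K)
    (h : Module.finrank k B = Module.finrank k K ^ 2) :
    ∃ b : kˣ, CSAGal.IsCyclicAlg k K σ b B := by
  obtain ⟨ι⟩ := exists_algHom_of_splits k K B hB h
  obtain ⟨u, hu⟩ := skolem_noether ι (ι.comp (σ : K →ₐ[k] K))
  have hrel : ∀ c, ι c * ((u⁻¹ : Bˣ) : B) = ((u⁻¹ : Bˣ) : B) * ι (σ c) := by
    intro c
    have := hu c
    change ι (σ c) = _ at this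
    rw [this, ← mul_assoc, ← mul_assoc, Units.inv_mul, one_mul]
  obtain ⟨b, hb, hadj⟩ := Cyclic.exists_of_isUnit σ hσ ι ((u⁻¹ : Bˣ) : B) hrel h (Units.isUnit _)
  exact ⟨b, ι, _, hb, hrel, hadj, Module.finrank_pos, h⟩

end cyc

end Groth.Agent.Lib.Helper15.CSA
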