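import Mathlib
import Groth.Agent.Lib.Helper15.CrossedProd
import Groth.Agent.Lib.Helper15.CyclicSplit

/-!
# Existence of crossed product structures (helper15)

A central simple algebra of degree `[K:k]` split by the finite Galois extension `K/k` is a
crossed product; a central simple algebra split by `K` is Brauer equivalent to a crossed product.
-/

set_option autoImplicit false
universe u v w
open scoped TensorProduct

namespace Groth.Agent.Lib.Helper15.CSA.CrossedProd

section exist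

variable {k : Type u} [Field k] {K : Type v} [Field K] [Algebra k K] [FiniteDimensional k K]
  [IsGalois k K] {A : Type w} [Ring A] [Algebra k A]

/-- The centralizer of `ι(K)` in an algebra of dimension `[K:k]²` with units `u σ` normalizing
`ι(K)` via `σ` is `ι(K)`. -/
theorem mem_range_of_commute' [Nontrivial A] [FiniteDimensional k A] (ι : K →ₐ[k] A)
    (u : (K ≃ₐ[k] K) → A) (hrel : ∀ (σ : K ≃ₐ[k] K) (x : K), u σ * ι x = ι (σ x) * u σ)
    (hu : ∀ σ, IsUnit (u σ)) (hone : u 1 = 1)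
    (hfin : Module.finrank k A = Module.finrank k K ^ 2) (z : A)
    (hz : ∀ c, ι c * z = z * ι c) : ∃ a : K, z = ι a := by
  classical
  have hinj := Ψ_injective ι u hrel hu
  have hdim : Module.finrank k ((K ≃ₐ[k] K) → K) = Module.finrank k A := by
    rw [Module.finrank_pi_fintype, hfin]
    simp only [Finset.sum_const, Finset.card_univ, smul_eq_mul]
    rw [← Nat.card_eq_fintype_card, IsGalois.card_aut_eq_finrank, pow_two]
  have hbij : Function.Bijective (Ψ ι u) :=
    ⟨hinj, (LinearMap.injective_iff_surjective_of_finrank_eq_finrank hdim).mp hinj⟩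
  obtain ⟨x, rfl⟩ := hbij.2 z
  have hx : x = Pi.single 1 (x 1) := by
    ext σ
    by_cases hσ : σ = 1
    · subst hσ; rw [Pi.single_eq_same]
    · rw [Pi.single_eq_of_ne hσ]
      obtain ⟨c, hc⟩ : ∃ c, σ c ≠ c := by
        by_contra hcon
        push Not at hcon
        exact hσ (DFunLike.ext σ 1 hcon)
      have h1 := hz c
      rw [ι_mul_Ψ, Ψ_mul_ι ι u hrel] at h1
      have h2 : c * x σ = x σ * σ c := congrFun (hbij.1 h1) σ
      have h3 : x σ * (σ c - c) = 0 := by rw [mul_sub, ← h2]; ring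
      rcases mul_eq_zero.mp h3 with h4 | h4
      · exact h4
      · exact absurd (sub_eq_zero.mp h4) hc
  refine ⟨x 1, ?_⟩
  rw [hx, Ψ_single, hone, mul_one, Pi.single_eq_same]

/-- A central simple algebra of dimension `[K:k]²` split by `K` is a crossed product. -/
theorem exists_isCP_of_splits_of_finrank (B : Type w) [Ring B] [Algebra k B]
    [Algebra.IsCentral k B] [IsSimpleRing B] [FiniteDimensional k B] (hB : Curves.Splits k B K)
    (h : Module.finrank k B = Module.finrank k K ^ 2) :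
    ∃ (ι : K →ₐ[k] B) (u : (K ≃ₐ[k] K) → B) (f : (K ≃ₐ[k] K) → (K ≃ₐ[k] K) → K),
      IsCP k K B ι u f := by
  classical
  obtain ⟨ι⟩ := exists_algHom_of_splits k K B hB h
  have hex : ∀ σ : K ≃ₐ[k] K, ∃ w : Bˣ, ∀ x, ι (σ x) = (w : B) * ι x * ((w⁻¹ : Bˣ) : B) :=
    fun σ => skolem_noether ι (ι.comp (σ : K →ₐ[k] K))
  choose w hw using hex
  let u : (K ≃ₐ[k] K) → B := fun σ => if σ = 1 then 1 else (w σ : B)
  have hone : u 1 = 1 := if_pos rfl
  have hu : ∀ σ, IsUnit (u σ) := by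
    intro σ
    by_cases hσ : σ = 1
    · rw [hσ, hone]; exact isUnit_one
    · have : u σ = (w σ : B) := if_neg hσ
      rw [this]; exact Units.isUnit _
  have hrel : ∀ (σ : K ≃ₐ[k] K) (x : K), u σ * ι x = ι (σ x) * u σ := by
    intro σ x
    by_cases hσ : σ = 1
    · rw [hσ, hone, one_mul, mul_one, AlgEquiv.one_apply]
    · have : u σ = (w σ : B) := if_neg hσ
      rw [this, hw σ x, mul_assoc, Units.inv_mul, mul_one]
  -- inverse relation
  have hrel' : ∀ (σ : K ≃ₐ[k] K) (x : K),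
      ι x * ((hu σ).unit⁻¹ : Bˣ) = ((hu σ).unit⁻¹ : Bˣ) * ι (σ x) := by
    intro σ x
    have h1 : ((hu σ).unit : B) = u σ := IsUnit.unit_spec _
    have h2 := hrel σ x
    rw [← h1] at h2
    calc ι x * ((hu σ).unit⁻¹ : Bˣ)
        = ((hu σ).unit⁻¹ : Bˣ) * (((hu σ).unit : B) * ι x) * ((hu σ).unit⁻¹ : Bˣ) := by
          rw [← mul_assoc, Units.inv_mul, one_mul]
      _ = ((hu σ).unit⁻¹ : Bˣ) * ι (σ x) := by
          rw [h2, mul_assoc, mul_assoc, Units.mul_inv, mul_one]
  have hz : ∀ (σ τ : K ≃ₐ[k] K), ∃ a : K, u σ * u τ * ((hu (σ * τ)).unit⁻¹ : Bˣ) = ι a := by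
    intro σ τ
    apply mem_range_of_commute' ι u hrel hu hone h
    intro c
    have e1 : ι c = ι ((σ * τ) ((σ * τ)⁻¹ c)) := by
      rw [← AlgEquiv.mul_apply, mul_inv_cancel, AlgEquiv.one_apply]
    calc ι c * (u σ * u τ * ((hu (σ * τ)).unit⁻¹ : Bˣ))
        = ι (σ (τ ((σ * τ)⁻¹ c))) * u σ * u τ * ((hu (σ * τ)).unit⁻¹ : Bˣ) := by
          rw [← AlgEquiv.mul_apply σ τ, ← e1]; simp only [mul_assoc]
      _ = u σ * (ι (τ ((σ * τ)⁻¹ c)) * u τ) * ((hu (σ * τ)).unit⁻¹ : Bˣ) := by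
          rw [← hrel σ]; simp only [mul_assoc]
      _ = u σ * u τ * (ι ((σ * τ)⁻¹ c) * ((hu (σ * τ)).unit⁻¹ : Bˣ)) := by
          rw [← hrel τ]; simp only [mul_assoc]
      _ = u σ * u τ * ((hu (σ * τ)).unit⁻¹ : Bˣ) * ι c := by
          rw [hrel' (σ * τ), ← e1]; simp only [mul_assoc]
  choose f hf using hz
  have hmul : ∀ σ τ : K ≃ₐ[k] K, u σ * u τ = ι (f σ τ) * u (σ * τ) := by
    intro σ τ
    have h1 : ((hu (σ * τ)).unit : B) = u (σ * τ) := IsUnit.unit_spec _
    calc u σ * u τ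
        = u σ * u τ * (((hu (σ * τ)).unit⁻¹ : Bˣ) * ((hu (σ * τ)).unit : B)) := by
          rw [Units.inv_mul, mul_one]
      _ = ι (f σ τ) * u (σ * τ) := by
          rw [← mul_assoc, hf σ τ, h1]
  have hne : ∀ σ τ : K ≃ₐ[k] K, f σ τ ≠ 0 := by
    intro σ τ h0
    have h1 : IsUnit (u σ * u τ * ((hu (σ * τ)).unit⁻¹ : Bˣ)) :=
      ((hu σ).mul (hu τ)).mul (Units.isUnit _)
    rw [hf σ τ, h0, map_zero] at h1
    exact not_isUnit_zero h1
  exact ⟨ι, u, f, hrel, hmul, hone, hne, h⟩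

/-- A central simple algebra split by `K` is Brauer equivalent to a crossed product, which is
moreover a matrix algebra over the underlying division algebra. -/
theorem exists_isCP_of_splits (B : Type w) [Ring B] [Algebra k B]
    [Algebra.IsCentral k B] [IsSimpleRing B] [FiniteDimensional k B] (hB : Curves.Splits k B K) :
    ∃ (X : Type w) (_ : Ring X) (_ : Algebra k X) (ι : K →ₐ[k] X) (u : (K ≃ₐ[k] K) → X)
      (f : (K ≃ₐ[k] K) → (K ≃ₐ[k] K) → K), IsCP k K X ι u f ∧ BrEq k B X := by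
  obtain ⟨r, hr, D, _, _, hDc, hDf, ⟨eA⟩⟩ := exists_algEquiv_matrix_central_division k B
  have hsM : Curves.Splits k (Matrix (Fin r) (Fin r) D) K := by
    obtain ⟨n, hn, ⟨e⟩⟩ := hB
    exact ⟨n, hn, ⟨(Algebra.TensorProduct.congr (AlgEquiv.refl : K ≃ₐ[K] K) eA.symm).trans e⟩⟩
  obtain ⟨t, ht, ⟨eD⟩⟩ := splits_of_splits_matrix k K D r hsM
  obtain ⟨hdimD, s, hs⟩ := dvd_of_splits_division k K D t eD
  have hmpos : 0 < Module.finrank k K := Module.finrank_pos
  have hs0 : s ≠ 0 := by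
    rintro rfl
    rw [mul_zero] at hs
    omega
  haveI : NeZero s := ⟨hs0⟩
  have hBs : Curves.Splits k (Matrix (Fin s) (Fin s) D) K :=
    ⟨s * t, Nat.mul_ne_zero hs0 ht,
      ⟨(baseChangeMatrixEquiv k K D s).trans
        ((AlgEquiv.mapMatrix eD).trans (matrixMatrixEquiv K K s t))⟩⟩
  have hBdim : Module.finrank k (Matrix (Fin s) (Fin s) D) = Module.finrank k K ^ 2 := by
    rw [Module.finrank_matrix, hdimD, hs]
    simp only [Fintype.card_fin]
    ring
  obtain ⟨ι, u, f, hcp⟩ := exists_isCP_of_splits_of_finrank (Matrix (Fin s) (Fin s) D) hBs hBdim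
  refine ⟨Matrix (Fin s) (Fin s) D, inferInstance, inferInstance, ι, u, f, hcp, ?_⟩
  exact ((BrEq.of_algEquiv eA).trans (BrEq.matrix r (NeZero.ne r))).trans (BrEq.matrix s hs0).symm

end exist

end Groth.Agent.Lib.Helper15.CSA.CrossedProd
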