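import Mathlib
import Groth.Agent.Lib.Helper15.Cyclic2
import Groth.Agent.Lib.Helper15.BrEq

/-!
# The tensor product of cyclic algebras (helper15)
-/

set_option autoImplicit false
universe u v w w' w''
open scoped TensorProduct

namespace Groth.Agent.Lib.Helper15.CSA.CycTensor

section ops

variable {k : Type u} [Field k] {K : Type v} [Field K] [Algebra k K]
  {A : Type w} [Ring A] [Algebra k A] {A' : Type w'} [Ring A'] [Algebra k A']
  (ι : K →ₐ[k] A) (ι' : K →ₐ[k] A')

/-- The bimodule `A ⊗_K A'` (right `K`-structures on both). -/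
abbrev V := RMod ι ⊗[K] RMod ι'

/-- View an element of `A` in `RMod ι`. -/
def ofA (a : A) : RMod ι := a

/-- View an element of `RMod ι` in `A`. -/
def toA {ι : K →ₐ[k] A} (x : RMod ι) : A := x

lemma ext_tmul {W : Type*} [AddCommGroup W] [Module k W] (f g : V ι ι' →ₗ[k] W)
    (h : ∀ (a : RMod ι) (a' : RMod ι'), f (a ⊗ₜ[K] a') = g (a ⊗ₜ[K] a')) : f = g := by
  ext v
  induction v using TensorProduct.induction_on with
  | zero => simp
  | tmul a a' => exact h a a'
  | add v w hv hw => rw [map_add, map_add, hv, hw]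

/-- Left multiplication by `a : A` on the first factor. -/
noncomputable def L₁ : A →ₐ[k] Module.End k (V ι ι') where
  toFun a := (TensorProduct.map (RMod.lmul ι a) LinearMap.id).restrictScalars k
  map_one' := by
    apply ext_tmul
    intro x x'
    simp
  map_mul' a b := by
    apply ext_tmul
    intro x x'
    simp
  map_zero' := by
    apply ext_tmul
    intro x x'
    simp
  map_add' a b := by
    apply ext_tmul
    intro x x'
    simp [TensorProduct.add_tmul]
  commutes' r := by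
    apply ext_tmul
    intro x x'
    simp only [LinearMap.coe_restrictScalars, TensorProduct.map_tmul, LinearMap.id_coe, id_eq,
      AlgHom.commutes, Module.algebraMap_end_apply]
    rw [TensorProduct.smul_tmul']

lemma L₁_tmul (a : A) (x : RMod ι) (x' : RMod ι') :
    L₁ ι ι' a (x ⊗ₜ[K] x') = (ofA ι (a * toA x)) ⊗ₜ[K] x' := rfl

/-- Left multiplication by `a' : A'` on the second factor. -/
noncomputable def L₂ : A' →ₐ[k] Module.End k (V ι ι') where
  toFun a := (TensorProduct.map LinearMap.id (RMod.lmul ι' a)).restrictScalars k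
  map_one' := by
    apply ext_tmul
    intro x x'
    simp
  map_mul' a b := by
    apply ext_tmul
    intro x x'
    simp
  map_zero' := by
    apply ext_tmul
    intro x x'
    simp
  map_add' a b := by
    apply ext_tmul
    intro x x'
    simp [TensorProduct.tmul_add]
  commutes' r := by
    apply ext_tmul
    intro x x'
    simp only [LinearMap.coe_restrictScalars, TensorProduct.map_tmul, LinearMap.id_coe, id_eq,
      AlgHom.commutes, Module.algebraMap_end_apply]
    rw [TensorProduct.smul_tmul', TensorProduct.smul_tmul]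

lemma L₂_tmul (a' : A') (x : RMod ι) (x' : RMod ι') :
    L₂ ι ι' a' (x ⊗ₜ[K] x') = x ⊗ₜ[K] (ofA ι' (a' * toA x')) := rfl

end ops

section Y

variable {k : Type u} [Field k] {K : Type v} [Field K] [Algebra k K]
  {A : Type w} [Ring A] [Algebra k A] {A' : Type w'} [Ring A'] [Algebra k A']
  (σ : K ≃ₐ[k] K) (ι : K →ₐ[k] A) (ι' : K →ₐ[k] A') (y : A) (y' : A')
  (hrel : ∀ x, ι x * y = y * ι (σ x)) (hrel' : ∀ x, ι' x * y' = y' * ι' (σ x))

/-- Right multiplication by `y` is `σ`-semilinear on `RMod ι`. -/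
def Ry : RMod ι →ₛₗ[((σ : K →ₐ[k] K) : K →+* K)] RMod ι where
  toFun x := ofA ι (toA x * y)
  map_add' x x' := add_mul (toA x) (toA x') y
  map_smul' c x := by
    change ((toA x) * ι c) * y = ((toA x) * y) * ι (σ c)
    rw [mul_assoc, hrel, mul_assoc]

/-- The `σ`-semilinear operator `x ⊗ x' ↦ x y ⊗ x' y'`. -/
noncomputable def Ysl : V ι ι' →ₛₗ[((σ : K →ₐ[k] K) : K →+* K)] V ι ι' :=
  TensorProduct.map (Ry σ ι y hrel) (Ry σ ι' y' hrel')

/-- The operator `Y` as a `k`-linear map. -/
noncomputable def Yk : Module.End k (V ι ι') where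
  toFun := Ysl σ ι ι' y y' hrel hrel'
  map_add' := map_add _
  map_smul' r v := by
    rw [← algebraMap_smul K r v, map_smulₛₗ]
    change σ (algebraMap k K r) • _ = _
    rw [AlgEquiv.commutes, algebraMap_smul]
    rfl

lemma Yk_tmul (x : RMod ι) (x' : RMod ι') :
    Yk σ ι ι' y y' hrel hrel' (x ⊗ₜ[K] x') =
      (ofA ι (toA x * y)) ⊗ₜ[K] (ofA ι' (toA x' * y')) :=
  rfl

lemma Yk_smul (c : K) (v : V ι ι') :
    Yk σ ι ι' y y' hrel hrel' (c • v) = σ c • Yk σ ι ι' y y' hrel hrel' v :=
  map_smulₛₗ (Ysl σ ι ι' y y' hrel hrel') c v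

lemma Yk_pow_tmul (j : ℕ) (x : RMod ι) (x' : RMod ι') :
    (Yk σ ι ι' y y' hrel hrel' ^ j) (x ⊗ₜ[K] x') =
      (ofA ι (toA x * y ^ j)) ⊗ₜ[K] (ofA ι' (toA x' * y' ^ j)) := by
  induction j generalizing x x' with
  | zero =>
    rw [pow_zero, pow_zero, pow_zero, mul_one, mul_one]
    rfl
  | succ j ih =>
    rw [pow_succ, Module.End.mul_apply, Yk_tmul, ih, pow_succ', pow_succ']
    change ofA ι (toA x * y * y ^ j) ⊗ₜ[K] ofA ι' (toA x' * y' * y' ^ j) = _
    rw [mul_assoc, mul_assoc]

lemma Yk_pow (n : ℕ) (b b' : k) (hy : y ^ n = algebraMap k A b)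
    (hy' : y' ^ n = algebraMap k A' b') :
    Yk σ ι ι' y y' hrel hrel' ^ n = algebraMap k (Module.End k (V ι ι')) (b * b') := by
  apply ext_tmul
  intro x x'
  rw [Yk_pow_tmul, hy, hy', Module.algebraMap_end_apply]
  have h1 : ofA ι (toA x * algebraMap k A b) = b • x := by
    change toA x * algebraMap k A b = b • toA x
    rw [Algebra.algebraMap_eq_smul_one, mul_smul_comm, mul_one]
  have h2 : ofA ι' (toA x' * algebraMap k A' b') = b' • x' := by
    change toA x' * algebraMap k A' b' = b' • toA x'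
    rw [Algebra.algebraMap_eq_smul_one, mul_smul_comm, mul_one]
  rw [h1, h2, mul_smul, ← TensorProduct.tmul_smul, TensorProduct.smul_tmul']

lemma Yk_comm_L₁ (a : A) :
    Commute (Yk σ ι ι' y y' hrel hrel') (L₁ ι ι' a) := by
  apply ext_tmul
  intro x x'
  rw [Module.End.mul_apply, Module.End.mul_apply, L₁_tmul, Yk_tmul, Yk_tmul, L₁_tmul]
  congr 1
  exact mul_assoc a (toA x) y

lemma Yk_comm_L₂ (a' : A') :
    Commute (Yk σ ι ι' y y' hrel hrel') (L₂ ι ι' a') := by
  apply ext_tmul
  intro x x'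
  rw [Module.End.mul_apply, Module.End.mul_apply, L₂_tmul, Yk_tmul, Yk_tmul, L₂_tmul]
  congr 1
  exact mul_assoc a' (toA x') y'

end Y

section main

variable {k : Type u} [Field k] {K : Type v} [Field K] [Algebra k K] [FiniteDimensional k K]
  [IsGalois k K] (σ : K ≃ₐ[k] K) (hσ : ∀ τ : K ≃ₐ[k] K, τ ∈ Subgroup.zpowers σ)

include hσ in
/-- `(K,σ,b) ⊗ (K,σ,b')` is Brauer equivalent to `(K,σ,bb')`. -/
theorem brEq_tensor (b b' : kˣ) (A : Type w) (A' : Type w') (A'' : Type w'') [Ring A] [Algebra k A] [Ring A'] [Algebra k A']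
    [Ring A''] [Algebra k A'']
    (hA : CSAGal.IsCyclicAlg k K σ b A) (hA' : CSAGal.IsCyclicAlg k K σ b' A')
    (hA'' : CSAGal.IsCyclicAlg k K σ (b * b') A'') : BrEq k (A ⊗[k] A') A'' := by
  obtain ⟨ι, y, hy, hrel, hadj, hn, hfin⟩ := hA
  obtain ⟨ι', y', hy', hrel', hadj', -, hfin'⟩ := hA'
  obtain ⟨ι'', y'', hy'', hrel'', hadj'', -, hfin''⟩ := hA''
  have hcA : Algebra.IsCentral k A :=
    Cyclic.isCentral σ hσ (b : k) b.ne_zero ι y hy hrel hadj hn hfin
  have hsA : IsSimpleRing A :=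
    Cyclic.isSimpleRing σ hσ (b : k) b.ne_zero ι y hy hrel hadj hn hfin
  have hcA' : Algebra.IsCentral k A' :=
    Cyclic.isCentral σ hσ (b' : k) b'.ne_zero ι' y' hy' hrel' hadj' hn hfin'
  have hsA' : IsSimpleRing A' :=
    Cyclic.isSimpleRing σ hσ (b' : k) b'.ne_zero ι' y' hy' hrel' hadj' hn hfin'
  have hcA'' : Algebra.IsCentral k A'' :=
    Cyclic.isCentral σ hσ ((b * b' : kˣ) : k) (b * b').ne_zero ι'' y'' hy'' hrel'' hadj'' hn hfin''
  have hsA'' : IsSimpleRing A'' :=
    Cyclic.isSimpleRing σ hσ ((b * b' : kˣ) : k) (b * b').ne_zero ι'' y'' hy'' hrel'' hadj'' hn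
      hfin''
  have hfA : FiniteDimensional k A := by
    apply Module.finite_of_finrank_pos; rw [hfin]; positivity
  have hfA' : FiniteDimensional k A' := by
    apply Module.finite_of_finrank_pos; rw [hfin']; positivity
  have hfA'' : FiniteDimensional k A'' := by
    apply Module.finite_of_finrank_pos; rw [hfin'']; positivity
  -- dimension of V
  have hfV1 : Module.Finite K (RMod ι) := Module.Finite.of_restrictScalars_finite k K (RMod ι)
  have hfV2 : Module.Finite K (RMod ι') := Module.Finite.of_restrictScalars_finite k K (RMod ι')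
  have hd1 : Module.finrank K (RMod ι) = Module.finrank k K := by
    have h1 := Module.finrank_mul_finrank k K (RMod ι)
    have h2 : Module.finrank k (RMod ι) = Module.finrank k K ^ 2 := hfin
    rw [h2, pow_two] at h1
    exact Nat.eq_of_mul_eq_mul_left hn h1
  have hd2 : Module.finrank K (RMod ι') = Module.finrank k K := by
    have h1 := Module.finrank_mul_finrank k K (RMod ι')
    have h2 : Module.finrank k (RMod ι') = Module.finrank k K ^ 2 := hfin'
    rw [h2, pow_two] at h1
    exact Nat.eq_of_mul_eq_mul_left hn h1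
  have hfVK : Module.Finite K (V ι ι') := inferInstance
  have hfV : FiniteDimensional k (V ι ι') := Module.Finite.trans K (V ι ι')
  have hdV : Module.finrank k (V ι ι') = Module.finrank k K ^ 3 := by
    rw [← Module.finrank_mul_finrank k K (V ι ι'), Module.finrank_tensorProduct, hd1, hd2]
    ring
  have hntV : Nontrivial (V ι ι') := by
    apply Module.nontrivial_of_finrank_pos (R := k)
    rw [hdV]; positivity
  -- the right action of A''
  let Λ : K →ₐ[k] Module.End k (V ι ι') := Algebra.lsmul k k (V ι ι')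
  let ιR : K →ₐ[k] (Module.End k (V ι ι'))ᵐᵒᵖ := Λ.toOpposite (fun c d => by
    apply LinearMap.ext
    intro v
    change c • d • v = d • c • v
    exact smul_comm c d v)
  let Y : Module.End k (V ι ι') := Yk σ ι ι' y y' hrel hrel'
  have hyR : (MulOpposite.op Y) ^ Module.finrank k K =
      algebraMap k (Module.End k (V ι ι'))ᵐᵒᵖ ((b * b' : kˣ) : k) := by
    rw [← MulOpposite.op_pow, Yk_pow σ ι ι' y y' hrel hrel' _ (b : k) (b' : k) hy hy']
    rfl
  have hrelR : ∀ c, ιR c * MulOpposite.op Y = MulOpposite.op Y * ιR (σ c) := by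
    intro c
    change MulOpposite.op (Λ c) * MulOpposite.op Y = MulOpposite.op Y * MulOpposite.op (Λ (σ c))
    rw [← MulOpposite.op_mul, ← MulOpposite.op_mul]
    congr 1
    apply LinearMap.ext
    intro v
    change Y (c • v) = σ c • Y v
    exact Yk_smul σ ι ι' y y' hrel hrel' c v
  obtain ⟨f, hfι, hfy, -⟩ := Cyclic.exists_lift σ ((b * b' : kˣ) : k) ι'' y'' hy'' hrel'' hadj'' hn
    hfin'' ιR (MulOpposite.op Y) hyR hrelR
  let ρ' : A''ᵐᵒᵖ →ₐ[k] Module.End k (V ι ι') := AlgHom.opComm f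
  have hρ' : ∀ x : A'', ρ' (MulOpposite.op x) = MulOpposite.unop (f x) := fun x => rfl
  -- commutation
  have hΛ1 : ∀ c a, Commute (Λ c) (L₁ ι ι' a) := by
    intro c a
    apply LinearMap.ext
    intro v
    change c • (L₁ ι ι' a v) = L₁ ι ι' a (c • v)
    exact ((TensorProduct.map (RMod.lmul ι a) LinearMap.id).map_smul c v).symm
  have hΛ2 : ∀ c a', Commute (Λ c) (L₂ ι ι' a') := by
    intro c a'
    apply LinearMap.ext
    intro v
    change c • (L₂ ι ι' a' v) = L₂ ι ι' a' (c • v)
    exact ((TensorProduct.map LinearMap.id (RMod.lmul ι' a')).map_smul c v).symm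
  have hcomm : ∀ x : A'', (∀ a, Commute (MulOpposite.unop (f x)) (L₁ ι ι' a)) ∧
      (∀ a', Commute (MulOpposite.unop (f x)) (L₂ ι ι' a')) := by
    intro x
    have hx : x ∈ Algebra.adjoin k (Set.range ι'' ∪ {y''}) := by rw [hadj'']; exact Algebra.mem_top
    induction hx using Algebra.adjoin_induction with
    | mem x hx =>
      rcases hx with ⟨c, rfl⟩ | hx
      · rw [hfι]
        exact ⟨fun a => hΛ1 c a, fun a' => hΛ2 c a'⟩
      · rw [Set.mem_singleton_iff] at hx
        rw [hx, hfy]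
        exact ⟨fun a => Yk_comm_L₁ σ ι ι' y y' hrel hrel' a,
          fun a' => Yk_comm_L₂ σ ι ι' y y' hrel hrel' a'⟩
    | algebraMap r =>
      rw [AlgHom.commutes]
      exact ⟨fun a => Algebra.commute_algebraMap_left r _,
        fun a' => Algebra.commute_algebraMap_left r _⟩
    | add x x' _ _ hx hx' =>
      rw [map_add, MulOpposite.unop_add]
      exact ⟨fun a => (hx.1 a).add_left (hx'.1 a), fun a' => (hx.2 a').add_left (hx'.2 a')⟩
    | mul x x' _ _ hx hx' =>
      rw [map_mul, MulOpposite.unop_mul]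
      exact ⟨fun a => (hx'.1 a).mul_left (hx.1 a), fun a' => (hx'.2 a').mul_left (hx.2 a')⟩
  let L : A ⊗[k] A' →ₐ[k] Module.End k (V ι ι') :=
    Algebra.TensorProduct.lift (L₁ ι ι') (L₂ ι ι') (fun a a' => by
      apply ext_tmul
      intro x x'
      rfl)
  have hLρ : ∀ (t : A ⊗[k] A') (z : A''ᵐᵒᵖ), Commute (L t) (ρ' z) := by
    intro t z
    obtain ⟨x, rfl⟩ := MulOpposite.op_surjective z
    rw [hρ']
    induction t using TensorProduct.induction_on with
    | zero => rw [map_zero]; exact Commute.zero_left _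
    | tmul a a' =>
      rw [Algebra.TensorProduct.lift_tmul]
      exact ((hcomm x).1 a).symm.mul_left ((hcomm x).2 a').symm
    | add t t' ht ht' => rw [map_add]; exact ht.add_left ht'
  let F : (A ⊗[k] A') ⊗[k] A''ᵐᵒᵖ →ₐ[k] Module.End k (V ι ι') :=
    Algebra.TensorProduct.lift L ρ' hLρ
  have hCSA'' : IsCSA k A'' := ⟨hcA'', hsA'', hfA''⟩
  have hCSAop : IsCSA k A''ᵐᵒᵖ := ⟨inferInstance, inferInstance, inferInstance⟩
  have hCSAdom : IsCSA k ((A ⊗[k] A') ⊗[k] A''ᵐᵒᵖ) :=
    (IsCSA.tensor ⟨hcA, hsA, hfA⟩ ⟨hcA', hsA', hfA'⟩).tensor hCSAop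
  have hsdom : IsSimpleRing ((A ⊗[k] A') ⊗[k] A''ᵐᵒᵖ) := hCSAdom.simple
  have hFinj : Function.Injective F :=
    (F : (A ⊗[k] A') ⊗[k] A''ᵐᵒᵖ →+* Module.End k (V ι ι')).injective
  have hdim : Module.finrank k ((A ⊗[k] A') ⊗[k] A''ᵐᵒᵖ) =
      Module.finrank k (Module.End k (V ι ι')) := by
    rw [Module.finrank_tensorProduct, Module.finrank_tensorProduct, Module.finrank_linearMap,
      hdV, hfin, hfin',
      (MulOpposite.opLinearEquiv k : A'' ≃ₗ[k] A''ᵐᵒᵖ).symm.finrank_eq, hfin'']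
    ring
  have hFbij : Function.Bijective F :=
    ⟨hFinj, (LinearMap.injective_iff_surjective_of_finrank_eq_finrank
      (f := F.toLinearMap) hdim).mp hFinj⟩
  have hsplit : IsSplit k ((A ⊗[k] A') ⊗[k] A''ᵐᵒᵖ) :=
    (isSplit_end (V ι ι')).of_algEquiv (AlgEquiv.ofBijective F hFbij).symm
  exact BrEq.of_isSplit_tensor_op hCSA'' hsplit

end main

end Groth.Agent.Lib.Helper15.CSA.CycTensor
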