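import Mathlib
import Groth.Agent.Lib.Helper15.CrossedProd
import Groth.Agent.Lib.Helper15.CyclicTensor

/-!
# Tensor products of crossed products (helper15)
-/

set_option autoImplicit false
universe u v w w'
open scoped TensorProduct

namespace Groth.Agent.Lib.Helper15.CSA.CrossedProd

open Groth.Agent.Lib.Helper15.CSA.CycTensor

section tensor

variable {k : Type u} [Field k] {K : Type v} [Field K] [Algebra k K] [FiniteDimensional k K]
  [IsGalois k K] {A₁ : Type w} [Ring A₁] [Algebra k A₁] {A₂ : Type w'} [Ring A₂] [Algebra k A₂]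
  {ι₁ : K →ₐ[k] A₁} {u : (K ≃ₐ[k] K) → A₁} {f : (K ≃ₐ[k] K) → (K ≃ₐ[k] K) → K}
  {ι₂ : K →ₐ[k] A₂} {v : (K ≃ₐ[k] K) → A₂} {g : (K ≃ₐ[k] K) → (K ≃ₐ[k] K) → K}

theorem IsCP.rel' {A : Type*} [Ring A] [Algebra k A] {ι : K →ₐ[k] A} {u : (K ≃ₐ[k] K) → A}
    {f : (K ≃ₐ[k] K) → (K ≃ₐ[k] K) → K} (h : IsCP k K A ι u f) (τ : K ≃ₐ[k] K) (x : K) :
    ι x * u τ = u τ * ι (τ⁻¹ x) := by
  rw [h.rel, ← AlgEquiv.mul_apply, mul_inv_cancel, AlgEquiv.one_apply]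

/-- The tensor product of two crossed products is Brauer equivalent to a crossed product for the
product cocycle. -/
theorem exists_tensor (h₁ : IsCP k K A₁ ι₁ u f) (h₂ : IsCP k K A₂ ι₂ v g) :
    ∃ (X : Type (max w w')) (_ : Ring X) (_ : Algebra k X) (ιX : K →ₐ[k] X)
      (uX : (K ≃ₐ[k] K) → X),
      IsCP k K X ιX uX (fun σ τ => f σ τ * g σ τ) ∧ BrEq k (A₁ ⊗[k] A₂) X := by
  classical
  have hn : 0 < Module.finrank k K := Module.finrank_pos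
  have hCSA₁ := h₁.isCSA
  have hCSA₂ := h₂.isCSA
  have hfA₁ := h₁.finite
  have hfA₂ := h₂.finite
  -- dimension of V
  have hfV1 : Module.Finite K (RMod ι₁) := Module.Finite.of_restrictScalars_finite k K (RMod ι₁)
  have hfV2 : Module.Finite K (RMod ι₂) := Module.Finite.of_restrictScalars_finite k K (RMod ι₂)
  have hd1 : Module.finrank K (RMod ι₁) = Module.finrank k K := by
    have e1 := Module.finrank_mul_finrank k K (RMod ι₁)
    have e2 : Module.finrank k (RMod ι₁) = Module.finrank k K ^ 2 := h₁.fin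
    rw [e2, pow_two] at e1
    exact Nat.eq_of_mul_eq_mul_left hn e1
  have hd2 : Module.finrank K (RMod ι₂) = Module.finrank k K := by
    have e1 := Module.finrank_mul_finrank k K (RMod ι₂)
    have e2 : Module.finrank k (RMod ι₂) = Module.finrank k K ^ 2 := h₂.fin
    rw [e2, pow_two] at e1
    exact Nat.eq_of_mul_eq_mul_left hn e1
  have hfVK : Module.Finite K (V ι₁ ι₂) := inferInstance
  have hfV : FiniteDimensional k (V ι₁ ι₂) := Module.Finite.trans K (V ι₁ ι₂)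
  have hdV : Module.finrank k (V ι₁ ι₂) = Module.finrank k K ^ 3 := by
    rw [← Module.finrank_mul_finrank k K (V ι₁ ι₂), Module.finrank_tensorProduct, hd1, hd2]
    ring
  have hntV : Nontrivial (V ι₁ ι₂) := by
    apply Module.nontrivial_of_finrank_pos (R := k)
    rw [hdV]; positivity
  -- the operators
  let Λ : K →ₐ[k] Module.End k (V ι₁ ι₂) := Algebra.lsmul k k (V ι₁ ι₂)
  let Y : (K ≃ₐ[k] K) → Module.End k (V ι₁ ι₂) :=
    fun τ => Yk τ⁻¹ ι₁ ι₂ (u τ) (v τ) (h₁.rel' τ) (h₂.rel' τ)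
  have hY_tmul : ∀ (τ : K ≃ₐ[k] K) (x : RMod ι₁) (x' : RMod ι₂),
      Y τ (x ⊗ₜ[K] x') = (ofA ι₁ (toA x * u τ)) ⊗ₜ[K] (ofA ι₂ (toA x' * v τ)) :=
    fun τ x x' => rfl
  have hY_smul : ∀ (τ : K ≃ₐ[k] K) (c : K) (w : V ι₁ ι₂), Y τ (c • w) = τ⁻¹ c • Y τ w :=
    fun τ c w => Yk_smul τ⁻¹ ι₁ ι₂ (u τ) (v τ) (h₁.rel' τ) (h₂.rel' τ) c w
  have hY_one : Y 1 = 1 := by
    apply ext_tmul
    intro x x'
    rw [hY_tmul, h₁.one, h₂.one, mul_one, mul_one]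
    rfl
  have hY_comp : ∀ σ τ : K ≃ₐ[k] K, Y τ * Y σ = Y (σ * τ) * Λ (f σ τ * g σ τ) := by
    intro σ τ
    apply ext_tmul
    intro x x'
    rw [Module.End.mul_apply, Module.End.mul_apply, hY_tmul, hY_tmul]
    change _ = Y (σ * τ) ((f σ τ * g σ τ) • (x ⊗ₜ[K] x'))
    rw [mul_comm (f σ τ) (g σ τ), mul_smul, TensorProduct.smul_tmul', TensorProduct.smul_tmul',
      TensorProduct.smul_tmul, hY_tmul]
    congr 1
    · change toA x * u σ * u τ = toA x * ι₁ (f σ τ) * u (σ * τ)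
      rw [mul_assoc, h₁.mul, mul_assoc]
    · change toA x' * v σ * v τ = toA x' * ι₂ (g σ τ) * v (σ * τ)
      rw [mul_assoc, h₂.mul, mul_assoc]
  -- the crossed product structure in the opposite algebra
  let ιR : K →ₐ[k] (Module.End k (V ι₁ ι₂))ᵐᵒᵖ := Λ.toOpposite (fun c d => by
    apply LinearMap.ext
    intro w
    change c • d • w = d • c • w
    exact smul_comm c d w)
  let uR : (K ≃ₐ[k] K) → (Module.End k (V ι₁ ι₂))ᵐᵒᵖ := fun σ => MulOpposite.op (Y σ)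
  have hrelR : ∀ (σ : K ≃ₐ[k] K) (x : K), uR σ * ιR x = ιR (σ x) * uR σ := by
    intro σ x
    change MulOpposite.op (Y σ) * MulOpposite.op (Λ x) =
      MulOpposite.op (Λ (σ x)) * MulOpposite.op (Y σ)
    rw [← MulOpposite.op_mul, ← MulOpposite.op_mul]
    congr 1
    apply LinearMap.ext
    intro w
    change x • Y σ w = Y σ (σ x • w)
    rw [hY_smul, ← AlgEquiv.mul_apply, inv_mul_cancel, AlgEquiv.one_apply]
  have hmulR : ∀ σ τ : K ≃ₐ[k] K, uR σ * uR τ = ιR (f σ τ * g σ τ) * uR (σ * τ) := by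
    intro σ τ
    change MulOpposite.op (Y σ) * MulOpposite.op (Y τ) =
      MulOpposite.op (Λ (f σ τ * g σ τ)) * MulOpposite.op (Y (σ * τ))
    rw [← MulOpposite.op_mul, ← MulOpposite.op_mul, hY_comp]
  have honeR : uR 1 = 1 := by
    change MulOpposite.op (Y 1) = 1
    rw [hY_one]
    rfl
  have hneR : ∀ σ τ : K ≃ₐ[k] K, f σ τ * g σ τ ≠ 0 :=
    fun σ τ => mul_ne_zero (h₁.ne σ τ) (h₂.ne σ τ)
  have hntE : Nontrivial (Module.End k (V ι₁ ι₂))ᵐᵒᵖ := inferInstance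
  have hΛ1 : ∀ c a, Commute (Λ c) (L₁ ι₁ ι₂ a) := by
    intro c a
    apply LinearMap.ext
    intro w
    change c • (L₁ ι₁ ι₂ a w) = L₁ ι₁ ι₂ a (c • w)
    exact ((TensorProduct.map (RMod.lmul ι₁ a) LinearMap.id).map_smul c w).symm
  have hΛ2 : ∀ c a', Commute (Λ c) (L₂ ι₁ ι₂ a') := by
    intro c a'
    apply LinearMap.ext
    intro w
    change c • (L₂ ι₁ ι₂ a' w) = L₂ ι₁ ι₂ a' (c • w)
    exact ((TensorProduct.map LinearMap.id (RMod.lmul ι₂ a')).map_smul c w).symm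
  let L : A₁ ⊗[k] A₂ →ₐ[k] Module.End k (V ι₁ ι₂) :=
    Algebra.TensorProduct.lift (L₁ ι₁ ι₂) (L₂ ι₁ ι₂) (fun a a' => by
      apply ext_tmul
      intro x x'
      rfl)
  have key : ∀ (X : Subalgebra k (Module.End k (V ι₁ ι₂))ᵐᵒᵖ) (ιX : K →ₐ[k] X)
      (uX : (K ≃ₐ[k] K) → X), IsCP k K X ιX uX (fun σ τ => f σ τ * g σ τ) →
      (∀ x : X, (∀ a, Commute (MulOpposite.unop (x : (Module.End k (V ι₁ ι₂))ᵐᵒᵖ))
        (L₁ ι₁ ι₂ a)) ∧
        (∀ a', Commute (MulOpposite.unop (x : (Module.End k (V ι₁ ι₂))ᵐᵒᵖ)) (L₂ ι₁ ι₂ a'))) →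
      BrEq k (A₁ ⊗[k] A₂) X := by
    intro X ιX uX hX hcomm
    have hCSAX : IsCSA k X := hX.isCSA
    obtain ⟨hcX, hsX, hfX⟩ := hCSAX
    let ρ' : Xᵐᵒᵖ →ₐ[k] Module.End k (V ι₁ ι₂) := AlgHom.opComm X.val
    have hρ' : ∀ x : X, ρ' (MulOpposite.op x) =
        MulOpposite.unop (x : (Module.End k (V ι₁ ι₂))ᵐᵒᵖ) := fun x => rfl
    have hLρ : ∀ (t : A₁ ⊗[k] A₂) (z : Xᵐᵒᵖ), Commute (L t) (ρ' z) := by
      intro t z
      obtain ⟨x, rfl⟩ := MulOpposite.op_surjective z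
      rw [hρ']
      induction t using TensorProduct.induction_on with
      | zero => rw [map_zero]; exact Commute.zero_left _
      | tmul a a' =>
        rw [Algebra.TensorProduct.lift_tmul]
        exact ((hcomm x).1 a).symm.mul_left ((hcomm x).2 a').symm
      | add t t' ht ht' => rw [map_add]; exact ht.add_left ht'
    let F : (A₁ ⊗[k] A₂) ⊗[k] Xᵐᵒᵖ →ₐ[k] Module.End k (V ι₁ ι₂) :=
      Algebra.TensorProduct.lift L ρ' hLρ
    have i1 : Module.Free k X := Module.Free.of_divisionRing k X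
    have i2 : Module.Free k Xᵐᵒᵖ := Module.Free.of_divisionRing k Xᵐᵒᵖ
    have i3 : IsSimpleRing Xᵐᵒᵖ := @IsSimpleRing.instMulOpposite X _ hsX
    have i5 : FiniteDimensional k Xᵐᵒᵖ :=
      Module.Finite.equiv (MulOpposite.opLinearEquiv k : X ≃ₗ[k] Xᵐᵒᵖ)
    have hCSAop : IsCSA k Xᵐᵒᵖ := ⟨inferInstance, inferInstance, inferInstance⟩
    have hCSAdom : IsCSA k ((A₁ ⊗[k] A₂) ⊗[k] Xᵐᵒᵖ) :=
      (IsCSA.tensor hCSA₁ hCSA₂).tensor hCSAop
    have hsdom : IsSimpleRing ((A₁ ⊗[k] A₂) ⊗[k] Xᵐᵒᵖ) := hCSAdom.simple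
    have hFinj : Function.Injective F :=
      (F : (A₁ ⊗[k] A₂) ⊗[k] Xᵐᵒᵖ →+* Module.End k (V ι₁ ι₂)).injective
    have hdim : Module.finrank k ((A₁ ⊗[k] A₂) ⊗[k] Xᵐᵒᵖ) =
        Module.finrank k (Module.End k (V ι₁ ι₂)) := by
      rw [Module.finrank_tensorProduct, Module.finrank_tensorProduct, Module.finrank_linearMap,
        hdV, h₁.fin, h₂.fin,
        (MulOpposite.opLinearEquiv k : X ≃ₗ[k] Xᵐᵒᵖ).symm.finrank_eq, hX.fin]
      ring
    have hFbij : Function.Bijective F :=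
      ⟨hFinj, (LinearMap.injective_iff_surjective_of_finrank_eq_finrank
        (f := F.toLinearMap) hdim).mp hFinj⟩
    have hsplit : IsSplit k ((A₁ ⊗[k] A₂) ⊗[k] Xᵐᵒᵖ) :=
      (isSplit_end (V ι₁ ι₂)).of_algEquiv (AlgEquiv.ofBijective F hFbij).symm
    exact BrEq.of_isSplit_tensor_op ⟨hcX, hsX, hfX⟩ hsplit
  have hX0 := isCP_rangeSubalgebra ιR uR (fun σ τ => f σ τ * g σ τ) hrelR hmulR honeR hneR
  refine ⟨rangeSubalgebra ιR uR (fun σ τ => f σ τ * g σ τ) hrelR hmulR honeR,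
    inferInstance, inferInstance, _, _, hX0, key _ _ _ hX0 ?_⟩
  rintro ⟨z, y, rfl⟩
  change (∀ a, Commute (MulOpposite.unop (Ψ ιR uR y)) (L₁ ι₁ ι₂ a)) ∧
    (∀ a', Commute (MulOpposite.unop (Ψ ιR uR y)) (L₂ ι₁ ι₂ a'))
  rw [Ψ_apply, Finset.unop_sum]
  constructor
  · intro a
    refine Commute.sum_left _ _ _ fun σ _ => ?_
    change Commute (Y σ * Λ (y σ)) (L₁ ι₁ ι₂ a)
    exact (Yk_comm_L₁ σ⁻¹ ι₁ ι₂ (u σ) (v σ) (h₁.rel' σ) (h₂.rel' σ) a).mul_left (hΛ1 _ a)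
  · intro a'
    refine Commute.sum_left _ _ _ fun σ _ => ?_
    change Commute (Y σ * Λ (y σ)) (L₂ ι₁ ι₂ a')
    exact (Yk_comm_L₂ σ⁻¹ ι₁ ι₂ (u σ) (v σ) (h₁.rel' σ) (h₂.rel' σ) a').mul_left (hΛ2 _ a')

end tensor

end Groth.Agent.Lib.Helper15.CSA.CrossedProd
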