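import Mathlib
import Groth.Agent.Lib.Helper15.CrossedTensor
import Groth.Agent.Lib.Helper15.TPow

/-!
# Powers of crossed products (helper15)

If `A` is a crossed product with cocycle `f`, then `A^{⊗j}` is Brauer equivalent to a crossed
product with cocycle `f^j`.  Also: Brauer equivalence is compatible with tensor powers.
-/

set_option autoImplicit false
universe u v w w'
open scoped TensorProduct

namespace Groth.Agent.Lib.Helper15.CSA

section breqpow

variable {k : Type u} [Field k]

/-- Brauer equivalence is compatible with tensor products. -/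
theorem BrEq.tensor {B : Type*} [Ring B] [Algebra k B] {C : Type*} [Ring C] [Algebra k C]
    {B' : Type*} [Ring B'] [Algebra k B'] {C' : Type*} [Ring C'] [Algebra k C']
    (h : BrEq k B C) (h' : BrEq k B' C') : BrEq k (B ⊗[k] B') (C ⊗[k] C') :=
  (h.tensor_right B').trans (h'.tensor_left C)

/-- Brauer equivalence is compatible with tensor powers. -/
theorem BrEq.tpow {B : Type v} [Ring B] [Algebra k B] {C : Type w} [Ring C] [Algebra k C]
    (h : BrEq k B C) (j : ℕ) : BrEq k (CSAGal.tpow k B j) (CSAGal.tpow k C j) := by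
  induction j with
  | zero => exact BrEq.of_algEquiv ((tpowZeroEquiv k B).trans (tpowZeroEquiv k C).symm)
  | succ j ih =>
    have e1 : CSAGal.tpow k B (j + 1) ≃ₐ[k] CSAGal.tpow k B j ⊗[k] B :=
      (tpowAddEquiv k B j 1).trans (Algebra.TensorProduct.congr AlgEquiv.refl (tpowOneEquiv k B))
    have e2 : CSAGal.tpow k C (j + 1) ≃ₐ[k] CSAGal.tpow k C j ⊗[k] C :=
      (tpowAddEquiv k C j 1).trans (Algebra.TensorProduct.congr AlgEquiv.refl (tpowOneEquiv k C))
    exact ((BrEq.of_algEquiv e1).trans (ih.tensor h)).trans (BrEq.of_algEquiv e2.symm)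

end breqpow

namespace CrossedProd

section pow

variable {k : Type u} [Field k] {K : Type v} [Field K] [Algebra k K] [FiniteDimensional k K]
  [IsGalois k K] {A : Type w} [Ring A] [Algebra k A]
  {ι : K →ₐ[k] A} {u : (K ≃ₐ[k] K) → A} {f : (K ≃ₐ[k] K) → (K ≃ₐ[k] K) → K}

/-- The `j`-th tensor power of a crossed product with cocycle `f` is Brauer equivalent to a
crossed product with cocycle `f ^ j`. -/
theorem IsCP.exists_pow (h : IsCP k K A ι u f) (j : ℕ) (hj : 1 ≤ j) :
    ∃ (X : Type w) (_ : Ring X) (_ : Algebra k X) (ιX : K →ₐ[k] X) (uX : (K ≃ₐ[k] K) → X),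
      IsCP k K X ιX uX (fun σ τ => f σ τ ^ j) ∧ BrEq k (CSAGal.tpow k A j) X := by
  induction j, hj using Nat.le_induction with
  | base =>
    refine ⟨A, inferInstance, inferInstance, ι, u, ?_, BrEq.of_algEquiv (tpowOneEquiv k A)⟩
    have : (fun σ τ => f σ τ ^ 1) = f := by
      funext σ τ; exact pow_one _
    rw [this]
    exact h
  | succ j hj ih =>
    obtain ⟨X, _, _, ιX, uX, hX, hBr⟩ := ih
    obtain ⟨Y, _, _, ιY, uY, hY, hBr'⟩ := exists_tensor hX h
    refine ⟨Y, inferInstance, inferInstance, ιY, uY, ?_, ?_⟩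
    · have : (fun σ τ => f σ τ ^ (j + 1)) = (fun σ τ => f σ τ ^ j * f σ τ) := by
        funext σ τ; exact pow_succ _ _
      rw [this]
      exact hY
    · have e1 : CSAGal.tpow k A (j + 1) ≃ₐ[k] CSAGal.tpow k A j ⊗[k] A :=
        (tpowAddEquiv k A j 1).trans (Algebra.TensorProduct.congr AlgEquiv.refl (tpowOneEquiv k A))
      exact ((BrEq.of_algEquiv e1).trans (hBr.tensor_right A)).trans hBr'

end pow

end CrossedProd

end Groth.Agent.Lib.Helper15.CSA
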