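import Mathlib
import Groth.Agent.Lib.Helper15.BddFinDiv

/-!
# Wedderburn's theorem for division algebras of degree 3 in characteristic 3 (helper15)
-/

set_option autoImplicit false

open Polynomial
universe u v

namespace Groth.Agent.Lib.Helper15.Degree3

theorem exists_galois_of_root_in_subfield {K : Type u} [Field K] {A : Type v} [Ring A] [Nontrivial A]
    [Algebra K A] (p : ℕ) [Fact p.Prime] (x x₂ : A) (hint : IsIntegral K x)
    (hdeg : (minpoly K x).natDegree = p) (hirr : Irreducible (minpoly K x))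
    (hx₂ : aeval x₂ (minpoly K x) = 0) (g : K[X]) (hg : aeval x g = x₂) (hne : x₂ ≠ x) :
    ∃ (L : Type u) (_ : Field L) (_ : Algebra K L), IsGalois K L ∧ Module.finrank K L = p ∧
      Nonempty (L →ₐ[K] A) := by
  have hp : p.Prime := Fact.out
  haveI : Fact (Irreducible (minpoly K x)) := ⟨hirr⟩
  let ι : AdjoinRoot (minpoly K x) →ₐ[K] A :=
    Ideal.Quotient.liftₐ (Ideal.span {minpoly K x}) (aeval x) (fun q hq => by
      obtain ⟨r, rfl⟩ := Ideal.mem_span_singleton.mp hq
      rw [map_mul, minpoly.aeval, zero_mul])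
  have hι : ∀ q : K[X], ι (AdjoinRoot.mk (minpoly K x) q) = aeval x q := fun q => rfl
  have hιinj : Function.Injective ι := ι.toRingHom.injective
  have hroot : aeval (AdjoinRoot.mk (minpoly K x) g) (minpoly K x) = 0 := by
    apply hιinj
    rw [map_zero, ← Polynomial.aeval_algHom_apply, hι, hg, hx₂]
  let σ : AdjoinRoot (minpoly K x) →ₐ[K] AdjoinRoot (minpoly K x) :=
    AdjoinRoot.liftAlgHom (minpoly K x) (Algebra.ofId K _) (AdjoinRoot.mk (minpoly K x) g) (by
      rw [← hroot, Polynomial.aeval_def, Algebra.toRingHom_ofId])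
  have hσroot : σ (AdjoinRoot.root _) = AdjoinRoot.mk (minpoly K x) g :=
    AdjoinRoot.liftAlgHom_root _ _ _ _
  have hfd : FiniteDimensional K (AdjoinRoot (minpoly K x)) :=
    (AdjoinRoot.powerBasis hirr.ne_zero).finite
  have hfr : Module.finrank K (AdjoinRoot (minpoly K x)) = p := by
    rw [(AdjoinRoot.powerBasis hirr.ne_zero).finrank, AdjoinRoot.powerBasis_dim, hdeg]
  let σe : AdjoinRoot (minpoly K x) ≃ₐ[K] AdjoinRoot (minpoly K x) :=
    AlgEquiv.ofBijective σ (Algebra.IsAlgebraic.algHom_bijective σ)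
  have hσne : σe ≠ 1 := by
    intro h
    have h1 : σe (AdjoinRoot.root _) = AdjoinRoot.root _ := by rw [h]; rfl
    have h2 : σe (AdjoinRoot.root _) = AdjoinRoot.mk (minpoly K x) g := hσroot
    rw [h2] at h1
    have h3 := congrArg ι h1
    rw [hι, hg, ← AdjoinRoot.mk_X, hι, aeval_X] at h3
    exact hne h3
  refine ⟨AdjoinRoot (minpoly K x), inferInstance, inferInstance, ?_, hfr, ⟨ι⟩⟩
  apply IsGalois.of_card_aut_eq_finrank
  rw [hfr]
  have hdvd : Nat.card (AdjoinRoot (minpoly K x) ≃ₐ[K] AdjoinRoot (minpoly K x)) ∣ p := by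
    have h1 := IntermediateField.finrank_fixedField_eq_card
      (⊤ : Subgroup (AdjoinRoot (minpoly K x) ≃ₐ[K] AdjoinRoot (minpoly K x)))
    have h2 := Module.finrank_mul_finrank K (IntermediateField.fixedField
      (⊤ : Subgroup (AdjoinRoot (minpoly K x) ≃ₐ[K] AdjoinRoot (minpoly K x))))
      (AdjoinRoot (minpoly K x))
    rw [h1, hfr] at h2
    have h3 : Nat.card (⊤ : Subgroup (AdjoinRoot (minpoly K x) ≃ₐ[K] AdjoinRoot (minpoly K x))) =
        Nat.card (AdjoinRoot (minpoly K x) ≃ₐ[K] AdjoinRoot (minpoly K x)) :=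
      Nat.card_congr (Subgroup.topEquiv).toEquiv
    rw [h3] at h2
    exact Dvd.intro_left _ h2
  rcases (Nat.dvd_prime hp).mp hdvd with h | h
  · exfalso
    have : Subsingleton (AdjoinRoot (minpoly K x) ≃ₐ[K] AdjoinRoot (minpoly K x)) :=
      (Nat.card_eq_one_iff_unique.mp h).1
    exact hσne (Subsingleton.elim _ _)
  · exact h



section identities
variable {K D : Type*} [Field K] [Ring D] [Algebra K D]

/-- the cubic part `t³ + a t² + b t` -/
def cub (a b : K) (t : D) : D := t * t * t + a • (t * t) + b • t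

/-- Wedderburn's relation polynomial -/
def rel (a b : K) (x y : D) : D := x * x + x * y + y * y + a • (x + y) + b • (1 : D)

theorem rel_mul_of_conj (a b : K) (x x₂ w : D) (hw : w * x = x₂ * w) :
    rel a b x x₂ * w = x * x * w + x * w * x + w * x * x + a • (x * w + w * x) + b • w := by
  have h1 : x * x₂ * w = x * w * x := by rw [mul_assoc, ← hw, mul_assoc]
  have h2 : x₂ * x₂ * w = w * x * x := by rw [mul_assoc, ← hw, ← mul_assoc, ← hw]
  unfold rel
  simp only [add_mul, smul_mul_assoc, one_mul, smul_add]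
  rw [h1, h2, ← hw]

theorem comm_cub (a b : K) (x y : D) :
    x * x * (x * y - y * x) + x * (x * y - y * x) * x + (x * y - y * x) * x * x
      + a • (x * (x * y - y * x) + (x * y - y * x) * x) + b • (x * y - y * x)
    = cub a b x * y - y * cub a b x := by
  unfold cub
  simp only [smul_add, add_mul, mul_add, smul_mul_assoc, mul_smul_comm, sub_mul,
    mul_sub, mul_assoc, smul_sub]
  abel

theorem id1 (a b : K) (x y : D) :
    (x * y - y * x) * x - y * (x * y - y * x) =
      rel a b x y * x - y * rel a b x y - cub a b x + cub a b y := by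
  unfold rel cub
  simp only [smul_add, add_mul, mul_add, smul_mul_assoc, mul_smul_comm, mul_one, one_mul, sub_mul,
    mul_sub, mul_assoc]
  abel

theorem id2 (a b : K) (x y : D) :
    (x * y - y * x) * y - (-(a • (1 : D)) - x - y) * (x * y - y * x) =
      x * rel a b x y - rel a b x y * x := by
  unfold rel
  simp only [smul_add, add_mul, mul_add, smul_mul_assoc, mul_smul_comm, mul_one, one_mul, sub_mul,
    mul_sub, mul_assoc, neg_mul]
  abel

theorem conj_cub (a b : K) (x x₂ w : D) (hw : w * x = x₂ * w) :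
    w * cub a b x = cub a b x₂ * w := by
  have h2 : w * (x * x) = x₂ * x₂ * w := by rw [← mul_assoc, hw, mul_assoc, hw, mul_assoc]
  have h3 : w * (x * x * x) = x₂ * x₂ * x₂ * w := by
    rw [← mul_assoc, h2, mul_assoc, hw, ← mul_assoc]
  unfold cub
  simp only [mul_add, add_mul, mul_smul_comm, smul_mul_assoc]
  rw [h2, h3, hw]

theorem semi_comm (a b : K) (x x₂ : D) (hx : cub a b x = cub a b x₂)
    (hR : rel a b x x₂ = 0) :
    (x * x₂ - x₂ * x) * x = x₂ * (x * x₂ - x₂ * x) ∧
    (x * x₂ - x₂ * x) * x₂ = (-(a • (1 : D)) - x - x₂) * (x * x₂ - x₂ * x) ∧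
    (x * x₂ - x₂ * x) * (-(a • (1 : D)) - x - x₂) = x * (x * x₂ - x₂ * x) := by
  have h1 : (x * x₂ - x₂ * x) * x = x₂ * (x * x₂ - x₂ * x) := by
    rw [← sub_eq_zero, id1 a b, hR, hx]; simp
  have h2 : (x * x₂ - x₂ * x) * x₂ = (-(a • (1 : D)) - x - x₂) * (x * x₂ - x₂ * x) := by
    rw [← sub_eq_zero, id2 a b, hR]; simp
  refine ⟨h1, h2, ?_⟩
  rw [mul_sub, mul_sub, h1, h2]
  simp only [sub_mul, neg_mul, mul_neg, smul_mul_assoc, mul_smul_comm, one_mul, mul_one]
  abel

theorem cube_comm (x x₂ x₃ z : D) (h1 : z * x = x₂ * z) (h2 : z * x₂ = x₃ * z)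
    (h3 : z * x₃ = x * z) : z ^ 3 * x = x * z ^ 3 ∧ z ^ 3 * x₂ = x₂ * z ^ 3 := by
  have e : z ^ 3 = z * z * z := by rw [pow_succ, pow_two]
  rw [e]
  constructor
  · calc z * z * z * x = z * z * (z * x) := by rw [mul_assoc]
      _ = z * (z * x₂) * z := by rw [h1]; simp only [mul_assoc]
      _ = (z * x₃) * z * z := by rw [h2]; simp only [mul_assoc]
      _ = x * (z * z * z) := by rw [h3]; simp only [mul_assoc]
  · calc z * z * z * x₂ = z * z * (z * x₂) := by rw [mul_assoc]
      _ = z * (z * x₃) * z := by rw [h2]; simp only [mul_assoc]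
      _ = (z * x) * z * z := by rw [h3]; simp only [mul_assoc]
      _ = x₂ * (z * z * z) := by rw [h1]; simp only [mul_assoc]

theorem aeval_eq_cub (f : K[X]) (hf : f.natDegree = 3) (hm : f.Monic) (t : D) :
    aeval t f = cub (f.coeff 2) (f.coeff 1) t + algebraMap K D (f.coeff 0) := by
  rw [aeval_eq_sum_range' (n := 4) (by rw [hf]; norm_num)]
  have h3 : f.coeff 3 = 1 := by rw [← hf]; exact hm.coeff_natDegree
  simp only [Finset.sum_range_succ, Finset.sum_range_zero, h3, cub, Algebra.algebraMap_eq_smul_one]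
  simp only [pow_succ, pow_zero, one_mul, one_smul, zero_add]
  abel

end identities



section division

open Groth.Agent.Lib.Helper15.SubfieldDegree Groth.Agent.Lib.Helper15.BddFinDiv

variable (K : Type u) [Field K] (p : ℕ) [Fact p.Prime]
  (A : Type v) [DivisionRing A] [Algebra K A] [Algebra.IsCentral K A] [FiniteDimensional K A]

theorem natDegree_minpoly_eq_prime (hA : Module.finrank K A = p ^ 2) (x : A)
    (hx : x ∉ (algebraMap K A).range) : (minpoly K x).natDegree = p := by
  have hp : p.Prime := Fact.out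
  have hdvd := natDegree_minpoly_dvd K A p hA x
  rcases (Nat.dvd_prime hp).mp hdvd with h | h
  · exact absurd (minpoly.natDegree_eq_one_iff.mp h) hx
  · exact h

theorem not_isSeparable_of_pow_mem [CharP K p] (hA : Module.finrank K A = p ^ 2) (z : A)
    (hz : z ∉ (algebraMap K A).range) (c₀ : K) (hzp : z ^ p = algebraMap K A c₀) :
    ¬ IsSeparable K z := by
  have hp : p.Prime := Fact.out
  have hint : IsIntegral K z := Algebra.IsIntegral.isIntegral z
  have hdeg := natDegree_minpoly_eq_prime K p A hA z hz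
  have heq := minpoly_eq_X_pow_sub_C K A z hint c₀ (by rw [hdeg]; exact hzp)
  rw [hdeg] at heq
  intro hsep
  unfold IsSeparable at hsep
  rw [heq, separable_def] at hsep
  have hder : derivative (X ^ p - C c₀ : K[X]) = 0 := by
    simp [derivative_X_pow, CharP.cast_eq_zero]
  rw [hder, isCoprime_zero_right] at hsep
  have := natDegree_eq_zero_of_isUnit hsep
  rw [natDegree_X_pow_sub_C] at this
  exact hp.ne_zero this

theorem exists_not_mem_range (hA : Module.finrank K A = p ^ 2) :
    ∃ x : A, x ∉ (algebraMap K A).range := by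
  have hp : p.Prime := Fact.out
  by_contra h
  push Not at h
  have hsurj : Function.Surjective (Algebra.linearMap K A) := fun y => h y
  have h1 := LinearMap.finrank_le_finrank_of_surjective (f := Algebra.linearMap K A) hsurj  -- ?
  rw [hA, Module.finrank_self] at h1
  have : 2 ^ 2 ≤ p ^ 2 := Nat.pow_le_pow_left hp.two_le 2
  omega

end division



section main

open Groth.Agent.Lib.Helper15.SubfieldDegree Groth.Agent.Lib.Helper15.BddFinDiv

variable (K : Type u) [Field K] [CharP K 3]
  (A : Type v) [DivisionRing A] [Algebra K A] [Algebra.IsCentral K A] [FiniteDimensional K A]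

/-- the derivation `[x, -]` with square zero vanishes in characteristic 3 -/
theorem central_of_ad_sq_zero (x : A)
    (h : ∀ y : A, (x * y - y * x) * x = x * (x * y - y * x)) :
    x ∈ (algebraMap K A).range := by
  have : CharP A 3 := charP_of_injective_algebraMap (algebraMap K A).injective 3
  have h2 : (2 : A) ≠ 0 := by
    intro h2
    have : ((2 : ℕ) : A) = 0 := by exact_mod_cast h2
    rw [CharP.cast_eq_zero_iff A 3] at this
    omega
  have hD : ∀ y : A, x * y - y * x = 0 := by
    intro y
    have e1 := h (y * y)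
    have e2 := h y
    have key : 2 * ((x * y - y * x) * (x * y - y * x)) = 0 := by
      have : x * (y * y) - y * y * x = (x * y - y * x) * y + y * (x * y - y * x) := by
        simp only [sub_mul, mul_sub, mul_assoc]; abel
      rw [this] at e1
      have e3 : x * ((x * y - y * x) * y + y * (x * y - y * x)) -
          ((x * y - y * x) * y + y * (x * y - y * x)) * x =
          (x * (x * y - y * x) - (x * y - y * x) * x) * y +
          2 * ((x * y - y * x) * (x * y - y * x)) +
          y * (x * (x * y - y * x) - (x * y - y * x) * x) := by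
        simp only [two_mul, sub_mul, mul_sub, mul_assoc, mul_add, add_mul]; abel
      have e4 : x * (x * y - y * x) - (x * y - y * x) * x = 0 := by rw [e2, sub_self]
      rw [e4, zero_mul, mul_zero, zero_add, add_zero, ← e1, sub_self] at e3
      exact e3.symm
    rcases mul_eq_zero.mp key with h' | h'
    · exact absurd h' h2
    · exact mul_self_eq_zero.mp h'
  have hc : x ∈ Subalgebra.center K A := by
    rw [Subalgebra.mem_center_iff]
    intro y
    have := hD y
    rw [sub_eq_zero] at this
    exact this.symm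
  rw [Algebra.IsCentral.center_eq_bot] at hc
  exact Algebra.mem_bot.mp hc





/-- Wedderburn: a central division algebra of degree 3 in characteristic 3 contains either an
element `z ∉ K` with `z ^ 3 ∈ K` or a Galois subfield of degree 3 -/
theorem wedderburn_three (hA : Module.finrank K A = 3 ^ 2) :
    (∃ z : A, z ∉ (algebraMap K A).range ∧ z ^ 3 ∈ (algebraMap K A).range) ∨
    (∃ (L : Type u) (_ : Field L) (_ : Algebra K L), IsGalois K L ∧ Module.finrank K L = 3 ∧
      Nonempty (L →ₐ[K] A)) := by
  haveI : Fact (Nat.Prime 3) := ⟨Nat.prime_three⟩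
  obtain ⟨x, hxK⟩ := exists_not_mem_range K 3 A hA
  have hint : IsIntegral K x := Algebra.IsIntegral.isIntegral x
  have hirr : Irreducible (minpoly K x) := minpoly.irreducible hint
  have hdeg := natDegree_minpoly_eq_prime K 3 A hA x hxK
  have hmonic := minpoly.monic hint
  set a := (minpoly K x).coeff 2 with ha
  set b := (minpoly K x).coeff 1 with hb
  set c := (minpoly K x).coeff 0 with hc
  have hcub : ∀ t : A, aeval t (minpoly K x) = cub a b t + algebraMap K A c :=
    fun t => aeval_eq_cub _ hdeg hmonic t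
  have hx : cub a b x = algebraMap K A (-c) := by
    have := hcub x
    rw [minpoly.aeval] at this
    rw [map_neg, eq_neg_iff_add_eq_zero, ← this]
  -- properties of the conjugate
  have hconj : ∀ y : A, x * y - y * x ≠ 0 →
      (x * y - y * x) * x = ((x * y - y * x) * x * (x * y - y * x)⁻¹) * (x * y - y * x) := by
    intro y hw
    rw [inv_mul_cancel_right₀ hw]
  have hprop : ∀ y : A, x * y - y * x ≠ 0 →
      rel a b x ((x * y - y * x) * x * (x * y - y * x)⁻¹) = 0 ∧
      cub a b ((x * y - y * x) * x * (x * y - y * x)⁻¹) = algebraMap K A (-c) := by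
    intro y hw
    have h1 := rel_mul_of_conj a b x _ _ (hconj y hw)
    rw [comm_cub, hx, Algebra.commutes, sub_self] at h1
    have h2 := conj_cub a b x _ _ (hconj y hw)
    rw [hx, ← Algebra.commutes] at h2
    exact ⟨(mul_eq_zero.mp h1).resolve_right hw, (mul_right_cancel₀ hw h2).symm⟩
  by_cases hI : ∃ y : A, x * y - y * x ≠ 0 ∧
      x * ((x * y - y * x) * x * (x * y - y * x)⁻¹) -
        ((x * y - y * x) * x * (x * y - y * x)⁻¹) * x ≠ 0
  · -- Case I
    left
    obtain ⟨y, hw, hz⟩ := hI
    obtain ⟨hR, hx₂⟩ := hprop y hw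
    set x₂ := (x * y - y * x) * x * (x * y - y * x)⁻¹ with hx₂def
    obtain ⟨h1, h2, h3⟩ := semi_comm a b x x₂ (hx.trans hx₂.symm) hR
    obtain ⟨hc1, hc2⟩ := cube_comm x x₂ _ _ h1 h2 h3
    set z := x * x₂ - x₂ * x with hzdef
    refine ⟨z, ?_, ?_⟩
    · rintro ⟨k, hk⟩
      have e1 : z * x = z * x₂ := by rw [h1, ← hk, Algebra.commutes]
      have e2 : x = x₂ := mul_left_cancel₀ hz e1
      apply hz
      rw [hzdef, ← e2, sub_self]
    · by_contra hz3
      have hdeg_t := natDegree_minpoly_eq_prime K 3 A hA (z ^ 3) hz3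
      obtain ⟨g₁, hg₁⟩ := exists_aeval_eq_of_commute K 3 A hA (z ^ 3) hdeg_t x hc1
      obtain ⟨g₂, hg₂⟩ := exists_aeval_eq_of_commute K 3 A hA (z ^ 3) hdeg_t x₂ hc2
      apply hz
      rw [hzdef, ← hg₁, ← hg₂, ← map_mul, ← map_mul, mul_comm, sub_self]
  · push Not at hI
    by_cases hIIa : ∃ y : A, x * y - y * x ≠ 0 ∧
        (x * y - y * x) * x * (x * y - y * x)⁻¹ ≠ x
    · right
      obtain ⟨y, hw, hne⟩ := hIIa
      obtain ⟨hR, hx₂⟩ := hprop y hw
      have hcomm := sub_eq_zero.mp (hI y hw)
      obtain ⟨g, hg⟩ := exists_aeval_eq_of_commute K 3 A hA x hdeg _ hcomm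
      have hroot : aeval ((x * y - y * x) * x * (x * y - y * x)⁻¹) (minpoly K x) = 0 := by
        rw [hcub, hx₂, map_neg, neg_add_cancel]
      exact exists_galois_of_root_in_subfield 3 x _ hint hdeg hirr hroot g hg hne
    · exfalso
      push Not at hIIa
      apply hxK
      apply central_of_ad_sq_zero K A x
      intro y
      by_cases hw : x * y - y * x = 0
      · rw [hw, zero_mul, mul_zero]
      · have := hIIa y hw
        rw [mul_inv_eq_iff_eq_mul₀ hw] at this
        exact this

end main

end Groth.Agent.Lib.Helper15.Degree3
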