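import Mathlib
import Groth.Agent.Lib.Helper12.HensRad
import Groth.Agent.Lib.Helper12.HzPairQuot
import Groth.Agent.Lib.Helper11.HenselianQuot

/-!
# Neighbourhood extensions (helper15)

`R → R'` flat, bijective modulo `I`, with `I` in both Jacobson radicals.
-/

set_option autoImplicit false
set_option linter.style.haveILetI false
set_option linter.unusedSectionVars false
set_option linter.style.longLine false

universe u

namespace Groth.Agent.Lib.Helper15.Desc

open TensorProduct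

/-- A neighbourhood extension of `R` along `I`. -/
structure NE {R : Type u} [CommRing R] (I : Ideal R) (R' : Type u) [CommRing R'] [Algebra R R'] :
    Prop where
  flat : Module.Flat R R'
  radR : I ≤ Ideal.jacobson ⊥
  rad : I.map (algebraMap R R') ≤ Ideal.jacobson ⊥
  dense : ∀ r' : R', ∃ r : R, r' - algebraMap R R' r ∈ I.map (algebraMap R R')
  closed : ∀ r : R, algebraMap R R' r ∈ I.map (algebraMap R R') → r ∈ I

variable {R : Type u} [CommRing R] {I : Ideal R} {R' : Type u} [CommRing R'] [Algebra R R']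

namespace NE

/-- elements of `𝔞 R'` are approximated by elements of `𝔞`. -/
theorem exists_approx (h : NE I R') (𝔞 : Ideal R) {x' : R'} (hx' : x' ∈ 𝔞.map (algebraMap R R')) :
    ∃ a ∈ 𝔞, x' - algebraMap R R' a ∈ I.map (algebraMap R R') := by
  induction hx' using Submodule.span_induction with
  | mem y hy =>
    obtain ⟨a, ha, rfl⟩ := hy
    exact ⟨a, ha, by rw [sub_self]; exact Ideal.zero_mem _⟩
  | zero => exact ⟨0, Ideal.zero_mem _, by rw [map_zero, sub_self]; exact Ideal.zero_mem _⟩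
  | add y₁ y₂ _ _ h₁ h₂ =>
    obtain ⟨a₁, ha₁, hy₁⟩ := h₁
    obtain ⟨a₂, ha₂, hy₂⟩ := h₂
    refine ⟨a₁ + a₂, Ideal.add_mem _ ha₁ ha₂, ?_⟩
    have : y₁ + y₂ - algebraMap R R' (a₁ + a₂) = (y₁ - algebraMap R R' a₁) + (y₂ - algebraMap R R' a₂) := by
      rw [map_add]; ring
    rw [this]
    exact Ideal.add_mem _ hy₁ hy₂
  | smul c y _ hh =>
    obtain ⟨a, ha, hy⟩ := hh
    obtain ⟨t, ht⟩ := h.dense c
    refine ⟨t * a, Ideal.mul_mem_left _ _ ha, ?_⟩
    have : c • y - algebraMap R R' (t * a) = c * (y - algebraMap R R' a) + (c - algebraMap R R' t) * algebraMap R R' a := by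
      rw [map_mul, smul_eq_mul]; ring
    rw [this]
    exact Ideal.add_mem _ (Ideal.mul_mem_left _ _ hy) (Ideal.mul_mem_right _ _ ht)

theorem faithfullyFlat (h : NE I R') : Module.FaithfullyFlat R R' := by
  haveI := h.flat
  refine ⟨fun 𝔪 h𝔪 htop => ?_⟩
  have hI𝔪 : I ≤ 𝔪 := h.radR.trans (sInf_le ⟨bot_le, h𝔪⟩)
  have h1 : (1 : R') ∈ 𝔪.map (algebraMap R R') := by
    have : (1 : R') ∈ (𝔪 • ⊤ : Submodule R R') := by rw [htop]; trivial
    rwa [Ideal.smul_top_eq_map, Submodule.restrictScalars_mem] at this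
  obtain ⟨a, ha, h2⟩ := h.exists_approx 𝔪 h1
  have h3 : algebraMap R R' (1 - a) ∈ I.map (algebraMap R R') := by
    rw [map_sub, map_one]; exact h2
  have h4 : 1 - a ∈ 𝔪 := hI𝔪 (h.closed _ h3)
  have h5 : (1 : R) ∈ 𝔪 := by
    have : (1 : R) = (1 - a) + a := by ring
    rw [this]; exact Ideal.add_mem _ h4 ha
  exact h𝔪.ne_top ((Ideal.eq_top_iff_one _).mpr h5)

theorem comap_map (h : NE I R') (𝔞 : Ideal R) :
    (𝔞.map (algebraMap R R')).comap (algebraMap R R') = 𝔞 := by
  haveI := h.faithfullyFlat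
  exact Ideal.comap_map_eq_self_of_faithfullyFlat 𝔞

theorem mem_of_algebraMap_mem (h : NE I R') (𝔞 : Ideal R) {r : R}
    (hr : algebraMap R R' r ∈ 𝔞.map (algebraMap R R')) : r ∈ 𝔞 := by
  have : r ∈ (𝔞.map (algebraMap R R')).comap (algebraMap R R') := hr
  rwa [h.comap_map] at this

theorem le_of_map_le_map (h : NE I R') {𝔞 𝔟 : Ideal R}
    (hab : 𝔞.map (algebraMap R R') ≤ 𝔟.map (algebraMap R R')) : 𝔞 ≤ 𝔟 := by
  intro x hx
  exact h.mem_of_algebraMap_mem 𝔟 (hab (Ideal.mem_map_of_mem _ hx))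

theorem algebraMap_injective (h : NE I R') : Function.Injective (algebraMap R R') := by
  rw [injective_iff_map_eq_zero]
  intro x hx
  have : x ∈ (⊥ : Ideal R) := h.mem_of_algebraMap_mem ⊥ (by rw [hx]; exact Ideal.zero_mem _)
  exact this

theorem dense_pow (h : NE I R') (n : ℕ) (r' : R') :
    ∃ r : R, r' - algebraMap R R' r ∈ (I ^ n).map (algebraMap R R') :=
  Groth.Agent.Lib.Helper12.HzPair.exists_sub_mem_pow h.dense n r'

/-- the extension is an isomorphism when `I = ⊥`. -/
theorem surjective_of_eq_bot (h : NE I R') (hI : I = ⊥) : Function.Surjective (algebraMap R R') := by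
  intro r'
  obtain ⟨r, hr⟩ := h.dense r'
  rw [hI, Ideal.map_bot] at hr
  exact ⟨r, (sub_eq_zero.mp hr).symm⟩

end NE

end Groth.Agent.Lib.Helper15.Desc
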