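import Mathlib

/-!
# Rig-unramified algebras: the diagonal ideal is rig-idempotent (helper15)
-/

set_option autoImplicit false
set_option linter.style.haveILetI false
set_option linter.unusedSectionVars false
set_option linter.style.longLine false

universe u

namespace Groth.Agent.Lib.Helper15.Desc

open TensorProduct KaehlerDifferential

variable (A B : Type u) [CommRing A] [CommRing B] [Algebra A B]

theorem exists_pow_smul_kaehler_eq_zero [Algebra.FiniteType A B] (f : B)
    [Algebra.FormallyUnramified A (Localization.Away f)] : ∃ n : ℕ, ∀ ω : Ω[B⁄A], f ^ n • ω = 0 := by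
  classical
  have hss : Subsingleton Ω[Localization.Away f⁄A] :=
    (Algebra.formallyUnramified_iff A (Localization.Away f)).mp inferInstance
  have h1 := (IsLocalizedModule.subsingleton_iff (.powers f)
    (KaehlerDifferential.map A A B (Localization.Away f))).mp hss
  have hfin : Module.Finite B Ω[B⁄A] := inferInstance
  obtain ⟨G, hG⟩ := hfin.fg_top
  have h2 : ∀ g : Ω[B⁄A], ∃ n : ℕ, f ^ n • g = 0 := by
    intro g
    obtain ⟨_, ⟨n, rfl⟩, hn⟩ := h1 g
    exact ⟨n, hn⟩
  choose n hn using h2
  refine ⟨G.sup n, fun ω => ?_⟩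
  have hω : ω ∈ Submodule.span B (G : Set Ω[B⁄A]) := by rw [hG]; trivial
  induction hω using Submodule.span_induction with
  | mem g hg =>
    have hle : n g ≤ G.sup n := Finset.le_sup hg
    obtain ⟨k, hk⟩ := Nat.exists_eq_add_of_le hle
    rw [hk, pow_add, mul_comm, mul_smul, hn g, smul_zero]
  | zero => rw [smul_zero]
  | add x y _ _ hx hy => rw [smul_add, hx, hy, add_zero]
  | smul c x _ hx => rw [smul_comm, hx, smul_zero]

/-- the diagonal ideal of a rig-unramified algebra is rig-idempotent. -/
theorem exists_pow_mul_mem_sq [Algebra.FiniteType A B] (a : A)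
    [Algebra.FormallyUnramified A (Localization.Away (algebraMap A B a))] :
    ∃ n : ℕ, ∀ d ∈ KaehlerDifferential.ideal A B,
      (algebraMap A (B ⊗[A] B) a) ^ n * d ∈ (KaehlerDifferential.ideal A B) ^ 2 := by
  obtain ⟨n, hn⟩ := exists_pow_smul_kaehler_eq_zero A B (algebraMap A B a)
  refine ⟨n, fun d hd => ?_⟩
  have h1 := hn ((KaehlerDifferential.ideal A B).toCotangent ⟨d, hd⟩)
  have h2 : (algebraMap A B a) ^ n • (KaehlerDifferential.ideal A B).toCotangent ⟨d, hd⟩ =
      (KaehlerDifferential.ideal A B).toCotangent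
        ⟨(algebraMap A (B ⊗[A] B) a) ^ n * d, Ideal.mul_mem_left _ _ hd⟩ := by
    rw [← IsScalarTower.algebraMap_smul (B ⊗[A] B) ((algebraMap A B a) ^ n), ← map_smul]
    congr 1
    ext
    show algebraMap B (B ⊗[A] B) (algebraMap A B a ^ n) * d = _
    rw [map_pow, ← IsScalarTower.algebraMap_apply]
  have h3 := h2.symm.trans h1
  exact (Ideal.toCotangent_eq_zero _ ⟨_, _⟩).mp h3

end Groth.Agent.Lib.Helper15.Desc
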