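import Mathlib

/-!
# Newton's method for `X² = t^σ X` in a henselian pair, and rigidity of its roots (helper15)
-/

set_option autoImplicit false
set_option linter.style.haveILetI false
set_option linter.unusedSectionVars false
set_option linter.style.longLine false

universe u

namespace Groth.Agent.Lib.Helper15.Desc

open Polynomial

theorem isUnit_one_add_of_mem_jacobson {S : Type*} [CommRing S] {x : S}
    (hx : x ∈ Ideal.jacobson (⊥ : Ideal S)) : IsUnit (1 + x) := by
  have := Ideal.mem_jacobson_bot.mp hx 1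
  rwa [mul_one, add_comm] at this

/-- Newton step for `X² − t^σ X` in a henselian pair. -/
theorem newton_idem {R : Type*} [CommRing R] (I : Ideal R) [hI : HenselianRing R I] (t : R)
    (ht : t ∈ I) (σ N : ℕ) (hN : 2 * σ < N) (j₁ : R)
    (h : j₁ ^ 2 - t ^ σ * j₁ ∈ Ideal.span {t ^ N}) :
    ∃ j₀ : R, j₀ ^ 2 = t ^ σ * j₀ ∧ j₀ - j₁ ∈ Ideal.span {t ^ (N - 2 * σ)} := by
  rcases subsingleton_or_nontrivial R with hs | hs
  · exact ⟨j₁, Subsingleton.elim _ _, by rw [sub_self]; exact Ideal.zero_mem _⟩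
  obtain ⟨u, hu⟩ := Ideal.mem_span_singleton'.mp h
  set T := t ^ (N - 2 * σ) with hT
  set S := t ^ σ * t ^ σ with hS
  have hpow : t ^ N = S * T := by
    rw [hS, hT, ← pow_add, ← pow_add]
    congr 1
    omega
  have hTI : T ∈ I := by
    rw [hT]
    have : N - 2 * σ = (N - 2 * σ - 1) + 1 := by omega
    rw [this, pow_succ]
    exact Ideal.mul_mem_left _ _ ht
  have e1 : j₁ ^ 2 - t ^ σ * j₁ = S * T * u := by rw [← hu, hpow]; ring
  have hv : IsUnit (1 + 4 * T * u) := by
    apply isUnit_one_add_of_mem_jacobson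
    apply hI.jac
    have : 4 * T * u = (4 * u) * T := by ring
    rw [this]
    exact Ideal.mul_mem_left _ _ hTI
  obtain ⟨v', e3⟩ := hv.exists_right_inv
  set w := v' * T * u with hw
  have hwI : w ∈ I := by
    have : w = (v' * u) * T := by rw [hw]; ring
    rw [this]
    exact Ideal.mul_mem_left _ _ hTI
  -- the polynomial `X² + X + w`
  let g : R[X] := X ^ 2 + (X + C w)
  have hg : g.Monic := by
    apply Polynomial.monic_X_pow_add
    rw [Polynomial.degree_X_add_C]
    norm_num
  have hg0 : g.eval 0 ∈ I := by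
    simp only [g, eval_add, eval_pow, eval_X, eval_C]
    simpa using hwI
  have hg1 : IsUnit (Ideal.Quotient.mk I (g.derivative.eval 0)) := by
    have : g.derivative.eval 0 = 1 := by
      simp [g]
    rw [this, map_one]
    exact isUnit_one
  obtain ⟨y, hy, hyI⟩ := hI.is_henselian g hg 0 hg0 hg1
  rw [sub_zero] at hyI
  have e2 : y ^ 2 + y + v' * T * u = 0 := by
    have : g.eval y = 0 := hy
    simp only [g, eval_add, eval_pow, eval_X, eval_C] at this
    rw [← this, hw]; ring
  have hy1 : IsUnit (1 + y) := isUnit_one_add_of_mem_jacobson (hI.jac hyI)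
  obtain ⟨z, e4⟩ := hy1.exists_right_inv
  refine ⟨j₁ + (2 * j₁ - t ^ σ) * y, ?_, ?_⟩
  · linear_combination (1 + 4 * (y + y ^ 2)) * e1 + (S * (1 + 4 * T * u)) * e2 - (S * T * u) * e3
  · rw [add_sub_cancel_left, Ideal.mem_span_singleton']
    refine ⟨-((2 * j₁ - t ^ σ) * v' * u * z), ?_⟩
    linear_combination (-((2 * j₁ - t ^ σ) * z)) * e2 + ((2 * j₁ - t ^ σ) * y) * e4

/-- `t`-power torsion is bounded in a Noetherian ring. -/
theorem torsion_bound (S : Type*) [CommRing S] [IsNoetherianRing S] (t : S) :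
    ∃ k₀ : ℕ, ∀ (n : ℕ) (z : S), t ^ n * z = 0 → t ^ k₀ * z = 0 := by
  let f : ℕ →o Ideal S :=
    { toFun := fun n => LinearMap.ker (LinearMap.mul S S (t ^ n))
      monotone' := by
        apply monotone_nat_of_le_succ
        intro n z hz
        rw [LinearMap.mem_ker, LinearMap.mul_apply_apply] at hz ⊢
        rw [pow_succ, mul_assoc, mul_comm t z, ← mul_assoc, hz, zero_mul] }
  obtain ⟨k₀, hk₀⟩ := monotone_stabilizes_iff_noetherian.mpr (inferInstance : IsNoetherian S S) f
  refine ⟨k₀, fun n z hz => ?_⟩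
  by_cases hn : n ≤ k₀
  · have : z ∈ f k₀ := f.monotone hn (by
      show z ∈ LinearMap.ker (LinearMap.mul S S (t ^ n))
      rw [LinearMap.mem_ker, LinearMap.mul_apply_apply]; exact hz)
    have h2 : z ∈ LinearMap.ker (LinearMap.mul S S (t ^ k₀)) := this
    rwa [LinearMap.mem_ker, LinearMap.mul_apply_apply] at h2
  · have hn' : k₀ ≤ n := by omega
    have : z ∈ f n := by
      show z ∈ LinearMap.ker (LinearMap.mul S S (t ^ n))
      rw [LinearMap.mem_ker, LinearMap.mul_apply_apply]; exact hz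
    rw [← hk₀ n hn'] at this
    have h2 : z ∈ LinearMap.ker (LinearMap.mul S S (t ^ k₀)) := this
    rwa [LinearMap.mem_ker, LinearMap.mul_apply_apply] at h2

/-- roots of `X² = t^σ X` that are `t`-adically close are equal. -/
theorem idem_unique {S : Type*} [CommRing S] [IsNoetherianRing S] (t : S)
    (ht : t ∈ Ideal.jacobson (⊥ : Ideal S)) (σ : ℕ) :
    ∃ M₀ : ℕ, ∀ x y : S, x ^ 2 = t ^ σ * x → y ^ 2 = t ^ σ * y →
      y - x ∈ Ideal.span {t ^ M₀} → x = y := by
  obtain ⟨k₀, hk₀⟩ := torsion_bound S t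
  refine ⟨2 * σ + 1 + k₀, fun x y hx hy hxy => ?_⟩
  obtain ⟨c, hc⟩ := Ideal.mem_span_singleton'.mp hxy
  set Sg := t ^ σ * t ^ σ with hSg
  have hpow : t ^ (2 * σ + 1 + k₀) = Sg * t * t ^ k₀ := by
    rw [hSg, pow_add, pow_add, pow_one, two_mul, pow_add]
  set q := (2 * x - t ^ σ) * c * t ^ k₀ with hq
  have hu : IsUnit (1 + t * q) := by
    apply isUnit_one_add_of_mem_jacobson
    exact Ideal.mul_mem_right _ _ ht
  obtain ⟨u', hu'⟩ := hu.exists_right_inv
  -- `d (S + (2x - t^σ) d) = 0`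
  have hd : y - x = c * (Sg * t * t ^ k₀) := by rw [← hc, hpow]
  have key : Sg * (y - x) = 0 := by
    have h1 : (y - x) * (Sg * (1 + t * q)) = 0 := by
      have e : (y - x) * (Sg * (1 + t * q)) =
          (y - x) * (Sg + (2 * x - t ^ σ) * (c * (Sg * t * t ^ k₀))) := by
        rw [hq]; ring
      rw [e, ← hd]
      linear_combination (2 * x - t ^ σ) * hy - (2 * x - t ^ σ + 4 * (y - x)) * hx
    calc Sg * (y - x) = ((y - x) * (Sg * (1 + t * q))) * u' := by
          linear_combination (-(Sg * (y - x))) * hu'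
      _ = 0 := by rw [h1, zero_mul]
  have h2 : t ^ (2 * σ + (2 * σ + 1 + k₀)) * c = 0 := by
    have : t ^ (2 * σ + (2 * σ + 1 + k₀)) * c = Sg * (c * t ^ (2 * σ + 1 + k₀)) := by
      rw [hSg, pow_add, two_mul, pow_add]; ring
    rw [this, hc, key]
  have h3 := hk₀ _ c h2
  have h4 : y - x = 0 := by
    rw [hd]
    linear_combination (Sg * t) * h3
  exact (sub_eq_zero.mp h4).symm

end Groth.Agent.Lib.Helper15.Desc
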