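import Mathlib
import Groth.Agent.Lib.Helper15.Desc1

/-!
# Quotients of neighbourhood extensions (helper15)
-/

set_option autoImplicit false
set_option linter.style.haveILetI false
set_option linter.unusedSectionVars false
set_option linter.style.longLine false

universe u

namespace Groth.Agent.Lib.Helper15.Desc

open TensorProduct

variable {R : Type u} [CommRing R] {I : Ideal R} {R' : Type u} [CommRing R'] [Algebra R R']

theorem map_jacobson_bot_le {S T : Type*} [CommRing S] [CommRing T] (f : S →+* T)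
    (hf : Function.Surjective f) : (Ideal.jacobson (⊥ : Ideal S)).map f ≤ Ideal.jacobson ⊥ := by
  have h1 : (Ideal.jacobson (⊥ : Ideal S)) ≤ Ideal.jacobson (RingHom.ker f) :=
    Ideal.jacobson_mono bot_le
  have h2 : (Ideal.jacobson (RingHom.ker f)).map f = Ideal.jacobson ((RingHom.ker f).map f) :=
    Ideal.map_jacobson_of_surjective hf le_rfl
  have h3 : (RingHom.ker f).map f = ⊥ := by
    rw [eq_bot_iff, Ideal.map_le_iff_le_comap]
    intro x hx
    exact hx
  calc (Ideal.jacobson (⊥ : Ideal S)).map f ≤ (Ideal.jacobson (RingHom.ker f)).map f :=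
        Ideal.map_mono h1
    _ = Ideal.jacobson ⊥ := by rw [h2, h3]

theorem quot_comp (𝔞 : Ideal R) :
    (algebraMap (R ⧸ 𝔞) (R' ⧸ 𝔞.map (algebraMap R R'))).comp (Ideal.Quotient.mk 𝔞) =
      (Ideal.Quotient.mk (𝔞.map (algebraMap R R'))).comp (algebraMap R R') := rfl

theorem map_map_quot (𝔞 K : Ideal R) :
    (K.map (Ideal.Quotient.mk 𝔞)).map (algebraMap (R ⧸ 𝔞) (R' ⧸ 𝔞.map (algebraMap R R'))) =
      (K.map (algebraMap R R')).map (Ideal.Quotient.mk (𝔞.map (algebraMap R R'))) := by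
  rw [Ideal.map_map, Ideal.map_map, quot_comp]

theorem map_sup_quot (𝔞 K : Ideal R) :
    (K ⊔ 𝔞).map (Ideal.Quotient.mk 𝔞) = K.map (Ideal.Quotient.mk 𝔞) := by
  rw [Ideal.map_sup, Ideal.map_quotient_self, sup_bot_eq]

theorem NE.quotient (h : NE I R') (𝔞 I' : Ideal R) (hle : I' ≤ I) (m : ℕ)
    (hpow : I ^ m ≤ I' ⊔ 𝔞) :
    NE (I'.map (Ideal.Quotient.mk 𝔞)) (R' ⧸ 𝔞.map (algebraMap R R')) := by
  haveI := h.flat
  refine ⟨?_, ?_, ?_, ?_, ?_⟩
  · exact Module.Flat.of_linearEquiv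
      (Algebra.TensorProduct.quotIdealMapEquivQuotTensor R' 𝔞).toLinearEquiv
  · calc I'.map (Ideal.Quotient.mk 𝔞) ≤ (Ideal.jacobson (⊥ : Ideal R)).map (Ideal.Quotient.mk 𝔞) :=
        Ideal.map_mono (hle.trans h.radR)
      _ ≤ Ideal.jacobson ⊥ := map_jacobson_bot_le _ Ideal.Quotient.mk_surjective
  · rw [map_map_quot]
    calc (I'.map (algebraMap R R')).map (Ideal.Quotient.mk (𝔞.map (algebraMap R R')))
        ≤ (Ideal.jacobson (⊥ : Ideal R')).map (Ideal.Quotient.mk (𝔞.map (algebraMap R R'))) :=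
          Ideal.map_mono ((Ideal.map_mono hle).trans h.rad)
      _ ≤ Ideal.jacobson ⊥ := map_jacobson_bot_le _ Ideal.Quotient.mk_surjective
  · intro rb'
    obtain ⟨r', rfl⟩ := Ideal.Quotient.mk_surjective rb'
    obtain ⟨r, hr⟩ := h.dense_pow m r'
    refine ⟨Ideal.Quotient.mk 𝔞 r, ?_⟩
    have h1 : r' - algebraMap R R' r ∈ (I' ⊔ 𝔞).map (algebraMap R R') := Ideal.map_mono hpow hr
    have h2 := Ideal.mem_map_of_mem (Ideal.Quotient.mk (𝔞.map (algebraMap R R'))) h1
    rw [← map_map_quot, map_sup_quot] at h2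
    rw [Ideal.Quotient.algebraMap_quotient_map_quotient, ← map_sub]
    exact h2
  · intro rb hrb
    obtain ⟨r, rfl⟩ := Ideal.Quotient.mk_surjective rb
    rw [Ideal.Quotient.algebraMap_quotient_map_quotient, map_map_quot,
      Ideal.mem_map_iff_of_surjective _ Ideal.Quotient.mk_surjective] at hrb
    obtain ⟨y, hy, hyr⟩ := hrb
    have h1 : algebraMap R R' r - y ∈ 𝔞.map (algebraMap R R') := by
      rw [← Ideal.Quotient.eq, hyr]
    have h2 : algebraMap R R' r ∈ (I' ⊔ 𝔞).map (algebraMap R R') := by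
      rw [Ideal.map_sup]
      have : algebraMap R R' r = y + (algebraMap R R' r - y) := by ring
      rw [this]
      exact Submodule.add_mem_sup hy h1
    have h3 := h.mem_of_algebraMap_mem _ h2
    have h4 := Ideal.mem_map_of_mem (Ideal.Quotient.mk 𝔞) h3
    rwa [map_sup_quot] at h4

/-- `(I' ⊔ (t)) ^ N ≤ I' ⊔ (t ^ N)`. -/
theorem sup_span_pow_le (I' : Ideal R) (t : R) (N : ℕ) :
    (I' ⊔ Ideal.span {t}) ^ N ≤ I' ⊔ Ideal.span {t ^ N} := by
  induction N with
  | zero =>
    rw [pow_zero, pow_zero, Ideal.span_singleton_one, Ideal.one_eq_top]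
    exact le_sup_right
  | succ N ih =>
    rw [pow_succ]
    calc (I' ⊔ Ideal.span {t}) ^ N * (I' ⊔ Ideal.span {t})
        ≤ (I' ⊔ Ideal.span {t ^ N}) * (I' ⊔ Ideal.span {t}) := Ideal.mul_mono_left ih
      _ ≤ I' ⊔ Ideal.span {t ^ (N + 1)} := by
        rw [Ideal.mul_sup, Ideal.sup_mul, Ideal.sup_mul]
        refine sup_le (sup_le ?_ ?_) (sup_le ?_ ?_)
        · exact Ideal.mul_le_left.trans le_sup_left
        · exact Ideal.mul_le_right.trans le_sup_left
        · exact Ideal.mul_le_left.trans le_sup_left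
        · rw [Ideal.span_singleton_mul_span_singleton, ← pow_succ]
          exact le_sup_right

end Groth.Agent.Lib.Helper15.Desc
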