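import Mathlib
import Groth.Agent.Lib.Helper15.Desc2

/-!
# Flat base change of kernels; rig-idempotent ideals (helper15)
-/

set_option autoImplicit false
set_option linter.style.haveILetI false
set_option linter.unusedSectionVars false
set_option linter.style.longLine false

universe u

namespace Groth.Agent.Lib.Helper15.Desc

open TensorProduct

section KerBC

variable {R : Type*} [CommRing R] {R' : Type*} [CommRing R'] [Algebra R R']

theorem rid_lTensor_subtype_mem (𝔠 : Ideal R) (ξ : R' ⊗[R] 𝔠) :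
    TensorProduct.rid R R' ((LinearMap.lTensor R' (Submodule.subtype 𝔠)) ξ) ∈
      𝔠.map (algebraMap R R') := by
  induction ξ using TensorProduct.induction_on with
  | zero => simp
  | tmul a k =>
    rw [LinearMap.lTensor_tmul, TensorProduct.rid_tmul, Submodule.subtype_apply, Algebra.smul_def]
    exact Ideal.mul_mem_right _ _ (Ideal.mem_map_of_mem _ k.2)
  | add x y hx hy =>
    rw [map_add, map_add]
    exact Ideal.add_mem _ hx hy

/-- flat base change of the kernel of a linear map out of `R`. -/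
theorem mem_map_ker_of_lTensor_eq_zero [Module.Flat R R'] {P : Type*} [AddCommGroup P]
    [Module R P] (f : R →ₗ[R] P) (x' : R')
    (hx : (LinearMap.lTensor R' f) (x' ⊗ₜ[R] (1 : R)) = 0) :
    x' ∈ Ideal.map (algebraMap R R') (LinearMap.ker f : Ideal R) := by
  have hex : Function.Exact (LinearMap.lTensor R' (LinearMap.ker f).subtype)
      (LinearMap.lTensor R' f) :=
    Module.Flat.lTensor_exact R' (LinearMap.exact_subtype_ker_map f)
  obtain ⟨ξ, hξ⟩ := (hex _).mp hx
  have := rid_lTensor_subtype_mem (R' := R') (LinearMap.ker f : Ideal R) ξ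
  rw [hξ, TensorProduct.rid_tmul, one_smul] at this
  exact this

/-- tensors `x' ⊗ p` vanish when `x' ∈ 𝔞 R'` and `𝔞` kills `p`. -/
theorem tmul_eq_zero_of_mem_map {P : Type*} [AddCommGroup P] [Module R P] (𝔞 : Ideal R)
    (p : P) (hp : ∀ a ∈ 𝔞, a • p = 0) {x' : R'} (hx' : x' ∈ 𝔞.map (algebraMap R R')) :
    x' ⊗ₜ[R] p = 0 := by
  induction hx' using Submodule.span_induction with
  | mem y hy =>
    obtain ⟨a, ha, rfl⟩ := hy
    rw [Algebra.algebraMap_eq_smul_one, TensorProduct.smul_tmul, hp a ha, TensorProduct.tmul_zero]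
  | zero => rw [TensorProduct.zero_tmul]
  | add y₁ y₂ _ _ h₁ h₂ => rw [TensorProduct.add_tmul, h₁, h₂, add_zero]
  | smul c y _ hh =>
    have : (c • y) ⊗ₜ[R] p = c • (y ⊗ₜ[R] p) := by
      rw [TensorProduct.smul_tmul']
    rw [this, hh, smul_zero]

/-- the sandwich criterion for an ideal of `R'` to be extended from `R`. -/
theorem eq_map_comap_of_sandwich [Module.Flat R R'] (J : Ideal R') (JN : Ideal R) (j₀ τ : R)
    (h1 : J ≤ JN.map (algebraMap R R'))
    (h2 : ∀ x ∈ J, algebraMap R R' τ * x ∈ Ideal.span {algebraMap R R' j₀})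
    (h3 : ∀ x' : R', x' ∈ JN.map (algebraMap R R') →
      algebraMap R R' τ * x' ∈ Ideal.span {algebraMap R R' j₀} → x' ∈ J) :
    J = (J.comap (algebraMap R R')).map (algebraMap R R') := by
  apply le_antisymm _ Ideal.map_comap_le
  let f₁ : R →ₗ[R] (R ⧸ JN) := Submodule.mkQ JN
  let f₂ : R →ₗ[R] (R ⧸ Ideal.span {j₀}) := (Submodule.mkQ (Ideal.span {j₀})) ∘ₗ (LinearMap.mul R R τ)
  let f : R →ₗ[R] (R ⧸ JN) × (R ⧸ Ideal.span {j₀}) := f₁.prod f₂
  have hspan : (Ideal.span {j₀}).map (algebraMap R R') = Ideal.span {algebraMap R R' j₀} := by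
    rw [Ideal.map_span, Set.image_singleton]
  have hker : (LinearMap.ker f : Ideal R) ≤ Ideal.comap (algebraMap R R') J := by
    intro x hx
    rw [LinearMap.mem_ker] at hx
    have hx1 : f₁ x = 0 := congrArg Prod.fst hx
    have hx2 : f₂ x = 0 := congrArg Prod.snd hx
    have hx1' : x ∈ JN := (Submodule.Quotient.mk_eq_zero JN).mp hx1
    have hx2' : τ * x ∈ Ideal.span {j₀} := (Submodule.Quotient.mk_eq_zero _).mp hx2
    rw [Ideal.mem_comap]
    apply h3 _ (Ideal.mem_map_of_mem _ hx1')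
    rw [← map_mul, ← hspan]
    exact Ideal.mem_map_of_mem _ hx2'
  intro x' hx'
  apply Ideal.map_mono hker
  apply mem_map_ker_of_lTensor_eq_zero f x'
  rw [LinearMap.lTensor_tmul]
  have e : f 1 = (f₁ 1, 0) + τ • ((0 : R ⧸ JN), (Submodule.mkQ (Ideal.span {j₀}) 1)) := by
    show (f₁ 1, f₂ 1) = _
    rw [Prod.smul_mk, smul_zero, Prod.mk_add_mk, add_zero, zero_add, ← map_smul]
    congr 1
  rw [e, TensorProduct.tmul_add, ← TensorProduct.smul_tmul, Algebra.smul_def]
  rw [tmul_eq_zero_of_mem_map JN _ _ (h1 hx'), zero_add]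
  · apply tmul_eq_zero_of_mem_map (Ideal.span {j₀})
    · intro a ha
      rw [Prod.smul_mk, smul_zero, ← map_smul, smul_eq_mul, mul_one]
      congr 1
      exact (Submodule.Quotient.mk_eq_zero _).mpr ha
    · rw [hspan]
      exact h2 x' hx'
  · intro a ha
    rw [Prod.smul_mk, smul_zero, ← map_smul, smul_eq_mul, mul_one]
    congr 1
    exact (Submodule.Quotient.mk_eq_zero _).mpr ha

end KerBC

section RigIdem

variable {R : Type u} [CommRing R] {R' : Type u} [CommRing R'] [Algebra R R']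

/-- `J` is generated by an idempotent on each `D(a)`, `a ∈ I`. -/
def RigIdem (I : Ideal R) (J : Ideal R') : Prop :=
  ∀ a ∈ I, ∃ (n : ℕ) (j : R'), j ∈ J ∧ ∀ x ∈ J, (algebraMap R R' a ^ n - j) * x = 0

theorem RigIdem.annihilator {I : Ideal R} {J : Ideal R'} (h : RigIdem I J) :
    RigIdem I (Submodule.annihilator J : Ideal R') := by
  intro a ha
  obtain ⟨n, j, hj, hJ⟩ := h a ha
  refine ⟨n, algebraMap R R' a ^ n - j, ?_, ?_⟩
  · rw [Submodule.mem_annihilator]
    intro x hx
    rw [smul_eq_mul]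
    exact hJ x hx
  · intro y hy
    rw [Submodule.mem_annihilator] at hy
    have := hy j hj
    rw [smul_eq_mul] at this
    rw [sub_sub_cancel, mul_comm, this]

theorem RigIdem.mono {I I' : Ideal R} {J : Ideal R'} (h : RigIdem I J) (hle : I' ≤ I) :
    RigIdem I' J := fun a ha => h a (hle ha)

theorem RigIdem.quotient {I : Ideal R} {J : Ideal R'} (h : RigIdem I J) (𝔞 : Ideal R) :
    RigIdem (I.map (Ideal.Quotient.mk 𝔞))
      (J.map (Ideal.Quotient.mk (𝔞.map (algebraMap R R')))) := by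
  intro ab hab
  obtain ⟨a, ha, rfl⟩ := (Ideal.mem_map_iff_of_surjective _ Ideal.Quotient.mk_surjective).mp hab
  obtain ⟨n, j, hj, hJ⟩ := h a ha
  refine ⟨n, Ideal.Quotient.mk _ j, Ideal.mem_map_of_mem _ hj, ?_⟩
  intro xb hxb
  obtain ⟨x, hx, rfl⟩ := (Ideal.mem_map_iff_of_surjective _ Ideal.Quotient.mk_surjective).mp hxb
  rw [Ideal.Quotient.algebraMap_quotient_map_quotient, ← map_pow, ← map_sub, ← map_mul, hJ x hx,
    map_zero]

end RigIdem

end Groth.Agent.Lib.Helper15.Desc
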