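import Mathlib
import Groth.Agent.Lib.Helper15.Desc3
import Groth.Agent.Lib.Helper15.Desc4

/-!
# Descent of rig-idempotent ideals along a neighbourhood extension of a henselian pair (helper15)
-/

set_option autoImplicit false
set_option linter.style.haveILetI false
set_option linter.unusedSectionVars false
set_option linter.style.longLine false

universe u

namespace Groth.Agent.Lib.Helper15.Desc

open TensorProduct

section Step

variable {R : Type u} [CommRing R] [IsNoetherianRing R] {I : Ideal R} [hI : HenselianRing R I]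
  {R' : Type u} [CommRing R'] [Algebra R R'] [IsNoetherianRing R']

theorem descend_step (h : NE I R') (I' : Ideal R) (t : R) (hII : I = I' ⊔ Ideal.span {t})
    (IH : ∀ (N : ℕ) (Jb : Ideal (R' ⧸ (Ideal.span {t ^ N}).map (algebraMap R R'))),
      RigIdem (I'.map (Ideal.Quotient.mk (Ideal.span {t ^ N}))) Jb →
      Jb = (Jb.comap (algebraMap (R ⧸ Ideal.span {t ^ N})
        (R' ⧸ (Ideal.span {t ^ N}).map (algebraMap R R')))).map
        (algebraMap (R ⧸ Ideal.span {t ^ N}) (R' ⧸ (Ideal.span {t ^ N}).map (algebraMap R R'))))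
    (J : Ideal R') (hJ : RigIdem I J) :
    J = (J.comap (algebraMap R R')).map (algebraMap R R') := by
  have hI'I : I' ≤ I := by rw [hII]; exact le_sup_left
  have htI : t ∈ I := by
    rw [hII]; exact Ideal.mem_sup_right (Ideal.mem_span_singleton_self t)
  set f := algebraMap R R' with hf
  set τ := f t with hτ
  have hτjac : τ ∈ Ideal.jacobson (⊥ : Ideal R') := h.rad (Ideal.mem_map_of_mem _ htI)
  set K : Ideal R' := Submodule.annihilator J with hKdef
  have hK : RigIdem I K := hJ.annihilator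
  have hJK : ∀ x ∈ J, ∀ y ∈ K, x * y = 0 := by
    intro x hx y hy
    rw [hKdef, Submodule.mem_annihilator] at hy
    rw [mul_comm]
    exact hy x hx
  obtain ⟨s, j, hjJ, hj⟩ := hJ t htI
  have hkK : τ ^ s - j ∈ K := by
    rw [hKdef, Submodule.mem_annihilator]
    intro x hx
    rw [smul_eq_mul]
    exact hj x hx
  -- bounds
  obtain ⟨M₀, hM₀⟩ := idem_unique τ hτjac (2 * s)
  obtain ⟨k₁, hk₁⟩ := torsion_bound (R' ⧸ J) (Ideal.Quotient.mk J τ)
  set N := 2 * s + 1 + M₀ + k₁ with hN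
  set 𝔞 : Ideal R := Ideal.span {t ^ N} with h𝔞
  have h𝔞f : 𝔞.map f = Ideal.span {τ ^ N} := by
    rw [h𝔞, Ideal.map_span, Set.image_singleton, map_pow]
  -- descended ideals
  have key : ∀ L : Ideal R', RigIdem I L → ∃ LN : Ideal R, LN.map f = L ⊔ 𝔞.map f := by
    intro L hL
    set mk' := Ideal.Quotient.mk (𝔞.map f) with hmk'
    set ab := algebraMap (R ⧸ 𝔞) (R' ⧸ 𝔞.map f) with hab
    have hLb : RigIdem (I'.map (Ideal.Quotient.mk 𝔞)) (L.map mk') := (hL.mono hI'I).quotient 𝔞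
    have hIH := IH N (L.map mk') hLb
    refine ⟨((L.map mk').comap ab).comap (Ideal.Quotient.mk 𝔞), ?_⟩
    set LN := ((L.map mk').comap ab).comap (Ideal.Quotient.mk 𝔞) with hLN
    have h1 : (LN.map f).map mk' = L.map mk' := by
      rw [Ideal.map_map]
      have : mk'.comp f = ab.comp (Ideal.Quotient.mk 𝔞) := rfl
      rw [this, ← Ideal.map_map, hLN, Ideal.map_comap_of_surjective _ Ideal.Quotient.mk_surjective]
      exact hIH.symm
    have h2 := congrArg (Ideal.comap mk') h1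
    rw [Ideal.comap_map_of_surjective _ Ideal.Quotient.mk_surjective,
      Ideal.comap_map_of_surjective _ Ideal.Quotient.mk_surjective] at h2
    have h3 : Ideal.comap mk' ⊥ = 𝔞.map f := Ideal.mk_ker
    rw [h3] at h2
    have h4 : 𝔞 ≤ LN := by
      intro x hx
      rw [hLN, Ideal.mem_comap, Ideal.Quotient.eq_zero_iff_mem.mpr hx]
      exact Ideal.zero_mem _
    rw [sup_eq_left.mpr (Ideal.map_mono h4)] at h2
    exact h2
  obtain ⟨JN, hJN⟩ := key J hJ
  obtain ⟨KN, hKN⟩ := key K hK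
  -- decompose `t ^ s`
  have h1 : f (t ^ s) ∈ (JN ⊔ KN).map f := by
    rw [Ideal.map_sup, hJN, hKN, map_pow]
    have : τ ^ s = j + (τ ^ s - j) := by ring
    rw [this]
    exact Submodule.add_mem_sup (Ideal.mem_sup_left hjJ) (Ideal.mem_sup_left hkK)
  have h2 : t ^ s ∈ JN ⊔ KN := h.mem_of_algebraMap_mem _ h1
  obtain ⟨j₁, hj₁, k₁', hk₁', hsum⟩ := Submodule.mem_sup.mp h2
  have hfj₁ : f j₁ ∈ J ⊔ 𝔞.map f := by rw [← hJN]; exact Ideal.mem_map_of_mem _ hj₁
  have hfk₁ : f k₁' ∈ K ⊔ 𝔞.map f := by rw [← hKN]; exact Ideal.mem_map_of_mem _ hk₁'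
  obtain ⟨x₁, hx₁, y₁, hy₁, hxy₁⟩ := Submodule.mem_sup.mp hfj₁
  obtain ⟨x₂, hx₂, y₂, hy₂, hxy₂⟩ := Submodule.mem_sup.mp hfk₁
  have hprod : j₁ * k₁' ∈ 𝔞 := by
    apply h.mem_of_algebraMap_mem
    rw [map_mul, ← hxy₁, ← hxy₂]
    have e : (x₁ + y₁) * (x₂ + y₂) = x₁ * x₂ + (x₁ * y₂ + y₁ * (x₂ + y₂)) := by ring
    rw [e, hJK x₁ hx₁ x₂ hx₂, zero_add]
    exact Ideal.add_mem _ (Ideal.mul_mem_left _ _ hy₂) (Ideal.mul_mem_right _ _ hy₁)
  -- Newton
  have hF : j₁ ^ 2 - t ^ s * j₁ ∈ Ideal.span {t ^ N} := by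
    have e : j₁ ^ 2 - t ^ s * j₁ = -(j₁ * k₁') := by rw [← hsum]; ring
    rw [e]
    exact neg_mem hprod
  obtain ⟨j₀, hj₀, hj₀₁⟩ := newton_idem I t htI s N (by omega) j₁ hF
  -- compare in `R'`
  have hjj : j ^ 2 = τ ^ s * j := by
    have := hj j hjJ
    linear_combination -this
  have hx : (τ ^ s * j) ^ 2 = τ ^ (2 * s) * (τ ^ s * j) := by
    rw [two_mul, pow_add]
    linear_combination (τ ^ s * τ ^ s) * hjj
  have hy : (f (t ^ s * j₀)) ^ 2 = τ ^ (2 * s) * f (t ^ s * j₀) := by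
    rw [hτ, ← map_pow, ← map_pow, ← map_mul]
    congr 1
    rw [two_mul, pow_add]
    linear_combination (t ^ s * t ^ s) * hj₀
  have hτpow : ∀ a b : ℕ, a ≤ b → Ideal.span {τ ^ b} ≤ Ideal.span {τ ^ a} := by
    intro a b hab
    rw [Ideal.span_singleton_le_span_singleton]
    exact pow_dvd_pow τ hab
  have hclose : f (t ^ s * j₀) - τ ^ s * j ∈ Ideal.span {τ ^ M₀} := by
    -- first part
    have p1 : τ ^ s * (f j₀ - f j₁) ∈ Ideal.span {τ ^ M₀} := by
      apply Ideal.mul_mem_left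
      have : f j₀ - f j₁ ∈ (Ideal.span {t ^ (N - 2 * s)}).map f := by
        rw [← map_sub]; exact Ideal.mem_map_of_mem _ hj₀₁
      rw [Ideal.map_span, Set.image_singleton, map_pow] at this
      exact hτpow M₀ (N - 2 * s) (by omega) this
    -- second part
    have p2 : τ ^ s * (j - f j₁) ∈ Ideal.span {τ ^ N} := by
      rw [← h𝔞f]
      have hsum' : f j₁ + f k₁' = τ ^ s := by rw [← map_add, hsum, map_pow]
      have e : τ ^ s * (j - f j₁) = j * y₂ - (τ ^ s - j) * y₁ +
          (j * (x₂ - (τ ^ s - j)) + (τ ^ s - j) * (j - x₁)) := by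
        rw [← hxy₁] at hsum' ⊢
        have hk : x₂ + y₂ = τ ^ s - (x₁ + y₁) := by rw [hxy₂, ← hsum']; ring
        linear_combination (-j) * hk
      rw [e]
      have z1 : j * (x₂ - (τ ^ s - j)) = 0 := hJK j hjJ _ (Ideal.sub_mem _ hx₂ hkK)
      have z2 : (τ ^ s - j) * (j - x₁) = 0 := by
        rw [mul_comm]; exact hJK _ (Ideal.sub_mem _ hjJ hx₁) _ hkK
      rw [z1, z2, add_zero, add_zero]
      exact Ideal.sub_mem _ (Ideal.mul_mem_left _ _ hy₂) (Ideal.mul_mem_left _ _ hy₁)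
    have e : f (t ^ s * j₀) - τ ^ s * j = τ ^ s * (f j₀ - f j₁) - τ ^ s * (j - f j₁) := by
      rw [map_mul, map_pow]; ring
    rw [e]
    exact Ideal.sub_mem _ p1 (hτpow M₀ N (by omega) p2)
  have heq : τ ^ s * j = f (t ^ s * j₀) := hM₀ _ _ hx hy hclose
  -- the sandwich
  haveI := h.flat
  refine eq_map_comap_of_sandwich J JN (t ^ s * j₀) (t ^ (2 * s)) ?_ ?_ ?_
  · rw [hJN]; exact le_sup_left
  · intro x hx
    rw [Ideal.mem_span_singleton']
    refine ⟨x, ?_⟩
    show x * f (t ^ s * j₀) = f (t ^ (2 * s)) * x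
    rw [← heq, map_pow, two_mul, pow_add]
    have := hj x hx
    linear_combination (-(τ ^ s)) * this
  · intro x' hx' hx''
    rw [hJN] at hx'
    obtain ⟨y, hy', z, hz, rfl⟩ := Submodule.mem_sup.mp hx'
    apply Ideal.add_mem _ hy'
    rw [h𝔞f] at hz
    obtain ⟨c, rfl⟩ := Ideal.mem_span_singleton'.mp hz
    have hĵJ : f (t ^ s * j₀) ∈ J := by rw [← heq]; exact Ideal.mul_mem_left _ _ hjJ
    have h5 : f (t ^ (2 * s)) * (y + c * τ ^ N) ∈ J := by
      have : Ideal.span {f (t ^ s * j₀)} ≤ J := (Ideal.span_singleton_le_iff_mem _).mpr hĵJ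
      exact this hx''
    have h6 : τ ^ (2 * s + N) * c ∈ J := by
      have e : τ ^ (2 * s + N) * c = f (t ^ (2 * s)) * (y + c * τ ^ N) - f (t ^ (2 * s)) * y := by
        rw [map_pow, pow_add]; ring
      rw [e]
      exact Ideal.sub_mem _ h5 (Ideal.mul_mem_left _ _ hy')
    have h7 : (Ideal.Quotient.mk J τ) ^ (2 * s + N) * Ideal.Quotient.mk J c = 0 := by
      rw [← map_pow, ← map_mul]
      exact Ideal.Quotient.eq_zero_iff_mem.mpr h6
    have h8 := hk₁ _ _ h7
    rw [← map_pow, ← map_mul, Ideal.Quotient.eq_zero_iff_mem] at h8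
    have e : c * τ ^ N = τ ^ (N - k₁) * (τ ^ k₁ * c) := by
      have : N = (N - k₁) + k₁ := by omega
      conv_lhs => rw [this, pow_add]
      ring
    rw [e]
    exact Ideal.mul_mem_left _ _ h8

end Step

/-- **Descent of rig-idempotent ideals.** -/
theorem descend (r : ℕ) : ∀ (R : Type u) [CommRing R] [IsNoetherianRing R] (I : Ideal R)
    [HenselianRing R I] (R' : Type u) [CommRing R'] [Algebra R R'] [IsNoetherianRing R']
    (_ : NE I R') (s : Finset R) (_ : s.card ≤ r) (_ : Ideal.span (s : Set R) = I)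
    (J : Ideal R') (_ : RigIdem I J),
    J = (J.comap (algebraMap R R')).map (algebraMap R R') := by
  induction r with
  | zero =>
    intro R _ _ I _ R' _ _ _ h s hs hsI J hJ
    have : s = ∅ := Finset.card_eq_zero.mp (Nat.le_zero.mp hs)
    have hI : I = ⊥ := by rw [← hsI, this]; simp
    exact (Ideal.map_comap_of_surjective _ (h.surjective_of_eq_bot hI) J).symm
  | succ r ih =>
    intro R _ _ I _ R' _ _ _ h s hs hsI J hJ
    classical
    by_cases hse : s = ∅
    · have hI : I = ⊥ := by rw [← hsI, hse]; simp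
      exact (Ideal.map_comap_of_surjective _ (h.surjective_of_eq_bot hI) J).symm
    · obtain ⟨t, ht⟩ := Finset.nonempty_iff_ne_empty.mpr hse
      set s' := s.erase t with hs'
      have hcard : s'.card ≤ r := by
        rw [hs', Finset.card_erase_of_mem ht]; omega
      set I' : Ideal R := Ideal.span (s' : Set R) with hI'
      have hII : I = I' ⊔ Ideal.span {t} := by
        rw [← hsI, hI', sup_comm, ← Ideal.span_insert, hs', ← Finset.coe_insert,
          Finset.insert_erase ht]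
      have hI'I : I' ≤ I := by rw [hII]; exact le_sup_left
      apply descend_step h I' t hII _ J hJ
      intro N
      set 𝔞 : Ideal R := Ideal.span {t ^ N} with h𝔞
      intro Jb hJb
      have hNE : NE (I'.map (Ideal.Quotient.mk 𝔞)) (R' ⧸ 𝔞.map (algebraMap R R')) := by
        apply h.quotient 𝔞 I' hI'I N
        rw [hII, h𝔞]
        exact sup_span_pow_le I' t N
      haveI h1 : HenselianRing R I' := Groth.Agent.Lib.Helper12.HensRad.henselianRing_of_le I I' hI'I
      haveI : HenselianRing (R ⧸ 𝔞) (I'.map (Ideal.Quotient.mk 𝔞)) :=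
        Groth.Agent.Lib.Helper11.henselianRing_quotient I' 𝔞 h1
      refine ih (R ⧸ 𝔞) (I'.map (Ideal.Quotient.mk 𝔞)) (R' ⧸ 𝔞.map (algebraMap R R')) hNE
        (s'.image (Ideal.Quotient.mk 𝔞)) (Finset.card_image_le.trans hcard) ?_ Jb hJb
      rw [Finset.coe_image, ← Ideal.map_span]

end Groth.Agent.Lib.Helper15.Desc
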