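import Mathlib
import Groth.Agent.Lib.Helper15.Desc5

/-!
# Rig-idempotent ideals from conormal conditions; packaged descent (helper15)
-/

set_option autoImplicit false
set_option linter.style.haveILetI false
set_option linter.unusedSectionVars false
set_option linter.style.longLine false

universe u

namespace Groth.Agent.Lib.Helper15.Desc

open Polynomial

/-- Cayley–Hamilton trick: if `b J ⊆ J²` then `b^n - j` kills `J` for some `j ∈ J`. -/
theorem exists_pow_sub_mem_annihilates {S : Type*} [CommRing S] (J : Ideal S) (hJ : J.FG) (b : S)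
    (hb : ∀ x ∈ J, b * x ∈ J * J) :
    ∃ (n : ℕ) (j : S), j ∈ J ∧ ∀ x ∈ J, (b ^ n - j) * x = 0 := by
  haveI : Module.Finite S J := Module.Finite.iff_fg.mpr hJ
  let f : Module.End S J := algebraMap S (Module.End S J) b
  have hI : LinearMap.range f ≤ J • (⊤ : Submodule S J) := by
    rintro _ ⟨x, rfl⟩
    rw [Submodule.mem_smul_top_iff]
    have : ((f x : J) : S) = b * x := rfl
    rw [this]
    exact hb x x.2
  obtain ⟨p, hp, -, hcoeff, hpf⟩ :=
    LinearMap.exists_monic_and_natDegree_eq_and_coeff_mem_pow_and_aeval_eq_zero S f J hI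
  refine ⟨p.natDegree, b ^ p.natDegree - p.eval b, ?_, ?_⟩
  · rw [Polynomial.eval_eq_sum_range, Finset.sum_range_succ, hp.coeff_natDegree, one_mul]
    have : b ^ p.natDegree - (∑ k ∈ Finset.range p.natDegree, p.coeff k * b ^ k + b ^ p.natDegree) =
        -∑ k ∈ Finset.range p.natDegree, p.coeff k * b ^ k := by ring
    rw [this]
    apply neg_mem
    apply Ideal.sum_mem
    intro k hk
    apply Ideal.mul_mem_right
    have hk' : p.natDegree - k ≠ 0 := by
      have := Finset.mem_range.mp hk
      omega
    exact Ideal.pow_le_self hk' (hcoeff k)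
  · intro x hx
    rw [sub_sub_cancel]
    have h1 : Polynomial.aeval f p = algebraMap S (Module.End S J) (p.eval b) :=
      Polynomial.aeval_algebraMap_apply_eq_algebraMap_eval b p
    rw [hpf] at h1
    have h2 := congrArg (fun g : Module.End S J => ((g ⟨x, hx⟩ : J) : S)) h1
    simp only [LinearMap.zero_apply, Submodule.coe_zero] at h2
    exact h2.symm

variable {R : Type u} [CommRing R] {R' : Type u} [CommRing R'] [Algebra R R']

theorem rigIdem_of_pow_mul_le (I : Ideal R) (J : Ideal R') (hJ : J.FG) (c : ℕ)
    (h : (I.map (algebraMap R R')) ^ c * J ≤ J * J) : RigIdem I J := by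
  intro a ha
  obtain ⟨n, j, hj, hx⟩ := exists_pow_sub_mem_annihilates J hJ (algebraMap R R' a ^ c) (by
    intro x hx
    apply h
    exact Ideal.mul_mem_mul (Ideal.pow_mem_pow (Ideal.mem_map_of_mem _ ha) c) hx)
  refine ⟨c * n, j, hj, ?_⟩
  rw [pow_mul]
  exact hx

/-- packaged descent. -/
theorem descend' [IsNoetherianRing R] (I : Ideal R) [HenselianRing R I] [IsNoetherianRing R']
    (h : NE I R') (J : Ideal R') (hJ : RigIdem I J) :
    J = (J.comap (algebraMap R R')).map (algebraMap R R') := by
  obtain ⟨s, hs⟩ := (isNoetherianRing_iff_ideal_fg R).mp inferInstance I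
  exact descend s.card R I R' h s le_rfl hs J hJ

end Groth.Agent.Lib.Helper15.Desc
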