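import Mathlib
import Groth.Agent.Lib.Helper18.CplQuot

/-!
# Ring maps inducing isomorphisms modulo all powers of an ideal (helper15)

`IsDenseIso J φ` for `φ : T →+* R` and `J` an ideal of `T`: `T/J^k → R/J^k R` is bijective for all
`k`.  Stability under completion, principal localization, composition, and transfer along a map
with dense image.
-/

set_option autoImplicit false
set_option linter.style.haveILetI false
set_option linter.unusedSectionVars false

universe u

namespace Groth.Agent.Lib.Helper15.RigBC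

/-- `φ : T → R` induces isomorphisms `T/J^k ≅ R/J^k R` for all `k`. -/
structure IsDenseIso {T R : Type*} [CommRing T] [CommRing R] (J : Ideal T) (φ : T →+* R) :
    Prop where
  dense : ∀ (k : ℕ) (r : R), ∃ t : T, r - φ t ∈ (J ^ k).map φ
  closed : ∀ (k : ℕ) (t : T), φ t ∈ (J ^ k).map φ → t ∈ J ^ k

/-- the completion map is a dense iso. -/
theorem isDenseIso_of {T : Type u} [CommRing T] (J : Ideal T) (hJ : J.FG) :
    IsDenseIso J (algebraMap T (AdicCompletion J T)) where
  dense k r := by
    obtain ⟨t, ht⟩ := Ideal.Quotient.mk_surjective (AdicCompletion.evalₐ J k r)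
    refine ⟨t, ?_⟩
    rw [Ideal.map_pow, Groth.Agent.Lib.Helper18.CplQuot.mem_map_pow_iff_evalₐ J hJ, map_sub]
    have : (algebraMap T (AdicCompletion J T)) t = AdicCompletion.of J T t := rfl
    rw [this, AdicCompletion.evalₐ_of, ht, sub_self]
  closed k t h := by
    rw [Ideal.map_pow, Groth.Agent.Lib.Helper18.CplQuot.mem_map_pow_iff_evalₐ J hJ] at h
    have : (algebraMap T (AdicCompletion J T)) t = AdicCompletion.of J T t := rfl
    rw [this, AdicCompletion.evalₐ_of] at h
    exact Ideal.Quotient.eq_zero_iff_mem.mp h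

/-- composition of dense isos. -/
theorem IsDenseIso.comp {T R R' : Type*} [CommRing T] [CommRing R] [CommRing R'] {J : Ideal T}
    {φ : T →+* R} {φ' : R →+* R'} (h : IsDenseIso J φ) (h' : IsDenseIso (J.map φ) φ') :
    IsDenseIso J (φ'.comp φ) where
  dense k r' := by
    obtain ⟨r, hr⟩ := h'.dense k r'
    obtain ⟨t, ht⟩ := h.dense k r
    refine ⟨t, ?_⟩
    rw [← Ideal.map_pow, Ideal.map_map] at hr
    have h1 : φ' (r - φ t) ∈ (J ^ k).map (φ'.comp φ) := by
      rw [← Ideal.map_map]
      exact Ideal.mem_map_of_mem _ ht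
    have h2 : r' - (φ'.comp φ) t = (r' - φ' r) + φ' (r - φ t) := by
      rw [RingHom.comp_apply, map_sub]; ring
    rw [h2]
    exact Ideal.add_mem _ hr h1
  closed k t ht := by
    have h1 : φ' (φ t) ∈ ((J.map φ) ^ k).map φ' := by
      rw [← Ideal.map_pow, Ideal.map_map]
      exact ht
    have h2 := h'.closed k (φ t) h1
    rw [← Ideal.map_pow] at h2
    exact h.closed k t h2

/-- transfer of the dense iso property along a map with dense image. -/
theorem IsDenseIso.transfer {T1 T2 R : Type*} [CommRing T1] [CommRing T2] [CommRing R]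
    {J : Ideal T1} {φ1 : T1 →+* R} (h : IsDenseIso J φ1) (α : T1 →+* T2) (φ2 : T2 →+* R)
    (hφ : φ2.comp α = φ1)
    (hα : ∀ (k : ℕ) (s : T2), ∃ t : T1, s - α t ∈ (J ^ k).map α) :
    IsDenseIso (J.map α) φ2 where
  dense k r := by
    obtain ⟨t, ht⟩ := h.dense k r
    refine ⟨α t, ?_⟩
    rw [← Ideal.map_pow, Ideal.map_map, hφ]
    have : φ2 (α t) = φ1 t := by rw [← hφ]; rfl
    rw [this]
    exact ht
  closed k s hs := by
    obtain ⟨t, ht⟩ := hα k s
    rw [← Ideal.map_pow] at hs ⊢
    rw [Ideal.map_map, hφ] at hs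
    have h1 : φ2 (s - α t) ∈ (J ^ k).map φ1 := by
      rw [← hφ, ← Ideal.map_map]
      exact Ideal.mem_map_of_mem _ ht
    have h2 : φ1 t = φ2 s - φ2 (s - α t) := by
      rw [map_sub, ← hφ]; simp
    have h3 : φ1 t ∈ (J ^ k).map φ1 := by
      rw [h2]
      exact Ideal.sub_mem _ hs h1
    have h4 : t ∈ J ^ k := h.closed k t h3
    have h5 : s = (s - α t) + α t := by ring
    rw [h5]
    exact Ideal.add_mem _ ht (Ideal.mem_map_of_mem _ h4)

/-- principal localization of a dense iso. -/
theorem IsDenseIso.away {T R : Type*} [CommRing T] [CommRing R] {J : Ideal T}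
    {φ : T →+* R} (h : IsDenseIso J φ) (t : T)
    (φt : Localization.Away t →+* Localization.Away (φ t))
    (hφt : ∀ x : T, φt (algebraMap T (Localization.Away t) x) =
      algebraMap R (Localization.Away (φ t)) (φ x)) :
    IsDenseIso (J.map (algebraMap T (Localization.Away t))) φt := by
  have hcomm : φt.comp (algebraMap T (Localization.Away t)) =
      (algebraMap R (Localization.Away (φ t))).comp φ := RingHom.ext hφt
  have hmap : ∀ k : ℕ, ((J.map (algebraMap T (Localization.Away t))) ^ k).map φt =
      ((J ^ k).map φ).map (algebraMap R (Localization.Away (φ t))) := by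
    intro k
    rw [← Ideal.map_pow, Ideal.map_map, hcomm, ← Ideal.map_map]
  obtain ⟨u, hu⟩ : ∃ u : Localization.Away t, algebraMap T (Localization.Away t) t * u = 1 :=
    (IsLocalization.Away.algebraMap_isUnit t).exists_right_inv
  have hupow : ∀ n : ℕ, algebraMap T (Localization.Away t) t ^ n * u ^ n = 1 := by
    intro n
    rw [← mul_pow, hu, one_pow]
  constructor
  · intro k r'
    obtain ⟨n, r, hr⟩ := IsLocalization.Away.surj (φ t) r'
    obtain ⟨x, hx⟩ := h.dense k r
    refine ⟨algebraMap T (Localization.Away t) x * u ^ n, ?_⟩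
    rw [hmap]
    have h1 : algebraMap R (Localization.Away (φ t)) (φ t) ^ n * φt (u ^ n) = 1 := by
      rw [← hφt t, ← map_pow, ← map_mul, hupow, map_one]
    have h3 : r' - φt (algebraMap T (Localization.Away t) x * u ^ n) =
        algebraMap R (Localization.Away (φ t)) (r - φ x) * φt (u ^ n) := by
      rw [map_mul, hφt, map_sub, ← hr]
      calc r' - algebraMap R (Localization.Away (φ t)) (φ x) * φt (u ^ n)
          = r' * (algebraMap R (Localization.Away (φ t)) (φ t) ^ n * φt (u ^ n)) -
            algebraMap R (Localization.Away (φ t)) (φ x) * φt (u ^ n) := by rw [h1, mul_one]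
        _ = (r' * algebraMap R (Localization.Away (φ t)) (φ t) ^ n -
            algebraMap R (Localization.Away (φ t)) (φ x)) * φt (u ^ n) := by ring
    rw [h3]
    exact Ideal.mul_mem_right _ _ (Ideal.mem_map_of_mem _ hx)
  · intro k x' hx'
    rw [hmap] at hx'
    obtain ⟨n, x, hx⟩ := IsLocalization.Away.surj t x'
    -- φ x / 1 ∈ J^k R_t
    have h1 : algebraMap R (Localization.Away (φ t)) (φ x) ∈
        ((J ^ k).map φ).map (algebraMap R (Localization.Away (φ t))) := by
      rw [← hφt x, ← hx, map_mul, map_pow, hφt]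
      exact Ideal.mul_mem_right _ _ hx'
    rw [IsLocalization.mem_map_algebraMap_iff (Submonoid.powers (φ t))] at h1
    obtain ⟨⟨⟨a, ha⟩, ⟨s, N, hs⟩⟩, h2⟩ := h1
    have hs' : φ t ^ N = s := hs
    simp only at h2
    rw [← map_mul] at h2
    obtain ⟨⟨c, M, hc⟩, h3⟩ := (IsLocalization.eq_iff_exists (Submonoid.powers (φ t))
      (Localization.Away (φ t))).mp h2
    have hc' : φ t ^ M = c := hc
    simp only at h3
    -- φ (t^M * x * t^N) ∈ J^k R
    have h4 : φ (t ^ M * (x * t ^ N)) ∈ (J ^ k).map φ := by
      rw [map_mul, map_mul, map_pow, map_pow, hc', hs', h3]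
      exact Ideal.mul_mem_left _ _ ha
    have h5 := h.closed k _ h4
    -- x' = (t^M x t^N) / t^(M+N+n)
    have h6 : x' * algebraMap T (Localization.Away t) t ^ (n + M + N) =
        algebraMap T (Localization.Away t) (t ^ M * (x * t ^ N)) := by
      rw [map_mul, map_mul, map_pow, map_pow, ← hx]
      ring
    have h8 : x' = algebraMap T (Localization.Away t) (t ^ M * (x * t ^ N)) *
        u ^ (n + M + N) := by
      rw [← h6, mul_assoc, hupow, mul_one]
    rw [h8, ← Ideal.map_pow]
    exact Ideal.mul_mem_right _ _ (Ideal.mem_map_of_mem _ h5)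

end Groth.Agent.Lib.Helper15.RigBC
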