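import Mathlib
import Groth.Prelude.Def_FSch3
import Groth.Agent.Lib.Helper14.ComplFlat
import Groth.Agent.Lib.Helper15.RigBC1

/-!
# A dense iso induces an isomorphism of adic completions (helper15)
-/

set_option autoImplicit false
set_option linter.style.haveILetI false
set_option linter.unusedSectionVars false
set_option linter.style.longLine false

universe u

namespace Groth.Agent.Lib.Helper15.HensAlg

open Groth.Agent.Lib.Helper15.RigBC

/-- a dense iso induces a bijection of adic completions. -/
theorem complMap_bijective {T R : Type u} [CommRing T] [CommRing R] (J : Ideal T) (K : Ideal R)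
    (φ : T →+* R) (hK : J.map φ = K) (h : IsDenseIso J φ) :
    Function.Bijective (FSch.complMap J K φ hK.le) := by
  subst hK
  constructor
  · rw [injective_iff_map_eq_zero]
    intro x hx
    apply AdicCompletion.ext_evalₐ
    intro n
    have h1 := congrArg (AdicCompletion.evalₐ (J.map φ) n) hx
    rw [Groth.Agent.Lib.Helper14.evalₐ_complMap, map_zero] at h1
    obtain ⟨t, ht⟩ := Ideal.Quotient.mk_surjective (AdicCompletion.evalₐ J n x)
    rw [← ht, Ideal.quotientMap_mk, Ideal.Quotient.eq_zero_iff_mem, ← Ideal.map_pow] at h1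
    rw [← ht, map_zero, Ideal.Quotient.eq_zero_iff_mem]
    exact h.closed n t h1
  · intro y
    have hex : ∀ n, ∃ t : T, AdicCompletion.evalₐ (J.map φ) n y = Ideal.Quotient.mk _ (φ t) := by
      intro n
      obtain ⟨r, hr⟩ := Ideal.Quotient.mk_surjective (AdicCompletion.evalₐ (J.map φ) n y)
      obtain ⟨t, ht⟩ := h.dense n r
      refine ⟨t, ?_⟩
      rw [← hr, Ideal.Quotient.eq, ← Ideal.map_pow]
      exact ht
    choose t ht using hex
    have hc : ∀ {m n : ℕ}, m ≤ n → t n - t m ∈ J ^ m := by
      intro m n hmn
      apply h.closed m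
      rw [map_sub, Ideal.map_pow, ← Ideal.Quotient.eq, ← ht m]
      have h2 : Ideal.Quotient.factorPow (J.map φ) hmn (AdicCompletion.evalₐ (J.map φ) n y) =
          AdicCompletion.evalₐ (J.map φ) m y := by
        obtain ⟨c, rfl⟩ := AdicCompletion.mk_surjective (J.map φ) R y
        rw [AdicCompletion.evalₐ_mk, AdicCompletion.evalₐ_mk, Ideal.Quotient.factorPow,
          Ideal.Quotient.factor_mk, Ideal.Quotient.eq]
        have hy := c.2 hmn
        rw [SModEq.sub_mem] at hy
        simp only [smul_eq_mul, Ideal.mul_top] at hy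
        rw [← neg_sub]
        exact neg_mem hy
      rw [← h2, ht n, Ideal.Quotient.factorPow, Ideal.Quotient.factor_mk]
    let a : AdicCompletion.AdicCauchySequence J T := ⟨t, by
      intro m n hmn
      rw [SModEq.sub_mem]
      simp only [smul_eq_mul, Ideal.mul_top]
      rw [← neg_sub]
      exact neg_mem (hc hmn)⟩
    refine ⟨AdicCompletion.mk J T a, ?_⟩
    apply AdicCompletion.ext_evalₐ
    intro n
    rw [Groth.Agent.Lib.Helper14.evalₐ_complMap, AdicCompletion.evalₐ_mk, Ideal.quotientMap_mk, ht n]

/-- algebra version. -/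
theorem nonempty_algEquiv_completion {A : Type u} [CommRing A] (I : Ideal A) {B D : Type u}
    [CommRing B] [CommRing D] [Algebra A B] [Algebra A D] (ψ : B →ₐ[A] D)
    (h : IsDenseIso (I.map (algebraMap A B)) (ψ : B →+* D)) :
    Nonempty (AdicCompletion (I.map (algebraMap A B)) B ≃ₐ[A]
      AdicCompletion (I.map (algebraMap A D)) D) := by
  have hK : (I.map (algebraMap A B)).map (ψ : B →+* D) = I.map (algebraMap A D) := by
    rw [Ideal.map_map]
    congr 1
    exact ψ.comp_algebraMap
  have hb := complMap_bijective _ _ (ψ : B →+* D) hK h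
  let e : AdicCompletion (I.map (algebraMap A B)) B ≃+*
      AdicCompletion (I.map (algebraMap A D)) D := RingEquiv.ofBijective _ hb
  refine ⟨AlgEquiv.ofRingEquiv (f := e) ?_⟩
  intro a
  show FSch.complMap _ _ (ψ : B →+* D) hK.le (algebraMap A (AdicCompletion _ B) a) = _
  have h1 : algebraMap A (AdicCompletion (I.map (algebraMap A B)) B) a =
      AdicCompletion.of _ B (algebraMap A B a) := rfl
  have h2 : algebraMap A (AdicCompletion (I.map (algebraMap A D)) D) a =
      AdicCompletion.of _ D (algebraMap A D a) := rfl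
  rw [h1, h2, Groth.Agent.Lib.Helper14.complMap_of]
  congr 1
  exact ψ.commutes a

end Groth.Agent.Lib.Helper15.HensAlg
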