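import Mathlib
import Groth.Prelude.Def_Hens2
import Groth.Agent.Lib.Helper12.HzPairCompl
import Groth.Agent.Lib.Helper15.HensAlg1
import Groth.Agent.Lib.Helper21.AdicNoetherian
import Groth.Agent.Lib.Helper15.Desc6

/-!
# The henselization of a Noetherian pair sits inside the completion as a neighbourhood
extension (helper15)
-/

set_option autoImplicit false
set_option linter.style.haveILetI false
set_option linter.unusedSectionVars false
set_option linter.style.longLine false

universe u

namespace Groth.Agent.Lib.Helper15.Desc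

open Groth.Agent.Lib.Helper15.RigBC Groth.Agent.Lib.Helper12.HzPair Groth.Agent.Lib.Helper15.HensAlg

theorem isDenseIso_of_isPairHenselization {T Th : Type u} [CommRing T] [CommRing Th] [Algebra T Th]
    (𝔞 : Ideal T) (hTh : Hens2.IsPairHenselization T 𝔞 Th) : IsDenseIso 𝔞 (algebraMap T Th) where
  dense k r := by
    obtain ⟨x, hx⟩ := ((flat_and_bijective_of_isPairHenselization hTh).2 k).2 (Ideal.Quotient.mk _ r)
    obtain ⟨t, rfl⟩ := Ideal.Quotient.mk_surjective x
    rw [Ideal.quotientMap_mk, eq_comm, Ideal.Quotient.eq] at hx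
    exact ⟨t, hx⟩
  closed k t ht := mem_pow_of_isPairHenselization hTh k ht

theorem exists_bridge (T : Type u) [CommRing T] [IsNoetherianRing T] (𝔞 : Ideal T) (Th : Type u)
    [CommRing Th] [Algebra T Th] (hTh : Hens2.IsPairHenselization T 𝔞 Th) :
    ∃ g : Th →+* AdicCompletion 𝔞 T,
      g.comp (algebraMap T Th) = algebraMap T (AdicCompletion 𝔞 T) ∧
      @NE Th _ (𝔞.map (algebraMap T Th)) (AdicCompletion 𝔞 T) _ g.toAlgebra := by
  have hfg : 𝔞.FG := IsNoetherian.noetherian 𝔞
  set α := algebraMap T Th with hα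
  set 𝔟 := 𝔞.map α with h𝔟
  have hfgb : 𝔟.FG := hfg.map _
  haveI : IsNoetherianRing Th := isNoetherianRing_of_isPairHenselization 𝔞 Th hTh
  have hαd := isDenseIso_of_isPairHenselization 𝔞 hTh
  have hbij := complMap_bijective 𝔞 𝔟 α rfl hαd
  let e : AdicCompletion 𝔞 T ≃+* AdicCompletion 𝔟 Th := RingEquiv.ofBijective _ hbij
  have he : ∀ x, e x = FSch.complMap 𝔞 𝔟 α (le_of_eq rfl) x := fun _ => rfl
  let g : Th →+* AdicCompletion 𝔞 T :=
    (e.symm : AdicCompletion 𝔟 Th →+* AdicCompletion 𝔞 T).comp (algebraMap Th (AdicCompletion 𝔟 Th))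
  have hge : ∀ x : Th, e (g x) = algebraMap Th (AdicCompletion 𝔟 Th) x := by
    intro x
    show e (e.symm _) = _
    rw [e.apply_symm_apply]
  have hg : g.comp α = algebraMap T (AdicCompletion 𝔞 T) := by
    apply RingHom.ext
    intro t
    apply e.injective
    rw [RingHom.comp_apply, hge, he]
    have h1 : algebraMap T (AdicCompletion 𝔞 T) t = AdicCompletion.of 𝔞 T t := rfl
    rw [h1, Groth.Agent.Lib.Helper14.complMap_of]
    rfl
  refine ⟨g, hg, ?_⟩
  letI := g.toAlgebra
  have hgalg : algebraMap Th (AdicCompletion 𝔞 T) = g := rfl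
  have hmap : 𝔟.map g = 𝔞.map (algebraMap T (AdicCompletion 𝔞 T)) := by
    rw [h𝔟, Ideal.map_map, hg]
  refine ⟨?_, hTh.1.jac, ?_, ?_, ?_⟩
  · -- flatness
    let ℓ : AdicCompletion 𝔞 T ≃ₗ[Th] AdicCompletion 𝔟 Th :=
      { e.toAddEquiv with
        map_smul' := fun x y => by
          show e (x • y) = x • e y
          rw [Algebra.smul_def, Algebra.smul_def, map_mul, hgalg, hge] }
    exact Module.Flat.of_linearEquiv ℓ
  · rw [hgalg, hmap]
    haveI : IsAdicComplete (𝔞.map (algebraMap T (AdicCompletion 𝔞 T))) (AdicCompletion 𝔞 T) :=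
      AdicCompletion.isAdicComplete_self 𝔞 hfg
    exact IsAdicComplete.le_jacobson_bot _
  · intro r'
    obtain ⟨t, ht⟩ := (isDenseIso_of 𝔞 hfg).dense 1 r'
    refine ⟨α t, ?_⟩
    rw [hgalg, hmap]
    rw [pow_one] at ht
    have : g (α t) = algebraMap T (AdicCompletion 𝔞 T) t := by rw [← hg]; rfl
    rw [this]
    exact ht
  · intro r hr
    rw [hgalg] at hr
    have h1 := Ideal.mem_map_of_mem (e : AdicCompletion 𝔞 T →+* AdicCompletion 𝔟 Th) hr
    rw [Ideal.map_map] at h1
    have h2 : (e : AdicCompletion 𝔞 T →+* AdicCompletion 𝔟 Th).comp g =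
        algebraMap Th (AdicCompletion 𝔟 Th) := by
      apply RingHom.ext
      intro x
      exact hge x
    rw [h2] at h1
    have h3 : (e : AdicCompletion 𝔞 T →+* AdicCompletion 𝔟 Th) (g r) =
        algebraMap Th (AdicCompletion 𝔟 Th) r := hge r
    rw [h3] at h1
    have h4 := (isDenseIso_of 𝔟 hfgb).closed 1 r (by rw [pow_one]; exact h1)
    rwa [pow_one] at h4

end Groth.Agent.Lib.Helper15.Desc
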