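import Mathlib
import Groth.Prelude.Def_Hens2
import Groth.Agent.Lib.Helper12.HzPairNbhd
import Groth.Agent.Lib.Helper12.HzPairCompl
import Groth.Agent.Lib.Helper15.HensAlg1

/-!
# Quotients of a henselization are algebraizable after completion (helper15)
-/

set_option autoImplicit false
set_option linter.style.haveILetI false
set_option linter.unusedSectionVars false
set_option linter.style.longLine false

universe u

namespace Groth.Agent.Lib.Helper15.HensAlg

open Groth.Agent.Lib.Helper15.RigBC Groth.Agent.Lib.Helper12.HzPair TensorProduct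

/-- a dense iso passes to quotients. -/
theorem IsDenseIso.quotient {T R : Type*} [CommRing T] [CommRing R] {J : Ideal T} {φ : T →+* R}
    (h : IsDenseIso J φ) (L : Ideal T) :
    IsDenseIso (J.map (Ideal.Quotient.mk L))
      (Ideal.quotientMap (L.map φ) φ Ideal.le_comap_map : T ⧸ L →+* R ⧸ L.map φ) := by
  have hideal : ∀ k : ℕ, ((J.map (Ideal.Quotient.mk L)) ^ k).map
      (Ideal.quotientMap (L.map φ) φ Ideal.le_comap_map) =
      ((J ^ k).map φ).map (Ideal.Quotient.mk (L.map φ)) := by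
    intro k
    rw [← Ideal.map_pow, Ideal.map_map, Ideal.map_map]
    congr 1
  have hL : ∀ (k : ℕ) (y : R), y ∈ L.map φ → ∃ l ∈ L, y - φ l ∈ (J ^ k).map φ := by
    intro k y hy
    induction hy using Submodule.span_induction with
    | mem y hy =>
      obtain ⟨l, hl, rfl⟩ := hy
      exact ⟨l, hl, by rw [sub_self]; exact Ideal.zero_mem _⟩
    | zero => exact ⟨0, Ideal.zero_mem _, by rw [map_zero, sub_self]; exact Ideal.zero_mem _⟩
    | add y₁ y₂ _ _ h₁ h₂ =>
      obtain ⟨l₁, hl₁, hy₁⟩ := h₁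
      obtain ⟨l₂, hl₂, hy₂⟩ := h₂
      refine ⟨l₁ + l₂, Ideal.add_mem _ hl₁ hl₂, ?_⟩
      have : y₁ + y₂ - φ (l₁ + l₂) = (y₁ - φ l₁) + (y₂ - φ l₂) := by
        rw [map_add]; ring
      rw [this]
      exact Ideal.add_mem _ hy₁ hy₂
    | smul c y _ hh =>
      obtain ⟨l, hl, hy⟩ := hh
      obtain ⟨t, ht⟩ := h.dense k c
      refine ⟨t * l, Ideal.mul_mem_left _ _ hl, ?_⟩
      have : c • y - φ (t * l) = c * (y - φ l) + (c - φ t) * φ l := by
        rw [map_mul, smul_eq_mul]; ring
      rw [this]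
      exact Ideal.add_mem _ (Ideal.mul_mem_left _ _ hy) (Ideal.mul_mem_right _ _ ht)
  constructor
  · intro k r
    obtain ⟨r, rfl⟩ := Ideal.Quotient.mk_surjective r
    obtain ⟨t, ht⟩ := h.dense k r
    refine ⟨Ideal.Quotient.mk L t, ?_⟩
    rw [hideal, Ideal.quotientMap_mk, ← map_sub]
    exact Ideal.mem_map_of_mem _ ht
  · intro k t ht
    obtain ⟨t, rfl⟩ := Ideal.Quotient.mk_surjective t
    rw [hideal, Ideal.quotientMap_mk, Ideal.mem_quotient_iff_mem_sup] at ht
    obtain ⟨w, hw, y, hy, hwy⟩ := Submodule.mem_sup.mp ht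
    obtain ⟨l, hl, hyl⟩ := hL k y hy
    have h1 : φ (t - l) ∈ (J ^ k).map φ := by
      have : φ (t - l) = w + (y - φ l) := by rw [map_sub, ← hwy]; ring
      rw [this]
      exact Ideal.add_mem _ hw hyl
    have h2 := h.closed k (t - l) h1
    have h3 : Ideal.Quotient.mk L t = Ideal.Quotient.mk L (t - l) := by
      rw [map_sub, Ideal.Quotient.eq_zero_iff_mem.mpr hl, sub_zero]
    rw [h3, ← Ideal.map_pow]
    exact Ideal.mem_map_of_mem _ h2

variable {C : Type u} [CommRing C] {K : Ideal C}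

/-- finitely many elements of a henselization come from a single neighbourhood. -/
theorem exists_nbhd_of_finset (Ch : Type u) [CommRing Ch] [Algebra C Ch]
    (hCh : Hens2.IsPairHenselization C K Ch) (S : Finset Ch) :
    ∃ (E : Type u) (_ : CommRing E) (_ : Algebra C E), IsNbhd K E ∧
      ∃ φ : E →ₐ[C] Ch, ∀ x ∈ S, ∃ s : E, φ s = x := by
  classical
  induction S using Finset.induction_on with
  | empty =>
    exact ⟨C, inferInstance, inferInstance, isNbhd_self, Algebra.ofId C Ch, by simp⟩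
  | insert x S _ ih =>
    obtain ⟨E₁, _, _, hN₁, φ₁, h₁⟩ := ih
    obtain ⟨E₂, _, _, hN₂, φ₂, s₂, hs₂⟩ := exists_nbhd_of_mem Ch hCh x
    refine ⟨E₁ ⊗[C] E₂, inferInstance, inferInstance, IsNbhd.tensor K hN₁ hN₂,
      Algebra.TensorProduct.lift φ₁ φ₂ (fun _ _ => Commute.all _ _), ?_⟩
    intro y hy
    rcases Finset.mem_insert.mp hy with rfl | hy
    · exact ⟨1 ⊗ₜ s₂, by simp [hs₂]⟩
    · obtain ⟨s, hs⟩ := h₁ y hy
      exact ⟨s ⊗ₜ 1, by simp [hs]⟩

/-- any ideal of the henselization of a Noetherian pair comes from a neighbourhood. -/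
theorem exists_ideal [IsNoetherianRing C] (Ch : Type u) [CommRing Ch] [Algebra C Ch]
    (hCh : Hens2.IsPairHenselization C K Ch) (J : Ideal Ch) :
    ∃ (E : Type u) (_ : CommRing E) (_ : Algebra C E), IsNbhd K E ∧
      ∃ (φ : E →ₐ[C] Ch) (JE : Ideal E), JE.map (φ : E →+* Ch) = J := by
  classical
  have hno : IsNoetherianRing Ch := isNoetherianRing_of_isPairHenselization K Ch hCh
  obtain ⟨S, hS⟩ := (isNoetherianRing_iff_ideal_fg Ch).mp hno J
  obtain ⟨E, _, _, hN, φ, hφ⟩ := exists_nbhd_of_finset Ch hCh S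
  refine ⟨E, inferInstance, inferInstance, hN, φ, J.comap (φ : E →+* Ch), ?_⟩
  apply le_antisymm Ideal.map_comap_le
  have hsub : (S : Set Ch) ⊆ ((J.comap (φ : E →+* Ch)).map (φ : E →+* Ch) : Ideal Ch) := by
    intro x hx
    obtain ⟨s, hs⟩ := hφ x hx
    have hxJ : x ∈ J := by rw [← hS]; exact Ideal.subset_span hx
    rw [← hs]
    apply Ideal.mem_map_of_mem
    rw [Ideal.mem_comap]
    show φ s ∈ J
    rw [hs]; exact hxJ
  calc J = Ideal.span S := hS.symm
    _ ≤ _ := Ideal.span_le.mpr hsub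

/-- a neighbourhood maps to the henselization by a dense iso. -/
theorem isDenseIso_of_nbhd (Ch : Type u) [CommRing Ch] [Algebra C Ch]
    (hCh : Hens2.IsPairHenselization C K Ch) {E : Type u} [CommRing E] [Algebra C E]
    (hN : IsNbhd K E) (φ : E →ₐ[C] Ch) :
    IsDenseIso (K.map (algebraMap C E)) (φ : E →+* Ch) := by
  have hideal : ∀ k : ℕ, ((K.map (algebraMap C E)) ^ k).map (φ : E →+* Ch) =
      (K ^ k).map (algebraMap C Ch) := by
    intro k
    rw [← Ideal.map_pow, Ideal.map_map]
    congr 1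
    exact φ.comp_algebraMap
  constructor
  · intro k z
    obtain ⟨x, hx⟩ := ((flat_and_bijective_of_isPairHenselization hCh).2 k).2 (Ideal.Quotient.mk _ z)
    obtain ⟨c, rfl⟩ := Ideal.Quotient.mk_surjective x
    rw [Ideal.quotientMap_mk, eq_comm, Ideal.Quotient.eq] at hx
    refine ⟨algebraMap C E c, ?_⟩
    rw [hideal]
    show z - φ (algebraMap C E c) ∈ _
    rw [φ.commutes]
    exact hx
  · intro k e he
    rw [hideal] at he
    obtain ⟨c, hc⟩ := exists_sub_mem_pow (I := K) (B := E) hN.exists_sub_mem k e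
    have h1 : φ (e - algebraMap C E c) ∈ (K ^ k).map (algebraMap C Ch) := by
      have := Ideal.mem_map_of_mem (φ : E →+* Ch) hc
      rw [Ideal.map_map] at this
      have h2 : (φ : E →+* Ch).comp (algebraMap C E) = algebraMap C Ch := φ.comp_algebraMap
      rw [h2] at this
      exact this
    have h3 : algebraMap C Ch c ∈ (K ^ k).map (algebraMap C Ch) := by
      have : algebraMap C Ch c = φ e - φ (e - algebraMap C E c) := by
        rw [map_sub, φ.commutes]; ring
      rw [this]
      exact Ideal.sub_mem _ he h1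
    have h4 := mem_pow_of_isPairHenselization hCh k h3
    have h5 : e = (e - algebraMap C E c) + algebraMap C E c := by ring
    rw [h5, ← Ideal.map_pow]
    exact Ideal.add_mem _ hc (Ideal.mem_map_of_mem _ h4)

end Groth.Agent.Lib.Helper15.HensAlg
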