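import Mathlib
import Groth.Prelude.Def_Hens2
import Groth.Agent.Lib.Helper15.HensAlg2

/-!
# S8801: quotients of a henselization are algebraizable after completion (helper15)
-/

set_option autoImplicit false
set_option linter.style.haveILetI false
set_option linter.unusedSectionVars false
set_option linter.style.longLine false

universe u

namespace Groth.Agent.Lib.Helper15.HensAlg

open Groth.Agent.Lib.Helper15.RigBC Groth.Agent.Lib.Helper12.HzPair TensorProduct

theorem main8801 (A : Type u) [CommRing A] [IsNoetherianRing A] (I : Ideal A) (C : Type u) [CommRing C] [Algebra A C] [Algebra.FiniteType A C] (Ch : Type u) [CommRing Ch] [Algebra C Ch] [Algebra A Ch] [IsScalarTower A C Ch] (hCh : Hens2.IsPairHenselization C (I.map (algebraMap A C)) Ch) (J : Ideal Ch) : ∃ (B : Type u) (_ : CommRing B) (_ : Algebra A B), Algebra.FiniteType A B ∧ Nonempty (AdicCompletion (I.map (algebraMap A B)) B ≃ₐ[A] AdicCompletion (I.map (algebraMap A (Ch ⧸ J))) (Ch ⧸ J)) := by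
  haveI : IsNoetherianRing C := Algebra.FiniteType.isNoetherianRing A C
  obtain ⟨E, _, _, hN, φ, JE, hJ⟩ := exists_ideal Ch hCh J
  subst hJ
  letI : Algebra A E := ((algebraMap C E).comp (algebraMap A C)).toAlgebra
  haveI : IsScalarTower A C E := IsScalarTower.of_algebraMap_eq (fun _ => rfl)
  haveI := hN.etale
  haveI : Algebra.FiniteType C E := inferInstance
  haveI : Algebra.FiniteType A E := Algebra.FiniteType.trans (S := C) inferInstance inferInstance
  refine ⟨E ⧸ JE, inferInstance, inferInstance, ?_, ?_⟩
  · exact Algebra.FiniteType.of_surjective (Ideal.Quotient.mkₐ A JE) Ideal.Quotient.mk_surjective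
  · let φA : E →ₐ[A] Ch := φ.restrictScalars A
    let ψ : E ⧸ JE →ₐ[A] Ch ⧸ JE.map (φ : E →+* Ch) :=
      Ideal.quotientMapₐ (JE.map (φ : E →+* Ch)) φA Ideal.le_comap_map
    apply nonempty_algEquiv_completion I ψ
    have h1 := Groth.Agent.Lib.Helper15.HensAlg.IsDenseIso.quotient (isDenseIso_of_nbhd Ch hCh hN φ) JE
    have h2 : ((I.map (algebraMap A C)).map (algebraMap C E)).map (Ideal.Quotient.mk JE) =
        I.map (algebraMap A (E ⧸ JE)) := by
      rw [Ideal.map_map, Ideal.map_map]
      rfl
    rw [h2] at h1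
    exact h1

end Groth.Agent.Lib.Helper15.HensAlg
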