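import Mathlib
import Groth.Agent.S3866
import Groth.Agent.Lib.Helper12.HzPairUniv
import Groth.Agent.Lib.Helper15.HensAlg3
import Groth.Agent.Lib.Helper15.Desc7

/-!
# S9298: quotients of a completion with rig-idempotent kernel are algebraizable (helper15)
-/

set_option autoImplicit false
set_option linter.style.haveILetI false
set_option linter.unusedSectionVars false
set_option linter.style.longLine false

universe u

namespace Groth.Agent.Lib.Helper15.Desc

open Groth.Agent.Lib.Helper15.RigBC Groth.Agent.Lib.Helper12.HzPair Groth.Agent.Lib.Helper15.HensAlg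

theorem NE.isDenseIso {R : Type u} [CommRing R] {I : Ideal R} {R' : Type u} [CommRing R']
    [Algebra R R'] (h : NE I R') : IsDenseIso I (algebraMap R R') where
  dense k r' := h.dense_pow k r'
  closed k t ht := h.mem_of_algebraMap_mem (I ^ k) ht

/-- a complete ring is the completion of any dense-iso subring. -/
theorem exists_ringEquiv_completion {T' S : Type u} [CommRing T'] [CommRing S] (𝔠' : Ideal T')
    (ψ : T' →+* S) [IsAdicComplete (𝔠'.map ψ) S] (h : IsDenseIso 𝔠' ψ) :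
    ∃ e : S ≃+* AdicCompletion 𝔠' T', ∀ t, e (ψ t) = AdicCompletion.of 𝔠' T' t := by
  have hb := complMap_bijective 𝔠' (𝔠'.map ψ) ψ rfl h
  let e₁ : AdicCompletion 𝔠' T' ≃+* AdicCompletion (𝔠'.map ψ) S := RingEquiv.ofBijective _ hb
  let e₂ : S ≃+* AdicCompletion (𝔠'.map ψ) S := (AdicCompletion.ofAlgEquiv (𝔠'.map ψ)).toRingEquiv
  refine ⟨e₂.trans e₁.symm, fun t => ?_⟩
  rw [RingEquiv.trans_apply, RingEquiv.symm_apply_eq]
  have h1 : e₁ (AdicCompletion.of 𝔠' T' t) = AdicCompletion.of (𝔠'.map ψ) S (ψ t) :=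
    Groth.Agent.Lib.Helper14.complMap_of 𝔠' (𝔠'.map ψ) ψ (le_of_eq rfl) t
  rw [h1]
  rfl

theorem core9298 (A : Type u) [CommRing A]
    [IsNoetherianRing A] (I : Ideal A) (B : Type u) [CommRing B] [Algebra A B] [Algebra.FiniteType A B]
    (Th : Type u) [CommRing Th] [Algebra B Th] [Algebra A Th] [IsScalarTower A B Th]
    (𝔞 : Ideal B) (h𝔞 : 𝔞 = I.map (algebraMap A B)) (hTh : Hens2.IsPairHenselization B 𝔞 Th)
    (C : Type u) [CommRing C]
    (π : AdicCompletion 𝔞 B →+* C) (hπ : Function.Surjective π) (c : ℕ)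
    (hJ : Ideal.map ((algebraMap B (AdicCompletion 𝔞 B)).comp
        (algebraMap A B)) I ^ c * RingHom.ker π ≤ RingHom.ker π ^ 2) :
    ∃ (D : Type u) (_ : CommRing D) (_ : Algebra A D), Algebra.FiniteType A D ∧
      ∃ e : C ≃+* AdicCompletion (Ideal.map (algebraMap A D) I) D,
        ∀ a : A, e (π (algebraMap B _ (algebraMap A B a))) =
          algebraMap D _ (algebraMap A D a) := by
  haveI : IsNoetherianRing B := Algebra.FiniteType.isNoetherianRing A B
  have hfg : 𝔞.FG := IsNoetherian.noetherian 𝔞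
  haveI : IsNoetherianRing Th := isNoetherianRing_of_isPairHenselization 𝔞 Th hTh
  haveI : HenselianRing Th (𝔞.map (algebraMap B Th)) := hTh.1
  haveI : IsNoetherianRing (AdicCompletion 𝔞 B) :=
    Groth.Agent.Lib.Helper21.isNoetherianRing_adicCompletion_of_fg 𝔞 hfg
  obtain ⟨g, hg, hNE⟩ := exists_bridge B 𝔞 Th hTh
  letI := g.toAlgebra
  have hgalg : algebraMap Th (AdicCompletion 𝔞 B) = g := rfl
  set 𝔟 : Ideal Th := 𝔞.map (algebraMap B Th) with h𝔟
  set J : Ideal (AdicCompletion 𝔞 B) := RingHom.ker π with hJdef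
  have hmap : 𝔟.map g = I.map ((algebraMap B (AdicCompletion 𝔞 B)).comp (algebraMap A B)) := by
    rw [h𝔟, Ideal.map_map, hg, h𝔞, Ideal.map_map]
  have hrig : RigIdem 𝔟 J := by
    apply rigIdem_of_pow_mul_le 𝔟 J (IsNoetherian.noetherian J) c
    rw [hgalg, hmap, ← pow_two]
    exact hJ
  have hdesc := descend' 𝔟 hNE J hrig
  rw [hgalg] at hdesc
  set J₀ : Ideal Th := J.comap g with hJ₀
  -- the algebraization of `Th ⧸ J₀`
  obtain ⟨D, _, _, hDft, ⟨ε⟩⟩ := main8801 A I B Th (h𝔞 ▸ hTh) J₀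
  refine ⟨D, inferInstance, inferInstance, hDft, ?_⟩
  -- the dense iso `Th ⧸ J₀ → B^ ⧸ J₀ B^`
  have hd1 := Groth.Agent.Lib.Helper15.HensAlg.IsDenseIso.quotient hNE.isDenseIso J₀
  rw [hgalg] at hd1
  have hid : 𝔟.map (Ideal.Quotient.mk J₀) = I.map (algebraMap A (Th ⧸ J₀)) := by
    rw [h𝔟, h𝔞, Ideal.map_map, Ideal.map_map]
    have e0 : ((Ideal.Quotient.mk J₀).comp (algebraMap B Th)).comp (algebraMap A B) =
        algebraMap A (Th ⧸ J₀) := by
      apply RingHom.ext
      intro a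
      simp only [RingHom.comp_apply]
      rw [← IsScalarTower.algebraMap_apply A B Th]
      rfl
    rw [e0]
  rw [hid] at hd1
  set ψ : Th ⧸ J₀ →+* AdicCompletion 𝔞 B ⧸ J₀.map g :=
    Ideal.quotientMap (J₀.map g) g Ideal.le_comap_map with hψ
  -- completeness of the quotient
  have hcompl : IsAdicComplete ((I.map (algebraMap A (Th ⧸ J₀))).map ψ)
      (AdicCompletion 𝔞 B ⧸ J₀.map g) := by
    set K : Ideal (AdicCompletion 𝔞 B) := 𝔞.map (algebraMap B (AdicCompletion 𝔞 B)) with hK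
    haveI : IsAdicComplete K (AdicCompletion 𝔞 B) := AdicCompletion.isAdicComplete_self 𝔞 hfg
    have h1 : IsAdicComplete K (AdicCompletion 𝔞 B ⧸ J₀.map g) :=
      Groth.Agent.S3866.result (AdicCompletion 𝔞 B) K (AdicCompletion 𝔞 B ⧸ J₀.map g)
    have h2 : IsAdicComplete (K.map (algebraMap (AdicCompletion 𝔞 B) (AdicCompletion 𝔞 B ⧸ J₀.map g)))
        (AdicCompletion 𝔞 B ⧸ J₀.map g) :=
      (IsAdicComplete.map_algebraMap_iff (R := AdicCompletion 𝔞 B)
        (S := AdicCompletion 𝔞 B ⧸ J₀.map g) K (AdicCompletion 𝔞 B ⧸ J₀.map g)).mpr h1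
    have h3 : K.map (algebraMap (AdicCompletion 𝔞 B) (AdicCompletion 𝔞 B ⧸ J₀.map g)) =
        (I.map (algebraMap A (Th ⧸ J₀))).map ψ := by
      rw [← hid, Ideal.map_map (f := Ideal.Quotient.mk J₀) (g := ψ)]
      have e1 : ψ.comp (Ideal.Quotient.mk J₀) = (Ideal.Quotient.mk (J₀.map g)).comp g := by
        apply RingHom.ext
        intro x
        rfl
      rw [e1, ← Ideal.map_map, h𝔟, Ideal.map_map (f := algebraMap B Th) (g := g), hg, ← hK]
      rfl
    rw [← h3]
    exact h2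
  obtain ⟨eX, heX⟩ := exists_ringEquiv_completion (I.map (algebraMap A (Th ⧸ J₀))) ψ hd1
  -- assemble
  let e₁ : C ≃+* AdicCompletion 𝔞 B ⧸ J := (RingHom.quotientKerEquivOfSurjective hπ).symm
  let e₂ : AdicCompletion 𝔞 B ⧸ J ≃+* AdicCompletion 𝔞 B ⧸ J₀.map g := Ideal.quotEquivOfEq hdesc
  let e : C ≃+* AdicCompletion (I.map (algebraMap A D)) D :=
    ((e₁.trans e₂).trans eX).trans ε.symm.toRingEquiv
  refine ⟨e, fun a => ?_⟩
  have s1 : e₁ (π (algebraMap B (AdicCompletion 𝔞 B) (algebraMap A B a))) =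
      Ideal.Quotient.mk J (algebraMap B (AdicCompletion 𝔞 B) (algebraMap A B a)) := by
    show (RingHom.quotientKerEquivOfSurjective hπ).symm _ = _
    rw [RingEquiv.symm_apply_eq]
    rfl
  have s2 : e₂ (Ideal.Quotient.mk J (algebraMap B (AdicCompletion 𝔞 B) (algebraMap A B a))) =
      ψ (algebraMap A (Th ⧸ J₀) a) := by
    show Ideal.Quotient.mk (J₀.map g) (algebraMap B (AdicCompletion 𝔞 B) (algebraMap A B a)) = _
    rw [← hg, IsScalarTower.algebraMap_apply A Th (Th ⧸ J₀), IsScalarTower.algebraMap_apply A B Th]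
    rfl
  show ε.symm (eX (e₂ (e₁ _))) = _
  rw [s1, s2, heX]
  have s3 : AdicCompletion.of (I.map (algebraMap A (Th ⧸ J₀))) (Th ⧸ J₀) (algebraMap A (Th ⧸ J₀) a) =
      algebraMap A (AdicCompletion (I.map (algebraMap A (Th ⧸ J₀))) (Th ⧸ J₀)) a := rfl
  rw [s3, ε.symm.commutes]
  rfl

theorem main9298 (A : Type u) [CommRing A]
    [IsNoetherianRing A] (I : Ideal A) (B : Type u) [CommRing B] [Algebra A B] [Algebra.FiniteType A B]
    (C : Type u) [CommRing C]
    (π : AdicCompletion (Ideal.map (algebraMap A B) I) B →+* C) (hπ : Function.Surjective π) (c : ℕ)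
    (hJ : Ideal.map ((algebraMap B (AdicCompletion (Ideal.map (algebraMap A B) I) B)).comp
        (algebraMap A B)) I ^ c * RingHom.ker π ≤ RingHom.ker π ^ 2) :
    ∃ (D : Type u) (_ : CommRing D) (_ : Algebra A D), Algebra.FiniteType A D ∧
      ∃ e : C ≃+* AdicCompletion (Ideal.map (algebraMap A D) I) D,
        ∀ a : A, e (π (algebraMap B _ (algebraMap A B a))) =
          algebraMap D _ (algebraMap A D a) := by
  letI : Algebra A (Hz (I.map (algebraMap A B))) :=
    ((algebraMap B (Hz (I.map (algebraMap A B)))).comp (algebraMap A B)).toAlgebra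
  haveI : IsScalarTower A B (Hz (I.map (algebraMap A B))) :=
    IsScalarTower.of_algebraMap_eq (fun _ => rfl)
  exact core9298 A I B (Hz (I.map (algebraMap A B))) (I.map (algebraMap A B)) rfl
    (Hz.isPairHenselization _) C π hπ c hJ

end Groth.Agent.Lib.Helper15.Desc
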