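import Mathlib
import Groth.Agent.Lib.Helper15.Desc8
import Groth.Agent.Lib.Helper15.Desc10

/-!
# Completion lemmas for sections of rig-unramified algebras (helper15)
-/

set_option autoImplicit false
set_option linter.style.haveILetI false
set_option linter.unusedSectionVars false
set_option linter.style.longLine false

universe u

namespace Groth.Agent.Lib.Helper15.Desc

open TensorProduct Groth.Agent.Lib.Helper15.RigBC

/-- a ring endomorphism of a separated ring fixing a dense subring is the identity. -/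
theorem endo_eq_id {R R' : Type*} [CommRing R] [CommRing R'] [Algebra R R'] (𝔯 : Ideal R)
    [IsHausdorff (𝔯.map (algebraMap R R')) R']
    (hdense : ∀ (n : ℕ) (x : R'), ∃ r : R, x - algebraMap R R' r ∈ (𝔯 ^ n).map (algebraMap R R'))
    (θ' : R' →+* R') (hθ : ∀ r, θ' (algebraMap R R' r) = algebraMap R R' r) (x : R') :
    θ' x = x := by
  rw [← sub_eq_zero]
  apply IsHausdorff.haus' (I := 𝔯.map (algebraMap R R'))
  intro n
  rw [SModEq.zero, smul_eq_mul, Ideal.mul_top, ← Ideal.map_pow]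
  obtain ⟨r, hr⟩ := hdense n x
  have hcomp : θ'.comp (algebraMap R R') = algebraMap R R' := RingHom.ext hθ
  have h1 : θ' (x - algebraMap R R' r) ∈ (𝔯 ^ n).map (algebraMap R R') := by
    have := Ideal.mem_map_of_mem θ' hr
    rwa [Ideal.map_map, hcomp] at this
  have e : θ' x - x = θ' (x - algebraMap R R' r) - (x - algebraMap R R' r) := by
    rw [map_sub, hθ]; ring
  rw [e]
  exact Ideal.sub_mem _ h1 hr

/-- ring maps to a complete ring extend to the completion. -/
theorem exists_lift_completion {E S : Type u} [CommRing E] [CommRing S] (𝔢 : Ideal E) (K : Ideal S)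
    [IsAdicComplete K S] (σ : E →+* S) (h : 𝔢.map σ ≤ K) :
    ∃ σh : AdicCompletion 𝔢 E →+* S, ∀ e, σh (AdicCompletion.of 𝔢 E e) = σ e := by
  refine ⟨((AdicCompletion.ofAlgEquiv K).symm : AdicCompletion K S →+* S).comp
    (FSch.complMap 𝔢 K σ h), fun e => ?_⟩
  rw [RingHom.comp_apply, Groth.Agent.Lib.Helper14.complMap_of]
  exact AdicCompletion.ofAlgEquiv_symm_of K (σ e)

/-- the image of the diagonal ideal of a rig-unramified algebra is rig-idempotent. -/
theorem exists_pow_mul_map_diag_le (R E : Type u) [CommRing R] [CommRing E] [Algebra R E]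
    [Algebra.FiniteType R E] (𝔯 : Ideal R) (h𝔯 : 𝔯.FG) (G : Set R) (hG : Ideal.span G = 𝔯)
    (hE : ∀ a ∈ G, Algebra.FormallyUnramified R (Localization.Away (algebraMap R E a)))
    {S : Type u} [CommRing S] [Algebra R S] (u : E ⊗[R] E →ₐ[R] S) :
    ∃ c : ℕ, (𝔯.map (algebraMap R S)) ^ c * (KaehlerDifferential.ideal R E).map (u : E ⊗[R] E →+* S) ≤
      ((KaehlerDifferential.ideal R E).map (u : E ⊗[R] E →+* S)) ^ 2 := by
  set 𝔡 := KaehlerDifferential.ideal R E with h𝔡
  set J₁ : Ideal S := 𝔡.map (u : E ⊗[R] E →+* S) with hJ₁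
  set 𝔮 : Ideal R := (Submodule.colon (J₁ ^ 2 : Ideal S) (J₁ : Set S)).comap (algebraMap R S) with h𝔮
  have hmem : ∀ a : R, a ∈ 𝔮 ↔ ∀ x ∈ J₁, algebraMap R S a * x ∈ J₁ ^ 2 := by
    intro a
    rw [h𝔮, Ideal.mem_comap, Submodule.mem_colon]
    rfl
  have hrad : 𝔯 ≤ 𝔮.radical := by
    rw [← hG, Ideal.span_le]
    intro a ha
    show a ∈ 𝔮.radical
    haveI := hE a ha
    obtain ⟨n, hn⟩ := exists_pow_mul_mem_sq R E a
    refine ⟨n, ?_⟩
    rw [hmem]
    intro x hx
    rw [hJ₁] at hx
    induction hx using Submodule.span_induction with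
    | mem y hy =>
      obtain ⟨d, hd, rfl⟩ := hy
      have h1 := hn d hd
      have h2 := Ideal.mem_map_of_mem (u : E ⊗[R] E →+* S) h1
      rw [Ideal.map_pow] at h2
      have e : (u : E ⊗[R] E →+* S) (algebraMap R (E ⊗[R] E) a ^ n * d) =
          algebraMap R S (a ^ n) * (u : E ⊗[R] E →+* S) d := by
        rw [map_mul, map_pow, map_pow]
        congr 2
        exact u.commutes a
      rw [e] at h2
      exact h2
    | zero => rw [mul_zero]; exact Ideal.zero_mem _
    | add y₁ y₂ _ _ h₁ h₂ => rw [mul_add]; exact Ideal.add_mem _ h₁ h₂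
    | smul c y _ hh =>
      rw [smul_eq_mul, mul_left_comm]
      exact Ideal.mul_mem_left _ _ hh
  obtain ⟨c, hc⟩ := Ideal.exists_pow_le_of_le_radical_of_fg hrad h𝔯
  refine ⟨c, ?_⟩
  rw [← Ideal.map_pow, Ideal.mul_le]
  intro r hr x hx
  induction hr using Submodule.span_induction with
  | mem y hy =>
    obtain ⟨a, ha, rfl⟩ := hy
    exact (hmem a).mp (hc ha) x hx
  | zero => rw [zero_mul]; exact Ideal.zero_mem _
  | add y₁ y₂ _ _ h₁ h₂ => rw [add_mul]; exact Ideal.add_mem _ h₁ h₂
  | smul c' y _ hh =>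
    rw [smul_eq_mul, mul_assoc]
    exact Ideal.mul_mem_left _ _ hh

/-- closure argument: `x - θ x ∈ J₁` for all `x` once it holds on a dense subring. -/
theorem sub_endo_mem_of_dense {R E S : Type u} [CommRing R] [CommRing E] [CommRing S]
    [Algebra R E] [Algebra R S] [Algebra E S] [IsScalarTower R E S] [IsNoetherianRing S]
    (𝔯 : Ideal R) (hrad : 𝔯.map (algebraMap R S) ≤ Ideal.jacobson ⊥)
    (hdense : ∀ (n : ℕ) (x : S), ∃ e : E, x - algebraMap E S e ∈ (𝔯 ^ n).map (algebraMap R S))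
    (θ : S →ₐ[R] S) (J₁ : Ideal S) (h : ∀ e : E, algebraMap E S e - θ (algebraMap E S e) ∈ J₁)
    (x : S) : x - θ x ∈ J₁ := by
  set K : Ideal S := 𝔯.map (algebraMap R S) with hK
  have hinf : (⨅ i : ℕ, K ^ i • (⊤ : Submodule S (S ⧸ J₁))) = ⊥ :=
    Ideal.iInf_pow_smul_eq_bot_of_le_jacobson K hrad
  rw [← Ideal.Quotient.eq_zero_iff_mem]
  have hmem : Ideal.Quotient.mk J₁ (x - θ x) ∈ (⨅ i : ℕ, K ^ i • (⊤ : Submodule S (S ⧸ J₁))) := by
    rw [Submodule.mem_iInf]
    intro n
    obtain ⟨e, he⟩ := hdense n x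
    have hθ : θ (x - algebraMap E S e) ∈ (𝔯 ^ n).map (algebraMap R S) := by
      have := Ideal.mem_map_of_mem (θ : S →+* S) he
      rw [Ideal.map_map] at this
      have hc : (θ : S →+* S).comp (algebraMap R S) = algebraMap R S := θ.comp_algebraMap
      rwa [hc] at this
    have e1 : x - θ x = (algebraMap E S e - θ (algebraMap E S e)) +
        ((x - algebraMap E S e) - θ (x - algebraMap E S e)) := by
      rw [map_sub]; ring
    have hy : (x - algebraMap E S e) - θ (x - algebraMap E S e) ∈ K ^ n := by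
      rw [hK, ← Ideal.map_pow]
      exact Ideal.sub_mem _ he hθ
    rw [e1, map_add, Ideal.Quotient.eq_zero_iff_mem.mpr (h e), zero_add]
    have : Ideal.Quotient.mk J₁ ((x - algebraMap E S e) - θ (x - algebraMap E S e)) =
        ((x - algebraMap E S e) - θ (x - algebraMap E S e)) • (1 : S ⧸ J₁) := by
      rw [Algebra.smul_def, mul_one]; rfl
    rw [this]
    exact Submodule.smul_mem_smul hy Submodule.mem_top
  rw [hinf] at hmem
  exact hmem

end Groth.Agent.Lib.Helper15.Desc
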