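import Mathlib
import Groth.Agent.Lib.Helper4.HenselPairU

/-!
# Algebras over a henselian pair that are dense modulo `I` map to the ring (helper15)

If `(R, I)` is a henselian pair, `D` a finite type `R`-algebra with `R → D / I D` surjective, and
`ρ : D → R'` an `R`-algebra map to an `R`-algebra `R'` with `R → R'` injective and `I R'` in the
radical, then `ρ` has image in `R`.
-/

set_option autoImplicit false
set_option linter.style.haveILetI false
set_option linter.unusedSectionVars false
set_option linter.style.longLine false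

universe u

namespace Groth.Agent.Lib.Helper15.Desc

open MvPolynomial Algebra

/-- partial derivatives preserve `I · R[X]`. -/
theorem pderiv_mem_map_C {R : Type*} [CommRing R] (I : Ideal R) {σ : Type*} (i : σ)
    {Q : MvPolynomial σ R} (hQ : Q ∈ I.map (C : R →+* MvPolynomial σ R)) :
    pderiv i Q ∈ I.map (C : R →+* MvPolynomial σ R) := by
  induction hQ using Submodule.span_induction with
  | mem y hy =>
    obtain ⟨a, _, rfl⟩ := hy
    rw [pderiv_C]
    exact Ideal.zero_mem _
  | zero => rw [map_zero]; exact Ideal.zero_mem _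
  | add y₁ y₂ _ _ h₁ h₂ => rw [map_add]; exact Ideal.add_mem _ h₁ h₂
  | smul c y hy hh =>
    have hy' : y ∈ I.map (C : R →+* MvPolynomial σ R) := hy
    rw [smul_eq_mul, Derivation.leibniz, smul_eq_mul, smul_eq_mul]
    exact Ideal.add_mem _ (Ideal.mul_mem_left _ _ hh) (Ideal.mul_mem_right _ _ hy')

theorem range_of_dense {R : Type u} [CommRing R] (I : Ideal R) [hI : HenselianRing R I]
    (R' : Type u) [CommRing R'] [Algebra R R'] (hinj : Function.Injective (algebraMap R R'))
    (hrad : I.map (algebraMap R R') ≤ Ideal.jacobson ⊥)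
    (D : Type u) [CommRing D] [Algebra R D] [Algebra.FiniteType R D]
    (hdense : ∀ d : D, ∃ r : R, d - algebraMap R D r ∈ I.map (algebraMap R D))
    (ρ : D →ₐ[R] R') (d : D) : ∃ r : R, algebraMap R R' r = ρ d := by
  classical
  obtain ⟨p, π, hπ⟩ := Algebra.FiniteType.iff_quotient_mvPolynomial''.mp
    (inferInstance : Algebra.FiniteType R D)
  set P := MvPolynomial (Fin p) R with hP
  set 𝔫 : Ideal P := I.map (C : R →+* P) with h𝔫
  have hπC : (π : P →+* D).comp (C : R →+* P) = algebraMap R D := by
    apply RingHom.ext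
    intro a
    show π (C a) = _
    rw [← MvPolynomial.algebraMap_eq, π.commutes]
  -- the contraction equations
  have hex : ∀ i : Fin p, ∃ (r : R) (Q : P), Q ∈ 𝔫 ∧ π (X i - C r - Q) = 0 := by
    intro i
    obtain ⟨r, hr⟩ := hdense (π (X i))
    have hmap : I.map (algebraMap R D) = (I.map (C : R →+* P)).map (π : P →+* D) := by
      rw [Ideal.map_map, hπC]
    rw [hmap, Ideal.mem_map_iff_of_surjective (π : P →+* D) hπ] at hr
    obtain ⟨Q, hQ, hQ'⟩ := hr
    refine ⟨r, Q, hQ, ?_⟩
    have hQ'' : π Q = π (X i) - algebraMap R D r := hQ'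
    rw [map_sub, map_sub, hQ'', ← MvPolynomial.algebraMap_eq, π.commutes, sub_self]
  choose r Q hQ hrel using hex
  set rel : Fin p → P := fun i => X i - C (r i) - Q i with hrel_def
  set T := P ⧸ Ideal.span (Set.range rel) with hT
  let Q₀ : Algebra.PreSubmersivePresentation R T (Fin p) (Fin p) :=
    Algebra.PreSubmersivePresentation.naive (v := rel) id Function.injective_id
  set j₀ : T := Q₀.jacobian with hj₀
  -- the jacobian is `1` modulo `I`
  have hdet : Q₀.jacobiMatrix.det - 1 ∈ 𝔫 := by
    rw [← Ideal.Quotient.eq_zero_iff_mem, map_sub, map_one, sub_eq_zero, RingHom.map_det]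
    have : (Ideal.Quotient.mk 𝔫).mapMatrix Q₀.jacobiMatrix = 1 := by
      ext i j
      rw [RingHom.mapMatrix_apply, Matrix.map_apply,
        Algebra.PreSubmersivePresentation.jacobiMatrix_naive]
      simp only [id_eq, hrel_def, map_sub, pderiv_C, sub_zero]
      rw [Ideal.Quotient.eq_zero_iff_mem.mpr (pderiv_mem_map_C I i (hQ j)), sub_zero, pderiv_X,
        Matrix.one_apply]
      by_cases hij : i = j
      · subst hij; simp
      · rw [Pi.single_apply, if_neg (Ne.symm hij), if_neg hij, map_zero]
    rw [this, Matrix.det_one]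
  have hj₀1 : j₀ - 1 ∈ I.map (algebraMap R T) := by
    have e1 : j₀ = Ideal.Quotient.mk _ Q₀.jacobiMatrix.det := Q₀.jacobian_eq_jacobiMatrix_det
    have e2 : j₀ - 1 = Ideal.Quotient.mk (Ideal.span (Set.range rel)) (Q₀.jacobiMatrix.det - 1) := by
      rw [e1, map_sub, map_one]
    rw [e2]
    have hcomp : algebraMap R T = (Ideal.Quotient.mk (Ideal.span (Set.range rel))).comp
        (C : R →+* P) := rfl
    rw [hcomp, ← Ideal.map_map]
    exact Ideal.mem_map_of_mem _ hdet
  -- the étale algebra `D' = T[1/j₀]`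
  let D' := Localization.Away j₀
  let Q₁ : Algebra.PreSubmersivePresentation T D' Unit Unit :=
    Algebra.PreSubmersivePresentation.localizationAway D' j₀
  let Qc := Q₁.comp Q₀
  have hQunit : IsUnit Qc.jacobian := by
    rw [Algebra.PreSubmersivePresentation.comp_jacobian_eq_jacobian_smul_jacobian,
      Algebra.smul_def, Algebra.PreSubmersivePresentation.localizationAway_jacobian]
    exact (IsLocalization.Away.algebraMap_isUnit j₀).mul (IsLocalization.Away.algebraMap_isUnit j₀)
  let QS : Algebra.SubmersivePresentation R D' (Unit ⊕ Fin p) (Unit ⊕ Fin p) := ⟨Qc, hQunit⟩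
  have hdim : QS.dimension = 0 := by
    have h1 : Qc.dimension = Q₁.dimension + Q₀.dimension :=
      Algebra.PreSubmersivePresentation.dimension_comp_eq_dimension_add_dimension Q₁ Q₀
    have h2 : Q₀.dimension = 0 := by simp [Algebra.Presentation.dimension]
    have h3 : Q₁.dimension = 0 := by simp [Algebra.Presentation.dimension]
    show Qc.dimension = 0
    rw [h1, h2, h3]
  haveI het : Algebra.Etale R D' :=
    Algebra.Etale.iff_isStandardSmoothOfRelativeDimension_zero.mpr
      (QS.isStandardSmoothOfRelativeDimension hdim)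
  -- the map `T → D`
  have hrelπ : ∀ a ∈ Ideal.span (Set.range rel), π a = 0 := by
    intro a ha
    have : Ideal.span (Set.range rel) ≤ RingHom.ker (π : P →+* D) := by
      rw [Ideal.span_le]
      rintro _ ⟨i, rfl⟩
      exact hrel i
    exact this ha
  let πT : T →ₐ[R] D := Ideal.Quotient.liftₐ (Ideal.span (Set.range rel)) π hrelπ
  have hπT : Function.Surjective πT := by
    intro d
    obtain ⟨x, rfl⟩ := hπ d
    exact ⟨Ideal.Quotient.mk _ x, rfl⟩
  -- the map `T → R ⧸ I`
  let ev : P →ₐ[R] R ⧸ I := MvPolynomial.aeval (fun i => Ideal.Quotient.mk I (r i))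
  have hev𝔫 : ∀ x ∈ 𝔫, ev x = 0 := by
    intro x hx
    have : 𝔫 ≤ RingHom.ker (ev : P →+* R ⧸ I) := by
      rw [h𝔫, Ideal.map_le_iff_le_comap]
      intro a ha
      rw [Ideal.mem_comap, RingHom.mem_ker]
      show ev (C a) = 0
      rw [← MvPolynomial.algebraMap_eq, ev.commutes, Ideal.Quotient.algebraMap_eq,
        Ideal.Quotient.eq_zero_iff_mem.mpr ha]
    exact this hx
  have hevrel : ∀ a ∈ Ideal.span (Set.range rel), ev a = 0 := by
    intro a ha
    have : Ideal.span (Set.range rel) ≤ RingHom.ker (ev : P →+* R ⧸ I) := by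
      rw [Ideal.span_le]
      rintro _ ⟨i, rfl⟩
      show ev (X i - C (r i) - Q i) = 0
      rw [map_sub, map_sub, hev𝔫 _ (hQ i), sub_zero]
      show MvPolynomial.aeval _ (X i) - MvPolynomial.aeval _ (C (r i)) = 0
      rw [MvPolynomial.aeval_X, MvPolynomial.aeval_C, Ideal.Quotient.algebraMap_eq, sub_self]
    exact this ha
  let evT : T →ₐ[R] R ⧸ I := Ideal.Quotient.liftₐ (Ideal.span (Set.range rel)) ev hevrel
  have hIT : ∀ (F : Type u) [CommRing F] [Algebra R F] (φ : T →ₐ[R] F),
      φ j₀ - 1 ∈ I.map (algebraMap R F) := by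
    intro F _ _ φ
    have := Ideal.mem_map_of_mem (φ : T →+* F) hj₀1
    rw [Ideal.map_map] at this
    have hc : (φ : T →+* F).comp (algebraMap R T) = algebraMap R F := φ.comp_algebraMap
    rw [hc] at this
    simpa using this
  have hevj : evT j₀ = 1 := by
    have := hIT (R ⧸ I) evT
    rw [Ideal.Quotient.algebraMap_eq, Ideal.map_quotient_self] at this
    exact sub_eq_zero.mp this
  let σ₀ : D' →ₐ[R] R ⧸ I := IsLocalization.liftAlgHom (M := Submonoid.powers j₀) (f := evT) (by
    rintro ⟨_, n, rfl⟩
    rw [map_pow, hevj, one_pow]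
    exact isUnit_one)
  obtain ⟨τ', hτ', -⟩ := Groth.Agent.Lib.Helper4.HenselPair.existsUnique_lift_of_etale I σ₀
  -- the two maps `D' → R'`
  let f₁ : D' →ₐ[R] R' := (Algebra.ofId R R').comp τ'
  have hunit : ∀ y : Submonoid.powers j₀, IsUnit ((ρ.comp πT) y) := by
    rintro ⟨_, n, rfl⟩
    rw [map_pow]
    apply IsUnit.pow
    have h1 := hIT R' (ρ.comp πT)
    have h2 : IsUnit (1 + ((ρ.comp πT) j₀ - 1)) := by
      have := Ideal.mem_jacobson_bot.mp (hrad h1) 1
      rwa [mul_one, add_comm] at this
    rwa [add_sub_cancel] at h2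
  let f₂ : D' →ₐ[R] R' := IsLocalization.liftAlgHom (M := Submonoid.powers j₀) (f := ρ.comp πT) hunit
  have hf₂ : ∀ t : T, f₂ (algebraMap T D' t) = ρ (πT t) := fun t => IsLocalization.lift_eq _ t
  have hσ₀ : ∀ t : T, σ₀ (algebraMap T D' t) = evT t := fun t => IsLocalization.lift_eq _ t
  have hf : f₁ = f₂ := by
    apply Groth.Agent.Lib.Helper4.HenselPair.algHom_ext_of_unramified (I.map (algebraMap R R')) hrad
    -- compare modulo `I R'`
    let q : R' →ₐ[R] R' ⧸ I.map (algebraMap R R') := Ideal.Quotient.mkₐ R _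
    have hq : q.comp f₁ = q.comp f₂ := by
      apply IsLocalization.algHom_ext (Submonoid.powers j₀)
      apply Ideal.Quotient.algHom_ext
      apply MvPolynomial.algHom_ext
      intro i
      show q (f₁ (algebraMap T D' (Ideal.Quotient.mk _ (X i)))) =
        q (f₂ (algebraMap T D' (Ideal.Quotient.mk _ (X i))))
      rw [hf₂]
      -- both are `r i` modulo `I R'`
      have h1 : q (f₁ (algebraMap T D' (Ideal.Quotient.mk _ (X i)))) = q (algebraMap R R' (r i)) := by
        show Ideal.Quotient.mk _ _ = Ideal.Quotient.mk _ _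
        rw [Ideal.Quotient.eq]
        show algebraMap R R' (τ' (algebraMap T D' (Ideal.Quotient.mk _ (X i)))) -
          algebraMap R R' (r i) ∈ _
        rw [← map_sub]
        apply Ideal.mem_map_of_mem
        rw [← Ideal.Quotient.eq]
        have := congrArg (fun g => g (algebraMap T D' (Ideal.Quotient.mk _ (X i)))) hτ'
        simp only [AlgHom.comp_apply] at this
        rw [Ideal.Quotient.mkₐ_eq_mk] at this
        rw [this, hσ₀]
        show MvPolynomial.aeval _ (X i) = _
        rw [MvPolynomial.aeval_X]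
      have h2 : q (ρ (πT (Ideal.Quotient.mk _ (X i)))) = q (algebraMap R R' (r i)) := by
        show Ideal.Quotient.mk _ _ = Ideal.Quotient.mk _ _
        rw [Ideal.Quotient.eq]
        have e : πT (Ideal.Quotient.mk _ (X i)) = π (X i) := rfl
        have hQi : π (X i) - algebraMap R D (r i) = π (Q i) := by
          have := hrel i
          rw [map_sub, map_sub, ← MvPolynomial.algebraMap_eq, π.commutes] at this
          linear_combination this
        have hQI : π (Q i) ∈ I.map (algebraMap R D) := by
          rw [← hπC, ← Ideal.map_map]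
          exact Ideal.mem_map_of_mem _ (hQ i)
        rw [e, ← ρ.commutes, ← map_sub, hQi]
        have := Ideal.mem_map_of_mem (ρ : D →+* R') hQI
        rw [Ideal.map_map] at this
        have hc : (ρ : D →+* R').comp (algebraMap R D) = algebraMap R R' := ρ.comp_algebraMap
        rw [hc] at this
        exact this
      rw [h1, h2]
    intro a
    have := congrArg (fun g => g a) hq
    simp only [AlgHom.comp_apply] at this
    rw [← Ideal.Quotient.eq]
    exact this
  obtain ⟨t, rfl⟩ := hπT d
  refine ⟨τ' (algebraMap T D' t), ?_⟩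
  rw [← hf₂, ← hf]
  rfl

end Groth.Agent.Lib.Helper15.Desc
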