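import Mathlib
import Groth.Agent.Lib.Helper15.Desc9
import Groth.Agent.Lib.Helper15.Desc11

/-!
# Sections of rig-unramified algebras over a henselian pair: from the completion to the ring
(helper15)
-/

set_option autoImplicit false
set_option linter.style.haveILetI false
set_option linter.unusedSectionVars false
set_option linter.style.longLine false

universe u

namespace Groth.Agent.Lib.Helper15.Desc

open TensorProduct Groth.Agent.Lib.Helper15.RigBC Groth.Agent.Lib.Helper12.HzPair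
  Groth.Agent.Lib.Helper15.HensAlg

theorem range_of_rigUnramified (R : Type u) [CommRing R] [IsNoetherianRing R] (𝔯 : Ideal R)
    [HenselianRing R 𝔯] (R' : Type u) [CommRing R'] [Algebra R R'] [IsNoetherianRing R']
    (hNE : NE 𝔯 R') [IsAdicComplete (𝔯.map (algebraMap R R')) R']
    (E : Type u) [CommRing E] [Algebra R E] [Algebra.FiniteType R E]
    (G : Set R) (hG : Ideal.span G = 𝔯)
    (hE : ∀ a ∈ G, Algebra.FormallyUnramified R (Localization.Away (algebraMap R E a)))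
    (σ : E →ₐ[R] R') (e₀ : E) : ∃ r : R, algebraMap R R' r = σ e₀ := by
  haveI : IsNoetherianRing E := Algebra.FiniteType.isNoetherianRing R E
  set 𝔢 : Ideal E := 𝔯.map (algebraMap R E) with h𝔢
  have h𝔢fg : 𝔢.FG := IsNoetherian.noetherian _
  set K' : Ideal R' := 𝔯.map (algebraMap R R') with hK'
  haveI : IsNoetherianRing (AdicCompletion 𝔢 E) :=
    Groth.Agent.Lib.Helper21.isNoetherianRing_adicCompletion_of_fg 𝔢 h𝔢fg
  haveI : IsScalarTower R E (AdicCompletion 𝔢 E) := IsScalarTower.of_algebraMap_eq (fun _ => rfl)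
  have hof : ∀ x : E, algebraMap E (AdicCompletion 𝔢 E) x = AdicCompletion.of 𝔢 E x := fun _ => rfl
  have hKE : 𝔢.map (algebraMap E (AdicCompletion 𝔢 E)) = 𝔯.map (algebraMap R (AdicCompletion 𝔢 E)) := by
    rw [h𝔢, Ideal.map_map, ← IsScalarTower.algebraMap_eq]
  have hKEpow : ∀ n : ℕ, (𝔢 ^ n).map (algebraMap E (AdicCompletion 𝔢 E)) =
      (𝔯 ^ n).map (algebraMap R (AdicCompletion 𝔢 E)) := by
    intro n
    rw [Ideal.map_pow, Ideal.map_pow, hKE]
  haveI hcE : IsAdicComplete (𝔢.map (algebraMap E (AdicCompletion 𝔢 E))) (AdicCompletion 𝔢 E) :=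
    AdicCompletion.isAdicComplete_self 𝔢 h𝔢fg
  have hradE : 𝔯.map (algebraMap R (AdicCompletion 𝔢 E)) ≤ Ideal.jacobson ⊥ := by
    rw [← hKE]; exact IsAdicComplete.le_jacobson_bot _
  -- the completed map
  have hσle : 𝔢.map (σ : E →+* R') ≤ K' := by
    rw [h𝔢, Ideal.map_map, σ.comp_algebraMap]
  obtain ⟨σh, hσh⟩ := exists_lift_completion 𝔢 K' (σ : E →+* R') hσle
  have hσhR : ∀ r : R, σh (algebraMap R (AdicCompletion 𝔢 E) r) = algebraMap R R' r := by
    intro r
    rw [IsScalarTower.algebraMap_apply R E (AdicCompletion 𝔢 E), hof, hσh]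
    exact σ.commutes r
  -- the section
  obtain ⟨eR, heR⟩ := exists_ringEquiv_completion 𝔯 (algebraMap R R') hNE.isDenseIso
  let τ : R' →+* AdicCompletion 𝔢 E :=
    (FSch.complMap 𝔯 𝔢 (algebraMap R E) le_rfl).comp (eR : R' →+* AdicCompletion 𝔯 R)
  have hτ : ∀ r, τ (algebraMap R R' r) = algebraMap R (AdicCompletion 𝔢 E) r := by
    intro r
    show FSch.complMap 𝔯 𝔢 (algebraMap R E) le_rfl (eR (algebraMap R R' r)) = _
    rw [heR, Groth.Agent.Lib.Helper14.complMap_of]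
    rfl
  have hστ : ∀ x, σh (τ x) = x := by
    haveI : IsHausdorff K' R' := IsAdicComplete.toIsHausdorff
    intro x
    exact endo_eq_id 𝔯 (fun n x => hNE.dense_pow n x) (σh.comp τ)
      (fun r => by rw [RingHom.comp_apply, hτ, hσhR]) x
  have hσsurj : Function.Surjective σh := fun x => ⟨τ x, hστ x⟩
  let θ : AdicCompletion 𝔢 E →ₐ[R] AdicCompletion 𝔢 E :=
    { (τ.comp σh) with
      commutes' := fun r => by
        show τ (σh (algebraMap R (AdicCompletion 𝔢 E) r)) = algebraMap R (AdicCompletion 𝔢 E) r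
        rw [hσhR, hτ] }
  have hθ : ∀ x, θ x = τ (σh x) := fun _ => rfl
  let ιE : E →ₐ[R] AdicCompletion 𝔢 E := IsScalarTower.toAlgHom R E (AdicCompletion 𝔢 E)
  let u : E ⊗[R] E →ₐ[R] AdicCompletion 𝔢 E :=
    Algebra.TensorProduct.lift (θ.comp ιE) ιE (fun _ _ => Commute.all _ _)
  set J₁ : Ideal (AdicCompletion 𝔢 E) :=
    (KaehlerDifferential.ideal R E).map (u : E ⊗[R] E →+* AdicCompletion 𝔢 E) with hJ₁
  obtain ⟨c, hc⟩ := exists_pow_mul_map_diag_le R E 𝔯 (IsNoetherian.noetherian 𝔯) G hG hE u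
  have hu : ∀ e : E, (u : E ⊗[R] E →+* AdicCompletion 𝔢 E) ((1 : E) ⊗ₜ[R] e - e ⊗ₜ[R] (1 : E)) =
      algebraMap E (AdicCompletion 𝔢 E) e - θ (algebraMap E (AdicCompletion 𝔢 E) e) := by
    intro e
    show u ((1 : E) ⊗ₜ[R] e - e ⊗ₜ[R] (1 : E)) = _
    rw [map_sub, Algebra.TensorProduct.lift_tmul, Algebra.TensorProduct.lift_tmul, map_one, map_one,
      one_mul, mul_one]
    rfl
  have hgen : ∀ e : E, algebraMap E (AdicCompletion 𝔢 E) e -
      θ (algebraMap E (AdicCompletion 𝔢 E) e) ∈ J₁ := by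
    intro e
    rw [← hu]
    exact Ideal.mem_map_of_mem _ (KaehlerDifferential.one_smul_sub_smul_one_mem_ideal R e)
  set J : Ideal (AdicCompletion 𝔢 E) := RingHom.ker σh with hJ
  have hJ₁le : J₁ ≤ J := by
    rw [hJ₁, Ideal.map_le_iff_le_comap, ← KaehlerDifferential.span_range_eq_ideal, Ideal.span_le]
    rintro _ ⟨e, rfl⟩
    rw [SetLike.mem_coe, Ideal.mem_comap, hu, hJ, RingHom.mem_ker, map_sub, hθ, hστ, sub_self]
  have hdenseE : ∀ (n : ℕ) (x : AdicCompletion 𝔢 E), ∃ e : E,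
      x - algebraMap E (AdicCompletion 𝔢 E) e ∈ (𝔯 ^ n).map (algebraMap R (AdicCompletion 𝔢 E)) := by
    intro n x
    obtain ⟨e, he⟩ := (isDenseIso_of 𝔢 h𝔢fg).dense n x
    exact ⟨e, by rw [← hKEpow]; exact he⟩
  have hJeq : J = J₁ := by
    apply le_antisymm _ hJ₁le
    intro x hx
    have h1 := sub_endo_mem_of_dense (E := E) 𝔯 hradE hdenseE θ J₁ hgen x
    have h2 : θ x = 0 := by
      rw [hθ, (RingHom.mem_ker).mp hx, map_zero]
    rwa [h2, sub_zero] at h1
  -- the henselization of `E` and the bridge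
  have hEhz : Hens2.IsPairHenselization E 𝔢 (Hz 𝔢) := Hz.isPairHenselization 𝔢
  haveI : IsNoetherianRing (Hz 𝔢) := isNoetherianRing_of_isPairHenselization 𝔢 (Hz 𝔢) hEhz
  haveI : HenselianRing (Hz 𝔢) (𝔢.map (algebraMap E (Hz 𝔢))) := hEhz.1
  obtain ⟨g, hg, hNEE⟩ := exists_bridge E 𝔢 (Hz 𝔢) hEhz
  letI := g.toAlgebra
  have hgalg : algebraMap (Hz 𝔢) (AdicCompletion 𝔢 E) = g := rfl
  set 𝔟 : Ideal (Hz 𝔢) := 𝔢.map (algebraMap E (Hz 𝔢)) with h𝔟
  have h𝔟g : 𝔟.map g = 𝔯.map (algebraMap R (AdicCompletion 𝔢 E)) := by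
    rw [h𝔟, Ideal.map_map, hg, hKE]
  have hrig : RigIdem 𝔟 J := by
    apply rigIdem_of_pow_mul_le 𝔟 J (IsNoetherian.noetherian J) c
    rw [hgalg, h𝔟g, hJeq, ← pow_two]
    exact hc
  have hdesc := descend' 𝔟 hNEE J hrig
  rw [hgalg] at hdesc
  set J₀ : Ideal (Hz 𝔢) := J.comap g with hJ₀
  obtain ⟨El, _, _, hN, φl, Jl, hJl⟩ := exists_ideal (Hz 𝔢) hEhz J₀
  haveI := hN.etale
  letI : Algebra R El := ((algebraMap E El).comp (algebraMap R E)).toAlgebra
  haveI : IsScalarTower R E El := IsScalarTower.of_algebraMap_eq (fun _ => rfl)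
  haveI : Algebra.FiniteType E El := inferInstance
  haveI : Algebra.FiniteType R El := Algebra.FiniteType.trans (S := E) inferInstance inferInstance
  obtain ⟨χ, hχ⟩ : ∃ χ : El →+* AdicCompletion 𝔢 E, χ = g.comp (φl : El →+* Hz 𝔢) := ⟨_, rfl⟩
  have hχalg : χ.comp (algebraMap E El) = algebraMap E (AdicCompletion 𝔢 E) := by
    rw [hχ, RingHom.comp_assoc, φl.comp_algebraMap, hg]
  have hχJ : Jl.map χ = J := by
    rw [hχ, ← Ideal.map_map, hJl, ← hdesc]
  have hχ𝔢 : (𝔢.map (algebraMap E El)).map χ = 𝔯.map (algebraMap R (AdicCompletion 𝔢 E)) := by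
    rw [Ideal.map_map, hχalg, hKE]
  have hχd : IsDenseIso (𝔢.map (algebraMap E El)) χ := by
    have h1 := isDenseIso_of_nbhd (Hz 𝔢) hEhz hN φl
    have h2 : (𝔢.map (algebraMap E El)).map (φl : El →+* Hz 𝔢) = 𝔟 := by
      rw [Ideal.map_map, φl.comp_algebraMap]
    have h3 : IsDenseIso ((𝔢.map (algebraMap E El)).map (φl : El →+* Hz 𝔢)) g := by
      rw [h2]; exact hNEE.isDenseIso
    rw [hχ]
    exact h1.comp h3
  -- the finite type algebra `D`
  have hρcomm : ∀ r : R, σh (χ (algebraMap R El r)) = algebraMap R R' r := by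
    intro r
    have : χ (algebraMap R El r) = algebraMap R (AdicCompletion 𝔢 E) r := by
      rw [IsScalarTower.algebraMap_apply R E El, ← RingHom.comp_apply, hχalg,
        ← IsScalarTower.algebraMap_apply]
    rw [this, hσhR]
  let ρl : El →ₐ[R] R' := { σh.comp χ with commutes' := hρcomm }
  have hρl : ∀ y, ρl y = σh (χ y) := fun _ => rfl
  have hρkill : ∀ a ∈ Jl, ρl a = 0 := by
    intro a ha
    rw [hρl]
    have : χ a ∈ J := by rw [← hχJ]; exact Ideal.mem_map_of_mem _ ha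
    exact this
  let ρD : El ⧸ Jl →ₐ[R] R' := Ideal.Quotient.liftₐ Jl ρl hρkill
  have hρD : ∀ y, ρD (Ideal.Quotient.mk Jl y) = σh (χ y) := fun _ => rfl
  haveI : Algebra.FiniteType R (El ⧸ Jl) :=
    Algebra.FiniteType.of_surjective (Ideal.Quotient.mkₐ R Jl) Ideal.Quotient.mk_surjective
  -- density
  have hdq := Groth.Agent.Lib.Helper15.HensAlg.IsDenseIso.quotient hχd Jl
  have hdenseD : ∀ d : El ⧸ Jl, ∃ r : R, d - algebraMap R (El ⧸ Jl) r ∈
      𝔯.map (algebraMap R (El ⧸ Jl)) := by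
    intro d
    obtain ⟨y, rfl⟩ := Ideal.Quotient.mk_surjective d
    obtain ⟨r, hr⟩ := hNE.dense (σh (χ y))
    refine ⟨r, ?_⟩
    set y' := y - algebraMap R El r with hy'
    have h1 : σh (χ y') ∈ K' := by
      rw [hy', map_sub, map_sub, hρcomm]; exact hr
    have h2 : K' = (𝔯.map (algebraMap R (AdicCompletion 𝔢 E))).map σh := by
      rw [Ideal.map_map]
      have : σh.comp (algebraMap R (AdicCompletion 𝔢 E)) = algebraMap R R' :=
        RingHom.ext fun r => hσhR r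
      rw [this]
    rw [h2, Ideal.mem_map_iff_of_surjective σh hσsurj] at h1
    obtain ⟨w, hw, hw'⟩ := h1
    have h3 : χ y' - w ∈ Jl.map χ := by
      rw [hχJ, hJ, RingHom.mem_ker, map_sub, hw', sub_self]
    have h4 : Ideal.quotientMap (Jl.map χ) χ Ideal.le_comap_map (Ideal.Quotient.mk Jl y') ∈
        (((𝔢.map (algebraMap E El)).map (Ideal.Quotient.mk Jl)) ^ 1).map
          (Ideal.quotientMap (Jl.map χ) χ Ideal.le_comap_map) := by
      rw [pow_one, Ideal.map_map]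
      have e1 : (Ideal.quotientMap (Jl.map χ) χ Ideal.le_comap_map).comp (Ideal.Quotient.mk Jl) =
          (Ideal.Quotient.mk (Jl.map χ)).comp χ := by
        apply RingHom.ext
        intro x
        rfl
      rw [e1, ← Ideal.map_map, hχ𝔢, Ideal.quotientMap_mk]
      have e2 : Ideal.Quotient.mk (Jl.map χ) (χ y') = Ideal.Quotient.mk (Jl.map χ) w := by
        rw [Ideal.Quotient.eq]; exact h3
      rw [e2]
      exact Ideal.mem_map_of_mem _ hw
    have h5 := hdq.closed 1 _ h4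
    rw [pow_one] at h5
    have h6 : (𝔢.map (algebraMap E El)).map (Ideal.Quotient.mk Jl) =
        𝔯.map (algebraMap R (El ⧸ Jl)) := by
      rw [h𝔢, Ideal.map_map, Ideal.map_map]
      rfl
    rw [h6] at h5
    have e3 : Ideal.Quotient.mk Jl y - algebraMap R (El ⧸ Jl) r = Ideal.Quotient.mk Jl y' := by
      rw [hy', map_sub]
      rfl
    rw [e3]
    exact h5
  -- conclusion
  obtain ⟨r, hr⟩ := range_of_dense 𝔯 R' hNE.algebraMap_injective hNE.rad (El ⧸ Jl) hdenseD ρD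
    (Ideal.Quotient.mk Jl (algebraMap E El e₀))
  refine ⟨r, ?_⟩
  rw [hr, hρD]
  have : χ (algebraMap E El e₀) = algebraMap E (AdicCompletion 𝔢 E) e₀ := by
    rw [← RingHom.comp_apply, hχalg]
  rw [this, hof, hσh]
  rfl

end Groth.Agent.Lib.Helper15.Desc
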