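import Mathlib
import Groth.Agent.Lib.Helper15.Desc12

/-!
# Algebraization of maps between completions into the henselization (helper15)
-/

set_option autoImplicit false
set_option linter.style.haveILetI false
set_option linter.unusedSectionVars false
set_option linter.style.longLine false

universe u

namespace Groth.Agent.Lib.Helper15.Desc

open TensorProduct Groth.Agent.Lib.Helper15.RigBC Groth.Agent.Lib.Helper12.HzPair
  Groth.Agent.Lib.Helper15.HensAlg

theorem unramified_away_baseChange (A B Ch : Type u) [CommRing A] [CommRing B] [CommRing Ch]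
    [Algebra A B] [Algebra A Ch] (a : A)
    [Algebra.FormallyUnramified A (Localization.Away (algebraMap A B a))] :
    Algebra.FormallyUnramified Ch
      (Localization.Away (algebraMap Ch (Ch ⊗[A] B) (algebraMap A Ch a))) := by
  have key : ∀ x : Ch ⊗[A] B, x = (1 : Ch) ⊗ₜ[A] (algebraMap A B a) →
      Algebra.FormallyUnramified Ch (Localization.Away x) := by
    rintro _ rfl
    exact Algebra.FormallyUnramified.of_equiv
      (IsLocalization.Away.tensorProductEquivTMulRight A Ch (algebraMap A B a)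
        (Localization.Away (algebraMap A B a)))
  apply key
  rw [Algebra.TensorProduct.algebraMap_apply, Algebra.algebraMap_self, RingHom.id_apply,
    Algebra.algebraMap_eq_smul_one, Algebra.algebraMap_eq_smul_one, TensorProduct.smul_tmul]

theorem eval_bridge {C : Type u} [CommRing C] [IsNoetherianRing C] (𝔠 : Ideal C) (Ch : Type u)
    [CommRing Ch] [Algebra C Ch] (gC : Ch →+* AdicCompletion 𝔠 C)
    (hgC : gC.comp (algebraMap C Ch) = algebraMap C (AdicCompletion 𝔠 C))
    (n : ℕ) (r : Ch) (c : C) (h : r - algebraMap C Ch c ∈ (𝔠.map (algebraMap C Ch)) ^ n) :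
    AdicCompletion.eval 𝔠 C n (gC r) = Submodule.Quotient.mk c := by
  have h𝔠fg : 𝔠.FG := IsNoetherian.noetherian _
  have h1 : gC (r - algebraMap C Ch c) ∈ (𝔠.map (algebraMap C (AdicCompletion 𝔠 C))) ^ n := by
    have := Ideal.mem_map_of_mem gC h
    rwa [Ideal.map_pow, Ideal.map_map, hgC] at this
  rw [Groth.Agent.Lib.Helper18.CplQuot.mem_map_pow_iff_evalₐ 𝔠 h𝔠fg,
    Groth.Agent.Lib.Helper18.CplQuot.evalₐ_eq_zero_iff] at h1
  have h0 : gC (algebraMap C Ch c) = AdicCompletion.of 𝔠 C c := by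
    rw [← RingHom.comp_apply, hgC]; rfl
  have h2 : gC r = gC (r - algebraMap C Ch c) + AdicCompletion.of 𝔠 C c := by
    rw [map_sub, h0]; ring
  rw [h2, map_add, h1, zero_add]
  rfl

theorem core8826 (A : Type u) [CommRing A] [IsNoetherianRing A] (I : Ideal A) (B : Type u)
    [CommRing B] [Algebra A B] [Algebra.FiniteType A B]
    (hB : ∀ a ∈ I, Algebra.Etale A (Localization.Away (algebraMap A B a)))
    (C : Type u) [CommRing C] [Algebra A C] [IsNoetherianRing C] (Ch : Type u) [CommRing Ch]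
    [Algebra C Ch] [Algebra A Ch] [IsScalarTower A C Ch]
    (𝔟 : Ideal B) (𝔠 : Ideal C) (h𝔠 : 𝔠 = I.map (algebraMap A C))
    (hCh : Hens2.IsPairHenselization C 𝔠 Ch)
    (φ : AdicCompletion 𝔟 B →ₐ[A] AdicCompletion 𝔠 C) :
    ∃! ψ : B →ₐ[A] Ch, ∀ (n : ℕ) (b : B), ∃ c : C,
      ψ b - algebraMap C Ch c ∈ (I.map (algebraMap A Ch)) ^ n ∧
      AdicCompletion.eval 𝔠 C n (φ (AdicCompletion.of 𝔟 B b)) = Submodule.Quotient.mk c := by
  have h𝔠fg : 𝔠.FG := IsNoetherian.noetherian _
  obtain ⟨gC, hgC, hNEC⟩ := exists_bridge C 𝔠 Ch hCh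
  letI algChCc : Algebra Ch (AdicCompletion 𝔠 C) := gC.toAlgebra
  have hgalg : algebraMap Ch (AdicCompletion 𝔠 C) = gC := rfl
  haveI : IsNoetherianRing Ch := isNoetherianRing_of_isPairHenselization 𝔠 Ch hCh
  haveI : HenselianRing Ch (𝔠.map (algebraMap C Ch)) := hCh.1
  haveI : IsNoetherianRing (AdicCompletion 𝔠 C) :=
    Groth.Agent.Lib.Helper21.isNoetherianRing_adicCompletion_of_fg 𝔠 h𝔠fg
  have h𝔯I : 𝔠.map (algebraMap C Ch) = I.map (algebraMap A Ch) := by
    rw [h𝔠, Ideal.map_map, ← IsScalarTower.algebraMap_eq]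
  have h𝔯g : (𝔠.map (algebraMap C Ch)).map (algebraMap Ch (AdicCompletion 𝔠 C)) =
      𝔠.map (algebraMap C (AdicCompletion 𝔠 C)) := by
    rw [Ideal.map_map, hgalg, hgC]
  haveI : IsAdicComplete ((𝔠.map (algebraMap C Ch)).map (algebraMap Ch (AdicCompletion 𝔠 C)))
      (AdicCompletion 𝔠 C) := by
    rw [h𝔯g]; exact AdicCompletion.isAdicComplete_self 𝔠 h𝔠fg
  haveI : IsScalarTower A Ch (AdicCompletion 𝔠 C) := IsScalarTower.of_algebraMap_eq (fun a => by
    rw [IsScalarTower.algebraMap_apply A C Ch, hgalg, ← RingHom.comp_apply, hgC]; rfl)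
  haveI : IsScalarTower A B (AdicCompletion 𝔟 B) := IsScalarTower.of_algebraMap_eq (fun _ => rfl)
  let ιB : B →ₐ[A] AdicCompletion 𝔟 B := IsScalarTower.toAlgHom A B (AdicCompletion 𝔟 B)
  have hιB : ∀ b, ιB b = AdicCompletion.of 𝔟 B b := fun _ => rfl
  let σ : Ch ⊗[A] B →ₐ[Ch] AdicCompletion 𝔠 C :=
    Algebra.TensorProduct.lift (Algebra.ofId Ch (AdicCompletion 𝔠 C)) (φ.comp ιB)
      (fun _ _ => Commute.all _ _)
  have hσ : ∀ b : B, σ ((1 : Ch) ⊗ₜ[A] b) = φ (ιB b) := by
    intro b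
    show Algebra.TensorProduct.lift (Algebra.ofId Ch (AdicCompletion 𝔠 C)) (φ.comp ιB)
      (fun _ _ => Commute.all _ _) ((1 : Ch) ⊗ₜ[A] b) = _
    rw [Algebra.TensorProduct.lift_tmul, map_one, one_mul]
    rfl
  have hG : Ideal.span ((algebraMap A Ch) '' (I : Set A)) = 𝔠.map (algebraMap C Ch) := by
    rw [h𝔯I]; rfl
  have hE : ∀ a' ∈ (algebraMap A Ch) '' (I : Set A), Algebra.FormallyUnramified Ch
      (Localization.Away (algebraMap Ch (Ch ⊗[A] B) a')) := by
    rintro _ ⟨a, ha, rfl⟩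
    haveI := hB a ha
    exact unramified_away_baseChange A B Ch a
  have hex : ∀ b : B, ∃ r : Ch, gC r = φ (ιB b) := by
    intro b
    obtain ⟨r, hr⟩ := range_of_rigUnramified Ch (𝔠.map (algebraMap C Ch)) (AdicCompletion 𝔠 C) hNEC
      (Ch ⊗[A] B) _ hG hE σ ((1 : Ch) ⊗ₜ[A] b)
    exact ⟨r, hr.trans (hσ b)⟩
  have hinj : Function.Injective gC := hNEC.algebraMap_injective
  choose f hf using hex
  have hcomm : ∀ a : A, gC (algebraMap A Ch a) = algebraMap A (AdicCompletion 𝔠 C) a := by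
    intro a
    rw [IsScalarTower.algebraMap_apply A Ch (AdicCompletion 𝔠 C)]
    rfl
  let ψ : B →ₐ[A] Ch :=
    { toFun := f
      map_one' := hinj (by rw [hf, map_one, map_one, map_one])
      map_mul' := fun x y => hinj (by rw [hf, map_mul, map_mul, map_mul, hf, hf])
      map_zero' := hinj (by rw [hf, map_zero, map_zero, map_zero])
      map_add' := fun x y => hinj (by rw [hf, map_add, map_add, map_add, hf, hf])
      commutes' := fun a => hinj (by rw [hf, hcomm, AlgHom.commutes, AlgHom.commutes]) }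
  have hψ : ∀ b, gC (ψ b) = φ (ιB b) := hf
  have hd := isDenseIso_of_isPairHenselization 𝔠 hCh
  refine ⟨ψ, ?_, ?_⟩
  · intro n b
    obtain ⟨c, hc⟩ := hd.dense n (ψ b)
    rw [Ideal.map_pow] at hc
    refine ⟨c, by rw [← h𝔯I]; exact hc, ?_⟩
    rw [← hιB, ← hψ]
    exact eval_bridge 𝔠 Ch gC hgC n (ψ b) c hc
  · intro ψ' hψ'
    apply AlgHom.ext
    intro b
    apply hinj
    rw [hψ]
    apply AdicCompletion.ext
    intro n
    obtain ⟨c, hc, hc'⟩ := hψ' n b
    rw [← h𝔯I] at hc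
    show AdicCompletion.eval 𝔠 C n (gC (ψ' b)) = AdicCompletion.eval 𝔠 C n (φ (ιB b))
    rw [eval_bridge 𝔠 Ch gC hgC n (ψ' b) c hc, hιB, hc']

theorem main8826 (A : Type u) [CommRing A] [IsNoetherianRing A] (I : Ideal A) (B : Type u)
    [CommRing B] [Algebra A B] [Algebra.FiniteType A B]
    (hB : ∀ a ∈ I, Algebra.Etale A (Localization.Away (algebraMap A B a)))
    (C : Type u) [CommRing C] [Algebra A C] [IsNoetherianRing C] (Ch : Type u) [CommRing Ch]
    [Algebra C Ch] [Algebra A Ch] [IsScalarTower A C Ch]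
    (hCh : Hens2.IsPairHenselization C (I.map (algebraMap A C)) Ch)
    (φ : (AdicCompletion (I.map (algebraMap A B)) B) →ₐ[A]
      (AdicCompletion (I.map (algebraMap A C)) C)) :
    ∃! ψ : B →ₐ[A] Ch, ∀ (n : ℕ) (b : B), ∃ c : C,
      ψ b - algebraMap C Ch c ∈ (I.map (algebraMap A Ch)) ^ n ∧
      AdicCompletion.eval (I.map (algebraMap A C)) C n
        (φ (AdicCompletion.of (I.map (algebraMap A B)) B b)) = Submodule.Quotient.mk c :=
  core8826 A I B hB C Ch _ _ rfl hCh φ

end Groth.Agent.Lib.Helper15.Desc
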