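import Mathlib

/-!
# The generic determinant is irreducible (helper15)
-/

set_option autoImplicit false

open MvPolynomial
universe u

namespace Groth.Agent.Lib.Helper15.DetIrr

variable (k : Type u) [Field k] (n : ℕ)

/-- the generic determinant -/
noncomputable abbrev gdet : MvPolynomial (Fin n × Fin n) k := (Matrix.mvPolynomialX (Fin n) (Fin n) k).det

theorem permMonomial_apply (τ : Equiv.Perm (Fin n)) (a b : Fin n) :
    (∑ i, Finsupp.single (τ i, i) 1 : Fin n × Fin n →₀ ℕ) (a, b) = if τ b = a then 1 else 0 := by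
  rw [Finsupp.finsetSum_apply, Finset.sum_eq_single b]
  · by_cases h : τ b = a
    · simp [h]
    · rw [if_neg h, Finsupp.single_apply, if_neg]
      intro h'
      exact h (Prod.ext_iff.mp h').1
  · intro i _ hi
    rw [Finsupp.single_apply, if_neg]
    intro h'
    exact hi (Prod.ext_iff.mp h').2
  · intro h; exact absurd (Finset.mem_univ b) h

theorem support_det (m : Fin n × Fin n →₀ ℕ) (hm : m ∈ (gdet k n).support) :
    ∃ τ : Equiv.Perm (Fin n), m = ∑ i, Finsupp.single (τ i, i) 1 := by
  classical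
  unfold gdet at hm
  rw [Matrix.det_apply] at hm
  have h1 := MvPolynomial.support_sum hm
  rw [Finset.mem_biUnion] at h1
  obtain ⟨τ, -, hτ⟩ := h1
  refine ⟨τ, ?_⟩
  have h2 := MvPolynomial.support_smul hτ
  have h3 : (∏ i, Matrix.mvPolynomialX (Fin n) (Fin n) k (τ i) i) =
      monomial (∑ i, Finsupp.single (τ i, i) 1) 1 := by
    rw [MvPolynomial.monomial_sum_one]
    rfl
  rw [h3] at h2
  have h4 := MvPolynomial.support_monomial_subset h2
  exact Finset.mem_singleton.mp h4

theorem support_le_one (m : Fin n × Fin n →₀ ℕ) (hm : m ∈ (gdet k n).support) (p : Fin n × Fin n) :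
    m p ≤ 1 := by
  obtain ⟨τ, rfl⟩ := support_det k n m hm
  obtain ⟨a, b⟩ := p
  rw [permMonomial_apply]
  split_ifs <;> simp

theorem support_disjoint (m : Fin n × Fin n →₀ ℕ) (hm : m ∈ (gdet k n).support) (p q : Fin n × Fin n)
    (hpq : p ≠ q) (hrc : p.1 = q.1 ∨ p.2 = q.2) (hp : m p ≠ 0) : m q = 0 := by
  obtain ⟨τ, rfl⟩ := support_det k n m hm
  obtain ⟨a, b⟩ := p
  obtain ⟨a', b'⟩ := q
  rw [permMonomial_apply] at hp ⊢
  have hτ : τ b = a := by
    by_contra h
    rw [if_neg h] at hp
    exact hp rfl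
  rw [if_neg]
  intro h'
  rcases hrc with h | h
  · simp only at h
    subst h
    have : b' = b := τ.injective (h'.trans hτ.symm)
    subst this
    exact hpq rfl
  · simp only at h
    subst h
    have : a = a' := hτ.symm.trans h'
    subst this
    exact hpq rfl

theorem degreeOf_det_le (p : Fin n × Fin n) : degreeOf p (gdet k n) ≤ 1 := by
  rw [degreeOf_le_iff]
  exact fun m hm => support_le_one k n m hm p

theorem support_pderiv (p : Fin n × Fin n) (m' : Fin n × Fin n →₀ ℕ)
    (hm' : m' ∈ (pderiv p (gdet k n)).support) :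
    ∃ m ∈ (gdet k n).support, m p ≠ 0 ∧ m' = m - Finsupp.single p 1 := by
  classical
  rw [← MvPolynomial.support_sum_monomial_coeff (gdet k n), map_sum] at hm'
  have h1 := MvPolynomial.support_sum hm'
  rw [Finset.mem_biUnion] at h1
  obtain ⟨m, hm, h2⟩ := h1
  rw [pderiv_monomial] at h2
  refine ⟨m, hm, ?_, ?_⟩
  · intro h0
    rw [h0, Nat.cast_zero, mul_zero, monomial_zero] at h2
    simp at h2
  · have h4 := MvPolynomial.support_monomial_subset h2
    exact Finset.mem_singleton.mp h4

theorem degreeOf_pderiv_det (p q : Fin n × Fin n) (hrc : p.1 = q.1 ∨ p.2 = q.2) :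
    degreeOf q (pderiv p (gdet k n)) = 0 := by
  rw [← Nat.le_zero, degreeOf_le_iff]
  intro m' hm'
  obtain ⟨m, hm, hmp, rfl⟩ := support_pderiv k n p m' hm'
  by_cases hpq : p = q
  · subst hpq
    have := support_le_one k n m hm p
    simp only [Finsupp.coe_tsub, Pi.sub_apply, Finsupp.single_eq_same]
    omega
  · have := support_disjoint k n m hm p q hpq hrc hmp
    simp only [Finsupp.coe_tsub, Pi.sub_apply, this]
    omega



theorem eval_gdet (x : Fin n × Fin n → k) :
    eval x (gdet k n) = (Matrix.of fun i j => x (i, j)).det := by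
  unfold gdet
  rw [RingHom.map_det]
  congr 1
  ext i j
  simp [Matrix.mvPolynomialX_apply]

theorem degreeOf_gdet_ne_zero (p : Fin n × Fin n) : degreeOf p (gdet k n) ≠ 0 := by
  classical
  intro h0
  obtain ⟨a, b⟩ := p
  have hvars : (a, b) ∉ (gdet k n).vars := by
    rw [mem_vars_iff_degreeOf_ne_zero]; exact not_not.mpr h0
  let τ : Equiv.Perm (Fin n) := Equiv.swap a b
  let x₁ : Fin n × Fin n → k := fun q => if τ q.1 = q.2 then 1 else 0
  let x₀ : Fin n × Fin n → k := Function.update x₁ (a, b) 0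
  have h1 : eval x₀ (gdet k n) = eval x₁ (gdet k n) := by
    apply hom_congr_vars
    · ext c; simp
    · intro q hq _
      have : q ≠ (a, b) := fun h => hvars (h ▸ hq)
      simp [x₀, Function.update_of_ne this]
    · rfl
  have h2 : eval x₁ (gdet k n) = ((Equiv.Perm.sign τ : ℤ) : k) := by
    rw [eval_gdet, ← Matrix.det_permutation (R := k) τ]
    congr 1
    ext i j
    simp [x₁, Equiv.Perm.permMatrix, PEquiv.toMatrix_apply, Equiv.toPEquiv_apply]
  have h3 : eval x₀ (gdet k n) = 0 := by
    rw [eval_gdet]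
    apply Matrix.det_eq_zero_of_row_eq_zero a
    intro j
    by_cases hj : j = b
    · subst hj
      simp [x₀]
    · have : (a, j) ≠ (a, b) := fun h => hj (Prod.ext_iff.mp h).2
      simp only [Matrix.of_apply, x₀, Function.update_of_ne this, x₁]
      rw [if_neg]
      simp only [τ, Equiv.swap_apply_left]
      exact fun h => hj h.symm
  rw [h1, h2] at h3
  rcases Int.units_eq_one_or (Equiv.Perm.sign τ) with h | h <;> simp [h] at h3



theorem pderiv_gdet_ne_zero (p : Fin n × Fin n) : pderiv p (gdet k n) ≠ 0 := by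
  classical
  have h0 := degreeOf_gdet_ne_zero k n p
  have : p ∈ (gdet k n).vars := mem_vars_iff_degreeOf_ne_zero.mpr h0
  rw [mem_vars_iff_mem_support] at this
  obtain ⟨m, hm, hmp⟩ := this
  have hmp' : m p ≠ 0 := Finsupp.mem_support_iff.mp hmp
  have h1 : m p = 1 := le_antisymm (support_le_one k n m hm p) (Nat.one_le_iff_ne_zero.mpr hmp')
  intro h
  have h2 := coeff_pderiv (i := p) (gdet k n) (m - Finsupp.single p 1)
  rw [h, coeff_zero] at h2
  have h3 : m - Finsupp.single p 1 + Finsupp.single p 1 = m := by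
    ext q
    by_cases hq : q = p
    · subst hq; simp [h1]
    · simp [Finsupp.single_apply, Ne.symm hq]
  rw [h3] at h2
  have h4 : (m - Finsupp.single p 1 : Fin n × Fin n →₀ ℕ) p = 0 := by
    simp [h1]
  rw [h4, Nat.cast_zero, zero_add, mul_one] at h2
  exact (mem_support_iff.mp hm) h2.symm

theorem key (f g : MvPolynomial (Fin n × Fin n) k) (hfg : gdet k n = f * g)
    (p q : Fin n × Fin n) (hp : degreeOf p g = 0) (hq : degreeOf q g ≠ 0)
    (hrc : p.1 = q.1 ∨ p.2 = q.2) : False := by
  have hpg : pderiv p g = 0 := by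
    apply pderiv_eq_zero_of_notMem_vars
    rw [mem_vars_iff_degreeOf_ne_zero]; exact not_not.mpr hp
  have h1 : pderiv p (gdet k n) = pderiv p f * g := by
    rw [hfg, pderiv_mul, hpg, mul_zero, add_zero]
  have h2 := pderiv_gdet_ne_zero k n p
  rw [h1] at h2
  have hf' : pderiv p f ≠ 0 := left_ne_zero_of_mul h2
  have hg0 : g ≠ 0 := right_ne_zero_of_mul h2
  have h3 := degreeOf_pderiv_det k n p q hrc
  rw [h1, degreeOf_mul_eq hf' hg0] at h3
  omega

theorem irreducible_gdet (hn : 1 ≤ n) : Irreducible (gdet k n) := by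
  classical
  have hD0 : gdet k n ≠ 0 := fun h =>
    degreeOf_gdet_ne_zero k n (⟨0, hn⟩, ⟨0, hn⟩) (by rw [h, degreeOf_zero])
  have hdeg : ∀ p, degreeOf p (gdet k n) = 1 := fun p =>
    le_antisymm (degreeOf_det_le k n p) (Nat.one_le_iff_ne_zero.mpr (degreeOf_gdet_ne_zero k n p))
  have hconst : ∀ g : MvPolynomial (Fin n × Fin n) k, g ≠ 0 → (∀ q, degreeOf q g = 0) → IsUnit g := by
    intro g hg0 hg
    have hv : g.vars = ∅ := by
      apply Finset.eq_empty_of_forall_notMem
      intro q
      rw [mem_vars_iff_degreeOf_ne_zero]; exact not_not.mpr (hg q)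
    have : g ∈ supported k (∅ : Set (Fin n × Fin n)) := by
      rw [mem_supported, hv]; simp
    rw [supported_empty, Algebra.mem_bot] at this
    obtain ⟨c, rfl⟩ := this
    have hc : c ≠ 0 := by
      rintro rfl
      exact hg0 (map_zero _)
    exact (isUnit_iff_ne_zero.mpr hc).map _
  constructor
  · intro hu
    obtain ⟨E, hE⟩ := hu.exists_right_inv
    have hE0 : E ≠ 0 := by
      rintro rfl
      rw [mul_zero] at hE
      exact zero_ne_one hE
    have := degreeOf_mul_eq (n := ((⟨0, hn⟩, ⟨0, hn⟩) : Fin n × Fin n)) hD0 hE0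
    rw [hE, degreeOf_one, hdeg] at this
    omega
  · intro f g hfg
    have hf0 : f ≠ 0 := by
      rintro rfl
      rw [zero_mul] at hfg
      exact hD0 hfg
    have hg0 : g ≠ 0 := by
      rintro rfl
      rw [mul_zero] at hfg
      exact hD0 hfg
    have hsum : ∀ p, degreeOf p f + degreeOf p g = 1 := fun p => by
      rw [← degreeOf_mul_eq hf0 hg0, ← hfg, hdeg]
    by_cases hg : ∀ q, degreeOf q g = 0
    · exact Or.inr (hconst g hg0 hg)
    by_cases hf : ∀ q, degreeOf q f = 0
    · exact Or.inl (hconst f hf0 hf)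
    exfalso
    push Not at hg hf
    obtain ⟨⟨a', b'⟩, hq₀⟩ := hg
    obtain ⟨⟨a, b⟩, hp₀⟩ := hf
    by_cases hr : degreeOf (a, b') g = 0
    · exact key k n f g hfg (a, b') (a', b') hr hq₀ (Or.inr rfl)
    · have hr' : degreeOf (a, b') f = 0 := by
        have := hsum (a, b')
        omega
      exact key k n g f (by rw [hfg, mul_comm]) (a, b') (a, b) hr' hp₀ (Or.inl rfl)

end Groth.Agent.Lib.Helper15.DetIrr
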