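import Mathlib
import Groth.Prelude.Def_PolLaw2

set_option autoImplicit false
universe u
open scoped TensorProduct

namespace Groth.Agent.Lib.Helper15.DetNormal1

variable {A : Type u} [CommRing A] {B : Type u} [CommRing B] [Algebra A B]
  (M : Type u) [AddCommGroup M] [Module A M] [Module B M] [IsScalarTower A B M]

section nat

variable {R R' : Type u} [CommRing R] [Algebra A R] [CommRing R'] [Algebra A R']

/-- **naturality of the determinant of the action** when `R ⊗ M` is free over `R` -/
theorem detAct_map' [Module.Free R (R ⊗[A] M)] [Module.Finite R (R ⊗[A] M)]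
    (ψ : R →ₐ[A] R') (x : R ⊗[A] B) :
    PolLaw.detAct M R' (Algebra.TensorProduct.map ψ (AlgHom.id A B) x) =
      ψ (PolLaw.detAct M R x) := by
  letI : Algebra R R' := ψ.toRingHom.toAlgebra
  haveI : IsScalarTower A R R' := IsScalarTower.of_algebraMap_eq (fun a => (ψ.commutes a).symm)
  let e := TensorProduct.AlgebraTensorModule.cancelBaseChange A R R' R' M
  have hpt : ∀ y : R' ⊗[R] (R ⊗[A] M),
      PolLaw.actEnd M R' (Algebra.TensorProduct.map ψ (AlgHom.id A B) x) (e y) =
        e ((PolLaw.actEnd M R x).baseChange R' y) := by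
    intro y
    induction y using TensorProduct.induction_on with
    | zero => simp
    | tmul r' n =>
      rw [LinearMap.baseChange_tmul]
      induction n using TensorProduct.induction_on with
      | zero => simp
      | tmul r m =>
        induction x using TensorProduct.induction_on with
        | zero => simp
        | tmul s b =>
          rw [Algebra.TensorProduct.map_tmul, PolLaw.actEnd_tmul_tmul,
            TensorProduct.AlgebraTensorModule.cancelBaseChange_tmul,
            TensorProduct.AlgebraTensorModule.cancelBaseChange_tmul, PolLaw.actEnd_tmul_tmul,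
            AlgHom.id_apply]
          congr 1
          show ψ s * (ψ r * r') = ψ (s * r) * r'
          rw [map_mul, mul_assoc]
        | add x y hx hy =>
          rw [map_add, map_add, LinearMap.add_apply, hx, hy, map_add, LinearMap.add_apply,
            TensorProduct.tmul_add, map_add]
      | add n n' hn hn' =>
        rw [TensorProduct.tmul_add, map_add, map_add, hn, hn', map_add, TensorProduct.tmul_add,
          map_add]
    | add y y' hy hy' => rw [map_add, map_add, map_add, map_add, hy, hy']
  have hconj : PolLaw.actEnd M R' (Algebra.TensorProduct.map ψ (AlgHom.id A B) x) =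
      (e : R' ⊗[R] (R ⊗[A] M) →ₗ[R'] R' ⊗[A] M) ∘ₗ ((PolLaw.actEnd M R x).baseChange R') ∘ₗ
        (e.symm : R' ⊗[A] M →ₗ[R'] R' ⊗[R] (R ⊗[A] M)) := by
    apply LinearMap.ext
    intro w
    rw [LinearMap.comp_apply, LinearMap.comp_apply, LinearEquiv.coe_coe, LinearEquiv.coe_coe,
      ← hpt, LinearEquiv.apply_symm_apply]
  unfold PolLaw.detAct
  rw [hconj, LinearMap.det_conj, LinearMap.det_baseChange]
  rfl

end nat

theorem detAct_smul' (R : Type u) [CommRing R] [Algebra A R] [Module.Free R (R ⊗[A] M)]
    (r : R) (x : R ⊗[A] B) :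
    PolLaw.detAct M R (r • x) = r ^ Module.finrank R (R ⊗[A] M) * PolLaw.detAct M R x := by
  unfold PolLaw.detAct
  rw [map_smul, LinearMap.det_smul]

section free

theorem free_of_field (K : Type u) [Field K] [Algebra A K] (R : Type u) [CommRing R] [Algebra A R]
    [Algebra K R] [IsScalarTower A K R] : Module.Free R (R ⊗[A] M) :=
  Module.Free.of_equiv (TensorProduct.AlgebraTensorModule.cancelBaseChange A K R R M)

theorem finrank_of_field (K : Type u) [Field K] [Algebra A K] (R : Type u) [CommRing R]
    [Algebra A R] [Algebra K R] [IsScalarTower A K R] [Nontrivial R] :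
    Module.finrank R (R ⊗[A] M) = Module.finrank K (K ⊗[A] M) := by
  rw [← LinearEquiv.finrank_eq (TensorProduct.AlgebraTensorModule.cancelBaseChange A K R R M),
    Module.finrank_baseChange]

end free

section law

variable (K : Type u) [Field K] [Algebra A K] [Module.Finite A M]

/-- `S ⊗ B → (K ⊗ S) ⊗ B` -/
noncomputable def toR (S : Type u) [CommSemiring S] [Algebra A S] :
    S ⊗[A] B →ₐ[A] (K ⊗[A] S) ⊗[A] B :=
  Algebra.TensorProduct.map (Algebra.TensorProduct.includeRight : S →ₐ[A] K ⊗[A] S)
    (AlgHom.id A B)

theorem toR_tmul (S : Type u) [CommSemiring S] [Algebra A S] (s : S) (b : B) :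
    toR (A := A) (B := B) K S (s ⊗ₜ[A] b) = ((1 : K) ⊗ₜ[A] s) ⊗ₜ[A] b := rfl

theorem toR_nat {S S' : Type u} [CommSemiring S] [Algebra A S] [CommSemiring S'] [Algebra A S']
    (φ : S →ₐ[A] S') (z : S ⊗[A] B) :
    Algebra.TensorProduct.map (Algebra.TensorProduct.map (AlgHom.id A K) φ) (AlgHom.id A B)
      (toR (A := A) (B := B) K S z) = toR (A := A) (B := B) K S' (φ.toLinearMap.rTensor B z) := by
  induction z using TensorProduct.induction_on with
  | zero => simp
  | tmul s b =>
    rw [toR_tmul, LinearMap.rTensor_tmul, toR_tmul, Algebra.TensorProduct.map_tmul,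
      Algebra.TensorProduct.map_tmul]
    rfl
  | add x y hx hy => rw [map_add, map_add, map_add, map_add, hx, hy]

theorem toR_smul (S : Type u) [CommSemiring S] [Algebra A S] (s : S) (z : S ⊗[A] B) :
    toR (A := A) (B := B) K S (s • z) = ((1 : K) ⊗ₜ[A] s) • toR (A := A) (B := B) K S z := by
  induction z using TensorProduct.induction_on with
  | zero => simp
  | tmul t b =>
    rw [TensorProduct.smul_tmul', toR_tmul, toR_tmul, TensorProduct.smul_tmul', smul_eq_mul,
      smul_eq_mul, Algebra.TensorProduct.tmul_mul_tmul, one_mul]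
  | add x y hx hy => rw [smul_add, map_add, map_add, smul_add, hx, hy]

/-- member of the determinant law with values in `K` -/
noncomputable def gfun (S : Type u) [CommSemiring S] [Algebra A S] (z : S ⊗[A] B) : S ⊗[A] K :=
  Algebra.TensorProduct.comm A K S (PolLaw.detAct M (K ⊗[A] S) (toR (A := A) (B := B) K S z))

theorem comm_nat {S S' : Type u} [CommSemiring S] [Algebra A S] [CommSemiring S'] [Algebra A S']
    (φ : S →ₐ[A] S') (w : K ⊗[A] S) :
    φ.toLinearMap.rTensor K (Algebra.TensorProduct.comm A K S w) =
      Algebra.TensorProduct.comm A K S' (Algebra.TensorProduct.map (AlgHom.id A K) φ w) := by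
  induction w using TensorProduct.induction_on with
  | zero => simp
  | tmul c s => rfl
  | add x y hx hy => rw [map_add, map_add, map_add, map_add, hx, hy]

theorem gfun_compat {S S' : Type u} [CommSemiring S] [Algebra A S] [CommSemiring S'] [Algebra A S']
    (φ : S →ₐ[A] S') (z : S ⊗[A] B) :
    φ.toLinearMap.rTensor K (gfun M K S z) = gfun M K S' (φ.toLinearMap.rTensor B z) := by
  haveI : Module.Free (K ⊗[A] S) ((K ⊗[A] S) ⊗[A] M) := free_of_field (A := A) M K (K ⊗[A] S)
  unfold gfun
  rw [comm_nat, ← toR_nat, detAct_map']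

/-- the determinant law with values in `K` as a bare law -/
noncomputable def glaw : B →ₚₗ[A] K where
  toFun' S _ _ := gfun M K S
  isCompat' φ := funext (gfun_compat M K φ)

theorem gfun_one (S : Type u) [CommSemiring S] [Algebra A S] : gfun M K S (1 : S ⊗[A] B) = 1 := by
  unfold gfun
  rw [map_one, PolLaw.detAct_one, map_one]

theorem gfun_mul (S : Type u) [CommSemiring S] [Algebra A S] (x y : S ⊗[A] B) :
    gfun M K S (x * y) = gfun M K S x * gfun M K S y := by
  unfold gfun
  rw [map_mul, PolLaw.detAct_mul, map_mul]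

theorem gfun_smul (S : Type u) [CommSemiring S] [Algebra A S] (s : S) (z : S ⊗[A] B) :
    gfun M K S (s • z) = s ^ Module.finrank K (K ⊗[A] M) • gfun M K S z := by
  rcases subsingleton_or_nontrivial (K ⊗[A] S) with h | h
  · haveI : Subsingleton (S ⊗[A] K) := (Algebra.TensorProduct.comm A K S).symm.injective.subsingleton
    exact Subsingleton.elim _ _
  haveI : Module.Free (K ⊗[A] S) ((K ⊗[A] S) ⊗[A] M) := free_of_field (A := A) M K (K ⊗[A] S)
  unfold gfun
  rw [toR_smul, detAct_smul', finrank_of_field (A := A) M K (K ⊗[A] S), map_mul, map_pow, Algebra.smul_def, map_pow]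
  rfl

/-- **the determinant law with values in the fraction field** -/
noncomputable def gamma (d : ℕ) (hd : Module.finrank K (K ⊗[A] M) = d) : PolLaw.MulLaw A B K d where
  law := glaw M K
  homog S _ _ s z := by
    show gfun M K S (s • z) = s ^ d • gfun M K S z
    rw [gfun_smul, hd]
  mult S _ _ := ⟨gfun_one M K S, gfun_mul M K S⟩

theorem gamma_apply (d : ℕ) (hd : Module.finrank K (K ⊗[A] M) = d) (S : Type u) [CommSemiring S]
    [Algebra A S] (z : S ⊗[A] B) :
    (gamma M K d hd).law.toFun' S z = Algebra.TensorProduct.comm A K S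
      (PolLaw.detAct M (K ⊗[A] S) (toR (A := A) (B := B) K S z)) := rfl

end law

end Groth.Agent.Lib.Helper15.DetNormal1
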