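import Mathlib

set_option autoImplicit false
universe u
open scoped TensorProduct
open Polynomial

namespace Groth.Agent.Lib.Helper15.DetNormal2

/-- **the determinant of an integral endomorphism is integral** -/
theorem isIntegral_det {P R : Type u} [CommRing P] [CommRing R] [IsDomain R] [Algebra P R]
    {N : Type u} [AddCommGroup N] [Module R N] [Module.Free R N] [Module.Finite R N]
    (Φ : Module.End R N) (q : P[X]) (hq : q.Monic)
    (hΦ : Polynomial.aeval Φ (q.map (algebraMap P R)) = 0) :
    IsIntegral P (LinearMap.det Φ) := by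
  classical
  obtain ⟨Ω, _, _, _, hinj⟩ : ∃ (Ω : Type u) (_ : Field Ω) (_ : Algebra R Ω) (_ : IsAlgClosed Ω),
      Function.Injective (algebraMap R Ω) := by
    refine ⟨AlgebraicClosure (FractionRing R), inferInstance, inferInstance, inferInstance, ?_⟩
    rw [IsScalarTower.algebraMap_eq R (FractionRing R) (AlgebraicClosure (FractionRing R))]
    exact (algebraMap (FractionRing R) _).injective.comp (IsFractionRing.injective R _)
  letI : Algebra P Ω := ((algebraMap R Ω).comp (algebraMap P R)).toAlgebra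
  haveI : IsScalarTower P R Ω := IsScalarTower.of_algebraMap_eq (fun _ => rfl)
  rw [← isIntegral_algebraMap_iff hinj (R := P), ← LinearMap.det_baseChange]
  set ΦΩ : Module.End Ω (Ω ⊗[R] N) := Φ.baseChange Ω with hΦΩ
  have hΦΩ0 : Polynomial.aeval ΦΩ (q.map (algebraMap P Ω)) = 0 := by
    have h1 : Polynomial.aeval (Module.End.baseChangeHom R Ω N Φ) (q.map (algebraMap P R)) = 0 := by
      rw [Polynomial.aeval_algHom_apply, hΦ, map_zero]
    have h2 : q.map (algebraMap P Ω) = (q.map (algebraMap P R)).map (algebraMap R Ω) := by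
      rw [Polynomial.map_map, ← IsScalarTower.algebraMap_eq]
    rw [h2, Polynomial.aeval_map_algebraMap]
    exact h1
  rw [Module.End.det_eq_prod_roots_charpoly_of_splits (IsAlgClosed.splits _)]
  apply IsIntegral.multiset_prod
  intro μ hμ
  have hroot : ΦΩ.charpoly.IsRoot μ := (Polynomial.mem_roots'.1 hμ).2
  have heig : ΦΩ.HasEigenvalue μ := (Module.End.hasEigenvalue_iff_isRoot_charpoly ΦΩ μ).2 hroot
  have hmin : (minpoly Ω ΦΩ).IsRoot μ := Module.End.isRoot_of_hasEigenvalue heig
  have hdvd : minpoly Ω ΦΩ ∣ q.map (algebraMap P Ω) := minpoly.dvd Ω ΦΩ hΦΩ0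
  have hq0 : (q.map (algebraMap P Ω)).IsRoot μ := hmin.dvd hdvd
  refine ⟨q, hq, ?_⟩
  rw [Polynomial.IsRoot, Polynomial.eval_map] at hq0
  exact hq0

end Groth.Agent.Lib.Helper15.DetNormal2
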