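import Mathlib
import Groth.Agent.Lib.Helper15.DetNormal1
import Groth.Agent.Lib.Helper15.DetNormal2
import Groth.Agent.Lib.Helper15.Corestrict

set_option autoImplicit false
universe u
open scoped TensorProduct
open Polynomial

namespace Groth.Agent.Lib.Helper15.DetNormal3

open Groth.Agent.Lib.Helper15.DetNormal1 Groth.Agent.Lib.Helper15.DetNormal2
  Groth.Agent.Lib.Helper15.Corestrict Groth.Agent.Lib.Helper15.PolLawPoly

section integrality

variable {A : Type u} [CommRing A] [IsDomain A] [IsIntegrallyClosed A]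
  {B : Type u} [CommRing B] [Algebra A B]
  (M : Type u) [AddCommGroup M] [Module A M] [Module B M] [IsScalarTower A B M]
  [Module.Finite A M] (K : Type u) [Field K] [Algebra A K] [IsFractionRing A K]

attribute [local instance] MvPolynomial.algebraMvPolynomial in
/-- **the determinant over `K[σ]` of an element of `A[σ] ⊗ B` lies in `A[σ]`** -/
theorem detAct_mem_range (σ : Type u) (z : MvPolynomial σ A ⊗[A] B) :
    ∃ p : MvPolynomial σ A,
      PolLaw.detAct M (K ⊗[A] MvPolynomial σ A) (toR (A := A) (B := B) K _ z) = 1 ⊗ₜ[A] p := by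
  classical
  let ε := MvPolynomial.algebraTensorAlgEquiv (σ := σ) A K
  haveI : IsDomain (K ⊗[A] MvPolynomial σ A) := MulEquiv.isDomain _ ε.toMulEquiv
  letI : Algebra (MvPolynomial σ A) (K ⊗[A] MvPolynomial σ A) :=
    (Algebra.TensorProduct.includeRight :
      MvPolynomial σ A →ₐ[A] K ⊗[A] MvPolynomial σ A).toRingHom.toAlgebra
  haveI : Module.Free (K ⊗[A] MvPolynomial σ A) ((K ⊗[A] MvPolynomial σ A) ⊗[A] M) :=
    free_of_field (A := A) M K (K ⊗[A] MvPolynomial σ A)
  obtain ⟨q, hq, hq0⟩ := LinearMap.exists_monic_and_aeval_eq_zero (MvPolynomial σ A)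
    (PolLaw.actEnd M (MvPolynomial σ A) z)
  have hw : PolLaw.actEnd M (MvPolynomial σ A) (Polynomial.aeval z q) = 0 := by
    rw [← Polynomial.aeval_algHom_apply]
    exact hq0
  -- vanishing over `R`
  have hwR : PolLaw.actEnd M (K ⊗[A] MvPolynomial σ A)
      (toR (A := A) (B := B) K _ (Polynomial.aeval z q)) = 0 := by
    apply LinearMap.ext
    intro y
    induction y using TensorProduct.induction_on with
    | zero => simp
    | tmul r m =>
      have h1 : r ⊗ₜ[A] m = r • ((Algebra.TensorProduct.includeRight :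
          MvPolynomial σ A →ₐ[A] K ⊗[A] MvPolynomial σ A).toLinearMap.rTensor M
            ((1 : MvPolynomial σ A) ⊗ₜ[A] m)) := by
        rw [LinearMap.rTensor_tmul, TensorProduct.smul_tmul', AlgHom.toLinearMap_apply, map_one,
          smul_eq_mul, mul_one]
      have h2 := PolLaw.rTensor_actEnd M (Algebra.TensorProduct.includeRight :
          MvPolynomial σ A →ₐ[A] K ⊗[A] MvPolynomial σ A) (Polynomial.aeval z q)
          ((1 : MvPolynomial σ A) ⊗ₜ[A] m)
      rw [hw, LinearMap.zero_apply, map_zero] at h2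
      rw [h1, map_smul]
      show r • (PolLaw.actEnd M _ (Algebra.TensorProduct.map _ (AlgHom.id A B) _)) _ = _
      rw [← h2, smul_zero, LinearMap.zero_apply]
    | add y y' hy hy' =>
      rw [map_add, hy, hy']
      simp only [LinearMap.zero_apply, add_zero]
  -- the polynomial identity
  have hΦ : Polynomial.aeval (PolLaw.actEnd M (K ⊗[A] MvPolynomial σ A)
      (toR (A := A) (B := B) K _ z))
      (q.map (algebraMap (MvPolynomial σ A) (K ⊗[A] MvPolynomial σ A))) = 0 := by
    let Ψ : MvPolynomial σ A ⊗[A] B →+* Module.End (K ⊗[A] MvPolynomial σ A)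
        ((K ⊗[A] MvPolynomial σ A) ⊗[A] M) :=
      (PolLaw.actEnd M (K ⊗[A] MvPolynomial σ A)).toRingHom.comp
        (toR (A := A) (B := B) K (MvPolynomial σ A)).toRingHom
    have hΨ : (algebraMap (K ⊗[A] MvPolynomial σ A) (Module.End (K ⊗[A] MvPolynomial σ A)
        ((K ⊗[A] MvPolynomial σ A) ⊗[A] M))).comp
          (algebraMap (MvPolynomial σ A) (K ⊗[A] MvPolynomial σ A)) =
        Ψ.comp (algebraMap (MvPolynomial σ A) (MvPolynomial σ A ⊗[A] B)) := by
      apply RingHom.ext
      intro p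
      show _ = PolLaw.actEnd M _ (toR (A := A) (B := B) K _ (p ⊗ₜ[A] 1))
      rw [toR_tmul]
      exact ((PolLaw.actEnd M (K ⊗[A] MvPolynomial σ A)).commutes _).symm
    rw [Polynomial.aeval_def, Polynomial.eval₂_map, hΨ]
    have h3 := Polynomial.hom_eval₂ q
      (algebraMap (MvPolynomial σ A) (MvPolynomial σ A ⊗[A] B)) Ψ z
    rw [← Polynomial.aeval_def] at h3
    have h4 : Ψ z = PolLaw.actEnd M (K ⊗[A] MvPolynomial σ A) (toR (A := A) (B := B) K _ z) := rfl
    rw [h4] at h3
    rw [← h3]
    exact hwR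
  haveI : Module.Finite (K ⊗[A] MvPolynomial σ A) ((K ⊗[A] MvPolynomial σ A) ⊗[A] M) :=
    inferInstance
  have hint : IsIntegral (MvPolynomial σ A) (PolLaw.detAct M (K ⊗[A] MvPolynomial σ A)
      (toR (A := A) (B := B) K (MvPolynomial σ A) z)) :=
    isIntegral_det (P := MvPolynomial σ A) (R := K ⊗[A] MvPolynomial σ A)
      (N := (K ⊗[A] MvPolynomial σ A) ⊗[A] M) (PolLaw.actEnd M (K ⊗[A] MvPolynomial σ A)
      (toR (A := A) (B := B) K _ z)) q hq hΦ
  obtain ⟨q', hq', h0⟩ := hint
  have hε : IsIntegral (MvPolynomial σ A) (ε (PolLaw.detAct M (K ⊗[A] MvPolynomial σ A)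
      (toR (A := A) (B := B) K _ z))) := by
    refine ⟨q', hq', ?_⟩
    let εr : K ⊗[A] MvPolynomial σ A →+* MvPolynomial σ K :=
      (ε : K ⊗[A] MvPolynomial σ A →ₐ[K] MvPolynomial σ K).toRingHom
    have h5 := congrArg εr h0
    rw [map_zero, Polynomial.hom_eval₂] at h5
    have h6 : εr.comp (algebraMap (MvPolynomial σ A) (K ⊗[A] MvPolynomial σ A)) =
        algebraMap (MvPolynomial σ A) (MvPolynomial σ K) := by
      apply RingHom.ext
      intro p
      show ε ((1 : K) ⊗ₜ[A] p) = _
      rw [MvPolynomial.algebraTensorAlgEquiv_tmul, one_smul]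
      rfl
    rw [h6] at h5
    exact h5
  rw [MvPolynomial.isIntegral_iff_isIntegral_coeff] at hε
  have hrange : ε (PolLaw.detAct M (K ⊗[A] MvPolynomial σ A) (toR (A := A) (B := B) K _ z)) ∈
      Set.range (MvPolynomial.map (algebraMap A K)) := by
    rw [MvPolynomial.mem_range_map_iff_coeffs_subset]
    intro c hc
    obtain ⟨n, -, rfl⟩ := MvPolynomial.mem_coeffs_iff.1 hc
    exact IsIntegrallyClosed.isIntegral_iff.1 (hε n)
  obtain ⟨p, hp⟩ := hrange
  refine ⟨p, ?_⟩
  apply ε.injective
  rw [← hp, MvPolynomial.algebraTensorAlgEquiv_tmul, one_smul]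

end integrality

section final

variable {A : Type u} [CommRing A] [IsDomain A] [IsIntegrallyClosed A]
  {B : Type u} [CommRing B] [Algebra A B]
  (M : Type u) [AddCommGroup M] [Module A M] [Module B M] [IsScalarTower A B M]
  [Module.Finite A M] (K : Type u) [Field K] [Algebra A K] [IsFractionRing A K]
  (d : ℕ) (hd : Module.finrank K (K ⊗[A] M) = d)

theorem H (σ : Type u) (z : MvPolynomial σ A ⊗[A] B) :
    (gamma M K d hd).law.toFun' (MvPolynomial σ A) z ∈
      LinearMap.range (inc (⊥ : Subalgebra A K) (MvPolynomial σ A)) := by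
  obtain ⟨p, hp⟩ := detAct_mem_range M K σ z
  refine ⟨p ⊗ₜ[A] (1 : (⊥ : Subalgebra A K)), ?_⟩
  rw [gamma_apply, hp]
  rfl

/-- the determinant law with values in `⊥ ⊆ K` -/
noncomputable def N₀ : PolLaw.MulLaw A B (⊥ : Subalgebra A K) d :=
  law₀ (gamma M K d hd) ⊥ (H M K d hd)

/-- `⊥ ≃ A` -/
noncomputable def botE : (⊥ : Subalgebra A K) ≃ₐ[A] A :=
  Algebra.botEquivOfInjective (IsFractionRing.injective A K)

theorem botE_symm (a : A) : ((botE (A := A) K).symm a : K) = algebraMap A K a := rfl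

/-- **the determinant law over a normal base** -/
noncomputable def N : PolLaw.MulLaw A B A d :=
  (N₀ M K d hd).postcomp (botE (A := A) K).toAlgHom

/-- the key property over an arbitrary test algebra -/
theorem N_key (S : Type u) [CommSemiring S] [Algebra A S] (z : S ⊗[A] B) :
    (1 : K) ⊗ₜ[A] (TensorProduct.rid A S ((N M K d hd).law.toFun' S z)) =
      PolLaw.detAct M (K ⊗[A] S) (toR (A := A) (B := B) K S z) := by
  have h1 : inc (⊥ : Subalgebra A K) S ((N₀ M K d hd).law.toFun' S z) =
      (gamma M K d hd).law.toFun' S z := inc_cfun (gamma M K d hd) ⊥ (H M K d hd) S z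
  rw [gamma_apply] at h1
  have h2 : (N M K d hd).law.toFun' S z =
      (botE (A := A) K).toAlgHom.toLinearMap.lTensor S ((N₀ M K d hd).law.toFun' S z) := rfl
  rw [h2, ← (Algebra.TensorProduct.comm A K S).injective.eq_iff, ← h1]
  generalize (N₀ M K d hd).law.toFun' S z = y
  induction y using TensorProduct.induction_on with
  | zero => simp
  | tmul s c =>
    obtain ⟨a, ha⟩ : ∃ a, c = (botE (A := A) K).symm a := ⟨botE K c, by simp⟩
    rw [ha, LinearMap.lTensor_tmul, AlgHom.toLinearMap_apply]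
    show Algebra.TensorProduct.comm A K S ((1 : K) ⊗ₜ[A] (TensorProduct.rid A S
      (s ⊗ₜ[A] (botE (A := A) K) ((botE (A := A) K).symm a)))) = s ⊗ₜ[A] algebraMap A K a
    rw [AlgEquiv.apply_symm_apply, TensorProduct.rid_tmul, Algebra.TensorProduct.comm_tmul,
      TensorProduct.smul_tmul, Algebra.smul_def, mul_one]
  | add y y' hy hy' =>
    rw [map_add, map_add, TensorProduct.tmul_add, map_add, hy, hy', map_add]

end final

end Groth.Agent.Lib.Helper15.DetNormal3
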