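import Mathlib
import Groth.Prelude.Def_PolLaw2

/-!
# Polynomial laws with values in `A` are determined by their members over local rings (helper15)
-/

set_option autoImplicit false
universe u
open scoped TensorProduct

namespace Groth.Agent.Lib.Helper15.LawLocal

variable {A : Type u} [CommRing A] {B : Type u} [AddCommGroup B] [Module A B]
  {C : Type u} [AddCommGroup C] [Module A C]

/-- transport to a ring test algebra -/
theorem eq_of_ring (N : B →ₚₗ[A] C) (S : Type u) [CommSemiring S] [Algebra A S] (x : S ⊗[A] B) :
    N.toFun' S x =
      (Algebra.TensorProduct.lid A S).toAlgHom.toLinearMap.rTensor C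
        (N.toFun' (A ⊗[A] S)
          ((Algebra.TensorProduct.lid A S).symm.toAlgHom.toLinearMap.rTensor B x)) := by
  rw [PolynomialLaw.isCompat_apply' (f := N), ← LinearMap.comp_apply, ← LinearMap.rTensor_comp]
  have : (Algebra.TensorProduct.lid A S).toAlgHom.toLinearMap ∘ₗ
      (Algebra.TensorProduct.lid A S).symm.toAlgHom.toLinearMap = LinearMap.id := by
    apply LinearMap.ext
    intro s
    exact (Algebra.TensorProduct.lid A S).apply_symm_apply s
  rw [this, LinearMap.rTensor_id, LinearMap.id_apply]

theorem ext_of_ring (N N' : B →ₚₗ[A] C)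
    (h : ∀ (R : Type u) [CommRing R] [Algebra A R] (x : R ⊗[A] B), N.toFun' R x = N'.toFun' R x) :
    N = N' := by
  ext S _ _ x
  rw [eq_of_ring N, eq_of_ring N', h]

theorem rid_rTensor {R R' : Type u} [CommRing R] [Algebra A R] [CommRing R'] [Algebra A R']
    (g : R →ₐ[A] R') (z : R ⊗[A] A) :
    TensorProduct.rid A R' (g.toLinearMap.rTensor A z) = g (TensorProduct.rid A R z) := by
  induction z using TensorProduct.induction_on with
  | zero => simp
  | tmul q a =>
    rw [LinearMap.rTensor_tmul, TensorProduct.rid_tmul, TensorProduct.rid_tmul,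
      AlgHom.toLinearMap_apply, map_smul]
  | add x y hx hy => rw [map_add, map_add, map_add, map_add, hx, hy]

/-- two elements of `R ⊗ A` agreeing in all localizations at maximal ideals agree -/
theorem eq_of_localization (R : Type u) [CommRing R] [Algebra A R] (u v : R ⊗[A] A)
    (h : ∀ (J : Ideal R) [J.IsMaximal],
      (IsScalarTower.toAlgHom A R (Localization.AtPrime J)).toLinearMap.rTensor A u =
        (IsScalarTower.toAlgHom A R (Localization.AtPrime J)).toLinearMap.rTensor A v) :
    u = v := by
  apply (TensorProduct.rid A R).injective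
  rw [← sub_eq_zero]
  apply eq_zero_of_localization
  intro J hJ
  have h1 := congrArg (TensorProduct.rid A (Localization.AtPrime J)) (h J)
  rw [rid_rTensor, rid_rTensor] at h1
  rw [map_sub, sub_eq_zero]
  exact h1

/-- a law with values in `A` is determined by its members over local rings -/
theorem ext_of_local (N N' : B →ₚₗ[A] A)
    (h : ∀ (S : Type u) [CommRing S] [IsLocalRing S] [Algebra A S] (x : S ⊗[A] B),
      N.toFun' S x = N'.toFun' S x) : N = N' := by
  apply ext_of_ring
  intro R _ _ x
  apply eq_of_localization
  intro J hJ
  rw [PolynomialLaw.isCompat_apply' (f := N), PolynomialLaw.isCompat_apply' (f := N'), h]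

end Groth.Agent.Lib.Helper15.LawLocal
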