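import Mathlib
import Groth.Prelude.Def_PolLaw2
import Groth.Agent.Lib.Helper15.LawProduct
import Groth.Agent.Lib.Helper15.LawLocal

/-!
# The determinant law of a finitely generated projective module (helper15)
-/

set_option autoImplicit false
universe u
open scoped TensorProduct

namespace Groth.Agent.Lib.Helper15.DetProj

open Groth.Agent.Lib.Helper15.LawProduct

section prodact

variable {A : Type u} [CommRing A]
  {B₁ B₂ M₁ M₂ : Type u} [CommRing B₁] [Algebra A B₁] [CommRing B₂] [Algebra A B₂]
  [AddCommGroup M₁] [Module A M₁] [Module B₁ M₁] [IsScalarTower A B₁ M₁]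
  [AddCommGroup M₂] [Module A M₂] [Module B₂ M₂] [IsScalarTower A B₂ M₂]

/-- `B₁ × B₂` acts on `M₁` through the first projection -/
@[reducible] def modFst : Module (B₁ × B₂) M₁ := Module.compHom M₁ (RingHom.fst B₁ B₂)

/-- `B₁ × B₂` acts on `M₂` through the second projection -/
@[reducible] def modSnd : Module (B₁ × B₂) M₂ := Module.compHom M₂ (RingHom.snd B₁ B₂)

attribute [local instance] modFst modSnd

theorem fst_smul (r : B₁ × B₂) (m : M₁) : r • m = r.1 • m := rfl

theorem snd_smul (r : B₁ × B₂) (m : M₂) : r • m = r.2 • m := rfl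

instance towerFst : IsScalarTower A (B₁ × B₂) M₁ where
  smul_assoc a r m := by
    rw [fst_smul, fst_smul, Prod.smul_fst, smul_assoc]

instance towerSnd : IsScalarTower A (B₁ × B₂) M₂ where
  smul_assoc a r m := by
    rw [snd_smul, snd_smul, Prod.smul_snd, smul_assoc]

/-- the componentwise action of `B₁ × B₂` on `M₁ × M₂` -/
@[reducible] def prodMod : Module (B₁ × B₂) (M₁ × M₂) := Prod.instModule

theorem prodTower : @IsScalarTower A (B₁ × B₂) (M₁ × M₂) _ (prodMod (B₁ := B₁) (B₂ := B₂)
    (M₁ := M₁) (M₂ := M₂)).toSMul _ := Prod.isScalarTower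

variable (S : Type u) [CommSemiring S] [Algebra A S]

/-- the two projections on `S ⊗ (B₁ × B₂)` -/
noncomputable abbrev p₁ : S ⊗[A] (B₁ × B₂) →ₐ[S] S ⊗[A] B₁ :=
  Algebra.TensorProduct.map (AlgHom.id S S) (AlgHom.fst A B₁ B₂)

noncomputable abbrev p₂ : S ⊗[A] (B₁ × B₂) →ₐ[S] S ⊗[A] B₂ :=
  Algebra.TensorProduct.map (AlgHom.id S S) (AlgHom.snd A B₁ B₂)

theorem prodRight_actEnd (z : S ⊗[A] (B₁ × B₂)) (w : S ⊗[A] (M₁ × M₂)) :
    TensorProduct.prodRight A S S M₁ M₂ (PolLaw.actEnd (M₁ × M₂) S z w) =
      (PolLaw.actEnd M₁ S (p₁ S z) (TensorProduct.prodRight A S S M₁ M₂ w).1,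
        PolLaw.actEnd M₂ S (p₂ S z) (TensorProduct.prodRight A S S M₁ M₂ w).2) := by
  induction z using TensorProduct.induction_on with
  | zero =>
    simp only [map_zero, LinearMap.zero_apply]
    rfl
  | tmul s b =>
    induction w using TensorProduct.induction_on with
    | zero =>
      simp only [map_zero, Prod.fst_zero, Prod.snd_zero]
      rfl
    | tmul t m =>
      rw [PolLaw.actEnd_tmul_tmul, TensorProduct.prodRight_tmul, TensorProduct.prodRight_tmul,
        Algebra.TensorProduct.map_tmul, Algebra.TensorProduct.map_tmul,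
        PolLaw.actEnd_tmul_tmul, PolLaw.actEnd_tmul_tmul]
      rfl
    | add w w' hw hw' =>
      rw [map_add, map_add, hw, hw', map_add, Prod.fst_add, Prod.snd_add, map_add, map_add]
      rfl
  | add z z' hz hz' =>
    rw [map_add, LinearMap.add_apply, map_add, hz, hz', map_add (p₁ S), map_add (p₂ S),
      map_add (PolLaw.actEnd M₁ S), map_add (PolLaw.actEnd M₂ S), LinearMap.add_apply,
      LinearMap.add_apply]
    rfl

theorem detAct_prod (S : Type u) [CommRing S] [Algebra A S]
    [Module.Free S (S ⊗[A] M₁)] [Module.Finite S (S ⊗[A] M₁)]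
    [Module.Free S (S ⊗[A] M₂)] [Module.Finite S (S ⊗[A] M₂)]
    (z : S ⊗[A] (B₁ × B₂)) :
    PolLaw.detAct (M₁ × M₂) S z = PolLaw.detAct M₁ S (p₁ S z) * PolLaw.detAct M₂ S (p₂ S z) := by
  unfold PolLaw.detAct
  rw [← LinearMap.det_prodMap, ← LinearMap.det_conj _ (TensorProduct.prodRight A S S M₁ M₂)]
  congr 1
  apply LinearMap.ext
  intro w
  obtain ⟨w', rfl⟩ := (TensorProduct.prodRight A S S M₁ M₂).surjective w
  rw [LinearMap.comp_apply, LinearMap.comp_apply, LinearEquiv.coe_coe, LinearEquiv.coe_coe,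
    LinearEquiv.symm_apply_apply, prodRight_actEnd]
  rfl

end prodact

section main

variable {A B M : Type u} [CommRing A] [CommRing B] [Algebra A B]
  [AddCommGroup M] [Module A M] [Module B M] [IsScalarTower A B M]

variable {n : ℕ} (f : (Fin n → A) →ₗ[A] M) (g : M →ₗ[A] (Fin n → A))
  (hfg : f ∘ₗ g = LinearMap.id)

include hfg in
theorem f_g (m : M) : f (g m) = m := by
  have := DFunLike.congr_fun hfg m
  exact this

/-- `M × ker f ≃ A^n` -/
noncomputable def eqv : (M × LinearMap.ker f) ≃ₗ[A] (Fin n → A) where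
  toFun p := g p.1 + (p.2 : Fin n → A)
  map_add' p q := by
    simp only [Prod.fst_add, Prod.snd_add, map_add, Submodule.coe_add]
    abel
  map_smul' a p := by
    simp only [Prod.smul_fst, Prod.smul_snd, map_smul, Submodule.coe_smul, RingHom.id_apply,
      smul_add]
  invFun v := (f v, ⟨v - g (f v), by
    rw [LinearMap.mem_ker, map_sub, f_g f g hfg, sub_self]⟩)
  left_inv p := by
    have hk : f (p.2 : Fin n → A) = 0 := p.2.2
    apply Prod.ext
    · show f (g p.1 + (p.2 : Fin n → A)) = p.1
      rw [map_add, f_g f g hfg, hk, add_zero]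
    · apply Subtype.ext
      show g p.1 + (p.2 : Fin n → A) - g (f (g p.1 + (p.2 : Fin n → A))) = p.2
      rw [map_add, f_g f g hfg, hk, add_zero]
      abel
  right_inv v := by
    show g (f v) + (v - g (f v)) = v
    abel

include g hfg in
theorem free_prod : Module.Free A (M × LinearMap.ker f) :=
  Module.Free.of_equiv (eqv f g hfg).symm

include g hfg in
theorem finite_prod : Module.Finite A (M × LinearMap.ker f) :=
  Module.Finite.equiv (eqv f g hfg).symm

include g hfg in
theorem projective_ker : Module.Projective A (LinearMap.ker f) := by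
  haveI := free_prod f g hfg
  exact Module.Projective.of_split (LinearMap.inr A M (LinearMap.ker f))
    (LinearMap.snd A M (LinearMap.ker f)) (by
      apply LinearMap.ext
      intro k
      rfl)

include g hfg in
theorem finite_ker : Module.Finite A (LinearMap.ker f) := by
  haveI := finite_prod f g hfg
  exact Module.Finite.of_surjective (LinearMap.snd A M (LinearMap.ker f)) LinearMap.snd_surjective

/-- the determinant law of the projective module `M` -/
noncomputable def N : B →ₚₗ[A] A :=
  letI : Module (B × A) (M × LinearMap.ker f) :=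
    prodMod (B₁ := B) (B₂ := A) (M₁ := M) (M₂ := LinearMap.ker f)
  haveI : IsScalarTower A (B × A) (M × LinearMap.ker f) := prodTower
  haveI := free_prod f g hfg
  haveI := finite_prod f g hfg
  plaw₁ (PolLaw.detLaw (A := A) (B := B × A) (M := M × LinearMap.ker f)
    (Module.finrank A (M × LinearMap.ker f)) rfl)

theorem N_mult : PolLaw.IsMult (N (B := B) f g hfg) := plaw₁_mult _

theorem p₁_arg (S : Type u) [CommSemiring S] [Algebra A S] (x : S ⊗[A] B) :
    p₁ S (ι₁ A B A S x + E₂ A B A S) = x := by
  rw [map_add]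
  have h2 : p₁ S (E₂ A B A S) = 0 := by
    unfold E₂
    rw [Algebra.TensorProduct.map_tmul]
    exact TensorProduct.tmul_zero _ _
  rw [h2, add_zero]
  induction x using TensorProduct.induction_on with
  | zero => simp
  | tmul s b =>
    rw [ι₁_tmul, Algebra.TensorProduct.map_tmul]
    rfl
  | add x y hx hy => rw [map_add, map_add, hx, hy]

theorem p₂_arg (S : Type u) [CommSemiring S] [Algebra A S] (x : S ⊗[A] B) :
    p₂ S (ι₁ A B A S x + E₂ A B A S) = 1 := by
  rw [map_add]
  have h2 : p₂ S (E₂ A B A S) = 1 := by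
    unfold E₂
    rw [Algebra.TensorProduct.map_tmul]
    rfl
  rw [h2]
  have h1 : p₂ S (ι₁ A B A S x) = 0 := by
    induction x using TensorProduct.induction_on with
    | zero => simp
    | tmul s b =>
      rw [ι₁_tmul, Algebra.TensorProduct.map_tmul]
      exact TensorProduct.tmul_zero _ _
    | add x y hx hy => rw [map_add, map_add, hx, hy, add_zero]
  rw [h1, zero_add]

variable [Module.Finite A M] [Module.Projective A M]

theorem N_local (S : Type u) [CommRing S] [IsLocalRing S] [Algebra A S] (x : S ⊗[A] B) :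
    (N (B := B) f g hfg).toFun' S x = PolLaw.detAct M S x ⊗ₜ[A] (1 : A) := by
  haveI := free_prod f g hfg
  haveI := finite_prod f g hfg
  haveI := projective_ker f g hfg
  haveI := finite_ker f g hfg
  haveI : Module.Free S (S ⊗[A] M) := Module.free_of_flat_of_isLocalRing
  haveI : Module.Free S (S ⊗[A] (LinearMap.ker f)) := Module.free_of_flat_of_isLocalRing
  letI : Module (B × A) (M × LinearMap.ker f) :=
    prodMod (B₁ := B) (B₂ := A) (M₁ := M) (M₂ := LinearMap.ker f)
  haveI : IsScalarTower A (B × A) (M × LinearMap.ker f) := prodTower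
  show PolLaw.detFun A (B × A) (M × LinearMap.ker f) S (ι₁ A B A S x + E₂ A B A S) = _
  rw [PolLaw.detFun_eq_detAct]
  have h := detAct_prod (A := A) (B₁ := B) (B₂ := A) (M₁ := M) (M₂ := LinearMap.ker f) S
    (ι₁ A B A S x + E₂ A B A S)
  rw [p₁_arg, p₂_arg, PolLaw.detAct_one, mul_one] at h
  exact congrArg (fun y => y ⊗ₜ[A] (1 : A)) h

end main

end Groth.Agent.Lib.Helper15.DetProj
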