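import Mathlib
import Groth.Agent.Lib.Helper15.DetProj
import Groth.Agent.Lib.Helper15.PolLawGeneric

/-!
# Homogeneity of the determinant law of a projective module of constant rank (helper15)
-/

set_option autoImplicit false
universe u
open scoped TensorProduct

namespace Groth.Agent.Lib.Helper15.DetProjHomog

open Groth.Agent.Lib.Helper15.LawLocal Groth.Agent.Lib.Helper15.PolLawGeneric

variable {A B M : Type u} [CommRing A] [CommRing B] [Algebra A B]
  [AddCommGroup M] [Module A M] [Module B M] [IsScalarTower A B M]
  [Module.Finite A M] [Module.Projective A M]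
  (d : ℕ) (hd : ∀ p : PrimeSpectrum A, Module.rankAtStalk M p = d)

include hd in
theorem finrank_local (S : Type u) [CommRing S] [IsLocalRing S] [Algebra A S] :
    Module.finrank S (S ⊗[A] M) = d := by
  haveI : Module.Free S (S ⊗[A] M) := Module.free_of_flat_of_isLocalRing
  have h1 := Module.rankAtStalk_baseChange (R := A) (M := M) (S := S) (IsLocalRing.closedPoint S)
  rw [hd, Module.rankAtStalk_eq_finrank_of_free] at h1
  exact h1

include hd in
theorem detAct_smul_local (S : Type u) [CommRing S] [IsLocalRing S] [Algebra A S] (s : S)
    (x : S ⊗[A] B) : PolLaw.detAct M S (s • x) = s ^ d * PolLaw.detAct M S x := by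
  haveI : Module.Free S (S ⊗[A] M) := Module.free_of_flat_of_isLocalRing
  unfold PolLaw.detAct
  rw [map_smul, LinearMap.det_smul, finrank_local d hd S]

include hd in
/-- a law whose local members are the determinants is homogeneous of degree `d` -/
theorem homog_of_local (N : B →ₚₗ[A] A)
    (hN : ∀ (S : Type u) [CommRing S] [IsLocalRing S] [Algebra A S] (x : S ⊗[A] B),
      N.toFun' S x = PolLaw.detAct M S x ⊗ₜ[A] (1 : A)) : PolLaw.IsHomog N d := by
  -- ring test algebras
  have hring : ∀ (R : Type u) [CommRing R] [Algebra A R] (r : R) (x : R ⊗[A] B),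
      N.toFun' R (r • x) = r ^ d • N.toFun' R x := by
    intro R _ _ r x
    apply eq_of_localization
    intro J hJ
    rw [PolynomialLaw.isCompat_apply' (f := N), rTensor_smul, rTensor_smul,
      PolynomialLaw.isCompat_apply' (f := N), hN, hN, detAct_smul_local d hd,
      TensorProduct.smul_tmul', smul_eq_mul, map_pow]
  intro S _ _ s x
  rw [eq_of_ring N S (s • x), rTensor_smul, hring, rTensor_smul, ← eq_of_ring N S x, map_pow]
  congr 2
  exact (Algebra.TensorProduct.lid A S).apply_symm_apply s

end Groth.Agent.Lib.Helper15.DetProjHomog
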