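import Mathlib
import Groth.Prelude.Def_PolLaw

/-!
# Divided powers span `Γ^d(M)` over rings with enough Vandermonde units (helper15)
-/

set_option autoImplicit false
universe u

namespace Groth.Agent.Lib.Helper15.DpSpan

open DividedPowerAlgebra

/-- Vandermonde extraction of coefficients -/
theorem mem_of_vandermonde {A : Type*} [CommRing A] {N : Type*} [AddCommGroup N] [Module A N]
    (W : Submodule A N) {n : ℕ} (v : Fin n → A) (hv : IsUnit (Matrix.vandermonde v).det)
    (c : Fin n → N) (h : ∀ j, ∑ q : Fin n, (v j) ^ (q : ℕ) • c q ∈ W) (q : Fin n) : c q ∈ W := by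
  classical
  have hV : (Matrix.vandermonde v)⁻¹ * Matrix.vandermonde v = 1 := Matrix.nonsing_inv_mul _ hv
  have key : c q = ∑ j, (Matrix.vandermonde v)⁻¹ q j • ∑ q' : Fin n, (v j) ^ (q' : ℕ) • c q' := by
    simp_rw [Finset.smul_sum, smul_smul]
    rw [Finset.sum_comm]
    have h1 : ∀ q' : Fin n, ∑ j, ((Matrix.vandermonde v)⁻¹ q j * v j ^ (q' : ℕ)) =
        (1 : Matrix (Fin n) (Fin n) A) q q' := by
      intro q'
      rw [← hV, Matrix.mul_apply]
      rfl
    simp_rw [← Finset.sum_smul, h1, Matrix.one_apply, ite_smul, one_smul, zero_smul]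
    rw [Finset.sum_ite_eq]
    simp
  rw [key]
  exact W.sum_mem fun j _ => W.smul_mem _ (h j)

variable {A M : Type u} [CommRing A] [AddCommGroup M] [Module A M]

/-- the span of the `d`-th divided powers -/
noncomputable def W (d : ℕ) : Submodule A (DividedPowerAlgebra A M) :=
  Submodule.span A (Set.range (DividedPowerAlgebra.dp A d : M → DividedPowerAlgebra A M))

theorem dp_add_smul (N : ℕ) (x y : M) (s : A) :
    dp A N (x + s • y) = ∑ q : Fin (N + 1), s ^ (q : ℕ) • (dp A (N - q) x * dp A q y) := by
  rw [dp_add, ← Finset.Nat.sum_antidiagonal_swap,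
    Finset.Nat.sum_antidiagonal_eq_sum_range_succ_mk, Finset.sum_range]
  refine Finset.sum_congr rfl fun q _ => ?_
  simp only [Prod.swap_prod_mk]
  rw [dp_smul, mul_smul_comm]

theorem prod_mem (d : ℕ) (T : A)
    (hT : ∀ i j : ℕ, i < j → j ≤ d → IsUnit (T ^ j - T ^ i)) :
    ∀ (n : ℕ) (k : Fin n → ℕ) (m : Fin n → M), (∑ i, k i) = d →
      ∏ i, dp A (k i) (m i) ∈ W (A := A) (M := M) d := by
  intro n
  induction n using Nat.strong_induction_on with
  | _ n ih =>
    intro k m hk
    match n, ih, k, m, hk with
    | 0, _, k, m, hk =>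
      rw [Finset.univ_eq_empty, Finset.sum_empty] at hk
      rw [Finset.univ_eq_empty, Finset.prod_empty, ← hk, ← dp_zero (R := A) (m := (0 : M))]
      exact Submodule.subset_span ⟨0, rfl⟩
    | 1, _, k, m, hk =>
      rw [Fin.sum_univ_one] at hk
      rw [Fin.prod_univ_one, hk]
      exact Submodule.subset_span ⟨m 0, rfl⟩
    | n + 2, ih, k, m, hk =>
      have hk' : k 0 + k 1 + ∑ i : Fin n, k i.succ.succ = d := by
        rw [← hk, Fin.sum_univ_succ, Fin.sum_univ_succ, ← add_assoc]
        rfl
      have hprod : ∏ i, dp A (k i) (m i) = dp A (k 0) (m 0) * dp A (k 1) (m 1) *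
          ∏ i : Fin n, dp A (k i.succ.succ) (m i.succ.succ) := by
        rw [Fin.prod_univ_succ, Fin.prod_univ_succ, ← mul_assoc]
        rfl
      rw [hprod]
      set R := ∏ i : Fin n, dp A (k i.succ.succ) (m i.succ.succ) with hR
      set N := k 0 + k 1 with hN
      have hNd : N ≤ d := by omega
      let c : Fin (N + 1) → DividedPowerAlgebra A M := fun q =>
        dp A (N - q) (m 0) * dp A q (m 1) * R
      have hc : ∀ j : Fin (N + 1), ∑ q : Fin (N + 1), (T ^ (j : ℕ)) ^ (q : ℕ) • c q ∈
          W (A := A) (M := M) d := by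
        intro j
        have h1 := ih (n + 1) (by omega)
          (Fin.cons N (fun i : Fin n => k i.succ.succ))
          (Fin.cons (m 0 + T ^ (j : ℕ) • m 1) (fun i : Fin n => m i.succ.succ))
          (by
            rw [Fin.sum_univ_succ]
            simp only [Fin.cons_zero, Fin.cons_succ]
            exact hk')
        rw [Fin.prod_univ_succ] at h1
        simp only [Fin.cons_zero, Fin.cons_succ] at h1
        rw [dp_add_smul, Finset.sum_mul] at h1
        simp only [c]
        convert h1 using 2 with q _
        rw [smul_mul_assoc]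
      have hv : IsUnit (Matrix.vandermonde (fun j : Fin (N + 1) => T ^ (j : ℕ))).det := by
        rw [Matrix.det_vandermonde]
        apply IsUnit.prod_univ_iff.mpr
        intro i
        apply IsUnit.prod_iff.mpr
        intro j hj
        have hij : i < j := Finset.mem_Ioi.mp hj
        exact hT i j hij (by have := j.2; omega)
      have h2 := mem_of_vandermonde (W (A := A) (M := M) d) _ hv c hc ⟨k 1, by omega⟩
      simp only [c] at h2
      have h3 : N - k 1 = k 0 := by omega
      rw [h3] at h2
      exact h2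

end Groth.Agent.Lib.Helper15.DpSpan
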