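import Mathlib
import Groth.Agent.Lib.Helper15.DpSpan

/-!
# Divided powers span `Γ^d(M)`: the local criterion (helper15)
-/

set_option autoImplicit false
universe u

namespace Groth.Agent.Lib.Helper15.DpSpanLocal

open DividedPowerAlgebra Groth.Agent.Lib.Helper15.DpSpan

/-- Vandermonde extraction of coefficients up to the determinant -/
theorem det_smul_mem {A : Type*} [CommRing A] {N : Type*} [AddCommGroup N] [Module A N]
    (W : Submodule A N) {n : ℕ} (v : Fin n → A) (c : Fin n → N)
    (h : ∀ j, ∑ q : Fin n, (v j) ^ (q : ℕ) • c q ∈ W) (q : Fin n) :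
    (Matrix.vandermonde v).det • c q ∈ W := by
  classical
  have hV : (Matrix.vandermonde v).adjugate * Matrix.vandermonde v =
      (Matrix.vandermonde v).det • (1 : Matrix (Fin n) (Fin n) A) := Matrix.adjugate_mul _
  have key : (Matrix.vandermonde v).det • c q =
      ∑ j, (Matrix.vandermonde v).adjugate q j • ∑ q' : Fin n, (v j) ^ (q' : ℕ) • c q' := by
    simp_rw [Finset.smul_sum, smul_smul]
    rw [Finset.sum_comm]
    have h1 : ∀ q' : Fin n, ∑ j, ((Matrix.vandermonde v).adjugate q j * v j ^ (q' : ℕ)) =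
        ((Matrix.vandermonde v).det • (1 : Matrix (Fin n) (Fin n) A)) q q' := by
      intro q'
      rw [← hV, Matrix.mul_apply]
      rfl
    simp_rw [← Finset.sum_smul, h1, Matrix.smul_apply, Matrix.one_apply, smul_eq_mul, mul_ite,
      mul_one, mul_zero, ite_smul, zero_smul]
    rw [Finset.sum_ite_eq]
    simp
  rw [key]
  exact W.sum_mem fun j _ => W.smul_mem _ (h j)

variable {A M : Type u} [CommRing A] [AddCommGroup M] [Module A M]

/-- the saturation of `W d` at the prime `p` -/
noncomputable def Wp (d : ℕ) (p : Ideal A) [p.IsPrime] : Submodule A (DividedPowerAlgebra A M) where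
  carrier := {x | ∃ s : A, s ∉ p ∧ s • x ∈ W (A := A) (M := M) d}
  add_mem' := by
    rintro x y ⟨s, hs, hx⟩ ⟨t, ht, hy⟩
    refine ⟨s * t, fun h => (Ideal.IsPrime.mem_or_mem ‹_› h).elim hs ht, ?_⟩
    rw [smul_add]
    refine Submodule.add_mem _ ?_ ?_
    · rw [mul_comm, mul_smul]
      exact Submodule.smul_mem _ _ hx
    · rw [mul_smul]
      exact Submodule.smul_mem _ _ hy
  zero_mem' := ⟨1, fun h => (Ideal.ne_top_iff_one p).mp (Ideal.IsPrime.ne_top ‹_›) h,
    by rw [smul_zero]; exact Submodule.zero_mem _⟩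
  smul_mem' := by
    rintro a x ⟨s, hs, hx⟩
    refine ⟨s, hs, ?_⟩
    rw [smul_comm]
    exact Submodule.smul_mem _ _ hx

theorem mem_Wp {d : ℕ} {p : Ideal A} [p.IsPrime] (x : DividedPowerAlgebra A M) :
    x ∈ Wp (M := M) d p ↔ ∃ s : A, s ∉ p ∧ s • x ∈ W (A := A) (M := M) d := Iff.rfl

theorem W_le_Wp (d : ℕ) (p : Ideal A) [p.IsPrime] : W (A := A) (M := M) d ≤ Wp d p := by
  intro x hx
  exact ⟨1, fun h => (Ideal.ne_top_iff_one p).mp (Ideal.IsPrime.ne_top ‹_›) h, by rwa [one_smul]⟩

theorem mem_Wp_of_smul {d : ℕ} {p : Ideal A} [p.IsPrime] (t : A) (ht : t ∉ p)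
    (x : DividedPowerAlgebra A M) (hx : t • x ∈ Wp (M := M) d p) : x ∈ Wp (M := M) d p := by
  obtain ⟨s, hs, h⟩ := hx
  refine ⟨s * t, fun h => (Ideal.IsPrime.mem_or_mem ‹_› h).elim hs ht, ?_⟩
  rw [mul_smul]
  exact h

/-- case (i): enough points with differences outside `p` -/
theorem prod_mem_Wp_of_points (d : ℕ) (p : Ideal A) [p.IsPrime] (s : Fin d → A)
    (hs : ∀ i j, i ≠ j → s i - s j ∉ p) :
    ∀ (n : ℕ) (k : Fin n → ℕ) (m : Fin n → M), (∑ i, k i) = d →
      ∏ i, dp A (k i) (m i) ∈ Wp (M := M) d p := by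
  intro n
  induction n using Nat.strong_induction_on with
  | _ n ih =>
    intro k m hk
    match n, ih, k, m, hk with
    | 0, _, k, m, hk =>
      apply W_le_Wp
      rw [Finset.univ_eq_empty, Finset.sum_empty] at hk
      rw [Finset.univ_eq_empty, Finset.prod_empty, ← hk, ← dp_zero (R := A) (m := (0 : M))]
      exact Submodule.subset_span ⟨0, rfl⟩
    | 1, _, k, m, hk =>
      apply W_le_Wp
      rw [Fin.sum_univ_one] at hk
      rw [Fin.prod_univ_one, hk]
      exact Submodule.subset_span ⟨m 0, rfl⟩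
    | n + 2, ih, k, m, hk =>
      have hk' : k 0 + k 1 + ∑ i : Fin n, k i.succ.succ = d := by
        rw [← hk, Fin.sum_univ_succ, Fin.sum_univ_succ, ← add_assoc]
        rfl
      have hprod : ∏ i, dp A (k i) (m i) = dp A (k 0) (m 0) * dp A (k 1) (m 1) *
          ∏ i : Fin n, dp A (k i.succ.succ) (m i.succ.succ) := by
        rw [Fin.prod_univ_succ, Fin.prod_univ_succ, ← mul_assoc]
        rfl
      rw [hprod]
      set R := ∏ i : Fin n, dp A (k i.succ.succ) (m i.succ.succ) with hR
      set N := k 0 + k 1 with hN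
      have hNd : N ≤ d := by omega
      -- the top coefficient
      have htop : dp A N (m 1) * R ∈ Wp (M := M) d p := by
        have h1 := ih (n + 1) (by omega)
          (Fin.cons N (fun i : Fin n => k i.succ.succ))
          (Fin.cons (m 1) (fun i : Fin n => m i.succ.succ))
          (by
            rw [Fin.sum_univ_succ]
            simp only [Fin.cons_zero, Fin.cons_succ]
            exact hk')
        rw [Fin.prod_univ_succ] at h1
        simp only [Fin.cons_zero, Fin.cons_succ] at h1
        exact h1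
      by_cases hk0 : k 0 = 0
      · rw [hk0, dp_zero, one_mul]
        have : N = k 1 := by omega
        rw [← this]
        exact htop
      · -- the lower coefficients
        let c : Fin N → DividedPowerAlgebra A M := fun q =>
          dp A (N - q) (m 0) * dp A q (m 1) * R
        let v : Fin N → A := fun j => s ⟨j, by have := j.2; omega⟩
        have hc : ∀ j : Fin N, ∑ q : Fin N, (v j) ^ (q : ℕ) • c q ∈ Wp (M := M) d p := by
          intro j
          have h1 := ih (n + 1) (by omega)
            (Fin.cons N (fun i : Fin n => k i.succ.succ))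
            (Fin.cons (m 0 + v j • m 1) (fun i : Fin n => m i.succ.succ))
            (by
              rw [Fin.sum_univ_succ]
              simp only [Fin.cons_zero, Fin.cons_succ]
              exact hk')
          rw [Fin.prod_univ_succ] at h1
          simp only [Fin.cons_zero, Fin.cons_succ] at h1
          rw [dp_add_smul, Finset.sum_mul, Fin.sum_univ_castSucc] at h1
          simp only [Fin.val_castSucc, Fin.val_last, Nat.sub_self, dp_zero, one_mul] at h1
          have h2 : ∑ q : Fin N, (v j) ^ (q : ℕ) • c q =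
              (∑ q : Fin N, (v j ^ (q : ℕ) • (dp A (N - q) (m 0) * dp A q (m 1))) * R +
                (v j ^ N • dp A N (m 1)) * R) - v j ^ N • (dp A N (m 1) * R) := by
            rw [smul_mul_assoc, add_sub_cancel_right]
            refine Finset.sum_congr rfl fun q _ => ?_
            simp only [c]
            rw [smul_mul_assoc]
          rw [h2]
          exact Submodule.sub_mem _ h1 (Submodule.smul_mem _ _ htop)
        have h3 := det_smul_mem (Wp (M := M) d p) v c hc ⟨k 1, by omega⟩
        have hdet : (Matrix.vandermonde v).det ∉ p := by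
          rw [Matrix.det_vandermonde]
          intro hmem
          obtain ⟨i, -, hi⟩ := Ideal.IsPrime.prod_mem_iff.mp hmem
          obtain ⟨j, hj, hij⟩ := Ideal.IsPrime.prod_mem_iff.mp hi
          have hlt : i < j := Finset.mem_Ioi.mp hj
          refine hs ⟨j, by have := j.2; omega⟩ ⟨i, by have := i.2; omega⟩ ?_ hij
          intro heq
          have := congrArg Fin.val heq
          simp only at this
          have := Fin.lt_def.mp hlt
          omega
        have h4 := mem_Wp_of_smul _ hdet _ h3
        simp only [c] at h4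
        have h5 : N - k 1 = k 0 := by omega
        rw [h5] at h4
        exact h4

/-- case (ii): `M_p` cyclic -/
theorem prod_mem_Wp_of_cyclic (d : ℕ) (p : Ideal A) [p.IsPrime] (m₀ : M)
    (hm₀ : ∀ m : M, ∃ σ : A, σ ∉ p ∧ ∃ a : A, σ • m = a • m₀)
    (n : ℕ) (k : Fin n → ℕ) (m : Fin n → M) (hk : (∑ i, k i) = d) :
    ∏ i, dp A (k i) (m i) ∈ Wp (M := M) d p := by
  choose σ hσ a ha using hm₀
  refine ⟨∏ i, (σ (m i)) ^ (k i), ?_, ?_⟩
  · intro h
    obtain ⟨i, -, hi⟩ := Ideal.IsPrime.prod_mem_iff.mp h
    exact hσ _ (Ideal.IsPrime.mem_of_pow_mem ‹_› _ hi)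
  · rw [← Finset.prod_smul]
    have h1 : ∀ i, σ (m i) ^ k i • dp A (k i) (m i) = a (m i) ^ k i • dp A (k i) m₀ := by
      intro i
      rw [← dp_smul, ha, dp_smul]
    rw [Finset.prod_congr rfl (fun i _ => h1 i), Finset.prod_smul, prod_dp, hk, ← nsmul_eq_mul]
    exact Submodule.smul_mem _ _ (Submodule.smul_of_tower_mem _ _
      (Submodule.subset_span ⟨m₀, rfl⟩))

theorem exists_gen (p : Ideal A) [p.IsPrime]
    (h : ∃ x : LocalizedModule p.primeCompl M,
      Submodule.span (Localization.AtPrime p) {x} = ⊤) :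
    ∃ m₀ : M, ∀ m : M, ∃ σ : A, σ ∉ p ∧ ∃ a : A, σ • m = a • m₀ := by
  obtain ⟨x, hx⟩ := h
  induction x using LocalizedModule.induction_on with
  | _ m₀ s₀ =>
    refine ⟨m₀, fun m => ?_⟩
    have hm : LocalizedModule.mk m (1 : p.primeCompl) ∈
        Submodule.span (Localization.AtPrime p) {LocalizedModule.mk m₀ s₀} := by
      rw [hx]
      trivial
    obtain ⟨r, hr⟩ := Submodule.mem_span_singleton.mp hm
    induction r using Localization.induction_on with
    | _ y =>
      obtain ⟨a, t⟩ := y
      rw [LocalizedModule.mk_smul_mk, LocalizedModule.mk_eq] at hr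
      obtain ⟨u, hu⟩ := hr
      refine ⟨(u : A) * ((t : A) * (s₀ : A)), ?_, (u : A) * a, ?_⟩
      · intro hmem
        rcases Ideal.IsPrime.mem_or_mem ‹_› hmem with h1 | h1
        · exact u.2 h1
        · rcases Ideal.IsPrime.mem_or_mem ‹_› h1 with h2 | h2
          · exact t.2 h2
          · exact s₀.2 h2
      · simp only [Submonoid.smul_def, Submonoid.coe_mul, Submonoid.coe_one, one_smul] at hu
        rw [mul_smul, ← hu, mul_smul]

theorem exists_points (d : ℕ) (p : Ideal A) [p.IsPrime]
    (h : (d : Cardinal) ≤ Cardinal.mk p.ResidueField) :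
    ∃ s : Fin d → A, ∀ i j, i ≠ j → s i - s j ∉ p := by
  classical
  have h1 : Cardinal.lift.{u} (Cardinal.mk (Fin d)) ≤ Cardinal.lift.{0} (Cardinal.mk p.ResidueField) := by
    simpa using h
  obtain ⟨f⟩ := Cardinal.lift_mk_le'.mp h1
  have hsurj : Function.Surjective (IsLocalRing.residue (Localization.AtPrime p)) :=
    Ideal.Quotient.mk_surjective
  choose g hg using fun i => hsurj (f i)
  obtain ⟨b, hb⟩ := IsLocalization.exist_integer_multiples p.primeCompl
    (Finset.univ : Finset (Fin d)) g
  choose a ha using fun i => hb i (Finset.mem_univ i)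
  refine ⟨a, fun i j hij hmem => hij ?_⟩
  apply f.injective
  have h2 : algebraMap A (Localization.AtPrime p) (a i - a j) ∈
      IsLocalRing.maximalIdeal (Localization.AtPrime p) :=
    (IsLocalization.AtPrime.to_map_mem_maximal_iff (Localization.AtPrime p) p _).mpr hmem
  have h3 : IsLocalRing.residue (Localization.AtPrime p)
      (algebraMap A (Localization.AtPrime p) (a i - a j)) = 0 :=
    (IsLocalRing.residue_eq_zero_iff _).mpr h2
  rw [map_sub, ha, ha, map_sub, Algebra.smul_def, Algebra.smul_def, map_mul, map_mul, hg, hg,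
    ← mul_sub] at h3
  have hbu : IsLocalRing.residue (Localization.AtPrime p)
      (algebraMap A (Localization.AtPrime p) (b : A)) ≠ 0 := by
    intro h0
    have h4 := (IsLocalRing.residue_eq_zero_iff _).mp h0
    exact b.2 ((IsLocalization.AtPrime.to_map_mem_maximal_iff (Localization.AtPrime p) p _).mp h4)
  exact sub_eq_zero.mp ((mul_eq_zero.mp h3).resolve_left hbu)

/-- **the local criterion** -/
theorem span_dp_eq (d : ℕ)
    (h : ∀ p : PrimeSpectrum A, (d : Cardinal) ≤ Cardinal.mk p.asIdeal.ResidueField ∨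
      ∃ x : LocalizedModule p.asIdeal.primeCompl M,
        Submodule.span (Localization.AtPrime p.asIdeal) {x} = ⊤)
    (n : ℕ) (k : Fin n → ℕ) (m : Fin n → M) (hk : (∑ i, k i) = d) :
    ∏ i, dp A (k i) (m i) ∈ W (A := A) (M := M) d := by
  set x := ∏ i, dp A (k i) (m i) with hx
  let I : Ideal A := (W (A := A) (M := M) d).comap (LinearMap.toSpanSingleton A _ x)
  have hI : ∀ a : A, a ∈ I ↔ a • x ∈ W (A := A) (M := M) d := fun a => Iff.rfl
  by_contra hcon
  have hne : I ≠ ⊤ := by
    intro htop
    apply hcon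
    have : (1 : A) ∈ I := by rw [htop]; trivial
    rw [hI, one_smul] at this
    exact this
  obtain ⟨P, hP, hIP⟩ := Ideal.exists_le_maximal I hne
  haveI : P.IsPrime := hP.isPrime
  have hmem : x ∈ Wp (M := M) d P := by
    rcases h ⟨P, inferInstance⟩ with h1 | h1
    · obtain ⟨s, hs⟩ := exists_points d P h1
      exact prod_mem_Wp_of_points d P s hs n k m hk
    · obtain ⟨m₀, hm₀⟩ := exists_gen P h1
      exact prod_mem_Wp_of_cyclic d P m₀ hm₀ n k m hk
  obtain ⟨s, hs, hsx⟩ := hmem
  exact hs (hIP ((hI s).mpr hsx))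

end Groth.Agent.Lib.Helper15.DpSpanLocal
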