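import Mathlib
import Groth.Prelude.Def_FlatCA
import Groth.Agent.Lib.Helper15.FB1

/-!
# Transfer of flatness-at-a-point along flat base change of the algebra, and along ring maps
(helper15, for S1250)
-/

set_option autoImplicit false
set_option linter.style.haveILetI false
set_option linter.unusedSectionVars false
set_option linter.style.longLine false
set_option linter.unusedVariables false

universe u

namespace Groth.Agent.Lib.Helper15.ED

open TensorProduct Groth.Agent.Lib.Helper18

section FF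

variable {S S' : Type u} [CommRing S] [CommRing S'] [Algebra S S'] [Module.Flat S S']

/-- annihilators and flat base change, at a prime -/
theorem exists_smul_eq_zero_of_tmul_eq_zero {W : Type u} [AddCommGroup W] [Module S W]
    (J : Ideal S) (J' : Ideal S') (hJ : J.map (algebraMap S S') ≤ J')
    (w : W) (t' : S') (ht' : t' ∉ J') (h : t' ⊗ₜ[S] w = (0 : S' ⊗[S] W)) :
    ∃ t ∉ J, t • w = 0 := by
  by_contra hcon
  push Not at hcon
  let μ : S →ₗ[S] W := LinearMap.toSpanSingleton S W w
  have hx : (AlgebraTensorModule.lTensor S' S' μ) (t' ⊗ₜ[S] (1 : S)) = 0 := by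
    rw [AlgebraTensorModule.lTensor_tmul]
    simp only [μ, LinearMap.toSpanSingleton_apply, one_smul]
    exact h
  have hker := Module.Flat.ker_lTensor_eq S' S' μ
  have hmem : t' ⊗ₜ[S] (1 : S) ∈ LinearMap.ker (AlgebraTensorModule.lTensor S' S' μ) := hx
  rw [hker] at hmem
  obtain ⟨u, hu⟩ := hmem
  have hclaim : ∀ u : S' ⊗[S] (LinearMap.ker μ),
      (AlgebraTensorModule.rid S S' S') ((AlgebraTensorModule.lTensor S' S' (LinearMap.ker μ).subtype) u) ∈ J' := by
    intro u
    induction u using TensorProduct.induction_on with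
    | zero => simp
    | tmul s' a =>
      rw [AlgebraTensorModule.lTensor_tmul, AlgebraTensorModule.rid_tmul, Submodule.subtype_apply,
        Algebra.smul_def]
      have ha : (a : S) • w = 0 := by
        have := a.2
        rw [LinearMap.mem_ker, LinearMap.toSpanSingleton_apply] at this
        exact this
      have haJ : (a : S) ∈ J := by
        by_contra hn
        exact hcon _ hn ha
      exact Ideal.mul_mem_right _ _ (hJ (Ideal.mem_map_of_mem _ haJ))
    | add a b ha hb =>
      rw [map_add, map_add]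
      exact Ideal.add_mem _ ha hb
  have := hclaim u
  rw [hu, AlgebraTensorModule.rid_tmul, one_smul] at this
  exact ht' this

theorem exists_smul_eq_zero_of_isBaseChange {W W' : Type u} [AddCommGroup W] [Module S W]
    [AddCommGroup W'] [Module S W'] [Module S' W'] [IsScalarTower S S' W']
    (ψ : W →ₗ[S] W') (hψ : IsBaseChange S' ψ)
    (J : Ideal S) (J' : Ideal S') (hJ : J.map (algebraMap S S') ≤ J')
    (w : W) (t' : S') (ht' : t' ∉ J') (h : t' • ψ w = 0) :
    ∃ t ∉ J, t • w = 0 := by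
  apply exists_smul_eq_zero_of_tmul_eq_zero J J' hJ w t' ht'
  have h1 : hψ.equiv.symm (t' • ψ w) = t' ⊗ₜ[S] w := by
    rw [map_smul, hψ.equiv_symm_apply, TensorProduct.smul_tmul', smul_eq_mul, mul_one]
  rw [← h1, h, map_zero]

theorem exists_smul_eq_zero_of_mem_ker_lTensor {W₁ W₂ : Type u} [AddCommGroup W₁] [Module S W₁]
    [AddCommGroup W₂] [Module S W₂] (T : Submonoid S) (l : W₁ →ₗ[S] W₂)
    (H : ∀ w, l w = 0 → ∃ t ∈ T, t • w = 0) (v : S' ⊗[S] W₁)
    (hv : AlgebraTensorModule.lTensor S' S' l v = 0) :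
    ∃ t ∈ T, (algebraMap S S' t) • v = 0 := by
  have hker := Module.Flat.ker_lTensor_eq S' S' l
  have hmem : v ∈ LinearMap.ker (AlgebraTensorModule.lTensor S' S' l) := hv
  rw [hker] at hmem
  obtain ⟨u, rfl⟩ := hmem
  have hclaim : ∀ u : S' ⊗[S] (LinearMap.ker l), ∃ t ∈ T, (algebraMap S S' t) • u = 0 := by
    intro u
    induction u using TensorProduct.induction_on with
    | zero => exact ⟨1, T.one_mem, smul_zero _⟩
    | tmul s' a =>
      obtain ⟨t, ht, hta⟩ := H a.1 a.2
      refine ⟨t, ht, ?_⟩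
      rw [TensorProduct.smul_tmul', algebraMap_smul, TensorProduct.smul_tmul]
      have : t • a = 0 := Subtype.ext hta
      rw [this, TensorProduct.tmul_zero]
    | add a b ha hb =>
      obtain ⟨t₁, ht₁, h₁⟩ := ha
      obtain ⟨t₂, ht₂, h₂⟩ := hb
      refine ⟨t₁ * t₂, T.mul_mem ht₁ ht₂, ?_⟩
      have e1 : (algebraMap S S' (t₁ * t₂)) • a = 0 := by
        rw [map_mul, mul_comm, mul_smul, h₁, smul_zero]
      have e2 : (algebraMap S S' (t₁ * t₂)) • b = 0 := by
        rw [map_mul, mul_smul, h₂, smul_zero]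
      rw [smul_add, e1, e2, add_zero]
  obtain ⟨t, ht, htu⟩ := hclaim u
  exact ⟨t, ht, by rw [← map_smul, htu, map_zero]⟩

theorem exists_smul_eq_zero_of_mem_ker {W₁ W₂ W₁' W₂' : Type u} [AddCommGroup W₁] [Module S W₁]
    [AddCommGroup W₂] [Module S W₂]
    [AddCommGroup W₁'] [Module S W₁'] [Module S' W₁'] [IsScalarTower S S' W₁']
    [AddCommGroup W₂'] [Module S W₂'] [Module S' W₂'] [IsScalarTower S S' W₂']
    (ψ₁ : W₁ →ₗ[S] W₁') (hψ₁ : IsBaseChange S' ψ₁) (ψ₂ : W₂ →ₗ[S] W₂') (hψ₂ : IsBaseChange S' ψ₂)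
    (l : W₁ →ₗ[S] W₂) (l' : W₁' →ₗ[S'] W₂') (hcomm : ∀ w, l' (ψ₁ w) = ψ₂ (l w))
    (T : Submonoid S) (H : ∀ w, l w = 0 → ∃ t ∈ T, t • w = 0) (w' : W₁') (hw' : l' w' = 0) :
    ∃ t ∈ T, (algebraMap S S' t) • w' = 0 := by
  have nat : ∀ v : S' ⊗[S] W₁, hψ₂.equiv (AlgebraTensorModule.lTensor S' S' l v) = l' (hψ₁.equiv v) := by
    intro v
    induction v using TensorProduct.induction_on with
    | zero => simp
    | tmul s' w =>
      rw [AlgebraTensorModule.lTensor_tmul, hψ₂.equiv_tmul, hψ₁.equiv_tmul, map_smul, hcomm]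
    | add a b ha hb => rw [map_add, map_add, ha, hb, map_add, map_add]
  have hv : AlgebraTensorModule.lTensor S' S' l (hψ₁.equiv.symm w') = 0 := by
    apply hψ₂.equiv.injective
    rw [nat, LinearEquiv.apply_symm_apply, hw', map_zero]
  obtain ⟨t, ht, htv⟩ := exists_smul_eq_zero_of_mem_ker_lTensor T l H _ hv
  refine ⟨t, ht, ?_⟩
  have := congrArg hψ₁.equiv htv
  rw [map_smul, LinearEquiv.apply_symm_apply, map_zero] at this
  exact this

end FF

end Groth.Agent.Lib.Helper15.ED
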