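import Mathlib
import Groth.Prelude.Def_FlatCA
import Groth.Agent.Lib.Helper15.ED1

/-!
# Flatness at a point: flat base change of the algebra (both directions), change of rings,
saturation for a unique prime in a finite extension (helper15, for S1250)
-/

set_option autoImplicit false
set_option linter.style.haveILetI false
set_option linter.unusedSectionVars false
set_option linter.style.longLine false
set_option linter.unusedVariables false

universe u

namespace Groth.Agent.Lib.Helper15.ED

open TensorProduct Groth.Agent.Lib.Helper18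

section LemA

variable {R S S' : Type u} [CommRing R] [CommRing S] [CommRing S'] [Algebra R S] [Algebra S S']
  [Algebra R S'] [IsScalarTower R S S'] [Module.Flat S S']
  {N N' : Type u} [AddCommGroup N] [Module S N] [Module R N] [IsScalarTower R S N]
  [AddCommGroup N'] [Module S' N'] [Module S N'] [Module R N'] [IsScalarTower S S' N']
  [IsScalarTower R S N'] [IsScalarTower R S' N']
  (φ : N →ₗ[S] N') (hφ : IsBaseChange S' φ)

theorem lTensor_comm_map (I : Ideal R) (w : N ⊗[R] I) :
    (AlgebraTensorModule.lTensor S' N' (I.subtype)) ((AlgebraTensorModule.map φ (LinearMap.id : I →ₗ[R] I)) w) =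
      (AlgebraTensorModule.map φ (LinearMap.id : R →ₗ[R] R)) ((AlgebraTensorModule.lTensor S N (I.subtype)) w) := by
  induction w using TensorProduct.induction_on with
  | zero => simp
  | tmul n i => simp
  | add a b ha hb => rw [map_add, map_add, ha, hb, map_add, map_add]

include hφ in
theorem flat_baseChange_of_flat (T : Submonoid S) (T' : Submonoid S')
    (hT : ∀ t ∈ T, algebraMap S S' t ∈ T')
    (h : Module.Flat R (LocalizedModule T N)) : Module.Flat R (LocalizedModule T' N') := by
  rw [FACP.flat_isLocalizedModule_iff (R := R) T (LocalizedModule.mkLinearMap T N)] at h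
  rw [FACP.flat_isLocalizedModule_iff (R := R) T' (LocalizedModule.mkLinearMap T' N')]
  intro I w' hw'
  have hI := isBaseChange_tensorProduct_map (R := R) (S := S) (P := I) S' hφ
  have hR := isBaseChange_tensorProduct_map (R := R) (S := S) (P := R) S' hφ
  obtain ⟨t, ht, htw⟩ := exists_smul_eq_zero_of_mem_ker
    (AlgebraTensorModule.map φ (LinearMap.id : I →ₗ[R] I)) hI
    (AlgebraTensorModule.map φ (LinearMap.id : R →ₗ[R] R)) hR
    (AlgebraTensorModule.lTensor S N (I.subtype))
    (AlgebraTensorModule.lTensor S' N' (I.subtype))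
    (lTensor_comm_map (S' := S') φ I) T (fun w hw => h I w hw) w' hw'
  exact ⟨_, hT t ht, htw⟩

include hφ in
theorem flat_of_flat_baseChange (q : Ideal S) [q.IsPrime] (q' : Ideal S') [q'.IsPrime]
    (hq : q.map (algebraMap S S') ≤ q')
    (h : Module.Flat R (LocalizedModule q'.primeCompl N')) :
    Module.Flat R (LocalizedModule q.primeCompl N) := by
  rw [FACP.flat_isLocalizedModule_iff (R := R) q'.primeCompl
    (LocalizedModule.mkLinearMap q'.primeCompl N')] at h
  rw [FACP.flat_isLocalizedModule_iff (R := R) q.primeCompl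
    (LocalizedModule.mkLinearMap q.primeCompl N)]
  intro I w hw
  have hI := isBaseChange_tensorProduct_map (R := R) (S := S) (P := I) S' hφ
  have hw' : LinearMap.lTensor N' I.subtype
      ((AlgebraTensorModule.map φ (LinearMap.id : I →ₗ[R] I)) w) = 0 := by
    have := lTensor_comm_map (S' := S') φ I w
    rw [AlgebraTensorModule.coe_lTensor (A := S'), AlgebraTensorModule.coe_lTensor (A := S)] at this
    rw [this, hw, map_zero]
  obtain ⟨t', ht', htw'⟩ := h I _ hw'
  obtain ⟨t, ht, htw⟩ := exists_smul_eq_zero_of_isBaseChange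
    (AlgebraTensorModule.map φ (LinearMap.id : I →ₗ[R] I)) hI q q' hq w t' ht' htw'
  exact ⟨t, ht, htw⟩

end LemA

section LemE

variable {R A B : Type u} [CommRing R] [CommRing A] [CommRing B] [Algebra R A] [Algebra R B]
  [Algebra A B]
  {G : Type u} [AddCommGroup G] [Module R G] [Module A G] [Module B G] [IsScalarTower A B G]
  [IsScalarTower R A G] [IsScalarTower R B G]

theorem smul_tensor_eq (I : Ideal R) (a : A) (z : G ⊗[R] I) :
    a • z = (algebraMap A B a) • z := by
  induction z using TensorProduct.induction_on with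
  | zero => simp
  | tmul g i => rw [TensorProduct.smul_tmul', TensorProduct.smul_tmul', algebraMap_smul]
  | add x y hx hy => rw [smul_add, smul_add, hx, hy]

theorem flat_localizedModule_of_algebraMap_mem (TA : Submonoid A) (TB : Submonoid B)
    (h : ∀ t ∈ TA, algebraMap A B t ∈ TB)
    (hf : Module.Flat R (LocalizedModule TA G)) : Module.Flat R (LocalizedModule TB G) := by
  rw [FACP.flat_isLocalizedModule_iff (R := R) TA (LocalizedModule.mkLinearMap TA G)] at hf
  rw [FACP.flat_isLocalizedModule_iff (R := R) TB (LocalizedModule.mkLinearMap TB G)]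
  intro I z hz
  obtain ⟨t, ht, htz⟩ := hf I z hz
  exact ⟨_, h t ht, by rw [← smul_tensor_eq]; exact htz⟩

theorem flat_localizedModule_of_exists_mul (TA : Submonoid A) (TB : Submonoid B)
    (h : ∀ s ∈ TB, ∃ c : B, ∃ t ∈ TA, s * c = algebraMap A B t)
    (hf : Module.Flat R (LocalizedModule TB G)) : Module.Flat R (LocalizedModule TA G) := by
  rw [FACP.flat_isLocalizedModule_iff (R := R) TB (LocalizedModule.mkLinearMap TB G)] at hf
  rw [FACP.flat_isLocalizedModule_iff (R := R) TA (LocalizedModule.mkLinearMap TA G)]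
  intro I z hz
  obtain ⟨s, hs, hsz⟩ := hf I z hz
  obtain ⟨c, t, ht, hct⟩ := h s hs
  refine ⟨t, ht, ?_⟩
  rw [smul_tensor_eq (B := B), ← hct, mul_comm, mul_smul, hsz, smul_zero]

end LemE

section Sat

variable {D C : Type u} [CommRing D] [CommRing C] [Algebra D C] [Algebra.IsIntegral D C]

theorem exists_mul_eq_algebraMap (y : Ideal D) [y.IsPrime] (z : Ideal C) [z.IsPrime]
    (uniq : ∀ (z₁ : Ideal C) [z₁.IsPrime], z₁.LiesOver y → z₁ = z) (s : C) (hs : s ∉ z) :
    ∃ c : C, ∃ t ∉ y, s * c = algebraMap D C t := by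
  by_contra hcon
  push Not at hcon
  have hdisj : Disjoint ((Ideal.span {s} : Ideal C) : Set C)
      (Algebra.algebraMapSubmonoid C y.primeCompl : Set C) := by
    rw [Set.disjoint_left]
    rintro x hx ⟨t, ht, rfl⟩
    rw [SetLike.mem_coe, Ideal.mem_span_singleton'] at hx
    obtain ⟨c, hc⟩ := hx
    exact hcon c t ht (by rw [mul_comm]; exact hc)
  obtain ⟨P, hP, hsP, hPdisj⟩ := Ideal.exists_le_prime_disjoint _ _ hdisj
  haveI := hP
  have hle : P.comap (algebraMap D C) ≤ y := by
    intro d hd
    by_contra hdy
    exact Set.disjoint_left.mp hPdisj hd ⟨d, hdy, rfl⟩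
  obtain ⟨Q, hPQ, hQ, hQy⟩ := Ideal.exists_ideal_over_prime_of_isIntegral y P hle
  haveI := hQ
  have : Q = z := uniq Q ⟨hQy.symm⟩
  apply hs
  rw [← this]
  exact hPQ (hsP (Ideal.subset_span rfl))

end Sat

section Local

variable {R S : Type u} [CommRing R] [CommRing S] [Algebra R S]
  {X : Type u} [AddCommGroup X] [Module S X] [Module R X] [IsScalarTower R S X]

theorem flat_away_of_forall_prime (g : S)
    (h : ∀ (P : Ideal S) [P.IsPrime], g ∉ P → Module.Flat R (LocalizedModule P.primeCompl X)) :
    Module.Flat R (LocalizedModule (Submonoid.powers g) X) := by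
  rw [FACP.flat_isLocalizedModule_iff (R := R) (Submonoid.powers g)
    (LocalizedModule.mkLinearMap (Submonoid.powers g) X)]
  intro I z hz
  obtain ⟨n, hn⟩ := FB.exists_pow_smul_eq_zero (S := S) (W := X ⊗[R] I) g z (by
    intro P _ hgP
    have hP := h P hgP
    rw [FACP.flat_isLocalizedModule_iff (R := R) P.primeCompl
      (LocalizedModule.mkLinearMap P.primeCompl X)] at hP
    obtain ⟨t, ht, htz⟩ := hP I z hz
    exact ⟨t, ht, htz⟩)
  exact ⟨_, ⟨n, rfl⟩, hn⟩

end Local

end Groth.Agent.Lib.Helper15.ED
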