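import Mathlib
import Groth.Prelude.Def_FlatCA
import Groth.Agent.Lib.Helper15.ED2
import Groth.Agent.Lib.Helper25.FlatEtale

/-!
# S1250 in abstract form: flatness along an elementary dévissage
-/

set_option autoImplicit false
set_option linter.style.haveILetI false
set_option linter.unusedSectionVars false
set_option linter.style.longLine false
set_option linter.unusedVariables false

universe u

namespace Groth.Agent.Lib.Helper15.ED

open TensorProduct Groth.Agent.Lib.Helper18

section Tower

variable {R R' S' : Type u} [CommRing R] [CommRing R'] [CommRing S'] [Algebra R R'] [Algebra R S']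
  [Algebra R' S'] {M : Type u} [AddCommGroup M] [Module S' M] [Module R M] [Module R' M]
  [IsScalarTower R S' M] [IsScalarTower R' S' M] [IsScalarTower R R' M]

theorem isScalarTower_localizedModule (T : Submonoid S') :
    IsScalarTower R R' (LocalizedModule T M) := by
  constructor
  intro r t x
  induction x using LocalizedModule.induction_on with
  | h m s =>
    rw [LocalizedModule.smul'_mk, LocalizedModule.smul'_mk, LocalizedModule.smul'_mk, smul_assoc]

theorem flat_iff_of_etale_localized [Algebra.Etale R R'] (T : Submonoid S') :
    Module.Flat R (LocalizedModule T M) ↔ Module.Flat R' (LocalizedModule T M) := by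
  haveI := isScalarTower_localizedModule (R := R) (R' := R') (M := M) T
  exact Groth.Agent.Lib.Helper25.FlatEtale.flat_iff_of_etale (R := R) (T := R') (LocalizedModule T M)

end Tower

section Main

variable {R S R' S' C D : Type u} [CommRing R] [CommRing S] [CommRing R'] [CommRing S']
  [CommRing C] [CommRing D]
  [Algebra R S] [Algebra R R'] [Algebra S S'] [Algebra R' S'] [Algebra R S']
  [IsScalarTower R R' S'] [IsScalarTower R S S']
  [Algebra S' C] [Algebra D C] [Algebra R' D] [Algebra R' C] [IsScalarTower R' D C]
  [IsScalarTower R' S' C]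
  {N : Type u} [AddCommGroup N] [Module S N] [Module R N] [IsScalarTower R S N]
  {N' : Type u} [AddCommGroup N'] [Module S' N'] [Module S N'] [IsScalarTower S S' N']
  {G : Type u} [AddCommGroup G] [Module C G] [Module S' G] [IsScalarTower S' C G] [Module D G]
  [IsScalarTower D C G] [Module R' G] [IsScalarTower R' C G] [IsScalarTower R' D G]
  [Algebra.Etale R R'] [Algebra.Etale S S']
  (q : Ideal S) [q.IsPrime] (q' : Ideal S') [q'.IsPrime] (z : Ideal C) [z.IsPrime]
  (y : Ideal D) [y.IsPrime] [q'.LiesOver q] [z.LiesOver q'] [z.LiesOver y]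
  (φ : N →ₗ[S] N') (hφ : IsBaseChange S' φ) (surjC : Function.Surjective (algebraMap S' C))
  (iso : N' ≃ₗ[S'] G) [Module.Finite D C]
  (uniq : ∀ (z₁ : Ideal C) [z₁.IsPrime], z₁.LiesOver y → z₁ = z)

omit [IsScalarTower R' D C] [IsScalarTower R' D G] [IsScalarTower D C G] in
theorem isScalarTower_R'S'G (C : Type u) [CommRing C] [Algebra S' C] [Algebra R' C]
    [IsScalarTower R' S' C] [Module C G] [IsScalarTower S' C G] [IsScalarTower R' C G] :
    IsScalarTower R' S' G :=
  IsScalarTower.of_algebraMap_smul fun r x => by
    rw [← algebraMap_smul C (algebraMap R' S' r) x, ← IsScalarTower.algebraMap_apply R' S' C,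
      algebraMap_smul]

include q in
theorem notMem_q' {t : S} (ht : t ∉ q) : algebraMap S S' t ∉ q' := by
  intro h
  apply ht
  rw [Ideal.LiesOver.over (p := q) (P := q'), Ideal.under_def, Ideal.mem_comap]
  exact h

include q' in
theorem notMem_z {t : S'} (ht : t ∉ q') : algebraMap S' C t ∉ z := by
  intro h
  apply ht
  rw [Ideal.LiesOver.over (p := q') (P := z), Ideal.under_def, Ideal.mem_comap]
  exact h

include y in
theorem notMem_z' {t : D} (ht : t ∉ y) : algebraMap D C t ∉ z := by
  intro h
  apply ht
  rw [Ideal.LiesOver.over (p := y) (P := z), Ideal.under_def, Ideal.mem_comap]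
  exact h

include iso in
/-- transfer between `N` localized at `T ⊆ S` (over `R`) and `G` localized at `TC ⊆ C` (over `R'`),
forward direction -/
theorem flat_G_of_flat_N (T : Submonoid S) (T' : Submonoid S') (TC : Submonoid C)
    (hT : ∀ t ∈ T, algebraMap S S' t ∈ T') (hT' : ∀ t ∈ T', algebraMap S' C t ∈ TC)
    (hφ : IsBaseChange S' φ)
    (h : Module.Flat R (LocalizedModule T N)) : Module.Flat R' (LocalizedModule TC G) := by
  letI mR : Module R N' := Module.compHom N' (algebraMap R S)
  haveI tRS : IsScalarTower R S N' := ⟨fun r s x => by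
    show (r • s) • x = (algebraMap R S r) • (s • x)
    rw [Algebra.smul_def, mul_smul]⟩
  haveI tRS' : IsScalarTower R S' N' := IsScalarTower.of_algebraMap_smul fun r x => by
    show algebraMap R S' r • x = algebraMap R S r • x
    rw [IsScalarTower.algebraMap_apply R S S', algebraMap_smul]
  letI mR' : Module R' N' := Module.compHom N' (algebraMap R' S')
  haveI tR'S' : IsScalarTower R' S' N' := IsScalarTower.of_algebraMap_smul fun r x => rfl
  haveI tRR' : IsScalarTower R R' N' := IsScalarTower.of_algebraMap_smul fun r x => by
    show algebraMap R' S' (algebraMap R R' r) • x = r • x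
    rw [← IsScalarTower.algebraMap_apply R R' S', algebraMap_smul]
  haveI := isScalarTower_R'S'G (R' := R') (S' := S') (G := G) C
  have h1 : Module.Flat R (LocalizedModule T' N') := flat_baseChange_of_flat φ hφ T T' hT h
  have h2 : Module.Flat R' (LocalizedModule T' N') :=
    (flat_iff_of_etale_localized (R := R) (R' := R') T').mp h1
  have h3 : Module.Flat R' (LocalizedModule T' G) :=
    (FACP.flat_localizedModule_congr (R := R') T' iso).mp h2
  exact flat_localizedModule_of_algebraMap_mem (A := S') (B := C) T' TC hT' h3

include iso in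
/-- backward direction, to `N'` localized at `T' ⊆ S'` over `R` -/
theorem flat_N'_of_flat_G (T' : Submonoid S') (TC : Submonoid C)
    (hT' : ∀ s ∈ TC, ∃ c : C, ∃ t ∈ T', s * c = algebraMap S' C t)
    [Module R N'] [IsScalarTower R S N'] [IsScalarTower R S' N']
    (h : Module.Flat R' (LocalizedModule TC G)) : Module.Flat R (LocalizedModule T' N') := by
  letI mR' : Module R' N' := Module.compHom N' (algebraMap R' S')
  haveI tR'S' : IsScalarTower R' S' N' := IsScalarTower.of_algebraMap_smul fun r x => rfl
  haveI tRR' : IsScalarTower R R' N' := IsScalarTower.of_algebraMap_smul fun r x => by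
    show algebraMap R' S' (algebraMap R R' r) • x = r • x
    rw [← IsScalarTower.algebraMap_apply R R' S', algebraMap_smul]
  haveI := isScalarTower_R'S'G (R' := R') (S' := S') (G := G) C
  have h3 : Module.Flat R' (LocalizedModule T' G) :=
    flat_localizedModule_of_exists_mul (A := S') (B := C) T' TC hT' h
  have h2 : Module.Flat R' (LocalizedModule T' N') :=
    (FACP.flat_localizedModule_congr (R := R') T' iso).mpr h3
  exact (flat_iff_of_etale_localized (R := R) (R' := R') T').mpr h2

end Main

end Groth.Agent.Lib.Helper15.ED
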