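import Mathlib
import Groth.Prelude.Def_FlatCA
import Groth.Agent.Lib.Helper15.ED3

/-!
# S1250 in abstract form: the two TFAE lists
-/

set_option autoImplicit false
set_option linter.style.haveILetI false
set_option linter.unusedSectionVars false
set_option linter.style.longLine false
set_option linter.unusedVariables false

universe u

namespace Groth.Agent.Lib.Helper15.ED

open TensorProduct Groth.Agent.Lib.Helper18

section Main

variable {R S R' S' C D : Type u} [CommRing R] [CommRing S] [CommRing R'] [CommRing S']
  [CommRing C] [CommRing D]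
  [Algebra R S] [Algebra R R'] [Algebra S S'] [Algebra R' S'] [Algebra R S']
  [IsScalarTower R R' S'] [IsScalarTower R S S']
  [Algebra S' C] [Algebra D C] [Algebra R' D] [Algebra R' C] [IsScalarTower R' D C]
  [IsScalarTower R' S' C]
  {N : Type u} [AddCommGroup N] [Module S N] [Module R N] [IsScalarTower R S N]
  {N' : Type u} [AddCommGroup N'] [Module S' N'] [Module S N'] [IsScalarTower S S' N']
  {G : Type u} [AddCommGroup G] [Module C G] [Module S' G] [IsScalarTower S' C G] [Module D G]
  [IsScalarTower D C G] [Module R' G] [IsScalarTower R' C G] [IsScalarTower R' D G]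
  [Algebra.Etale R R'] [Algebra.Etale S S']
  (q : Ideal S) [q.IsPrime] (q' : Ideal S') [q'.IsPrime] (z : Ideal C) [z.IsPrime]
  (y : Ideal D) [y.IsPrime] [q'.LiesOver q] [z.LiesOver q'] [z.LiesOver y]
  (φ : N →ₗ[S] N') (hφ : IsBaseChange S' φ) (surjC : Function.Surjective (algebraMap S' C))
  (iso : N' ≃ₗ[S'] G) [Module.Finite D C]
  (uniq : ∀ (z₁ : Ideal C) [z₁.IsPrime], z₁.LiesOver y → z₁ = z)

include q' φ hφ surjC iso uniq in
theorem main1250_abs :
    [Module.Flat R (LocalizedModule q.primeCompl N),
     Module.Flat R' (LocalizedModule z.primeCompl G),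
     Module.Flat R' (LocalizedModule y.primeCompl G)].TFAE ∧
    [∃ g : S, g ∉ q ∧ Module.Flat R (LocalizedModule (Submonoid.powers g) N),
     ∃ g : C, g ∉ z ∧ Module.Flat R' (LocalizedModule (Submonoid.powers g) G),
     ∃ g : D, g ∉ y ∧ Module.Flat R' (LocalizedModule (Submonoid.powers g) G)].TFAE := by
  letI mR : Module R N' := Module.compHom N' (algebraMap R S)
  haveI tRS : IsScalarTower R S N' := ⟨fun r s x => by
    show (r • s) • x = (algebraMap R S r) • (s • x)
    rw [Algebra.smul_def, mul_smul]⟩
  haveI tRS' : IsScalarTower R S' N' := IsScalarTower.of_algebraMap_smul fun r x => by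
    show algebraMap R S' r • x = algebraMap R S r • x
    rw [IsScalarTower.algebraMap_apply R S S', algebraMap_smul]
  haveI : Module.Flat S S' := inferInstance
  haveI : Algebra.IsIntegral D C := inferInstance
  have hsat := exists_mul_eq_algebraMap y z uniq
  constructor
  · tfae_have 1 → 2 := fun h =>
      flat_G_of_flat_N φ iso q.primeCompl q'.primeCompl z.primeCompl
        (fun t ht => notMem_q' q q' ht) (fun t ht => notMem_z q' z ht) hφ h
    tfae_have 2 → 1 := by
      intro h
      have h' : Module.Flat R (LocalizedModule q'.primeCompl N') :=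
        flat_N'_of_flat_G (R := R) (S := S) iso q'.primeCompl z.primeCompl (by
          intro s hs
          obtain ⟨t, rfl⟩ := surjC s
          refine ⟨1, t, ?_, mul_one _⟩
          intro ht
          apply hs
          have ht' : t ∈ q' := ht
          rw [Ideal.LiesOver.over (p := q') (P := z), Ideal.under_def] at ht'
          exact ht') h
      refine flat_of_flat_baseChange φ hφ q q' ?_ h'
      rw [Ideal.map_le_iff_le_comap, Ideal.LiesOver.over (p := q) (P := q'), Ideal.under_def]
    tfae_have 2 → 3 := fun h =>
      flat_localizedModule_of_exists_mul (A := D) (B := C) y.primeCompl z.primeCompl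
        (fun s hs => hsat s hs) h
    tfae_have 3 → 2 := fun h =>
      flat_localizedModule_of_algebraMap_mem (A := D) (B := C) y.primeCompl z.primeCompl
        (fun t ht => notMem_z' z y ht) h
    tfae_finish
  · tfae_have 1 → 2 := by
      rintro ⟨g, hg, h⟩
      refine ⟨algebraMap S' C (algebraMap S S' g), notMem_z q' z (notMem_q' q q' hg), ?_⟩
      refine flat_G_of_flat_N φ iso (Submonoid.powers g) (Submonoid.powers (algebraMap S S' g))
        (Submonoid.powers (algebraMap S' C (algebraMap S S' g))) ?_ ?_ hφ h
      · rintro _ ⟨n, rfl⟩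
        exact ⟨n, by rw [map_pow]⟩
      · rintro _ ⟨n, rfl⟩
        exact ⟨n, by rw [map_pow]⟩
    tfae_have 2 → 1 := by
      rintro ⟨g', hg', h⟩
      obtain ⟨s', rfl⟩ := surjC g'
      have hs' : s' ∉ q' := by
        intro hc
        apply hg'
        rw [Ideal.LiesOver.over (p := q') (P := z), Ideal.under_def, Ideal.mem_comap] at hc
        exact hc
      have h' : Module.Flat R (LocalizedModule (Submonoid.powers s') N') :=
        flat_N'_of_flat_G (R := R) (S := S) iso (Submonoid.powers s')
          (Submonoid.powers (algebraMap S' C s')) (by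
          rintro _ ⟨n, rfl⟩
          exact ⟨1, s' ^ n, ⟨n, rfl⟩, by simp⟩) h
      haveI : Algebra.HasGoingDown S S' := Algebra.HasGoingDown.of_flat
      haveI : Algebra.FinitePresentation S S' := inferInstance
      have hopen := PrimeSpectrum.isOpenMap_comap_of_hasGoingDown_of_finitePresentation
        (R := S) (S := S') _ (PrimeSpectrum.basicOpen s').isOpen
      have hmem : (⟨q, inferInstance⟩ : PrimeSpectrum S) ∈
          PrimeSpectrum.comap (algebraMap S S') '' (PrimeSpectrum.basicOpen s' : Set (PrimeSpectrum S')) := by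
        refine ⟨⟨q', inferInstance⟩, hs', ?_⟩
        apply PrimeSpectrum.ext
        exact (Ideal.LiesOver.over (p := q) (P := q')).symm
      obtain ⟨_, ⟨g, rfl⟩, hgq, hgsub⟩ :=
        PrimeSpectrum.isTopologicalBasis_basic_opens.exists_subset_of_mem_open hmem hopen
      refine ⟨g, hgq, flat_away_of_forall_prime g ?_⟩
      intro P _ hgP
      have h1 : (⟨P, inferInstance⟩ : PrimeSpectrum S) ∈
          (PrimeSpectrum.basicOpen g : Set (PrimeSpectrum S)) := hgP
      obtain ⟨P', hP', hP'eq⟩ := hgsub h1
      have h2 : P'.asIdeal.comap (algebraMap S S') = P := congrArg PrimeSpectrum.asIdeal hP'eq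
      have h3 : Module.Flat R (LocalizedModule P'.asIdeal.primeCompl N') :=
        FB.flat_localizedModule_mono (by
          rw [Submonoid.powers_le]
          exact hP') h'
      refine flat_of_flat_baseChange φ hφ P P'.asIdeal ?_ h3
      rw [Ideal.map_le_iff_le_comap, h2]
    tfae_have 2 → 3 := by
      rintro ⟨g', hg', h⟩
      obtain ⟨c, t, ht, hct⟩ := hsat g' hg'
      refine ⟨t, ht, ?_⟩
      refine flat_localizedModule_of_exists_mul (A := D) (B := C) (Submonoid.powers t)
        (Submonoid.powers g') ?_ h
      rintro _ ⟨n, rfl⟩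
      exact ⟨c ^ n, t ^ n, ⟨n, rfl⟩, by rw [← mul_pow, hct, map_pow]⟩
    tfae_have 3 → 2 := by
      rintro ⟨g, hg, h⟩
      refine ⟨algebraMap D C g, notMem_z' z y hg, ?_⟩
      refine flat_localizedModule_of_algebraMap_mem (A := D) (B := C) (Submonoid.powers g)
        (Submonoid.powers (algebraMap D C g)) ?_ h
      rintro _ ⟨n, rfl⟩
      exact ⟨n, by rw [map_pow]⟩
    tfae_finish

end Main

end Groth.Agent.Lib.Helper15.ED
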