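import Mathlib

/-!
# Embeddings of a residue field vs. points of the geometric fibre (helper15)
-/

set_option autoImplicit false
universe u
open scoped TensorProduct

namespace Groth.Agent.Lib.Helper15.EmbFinite

variable {k : Type u} [Field k] {T : Type u} [CommRing T] [Algebra k T] (P : Ideal T) [P.IsPrime]

/-- the point of `Ω ⊗[k] T` defined by an embedding of the residue field at `P` into `Ω` -/
noncomputable def phi (σ : Field.Emb k P.ResidueField) :
    (AlgebraicClosure P.ResidueField) ⊗[k] T →ₐ[k] AlgebraicClosure P.ResidueField :=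
  Algebra.TensorProduct.productMap (AlgHom.id k (AlgebraicClosure P.ResidueField))
    (σ.comp (IsScalarTower.toAlgHom k T P.ResidueField))

theorem phi_tmul (σ : Field.Emb k P.ResidueField) (ω : AlgebraicClosure P.ResidueField) (t : T) :
    phi P σ (ω ⊗ₜ[k] t) = ω * σ (algebraMap T P.ResidueField t) := by
  unfold phi
  rw [Algebra.TensorProduct.productMap_apply_tmul]
  rfl

noncomputable def pt (σ : Field.Emb k P.ResidueField) :
    PrimeSpectrum ((AlgebraicClosure P.ResidueField) ⊗[k] T) :=
  ⟨RingHom.ker (phi P σ : (AlgebraicClosure P.ResidueField) ⊗[k] T →+*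
    AlgebraicClosure P.ResidueField), RingHom.ker_isPrime _⟩

theorem pt_injective : Function.Injective (pt (k := k) P) := by
  intro σ τ h
  have hk : RingHom.ker (phi P σ : (AlgebraicClosure P.ResidueField) ⊗[k] T →+*
      AlgebraicClosure P.ResidueField) = RingHom.ker (phi P τ :
      (AlgebraicClosure P.ResidueField) ⊗[k] T →+* AlgebraicClosure P.ResidueField) :=
    congrArg PrimeSpectrum.asIdeal h
  have key : ∀ t : T, σ (algebraMap T P.ResidueField t) = τ (algebraMap T P.ResidueField t) := by
    intro t
    have hx : ((1 : AlgebraicClosure P.ResidueField) ⊗ₜ[k] t -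
        (σ (algebraMap T P.ResidueField t)) ⊗ₜ[k] (1 : T)) ∈
        RingHom.ker (phi P σ : (AlgebraicClosure P.ResidueField) ⊗[k] T →+*
          AlgebraicClosure P.ResidueField) := by
      rw [RingHom.mem_ker]
      change phi P σ _ = 0
      rw [map_sub, phi_tmul, phi_tmul, map_one, map_one, one_mul, mul_one, sub_self]
    rw [hk, RingHom.mem_ker] at hx
    change phi P τ _ = 0 at hx
    rw [map_sub, phi_tmul, phi_tmul, map_one, map_one, one_mul, mul_one, sub_eq_zero] at hx
    exact hx.symm
  have h2 : (σ : P.ResidueField →+* AlgebraicClosure P.ResidueField) = τ := by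
    apply IsLocalization.ringHom_ext (nonZeroDivisors (T ⧸ P))
    apply Ideal.Quotient.ringHom_ext
    ext t
    exact key t
  apply AlgHom.ext
  intro x
  exact congrArg (fun f : P.ResidueField →+* AlgebraicClosure P.ResidueField => f x) h2

theorem finite_emb [Finite (PrimeSpectrum ((AlgebraicClosure P.ResidueField) ⊗[k] T))] :
    Finite (Field.Emb k P.ResidueField) :=
  Finite.of_injective (pt (k := k) P) (pt_injective P)

end Groth.Agent.Lib.Helper15.EmbFinite
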