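import Mathlib

/-!
# Projective modules over a ring with `A/J` simple Artinian are determined by their endomorphism
rings (helper15)
-/

set_option autoImplicit false
set_option linter.style.haveILetI false
universe u v

namespace Groth.Agent.Lib.Helper15.EndIsoProj

variable {A : Type u} [Ring A]

section nak

variable {P : Type*} [AddCommGroup P] [Module A P] {Q : Type*} [AddCommGroup Q] [Module A Q]

/-- `J • P` -/
abbrev JT (A : Type u) [Ring A] (P : Type*) [AddCommGroup P] [Module A P] : Submodule A P :=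
  Ring.jacobson A • (⊤ : Submodule A P)

lemma map_JT_le (f : P →ₗ[A] Q) : (JT A P).map f ≤ JT A Q := by
  rw [Submodule.map_smul'']
  exact Submodule.smul_mono le_rfl le_top

lemma apply_mem_JT (f : P →ₗ[A] Q) {x : P} (hx : x ∈ JT A P) : f x ∈ JT A Q :=
  map_JT_le f (Submodule.mem_map_of_mem hx)

theorem surjective_of_mod [Module.Finite A Q] (f : P →ₗ[A] Q)
    (h : ∀ y, ∃ x, y - f x ∈ JT A Q) : Function.Surjective f := by
  set N := LinearMap.range f with hN
  have htop : (⊤ : Submodule A (Q ⧸ N)) ≤ Ring.jacobson A • (⊤ : Submodule A (Q ⧸ N)) := by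
    rintro z -
    obtain ⟨y, rfl⟩ := N.mkQ_surjective z
    obtain ⟨x, hx⟩ := h y
    have h1 : N.mkQ y = N.mkQ (y - f x) := by
      rw [map_sub]
      have : N.mkQ (f x) = 0 := (Submodule.Quotient.mk_eq_zero N).mpr ⟨x, rfl⟩
      rw [this, sub_zero]
    rw [h1]
    exact apply_mem_JT N.mkQ hx
  have hbot := Submodule.FG.eq_bot_of_le_jacobson_smul Module.Finite.fg_top htop
  intro y
  have h1 : N.mkQ y ∈ (⊤ : Submodule A (Q ⧸ N)) := Submodule.mem_top
  rw [hbot, Submodule.mem_bot] at h1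
  exact (Submodule.Quotient.mk_eq_zero N).mp h1

theorem bijective_of_mod_id [Module.Finite A P] [Module.Projective A P] (h : P →ₗ[A] P)
    (hh : ∀ x, h x - x ∈ JT A P) : Function.Bijective h := by
  have hs : Function.Surjective h := by
    apply surjective_of_mod
    intro y
    refine ⟨y, ?_⟩
    have := neg_mem (hh y)
    rwa [neg_sub] at this
  obtain ⟨s, hs'⟩ := Module.projective_lifting_property h LinearMap.id hs
  have hsy : ∀ y, h (s y) = y := fun y => by
    have := congrArg (fun F => F y) hs'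
    simpa using this
  have hss : Function.Surjective s := by
    apply surjective_of_mod
    intro y
    refine ⟨y, ?_⟩
    have := hh (s y)
    rwa [hsy] at this
  refine ⟨?_, hs⟩
  rw [injective_iff_map_eq_zero]
  intro x hx
  obtain ⟨y, rfl⟩ := hss x
  rw [hsy] at hx
  rw [hx, map_zero]

/-- the induced map on `P/JP`, `A`-linear -/
noncomputable def barA (f : P →ₗ[A] Q) : (P ⧸ JT A P) →ₗ[A] (Q ⧸ JT A Q) :=
  Submodule.mapQ _ _ f (fun _ hx => apply_mem_JT f hx)

@[simp] lemma barA_mk (f : P →ₗ[A] Q) (x : P) :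
    barA f (Submodule.Quotient.mk x) = Submodule.Quotient.mk (f x) := rfl

/-- the induced map on `P/JP`, `A/J`-linear -/
noncomputable def bar (f : P →ₗ[A] Q) :
    (P ⧸ JT A P) →ₗ[A ⧸ Ring.jacobson A] (Q ⧸ JT A Q) where
  toFun := barA f
  map_add' := (barA f).map_add
  map_smul' c x := by
    obtain ⟨a, rfl⟩ := Ideal.Quotient.mk_surjective c
    exact (barA f).map_smul a x

@[simp] lemma bar_mk (f : P →ₗ[A] Q) (x : P) :
    bar f (Submodule.Quotient.mk x) = Submodule.Quotient.mk (f x) := rfl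

lemma bar_comp {R : Type*} [AddCommGroup R] [Module A R] (f : P →ₗ[A] Q) (g : Q →ₗ[A] R) :
    bar (g ∘ₗ f) = bar g ∘ₗ bar f := by
  ext x
  obtain ⟨x, rfl⟩ := Submodule.Quotient.mk_surjective _ x
  rfl

/-- lifting of `A/J`-linear maps to projective modules -/
theorem exists_lift [Module.Projective A P] (g : (P ⧸ JT A P) →ₗ[A ⧸ Ring.jacobson A] (Q ⧸ JT A Q)) :
    ∃ f : P →ₗ[A] Q, bar f = g := by
  let gA : (P ⧸ JT A P) →ₗ[A] (Q ⧸ JT A Q) :=
    { toFun := g
      map_add' := g.map_add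
      map_smul' := fun a x => g.map_smul (Ideal.Quotient.mk (Ring.jacobson A) a) x }
  obtain ⟨f, hf⟩ := Module.projective_lifting_property (JT A Q).mkQ (gA ∘ₗ (JT A P).mkQ)
    (Submodule.mkQ_surjective _)
  refine ⟨f, ?_⟩
  ext x
  obtain ⟨x, rfl⟩ := Submodule.Quotient.mk_surjective _ x
  have := congrArg (fun F => F x) hf
  exact this

/-- a split injection mod `J` lifts to a split injection -/
theorem exists_split [Module.Finite A P] [Module.Projective A P] [Module.Projective A Q]
    (i : (P ⧸ JT A P) →ₗ[A ⧸ Ring.jacobson A] (Q ⧸ JT A Q))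
    (r : (Q ⧸ JT A Q) →ₗ[A ⧸ Ring.jacobson A] (P ⧸ JT A P)) (hri : r ∘ₗ i = LinearMap.id) :
    ∃ (ι : P →ₗ[A] Q) (ρ : Q →ₗ[A] P), ρ ∘ₗ ι = LinearMap.id := by
  obtain ⟨ι, hι⟩ := exists_lift i
  obtain ⟨r', hr'⟩ := exists_lift r
  have hh : ∀ x, (r' ∘ₗ ι) x - x ∈ JT A P := by
    intro x
    have h1 : bar (r' ∘ₗ ι) = LinearMap.id := by rw [bar_comp, hι, hr', hri]
    have h2 := congrArg (fun F => F (Submodule.Quotient.mk x)) h1
    simp only [bar_mk, LinearMap.id_apply] at h2
    rw [← Submodule.Quotient.mk_eq_zero, Submodule.Quotient.mk_sub, h2, sub_self]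
  have hbij := bijective_of_mod_id (r' ∘ₗ ι) hh
  let e := LinearEquiv.ofBijective (r' ∘ₗ ι) hbij
  refine ⟨ι, e.symm.toLinearMap ∘ₗ r', ?_⟩
  ext x
  simp only [LinearMap.comp_apply, LinearEquiv.coe_coe, LinearMap.id_apply]
  rw [LinearEquiv.symm_apply_eq]
  rfl

/-- a nonzero idempotent endomorphism of a finite module is nonzero mod `J` -/
theorem bar_ne_zero [Module.Finite A Q] (δ : Q →ₗ[A] Q) (hδ : δ ∘ₗ δ = δ) (h0 : δ ≠ 0) :
    bar δ ≠ 0 := by
  intro hb
  apply h0
  have hle : LinearMap.range δ ≤ JT A Q := by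
    rintro _ ⟨x, rfl⟩
    have := congrArg (fun F => F (Submodule.Quotient.mk x)) hb
    simp only [bar_mk, LinearMap.zero_apply] at this
    exact (Submodule.Quotient.mk_eq_zero _).mp this
  have hfg : (LinearMap.range δ).FG := by
    rw [← Submodule.map_top]
    exact Module.Finite.fg_top.map δ
  have hN : LinearMap.range δ ≤ Ring.jacobson A • LinearMap.range δ := by
    rintro _ ⟨x, rfl⟩
    have h1 : δ x = δ (δ x) := by
      have := congrArg (fun F => F x) hδ
      exact this.symm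
    rw [h1]
    have h2 : δ (δ x) ∈ (JT A Q).map δ := Submodule.mem_map_of_mem (hle ⟨x, rfl⟩)
    rw [Submodule.map_smul'', Submodule.map_top] at h2
    exact h2
  have := Submodule.FG.eq_bot_of_le_jacobson_smul hfg hN
  exact LinearMap.range_eq_bot.mp this

lemma bar_zero : bar (0 : P →ₗ[A] Q) = 0 := by
  ext x
  obtain ⟨x, rfl⟩ := Submodule.Quotient.mk_surjective _ x
  simp

end nak

section chain

variable {Q : Type*} [AddCommGroup Q] [Module A Q]

/-- no infinite family of nonzero orthogonal idempotents -/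
theorem no_infinite_orthogonal [Module.Finite A Q] [IsNoetherianRing (A ⧸ Ring.jacobson A)]
    (δ : ℕ → Module.End A Q) (hid : ∀ k, δ k * δ k = δ k) (hne : ∀ k, δ k ≠ 0)
    (horth : ∀ k l, k ≠ l → δ k * δ l = 0) : False := by
  haveI : Module.Finite (A ⧸ Ring.jacobson A) (Q ⧸ JT A Q) := by
    classical
    obtain ⟨s, hs⟩ := (Module.Finite.fg_top : (⊤ : Submodule A Q).FG)
    refine ⟨⟨s.image (Submodule.Quotient.mk), ?_⟩⟩
    rw [eq_top_iff]
    rintro x -
    obtain ⟨x, rfl⟩ := Submodule.Quotient.mk_surjective _ x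
    have hx : x ∈ Submodule.span A (s : Set Q) := by rw [hs]; trivial
    refine Submodule.span_induction ?_ ?_ ?_ ?_ hx
    · intro y hy
      apply Submodule.subset_span
      rw [Finset.coe_image]
      exact ⟨y, hy, rfl⟩
    · exact zero_mem _
    · intro y z _ _ hy hz
      exact add_mem hy hz
    · intro a y _ hy
      exact Submodule.smul_mem _ (Ideal.Quotient.mk (Ring.jacobson A) a) hy
  haveI : IsNoetherian (A ⧸ Ring.jacobson A) (Q ⧸ JT A Q) := inferInstance
  let N : ℕ → Submodule (A ⧸ Ring.jacobson A) (Q ⧸ JT A Q) := fun k => LinearMap.range (bar (δ k))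
  have hmul : ∀ k l, bar (δ k) ∘ₗ bar (δ l) = bar (δ k * δ l) := fun k l => (bar_comp _ _).symm
  have hind : iSupIndep N := by
    intro i
    rw [Submodule.disjoint_def]
    intro x hx1 hx2
    obtain ⟨y, rfl⟩ := hx1
    have hker : (⨆ j, ⨆ (_ : j ≠ i), N j) ≤ LinearMap.ker (bar (δ i)) := by
      refine iSup_le fun j => iSup_le fun hj => ?_
      rintro _ ⟨z, rfl⟩
      rw [LinearMap.mem_ker, ← LinearMap.comp_apply, hmul, horth i j (Ne.symm hj), bar_zero,
        LinearMap.zero_apply]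
    have h1 := hker hx2
    rw [LinearMap.mem_ker, ← LinearMap.comp_apply, hmul, hid] at h1
    exact h1
  have hfin := Submodule.finite_ne_bot_of_iSupIndep hind
  have hall : {i | N i ≠ ⊥} = Set.univ := by
    ext k
    simp only [Set.mem_ofPred_eq, Set.mem_univ, iff_true, N]
    rw [Ne, LinearMap.range_eq_bot]
    exact bar_ne_zero (δ k) (hid k) (hne k)
  rw [hall] at hfin
  exact Set.infinite_univ hfin

variable {P : Type*} [AddCommGroup P] [Module A P]

/-- the main descent: a split injection plus a ring isomorphism of endomorphism rings forces an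
isomorphism -/
theorem iso_of_split [Module.Finite A Q] [IsNoetherianRing (A ⧸ Ring.jacobson A)]
    (ι : P →ₗ[A] Q) (ρ : Q →ₗ[A] P) (hρι : ρ ∘ₗ ι = LinearMap.id)
    (σ : Module.End A P ≃+* Module.End A Q) : Nonempty (P ≃ₗ[A] Q) := by
  by_cases hε : ι ∘ₗ ρ = LinearMap.id
  · exact ⟨LinearEquiv.ofLinearMap ι ρ hε hρι⟩
  exfalso
  -- the non-unital endomorphism `τ`
  let τ : Module.End A Q → Module.End A Q := fun f => ι ∘ₗ (σ.symm f) ∘ₗ ρ
  have hρι' : ∀ x, ρ (ι x) = x := fun x => by
    have := congrArg (fun F => F x) hρι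
    exact this
  have τ_mul : ∀ f g, τ (f * g) = τ f * τ g := by
    intro f g
    ext x
    simp only [τ, map_mul, LinearMap.comp_apply, Module.End.mul_apply, hρι']
  have τ_zero : τ 0 = 0 := by
    ext x
    simp [τ]
  have τ_inj : ∀ f, τ f = 0 → f = 0 := by
    intro f hf
    have h1 : σ.symm f = 0 := by
      ext x
      have := congrArg (fun F => ρ (F (ι x))) hf
      simp only [τ, LinearMap.comp_apply, hρι', LinearMap.zero_apply, map_zero] at this
      exact this
    exact (map_eq_zero_iff σ.symm σ.symm.injective).mp h1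
  set ε : Module.End A Q := τ 1 with hεdef
  have hε1 : ε = ι ∘ₗ ρ := by
    ext x
    simp [ε, τ]
  have ε_τ : ∀ f, ε * τ f = τ f := by
    intro f
    rw [hεdef, ← τ_mul, one_mul]
  have τ_ε : ∀ f, τ f * ε = τ f := by
    intro f
    rw [hεdef, ← τ_mul, mul_one]
  have ε_idem : ε * ε = ε := ε_τ 1
  have hne1 : (1 : Module.End A Q) - ε ≠ 0 := by
    intro h
    apply hε
    rw [← hε1]
    exact (sub_eq_zero.mp h).symm
  have iter_mul : ∀ (k : ℕ) f g, τ^[k] (f * g) = τ^[k] f * τ^[k] g := by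
    intro k
    induction k with
    | zero => intro f g; rfl
    | succ k ih =>
      intro f g
      rw [Function.iterate_succ_apply, Function.iterate_succ_apply, Function.iterate_succ_apply,
        τ_mul, ih]
  have iter_zero : ∀ k : ℕ, τ^[k] 0 = 0 := by
    intro k
    induction k with
    | zero => rfl
    | succ k ih => rw [Function.iterate_succ_apply, τ_zero, ih]
  have iter_inj : ∀ (k : ℕ) f, τ^[k] f = 0 → f = 0 := by
    intro k
    induction k with
    | zero => intro f hf; exact hf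
    | succ k ih =>
      intro f hf
      rw [Function.iterate_succ_apply] at hf
      exact τ_inj f (ih _ hf)
  let δ : ℕ → Module.End A Q := fun k => τ^[k] (1 - ε)
  have h1ε : (1 - ε) * (1 - ε) = 1 - ε := by
    rw [mul_sub, sub_mul, sub_mul, one_mul, mul_one, one_mul, ε_idem, sub_self, sub_zero]
  have hleft : ∀ (m : ℕ) f, (1 - ε) * τ^[m + 1] f = 0 := by
    intro m f
    rw [Function.iterate_succ_apply', sub_mul, one_mul, ε_τ, sub_self]
  have hright : ∀ (m : ℕ) f, τ^[m + 1] f * (1 - ε) = 0 := by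
    intro m f
    rw [Function.iterate_succ_apply', mul_sub, mul_one, τ_ε, sub_self]
  refine no_infinite_orthogonal (A := A) (Q := Q) δ ?_ ?_ ?_
  · intro k
    show τ^[k] (1 - ε) * τ^[k] (1 - ε) = τ^[k] (1 - ε)
    rw [← iter_mul, h1ε]
  · intro k h
    exact hne1 (iter_inj k _ h)
  · intro k l hkl
    show τ^[k] (1 - ε) * τ^[l] (1 - ε) = 0
    rcases lt_or_gt_of_ne hkl with h | h
    · obtain ⟨m, rfl⟩ := Nat.exists_eq_add_of_lt h
      have : τ^[k + m + 1] (1 - ε) = τ^[k] (τ^[m + 1] (1 - ε)) := by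
        rw [← Function.iterate_add_apply, add_assoc]
      rw [this, ← iter_mul, hleft, iter_zero]
    · obtain ⟨m, rfl⟩ := Nat.exists_eq_add_of_lt h
      have : τ^[l + m + 1] (1 - ε) = τ^[l] (τ^[m + 1] (1 - ε)) := by
        rw [← Function.iterate_add_apply, add_assoc]
      rw [this, ← iter_mul, hright, iter_zero]

end chain

section main

/-- `P/JP` is finite over `A/J` -/
lemma finite_bar (Q : Type*) [AddCommGroup Q] [Module A Q] [Module.Finite A Q] :
    Module.Finite (A ⧸ Ring.jacobson A) (Q ⧸ JT A Q) := by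
  classical
  obtain ⟨s, hs⟩ := (Module.Finite.fg_top : (⊤ : Submodule A Q).FG)
  refine ⟨⟨s.image (Submodule.Quotient.mk), ?_⟩⟩
  rw [eq_top_iff]
  rintro x -
  obtain ⟨x, rfl⟩ := Submodule.Quotient.mk_surjective _ x
  have hx : x ∈ Submodule.span A (s : Set Q) := by rw [hs]; trivial
  refine Submodule.span_induction ?_ ?_ ?_ ?_ hx
  · intro y hy
    apply Submodule.subset_span
    rw [Finset.coe_image]
    exact ⟨y, hy, rfl⟩
  · exact zero_mem _
  · intro y z _ _ hy hz
    exact add_mem hy hz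
  · intro a y _ hy
    exact Submodule.smul_mem _ (Ideal.Quotient.mk (Ring.jacobson A) a) hy

/-- all finite modules over a simple Artinian ring are powers of one simple module -/
theorem exists_type (R : Type u) [Ring R] [IsSimpleRing R] [IsArtinianRing R] :
    ∃ (S₀ : Ideal R), ∀ (M : Type v) [AddCommGroup M] [Module R M] [Module.Finite R M],
      ∃ n : ℕ, Nonempty (M ≃ₗ[R] (Fin n → S₀)) := by
  obtain ⟨S₀, hS₀⟩ : ∃ I : Ideal R, IsAtom I := IsAtomic.exists_atom _
  haveI : IsSimpleModule R S₀ := isSimpleModule_iff_isAtom.mpr hS₀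
  refine ⟨S₀, fun M _ _ _ => ?_⟩
  have hiso : IsIsotypicOfType R M S₀ := by
    intro m hm
    obtain ⟨I, ⟨e⟩⟩ := IsSemisimpleRing.exists_linearEquiv_ideal_of_isSimpleModule R m
    haveI : IsSimpleModule R I := IsSimpleModule.congr e.symm
    obtain ⟨e'⟩ := IsSimpleRing.isIsotypic R R S₀ I
    exact ⟨e.trans e'⟩
  exact hiso.linearEquiv_fun

/-- the obvious split injection `S^a → S^b` for `a ≤ b` -/
lemma fin_split {R : Type*} [Ring R] (S : Type*) [AddCommGroup S] [Module R S] {a b : ℕ}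
    (hab : a ≤ b) :
    ∃ (i : (Fin a → S) →ₗ[R] (Fin b → S)) (r : (Fin b → S) →ₗ[R] (Fin a → S)),
      r ∘ₗ i = LinearMap.id := by
  refine ⟨LinearMap.pi (fun j : Fin b =>
      if h : (j : ℕ) < a then LinearMap.proj (⟨j, h⟩ : Fin a) else 0),
    LinearMap.pi (fun j : Fin a => LinearMap.proj (Fin.castLE hab j)), ?_⟩
  ext g j
  simp

theorem main_le (A : Type u) [Ring A] [IsSimpleRing (A ⧸ Ring.jacobson A)]
    [IsArtinianRing (A ⧸ Ring.jacobson A)]
    (P Q : Type v) [AddCommGroup P] [Module A P] [Module.Finite A P] [Module.Projective A P]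
    [AddCommGroup Q] [Module A Q] [Module.Finite A Q] [Module.Projective A Q]
    (S₀ : Type*) [AddCommGroup S₀] [Module (A ⧸ Ring.jacobson A) S₀] {a b : ℕ} (hab : a ≤ b)
    (eP : (P ⧸ JT A P) ≃ₗ[A ⧸ Ring.jacobson A] (Fin a → S₀))
    (eQ : (Q ⧸ JT A Q) ≃ₗ[A ⧸ Ring.jacobson A] (Fin b → S₀))
    (e : Module.End A P ≃+* Module.End A Q) : Nonempty (P ≃ₗ[A] Q) := by
  obtain ⟨i₀, r₀, h₀⟩ := fin_split (R := A ⧸ Ring.jacobson A) S₀ hab
  obtain ⟨ι, ρ, h⟩ := exists_split (A := A) (P := P) (Q := Q)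
    (eQ.symm.toLinearMap ∘ₗ i₀ ∘ₗ eP.toLinearMap) (eP.symm.toLinearMap ∘ₗ r₀ ∘ₗ eQ.toLinearMap)
    (by
      ext x
      simp only [LinearMap.comp_apply, LinearEquiv.coe_coe, LinearEquiv.apply_symm_apply,
        LinearMap.id_apply]
      have := congrArg (fun F => F (eP x)) h₀
      simp only [LinearMap.comp_apply, LinearMap.id_apply] at this
      rw [this, LinearEquiv.symm_apply_apply])
  exact iso_of_split ι ρ h e

theorem main (A : Type u) [Ring A] [IsSimpleRing (A ⧸ Ring.jacobson A)]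
    [IsArtinianRing (A ⧸ Ring.jacobson A)]
    (P Q : Type v) [AddCommGroup P] [Module A P] [Module.Finite A P] [Module.Projective A P]
    [AddCommGroup Q] [Module A Q] [Module.Finite A Q] [Module.Projective A Q]
    (e : Module.End A P ≃+* Module.End A Q) : Nonempty (P ≃ₗ[A] Q) := by
  obtain ⟨S₀, hS⟩ := exists_type.{u, v} (A ⧸ Ring.jacobson A)
  haveI := finite_bar (A := A) P
  haveI := finite_bar (A := A) Q
  obtain ⟨a, ⟨eP⟩⟩ := hS (P ⧸ JT A P)
  obtain ⟨b, ⟨eQ⟩⟩ := hS (Q ⧸ JT A Q)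
  rcases le_total a b with hab | hab
  · exact main_le A P Q S₀ hab eP eQ e
  · obtain ⟨f⟩ := main_le A Q P S₀ hab eQ eP e.symm
    exact ⟨f.symm⟩

end main

end Groth.Agent.Lib.Helper15.EndIsoProj
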