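import Mathlib

/-!
# Torsion invariance along a flat neighbourhood (helper15)

`R → R'` flat with `R/I ≅ R'/IR'`.  For an `I`-power torsion `R`-module `Θ` the map
`Θ → R' ⊗ Θ` is bijective; consequently cohomology which is `I`-power torsion is unchanged by
`R' ⊗ -`.
-/

set_option autoImplicit false
set_option linter.style.haveILetI false
set_option linter.unusedSectionVars false
set_option linter.style.longLine false

universe u

namespace Groth.Agent.Lib.Helper15.EtGlue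

open TensorProduct

section T1

variable {R R' : Type*} [CommRing R] [CommRing R'] [Algebra R R'] (I : Ideal R)

/-- `R → R'` is an isomorphism modulo `I`. -/
structure IsNbhdAlong : Prop where
  dense : ∀ r' : R', ∃ r : R, r' - algebraMap R R' r ∈ I.map (algebraMap R R')
  closed : ∀ r : R, algebraMap R R' r ∈ I.map (algebraMap R R') → r ∈ I

variable {I}

theorem t1_inj [Module.Flat R R'] (h : IsNbhdAlong (R' := R') I) {Θ : Type*} [AddCommGroup Θ]
    [Module R Θ] (θ : Θ) (n : ℕ) (hθ : ∀ x ∈ I ^ n, x • θ = 0)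
    (h0 : (1 : R') ⊗ₜ[R] θ = 0) : θ = 0 := by
  let 𝔞 : Ideal R := LinearMap.ker (LinearMap.toSpanSingleton R Θ θ)
  have h𝔞 : ∀ x, x ∈ 𝔞 ↔ x • θ = 0 := fun x => by
    simp [𝔞, LinearMap.mem_ker, LinearMap.toSpanSingleton_apply]
  let g : (R ⧸ 𝔞) →ₗ[R] Θ := Submodule.liftQ 𝔞 (LinearMap.toSpanSingleton R Θ θ) le_rfl
  have hg : Function.Injective g := by
    rw [← LinearMap.ker_eq_bot]
    exact Submodule.ker_liftQ_eq_bot _ _ _ le_rfl
  have hg' := Module.Flat.lTensor_preserves_injective_linearMap (M := R') g hg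
  have h1 : (1 : R') ⊗ₜ[R] (Ideal.Quotient.mk 𝔞 1) = 0 := by
    apply hg'
    rw [LinearMap.lTensor_tmul, map_zero]
    have : g (Ideal.Quotient.mk 𝔞 1) = θ := by
      show (LinearMap.toSpanSingleton R Θ θ) 1 = θ
      simp
    rw [this, h0]
  have h2 := congrArg (TensorProduct.tensorQuotEquivQuotSMul R' 𝔞) h1
  rw [TensorProduct.tensorQuotEquivQuotSMul_tmul_mk, map_zero, one_smul,
    Submodule.Quotient.mk_eq_zero, Ideal.smul_top_eq_map, Submodule.restrictScalars_mem] at h2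
  -- `1 ∈ 𝔞 R'`, hence `𝔞 + I = ⊤`
  have key : ∀ y ∈ 𝔞.map (algebraMap R R'), ∃ a ∈ 𝔞, y - algebraMap R R' a ∈
      I.map (algebraMap R R') := by
    intro y hy
    induction hy using Submodule.span_induction with
    | mem y hy =>
      obtain ⟨a, ha, rfl⟩ := hy
      exact ⟨a, ha, by rw [sub_self]; exact Ideal.zero_mem _⟩
    | zero => exact ⟨0, Ideal.zero_mem _, by rw [map_zero, sub_self]; exact Ideal.zero_mem _⟩
    | add y₁ y₂ _ _ h₁ h₂ =>
      obtain ⟨a₁, ha₁, hy₁⟩ := h₁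
      obtain ⟨a₂, ha₂, hy₂⟩ := h₂
      refine ⟨a₁ + a₂, Ideal.add_mem _ ha₁ ha₂, ?_⟩
      have : y₁ + y₂ - algebraMap R R' (a₁ + a₂) =
          (y₁ - algebraMap R R' a₁) + (y₂ - algebraMap R R' a₂) := by rw [map_add]; ring
      rw [this]
      exact Ideal.add_mem _ hy₁ hy₂
    | smul c y _ hh =>
      obtain ⟨a, ha, hy⟩ := hh
      obtain ⟨r, hr⟩ := h.dense c
      refine ⟨r * a, Ideal.mul_mem_left _ _ ha, ?_⟩
      have : c • y - algebraMap R R' (r * a) =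
          c * (y - algebraMap R R' a) + (c - algebraMap R R' r) * algebraMap R R' a := by
        rw [map_mul, smul_eq_mul]; ring
      rw [this]
      exact Ideal.add_mem _ (Ideal.mul_mem_left _ _ hy) (Ideal.mul_mem_right _ _ hr)
  obtain ⟨a, ha, h3⟩ := key 1 h2
  have h4 : (1 : R) - a ∈ I := by
    apply h.closed
    rw [map_sub, map_one]
    exact h3
  have hcop : IsCoprime 𝔞 I := by
    rw [Ideal.isCoprime_iff_exists]
    exact ⟨a, ha, 1 - a, h4, by ring⟩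
  have hcop' : IsCoprime 𝔞 (I ^ n) := hcop.pow_right
  have hle : I ^ n ≤ 𝔞 := fun x hx => (h𝔞 x).mpr (hθ x hx)
  have htop : 𝔞 = ⊤ := by
    rw [Ideal.isCoprime_iff_sup_eq] at hcop'
    rw [← hcop']
    exact (sup_eq_left.mpr hle).symm
  have : (1 : R) ∈ 𝔞 := by rw [htop]; trivial
  have := (h𝔞 1).mp this
  rwa [one_smul] at this

theorem t1_surj_aux (h : IsNbhdAlong (R' := R') I) {Θ : Type*} [AddCommGroup Θ]
    [Module R Θ] : ∀ (n : ℕ) (θ : Θ), (∀ x ∈ I ^ n, x • θ = 0) → ∀ r' : R',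
      ∃ θ' : Θ, (∀ x ∈ I ^ n, x • θ' = 0) ∧ r' ⊗ₜ[R] θ = (1 : R') ⊗ₜ[R] θ' := by
  intro n
  induction n with
  | zero =>
    intro θ hθ r'
    have : θ = 0 := by
      have := hθ 1 (by rw [pow_zero, Ideal.one_eq_top]; trivial)
      rwa [one_smul] at this
    exact ⟨0, fun _ _ => smul_zero _, by rw [this, tmul_zero, tmul_zero]⟩
  | succ n ih =>
    intro θ hθ r'
    have key : ∀ y ∈ I.map (algebraMap R R'), ∃ θ' : Θ, (∀ x ∈ I ^ n, x • θ' = 0) ∧
        y ⊗ₜ[R] θ = (1 : R') ⊗ₜ[R] θ' := by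
      intro y hy
      induction hy using Submodule.span_induction with
      | mem y hy =>
        obtain ⟨a, ha, rfl⟩ := hy
        refine ⟨a • θ, ?_, ?_⟩
        · intro x hx
          rw [smul_smul]
          exact hθ _ (by rw [pow_succ]; exact Ideal.mul_mem_mul hx ha)
        · rw [Algebra.algebraMap_eq_smul_one, smul_tmul]
      | zero => exact ⟨0, fun _ _ => smul_zero _, by rw [zero_tmul, tmul_zero]⟩
      | add y₁ y₂ _ _ h₁ h₂ =>
        obtain ⟨θ₁, hθ₁, hy₁⟩ := h₁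
        obtain ⟨θ₂, hθ₂, hy₂⟩ := h₂
        refine ⟨θ₁ + θ₂, ?_, ?_⟩
        · intro x hx
          rw [smul_add, hθ₁ x hx, hθ₂ x hx, add_zero]
        · rw [add_tmul, hy₁, hy₂, tmul_add]
      | smul c y _ hh =>
        obtain ⟨θ₁, hθ₁, hy₁⟩ := hh
        obtain ⟨θ₂, hθ₂, hc⟩ := ih θ₁ hθ₁ c
        refine ⟨θ₂, hθ₂, ?_⟩
        have h5 : (c • y) ⊗ₜ[R] θ = c • (y ⊗ₜ[R] θ) := by
          rw [TensorProduct.smul_tmul']
        rw [h5, hy₁, TensorProduct.smul_tmul', smul_eq_mul, mul_one, hc]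
    obtain ⟨r, hr⟩ := h.dense r'
    obtain ⟨θ₁, hθ₁, h1⟩ := key _ hr
    refine ⟨r • θ + θ₁, ?_, ?_⟩
    · intro x hx
      rw [smul_add, smul_comm, hθ x hx, smul_zero, zero_add]
      obtain ⟨_, hxx⟩ : True ∧ x ∈ I ^ n := ⟨trivial, Ideal.pow_le_pow_right (Nat.le_succ n) hx⟩
      exact hθ₁ x hxx
    · have : r' ⊗ₜ[R] θ = (algebraMap R R' r) ⊗ₜ[R] θ + (r' - algebraMap R R' r) ⊗ₜ[R] θ := by
        rw [← add_tmul]; congr 1; ring
      rw [this, h1, tmul_add, Algebra.algebraMap_eq_smul_one, smul_tmul]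

theorem t1_surj (h : IsNbhdAlong (R' := R') I) {Θ : Type*} [AddCommGroup Θ]
    [Module R Θ] (htors : ∀ θ : Θ, ∃ n : ℕ, ∀ x ∈ I ^ n, x • θ = 0) (ξ : R' ⊗[R] Θ) :
    ∃ θ : Θ, ξ = (1 : R') ⊗ₜ[R] θ := by
  induction ξ using TensorProduct.induction_on with
  | zero => exact ⟨0, by rw [tmul_zero]⟩
  | tmul r' θ =>
    obtain ⟨n, hn⟩ := htors θ
    obtain ⟨θ', -, h'⟩ := t1_surj_aux h n θ hn r'
    exact ⟨θ', h'⟩
  | add x y hx hy =>
    obtain ⟨θ₁, rfl⟩ := hx
    obtain ⟨θ₂, rfl⟩ := hy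
    exact ⟨θ₁ + θ₂, by rw [tmul_add]⟩

end T1

end Groth.Agent.Lib.Helper15.EtGlue
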