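import Mathlib

/-!
# An Amitsur-type complex for a flat cover `Λ` of an open, and torsion of its cohomology (helper15)

For an `A`-algebra `Λ` and an `A`-module `N` we use the complex
`N → N ⊗ Λ → (N ⊗ Λ) ⊗ Λ → ((N ⊗ Λ) ⊗ Λ) ⊗ Λ`.  If `ε : Λ → L` is an `A`-algebra map then the
complex becomes contractible after `L ⊗ -`.
-/

set_option autoImplicit false
set_option linter.style.haveILetI false
set_option linter.unusedSectionVars false
set_option linter.style.longLine false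

universe u

namespace Groth.Agent.Lib.Helper15.EtGlue

open TensorProduct

section Complex

variable (A : Type*) [CommRing A] (R : Type*) [CommRing R] [Algebra A R]
  (Λ : Type*) [CommRing Λ] [Algebra A Λ]
  (N : Type*) [AddCommGroup N] [Module A N] [Module R N] [IsScalarTower A R N]
  {N' : Type*} [AddCommGroup N'] [Module A N'] [Module R N'] [IsScalarTower A R N']
  {N'' : Type*} [AddCommGroup N''] [Module A N''] [Module R N''] [IsScalarTower A R N'']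

/-- `n ↦ n ⊗ 1`. -/
noncomputable def eMap : N →ₗ[R] N ⊗[A] Λ where
  toFun n := n ⊗ₜ[A] (1 : Λ)
  map_add' x y := add_tmul x y 1
  map_smul' r x := by rw [RingHom.id_apply, smul_tmul']

@[simp] theorem eMap_apply (n : N) : eMap A R Λ N n = n ⊗ₜ[A] (1 : Λ) := rfl

variable {R N}

/-- `f ⊗ id`. -/
noncomputable def rT (f : N →ₗ[R] N') : N ⊗[A] Λ →ₗ[R] N' ⊗[A] Λ :=
  AlgebraTensorModule.map f (LinearMap.id : Λ →ₗ[A] Λ)

@[simp] theorem rT_tmul (f : N →ₗ[R] N') (n : N) (x : Λ) : rT A Λ f (n ⊗ₜ[A] x) = f n ⊗ₜ[A] x := rfl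

theorem rT_comp (f : N →ₗ[R] N') (g : N' →ₗ[R] N'') : rT A Λ (g ∘ₗ f) = rT A Λ g ∘ₗ rT A Λ f := by
  apply LinearMap.restrictScalars_injective A
  apply TensorProduct.ext'
  intro n x
  rfl

theorem rT_sub (f g : N →ₗ[R] N') : rT A Λ (f - g) = rT A Λ f - rT A Λ g := by
  apply LinearMap.restrictScalars_injective A
  apply TensorProduct.ext'
  intro n x
  simp [sub_tmul]

theorem rT_add (f g : N →ₗ[R] N') : rT A Λ (f + g) = rT A Λ f + rT A Λ g := by
  apply LinearMap.restrictScalars_injective A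
  apply TensorProduct.ext'
  intro n x
  simp [add_tmul]

theorem rT_zero : rT A Λ (0 : N →ₗ[R] N') = 0 := by
  apply LinearMap.restrictScalars_injective A
  apply TensorProduct.ext'
  intro n x
  simp

/-- naturality of `eMap`. -/
theorem eMap_nat (f : N →ₗ[R] N') (n : N) : eMap A R Λ N' (f n) = rT A Λ f (eMap A R Λ N n) := rfl

variable (R N)

/-- `d⁰ : N → N ⊗ Λ`. -/
noncomputable def d0 : N →ₗ[R] N ⊗[A] Λ := eMap A R Λ N

/-- `d¹ : N ⊗ Λ → (N ⊗ Λ) ⊗ Λ`, `n ⊗ x ↦ (n ⊗ 1) ⊗ x - (n ⊗ x) ⊗ 1`. -/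
noncomputable def d1 : N ⊗[A] Λ →ₗ[R] (N ⊗[A] Λ) ⊗[A] Λ :=
  rT A Λ (eMap A R Λ N) - eMap A R Λ (N ⊗[A] Λ)

/-- `d² : (N ⊗ Λ) ⊗ Λ → ((N ⊗ Λ) ⊗ Λ) ⊗ Λ`. -/
noncomputable def d2 : (N ⊗[A] Λ) ⊗[A] Λ →ₗ[R] ((N ⊗[A] Λ) ⊗[A] Λ) ⊗[A] Λ :=
  rT A Λ (d1 A R Λ N) + eMap A R Λ ((N ⊗[A] Λ) ⊗[A] Λ)

theorem d1_d0 (n : N) : d1 A R Λ N (d0 A R Λ N n) = 0 := by
  simp [d1, d0]

theorem d2_d1 (z : N ⊗[A] Λ) : d2 A R Λ N (d1 A R Λ N z) = 0 := by
  have h : d2 A R Λ N ∘ₗ d1 A R Λ N = 0 := by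
    apply LinearMap.restrictScalars_injective A
    apply TensorProduct.ext'
    intro n x
    simp [d1, d2, sub_tmul]
  exact LinearMap.congr_fun h z

variable {R N}

/-- functoriality of `d¹`. -/
theorem d1_nat (f : N →ₗ[R] N') (z : N ⊗[A] Λ) :
    d1 A R Λ N' (rT A Λ f z) = rT A Λ (rT A Λ f) (d1 A R Λ N z) := by
  have h : d1 A R Λ N' ∘ₗ rT A Λ f = rT A Λ (rT A Λ f) ∘ₗ d1 A R Λ N := by
    apply LinearMap.restrictScalars_injective A
    apply TensorProduct.ext'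
    intro n x
    simp [d1, sub_tmul]
  exact LinearMap.congr_fun h z

/-- functoriality of `d²`. -/
theorem d2_nat (f : N →ₗ[R] N') (z : (N ⊗[A] Λ) ⊗[A] Λ) :
    d2 A R Λ N' (rT A Λ (rT A Λ f) z) = rT A Λ (rT A Λ (rT A Λ f)) (d2 A R Λ N z) := by
  have h : d2 A R Λ N' ∘ₗ rT A Λ (rT A Λ f) = rT A Λ (rT A Λ (rT A Λ f)) ∘ₗ d2 A R Λ N := by
    apply LinearMap.restrictScalars_injective A
    apply TensorProduct.ext'
    intro z x
    induction z using TensorProduct.induction_on with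
    | zero => simp
    | tmul n y => simp [d1, d2, sub_tmul, add_tmul]
    | add z₁ z₂ h₁ h₂ =>
      rw [add_tmul, map_add, map_add, h₁, h₂]
  exact LinearMap.congr_fun h z

end Complex

end Groth.Agent.Lib.Helper15.EtGlue
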