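import Mathlib
import Groth.Agent.Lib.Helper15.EtGlue3

/-!
# Contraction of the Amitsur-type complex after a retraction, and torsion (helper15)
-/

set_option autoImplicit false
set_option linter.style.haveILetI false
set_option linter.unusedSectionVars false
set_option linter.style.longLine false

universe u

namespace Groth.Agent.Lib.Helper15.EtGlue

open TensorProduct

section Contraction

variable (A : Type*) [CommRing A] (Λ : Type*) [CommRing Λ] [Algebra A Λ]
  (L : Type*) [CommRing L] [Algebra A L] (ε : Λ →ₐ[A] L)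
  (N : Type*) [AddCommGroup N] [Module A N]
  {N' : Type*} [AddCommGroup N'] [Module A N']

/-- `(y ⊗ x) ↦ ε x • y`. -/
noncomputable def hAct : (L ⊗[A] N) ⊗[A] Λ →ₗ[A] L ⊗[A] N :=
  TensorProduct.lift (((Algebra.lsmul A A (L ⊗[A] N)).toLinearMap ∘ₗ ε.toLinearMap).flip)

/-- `ℓ ⊗ (n ⊗ x) ↦ (ε x * ℓ) ⊗ n`. -/
noncomputable def hC : L ⊗[A] (N ⊗[A] Λ) →ₗ[A] L ⊗[A] N :=
  hAct A Λ L ε N ∘ₗ (TensorProduct.assoc A L N Λ).symm.toLinearMap

@[simp] theorem hC_tmul (ℓ : L) (n : N) (x : Λ) :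
    hC A Λ L ε N (ℓ ⊗ₜ[A] (n ⊗ₜ[A] x)) = (ε x * ℓ) ⊗ₜ[A] n := by
  simp [hC, hAct, TensorProduct.smul_tmul']

variable {N}

theorem hC_nat (f : N →ₗ[A] N') (w : L ⊗[A] (N ⊗[A] Λ)) :
    hC A Λ L ε N' ((f.rTensor Λ).lTensor L w) = f.lTensor L (hC A Λ L ε N w) := by
  have h : hC A Λ L ε N' ∘ₗ (f.rTensor Λ).lTensor L = f.lTensor L ∘ₗ hC A Λ L ε N := by
    apply TensorProduct.ext'
    intro ℓ z
    induction z using TensorProduct.induction_on with
    | zero => simp
    | tmul n x => simp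
    | add z₁ z₂ h₁ h₂ => rw [tmul_add, map_add, map_add, h₁, h₂]
  exact LinearMap.congr_fun h w

variable (N)

theorem hC_e (w : L ⊗[A] N) :
    hC A Λ L ε N (((TensorProduct.mk A N Λ).flip 1).lTensor L w) = w := by
  have h : hC A Λ L ε N ∘ₗ ((TensorProduct.mk A N Λ).flip 1).lTensor L = LinearMap.id := by
    apply TensorProduct.ext'
    intro ℓ n
    simp
  exact LinearMap.congr_fun h w

end Contraction

section Loc

variable {A : Type*} [CommRing A] (a : A) (L : Type*) [CommRing L] [Algebra A L]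
  [IsLocalization.Away a L]
  {X Y : Type*} [AddCommGroup X] [AddCommGroup Y] [Module A X] [Module A Y]

theorem isLocalizedModule_mk (Y : Type*) [AddCommGroup Y] [Module A Y] :
    IsLocalizedModule (Submonoid.powers a) (TensorProduct.mk A L Y 1) :=
  (isLocalizedModule_iff_isBaseChange (Submonoid.powers a) L _).mpr
    (TensorProduct.isBaseChange A Y L)

theorem loc_zero (y : Y) (hy : (1 : L) ⊗ₜ[A] y = 0) : ∃ k : ℕ, a ^ k • y = 0 := by
  haveI := isLocalizedModule_mk a L Y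
  have h1 : TensorProduct.mk A L Y 1 y = TensorProduct.mk A L Y 1 0 := by
    rw [map_zero]; exact hy
  obtain ⟨c, hc⟩ := IsLocalizedModule.exists_of_eq (S := Submonoid.powers a) h1
  obtain ⟨k, hk⟩ := c.2
  refine ⟨k, ?_⟩
  rw [smul_zero] at hc
  have hk' : a ^ k = (c : A) := hk
  rw [hk']
  exact hc

theorem loc_range (f : X →ₗ[A] Y) (y : Y)
    (hy : (1 : L) ⊗ₜ[A] y ∈ LinearMap.range (f.lTensor L)) :
    ∃ (k : ℕ) (w : X), a ^ k • y = f w := by
  haveI := isLocalizedModule_mk a L X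
  obtain ⟨ω, hω⟩ := hy
  obtain ⟨⟨x, s⟩, hs⟩ := IsLocalizedModule.surj (Submonoid.powers a) (TensorProduct.mk A L X 1) ω
  obtain ⟨k, hk⟩ := s.2
  have hk' : a ^ k = (s : A) := hk
  have hs' : (a ^ k) • ω = (1 : L) ⊗ₜ[A] x := by
    rw [hk']; exact hs
  have h1 : (1 : L) ⊗ₜ[A] (a ^ k • y - f x) = 0 := by
    rw [tmul_sub, tmul_smul, ← hω, ← map_smul, hs', LinearMap.lTensor_tmul, sub_self]
  obtain ⟨k', hk'⟩ := loc_zero a L _ h1
  refine ⟨k' + k, a ^ k' • x, ?_⟩
  rw [smul_sub, sub_eq_zero] at hk'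
  rw [pow_add, mul_smul, hk', map_smul]

end Loc

end Groth.Agent.Lib.Helper15.EtGlue
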