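import Mathlib
import Groth.Agent.Lib.Helper15.EtGlue4

/-!
# Torsion of the cohomology of the Amitsur-type complex (helper15)
-/

set_option autoImplicit false
set_option linter.style.haveILetI false
set_option linter.unusedSectionVars false
set_option linter.style.longLine false

universe u

namespace Groth.Agent.Lib.Helper15.EtGlue

open TensorProduct

section PowIdeal

variable {A : Type*} [CommRing A] {R : Type*} [CommRing R] [Algebra A R]
  {ι : Type*} [Finite ι] (a : ι → A)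
  {Y : Type*} [AddCommGroup Y] [Module A Y] [Module R Y] [IsScalarTower A R Y]

theorem exists_pow_of_forall (P : Submodule R Y) (y : Y)
    (h : ∀ l, ∃ k : ℕ, a l ^ k • y ∈ P) :
    ∃ n : ℕ, ∀ x ∈ ((Ideal.span (Set.range a)).map (algebraMap A R)) ^ n, x • y ∈ P := by
  classical
  haveI := Fintype.ofFinite ι
  choose k hk using h
  let K := Finset.univ.sup k
  let 𝔟 : Ideal A := (P.restrictScalars A).comap (LinearMap.toSpanSingleton A Y y)
  have h𝔟 : ∀ x, x ∈ 𝔟 ↔ x • y ∈ P := fun x => by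
    simp [𝔟, LinearMap.toSpanSingleton_apply]
  have h1 : ∀ l, a l ^ K ∈ 𝔟 := by
    intro l
    have hle : k l ≤ K := Finset.le_sup (f := k) (Finset.mem_univ l)
    obtain ⟨m, hm⟩ := Nat.exists_eq_add_of_le hle
    rw [h𝔟, hm, pow_add, mul_comm, mul_smul]
    have := (P.restrictScalars A).smul_mem (a l ^ m) (hk l)
    exact this
  have h2 : Ideal.span (Set.range a) ≤ (Ideal.span (Set.range fun l => a l ^ K)).radical := by
    rw [Ideal.span_le]
    rintro _ ⟨l, rfl⟩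
    exact ⟨K, Ideal.subset_span ⟨l, rfl⟩⟩
  have hfg : (Ideal.span (Set.range a)).FG := by
    refine ⟨(Set.finite_range a).toFinset, ?_⟩
    simp
  obtain ⟨n, hn⟩ := Ideal.exists_pow_le_of_le_radical_of_fg h2 hfg
  have h3 : Ideal.span (Set.range fun l => a l ^ K) ≤ 𝔟 := by
    rw [Ideal.span_le]
    rintro _ ⟨l, rfl⟩
    exact h1 l
  refine ⟨n, ?_⟩
  let 𝔟' : Ideal R := P.comap (LinearMap.toSpanSingleton R Y y)
  have h𝔟' : ∀ x, x ∈ 𝔟' ↔ x • y ∈ P := fun x => by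
    simp [𝔟', LinearMap.toSpanSingleton_apply]
  have h4 : ((Ideal.span (Set.range a)).map (algebraMap A R)) ^ n ≤ 𝔟' := by
    rw [← Ideal.map_pow, Ideal.map_le_iff_le_comap]
    intro x hx
    rw [Ideal.mem_comap, h𝔟', algebraMap_smul, ← h𝔟]
    exact h3 (hn hx)
  intro x hx
  exact (h𝔟' x).mp (h4 hx)

end PowIdeal

section Tors

variable (A : Type*) [CommRing A] (R : Type*) [CommRing R] [Algebra A R]
  (Λ : Type*) [CommRing Λ] [Algebra A Λ]
  (N : Type*) [AddCommGroup N] [Module A N] [Module R N] [IsScalarTower A R N]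

theorem rT_eq_rTensor {N' : Type*} [AddCommGroup N'] [Module A N'] [Module R N']
    [IsScalarTower A R N'] (f : N →ₗ[R] N') (z : N ⊗[A] Λ) :
    rT A Λ f z = (f.restrictScalars A).rTensor Λ z := by
  induction z using TensorProduct.induction_on with
  | zero => simp
  | tmul n x => rfl
  | add z₁ z₂ h₁ h₂ => rw [map_add, map_add, h₁, h₂]

variable {A} (a : A) (L : Type*) [CommRing L] [Algebra A L] [IsLocalization.Away a L]
  (ε : Λ →ₐ[A] L)

include ε in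
/-- general contraction step. -/
theorem contr_range {P : Type*} [AddCommGroup P] [Module A P] (f : P →ₗ[A] P ⊗[A] Λ)
    (z : P ⊗[A] Λ)
    (hz : f.rTensor Λ z = z ⊗ₜ[A] (1 : Λ) ∨ f.rTensor Λ z = - (z ⊗ₜ[A] (1 : Λ))) :
    ∃ (k : ℕ) (w : P), a ^ k • z = f w := by
  apply loc_range a L f z
  have h1 : hC A Λ L ε (P ⊗[A] Λ) ((1 : L) ⊗ₜ[A] (z ⊗ₜ[A] (1 : Λ))) = (1 : L) ⊗ₜ[A] z := by
    have := hC_e A Λ L ε (P ⊗[A] Λ) ((1 : L) ⊗ₜ[A] z)
    rwa [LinearMap.lTensor_tmul] at this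
  have h2 : hC A Λ L ε (P ⊗[A] Λ) ((1 : L) ⊗ₜ[A] (f.rTensor Λ z)) =
      f.lTensor L (hC A Λ L ε P ((1 : L) ⊗ₜ[A] z)) := by
    have := hC_nat A Λ L ε f ((1 : L) ⊗ₜ[A] z)
    rwa [LinearMap.lTensor_tmul] at this
  rcases hz with hz | hz
  · refine ⟨hC A Λ L ε P ((1 : L) ⊗ₜ[A] z), ?_⟩
    rw [← h2, hz, h1]
  · refine ⟨- hC A Λ L ε P ((1 : L) ⊗ₜ[A] z), ?_⟩
    rw [map_neg, ← h2, hz, tmul_neg, map_neg, h1, neg_neg]

include ε in
theorem tors0_aux (n : N) (hn : d0 A R Λ N n = 0) : ∃ k : ℕ, a ^ k • n = 0 := by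
  apply loc_zero a L n
  have := hC_e A Λ L ε N ((1 : L) ⊗ₜ[A] n)
  rw [LinearMap.lTensor_tmul] at this
  rw [← this]
  have h0 : (TensorProduct.mk A N Λ).flip 1 n = 0 := hn
  rw [h0, tmul_zero, map_zero]

include ε in
theorem tors1_aux (z : N ⊗[A] Λ) (hz : d1 A R Λ N z = 0) :
    ∃ (k : ℕ) (w : N), a ^ k • z = d0 A R Λ N w := by
  have h := contr_range Λ a L ε ((d0 A R Λ N).restrictScalars A) z (Or.inl (by
    rw [← rT_eq_rTensor]
    have : d1 A R Λ N z = rT A Λ (eMap A R Λ N) z - eMap A R Λ _ z := LinearMap.sub_apply _ _ _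
    rw [this, eMap_apply, sub_eq_zero] at hz
    exact hz))
  exact h

include ε in
theorem tors2_aux (z : (N ⊗[A] Λ) ⊗[A] Λ) (hz : d2 A R Λ N z = 0) :
    ∃ (k : ℕ) (w : N ⊗[A] Λ), a ^ k • z = d1 A R Λ N w := by
  have h := contr_range Λ a L ε ((d1 A R Λ N).restrictScalars A) z (Or.inr (by
    rw [← rT_eq_rTensor]
    have : d2 A R Λ N z = rT A Λ (d1 A R Λ N) z + eMap A R Λ _ z := LinearMap.add_apply _ _ _
    rw [this, eMap_apply] at hz
    exact (eq_neg_iff_add_eq_zero (G := ((N ⊗[A] Λ) ⊗[A] Λ) ⊗[A] Λ)).mpr hz))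
  exact h

end Tors

section TorsIdeal

variable {A : Type*} [CommRing A] (R : Type*) [CommRing R] [Algebra A R]
  (Λ : Type*) [CommRing Λ] [Algebra A Λ]
  (N : Type*) [AddCommGroup N] [Module A N] [Module R N] [IsScalarTower A R N]
  {ι : Type*} [Finite ι] (a : ι → A)
  (L : ι → Type*) [∀ l, CommRing (L l)] [∀ l, Algebra A (L l)]
  [∀ l, IsLocalization.Away (a l) (L l)] (ε : ∀ l, Λ →ₐ[A] L l)

include ε

theorem tors0 (n : N) (hn : d0 A R Λ N n = 0) :
    ∃ m : ℕ, ∀ x ∈ ((Ideal.span (Set.range a)).map (algebraMap A R)) ^ m, x • n = 0 := by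
  have := exists_pow_of_forall (R := R) a (⊥ : Submodule R N) n (fun l => by
    obtain ⟨k, hk⟩ := tors0_aux R Λ N (a l) (L l) (ε l) n hn
    exact ⟨k, by rw [hk]; exact Submodule.zero_mem _⟩)
  obtain ⟨m, hm⟩ := this
  exact ⟨m, fun x hx => by simpa using hm x hx⟩

theorem tors1 (z : N ⊗[A] Λ) (hz : d1 A R Λ N z = 0) :
    ∃ m : ℕ, ∀ x ∈ ((Ideal.span (Set.range a)).map (algebraMap A R)) ^ m,
      x • z ∈ LinearMap.range (d0 A R Λ N) :=
  exists_pow_of_forall (R := R) a (LinearMap.range (d0 A R Λ N)) z (fun l => by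
    obtain ⟨k, w, hk⟩ := tors1_aux R Λ N (a l) (L l) (ε l) z hz
    exact ⟨k, w, hk.symm⟩)

theorem tors2 (z : (N ⊗[A] Λ) ⊗[A] Λ) (hz : d2 A R Λ N z = 0) :
    ∃ m : ℕ, ∀ x ∈ ((Ideal.span (Set.range a)).map (algebraMap A R)) ^ m,
      x • z ∈ LinearMap.range (d1 A R Λ N) :=
  exists_pow_of_forall (R := R) a (LinearMap.range (d1 A R Λ N)) z (fun l => by
    obtain ⟨k, w, hk⟩ := tors2_aux R Λ N (a l) (L l) (ε l) z hz
    exact ⟨k, w, hk.symm⟩)

end TorsIdeal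

end Groth.Agent.Lib.Helper15.EtGlue
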