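import Mathlib
import Groth.Agent.Lib.Helper15.EtGlue1

/-!
# Torsion cohomology is invariant under a flat neighbourhood (helper15)
-/

set_option autoImplicit false
set_option linter.style.haveILetI false
set_option linter.unusedSectionVars false
set_option linter.style.longLine false

universe u

namespace Groth.Agent.Lib.Helper15.EtGlue

open TensorProduct

section PL

variable {R R' : Type*} [CommRing R] [CommRing R'] [Algebra R R'] [Module.Flat R R'] {I : Ideal R}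
  (h : IsNbhdAlong (R' := R') I)
  {X Y Z : Type*} [AddCommGroup X] [AddCommGroup Y] [AddCommGroup Z] [Module R X] [Module R Y]
  [Module R Z] (f : X →ₗ[R] Y) (g : Y →ₗ[R] Z) (hgf : ∀ x, g (f x) = 0)
  (htors : ∀ y, g y = 0 → ∃ n : ℕ, ∀ x ∈ I ^ n, x • y ∈ LinearMap.range f)

include h hgf htors

theorem pl_inj (y : Y) (hy : g y = 0)
    (hy' : (1 : R') ⊗ₜ[R] y ∈ LinearMap.range (f.lTensor R')) : y ∈ LinearMap.range f := by
  let K := LinearMap.ker g
  let f' : X →ₗ[R] K := f.codRestrict K (fun x => hgf x)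
  let π := (LinearMap.range f').mkQ
  obtain ⟨ζ, hζ⟩ := hy'
  have hinj := Module.Flat.lTensor_preserves_injective_linearMap (M := R') K.subtype
    K.injective_subtype
  have h1 : (1 : R') ⊗ₜ[R] (⟨y, hy⟩ : K) = f'.lTensor R' ζ := by
    apply hinj
    rw [LinearMap.lTensor_tmul, ← LinearMap.comp_apply, ← LinearMap.lTensor_comp]
    have : K.subtype ∘ₗ f' = f := by
      ext x; rfl
    rw [this, hζ]
    rfl
  have h2 : (1 : R') ⊗ₜ[R] (π ⟨y, hy⟩) = 0 := by
    have := congrArg (π.lTensor R') h1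
    rw [LinearMap.lTensor_tmul, ← LinearMap.comp_apply, ← LinearMap.lTensor_comp] at this
    have h0 : π ∘ₗ f' = 0 := by
      ext x
      simp [π]
    rw [h0, LinearMap.lTensor_zero, LinearMap.zero_apply] at this
    exact this
  obtain ⟨n, hn⟩ := htors y hy
  have h3 : π ⟨y, hy⟩ = 0 := by
    refine t1_inj h (π ⟨y, hy⟩) n ?_ h2
    intro x hx
    rw [← map_smul, Submodule.mkQ_apply, Submodule.Quotient.mk_eq_zero]
    obtain ⟨w, hw⟩ := hn x hx
    exact ⟨w, Subtype.ext hw⟩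
  rw [Submodule.mkQ_apply, Submodule.Quotient.mk_eq_zero] at h3
  obtain ⟨w, hw⟩ := h3
  exact ⟨w, congrArg Subtype.val hw⟩

theorem pl_surj (ξ : R' ⊗[R] Y) (hξ : g.lTensor R' ξ = 0) :
    ∃ y, g y = 0 ∧ ∃ ζ, ξ = (1 : R') ⊗ₜ[R] y + f.lTensor R' ζ := by
  let K := LinearMap.ker g
  let f' : X →ₗ[R] K := f.codRestrict K (fun x => hgf x)
  let π := (LinearMap.range f').mkQ
  have hex := Module.Flat.lTensor_exact R' (LinearMap.exact_subtype_ker_map g)
  obtain ⟨κ, hκ⟩ := (hex ξ).mp hξ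
  have htorsH : ∀ θ : K ⧸ LinearMap.range f', ∃ n : ℕ, ∀ x ∈ I ^ n, x • θ = 0 := by
    intro θ
    obtain ⟨k, rfl⟩ := Submodule.Quotient.mk_surjective _ θ
    obtain ⟨n, hn⟩ := htors k.1 k.2
    refine ⟨n, fun x hx => ?_⟩
    rw [← Submodule.Quotient.mk_smul, Submodule.Quotient.mk_eq_zero]
    obtain ⟨w, hw⟩ := hn x hx
    exact ⟨w, Subtype.ext hw⟩
  obtain ⟨θ, hθ⟩ := t1_surj h htorsH (π.lTensor R' κ)
  obtain ⟨k, rfl⟩ := Submodule.Quotient.mk_surjective _ θ
  have hex2 := lTensor_exact R' (LinearMap.exact_map_mkQ_range f')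
    (Submodule.mkQ_surjective _)
  have h1 : π.lTensor R' (κ - (1 : R') ⊗ₜ[R] k) = 0 := by
    rw [map_sub, hθ, LinearMap.lTensor_tmul]
    exact sub_self _
  obtain ⟨ζ, hζ⟩ := (hex2 _).mp h1
  refine ⟨k.1, k.2, ζ, ?_⟩
  have h2 : κ = (1 : R') ⊗ₜ[R] k + f'.lTensor R' ζ := by rw [hζ]; abel
  rw [← hκ, h2, map_add, LinearMap.lTensor_tmul, ← LinearMap.comp_apply, ← LinearMap.lTensor_comp]
  rfl

end PL

end Groth.Agent.Lib.Helper15.EtGlue
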