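import Mathlib
import Groth.Agent.Lib.Helper15.EtGlue2

/-!
# Abstract gluing along a flat neighbourhood (helper15)
-/

set_option autoImplicit false
set_option linter.style.haveILetI false
set_option linter.unusedSectionVars false
set_option linter.style.longLine false

universe u

namespace Groth.Agent.Lib.Helper15.EtGlue

open TensorProduct

section Gen

variable {R R' : Type*} [CommRing R] [CommRing R'] [Algebra R R'] [Module.Flat R R'] {I : Ideal R}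
  (h : IsNbhdAlong (R' := R') I)
  {X Y Z : Type*} [AddCommGroup X] [AddCommGroup Y] [AddCommGroup Z] [Module R X] [Module R Y]
  [Module R Z] (f : X →ₗ[R] Y) (g : Y →ₗ[R] Z) (hgf : ∀ x, g (f x) = 0)
  (htors : ∀ y, g y = 0 → ∃ n : ℕ, ∀ x ∈ I ^ n, x • y ∈ LinearMap.range f)
  {P Q S : Type*} [AddCommGroup P] [AddCommGroup Q] [AddCommGroup S]
  (dP : P →+ Q) (dQ : Q →+ S)
  (ΘX : R' ⊗[R] X →+ P) (ΘY : R' ⊗[R] Y →+ Q) (ΘZ : R' ⊗[R] Z →+ S)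
  (sqX : ∀ μ, ΘY (f.lTensor R' μ) = dP (ΘX μ))
  (sqY : ∀ μ, ΘZ (g.lTensor R' μ) = dQ (ΘY μ))

include h hgf htors sqX in
/-- injectivity on cohomology. -/
theorem bb_inj (hΘX : Function.Surjective ΘX) (hΘY : Function.Injective ΘY)
    (y : Y) (hy : g y = 0) (p : P) (hp : ΘY ((1 : R') ⊗ₜ[R] y) = dP p) :
    ∃ x, f x = y := by
  obtain ⟨μ, rfl⟩ := hΘX p
  rw [← sqX] at hp
  have h1 := hΘY hp
  exact pl_inj h f g hgf htors y hy ⟨μ, h1.symm⟩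

include h hgf htors sqX sqY in
/-- surjectivity on cohomology. -/
theorem bb_surjH (hΘY : Function.Surjective ΘY) (hΘZ : Function.Injective ΘZ)
    (q : Q) (hq : dQ q = 0) :
    ∃ y, g y = 0 ∧ ∃ ζ : R' ⊗[R] X, q = ΘY ((1 : R') ⊗ₜ[R] y) + dP (ΘX ζ) := by
  obtain ⟨ξ, rfl⟩ := hΘY q
  rw [← sqY] at hq
  have h1 : g.lTensor R' ξ = 0 := hΘZ (by rw [hq, map_zero])
  obtain ⟨y, hy, ζ, hζ⟩ := pl_surj h f g hgf htors ξ h1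
  refine ⟨y, hy, ζ, ?_⟩
  rw [hζ, map_add, sqX]

end Gen

section BB

variable {R R' : Type*} [CommRing R] [CommRing R'] [Algebra R R'] [Module.Flat R R'] {I : Ideal R}
  (h : IsNbhdAlong (R' := R') I)
  {X0 X1 X2 X3 : Type*} [AddCommGroup X0] [AddCommGroup X1] [AddCommGroup X2] [AddCommGroup X3]
  [Module R X0] [Module R X1] [Module R X2] [Module R X3]
  (dX0 : X0 →ₗ[R] X1) (dX1 : X1 →ₗ[R] X2) (dX2 : X2 →ₗ[R] X3)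
  (hX10 : ∀ x, dX1 (dX0 x) = 0) (hX21 : ∀ x, dX2 (dX1 x) = 0)
  (tors0 : ∀ x, dX0 x = 0 → ∃ n : ℕ, ∀ a ∈ I ^ n, a • x = 0)
  (tors1 : ∀ y, dX1 y = 0 → ∃ n : ℕ, ∀ a ∈ I ^ n, a • y ∈ LinearMap.range dX0)
  (tors2 : ∀ y, dX2 y = 0 → ∃ n : ℕ, ∀ a ∈ I ^ n, a • y ∈ LinearMap.range dX1)
  {Y0 Y1 Y2 : Type*} [AddCommGroup Y0] [AddCommGroup Y1] [AddCommGroup Y2]
  (dY0 : Y0 →+ Y1) (dY1 : Y1 →+ Y2)
  (Θ0 : R' ⊗[R] X0 →+ Y0) (Θ1 : R' ⊗[R] X1 →+ Y1) (Θ2 : R' ⊗[R] X2 →+ Y2)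
  (sq0 : ∀ μ, Θ1 (dX0.lTensor R' μ) = dY0 (Θ0 μ))
  (sq1 : ∀ μ, Θ2 (dX1.lTensor R' μ) = dY1 (Θ1 μ))

include h tors0 sq0 in
theorem bb_b (hΘ1 : Function.Injective Θ1) (μ : R' ⊗[R] X0) (hμ : dY0 (Θ0 μ) = 0) :
    ∃ t, dX0 t = 0 ∧ μ = (1 : R') ⊗ₜ[R] t := by
  rw [← sq0] at hμ
  have h1 : dX0.lTensor R' μ = 0 := hΘ1 (by rw [hμ, map_zero])
  obtain ⟨y, hy, ζ, hζ⟩ := pl_surj h (0 : X0 →ₗ[R] X0) dX0 (fun x => by simp)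
    (fun y hy => by
      obtain ⟨n, hn⟩ := tors0 y hy
      exact ⟨n, fun x hx => by rw [hn x hx]; exact Submodule.zero_mem _⟩) μ h1
  refine ⟨y, hy, ?_⟩
  rw [hζ, LinearMap.lTensor_zero, LinearMap.zero_apply, add_zero]

include h tors0 sq0 in
theorem bb_flat (hΘ1 : Function.Injective Θ1) (μ : R' ⊗[R] X0) (hμ : Θ0 μ = 0) :
    ∃ t, dX0 t = 0 ∧ μ = (1 : R') ⊗ₜ[R] t :=
  bb_b h dX0 tors0 dY0 Θ0 Θ1 sq0 hΘ1 μ (by rw [hμ, map_zero])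

include h tors0 in
theorem bb_uniq (hΘ0 : Function.Injective Θ0) (m : X0) (h1 : Θ0 ((1 : R') ⊗ₜ[R] m) = 0)
    (h2 : dX0 m = 0) : m = 0 := by
  obtain ⟨n, hn⟩ := tors0 m h2
  exact t1_inj h m n hn (hΘ0 (by rw [h1, map_zero]))

include h hX10 tors0 tors1 sq0 in
theorem bb_ker (hΘ0 : Function.Surjective Θ0) (hΘ1 : Function.Injective Θ1)
    (m' : Y0) (z : X1) (hz : dX1 z = 0) (hm : dY0 m' = Θ1 ((1 : R') ⊗ₜ[R] z)) :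
    ∃ m, Θ0 ((1 : R') ⊗ₜ[R] m) = m' ∧ dX0 m = z := by
  obtain ⟨m₀, hm₀⟩ := bb_inj h dX0 dX1 hX10 tors1 dY0 Θ0 Θ1 sq0 hΘ0 hΘ1 z hz m' hm.symm
  obtain ⟨μ, hμ⟩ := hΘ0 (m' - Θ0 ((1 : R') ⊗ₜ[R] m₀))
  have h1 : dY0 (Θ0 μ) = 0 := by
    rw [hμ, map_sub, hm, ← sq0, LinearMap.lTensor_tmul, hm₀, sub_self]
  obtain ⟨t, ht, rfl⟩ := bb_b h dX0 tors0 dY0 Θ0 Θ1 sq0 hΘ1 μ h1
  refine ⟨m₀ + t, ?_, ?_⟩
  · rw [tmul_add, map_add, hμ]; abel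
  · rw [map_add, hm₀, ht, add_zero]

include h hX10 hX21 tors1 tors2 sq0 sq1 in
theorem bb_surj (hΘ1 : Function.Bijective Θ1) (hΘ2 : Function.Injective Θ2)
    (ω : Y1) (η : X2) (hη : dX2 η = 0) (hω : dY1 ω = - Θ2 ((1 : R') ⊗ₜ[R] η)) :
    ∃ (c₁ : Y0) (s₁ : X1), dY0 c₁ - Θ1 ((1 : R') ⊗ₜ[R] s₁) = ω ∧ dX1 s₁ = η := by
  obtain ⟨s₀, hs₀⟩ := bb_inj h dX1 dX2 hX21 tors2 dY1 Θ1 Θ2 sq1 hΘ1.2 hΘ2 η hη (-ω)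
    (by rw [map_neg, hω, neg_neg])
  have h1 : dY1 (ω + Θ1 ((1 : R') ⊗ₜ[R] s₀)) = 0 := by
    rw [map_add, hω, ← sq1, LinearMap.lTensor_tmul, hs₀]
    exact neg_add_cancel _
  obtain ⟨z, hz, ζ, hζ⟩ := bb_surjH h dX0 dX1 hX10 tors1 dY0 dY1 Θ0 Θ1 Θ2 sq0 sq1 hΘ1.2 hΘ2 _ h1
  refine ⟨Θ0 ζ, s₀ - z, ?_, ?_⟩
  · rw [tmul_sub, map_sub]
    have : ω = Θ1 ((1 : R') ⊗ₜ[R] z) + dY0 (Θ0 ζ) - Θ1 ((1 : R') ⊗ₜ[R] s₀) := by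
      rw [← hζ]; abel
    rw [this]; abel
  · rw [map_sub, hs₀, hz, sub_zero]

end BB

end Groth.Agent.Lib.Helper15.EtGlue
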