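import Mathlib
import Groth.Agent.Lib.Helper15.EtGlue5
import Groth.Agent.Lib.Helper15.EtGlue6

/-!
# Gluing for the Amitsur-type complex (helper15)
-/

set_option autoImplicit false
set_option linter.style.haveILetI false
set_option linter.unusedSectionVars false
set_option linter.style.longLine false

universe u

namespace Groth.Agent.Lib.Helper15.EtGlue

open TensorProduct

section Plus

variable (A : Type*) [CommRing A] {R : Type*} [CommRing R] [Algebra A R]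
  {R' : Type*} [CommRing R'] [Algebra R R'] [Algebra A R'] [IsScalarTower A R R']
  (Λ : Type*) [CommRing Λ] [Algebra A Λ]
  {N : Type*} [AddCommGroup N] [Module A N] [Module R N] [IsScalarTower A R N]
  {N' : Type*} [AddCommGroup N'] [Module A N'] [Module R N'] [IsScalarTower A R N']
  {Y : Type*} [AddCommGroup Y] [Module A Y]
  {Y' : Type*} [AddCommGroup Y'] [Module A Y']

/-- `r' ⊗ (n ⊗ x) ↦ φ (r' ⊗ n) ⊗ x`. -/
noncomputable def plus (φ : R' ⊗[R] N →ₗ[A] Y) : R' ⊗[R] (N ⊗[A] Λ) →ₗ[A] Y ⊗[A] Λ :=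
  (φ.rTensor Λ) ∘ₗ
    ((AlgebraTensorModule.assoc A R R' R' N Λ).symm.restrictScalars A).toLinearMap

@[simp] theorem plus_tmul (φ : R' ⊗[R] N →ₗ[A] Y) (r' : R') (n : N) (x : Λ) :
    plus A Λ φ (r' ⊗ₜ[R] (n ⊗ₜ[A] x)) = φ (r' ⊗ₜ[R] n) ⊗ₜ[A] x := rfl

theorem plus_surjective (φ : R' ⊗[R] N →ₗ[A] Y) (hφ : Function.Surjective φ) :
    Function.Surjective (plus A Λ φ) := by
  have h1 : Function.Surjective (φ.rTensor Λ) := LinearMap.rTensor_surjective Λ hφ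
  intro y
  obtain ⟨w, rfl⟩ := h1 y
  refine ⟨(AlgebraTensorModule.assoc A R R' R' N Λ) w, ?_⟩
  simp [plus]

theorem plus_injective [Module.Flat A Λ] (φ : R' ⊗[R] N →ₗ[A] Y) (hφ : Function.Injective φ) :
    Function.Injective (plus A Λ φ) := by
  have h1 : Function.Injective (φ.rTensor Λ) :=
    Module.Flat.rTensor_preserves_injective_linearMap φ hφ
  intro x y hxy
  simp only [plus, LinearMap.comp_apply] at hxy
  have := h1 hxy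
  simpa using this

theorem plus_injective' (φ : R' ⊗[R] N →ₗ[A] Y) (hφ : Function.Injective (φ.rTensor Λ)) :
    Function.Injective (plus A Λ φ) := by
  intro x y hxy
  simp only [plus, LinearMap.comp_apply] at hxy
  have := hφ hxy
  simpa using this

theorem plus_eMap (φ : R' ⊗[R] N →ₗ[A] Y) (μ : R' ⊗[R] N) :
    plus A Λ φ ((eMap A R Λ N).lTensor R' μ) = (φ μ) ⊗ₜ[A] (1 : Λ) := by
  induction μ using TensorProduct.induction_on with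
  | zero => simp
  | tmul r' n => simp
  | add μ₁ μ₂ h₁ h₂ => rw [map_add, map_add, h₁, h₂, map_add, add_tmul]

theorem plus_nat (φ : R' ⊗[R] N →ₗ[A] Y) (φ' : R' ⊗[R] N' →ₗ[A] Y') (f : N →ₗ[R] N')
    (g : Y →ₗ[A] Y') (hfg : ∀ μ, φ' (f.lTensor R' μ) = g (φ μ)) (ν : R' ⊗[R] (N ⊗[A] Λ)) :
    plus A Λ φ' ((rT A Λ f).lTensor R' ν) = g.rTensor Λ (plus A Λ φ ν) := by
  induction ν using TensorProduct.induction_on with
  | zero => simp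
  | tmul r' z =>
    induction z using TensorProduct.induction_on with
    | zero => simp
    | tmul n x =>
      rw [LinearMap.lTensor_tmul, rT_tmul, plus_tmul, plus_tmul, LinearMap.rTensor_tmul,
        ← hfg, LinearMap.lTensor_tmul]
    | add z₁ z₂ h₁ h₂ =>
      rw [tmul_add, map_add, map_add, h₁, h₂, map_add, map_add]
  | add ν₁ ν₂ h₁ h₂ => rw [map_add, map_add, h₁, h₂, map_add, map_add]

/-- `n ↦ φ (1 ⊗ n)`. -/
noncomputable def qOf (φ : R' ⊗[R] N →ₗ[A] Y) : N →ₗ[A] Y :=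
  φ ∘ₗ ((TensorProduct.mk R R' N 1).restrictScalars A)

@[simp] theorem qOf_apply (φ : R' ⊗[R] N →ₗ[A] Y) (n : N) :
    qOf A φ n = φ ((1 : R') ⊗ₜ[R] n) := rfl

theorem plus_one (φ : R' ⊗[R] N →ₗ[A] Y) (z : N ⊗[A] Λ) :
    plus A Λ φ ((1 : R') ⊗ₜ[R] z) = (qOf A φ).rTensor Λ z := by
  induction z using TensorProduct.induction_on with
  | zero => simp
  | tmul n x => rfl
  | add z₁ z₂ h₁ h₂ => rw [tmul_add, map_add, h₁, h₂, map_add]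

theorem qOf_plus (φ : R' ⊗[R] N →ₗ[A] Y) : qOf A (plus A Λ φ) = (qOf A φ).rTensor Λ := by
  exact LinearMap.ext fun z => plus_one A Λ φ z

end Plus

section KGlue

variable {A : Type*} [CommRing A] {R : Type*} [CommRing R] [Algebra A R]
  {R' : Type*} [CommRing R'] [Algebra R R'] [Algebra A R'] [IsScalarTower A R R']
  [Module.Flat R R']
  (Λ : Type*) [CommRing Λ] [Algebra A Λ]
  {ι : Type*} [Finite ι] (a : ι → A)
  (L : ι → Type*) [∀ l, CommRing (L l)] [∀ l, Algebra A (L l)]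
  [∀ l, IsLocalization.Away (a l) (L l)] (ε : ∀ l, Λ →ₐ[A] L l)
  (h : IsNbhdAlong (R' := R') ((Ideal.span (Set.range a)).map (algebraMap A R)))
  {M : Type*} [AddCommGroup M] [Module A M] [Module R M] [IsScalarTower A R M]
  {𝔐' : Type*} [AddCommGroup 𝔐'] [Module A 𝔐']
  (Θ0 : R' ⊗[R] M →ₗ[A] 𝔐')

theorem sq0_K (μ : R' ⊗[R] M) :
    plus A Λ Θ0 ((d0 A R Λ M).lTensor R' μ) = d0 A A Λ 𝔐' (Θ0 μ) :=
  plus_eMap A Λ Θ0 μ

theorem sq1_K (μ : R' ⊗[R] (M ⊗[A] Λ)) :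
    plus A Λ (plus A Λ Θ0) ((d1 A R Λ M).lTensor R' μ) = d1 A A Λ 𝔐' (plus A Λ Θ0 μ) := by
  have h1 : d1 A R Λ M = rT A Λ (eMap A R Λ M) - eMap A R Λ (M ⊗[A] Λ) := rfl
  have h2 : d1 A A Λ 𝔐' (plus A Λ Θ0 μ) = rT A Λ (eMap A A Λ 𝔐') (plus A Λ Θ0 μ)
      - eMap A A Λ _ (plus A Λ Θ0 μ) := LinearMap.sub_apply _ _ _
  rw [h1, LinearMap.lTensor_sub, LinearMap.sub_apply, map_sub, h2, plus_eMap, eMap_apply,
    plus_nat A Λ Θ0 (plus A Λ Θ0) (eMap A R Λ M) (eMap A A Λ 𝔐') (fun μ => plus_eMap A Λ Θ0 μ),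
    rT_eq_rTensor]
  rfl

include ε h in
theorem K_ker (hΘ0 : Function.Surjective Θ0) (hΘ1 : Function.Injective (Θ0.rTensor Λ))
    (m' : 𝔐') (z : M ⊗[A] Λ) (hz : d1 A R Λ M z = 0)
    (hm : m' ⊗ₜ[A] (1 : Λ) = (qOf A Θ0).rTensor Λ z) :
    ∃ m, Θ0 ((1 : R') ⊗ₜ[R] m) = m' ∧ m ⊗ₜ[A] (1 : Λ) = z := by
  have := bb_ker h (d0 A R Λ M) (d1 A R Λ M) (d1_d0 A R Λ M)
    (tors0 R Λ M a L ε) (tors1 R Λ M a L ε)
    ((d0 A A Λ 𝔐').toAddMonoidHom) (Θ0.toAddMonoidHom) ((plus A Λ Θ0).toAddMonoidHom)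
    (sq0_K Λ Θ0) hΘ0 (plus_injective' A Λ Θ0 hΘ1) m' z hz (by
      show m' ⊗ₜ[A] (1 : Λ) = plus A Λ Θ0 ((1 : R') ⊗ₜ[R] z)
      rw [plus_one, hm])
  exact this

include ε h in
theorem K_uniq (hΘ0 : Function.Injective Θ0) (m : M) (h1 : Θ0 ((1 : R') ⊗ₜ[R] m) = 0)
    (h2 : m ⊗ₜ[A] (1 : Λ) = 0) : m = 0 :=
  bb_uniq h (d0 A R Λ M) (tors0 R Λ M a L ε) (Θ0.toAddMonoidHom) hΘ0 m h1 h2

include ε h in
theorem K_flat (hΘ1 : Function.Injective (Θ0.rTensor Λ)) (μ : R' ⊗[R] M) (hμ : Θ0 μ = 0) :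
    ∃ t : M, t ⊗ₜ[A] (1 : Λ) = 0 ∧ μ = (1 : R') ⊗ₜ[R] t :=
  bb_flat h (d0 A R Λ M) (tors0 R Λ M a L ε)
    ((d0 A A Λ 𝔐').toAddMonoidHom) (Θ0.toAddMonoidHom) ((plus A Λ Θ0).toAddMonoidHom)
    (sq0_K Λ Θ0) (plus_injective' A Λ Θ0 hΘ1) μ hμ

include ε h in
theorem K_surj [Module.Flat A Λ] (hΘ0 : Function.Surjective Θ0)
    (hΘ1 : Function.Injective (Θ0.rTensor Λ))
    (ω : 𝔐' ⊗[A] Λ) (η : (M ⊗[A] Λ) ⊗[A] Λ) (hη : d2 A R Λ M η = 0)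
    (hω : d1 A A Λ 𝔐' ω = - ((qOf A Θ0).rTensor Λ).rTensor Λ η) :
    ∃ (c₁ : 𝔐') (s₁ : M ⊗[A] Λ),
      c₁ ⊗ₜ[A] (1 : Λ) - (qOf A Θ0).rTensor Λ s₁ = ω ∧ d1 A R Λ M s₁ = η := by
  have hinj1 := plus_injective' A Λ Θ0 hΘ1
  have := bb_surj (X3 := ((M ⊗[A] Λ) ⊗[A] Λ) ⊗[A] Λ) h (d0 A R Λ M) (d1 A R Λ M) (d2 A R Λ M)
    (d1_d0 A R Λ M) (d2_d1 A R Λ M)
    (tors1 R Λ M a L ε) (tors2 R Λ M a L ε)
    ((d0 A A Λ 𝔐').toAddMonoidHom) ((d1 A A Λ 𝔐').toAddMonoidHom)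
    (Θ0.toAddMonoidHom) ((plus A Λ Θ0).toAddMonoidHom)
    ((plus A Λ (plus A Λ Θ0)).toAddMonoidHom)
    (sq0_K Λ Θ0) (sq1_K Λ Θ0) ⟨hinj1, plus_surjective A Λ Θ0 hΘ0⟩
    (plus_injective A Λ _ hinj1) ω η hη (by
      show d1 A A Λ 𝔐' ω = - plus A Λ (plus A Λ Θ0) ((1 : R') ⊗ₜ[R] η)
      rw [plus_one, qOf_plus, hω])
  obtain ⟨c₁, s₁, h1, h2⟩ := this
  refine ⟨c₁, s₁, ?_, h2⟩
  rw [← h1]
  show _ = c₁ ⊗ₜ[A] (1 : Λ) - plus A Λ Θ0 ((1 : R') ⊗ₜ[R] s₁)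
  rw [plus_one]

end KGlue

end Groth.Agent.Lib.Helper15.EtGlue
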