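import Mathlib

/-!
# Square-zero thickenings: the map `E₀ ⊗ J → E` (helper15)
-/

set_option autoImplicit false
set_option linter.style.haveILetI false
set_option linter.unusedSectionVars false
set_option linter.style.longLine false

universe u

namespace Groth.Agent.Lib.Helper15.EtGlue

open TensorProduct

section Star

variable {A : Type*} [CommRing A] {J : Ideal A} (hJ : ∀ x ∈ J, ∀ y ∈ J, x * y = 0)
  {E E₀ : Type*} [CommRing E] [CommRing E₀] [Algebra A E] [Algebra A E₀]
  (p : E →ₐ[A] E₀) (hp : Function.Surjective p)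
  (hker : RingHom.ker (p : E →+* E₀) = J.map (algebraMap A E))

include hJ hker in
theorem smul_ker_eq_zero (j : A) (hj : j ∈ J) (u : E) (hu : p u = 0) : j • u = 0 := by
  have hu' : u ∈ J.map (algebraMap A E) := by rw [← hker]; exact hu
  rw [Ideal.map] at hu'
  clear hu
  induction hu' using Submodule.span_induction with
  | mem x hx =>
    obtain ⟨y, hy, rfl⟩ := hx
    rw [Algebra.smul_def, ← map_mul, hJ j hj y hy, map_zero]
  | zero => simp
  | add x y _ _ hx hy => rw [smul_add, hx, hy, add_zero]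
  | smul e x _ hx => rw [smul_comm, hx, smul_zero]

include hJ hker in
theorem smul_eq_of_map_eq (j : A) (hj : j ∈ J) (u v : E) (huv : p u = p v) : j • u = j • v := by
  have := smul_ker_eq_zero hJ p hker j hj (u - v) (by rw [map_sub, huv, sub_self])
  rwa [smul_sub, sub_eq_zero] at this

/-- `ē ⊗ j ↦ j • e`. -/
noncomputable def star : E₀ ⊗[A] J →ₗ[A] E :=
  TensorProduct.lift (LinearMap.mk₂ A (fun (ē : E₀) (j : J) => (j : A) • Function.surjInv hp ē)
    (fun ē₁ ē₂ j => by
      rw [← smul_add]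
      apply smul_eq_of_map_eq hJ p hker j j.2
      rw [map_add]
      simp only [Function.surjInv_eq hp])
    (fun c ē j => by
      rw [smul_comm, ← smul_assoc]
      rw [smul_assoc]
      apply smul_eq_of_map_eq hJ p hker j j.2
      rw [map_smul]
      simp only [Function.surjInv_eq hp])
    (fun ē j₁ j₂ => by
      rw [Submodule.coe_add, add_smul])
    (fun c ē j => by
      rw [Submodule.coe_smul, smul_assoc]))

theorem star_tmul (e : E) (j : J) : star hJ p hp hker (p e ⊗ₜ[A] j) = (j : A) • e := by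
  rw [star, TensorProduct.lift.tmul, LinearMap.mk₂_apply]
  apply smul_eq_of_map_eq hJ p hker j j.2
  rw [Function.surjInv_eq hp]

theorem map_star (ξ : E₀ ⊗[A] J) : p (star hJ p hp hker ξ) = 0 := by
  induction ξ using TensorProduct.induction_on with
  | zero => simp
  | tmul ē j =>
    obtain ⟨e, rfl⟩ := hp ē
    rw [star_tmul, Algebra.smul_def, map_mul]
    have : algebraMap A E j ∈ RingHom.ker (p : E →+* E₀) := by
      rw [hker]; exact Ideal.mem_map_of_mem _ j.2
    have h0 : p (algebraMap A E j) = 0 := this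
    rw [h0, zero_mul]
  | add ξ₁ ξ₂ h₁ h₂ => rw [map_add, map_add, h₁, h₂, add_zero]

theorem star_mem (ξ : E₀ ⊗[A] J) : star hJ p hp hker ξ ∈ J.map (algebraMap A E) := by
  rw [← hker]
  exact map_star hJ p hp hker ξ

theorem mul_star (e : E) (ξ : E₀ ⊗[A] J) :
    e * star hJ p hp hker ξ = star hJ p hp hker (p e • ξ) := by
  induction ξ using TensorProduct.induction_on with
  | zero => simp
  | tmul ē j =>
    obtain ⟨e', rfl⟩ := hp ē
    rw [TensorProduct.smul_tmul', smul_eq_mul, ← map_mul, star_tmul, star_tmul,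
      mul_smul_comm]
  | add ξ₁ ξ₂ h₁ h₂ => rw [map_add, mul_add, h₁, h₂, smul_add, map_add]

theorem exists_star_eq (x : E) (hx : x ∈ J.map (algebraMap A E)) :
    ∃ ξ, star hJ p hp hker ξ = x := by
  rw [Ideal.map] at hx
  induction hx using Submodule.span_induction with
  | mem x hx =>
    obtain ⟨j, hj, rfl⟩ := hx
    refine ⟨(1 : E₀) ⊗ₜ[A] (⟨j, hj⟩ : J), ?_⟩
    have := star_tmul hJ p hp hker 1 ⟨j, hj⟩
    rw [map_one] at this
    rw [this, Algebra.smul_def, mul_one]
  | zero => exact ⟨0, map_zero _⟩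
  | add x y _ _ hx hy =>
    obtain ⟨ξ₁, h₁⟩ := hx
    obtain ⟨ξ₂, h₂⟩ := hy
    exact ⟨ξ₁ + ξ₂, by rw [map_add, h₁, h₂]⟩
  | smul e x _ hx =>
    obtain ⟨ξ, h₁⟩ := hx
    exact ⟨p e • ξ, by rw [← mul_star, h₁, smul_eq_mul]⟩

theorem exists_star_eq_of_map_eq_zero (x : E) (hx : p x = 0) :
    ∃ ξ, star hJ p hp hker ξ = x :=
  exists_star_eq hJ p hp hker x (by rw [← hker]; exact hx)

theorem star_rTensor (ξ : E ⊗[A] J) :
    star hJ p hp hker (p.toLinearMap.rTensor J ξ) =
      TensorProduct.rid A E (J.subtype.lTensor E ξ) := by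
  induction ξ using TensorProduct.induction_on with
  | zero => simp
  | tmul e j =>
    rw [LinearMap.rTensor_tmul, AlgHom.toLinearMap_apply, star_tmul, LinearMap.lTensor_tmul,
      TensorProduct.rid_tmul]
    rfl
  | add ξ₁ ξ₂ h₁ h₂ => rw [map_add, map_add, h₁, h₂, map_add, map_add]

theorem star_injective [Module.Flat A E] : Function.Injective (star hJ p hp hker) := by
  rw [injective_iff_map_eq_zero]
  intro ξ hξ
  obtain ⟨ξ', rfl⟩ := LinearMap.rTensor_surjective J (g := p.toLinearMap) hp ξ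
  rw [star_rTensor] at hξ
  have h1 : J.subtype.lTensor E ξ' = 0 := by
    apply (TensorProduct.rid A E).injective
    rw [hξ, map_zero]
  have h2 : Function.Injective (J.subtype.lTensor E) :=
    Module.Flat.lTensor_preserves_injective_linearMap J.subtype J.injective_subtype
  have h3 : ξ' = 0 := h2 (by rw [h1, map_zero])
  rw [h3, map_zero]

end Star

section Nat

variable {A : Type*} [CommRing A] {J : Ideal A} (hJ : ∀ x ∈ J, ∀ y ∈ J, x * y = 0)
  {E E₀ : Type*} [CommRing E] [CommRing E₀] [Algebra A E] [Algebra A E₀]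
  (p : E →ₐ[A] E₀) (hp : Function.Surjective p)
  (hker : RingHom.ker (p : E →+* E₀) = J.map (algebraMap A E))
  {F F₀ : Type*} [CommRing F] [CommRing F₀] [Algebra A F] [Algebra A F₀]
  (pF : F →ₐ[A] F₀) (hpF : Function.Surjective pF)
  (hkerF : RingHom.ker (pF : F →+* F₀) = J.map (algebraMap A F))

theorem star_nat (φ : E →ₗ[A] F) (φ₀ : E₀ →ₗ[A] F₀) (hφ : ∀ e, pF (φ e) = φ₀ (p e))
    (ξ : E₀ ⊗[A] J) :
    φ (star hJ p hp hker ξ) = star hJ pF hpF hkerF (φ₀.rTensor J ξ) := by
  induction ξ using TensorProduct.induction_on with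
  | zero => simp
  | tmul ē j =>
    obtain ⟨e, rfl⟩ := hp ē
    rw [star_tmul, LinearMap.rTensor_tmul, ← hφ, star_tmul, map_smul]
  | add ξ₁ ξ₂ h₁ h₂ => rw [map_add, map_add, h₁, h₂, map_add, map_add]

end Nat

section BaseChange

variable {A : Type*} [CommRing A] {J : Ideal A}
  {E E₀ : Type*} [CommRing E] [CommRing E₀] [Algebra A E] [Algebra A E₀]
  (p : E →ₐ[A] E₀) (hp : Function.Surjective p)
  (hker : RingHom.ker (p : E →+* E₀) = J.map (algebraMap A E))
  (Λ : Type*) [CommRing Λ] [Algebra A Λ]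

/-- `p ⊗ id`. -/
noncomputable def pT : E ⊗[A] Λ →ₐ[A] E₀ ⊗[A] Λ :=
  Algebra.TensorProduct.map p (AlgHom.id A Λ)

@[simp] theorem pT_tmul (e : E) (x : Λ) : pT p Λ (e ⊗ₜ[A] x) = p e ⊗ₜ[A] x := rfl

include hp in
theorem pT_surjective : Function.Surjective (pT p Λ) :=
  Algebra.TensorProduct.map_surjective p (AlgHom.id A Λ) hp Function.surjective_id

include hp hker in
theorem pT_ker : RingHom.ker (pT p Λ : E ⊗[A] Λ →+* E₀ ⊗[A] Λ) =
    J.map (algebraMap A (E ⊗[A] Λ)) := by
  have h1 := Algebra.TensorProduct.rTensor_ker (R := A) (S := A) (C := Λ) p hp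
  have h2 : (algebraMap A (E ⊗[A] Λ)) =
      (Algebra.TensorProduct.includeLeft : E →ₐ[A] E ⊗[A] Λ).toRingHom.comp (algebraMap A E) := by
    ext x
    simp [Algebra.TensorProduct.algebraMap_apply]
  rw [h2, ← Ideal.map_map, ← hker]
  exact h1

end BaseChange

end Groth.Agent.Lib.Helper15.EtGlue
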