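import Mathlib
import Groth.Agent.Lib.Helper15.EtGlue7
import Groth.Agent.Lib.Helper15.EtGlue8

/-!
# Square-zero gluing: the module-level dictionary (helper15)
-/

set_option autoImplicit false
set_option linter.style.haveILetI false
set_option linter.unusedSectionVars false
set_option linter.style.longLine false
set_option maxSynthPendingDepth 3

universe u

namespace Groth.Agent.Lib.Helper15.EtGlue

open TensorProduct

section StarBC

variable {A : Type*} [CommRing A] {J : Ideal A} (hJ : ∀ x ∈ J, ∀ y ∈ J, x * y = 0)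
  {E E₀ : Type*} [CommRing E] [CommRing E₀] [Algebra A E] [Algebra A E₀]
  (p : E →ₐ[A] E₀) (hp : Function.Surjective p)
  (hker : RingHom.ker (p : E →+* E₀) = J.map (algebraMap A E))
  (Λ : Type*) [CommRing Λ] [Algebra A Λ]

/-- `star` of the base change is the base change of `star`. -/
theorem star_rTensor_Lam (w : (E₀ ⊗[A] J) ⊗[A] Λ) :
    (star hJ p hp hker).rTensor Λ w =
      star hJ (pT p Λ) (pT_surjective p hp Λ) (pT_ker p hp hker Λ)
        (TensorProduct.rightComm A E₀ J Λ w) := by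
  induction w using TensorProduct.induction_on with
  | zero => simp
  | tmul ξ x =>
    induction ξ using TensorProduct.induction_on with
    | zero => simp
    | tmul ē j =>
      obtain ⟨e, rfl⟩ := hp ē
      rw [LinearMap.rTensor_tmul, star_tmul, TensorProduct.rightComm_tmul]
      have : (p e) ⊗ₜ[A] x = pT p Λ (e ⊗ₜ[A] x) := rfl
      rw [this, star_tmul, TensorProduct.smul_tmul']
    | add ξ₁ ξ₂ h₁ h₂ =>
      rw [add_tmul, map_add, map_add, map_add, h₁, h₂]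
  | add w₁ w₂ h₁ h₂ => rw [map_add, map_add, map_add, h₁, h₂]

theorem star_rTensor_Lam_injective [Module.Flat A (E ⊗[A] Λ)] :
    Function.Injective ((star hJ p hp hker).rTensor Λ) := by
  intro w₁ w₂ h
  rw [star_rTensor_Lam, star_rTensor_Lam] at h
  have := star_injective hJ (pT p Λ) (pT_surjective p hp Λ) (pT_ker p hp hker Λ) h
  exact (TensorProduct.rightComm A E₀ J Λ).injective this

theorem exists_rTensor_star_eq (y : E ⊗[A] Λ) (hy : pT p Λ y = 0) :
    ∃ w, (star hJ p hp hker).rTensor Λ w = y := by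
  obtain ⟨ξ, hξ⟩ := exists_star_eq_of_map_eq_zero hJ (pT p Λ) (pT_surjective p hp Λ)
    (pT_ker p hp hker Λ) y hy
  refine ⟨(TensorProduct.rightComm A E₀ J Λ).symm ξ, ?_⟩
  rw [star_rTensor_Lam, LinearEquiv.apply_symm_apply, hξ]

end StarBC


section D1Apply

variable (A : Type*) [CommRing A] (R : Type*) [CommRing R] [Algebra A R]
  (Λ : Type*) [CommRing Λ] [Algebra A Λ]
  (N : Type*) [AddCommGroup N] [Module A N] [Module R N] [IsScalarTower A R N]

theorem d1_apply (z : N ⊗[A] Λ) :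
    d1 A R Λ N z = rT A Λ (eMap A R Λ N) z - z ⊗ₜ[A] (1 : Λ) :=
  LinearMap.sub_apply _ _ _

theorem d2_apply (z : (N ⊗[A] Λ) ⊗[A] Λ) :
    d2 A R Λ N z = rT A Λ (d1 A R Λ N) z + z ⊗ₜ[A] (1 : Λ) :=
  LinearMap.add_apply _ _ _

end D1Apply

section RingFaces

variable {A : Type*} [CommRing A] (Λ : Type*) [CommRing Λ] [Algebra A Λ]
  (E : Type*) [CommRing E] [Algebra A E]

/-- `e ↦ e ⊗ 1`. -/
noncomputable abbrev inc : E →ₐ[A] E ⊗[A] Λ := Algebra.TensorProduct.includeLeft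

theorem rT_eMap_eq (z : E ⊗[A] Λ) :
    rT A Λ (eMap A A Λ E) z = pT (inc Λ E) Λ z := by
  induction z using TensorProduct.induction_on with
  | zero => simp
  | tmul e x => rfl
  | add z₁ z₂ h₁ h₂ => rw [map_add, map_add, h₁, h₂]

theorem d1_ring (z : E ⊗[A] Λ) :
    d1 A A Λ E z = pT (inc Λ E) Λ z - z ⊗ₜ[A] (1 : Λ) := by
  have : d1 A A Λ E z = rT A Λ (eMap A A Λ E) z - eMap A A Λ _ z := LinearMap.sub_apply _ _ _
  rw [this, eMap_apply, rT_eMap_eq]

variable {E} {F : Type*} [CommRing F] [Algebra A F]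

theorem pT_toLinearMap (f : E →ₐ[A] F) (z : E ⊗[A] Λ) :
    f.toLinearMap.rTensor Λ z = pT f Λ z := by
  induction z using TensorProduct.induction_on with
  | zero => simp
  | tmul e x => rfl
  | add z₁ z₂ h₁ h₂ => rw [map_add, map_add, h₁, h₂]

theorem pT_inc (f : E →ₐ[A] F) (e : E) : pT f Λ (e ⊗ₜ[A] (1 : Λ)) = f e ⊗ₜ[A] (1 : Λ) := rfl

/-- naturality of `inc`: `(f ⊗ id ⊗ id) ∘ (inc ⊗ id) = (inc ⊗ id) ∘ (f ⊗ id)`. -/
theorem pT_pT_inc (f : E →ₐ[A] F) (z : E ⊗[A] Λ) :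
    pT (pT f Λ) Λ (pT (inc Λ E) Λ z) = pT (inc Λ F) Λ (pT f Λ z) := by
  induction z using TensorProduct.induction_on with
  | zero => simp
  | tmul e x => rfl
  | add z₁ z₂ h₁ h₂ => rw [map_add, map_add, map_add, map_add, h₁, h₂]

end RingFaces

/-- The data of a square-zero gluing problem. -/
structure GlueData (A : Type u) [CommRing A] (J : Ideal A) (R R' C 𝔖 Λ : Type u)
    [CommRing R] [CommRing R'] [CommRing C] [CommRing 𝔖] [CommRing Λ]
    [Algebra A R] [Algebra A R'] [Algebra R R'] [IsScalarTower A R R'] [Algebra A C] [Algebra A 𝔖]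
    [Algebra A Λ] where
  hJ : ∀ x ∈ J, ∀ y ∈ J, x * y = 0
  pC : C →ₐ[A] R'
  hpC : Function.Surjective pC
  hkC : RingHom.ker (pC : C →+* R') = J.map (algebraMap A C)
  pS : 𝔖 →ₐ[A] R ⊗[A] Λ
  hpS : Function.Surjective pS
  hkS : RingHom.ker (pS : 𝔖 →+* R ⊗[A] Λ) = J.map (algebraMap A 𝔖)
  σ : 𝔖 →ₐ[A] 𝔖 ⊗[A] Λ
  β : 𝔖 →ₐ[A] C ⊗[A] Λ
  hσ : ∀ s, pT pS Λ (σ s) = pT (inc Λ R) Λ (pS s)
  hβ : ∀ s, pT pC Λ (β s) = pT (IsScalarTower.toAlgHom A R R') Λ (pS s)
  hσσ : ∀ s, pT σ Λ (σ s) = pT (inc Λ 𝔖) Λ (σ s)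
  hβσ : ∀ s, pT β Λ (σ s) = pT (inc Λ C) Λ (β s)

namespace GlueData

variable {A : Type u} [CommRing A] {J : Ideal A} {R R' C 𝔖 Λ : Type u}
    [CommRing R] [CommRing R'] [CommRing C] [CommRing 𝔖] [CommRing Λ]
    [Algebra A R] [Algebra A R'] [Algebra R R'] [IsScalarTower A R R'] [Algebra A C] [Algebra A 𝔖]
    [Algebra A Λ] (D : GlueData A J R R' C 𝔖 Λ)

/-- `star` for `𝔖`. -/
noncomputable def starS : (R ⊗[A] Λ) ⊗[A] J →ₗ[A] 𝔖 := star D.hJ D.pS D.hpS D.hkS

/-- `star` for `C`. -/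
noncomputable def starC : R' ⊗[A] J →ₗ[A] C := star D.hJ D.pC D.hpC D.hkC

/-- `(r ⊗ j) ⊗ x ↦ j • (lift of r ⊗ x)`. -/
noncomputable def psi1 : (R ⊗[A] J) ⊗[A] Λ →ₗ[A] 𝔖 :=
  D.starS ∘ₗ (TensorProduct.rightComm A R J Λ).toLinearMap

theorem psi1_tmul (r : R) (j : J) (x : Λ) (s : 𝔖) (hs : D.pS s = r ⊗ₜ[A] x) :
    D.psi1 ((r ⊗ₜ[A] j) ⊗ₜ[A] x) = (j : A) • s := by
  rw [psi1, LinearMap.comp_apply, LinearEquiv.coe_coe, TensorProduct.rightComm_tmul, ← hs]
  exact star_tmul D.hJ D.pS D.hpS D.hkS s j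

theorem pS_psi1 (z : (R ⊗[A] J) ⊗[A] Λ) : D.pS (D.psi1 z) = 0 :=
  map_star D.hJ D.pS D.hpS D.hkS _

theorem exists_psi1_eq (s : 𝔖) (hs : D.pS s = 0) : ∃ z, D.psi1 z = s := by
  obtain ⟨ξ, hξ⟩ := exists_star_eq_of_map_eq_zero D.hJ D.pS D.hpS D.hkS s hs
  refine ⟨(TensorProduct.rightComm A R J Λ).symm ξ, ?_⟩
  rw [psi1, LinearMap.comp_apply, LinearEquiv.coe_coe, LinearEquiv.apply_symm_apply]
  exact hξ

theorem psi1_injective [Module.Flat A 𝔖] : Function.Injective D.psi1 := by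
  intro z₁ z₂ h
  have := star_injective D.hJ D.pS D.hpS D.hkS h
  exact (TensorProduct.rightComm A R J Λ).injective this

theorem psi2_injective [Module.Flat A 𝔖] [Module.Flat A Λ] :
    Function.Injective (D.psi1.rTensor Λ) :=
  Module.Flat.rTensor_preserves_injective_linearMap _ D.psi1_injective

theorem psi3_injective [Module.Flat A 𝔖] [Module.Flat A Λ] :
    Function.Injective ((D.psi1.rTensor Λ).rTensor Λ) :=
  Module.Flat.rTensor_preserves_injective_linearMap _ D.psi2_injective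

theorem exists_psi2_eq (y : 𝔖 ⊗[A] Λ) (hy : pT D.pS Λ y = 0) :
    ∃ η, D.psi1.rTensor Λ η = y := by
  obtain ⟨w, hw⟩ := exists_rTensor_star_eq D.hJ D.pS D.hpS D.hkS Λ y hy
  refine ⟨((TensorProduct.rightComm A R J Λ).symm.toLinearMap.rTensor Λ) w, ?_⟩
  have : (TensorProduct.rightComm A R J Λ).toLinearMap ∘ₗ
      (TensorProduct.rightComm A R J Λ).symm.toLinearMap = LinearMap.id := by
    ext x
    simp
  rw [psi1, ← LinearMap.rTensor_comp_apply, LinearMap.comp_assoc, this, LinearMap.comp_id]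
  exact hw

/-- The `A`-module `J C`. -/
noncomputable abbrev MC : Submodule A C := LinearMap.range D.starC

theorem mem_MC_iff (c : C) : c ∈ D.MC ↔ D.pC c = 0 := by
  constructor
  · rintro ⟨ξ, rfl⟩
    exact map_star D.hJ D.pC D.hpC D.hkC ξ
  · intro h
    exact exists_star_eq_of_map_eq_zero D.hJ D.pC D.hpC D.hkC c h

theorem inclL_injective [Module.Flat A Λ] : Function.Injective (D.MC.subtype.rTensor Λ) :=
  Module.Flat.rTensor_preserves_injective_linearMap _ D.MC.injective_subtype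

theorem inclL2_injective [Module.Flat A Λ] :
    Function.Injective ((D.MC.subtype.rTensor Λ).rTensor Λ) :=
  Module.Flat.rTensor_preserves_injective_linearMap _ D.inclL_injective

theorem exists_inclL_eq (y : C ⊗[A] Λ) (hy : pT D.pC Λ y = 0) :
    ∃ ω : D.MC ⊗[A] Λ, D.MC.subtype.rTensor Λ ω = y := by
  obtain ⟨w, hw⟩ := exists_rTensor_star_eq D.hJ D.pC D.hpC D.hkC Λ y hy
  refine ⟨D.starC.rangeRestrict.rTensor Λ w, ?_⟩
  rw [← LinearMap.rTensor_comp_apply]
  have : D.MC.subtype ∘ₗ D.starC.rangeRestrict = D.starC := by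
    ext x
    rfl
  rw [this]
  exact hw

/-- `Θ₀ : R' ⊗_R (R ⊗ J) → J C`. -/
noncomputable def Theta0 : R' ⊗[R] (R ⊗[A] J) →ₗ[A] D.MC :=
  D.starC.rangeRestrict ∘ₗ
    ((AlgebraTensorModule.cancelBaseChange A R R' R' J).restrictScalars A).toLinearMap

theorem Theta0_surjective : Function.Surjective D.Theta0 := by
  intro y
  obtain ⟨ξ, hξ⟩ := D.starC.surjective_rangeRestrict y
  refine ⟨(AlgebraTensorModule.cancelBaseChange A R R' R' J).symm ξ, ?_⟩
  simp only [Theta0, LinearMap.comp_apply]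
  rw [← hξ]
  congr 1
  exact (AlgebraTensorModule.cancelBaseChange A R R' R' J).apply_symm_apply ξ

theorem coe_Theta0 (μ : R' ⊗[R] (R ⊗[A] J)) :
    (D.Theta0 μ : C) = D.starC (AlgebraTensorModule.cancelBaseChange A R R' R' J μ) := rfl

theorem Theta0_rTensor_injective [Module.Flat A (C ⊗[A] Λ)] :
    Function.Injective (D.Theta0.rTensor Λ) := by
  have h1 : Function.Injective ((D.MC.subtype ∘ₗ D.Theta0).rTensor Λ) := by
    have : D.MC.subtype ∘ₗ D.Theta0 = D.starC ∘ₗ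
        ((AlgebraTensorModule.cancelBaseChange A R R' R' J).restrictScalars A).toLinearMap := by
      ext x
      rfl
    rw [this, LinearMap.rTensor_comp]
    have h2 : Function.Injective (D.starC.rTensor Λ) :=
      star_rTensor_Lam_injective D.hJ D.pC D.hpC D.hkC Λ
    have h3 : Function.Injective
        ((((AlgebraTensorModule.cancelBaseChange A R R' R' J).restrictScalars A).toLinearMap).rTensor Λ) :=
      (LinearEquiv.rTensor Λ
        ((AlgebraTensorModule.cancelBaseChange A R R' R' J).restrictScalars A)).injective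
    exact h2.comp h3
  rw [LinearMap.rTensor_comp] at h1
  exact Function.Injective.of_comp h1

theorem coe_qOf_Theta0_tmul (r : R) (j : J) (c : C) (hc : D.pC c = algebraMap R R' r) :
    ((qOf A D.Theta0 (r ⊗ₜ[A] j) : D.MC) : C) = (j : A) • c := by
  rw [qOf_apply, coe_Theta0, AlgebraTensorModule.cancelBaseChange_tmul, Algebra.smul_def, mul_one,
    ← hc]
  exact star_tmul D.hJ D.pC D.hpC D.hkC c j

/-- (C1): compatibility of `q₁` and `β ∘ ψ₁`. -/
theorem incl_q1 (z : (R ⊗[A] J) ⊗[A] Λ) :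
    (D.MC.subtype ∘ₗ qOf A D.Theta0).rTensor Λ z = D.β (D.psi1 z) := by
  induction z using TensorProduct.induction_on with
  | zero => simp
  | tmul m x =>
    induction m using TensorProduct.induction_on with
    | zero => simp
    | tmul r j =>
      obtain ⟨c, hc⟩ := D.hpC (algebraMap R R' r)
      obtain ⟨s, hs⟩ := D.hpS (r ⊗ₜ[A] x)
      rw [LinearMap.rTensor_tmul, LinearMap.comp_apply, Submodule.subtype_apply,
        D.coe_qOf_Theta0_tmul r j c hc, D.psi1_tmul r j x s hs, map_smul, ← TensorProduct.smul_tmul']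
      refine smul_eq_of_map_eq D.hJ (pT D.pC Λ) (pT_ker D.pC D.hpC D.hkC Λ) j j.2 _ _ ?_
      rw [D.hβ, hs, pT_tmul, hc]
      rfl
    | add m₁ m₂ h₁ h₂ => rw [add_tmul, map_add, map_add, map_add, h₁, h₂]
  | add z₁ z₂ h₁ h₂ => rw [map_add, map_add, map_add, h₁, h₂]

theorem psi2_rT_eMap (z : (R ⊗[A] J) ⊗[A] Λ) :
    D.psi1.rTensor Λ (rT A Λ (N' := (R ⊗[A] J) ⊗[A] Λ) (eMap A R Λ (R ⊗[A] J)) z) =
      D.σ (D.psi1 z) := by
  induction z using TensorProduct.induction_on with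
  | zero => simp
  | tmul m x =>
    induction m using TensorProduct.induction_on with
    | zero => simp
    | tmul r j =>
      obtain ⟨s, hs⟩ := D.hpS (r ⊗ₜ[A] (1 : Λ))
      obtain ⟨s', hs'⟩ := D.hpS (r ⊗ₜ[A] x)
      rw [rT_tmul, eMap_apply, LinearMap.rTensor_tmul, D.psi1_tmul r j 1 s hs,
        D.psi1_tmul r j x s' hs', map_smul, ← TensorProduct.smul_tmul']
      refine smul_eq_of_map_eq D.hJ (pT D.pS Λ) (pT_ker D.pS D.hpS D.hkS Λ) j j.2 _ _ ?_
      rw [D.hσ, hs', pT_tmul, hs]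
      rfl
    | add m₁ m₂ h₁ h₂ => rw [add_tmul, map_add, map_add, map_add, map_add, h₁, h₂]
  | add z₁ z₂ h₁ h₂ => rw [map_add, map_add, map_add, map_add, h₁, h₂]

/-- (C2). -/
theorem psi2_d1 (z : (R ⊗[A] J) ⊗[A] Λ) :
    D.psi1.rTensor Λ (d1 A R Λ (R ⊗[A] J) z) = D.σ (D.psi1 z) - D.psi1 z ⊗ₜ[A] (1 : Λ) := by
  rw [d1_apply, map_sub, psi2_rT_eMap, LinearMap.rTensor_tmul]

end GlueData

end Groth.Agent.Lib.Helper15.EtGlue
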