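import Mathlib
import Groth.Agent.Lib.Helper15.EtGlue10

/-!
# Square-zero gluing: the glued algebra and its reduction (helper15)
-/

set_option autoImplicit false
set_option linter.style.haveILetI false
set_option linter.unusedSectionVars false
set_option linter.style.longLine false
set_option maxSynthPendingDepth 3

universe u

namespace Groth.Agent.Lib.Helper15.EtGlue

open TensorProduct

section Aux

variable {A : Type*} [CommRing A] (R : Type*) [CommRing R] [Algebra A R]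
  (Λ : Type*) [CommRing Λ] [Algebra A Λ]

theorem rT_eMap_eq' (z : R ⊗[A] Λ) :
    rT A Λ (eMap A R Λ R) z = pT (inc Λ R) Λ z := by
  induction z using TensorProduct.induction_on with
  | zero => simp
  | tmul e x => rfl
  | add z₁ z₂ h₁ h₂ => rw [map_add, map_add, h₁, h₂]

variable (R' : Type*) [CommRing R'] [Algebra R R'] [Algebra A R'] [IsScalarTower A R R']

/-- `R' ⊗_R R → R'`. -/
noncomputable def ridA : R' ⊗[R] R →ₗ[A] R' :=
  ((AlgebraTensorModule.rid R R' R').restrictScalars A).toLinearMap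

theorem ridA_tmul (r' : R') (r : R) : ridA (A := A) R R' (r' ⊗ₜ[R] r) = r • r' := rfl

theorem ridA_bijective : Function.Bijective (ridA (A := A) R R') :=
  ((AlgebraTensorModule.rid R R' R').restrictScalars A).bijective

theorem ridA_rTensor_injective : Function.Injective ((ridA (A := A) R R').rTensor Λ) :=
  (LinearEquiv.rTensor Λ ((AlgebraTensorModule.rid R R' R').restrictScalars A)).injective

theorem qOf_ridA : qOf A (ridA (A := A) R R') = (IsScalarTower.toAlgHom A R R').toLinearMap := by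
  ext r
  rw [qOf_apply, ridA_tmul, Algebra.smul_def, mul_one]
  rfl

end Aux

namespace GlueData

variable {A : Type u} [CommRing A] {J : Ideal A} {R R' C 𝔖 Λ : Type u}
    [CommRing R] [CommRing R'] [CommRing C] [CommRing 𝔖] [CommRing Λ]
    [Algebra A R] [Algebra A R'] [Algebra R R'] [IsScalarTower A R R'] [Algebra A C] [Algebra A 𝔖]
    [Algebra A Λ] (D : GlueData A J R R' C 𝔖 Λ)

/-- first map of the equaliser. -/
noncomputable def FF : C × 𝔖 →ₐ[A] (C ⊗[A] Λ) × (𝔖 ⊗[A] Λ) :=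
  AlgHom.prod ((inc Λ C).comp (AlgHom.fst A C 𝔖)) (D.σ.comp (AlgHom.snd A C 𝔖))

/-- second map of the equaliser. -/
noncomputable def GG : C × 𝔖 →ₐ[A] (C ⊗[A] Λ) × (𝔖 ⊗[A] Λ) :=
  AlgHom.prod (D.β.comp (AlgHom.snd A C 𝔖)) ((inc Λ 𝔖).comp (AlgHom.snd A C 𝔖))

/-- The glued algebra. -/
noncomputable def Bsub : Subalgebra A (C × 𝔖) := AlgHom.equalizer D.FF D.GG

theorem mem_Bsub (x : C × 𝔖) :
    x ∈ D.Bsub ↔ x.1 ⊗ₜ[A] (1 : Λ) = D.β x.2 ∧ D.σ x.2 = x.2 ⊗ₜ[A] (1 : Λ) := by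
  rw [Bsub, AlgHom.mem_equalizer]
  constructor
  · intro h
    exact ⟨congrArg Prod.fst h, congrArg Prod.snd h⟩
  · rintro ⟨h1, h2⟩
    exact Prod.ext h1 h2

variable {ι : Type} [Finite ι] (a : ι → A)
  (L : ι → Type u) [∀ l, CommRing (L l)] [∀ l, Algebra A (L l)]
  [∀ l, IsLocalization.Away (a l) (L l)] (ε : ∀ l, Λ →ₐ[A] L l)
  (h : IsNbhdAlong (R' := R') ((Ideal.span (Set.range a)).map (algebraMap A R)))
  [Module.Flat R R']

include ε h in
theorem exists_pi (b : C × 𝔖) (hb : b ∈ D.Bsub) :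
    ∃ r : R, algebraMap R R' r = D.pC b.1 ∧ r ⊗ₜ[A] (1 : Λ) = D.pS b.2 := by
  obtain ⟨hb1, hb2⟩ := (D.mem_Bsub b).mp hb
  have hz : d1 A R Λ R (D.pS b.2) = 0 := by
    rw [d1_apply, rT_eMap_eq', ← D.hσ, hb2, pT_tmul, sub_self]
  have hm : D.pC b.1 ⊗ₜ[A] (1 : Λ) = (qOf A (ridA (A := A) R R')).rTensor Λ (D.pS b.2) := by
    rw [qOf_ridA, pT_toLinearMap, ← D.hβ, ← hb1, pT_tmul]
  obtain ⟨r, hr1, hr2⟩ := K_ker Λ a L ε h (ridA (A := A) R R') (ridA_bijective R R').2
    (ridA_rTensor_injective R Λ R') (D.pC b.1) (D.pS b.2) hz hm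
  refine ⟨r, ?_, hr2⟩
  rw [← hr1, ridA_tmul, Algebra.smul_def, mul_one]

include ε h in
theorem pi_unique (r : R) (h1 : algebraMap R R' r = 0) (h2 : r ⊗ₜ[A] (1 : Λ) = 0) : r = 0 := by
  refine K_uniq Λ a L ε h (ridA (A := A) R R') (ridA_bijective R R').1 r ?_ h2
  rw [ridA_tmul, Algebra.smul_def, mul_one, h1]

/-- the reduction map as a function. -/
noncomputable def piFun (b : D.Bsub) : R := Classical.choose (D.exists_pi a L ε h b.1 b.2)

theorem piFun_spec (b : D.Bsub) :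
    algebraMap R R' (D.piFun a L ε h b) = D.pC b.1.1 ∧
      D.piFun a L ε h b ⊗ₜ[A] (1 : Λ) = D.pS b.1.2 :=
  Classical.choose_spec (D.exists_pi a L ε h b.1 b.2)

theorem piFun_eq (b : D.Bsub) (r : R) (h1 : algebraMap R R' r = D.pC b.1.1)
    (h2 : r ⊗ₜ[A] (1 : Λ) = D.pS b.1.2) : D.piFun a L ε h b = r := by
  obtain ⟨h3, h4⟩ := D.piFun_spec a L ε h b
  have := pi_unique a L ε h (D.piFun a L ε h b - r) (by rw [map_sub, h1, h3, sub_self])
    (by rw [sub_tmul, h2, h4, sub_self])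
  exact sub_eq_zero.mp this

/-- the reduction map. -/
noncomputable def piHom : D.Bsub →ₐ[A] R where
  toFun := D.piFun a L ε h
  map_one' := D.piFun_eq a L ε h 1 1 (by simp) (by
    show (1 : R) ⊗ₜ[A] (1 : Λ) = D.pS 1
    rw [map_one]; rfl)
  map_mul' x y := D.piFun_eq a L ε h (x * y) _ (by
    rw [map_mul, (D.piFun_spec a L ε h x).1, (D.piFun_spec a L ε h y).1]
    show _ = D.pC (x.1.1 * y.1.1)
    rw [map_mul]) (by
    show _ = D.pS (x.1.2 * y.1.2)
    rw [map_mul, ← (D.piFun_spec a L ε h x).2, ← (D.piFun_spec a L ε h y).2,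
      Algebra.TensorProduct.tmul_mul_tmul, mul_one])
  map_zero' := D.piFun_eq a L ε h 0 0 (by simp) (by
    show (0 : R) ⊗ₜ[A] (1 : Λ) = D.pS 0
    rw [map_zero, zero_tmul])
  map_add' x y := D.piFun_eq a L ε h (x + y) _ (by
    rw [map_add, (D.piFun_spec a L ε h x).1, (D.piFun_spec a L ε h y).1]
    show _ = D.pC (x.1.1 + y.1.1)
    rw [map_add]) (by
    show _ = D.pS (x.1.2 + y.1.2)
    rw [map_add, ← (D.piFun_spec a L ε h x).2, ← (D.piFun_spec a L ε h y).2, add_tmul])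
  commutes' r := D.piFun_eq a L ε h _ _ (by
    show _ = D.pC (algebraMap A C r)
    rw [AlgHom.commutes, ← IsScalarTower.algebraMap_apply]) (by
    show _ = D.pS (algebraMap A 𝔖 r)
    rw [AlgHom.commutes, Algebra.TensorProduct.algebraMap_apply])

theorem piHom_spec (b : D.Bsub) :
    algebraMap R R' (D.piHom a L ε h b) = D.pC b.1.1 ∧
      D.piHom a L ε h b ⊗ₜ[A] (1 : Λ) = D.pS b.1.2 :=
  D.piFun_spec a L ε h b

theorem piHom_eq (b : D.Bsub) (r : R) (h1 : algebraMap R R' r = D.pC b.1.1)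
    (h2 : r ⊗ₜ[A] (1 : Λ) = D.pS b.1.2) : D.piHom a L ε h b = r :=
  D.piFun_eq a L ε h b r h1 h2

end GlueData

end Groth.Agent.Lib.Helper15.EtGlue
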