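import Mathlib
import Groth.Agent.Lib.Helper15.EtGlue11

/-!
# Square-zero gluing: surjectivity and kernel of the reduction (helper15)
-/

set_option autoImplicit false
set_option linter.style.haveILetI false
set_option linter.unusedSectionVars false
set_option linter.style.longLine false
set_option maxSynthPendingDepth 3

universe u

namespace Groth.Agent.Lib.Helper15.EtGlue

open TensorProduct

section Aux2

variable {A : Type*} [CommRing A] (Λ : Type*) [CommRing Λ] [Algebra A Λ]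
  {N N' : Type*} [AddCommGroup N] [Module A N] [AddCommGroup N'] [Module A N']

theorem rT_eq_rTensor' (f : N →ₗ[A] N') (z : N ⊗[A] Λ) : rT A Λ f z = f.rTensor Λ z := by
  induction z using TensorProduct.induction_on with
  | zero => simp
  | tmul n x => rfl
  | add z₁ z₂ h₁ h₂ => rw [map_add, map_add, h₁, h₂]

/-- naturality of `d¹` for an `A`-linear map, in `rTensor` form. -/
theorem d1_nat' (f : N →ₗ[A] N') (z : N ⊗[A] Λ) :
    (f.rTensor Λ).rTensor Λ (d1 A A Λ N z) = d1 A A Λ N' (f.rTensor Λ z) := by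
  have := d1_nat A Λ f z
  rw [rT_eq_rTensor', rT_eq_rTensor'] at this
  rw [this]
  have e : rT A Λ f = f.rTensor Λ := LinearMap.ext (rT_eq_rTensor' Λ f)
  rw [e]

end Aux2

namespace GlueData

variable {A : Type u} [CommRing A] {J : Ideal A} {R R' C 𝔖 Λ : Type u}
    [CommRing R] [CommRing R'] [CommRing C] [CommRing 𝔖] [CommRing Λ]
    [Algebra A R] [Algebra A R'] [Algebra R R'] [IsScalarTower A R R'] [Algebra A C] [Algebra A 𝔖]
    [Algebra A Λ] (D : GlueData A J R R' C 𝔖 Λ)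

theorem psi3_rT_d1 (η : ((R ⊗[A] J) ⊗[A] Λ) ⊗[A] Λ) :
    (D.psi1.rTensor Λ).rTensor Λ
      (rT A Λ (N' := ((R ⊗[A] J) ⊗[A] Λ) ⊗[A] Λ) (d1 A R Λ (R ⊗[A] J)) η) =
      pT D.σ Λ (D.psi1.rTensor Λ η) - pT (inc Λ 𝔖) Λ (D.psi1.rTensor Λ η) := by
  induction η using TensorProduct.induction_on with
  | zero => simp
  | tmul z x =>
    rw [rT_tmul, LinearMap.rTensor_tmul, D.psi2_d1, LinearMap.rTensor_tmul, pT_tmul, pT_tmul,
      sub_tmul]
    rfl
  | add η₁ η₂ h₁ h₂ =>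
    rw [map_add, map_add, map_add, map_add, map_add, h₁, h₂]
    abel

theorem psi3_d2 (η : ((R ⊗[A] J) ⊗[A] Λ) ⊗[A] Λ) :
    (D.psi1.rTensor Λ).rTensor Λ (d2 A R Λ (R ⊗[A] J) η) =
      pT D.σ Λ (D.psi1.rTensor Λ η) - pT (inc Λ 𝔖) Λ (D.psi1.rTensor Λ η) +
        (D.psi1.rTensor Λ η) ⊗ₜ[A] (1 : Λ) := by
  rw [d2_apply, map_add, psi3_rT_d1, LinearMap.rTensor_tmul]

theorem incl_q2 (η : ((R ⊗[A] J) ⊗[A] Λ) ⊗[A] Λ) :
    ((D.MC.subtype ∘ₗ qOf A D.Theta0).rTensor Λ).rTensor Λ η =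
      pT D.β Λ (D.psi1.rTensor Λ η) := by
  induction η using TensorProduct.induction_on with
  | zero => simp
  | tmul z x =>
    rw [LinearMap.rTensor_tmul, D.incl_q1, LinearMap.rTensor_tmul, pT_tmul]
  | add η₁ η₂ h₁ h₂ => rw [map_add, map_add, map_add, h₁, h₂]

variable {ι : Type} [Finite ι] (a : ι → A)
  (L : ι → Type u) [∀ l, CommRing (L l)] [∀ l, Algebra A (L l)]
  [∀ l, IsLocalization.Away (a l) (L l)] (ε : ∀ l, Λ →ₐ[A] L l)
  (h : IsNbhdAlong (R' := R') ((Ideal.span (Set.range a)).map (algebraMap A R)))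
  [Module.Flat R R'] [Module.Flat A Λ] [Module.Flat A 𝔖] [Module.Flat A (C ⊗[A] Λ)]

theorem piHom_surjective : Function.Surjective (D.piHom a L ε h) := by
  intro r
  obtain ⟨c, hc⟩ := D.hpC (algebraMap R R' r)
  obtain ⟨s, hs⟩ := D.hpS (r ⊗ₜ[A] (1 : Λ))
  -- the two defects
  have hωC : pT D.pC Λ (c ⊗ₜ[A] (1 : Λ) - D.β s) = 0 := by
    rw [map_sub, pT_tmul, D.hβ, hs, pT_tmul, hc]
    exact sub_self _
  have hηS : pT D.pS Λ (D.σ s - s ⊗ₜ[A] (1 : Λ)) = 0 := by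
    rw [map_sub, pT_tmul, D.hσ, hs, pT_tmul]
    exact sub_self _
  obtain ⟨ω, hω⟩ := D.exists_inclL_eq _ hωC
  obtain ⟨η, hη⟩ := D.exists_psi2_eq _ hηS
  have hη2 : d2 A R Λ (R ⊗[A] J) η = 0 := by
    apply D.psi3_injective
    rw [map_zero, D.psi3_d2, hη, map_sub, map_sub, D.hσσ, pT_tmul, pT_tmul, sub_tmul,
      Algebra.TensorProduct.includeLeft_apply]
    abel
  have hω2 : d1 A A Λ D.MC ω = - ((qOf A D.Theta0).rTensor Λ).rTensor Λ η := by
    apply D.inclL2_injective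
    rw [d1_nat', hω, map_neg, ← LinearMap.rTensor_comp_apply, ← LinearMap.rTensor_comp,
      D.incl_q2, hη, d1_ring, map_sub, map_sub, pT_tmul, pT_tmul, D.hβσ, sub_tmul,
      Algebra.TensorProduct.includeLeft_apply]
    abel
  obtain ⟨c₁, s₁, h1, h2⟩ := K_surj Λ a L ε h D.Theta0 D.Theta0_surjective
    D.Theta0_rTensor_injective ω η hη2 hω2
  have hc₁ : D.pC (c₁ : C) = 0 := (D.mem_MC_iff _).mp c₁.2
  have hmem : ((c - (c₁ : C), s - D.psi1 s₁) : C × 𝔖) ∈ D.Bsub := by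
    rw [D.mem_Bsub]
    constructor
    · have e1 := congrArg (D.MC.subtype.rTensor Λ) h1
      rw [hω, map_sub, LinearMap.rTensor_tmul, ← LinearMap.rTensor_comp_apply, D.incl_q1,
        Submodule.subtype_apply] at e1
      show (c - (c₁ : C)) ⊗ₜ[A] (1 : Λ) = D.β (s - D.psi1 s₁)
      rw [sub_tmul, map_sub]
      have : c ⊗ₜ[A] (1 : Λ) - D.β s = (c₁ : C) ⊗ₜ[A] (1 : Λ) - D.β (D.psi1 s₁) := e1.symm
      rw [sub_eq_sub_iff_add_eq_add] at this ⊢
      rw [this, add_comm]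
    · show D.σ (s - D.psi1 s₁) = (s - D.psi1 s₁) ⊗ₜ[A] (1 : Λ)
      have e2 := D.psi2_d1 s₁
      rw [h2, hη] at e2
      rw [map_sub, sub_tmul]
      rw [sub_eq_sub_iff_add_eq_add] at e2 ⊢
      rw [e2, add_comm]
  refine ⟨⟨_, hmem⟩, ?_⟩
  apply D.piHom_eq a L ε h
  · show _ = D.pC (c - (c₁ : C))
    rw [map_sub, hc, hc₁, sub_zero]
  · show _ = D.pS (s - D.psi1 s₁)
    rw [map_sub, hs, D.pS_psi1, sub_zero]

include D ε h in
theorem algebraMap_R_eq_zero (j : A) (hj : j ∈ J) : algebraMap A R j = 0 := by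
  refine pi_unique a L ε h (algebraMap A R j) ?_ ?_
  · rw [← IsScalarTower.algebraMap_apply, ← AlgHom.commutes D.pC]
    have : algebraMap A C j ∈ RingHom.ker (D.pC : C →+* R') := by
      rw [D.hkC]; exact Ideal.mem_map_of_mem _ hj
    exact this
  · have : algebraMap A 𝔖 j ∈ RingHom.ker (D.pS : 𝔖 →+* R ⊗[A] Λ) := by
      rw [D.hkS]; exact Ideal.mem_map_of_mem _ hj
    have h0 : D.pS (algebraMap A 𝔖 j) = 0 := this
    rw [AlgHom.commutes D.pS, Algebra.TensorProduct.algebraMap_apply] at h0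
    exact h0

include ε h in
theorem exists_mem_map_of_tensor (m : R ⊗[A] J) :
    ∃ b : D.Bsub, b ∈ J.map (algebraMap A D.Bsub) ∧
      b.1.1 = (D.Theta0 ((1 : R') ⊗ₜ[R] m) : C) ∧ b.1.2 = D.psi1 (m ⊗ₜ[A] (1 : Λ)) := by
  induction m using TensorProduct.induction_on with
  | zero =>
    refine ⟨0, Ideal.zero_mem _, ?_, ?_⟩
    · rw [tmul_zero, map_zero]; rfl
    · rw [zero_tmul, map_zero]; rfl
  | tmul r j =>
    obtain ⟨b₀, hb₀⟩ := D.piHom_surjective a L ε h r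
    obtain ⟨h1, h2⟩ := D.piHom_spec a L ε h b₀
    rw [hb₀] at h1 h2
    refine ⟨algebraMap A D.Bsub j * b₀,
      Ideal.mul_mem_right _ _ (Ideal.mem_map_of_mem _ j.2), ?_, ?_⟩
    · have := D.coe_qOf_Theta0_tmul r j b₀.1.1 h1.symm
      rw [qOf_apply] at this
      rw [this, ← Algebra.smul_def]
      rfl
    · rw [D.psi1_tmul r j 1 b₀.1.2 h2.symm, ← Algebra.smul_def]
      rfl
  | add m₁ m₂ h₁ h₂ =>
    obtain ⟨b₁, hb₁, e₁, f₁⟩ := h₁
    obtain ⟨b₂, hb₂, e₂, f₂⟩ := h₂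
    refine ⟨b₁ + b₂, Ideal.add_mem _ hb₁ hb₂, ?_, ?_⟩
    · rw [tmul_add, map_add, Submodule.coe_add, ← e₁, ← e₂]; rfl
    · rw [add_tmul, map_add, ← f₁, ← f₂]; rfl

theorem ker_piHom :
    RingHom.ker (D.piHom a L ε h : D.Bsub →+* R) = J.map (algebraMap A D.Bsub) := by
  apply le_antisymm
  · intro b hb
    have hb0 : D.piHom a L ε h b = 0 := hb
    obtain ⟨h1, h2⟩ := D.piHom_spec a L ε h b
    rw [hb0, map_zero] at h1
    rw [hb0, zero_tmul] at h2
    obtain ⟨hm1, hm2⟩ := (D.mem_Bsub b.1).mp b.2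
    obtain ⟨z, hz⟩ := D.exists_psi1_eq b.1.2 h2.symm
    have hz1 : d1 A R Λ (R ⊗[A] J) z = 0 := by
      apply D.psi2_injective
      rw [map_zero, D.psi2_d1, hz, hm2, sub_self]
    have hcm : b.1.1 ∈ D.MC := (D.mem_MC_iff _).mpr h1.symm
    have hm : (⟨b.1.1, hcm⟩ : D.MC) ⊗ₜ[A] (1 : Λ) = (qOf A D.Theta0).rTensor Λ z := by
      apply D.inclL_injective
      rw [LinearMap.rTensor_tmul, ← LinearMap.rTensor_comp_apply, D.incl_q1, hz, ← hm1]
      rfl
    obtain ⟨m, hm1', hm2'⟩ := K_ker Λ a L ε h D.Theta0 D.Theta0_surjective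
      D.Theta0_rTensor_injective _ z hz1 hm
    obtain ⟨b', hb', e1, e2⟩ := D.exists_mem_map_of_tensor a L ε h m
    have : b = b' := by
      apply Subtype.ext
      apply Prod.ext
      · rw [e1, hm1']
      · rw [e2, hm2', hz]
    rw [this]
    exact hb'
  · rw [Ideal.map_le_iff_le_comap]
    intro j hj
    rw [Ideal.mem_comap, RingHom.mem_ker]
    show D.piHom a L ε h (algebraMap A D.Bsub j) = 0
    rw [AlgHom.commutes]
    exact D.algebraMap_R_eq_zero a L ε h j hj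

end GlueData

end Groth.Agent.Lib.Helper15.EtGlue
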