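import Mathlib

/-!
# Unramifiedness and finite type under nilpotent thickenings (helper15)
-/

set_option autoImplicit false
set_option linter.style.haveILetI false
set_option linter.unusedSectionVars false
set_option linter.style.longLine false

universe u

open TensorProduct

namespace Groth.Agent.Lib.Helper15.RigEt

open KaehlerDifferential in
/-- if `P ⧸ K P` is formally unramified over `R` and `K P` is nilpotent then `P` is formally
unramified over `R`. -/
theorem formallyUnramified_of_quotient_nilpotent (R P : Type u) [CommRing R] [CommRing P]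
    [Algebra R P] (K : Ideal R) (n : ℕ) (hn : (K.map (algebraMap R P)) ^ n = ⊥)
    [Algebra.FormallyUnramified R (P ⧸ K.map (algebraMap R P))] :
    Algebra.FormallyUnramified R P := by
  set 𝔫 : Ideal P := K.map (algebraMap R P) with h𝔫
  have hsurj : Function.Surjective (algebraMap P (P ⧸ 𝔫)) := Ideal.Quotient.mk_surjective
  have hex := KaehlerDifferential.exact_kerCotangentToTensor_mapBaseChange R P (P ⧸ 𝔫) hsurj
  have hker : ∀ y : P, y ∈ 𝔫 → ((1 : P ⧸ 𝔫) ⊗ₜ[P] D R P y) = 0 := by
    intro y hy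
    rw [h𝔫] at hy
    unfold Ideal.map at hy
    induction hy using Submodule.span_induction with
    | mem y hy =>
      obtain ⟨r, -, rfl⟩ := hy
      rw [Derivation.map_algebraMap, TensorProduct.tmul_zero]
    | zero => rw [map_zero, TensorProduct.tmul_zero]
    | add y z _ _ hy hz => rw [map_add, TensorProduct.tmul_add, hy, hz, add_zero]
    | smul p y hy' hy =>
      have hy'' : y ∈ 𝔫 := hy'
      rw [smul_eq_mul, Derivation.leibniz, TensorProduct.tmul_add, TensorProduct.tmul_smul,
        TensorProduct.tmul_smul, hy, smul_zero, zero_add, TensorProduct.smul_tmul',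
        Algebra.smul_def, mul_one]
      have : algebraMap P (P ⧸ 𝔫) y = 0 := Ideal.Quotient.eq_zero_iff_mem.mpr hy''
      rw [this, TensorProduct.zero_tmul]
  have hz : ∀ z : (P ⧸ 𝔫) ⊗[P] Ω[P⁄R], z = 0 := by
    intro z
    have h0 : KaehlerDifferential.mapBaseChange R P (P ⧸ 𝔫) z = 0 := Subsingleton.elim _ _
    obtain ⟨c, rfl⟩ := (hex z).mp h0
    obtain ⟨x, rfl⟩ := Ideal.toCotangent_surjective _ c
    rw [KaehlerDifferential.kerCotangentToTensor_toCotangent]
    apply hker
    have := RingHom.mem_ker.mp x.2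
    exact Ideal.Quotient.eq_zero_iff_mem.mp this
  have htop : (𝔫 • ⊤ : Submodule P Ω[P⁄R]) = ⊤ := by
    rw [← Submodule.Quotient.subsingleton_iff]
    have e := TensorProduct.quotTensorEquivQuotSMul Ω[P⁄R] 𝔫
    exact ⟨fun a b => e.symm.injective ((hz _).trans (hz _).symm)⟩
  have hpow : ∀ k : ℕ, (𝔫 ^ k • ⊤ : Submodule P Ω[P⁄R]) = ⊤ := by
    intro k
    induction k with
    | zero => rw [pow_zero, Ideal.one_eq_top, Submodule.top_smul]
    | succ k ih => rw [pow_succ, mul_smul, htop, ih]
  have hbot : (⊤ : Submodule P Ω[P⁄R]) = ⊥ := by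
    rw [← hpow n, hn, Submodule.bot_smul]
  exact ⟨(Submodule.subsingleton_iff P).mp (subsingleton_of_bot_eq_top hbot.symm)⟩

/-- finite type passes to nilpotent thickenings by finitely generated ideals. -/
theorem finiteType_quotient_pow (R S : Type u) [CommRing R] [CommRing S] [Algebra R S]
    (J : Ideal S) (hJ : J.FG) (hft : Algebra.FiniteType R (S ⧸ J)) (n : ℕ) :
    Algebra.FiniteType R (S ⧸ J ^ n) := by
  classical
  obtain ⟨s1, hs1⟩ := hft.out
  obtain ⟨s2, hs2⟩ := hJ
  -- lifts of the generators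
  choose lift hlift using fun x : S ⧸ J => Ideal.Quotient.mk_surjective x
  let t : Finset S := s1.image lift ∪ s2
  let S0 : Subalgebra R S := Algebra.adjoin R (t : Set S)
  have hs2S0 : ∀ j ∈ s2, j ∈ S0 := fun j hj =>
    Algebra.subset_adjoin (Finset.mem_coe.mpr (Finset.mem_union_right _ hj))
  -- `S = S0 + J`
  have h1 : ∀ x : S, ∃ y ∈ S0, x - y ∈ J := by
    intro x
    have hx : Ideal.Quotient.mk J x ∈ Algebra.adjoin R (s1 : Set (S ⧸ J)) := by
      rw [hs1]; exact Algebra.mem_top
    have hmap : Algebra.adjoin R (s1 : Set (S ⧸ J)) ≤ S0.map (Ideal.Quotient.mkₐ R J) := by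
      apply Algebra.adjoin_le
      intro z hz
      refine ⟨lift z, ?_, hlift z⟩
      exact Algebra.subset_adjoin (Finset.mem_coe.mpr
        (Finset.mem_union_left _ (Finset.mem_image_of_mem _ hz)))
    obtain ⟨y, hy, hyx⟩ := hmap hx
    refine ⟨y, hy, ?_⟩
    have : Ideal.Quotient.mk J y = Ideal.Quotient.mk J x := hyx
    rw [← Ideal.Quotient.eq_zero_iff_mem, map_sub, this, sub_self]
  -- `S = S0 + J ^ k`
  have hk : ∀ k : ℕ, ∀ x : S, ∃ y ∈ S0, x - y ∈ J ^ k := by
    intro k
    induction k with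
    | zero =>
      intro x
      exact ⟨0, S0.zero_mem, by rw [pow_zero, Ideal.one_eq_top]; exact Submodule.mem_top⟩
    | succ k ih =>
      intro x
      obtain ⟨y, hy, hxy⟩ := h1 x
      -- write `x - y` as a combination of the generators of `J`
      rw [← hs2] at hxy
      obtain ⟨c, hc⟩ := (Submodule.mem_span_finset (s := s2) (R := S)).mp hxy
      choose yc hyc hyc' using fun j => ih (c j)
      refine ⟨y + ∑ j ∈ s2, yc j * j, S0.add_mem hy (S0.sum_mem fun j hj =>
        S0.mul_mem (hyc j) (hs2S0 j hj)), ?_⟩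
      have e : x - (y + ∑ j ∈ s2, yc j * j) = ∑ j ∈ s2, (c j - yc j) * j := by
        have : x - y = ∑ j ∈ s2, c j • j := hc.2.symm
        rw [sub_add_eq_sub_sub, this, ← Finset.sum_sub_distrib]
        refine Finset.sum_congr rfl fun j _ => ?_
        rw [smul_eq_mul]; ring
      rw [e]
      refine Ideal.sum_mem _ fun j hj => ?_
      rw [pow_succ]
      refine Ideal.mul_mem_mul (hyc' j) ?_
      rw [← hs2]
      exact Submodule.subset_span (Finset.mem_coe.mpr hj)
  refine ⟨⟨t.image (Ideal.Quotient.mk (J ^ n)), ?_⟩⟩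
  rw [eq_top_iff]
  rintro z -
  obtain ⟨x, rfl⟩ := Ideal.Quotient.mk_surjective z
  obtain ⟨y, hy, hxy⟩ := hk n x
  have hxy' : Ideal.Quotient.mk (J ^ n) x = Ideal.Quotient.mk (J ^ n) y := Ideal.Quotient.eq.mpr hxy
  rw [hxy']
  have hmap : S0.map (Ideal.Quotient.mkₐ R (J ^ n)) =
      Algebra.adjoin R ((t.image (Ideal.Quotient.mk (J ^ n)) : Finset _) : Set (S ⧸ J ^ n)) := by
    rw [Finset.coe_image]
    exact AlgHom.map_adjoin (Ideal.Quotient.mkₐ R (J ^ n)) (t : Set S)
  rw [← hmap]
  exact ⟨y, hy, rfl⟩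

end Groth.Agent.Lib.Helper15.RigEt
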