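import Mathlib
import Groth.Agent.Lib.Helper9.FlatCrit
import Groth.Agent.Lib.Helper15.RigEt1

/-!
# Relative forms of the nilpotent flatness and unramifiedness criteria (helper15)
-/

set_option autoImplicit false
set_option linter.style.haveILetI false
set_option linter.unusedSectionVars false
set_option linter.style.longLine false

universe u

namespace Groth.Agent.Lib.Helper15.EtGlue

open TensorProduct

section FlatRel

variable {P Q P₀ Q₀ : Type u} [CommRing P] [CommRing Q] [CommRing P₀] [CommRing Q₀]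
  [Algebra P Q] [Algebra P P₀] [Algebra P₀ Q₀] [Algebra Q Q₀] [Algebra P Q₀]
  [IsScalarTower P P₀ Q₀] [IsScalarTower P Q Q₀]

theorem flat_quotient_of_flat (𝔫 : Ideal P)
    (h1 : Function.Surjective (algebraMap P P₀)) (hk1 : RingHom.ker (algebraMap P P₀) = 𝔫)
    (h2 : Function.Surjective (algebraMap Q Q₀))
    (hk2 : RingHom.ker (algebraMap Q Q₀) = 𝔫.map (algebraMap P Q))
    [Module.Flat P₀ Q₀] : Module.Flat (P ⧸ 𝔫) (Q ⧸ 𝔫.map (algebraMap P Q)) := by
  let eP : (P ⧸ 𝔫) ≃+* P₀ :=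
    (Ideal.quotEquivOfEq hk1.symm).trans (RingHom.quotientKerEquivOfSurjective h1)
  let eQ : (Q ⧸ 𝔫.map (algebraMap P Q)) ≃+* Q₀ :=
    (Ideal.quotEquivOfEq hk2.symm).trans (RingHom.quotientKerEquivOfSurjective h2)
  have hfl : (algebraMap P₀ Q₀).Flat := RingHom.flat_algebraMap_iff.mpr inferInstance
  have h3 : (eQ.symm.toRingHom.comp ((algebraMap P₀ Q₀).comp eP.toRingHom)).Flat :=
    RingHom.Flat.respectsIso.1 _ eQ.symm (RingHom.Flat.respectsIso.2 _ eP hfl)
  have h4 : eQ.symm.toRingHom.comp ((algebraMap P₀ Q₀).comp eP.toRingHom) =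
      algebraMap (P ⧸ 𝔫) (Q ⧸ 𝔫.map (algebraMap P Q)) := by
    apply Ideal.Quotient.ringHom_ext
    ext p
    simp only [RingHom.comp_apply, RingEquiv.toRingHom_eq_coe, RingEquiv.coe_toRingHom]
    rw [RingEquiv.symm_apply_eq]
    show algebraMap P₀ Q₀ (algebraMap P P₀ p) = algebraMap Q Q₀ (algebraMap P Q p)
    rw [← IsScalarTower.algebraMap_apply, ← IsScalarTower.algebraMap_apply]
  rw [h4] at h3
  exact RingHom.flat_algebraMap_iff.mp h3

theorem flat_rel (𝔫 : Ideal P) (hnil : IsNilpotent 𝔫)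
    (h1 : Function.Surjective (algebraMap P P₀)) (hk1 : RingHom.ker (algebraMap P P₀) = 𝔫)
    (h2 : Function.Surjective (algebraMap Q Q₀))
    (hk2 : RingHom.ker (algebraMap Q Q₀) = 𝔫.map (algebraMap P Q))
    [Module.Flat P₀ Q₀] (hinj : Function.Injective (𝔫.subtype.rTensor Q)) : Module.Flat P Q := by
  haveI := flat_quotient_of_flat (P₀ := P₀) (Q₀ := Q₀) 𝔫 h1 hk1 h2 hk2
  haveI : Module.Flat (P ⧸ 𝔫) ((P ⧸ 𝔫) ⊗[P] Q) :=
    Module.Flat.of_linearEquiv
      (Algebra.TensorProduct.quotIdealMapEquivQuotTensor Q 𝔫).symm.toLinearEquiv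
  exact Groth.Agent.Lib.Helper9.flat_of_isNilpotent_of_rTensor_injective (I := 𝔫) hnil hinj

end FlatRel

section UnramRel

variable {P Q Q₀ : Type u} [CommRing P] [CommRing Q] [CommRing Q₀]
  [Algebra P Q] [Algebra P Q₀] [Algebra Q Q₀] [IsScalarTower P Q Q₀]

theorem unram_rel (K : Ideal P) (n : ℕ) (hn : (K.map (algebraMap P Q)) ^ n = ⊥)
    (h2 : Function.Surjective (algebraMap Q Q₀))
    (hk2 : RingHom.ker (algebraMap Q Q₀) = K.map (algebraMap P Q))
    [Algebra.FormallyUnramified P Q₀] : Algebra.FormallyUnramified P Q := by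
  have h2' : Function.Surjective (IsScalarTower.toAlgHom P Q Q₀) := h2
  let e : (Q ⧸ K.map (algebraMap P Q)) ≃ₐ[P] Q₀ :=
    (Ideal.quotientEquivAlgOfEq P (show K.map (algebraMap P Q) =
      RingHom.ker (IsScalarTower.toAlgHom P Q Q₀) from hk2.symm)).trans
      (Ideal.quotientKerAlgEquivOfSurjective h2')
  haveI : Algebra.FormallyUnramified P (Q ⧸ K.map (algebraMap P Q)) :=
    Algebra.FormallyUnramified.of_equiv e.symm
  exact RigEt.formallyUnramified_of_quotient_nilpotent P Q K n hn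

end UnramRel

end Groth.Agent.Lib.Helper15.EtGlue
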