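import Mathlib
import Groth.Agent.Lib.Helper15.EtGlue12
import Groth.Agent.Lib.Helper15.EtGlue13

/-!
# Square-zero gluing: flatness of `C` over the glued algebra (helper15)
-/

set_option autoImplicit false
set_option linter.style.haveILetI false
set_option linter.unusedSectionVars false
set_option linter.style.longLine false
set_option maxSynthPendingDepth 3

universe u

namespace Groth.Agent.Lib.Helper15.EtGlue

open TensorProduct

namespace GlueData

variable {A : Type u} [CommRing A] {J : Ideal A} {R R' C 𝔖 Λ : Type u}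
    [CommRing R] [CommRing R'] [CommRing C] [CommRing 𝔖] [CommRing Λ]
    [Algebra A R] [Algebra A R'] [Algebra R R'] [IsScalarTower A R R'] [Algebra A C] [Algebra A 𝔖]
    [Algebra A Λ] (D : GlueData A J R R' C 𝔖 Λ)

/-- `B → C`, the first projection. -/
noncomputable def toC : D.Bsub →ₐ[A] C := (AlgHom.fst A C 𝔖).comp D.Bsub.val

/-- `B → 𝔖`, the second projection. -/
noncomputable def toS : D.Bsub →ₐ[A] 𝔖 := (AlgHom.snd A C 𝔖).comp D.Bsub.val

@[simp] theorem toC_apply (b : D.Bsub) : D.toC b = b.1.1 := rfl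
@[simp] theorem toS_apply (b : D.Bsub) : D.toS b = b.1.2 := rfl

/-- The `B`-algebra structure on `C`. -/
@[reducible] noncomputable def algBC : Algebra D.Bsub C := D.toC.toRingHom.toAlgebra

include D in
theorem sq_zero : J * J = ⊥ := by
  rw [eq_bot_iff, Ideal.mul_le]
  intro x hx y hy
  rw [D.hJ x hx y hy]
  exact Ideal.zero_mem _

section WithAlg

attribute [local instance] algBC

theorem algebraMap_BC (b : D.Bsub) : algebraMap D.Bsub C b = b.1.1 := rfl

theorem smul_BC (b : D.Bsub) (c : C) : b • c = b.1.1 * c := rfl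

instance towerABC : IsScalarTower A D.Bsub C := IsScalarTower.of_algebraMap_eq (fun _ => rfl)

/-- the ideal `J B`. -/
noncomputable abbrev nB : Ideal D.Bsub := J.map (algebraMap A D.Bsub)

/-- `j ↦ j • 1 ∈ J B`. -/
noncomputable def nJl : J →ₗ[A] D.nB :=
  LinearMap.codRestrict (D.nB.restrictScalars A) ((Algebra.linearMap A D.Bsub).comp J.subtype)
    (fun j => Ideal.mem_map_of_mem _ j.2)

theorem coe_nJl (j : J) : (D.nJl j : D.Bsub) = algebraMap A D.Bsub j := rfl

theorem nJl_tmul_zero (j : J) (u : C) (hu : D.pC u = 0) : D.nJl j ⊗ₜ[D.Bsub] u = 0 := by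
  have hu' : u ∈ (J.map (algebraMap A C)).restrictScalars A := by
    rw [Submodule.restrictScalars_mem, ← D.hkC]; exact hu
  rw [← Ideal.smul_top_eq_map] at hu'
  refine Submodule.smul_induction_on hu' ?_ ?_
  · intro j' hj' c _
    have h1 : j' • c = (algebraMap A D.Bsub j') • c := by
      rw [algebraMap_smul]
    rw [h1, ← TensorProduct.smul_tmul]
    have h2 : (algebraMap A D.Bsub j') • D.nJl j = 0 := by
      apply Subtype.ext
      rw [Submodule.coe_smul, coe_nJl, smul_eq_mul, ← map_mul, D.hJ j' hj' j j.2, map_zero]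
      rfl
    rw [h2, zero_tmul]
  · intro x y hx hy
    rw [tmul_add, hx, hy, add_zero]

theorem nJl_tmul_eq (j : J) (u v : C) (huv : D.pC u = D.pC v) :
    D.nJl j ⊗ₜ[D.Bsub] u = D.nJl j ⊗ₜ[D.Bsub] v := by
  have := D.nJl_tmul_zero j (u - v) (by rw [map_sub, huv, sub_self])
  rwa [tmul_sub, sub_eq_zero] at this

/-- `r' ⊗ j ↦ (j • 1) ⊗ (lift of r')`. -/
noncomputable def Phi : R' ⊗[A] J →ₗ[A] D.nB ⊗[D.Bsub] C :=
  TensorProduct.lift (LinearMap.mk₂ A
    (fun (r' : R') (j : J) => D.nJl j ⊗ₜ[D.Bsub] Function.surjInv D.hpC r')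
    (fun r₁ r₂ j => by
      rw [← tmul_add]
      apply D.nJl_tmul_eq
      rw [map_add]
      simp only [Function.surjInv_eq D.hpC])
    (fun x r' j => by
      rw [← tmul_smul]
      apply D.nJl_tmul_eq
      rw [map_smul]
      simp only [Function.surjInv_eq D.hpC])
    (fun r' j₁ j₂ => by rw [map_add, add_tmul])
    (fun x r' j => by rw [map_smul, TensorProduct.smul_tmul']))

theorem Phi_tmul (c : C) (j : J) : D.Phi (D.pC c ⊗ₜ[A] j) = D.nJl j ⊗ₜ[D.Bsub] c := by
  rw [Phi, TensorProduct.lift.tmul, LinearMap.mk₂_apply]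
  apply D.nJl_tmul_eq
  rw [Function.surjInv_eq D.hpC]

theorem rTensor_Phi (μ : R' ⊗[A] J) :
    D.nB.subtype.rTensor C (D.Phi μ) = (1 : D.Bsub) ⊗ₜ[D.Bsub] D.starC μ := by
  induction μ using TensorProduct.induction_on with
  | zero => simp
  | tmul r' j =>
    obtain ⟨c, rfl⟩ := D.hpC r'
    rw [Phi_tmul, LinearMap.rTensor_tmul, Submodule.subtype_apply, coe_nJl, starC, star_tmul]
    have : algebraMap A D.Bsub j = algebraMap A D.Bsub j • (1 : D.Bsub) := by
      rw [smul_eq_mul, mul_one]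
    rw [this, TensorProduct.smul_tmul, algebraMap_smul]
  | add μ₁ μ₂ h₁ h₂ => rw [map_add, map_add, h₁, h₂, map_add, tmul_add]

theorem Phi_surjective (ξ : D.nB ⊗[D.Bsub] C) : ∃ μ, D.Phi μ = ξ := by
  induction ξ using TensorProduct.induction_on with
  | zero => exact ⟨0, map_zero _⟩
  | tmul n c =>
    obtain ⟨n, hn⟩ := n
    revert c
    have hn' : n ∈ Submodule.span D.Bsub (⇑(algebraMap A D.Bsub) '' (J : Set A)) := hn
    induction hn' using Submodule.span_induction with
    | mem x hx =>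
      intro c
      obtain ⟨j, hj, rfl⟩ := hx
      exact ⟨D.pC c ⊗ₜ[A] (⟨j, hj⟩ : J), D.Phi_tmul c ⟨j, hj⟩⟩
    | zero =>
      intro c
      refine ⟨0, ?_⟩
      rw [map_zero]
      have : (⟨0, hn⟩ : D.nB) = 0 := rfl
      rw [this, zero_tmul]
    | add x y hx hy ihx ihy =>
      intro c
      obtain ⟨μ₁, h₁⟩ := ihx hx c
      obtain ⟨μ₂, h₂⟩ := ihy hy c
      refine ⟨μ₁ + μ₂, ?_⟩
      rw [map_add, h₁, h₂, ← add_tmul]
      rfl
    | smul b x hx ihx =>
      intro c
      obtain ⟨μ, hμ⟩ := ihx hx (b • c)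
      refine ⟨μ, ?_⟩
      rw [hμ, ← TensorProduct.smul_tmul]
      rfl
  | add ξ₁ ξ₂ h₁ h₂ =>
    obtain ⟨μ₁, h₁⟩ := h₁
    obtain ⟨μ₂, h₂⟩ := h₂
    exact ⟨μ₁ + μ₂, by rw [map_add, h₁, h₂]⟩

end WithAlg

end GlueData

end Groth.Agent.Lib.Helper15.EtGlue
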