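import Mathlib
import Groth.Agent.Lib.Helper15.EtGlue14

/-!
# Square-zero gluing: `C` is étale over the glued algebra (helper15)
-/

set_option autoImplicit false
set_option linter.style.haveILetI false
set_option linter.unusedSectionVars false
set_option linter.style.longLine false
set_option maxSynthPendingDepth 3

universe u

namespace Groth.Agent.Lib.Helper15.EtGlue

open TensorProduct

namespace GlueData

variable {A : Type u} [CommRing A] {J : Ideal A} {R R' C 𝔖 Λ : Type u}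
    [CommRing R] [CommRing R'] [CommRing C] [CommRing 𝔖] [CommRing Λ]
    [Algebra A R] [Algebra A R'] [Algebra R R'] [IsScalarTower A R R'] [Algebra A C] [Algebra A 𝔖]
    [Algebra A Λ] (D : GlueData A J R R' C 𝔖 Λ)

variable {ι : Type} [Finite ι] (a : ι → A)
  (L : ι → Type u) [∀ l, CommRing (L l)] [∀ l, Algebra A (L l)]
  [∀ l, IsLocalization.Away (a l) (L l)] (ε : ∀ l, Λ →ₐ[A] L l)
  (h : IsNbhdAlong (R' := R') ((Ideal.span (Set.range a)).map (algebraMap A R)))
  [Module.Flat R R'] [Module.Flat A Λ] [Module.Flat A 𝔖] [Module.Flat A (C ⊗[A] Λ)]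

attribute [local instance] algBC

include ε h in
theorem exists_mem_map_of_tensor' (t : R ⊗[A] J) :
    ∃ (b : D.Bsub) (hb : b ∈ D.nB),
      b.1.1 = (D.Theta0 ((1 : R') ⊗ₜ[R] t) : C) ∧ b.1.2 = D.psi1 (t ⊗ₜ[A] (1 : Λ)) ∧
      D.Phi (AlgebraTensorModule.cancelBaseChange A R R' R' J ((1 : R') ⊗ₜ[R] t)) =
        (⟨b, hb⟩ : D.nB) ⊗ₜ[D.Bsub] (1 : C) := by
  induction t using TensorProduct.induction_on with
  | zero =>
    refine ⟨0, Ideal.zero_mem _, ?_, ?_, ?_⟩
    · rw [tmul_zero, map_zero]; rfl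
    · rw [zero_tmul, map_zero]; rfl
    · rw [tmul_zero, map_zero, map_zero]
      have : (⟨0, Ideal.zero_mem _⟩ : D.nB) = 0 := rfl
      rw [this, zero_tmul]
  | tmul r j =>
    obtain ⟨b₀, hb₀⟩ := D.piHom_surjective a L ε h r
    obtain ⟨h1, h2⟩ := D.piHom_spec a L ε h b₀
    rw [hb₀] at h1 h2
    refine ⟨algebraMap A D.Bsub j * b₀,
      Ideal.mul_mem_right _ _ (Ideal.mem_map_of_mem _ j.2), ?_, ?_, ?_⟩
    · have := D.coe_qOf_Theta0_tmul r j b₀.1.1 h1.symm
      rw [qOf_apply] at this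
      rw [this, ← Algebra.smul_def]
      rfl
    · rw [D.psi1_tmul r j 1 b₀.1.2 h2.symm, ← Algebra.smul_def]
      rfl
    · rw [AlgebraTensorModule.cancelBaseChange_tmul, Algebra.smul_def, mul_one, h1, D.Phi_tmul]
      have e1 : b₀.1.1 = b₀ • (1 : C) := by rw [D.smul_BC, mul_one]
      rw [e1, ← TensorProduct.smul_tmul]
      congr 1
      apply Subtype.ext
      rw [Submodule.coe_smul, D.coe_nJl, smul_eq_mul, mul_comm]
  | add t₁ t₂ h₁ h₂ =>
    obtain ⟨b₁, hb₁, e₁, f₁, g₁⟩ := h₁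
    obtain ⟨b₂, hb₂, e₂, f₂, g₂⟩ := h₂
    refine ⟨b₁ + b₂, Ideal.add_mem _ hb₁ hb₂, ?_, ?_, ?_⟩
    · rw [tmul_add, map_add, Submodule.coe_add, ← e₁, ← e₂]; rfl
    · rw [add_tmul, map_add, ← f₁, ← f₂]; rfl
    · rw [tmul_add, map_add, map_add, g₁, g₂, ← add_tmul]
      rfl

include ε h in
theorem rTensor_nB_injective : Function.Injective (D.nB.subtype.rTensor C) := by
  rw [injective_iff_map_eq_zero]
  intro ξ hξ
  obtain ⟨μ', rfl⟩ := D.Phi_surjective ξ
  rw [D.rTensor_Phi] at hξ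
  have hs : D.starC μ' = 0 := by
    have := congrArg (TensorProduct.lid D.Bsub C) hξ
    simpa using this
  set cb := AlgebraTensorModule.cancelBaseChange A R R' R' J with hcb
  have hμ0 : D.Theta0 (cb.symm μ') = 0 := by
    apply Subtype.ext
    rw [D.coe_Theta0, ← hcb, LinearEquiv.apply_symm_apply, hs]
    rfl
  obtain ⟨t, ht1, ht2⟩ := K_flat Λ a L ε h D.Theta0 D.Theta0_rTensor_injective _ hμ0
  obtain ⟨b, hb, e1, e2, e3⟩ := D.exists_mem_map_of_tensor' a L ε h t
  have hb0 : b = 0 := by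
    apply Subtype.ext
    apply Prod.ext
    · rw [e1, ← ht2, hμ0]; rfl
    · rw [e2, ht1, map_zero]; rfl
  have hμ' : μ' = cb ((1 : R') ⊗ₜ[R] t) := by
    rw [← ht2, LinearEquiv.apply_symm_apply]
  rw [hμ', e3]
  have : (⟨b, hb⟩ : D.nB) = 0 := Subtype.ext hb0
  rw [this, zero_tmul]

include D in
theorem nB_sq : D.nB ^ 2 = ⊥ := by
  rw [← Ideal.map_pow, pow_two, D.sq_zero, Ideal.map_bot]

theorem nB_map : D.nB.map (algebraMap D.Bsub C) = J.map (algebraMap A C) := by
  rw [Ideal.map_map, ← IsScalarTower.algebraMap_eq]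

include ε h in
theorem flat_BC : Module.Flat D.Bsub C := by
  letI : Algebra D.Bsub R := (D.piHom a L ε h).toRingHom.toAlgebra
  letI : Algebra C R' := D.pC.toRingHom.toAlgebra
  letI : Algebra D.Bsub R' := ((algebraMap R R').comp (D.piHom a L ε h).toRingHom).toAlgebra
  haveI : IsScalarTower D.Bsub R R' := IsScalarTower.of_algebraMap_eq (fun _ => rfl)
  haveI : IsScalarTower D.Bsub C R' := IsScalarTower.of_algebraMap_eq (fun b =>
    (D.piHom_spec a L ε h b).1)
  refine flat_rel (P := D.Bsub) (Q := C) (P₀ := R) (Q₀ := R') D.nB ⟨2, D.nB_sq⟩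
    (D.piHom_surjective a L ε h) (D.ker_piHom a L ε h) D.hpC ?_ (D.rTensor_nB_injective a L ε h)
  rw [D.nB_map]
  exact D.hkC

include ε h in
theorem etale_BC [Algebra.FiniteType A C] [IsNoetherianRing A] [Algebra.Etale R R']
    (hBft : Algebra.FiniteType A D.Bsub) : Algebra.Etale D.Bsub C := by
  letI : Algebra D.Bsub R := (D.piHom a L ε h).toRingHom.toAlgebra
  letI : Algebra C R' := D.pC.toRingHom.toAlgebra
  letI : Algebra D.Bsub R' := ((algebraMap R R').comp (D.piHom a L ε h).toRingHom).toAlgebra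
  haveI : IsScalarTower D.Bsub R R' := IsScalarTower.of_algebraMap_eq (fun _ => rfl)
  haveI : IsScalarTower D.Bsub C R' := IsScalarTower.of_algebraMap_eq (fun b =>
    (D.piHom_spec a L ε h b).1)
  haveI : Algebra.FormallyUnramified D.Bsub R :=
    Algebra.FormallyUnramified.of_surjective (Algebra.ofId D.Bsub R) (D.piHom_surjective a L ε h)
  haveI : Algebra.FormallyUnramified D.Bsub R' := Algebra.FormallyUnramified.comp D.Bsub R R'
  haveI : Algebra.FormallyUnramified D.Bsub C := by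
    refine unram_rel (P := D.Bsub) (Q := C) (Q₀ := R') D.nB 2 ?_ D.hpC ?_
    · rw [D.nB_map, ← Ideal.map_pow, pow_two, D.sq_zero, Ideal.map_bot]
    · rw [D.nB_map]
      exact D.hkC
  haveI : Module.Flat D.Bsub C := D.flat_BC a L ε h
  haveI : IsNoetherianRing D.Bsub := Algebra.FiniteType.isNoetherianRing A D.Bsub
  haveI : Algebra.FiniteType D.Bsub C := Algebra.FiniteType.of_restrictScalars_finiteType A D.Bsub C
  haveI : Algebra.FinitePresentation D.Bsub C := Algebra.FinitePresentation.of_finiteType.mp ‹_›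
  exact Algebra.Etale.of_formallyUnramified_of_flat

end GlueData

end Groth.Agent.Lib.Helper15.EtGlue
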