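import Mathlib
import Groth.Agent.Lib.Helper15.EtGlue15

/-!
# Square-zero gluing: finite type, and `B → C` is an isomorphism modulo `I` (helper15)
-/

set_option autoImplicit false
set_option linter.style.haveILetI false
set_option linter.unusedSectionVars false
set_option linter.style.longLine false
set_option maxSynthPendingDepth 3

universe u

namespace Groth.Agent.Lib.Helper15.EtGlue

open TensorProduct

namespace GlueData

variable {A : Type u} [CommRing A] {J : Ideal A} {R R' C 𝔖 Λ : Type u}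
    [CommRing R] [CommRing R'] [CommRing C] [CommRing 𝔖] [CommRing Λ]
    [Algebra A R] [Algebra A R'] [Algebra R R'] [IsScalarTower A R R'] [Algebra A C] [Algebra A 𝔖]
    [Algebra A Λ] (D : GlueData A J R R' C 𝔖 Λ)

variable {ι : Type} [Finite ι] (a : ι → A)
  (L : ι → Type u) [∀ l, CommRing (L l)] [∀ l, Algebra A (L l)]
  [∀ l, IsLocalization.Away (a l) (L l)] (ε : ∀ l, Λ →ₐ[A] L l)
  (h : IsNbhdAlong (R' := R') ((Ideal.span (Set.range a)).map (algebraMap A R)))
  [Module.Flat R R'] [Module.Flat A Λ] [Module.Flat A 𝔖] [Module.Flat A (C ⊗[A] Λ)]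

attribute [local instance] algBC

theorem nB_mul_eq_zero (x y : D.Bsub) (hx : x ∈ D.nB) (hy : y ∈ D.nB) : x * y = 0 := by
  have : x * y ∈ D.nB ^ 2 := by
    rw [pow_two]; exact Ideal.mul_mem_mul hx hy
  rw [D.nB_sq] at this
  exact this

include ε h in
theorem sub_mem_nB (b b' : D.Bsub) (hbb' : D.piHom a L ε h b' = D.piHom a L ε h b) :
    b - b' ∈ D.nB := by
  have : D.nB = RingHom.ker (D.piHom a L ε h : D.Bsub →+* R) := (D.ker_piHom a L ε h).symm
  rw [this, RingHom.mem_ker]
  show D.piHom a L ε h (b - b') = 0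
  rw [map_sub, hbb', sub_self]

include ε h in
theorem finiteType_B [Algebra.FiniteType A R] : Algebra.FiniteType A D.Bsub := by
  classical
  obtain ⟨s, hs⟩ := (Algebra.FiniteType.out : (⊤ : Subalgebra A R).FG)
  have hsurj := D.piHom_surjective a L ε h
  let t : Finset D.Bsub := s.image (Function.surjInv hsurj)
  let B' : Subalgebra A D.Bsub := Algebra.adjoin A (t : Set D.Bsub)
  have h1 : ∀ r : R, ∃ b' ∈ B', D.piHom a L ε h b' = r := by
    have : B'.map (D.piHom a L ε h) = ⊤ := by
      rw [AlgHom.map_adjoin, ← hs]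
      congr 1
      ext r
      simp only [Finset.coe_image, Set.mem_image, Finset.mem_coe, t]
      constructor
      · rintro ⟨b, ⟨r', hr', rfl⟩, rfl⟩
        rw [Function.surjInv_eq hsurj]; exact hr'
      · intro hr
        exact ⟨_, ⟨r, hr, rfl⟩, Function.surjInv_eq hsurj r⟩
    intro r
    have hr : r ∈ B'.map (D.piHom a L ε h) := by rw [this]; exact Algebra.mem_top
    obtain ⟨b', hb', rfl⟩ := hr
    exact ⟨b', hb', rfl⟩
  have h2 : ∀ x ∈ D.nB, x ∈ B' := by
    intro x hx
    have hx' : x ∈ Submodule.span D.Bsub (⇑(algebraMap A D.Bsub) '' (J : Set A)) := hx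
    clear hx
    induction hx' using Submodule.span_induction with
    | mem x hx =>
      obtain ⟨j, _, rfl⟩ := hx
      exact Subalgebra.algebraMap_mem _ _
    | zero => exact Subalgebra.zero_mem _
    | add x y hx hy ihx ihy => exact Subalgebra.add_mem _ ihx ihy
    | smul b x hx ihx =>
      obtain ⟨b', hb', hbb'⟩ := h1 (D.piHom a L ε h b)
      have hy : b - b' ∈ D.nB := D.sub_mem_nB a L ε h b b' hbb'
      have hxn : x ∈ D.nB := hx
      have : b • x = b' * x := by
        have e : b * x = b' * x + (b - b') * x := by ring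
        rw [smul_eq_mul, e, D.nB_mul_eq_zero _ _ hy hxn, add_zero]
      rw [this]
      exact Subalgebra.mul_mem _ hb' ihx
  refine ⟨⟨t, ?_⟩⟩
  rw [eq_top_iff]
  intro b _
  obtain ⟨b', hb', hbb'⟩ := h1 (D.piHom a L ε h b)
  have hy : b - b' ∈ D.nB := D.sub_mem_nB a L ε h b b' hbb'
  have e : b = b' + (b - b') := by ring
  rw [e]
  exact Subalgebra.add_mem _ hb' (h2 _ hy)

theorem map_map_BC (K : Ideal A) :
    (K.map (algebraMap A D.Bsub)).map (algebraMap D.Bsub C) = K.map (algebraMap A C) := by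
  rw [Ideal.map_map, ← IsScalarTower.algebraMap_eq]

include ε h in
/-- decomposition of an element of `C`. -/
theorem exists_decomp (c : C) :
    ∃ (b : D.Bsub) (y : C) (u : C), y ∈ (Ideal.span (Set.range a)).map (algebraMap A C) ∧
      D.pC u = 0 ∧ c = b.1.1 + y + u := by
  obtain ⟨r, hr⟩ := h.dense (D.pC c)
  rw [Ideal.map_map, ← IsScalarTower.algebraMap_eq] at hr
  have e1 : (Ideal.span (Set.range a)).map (algebraMap A R') =
      ((Ideal.span (Set.range a)).map (algebraMap A C)).map (D.pC : C →+* R') := by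
    rw [Ideal.map_map]
    congr 1
    ext x
    exact (AlgHom.commutes D.pC x).symm
  rw [e1, Ideal.mem_map_iff_of_surjective (D.pC : C →+* R') D.hpC] at hr
  obtain ⟨y, hy, hy'⟩ := hr
  obtain ⟨b, hb⟩ := D.piHom_surjective a L ε h r
  have hb1 := (D.piHom_spec a L ε h b).1
  rw [hb] at hb1
  refine ⟨b, y, c - b.1.1 - y, hy, ?_, by ring⟩
  have hy'' : D.pC y = D.pC c - algebraMap R R' r := hy'
  rw [map_sub, map_sub, hy'', ← hb1]
  ring

include ε h in
theorem exists_approx_of_ker (u : C) (hu : D.pC u = 0) :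
    ∃ b : D.Bsub, u - b.1.1 ∈ (Ideal.span (Set.range a)).map (algebraMap A C) := by
  have hu' : u ∈ (J.map (algebraMap A C)).restrictScalars A := by
    rw [Submodule.restrictScalars_mem, ← D.hkC]; exact hu
  rw [← Ideal.smul_top_eq_map] at hu'
  refine Submodule.smul_induction_on hu' ?_ ?_
  · intro j hj c _
    obtain ⟨b, y, u', hy, hu', rfl⟩ := D.exists_decomp a L ε h c
    refine ⟨algebraMap A D.Bsub j * b, ?_⟩
    have e0 : j • u' = 0 := smul_ker_eq_zero D.hJ D.pC D.hkC j hj u' hu'
    have e1 : j • (b.1.1 + y + u') - (algebraMap A D.Bsub j * b).1.1 = j • y := by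
      rw [smul_add, smul_add, e0, add_zero]
      have : (algebraMap A D.Bsub j * b).1.1 = j • b.1.1 := by
        rw [← Algebra.smul_def]; rfl
      rw [this]
      abel
    rw [e1, Algebra.smul_def]
    exact Ideal.mul_mem_left _ _ hy
  · rintro x y ⟨b₁, h₁⟩ ⟨b₂, h₂⟩
    refine ⟨b₁ + b₂, ?_⟩
    have : x + y - (b₁ + b₂).1.1 = (x - b₁.1.1) + (y - b₂.1.1) := by
      show x + y - (b₁.1.1 + b₂.1.1) = _
      ring
    rw [this]
    exact Ideal.add_mem _ h₁ h₂

include ε h in
theorem dense_BC (c : C) :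
    ∃ b : D.Bsub, c - b.1.1 ∈ (Ideal.span (Set.range a)).map (algebraMap A C) := by
  obtain ⟨b, y, u, hy, hu, rfl⟩ := D.exists_decomp a L ε h c
  obtain ⟨b', hb'⟩ := D.exists_approx_of_ker a L ε h u hu
  refine ⟨b + b', ?_⟩
  have : b.1.1 + y + u - (b + b').1.1 = y + (u - b'.1.1) := by
    show b.1.1 + y + u - (b.1.1 + b'.1.1) = _
    ring
  rw [this]
  exact Ideal.add_mem _ hy hb'

include ε h in
theorem closed_sup_BC (b : D.Bsub)
    (hb : b.1.1 ∈ ((Ideal.span (Set.range a)) ⊔ J).map (algebraMap A C)) :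
    b ∈ ((Ideal.span (Set.range a)) ⊔ J).map (algebraMap A D.Bsub) := by
  have h1 : algebraMap R R' (D.piHom a L ε h b) ∈
      ((Ideal.span (Set.range a)).map (algebraMap A R)).map (algebraMap R R') := by
    rw [(D.piHom_spec a L ε h b).1, Ideal.map_map, ← IsScalarTower.algebraMap_eq]
    have e1 : (Ideal.span (Set.range a)).map (algebraMap A R') =
        (((Ideal.span (Set.range a)) ⊔ J).map (algebraMap A C)).map (D.pC : C →+* R') := by
      rw [Ideal.map_sup, Ideal.map_sup, ← D.hkC, Ideal.map_map]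
      have : (RingHom.ker (D.pC : C →+* R')).map (D.pC : C →+* R') = ⊥ := by
        rw [Ideal.map_eq_bot_iff_le_ker]
      rw [this, sup_bot_eq]
      congr 1
      ext x
      exact (AlgHom.commutes D.pC x).symm
    rw [e1]
    exact Ideal.mem_map_of_mem _ hb
  have h2 := h.closed _ h1
  have e2 : (Ideal.span (Set.range a)).map (algebraMap A R) =
      ((Ideal.span (Set.range a)).map (algebraMap A D.Bsub)).map
        (D.piHom a L ε h : D.Bsub →+* R) := by
    rw [Ideal.map_map]
    congr 1
    ext x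
    exact (AlgHom.commutes (D.piHom a L ε h) x).symm
  rw [e2, Ideal.mem_map_iff_of_surjective (D.piHom a L ε h : D.Bsub →+* R)
    (D.piHom_surjective a L ε h)] at h2
  obtain ⟨y, hy, hy'⟩ := h2
  have h3 : b - y ∈ D.nB := D.sub_mem_nB a L ε h b y hy'
  have e : b = y + (b - y) := by ring
  rw [e, Ideal.map_sup]
  exact Ideal.add_mem _ (Ideal.mem_sup_left hy) (Ideal.mem_sup_right h3)

include ε h in
theorem isNbhdAlong_BC :
    IsNbhdAlong (R := D.Bsub) (R' := C) ((Ideal.span (Set.range a)).map (algebraMap A D.Bsub)) := by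
  have hsup : IsNbhdAlong (R := D.Bsub) (R' := C)
      (((Ideal.span (Set.range a)) ⊔ J).map (algebraMap A D.Bsub)) := by
    constructor
    · intro c
      obtain ⟨b, hb⟩ := D.dense_BC a L ε h c
      refine ⟨b, ?_⟩
      rw [D.map_map_BC]
      exact Ideal.map_mono le_sup_left hb
    · intro b hb
      rw [D.map_map_BC] at hb
      exact D.closed_sup_BC a L ε h b hb
  constructor
  · intro c
    obtain ⟨b, hb⟩ := D.dense_BC a L ε h c
    refine ⟨b, ?_⟩
    rw [D.map_map_BC]
    exact hb
  · intro b hb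
    haveI : Module.Flat D.Bsub C := D.flat_BC a L ε h
    set IB := (Ideal.span (Set.range a)).map (algebraMap A D.Bsub) with hIB
    have hsq : (((Ideal.span (Set.range a)) ⊔ J).map (algebraMap A D.Bsub)) ^ 2 ≤ IB := by
      rw [Ideal.map_sup, pow_two, Ideal.sup_mul, Ideal.mul_sup, Ideal.mul_sup]
      refine sup_le (sup_le Ideal.mul_le_right Ideal.mul_le_left)
        (sup_le (Ideal.mul_le.mpr (fun x _ y hy => Ideal.mul_mem_left _ _ hy)) ?_)
      have : D.nB * D.nB = ⊥ := by rw [← pow_two, D.nB_sq]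
      rw [this]
      exact bot_le
    have key := t1_inj hsup (Ideal.Quotient.mk IB b) 2 (fun x hx => by
      rw [← Ideal.Quotient.mk_eq_mk, ← Submodule.Quotient.mk_smul, Ideal.Quotient.mk_eq_mk,
        Ideal.Quotient.eq_zero_iff_mem, smul_eq_mul]
      exact Ideal.mul_mem_right _ _ (hsq hx)) (by
      apply (TensorProduct.tensorQuotEquivQuotSMul C IB).injective
      rw [map_zero]
      rw [TensorProduct.tensorQuotEquivQuotSMul_tmul_mk, Submodule.Quotient.mk_eq_zero,
        Ideal.smul_top_eq_map, Submodule.restrictScalars_mem, D.smul_BC, mul_one]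
      exact hb)
    exact Ideal.Quotient.eq_zero_iff_mem.mp key

end GlueData

end Groth.Agent.Lib.Helper15.EtGlue
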