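import Mathlib
import Groth.Agent.Lib.Helper15.EtGlue8

/-!
# Localization of a surjection, and injectivity of `E ⊗ J → E` from `star` (helper15)
-/

set_option autoImplicit false
set_option linter.style.haveILetI false
set_option linter.unusedSectionVars false
set_option linter.style.longLine false

universe u

namespace Groth.Agent.Lib.Helper15.EtGlue

open TensorProduct

section LocSurj

variable {A B R : Type*} [CommRing A] [CommRing B] [CommRing R] [Algebra A B] [Algebra A R]
  (π : B →ₐ[A] R) (hπ : Function.Surjective π) (x : B)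
  (D' Q₀ : Type*) [CommRing D'] [CommRing Q₀] [Algebra B D'] [Algebra R Q₀]
  [IsLocalization.Away x D'] [IsLocalization.Away (π x) Q₀]
  [Algebra A D'] [IsScalarTower A B D'] [Algebra A Q₀] [IsScalarTower A R Q₀]

theorem isUnit_locMap_aux : IsUnit (((IsScalarTower.toAlgHom A R Q₀).comp π) x) :=
  IsLocalization.Away.algebraMap_isUnit (π x)

/-- the map `B_x → R_{π x}`. -/
noncomputable def locMap : D' →ₐ[A] Q₀ :=
  IsLocalization.Away.liftAlgHom (x := x) (f := (IsScalarTower.toAlgHom A R Q₀).comp π)
    (isUnit_locMap_aux π x Q₀)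

theorem locMap_algebraMap (b : B) :
    locMap π x D' Q₀ (algebraMap B D' b) = algebraMap R Q₀ (π b) := by
  rw [locMap, IsLocalization.Away.liftAlgHom_apply, IsLocalization.Away.lift_eq]
  rfl

include hπ in
theorem locMap_surjective : Function.Surjective (locMap π x D' Q₀) := by
  intro q
  obtain ⟨⟨r, s⟩, hrs⟩ := IsLocalization.surj (Submonoid.powers (π x)) q
  obtain ⟨n, hn⟩ := s.2
  obtain ⟨b, rfl⟩ := hπ r
  have hu : IsUnit (algebraMap B D' (x ^ n)) := by
    rw [map_pow]
    exact (IsLocalization.Away.algebraMap_isUnit x).pow n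
  obtain ⟨u, hu'⟩ := hu
  refine ⟨algebraMap B D' b * ↑u⁻¹, ?_⟩
  have h1 : locMap π x D' Q₀ (algebraMap B D' b * ↑u⁻¹) * algebraMap R Q₀ (π x ^ n) =
      algebraMap R Q₀ (π b) := by
    rw [← map_pow, ← locMap_algebraMap π x D' Q₀ (x ^ n), ← map_mul, ← hu', mul_assoc,
      Units.inv_mul, mul_one, locMap_algebraMap]
  have h2 : q * algebraMap R Q₀ (π x ^ n) = algebraMap R Q₀ (π b) := by
    have : (s : R) = π x ^ n := hn.symm
    rw [← this]
    exact hrs
  have hu2 : IsUnit (algebraMap R Q₀ (π x ^ n)) := by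
    rw [map_pow]
    exact (IsLocalization.Away.algebraMap_isUnit (π x)).pow n
  exact hu2.mul_left_injective (h1.trans h2.symm)

include hπ in
theorem locMap_ker : RingHom.ker (locMap π x D' Q₀ : D' →+* Q₀) =
    (RingHom.ker (π : B →+* R)).map (algebraMap B D') := by
  apply le_antisymm
  · intro d hd
    have hd0 : locMap π x D' Q₀ d = 0 := hd
    obtain ⟨⟨b, s⟩, hbs⟩ := IsLocalization.surj (Submonoid.powers x) d
    have h1 : algebraMap R Q₀ (π b) = 0 := by
      rw [← locMap_algebraMap π x D' Q₀, ← hbs, map_mul, hd0, zero_mul]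
    rw [IsLocalization.map_eq_zero_iff (Submonoid.powers (π x))] at h1
    obtain ⟨m, hm⟩ := h1
    obtain ⟨k, hk⟩ := m.2
    have h2 : x ^ k * b ∈ RingHom.ker (π : B →+* R) := by
      rw [RingHom.mem_ker]
      show π (x ^ k * b) = 0
      have hk' : π x ^ k = (m : R) := hk
      rw [map_mul, map_pow, hk']
      exact hm
    have h3 : algebraMap B D' (x ^ k * b) ∈
        (RingHom.ker (π : B →+* R)).map (algebraMap B D') := Ideal.mem_map_of_mem _ h2
    have hu : IsUnit (algebraMap B D' (x ^ k) * algebraMap B D' (s : B)) := by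
      refine IsUnit.mul ?_ (IsLocalization.map_units D' s)
      rw [map_pow]
      exact (IsLocalization.Away.algebraMap_isUnit x).pow k
    have h4 : d * (algebraMap B D' (x ^ k) * algebraMap B D' (s : B)) =
        algebraMap B D' (x ^ k * b) := by
      rw [map_mul, ← hbs]; ring
    obtain ⟨u, hu'⟩ := hu
    have h5 : d = algebraMap B D' (x ^ k * b) * ↑u⁻¹ := by
      rw [← h4, ← hu', mul_assoc, Units.mul_inv, mul_one]
    rw [h5]
    exact Ideal.mul_mem_right _ _ h3
  · rw [Ideal.map_le_iff_le_comap]
    intro b hb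
    rw [Ideal.mem_comap, RingHom.mem_ker]
    show locMap π x D' Q₀ (algebraMap B D' b) = 0
    rw [locMap_algebraMap]
    have : π b = 0 := hb
    rw [this, map_zero]

end LocSurj

section StarInj

variable {A : Type*} [CommRing A] {J : Ideal A} (hJ : ∀ x ∈ J, ∀ y ∈ J, x * y = 0)
  {E E₀ : Type*} [CommRing E] [CommRing E₀] [Algebra A E] [Algebra A E₀]
  (p : E →ₐ[A] E₀) (hp : Function.Surjective p)
  (hker : RingHom.ker (p : E →+* E₀) = J.map (algebraMap A E))

include hJ hker in
theorem rTensor_ker_subtype_eq_zero (κ : (LinearMap.ker p.toLinearMap) ⊗[A] J) :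
    (LinearMap.ker p.toLinearMap).subtype.rTensor J κ = 0 := by
  have key : ∀ u : E, p u = 0 → ∀ j : J, u ⊗ₜ[A] j = 0 := by
    intro u hu j
    have hu' : u ∈ (J.map (algebraMap A E)).restrictScalars A := by
      rw [Submodule.restrictScalars_mem, ← hker]; exact hu
    rw [← Ideal.smul_top_eq_map] at hu'
    refine Submodule.smul_induction_on hu' ?_ ?_
    · intro j' hj' e _
      rw [TensorProduct.smul_tmul]
      have : j' • j = 0 := by
        apply Subtype.ext
        rw [Submodule.coe_smul, smul_eq_mul, hJ j' hj' j j.2]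
        rfl
      rw [this, tmul_zero]
    · intro x y hx hy
      rw [add_tmul, hx, hy, add_zero]
  induction κ using TensorProduct.induction_on with
  | zero => simp
  | tmul u j =>
    rw [LinearMap.rTensor_tmul, Submodule.subtype_apply]
    exact key u.1 u.2 j
  | add κ₁ κ₂ h₁ h₂ => rw [map_add, h₁, h₂, add_zero]

include hJ hker in
theorem lTensor_subtype_injective_of_star_injective
    (hinj : Function.Injective (star hJ p hp hker)) :
    Function.Injective (J.subtype.lTensor E) := by
  rw [injective_iff_map_eq_zero]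
  intro ξ hξ
  have h1 : star hJ p hp hker (p.toLinearMap.rTensor J ξ) = 0 := by
    rw [star_rTensor, hξ, map_zero]
  have h2 : p.toLinearMap.rTensor J ξ = 0 := hinj (by rw [h1, map_zero])
  have hex := rTensor_exact J (LinearMap.exact_subtype_ker_map p.toLinearMap) hp
  obtain ⟨κ, hκ⟩ := (hex ξ).mp h2
  rw [← hκ]
  exact rTensor_ker_subtype_eq_zero hJ p hker κ

end StarInj

end Groth.Agent.Lib.Helper15.EtGlue
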