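import Mathlib
import Groth.Agent.Lib.Helper15.EtGlue16
import Groth.Agent.Lib.Helper15.EtGlue17

/-!
# Square-zero gluing: the glued algebra is étale over `A` away from `V(I)` (helper15)
-/

set_option autoImplicit false
set_option linter.style.haveILetI false
set_option linter.unusedSectionVars false
set_option linter.style.longLine false
set_option maxSynthPendingDepth 3

universe u

namespace Groth.Agent.Lib.Helper15.EtGlue

open TensorProduct

section LocTensor

variable {A : Type*} [CommRing A] {J : Ideal A} (a₀ : A)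
  {R : Type*} [CommRing R] [Algebra A R]
  (Q₀ : Type*) [CommRing Q₀] [Algebra R Q₀] [Algebra A Q₀] [IsScalarTower A R Q₀]
  [IsLocalization.Away (algebraMap A R a₀) Q₀]

theorem exists_pow_smul_eq_rTensor (ξ : Q₀ ⊗[A] J) :
    ∃ (n : ℕ) (t : R ⊗[A] J),
      a₀ ^ n • ξ = (IsScalarTower.toAlgHom A R Q₀).toLinearMap.rTensor J t := by
  induction ξ using TensorProduct.induction_on with
  | zero => exact ⟨0, 0, by simp⟩
  | tmul q j =>
    obtain ⟨⟨r, s⟩, hrs⟩ := IsLocalization.surj (Submonoid.powers (algebraMap A R a₀)) q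
    obtain ⟨n, hn⟩ := s.2
    have hn' : (algebraMap A R a₀) ^ n = (s : R) := hn
    refine ⟨n, r ⊗ₜ[A] j, ?_⟩
    rw [LinearMap.rTensor_tmul, TensorProduct.smul_tmul']
    congr 1
    rw [Algebra.smul_def, map_pow, IsScalarTower.algebraMap_apply A R Q₀, ← map_pow, hn', mul_comm]
    exact hrs
  | add ξ₁ ξ₂ h₁ h₂ =>
    obtain ⟨n₁, t₁, e₁⟩ := h₁
    obtain ⟨n₂, t₂, e₂⟩ := h₂
    refine ⟨n₁ + n₂, a₀ ^ n₂ • t₁ + a₀ ^ n₁ • t₂, ?_⟩
    rw [smul_add, map_add, map_smul, map_smul, ← e₁, ← e₂, smul_smul, smul_smul, ← pow_add,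
      ← pow_add, add_comm n₂ n₁]

omit [IsLocalization.Away (algebraMap A R a₀) Q₀] in
theorem eq_zero_of_pow_smul_eq_zero (hloc : IsLocalization.Away (algebraMap A R a₀) Q₀)
    (ξ : Q₀ ⊗[A] J) (n : ℕ) (hξ : a₀ ^ n • ξ = 0) : ξ = 0 := by
  have hu : IsUnit (algebraMap A Q₀ (a₀ ^ n)) := by
    rw [map_pow, IsScalarTower.algebraMap_apply A R Q₀]
    exact (IsLocalization.Away.algebraMap_isUnit (algebraMap A R a₀)).pow n
  obtain ⟨u, hu'⟩ := hu
  have h1 : (u : Q₀) • ξ = 0 := by
    rw [hu', algebraMap_smul]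
    exact hξ
  have h2 : ((u⁻¹ : Q₀ˣ) : Q₀) • ((u : Q₀) • ξ) = ξ := by
    rw [smul_smul, Units.inv_mul, one_smul]
  rw [← h2, h1, smul_zero]

end LocTensor

namespace GlueData

variable {A : Type u} [CommRing A] {J : Ideal A} {R R' C 𝔖 Λ : Type u}
    [CommRing R] [CommRing R'] [CommRing C] [CommRing 𝔖] [CommRing Λ]
    [Algebra A R] [Algebra A R'] [Algebra R R'] [IsScalarTower A R R'] [Algebra A C] [Algebra A 𝔖]
    [Algebra A Λ] (D : GlueData A J R R' C 𝔖 Λ)

variable {ι : Type} [Finite ι] (a : ι → A)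
  (L : ι → Type u) [∀ l, CommRing (L l)] [∀ l, Algebra A (L l)]
  [∀ l, IsLocalization.Away (a l) (L l)] (ε : ∀ l, Λ →ₐ[A] L l)
  (h : IsNbhdAlong (R' := R') ((Ideal.span (Set.range a)).map (algebraMap A R)))
  [Module.Flat R R'] [Module.Flat A Λ] [Module.Flat A 𝔖] [Module.Flat A (C ⊗[A] Λ)]

/-- `star` for the glued algebra. -/
noncomputable def starB : R ⊗[A] J →ₗ[A] D.Bsub :=
  star D.hJ (D.piHom a L ε h) (D.piHom_surjective a L ε h) (D.ker_piHom a L ε h)

theorem rightComm_tmul_one (t : R ⊗[A] J) :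
    TensorProduct.rightComm A R J Λ (t ⊗ₜ[A] (1 : Λ)) = (inc Λ R).toLinearMap.rTensor J t := by
  induction t using TensorProduct.induction_on with
  | zero => simp
  | tmul r j => rfl
  | add t₁ t₂ h₁ h₂ => rw [add_tmul, map_add, h₁, h₂, map_add]

theorem toS_starB (t : R ⊗[A] J) :
    (D.starB a L ε h t).1.2 = D.psi1 (t ⊗ₜ[A] (1 : Λ)) := by
  have := star_nat D.hJ (D.piHom a L ε h) (D.piHom_surjective a L ε h) (D.ker_piHom a L ε h)
    D.pS D.hpS D.hkS D.toS.toLinearMap (inc Λ R).toLinearMap
    (fun b => (D.piHom_spec a L ε h b).2.symm) t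
  rw [psi1, LinearMap.comp_apply, LinearEquiv.coe_coe, rightComm_tmul_one]
  exact this

include ε h in
theorem torsion_of_starB_eq_zero (t : R ⊗[A] J) (ht : D.starB a L ε h t = 0) (a₀ : A)
    (ha₀ : a₀ ∈ Ideal.span (Set.range a)) : ∃ m : ℕ, a₀ ^ m • t = 0 := by
  have h1 : D.psi1 (t ⊗ₜ[A] (1 : Λ)) = 0 := by
    rw [← D.toS_starB a L ε h, ht]; rfl
  have h2 : t ⊗ₜ[A] (1 : Λ) = 0 := D.psi1_injective (by rw [h1, map_zero])
  obtain ⟨m, hm⟩ := tors0 R Λ (R ⊗[A] J) a L ε t h2
  refine ⟨m, ?_⟩
  have := hm (algebraMap A R (a₀ ^ m)) (by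
    rw [map_pow]
    exact Ideal.pow_mem_pow (Ideal.mem_map_of_mem _ ha₀) m)
  rwa [algebraMap_smul] at this

variable {A₀ : Type u} [CommRing A₀] [Algebra A A₀] [Algebra A₀ R] [IsScalarTower A A₀ R]

include ε h in
theorem etale_away (hA₀ : Function.Surjective (algebraMap A A₀))
    (hkA₀ : RingHom.ker (algebraMap A A₀) = J) [IsNoetherianRing A]
    (hBft : Algebra.FiniteType A D.Bsub) (a₀ : A) (ha₀ : a₀ ∈ Ideal.span (Set.range a))
    (hR : Algebra.Etale A₀ (Localization.Away (algebraMap A R a₀))) :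
    Algebra.Etale A (Localization.Away (algebraMap A D.Bsub a₀)) := by
  set x : D.Bsub := algebraMap A D.Bsub a₀ with hx
  set π := D.piHom a L ε h with hπdef
  have hπ : Function.Surjective π := D.piHom_surjective a L ε h
  have hπx : π x = algebraMap A R a₀ := AlgHom.commutes _ _
  haveI : IsLocalization.Away (π x) (Localization.Away (algebraMap A R a₀)) := by
    rw [hπx]; infer_instance
  set φ := locMap π x (Localization.Away x) (Localization.Away (algebraMap A R a₀)) with hφ
  have hφs : Function.Surjective φ := locMap_surjective π hπ x _ _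
  have hφk : RingHom.ker (φ : Localization.Away x →+* Localization.Away (algebraMap A R a₀)) =
      J.map (algebraMap A (Localization.Away x)) := by
    rw [hφ, locMap_ker π hπ x, hπdef, D.ker_piHom a L ε h, Ideal.map_map,
      ← IsScalarTower.algebraMap_eq]
  -- injectivity of `star` for the localization
  have hstar : Function.Injective (star D.hJ φ hφs hφk) := by
    rw [injective_iff_map_eq_zero]
    intro ξ hξ
    obtain ⟨n, t, hnt⟩ := exists_pow_smul_eq_rTensor (J := J) (R := R) a₀
      (Localization.Away (algebraMap A R a₀)) ξ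
    have h1 := star_nat D.hJ π hπ (D.ker_piHom a L ε h) φ hφs hφk
      (IsScalarTower.toAlgHom A D.Bsub (Localization.Away x)).toLinearMap
      (IsScalarTower.toAlgHom A R (Localization.Away (algebraMap A R a₀))).toLinearMap
      (fun b => locMap_algebraMap π x _ _ b) t
    rw [← hnt, map_smul, hξ, smul_zero] at h1
    have h2 : algebraMap D.Bsub (Localization.Away x) (D.starB a L ε h t) = 0 := h1
    rw [IsLocalization.map_eq_zero_iff (Submonoid.powers x)] at h2
    obtain ⟨m, hm⟩ := h2
    obtain ⟨k, hk⟩ := m.2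
    have hk' : x ^ k = (m : D.Bsub) := hk
    have h3 : D.starB a L ε h (a₀ ^ k • t) = 0 := by
      rw [map_smul, Algebra.smul_def, map_pow, ← hx, hk']
      exact hm
    obtain ⟨m', hm'⟩ := D.torsion_of_starB_eq_zero a L ε h _ h3 a₀ ha₀
    apply eq_zero_of_pow_smul_eq_zero (R := R) a₀ (Localization.Away (algebraMap A R a₀))
      inferInstance ξ
      (m' + k + n)
    rw [pow_add, mul_smul, hnt, ← map_smul, pow_add, mul_smul, hm', map_zero]
  have hinj : Function.Injective (J.subtype.rTensor (Localization.Away x)) :=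
    (LinearMap.lTensor_inj_iff_rTensor_inj _ _).mp
      (lTensor_subtype_injective_of_star_injective D.hJ φ hφs hφk hstar)
  letI : Algebra (Localization.Away x) (Localization.Away (algebraMap A R a₀)) :=
    φ.toRingHom.toAlgebra
  haveI : IsScalarTower A (Localization.Away x) (Localization.Away (algebraMap A R a₀)) :=
    IsScalarTower.of_algebraMap_eq (fun r => (φ.commutes r).symm)
  have hJ2 : J ^ 2 = ⊥ := by rw [pow_two, D.sq_zero]
  haveI : Module.Flat A₀ (Localization.Away (algebraMap A R a₀)) := inferInstance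
  haveI : Module.Flat A (Localization.Away x) :=
    flat_rel (P := A) (Q := Localization.Away x) (P₀ := A₀)
      (Q₀ := Localization.Away (algebraMap A R a₀)) J ⟨2, hJ2⟩ hA₀ hkA₀ hφs hφk hinj
  haveI : Algebra.FormallyUnramified A A₀ :=
    Algebra.FormallyUnramified.of_surjective (Algebra.ofId A A₀) hA₀
  haveI : Algebra.FormallyUnramified A (Localization.Away (algebraMap A R a₀)) :=
    Algebra.FormallyUnramified.comp A A₀ _
  haveI : Algebra.FormallyUnramified A (Localization.Away x) := by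
    refine unram_rel (P := A) (Q := Localization.Away x)
      (Q₀ := Localization.Away (algebraMap A R a₀)) J 2 ?_ hφs hφk
    rw [← Ideal.map_pow, hJ2, Ideal.map_bot]
  haveI : Algebra.FinitePresentation D.Bsub (Localization.Away x) :=
    IsLocalization.Away.finitePresentation x
  haveI : Algebra.FiniteType A (Localization.Away x) :=
    Algebra.FiniteType.trans hBft inferInstance
  haveI : Algebra.FinitePresentation A (Localization.Away x) :=
    Algebra.FinitePresentation.of_finiteType.mp inferInstance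
  exact Algebra.Etale.of_formallyUnramified_of_flat

end GlueData

end Groth.Agent.Lib.Helper15.EtGlue
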