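import Mathlib

/-!
# The cover `Λ = ∏ A_{a_l}` (helper15)
-/

set_option autoImplicit false
set_option linter.style.haveILetI false
set_option linter.unusedSectionVars false
set_option linter.style.longLine false

universe u

namespace Groth.Agent.Lib.Helper15.EtGlue

open TensorProduct

section Lam

variable {A : Type u} [CommRing A] {ι : Type} [Fintype ι] [DecidableEq ι] (a : ι → A)

theorem etale_tensor_Lam (K : Type u) (E : Type u) [CommRing K] [CommRing E] [Algebra A K]
    [Algebra A E] [Algebra K E] [IsScalarTower A K E]
    (h : ∀ l, Algebra.Etale K (Localization.Away (algebraMap A E (a l)))) :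
    Algebra.Etale K (E ⊗[A] (Π l, Localization.Away (a l))) := by
  have h1 : ∀ l, Algebra.Etale K (E ⊗[A] Localization.Away (a l)) := by
    intro l
    haveI := h l
    exact Algebra.Etale.of_equiv
      ((IsLocalization.Away.tensorEquiv E (r := a l)
        (A := Localization.Away (a l))).symm.restrictScalars K)
  exact Algebra.Etale.of_equiv
    (Algebra.TensorProduct.piRight A K E (fun l => Localization.Away (a l))).symm

instance flat_Lam : Module.Flat A (Π l, Localization.Away (a l)) := by
  haveI : Algebra.Etale A (Π l, Localization.Away (a l)) := inferInstance
  infer_instance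

end Lam

end Groth.Agent.Lib.Helper15.EtGlue
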