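import Mathlib
import Groth.Agent.Lib.Helper7.NilLift7
import Groth.Agent.Lib.Helper15.EtGlue9
import Groth.Agent.Lib.Helper15.EtGlue18

/-!
# Square-zero gluing: construction of the gluing data (helper15)
-/

set_option autoImplicit false
set_option linter.style.haveILetI false
set_option linter.unusedSectionVars false
set_option linter.style.longLine false
set_option maxSynthPendingDepth 3

universe u

namespace Groth.Agent.Lib.Helper15.EtGlue

open TensorProduct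

section Faces

variable {A : Type*} [CommRing A] (Λ : Type*) [CommRing Λ] [Algebra A Λ]
  {E F G : Type*} [CommRing E] [CommRing F] [CommRing G] [Algebra A E] [Algebra A F] [Algebra A G]

theorem pT_comp (g : F →ₐ[A] G) (f : E →ₐ[A] F) : pT (g.comp f) Λ = (pT g Λ).comp (pT f Λ) := by
  have := Algebra.TensorProduct.map_comp g f (AlgHom.id A Λ) (AlgHom.id A Λ)
  rw [AlgHom.comp_id] at this
  exact this

theorem pT_comp_apply (g : F →ₐ[A] G) (f : E →ₐ[A] F) (z : E ⊗[A] Λ) :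
    pT (g.comp f) Λ z = pT g Λ (pT f Λ z) := by
  rw [pT_comp]; rfl

variable (E) in
theorem face_id (z : E ⊗[A] Λ) :
    pT (pT (inc Λ E) Λ) Λ (pT (inc Λ E) Λ z) = pT (inc Λ (E ⊗[A] Λ)) Λ (pT (inc Λ E) Λ z) := by
  induction z using TensorProduct.induction_on with
  | zero => simp
  | tmul e x => rfl
  | add z₁ z₂ h₁ h₂ => rw [map_add, map_add, map_add, h₁, h₂]

end Faces

section Lift

variable {A : Type u} [CommRing A] {J : Ideal A} (hJ : ∀ x ∈ J, ∀ y ∈ J, x * y = 0)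
  {E E₀ : Type u} [CommRing E] [CommRing E₀] [Algebra A E] [Algebra A E₀]
  (p : E →ₐ[A] E₀) (hp : Function.Surjective p)
  (hker : RingHom.ker (p : E →+* E₀) = J.map (algebraMap A E))

include hJ hker in
theorem isNilpotent_ker : IsNilpotent (RingHom.ker (p : E →+* E₀)) := by
  refine ⟨2, ?_⟩
  rw [hker, ← Ideal.map_pow, pow_two]
  have : J * J = ⊥ := by
    rw [eq_bot_iff, Ideal.mul_le]
    intro x hx y hy
    rw [hJ x hx y hy]
    exact Ideal.zero_mem _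
  rw [this, Ideal.map_bot]
  rfl

end Lift


section SZ

attribute [local instance] GlueData.algBC

/-- The square-zero step. -/
theorem sz_step (A : Type u) [CommRing A] [IsNoetherianRing A] (I J : Ideal A)
    (hJ : ∀ x ∈ J, ∀ y ∈ J, x * y = 0)
    (A₀ : Type u) [CommRing A₀] [Algebra A A₀] (hA₀ : Function.Surjective (algebraMap A A₀))
    (hkA₀ : RingHom.ker (algebraMap A A₀) = J)
    (C : Type u) [CommRing C] [Algebra A C] [Algebra.FiniteType A C]
    (hC : ∀ a ∈ I, Algebra.Etale A (Localization.Away (algebraMap A C a)))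
    (B₀ : Type u) [CommRing B₀] [Algebra A B₀] [Algebra A₀ B₀] [IsScalarTower A A₀ B₀]
    [Algebra.FiniteType A₀ B₀]
    (hB₀ : ∀ a ∈ I, Algebra.Etale A₀ (Localization.Away (algebraMap A B₀ a)))
    (C₀ : Type u) [CommRing C₀] [Algebra A C₀] [Algebra C C₀] [IsScalarTower A C C₀]
    (hC₀ : Function.Surjective (algebraMap C C₀))
    (hkC₀ : RingHom.ker (algebraMap C C₀) = J.map (algebraMap A C))
    [Algebra B₀ C₀] [IsScalarTower A B₀ C₀] [Algebra.Etale B₀ C₀]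
    (h3 : IsNbhdAlong (R := B₀) (R' := C₀) (I.map (algebraMap A B₀))) :
    ∃ (B : Type u) (_ : CommRing B) (_ : Algebra A B) (_ : Algebra B C) (_ : IsScalarTower A B C)
      (_ : Algebra B B₀) (_ : IsScalarTower A B B₀),
      Algebra.FiniteType A B ∧ Algebra.Etale B C ∧
      (∀ a ∈ I, Algebra.Etale A (Localization.Away (algebraMap A B a))) ∧
      Function.Surjective (algebraMap B B₀) ∧
      RingHom.ker (algebraMap B B₀) = J.map (algebraMap A B) ∧
      (∀ b : B, algebraMap B₀ C₀ (algebraMap B B₀ b) = algebraMap C C₀ (algebraMap B C b)) ∧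
      IsNbhdAlong (R := B) (R' := C) (I.map (algebraMap A B)) := by
  classical
  -- generators of `I`
  obtain ⟨s, hs⟩ : I.FG := (isNoetherianRing_iff_ideal_fg A).mp inferInstance I
  let a : Fin s.card → A := fun i => (s.equivFin.symm i : A)
  have hrange : Set.range a = (s : Set A) := by
    ext x
    constructor
    · rintro ⟨i, rfl⟩
      exact (s.equivFin.symm i).2
    · intro hx
      exact ⟨s.equivFin ⟨x, hx⟩, by simp [a]⟩
  have hI : Ideal.span (Set.range a) = I := by rw [hrange]; exact hs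
  have haI : ∀ l, a l ∈ I := fun l => by
    rw [← hI]; exact Ideal.subset_span ⟨l, rfl⟩
  -- the cover
  let Λ : Type u := Π l : Fin s.card, Localization.Away (a l)
  let L : Fin s.card → Type u := fun l => Localization.Away (a l)
  let ε : ∀ l, Λ →ₐ[A] L l := fun l => Pi.evalAlgHom A (fun l => Localization.Away (a l)) l
  haveI : Module.Flat A Λ := flat_Lam a
  -- étale algebras
  haveI hS₁ : Algebra.Etale A₀ (B₀ ⊗[A] Λ) := etale_tensor_Lam a A₀ B₀ (fun l => hB₀ _ (haI l))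
  haveI hCΛ : Algebra.Etale A (C ⊗[A] Λ) := etale_tensor_Lam a A C (fun l => hC _ (haI l))
  haveI : Module.Flat A (C ⊗[A] Λ) := inferInstance
  obtain ⟨𝔖, _, _, h𝔖et, ψ, hψs, hψk⟩ :=
    Groth.Agent.Lib.Helper7.NilLift.exists_etale_lift' (R₀ := A) (R₁ := A₀) (Q := B₀ ⊗[A] Λ) hA₀
  rw [hkA₀] at hψk
  haveI : Module.Flat A 𝔖 := inferInstance
  haveI : Module.Flat B₀ C₀ := inferInstance
  -- the maps
  let pC : C →ₐ[A] C₀ := IsScalarTower.toAlgHom A C C₀
  have hpC : Function.Surjective pC := hC₀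
  have hkC : RingHom.ker (pC : C →+* C₀) = J.map (algebraMap A C) := hkC₀
  let q : B₀ →ₐ[A] C₀ := IsScalarTower.toAlgHom A B₀ C₀
  have nilS := isNilpotent_ker hJ (pT ψ Λ) (pT_ker ψ hψs hψk Λ)
  have nilC := isNilpotent_ker hJ (pT pC Λ) (pT_ker pC hpC hkC Λ)
  let σ : 𝔖 →ₐ[A] 𝔖 ⊗[A] Λ := Algebra.FormallySmooth.liftOfSurjective
    ((pT (inc Λ B₀) Λ).comp ψ) (pT ψ Λ) (pT_surjective ψ hψs Λ) nilS
  let β : 𝔖 →ₐ[A] C ⊗[A] Λ := Algebra.FormallySmooth.liftOfSurjective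
    ((pT q Λ).comp ψ) (pT pC Λ) (pT_surjective pC hpC Λ) nilC
  have hσ : ∀ s, pT ψ Λ (σ s) = pT (inc Λ B₀) Λ (ψ s) := fun s =>
    Algebra.FormallySmooth.liftOfSurjective_apply _ _ _ _ s
  have hβ : ∀ s, pT pC Λ (β s) = pT q Λ (ψ s) := fun s =>
    Algebra.FormallySmooth.liftOfSurjective_apply _ _ _ _ s
  have nilS2 := isNilpotent_ker hJ (pT (pT ψ Λ) Λ)
    (pT_ker (pT ψ Λ) (pT_surjective ψ hψs Λ) (pT_ker ψ hψs hψk Λ) Λ)
  have nilC2 := isNilpotent_ker hJ (pT (pT pC Λ) Λ)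
    (pT_ker (pT pC Λ) (pT_surjective pC hpC Λ) (pT_ker pC hpC hkC Λ) Λ)
  have hσσ : ∀ s, pT σ Λ (σ s) = pT (inc Λ 𝔖) Λ (σ s) := by
    have := Algebra.FormallyUnramified.ext' (R := A) (A := 𝔖)
      ((pT (pT ψ Λ) Λ : (𝔖 ⊗[A] Λ) ⊗[A] Λ →ₐ[A] ((B₀ ⊗[A] Λ) ⊗[A] Λ) ⊗[A] Λ) :
        (𝔖 ⊗[A] Λ) ⊗[A] Λ →+* ((B₀ ⊗[A] Λ) ⊗[A] Λ) ⊗[A] Λ) nilS2
      ((pT σ Λ).comp σ) ((pT (inc Λ 𝔖) Λ).comp σ) (fun s => by
        show pT (pT ψ Λ) Λ (pT σ Λ (σ s)) = pT (pT ψ Λ) Λ (pT (inc Λ 𝔖) Λ (σ s))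
        rw [← pT_comp_apply, pT_pT_inc, hσ]
        have e : (pT ψ Λ).comp σ = (pT (inc Λ B₀) Λ).comp ψ := AlgHom.ext hσ
        rw [e, pT_comp_apply, hσ, face_id])
    exact fun s => AlgHom.congr_fun this s
  have hβσ : ∀ s, pT β Λ (σ s) = pT (inc Λ C) Λ (β s) := by
    have := Algebra.FormallyUnramified.ext' (R := A) (A := 𝔖)
      ((pT (pT pC Λ) Λ : (C ⊗[A] Λ) ⊗[A] Λ →ₐ[A] (C₀ ⊗[A] Λ) ⊗[A] Λ) :
        (C ⊗[A] Λ) ⊗[A] Λ →+* (C₀ ⊗[A] Λ) ⊗[A] Λ) nilC2
      ((pT β Λ).comp σ) ((pT (inc Λ C) Λ).comp β) (fun s => by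
        show pT (pT pC Λ) Λ (pT β Λ (σ s)) = pT (pT pC Λ) Λ (pT (inc Λ C) Λ (β s))
        rw [← pT_comp_apply, pT_pT_inc, hβ]
        have e : (pT pC Λ).comp β = (pT q Λ).comp ψ := AlgHom.ext hβ
        rw [e, pT_comp_apply, hσ, pT_pT_inc])
    exact fun s => AlgHom.congr_fun this s
  let D : GlueData A J B₀ C₀ C 𝔖 Λ :=
    { hJ := hJ, pC := pC, hpC := hpC, hkC := hkC, pS := ψ, hpS := hψs, hkS := hψk,
      σ := σ, β := β, hσ := hσ, hβ := hβ, hσσ := hσσ, hβσ := hβσ }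
  have h : IsNbhdAlong (R := B₀) (R' := C₀)
      ((Ideal.span (Set.range a)).map (algebraMap A B₀)) := by rw [hI]; exact h3
  haveI : Algebra.FiniteType A A₀ := Algebra.FiniteType.of_surjective (Algebra.ofId A A₀) hA₀
  haveI : Algebra.FiniteType A B₀ := Algebra.FiniteType.trans (S := A₀) inferInstance inferInstance
  have hBft : Algebra.FiniteType A D.Bsub := D.finiteType_B a L ε h
  refine ⟨D.Bsub, inferInstance, inferInstance, D.algBC, D.towerABC,
    (D.piHom a L ε h).toRingHom.toAlgebra,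
    @IsScalarTower.of_algebraMap_eq A D.Bsub B₀ _ _ _ _ (D.piHom a L ε h).toRingHom.toAlgebra _
      (fun x => ((D.piHom a L ε h).commutes x).symm), hBft, D.etale_BC a L ε h hBft, ?_,
    D.piHom_surjective a L ε h, D.ker_piHom a L ε h, fun b => (D.piHom_spec a L ε h b).1, ?_⟩
  · intro a₀ ha₀
    exact D.etale_away a L ε h hA₀ hkA₀ hBft a₀ (by rw [hI]; exact ha₀) (hB₀ a₀ ha₀)
  · have := D.isNbhdAlong_BC a L ε h
    rw [hI] at this
    exact this

end SZ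

end Groth.Agent.Lib.Helper15.EtGlue
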