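import Mathlib

/-!
# Transport of hypotheses to a quotient of the base (helper15)
-/

set_option autoImplicit false
set_option linter.style.haveILetI false
set_option linter.unusedSectionVars false
set_option linter.style.longLine false

universe u

namespace Groth.Agent.Lib.Helper15.EtGlue

open TensorProduct

section TowerQuot

variable {A : Type*} [CommRing A] (K : Ideal A) {X Y : Type*} [CommRing X] [CommRing Y]
  [Algebra A X] [Algebra A Y] [Algebra (A ⧸ K) X] [Algebra (A ⧸ K) Y]
  [IsScalarTower A (A ⧸ K) X] [IsScalarTower A (A ⧸ K) Y] [Algebra X Y] [IsScalarTower A X Y]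

theorem tower_of_quot : IsScalarTower (A ⧸ K) X Y := by
  apply IsScalarTower.of_algebraMap_eq
  intro x'
  obtain ⟨a, rfl⟩ := Ideal.Quotient.mk_surjective x'
  have h1 : algebraMap (A ⧸ K) Y (Ideal.Quotient.mk K a) = algebraMap A Y a :=
    (IsScalarTower.algebraMap_apply A (A ⧸ K) Y a).symm
  have h2 : algebraMap (A ⧸ K) X (Ideal.Quotient.mk K a) = algebraMap A X a :=
    (IsScalarTower.algebraMap_apply A (A ⧸ K) X a).symm
  rw [h1, h2, ← IsScalarTower.algebraMap_apply]

end TowerQuot

section EtaleQuot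

variable (A : Type u) [CommRing A] (K : Ideal A) (C : Type u) [CommRing C] [Algebra A C] (a : A)

theorem etale_away_quot [Algebra.Etale A (Localization.Away (algebraMap A C a))] :
    Algebra.Etale (A ⧸ K) (Localization.Away
      (algebraMap (A ⧸ K) (C ⧸ K.map (algebraMap A C)) (Ideal.Quotient.mk K a))) := by
  set E := Localization.Away (algebraMap A C a) with hE
  set K_C := K.map (algebraMap A C) with hKC
  set x' : C ⧸ K_C := algebraMap (A ⧸ K) (C ⧸ K_C) (Ideal.Quotient.mk K a) with hx'
  have hx'' : x' = algebraMap C (C ⧸ K_C) (algebraMap A C a) := rfl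
  -- `E / K E` is étale over `A / K`
  haveI h1 : Algebra.Etale (A ⧸ K) (E ⧸ K.map (algebraMap A E)) :=
    Algebra.Etale.of_equiv (Algebra.TensorProduct.quotIdealMapEquivQuotTensor E K).symm
  -- the quotient `E' = E / K_C E`
  let E' := E ⧸ K_C.map (algebraMap C E)
  letI : Algebra (A ⧸ K) E' := ((algebraMap (C ⧸ K_C) E').comp (algebraMap (A ⧸ K) (C ⧸ K_C))).toAlgebra
  haveI : IsScalarTower (A ⧸ K) (C ⧸ K_C) E' := IsScalarTower.of_algebraMap_eq (fun _ => rfl)
  have hideal : K.map (algebraMap A E) = K_C.map (algebraMap C E) := by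
    rw [hKC, Ideal.map_map, ← IsScalarTower.algebraMap_eq]
  let e₀ : (E ⧸ K.map (algebraMap A E)) ≃+* E' := Ideal.quotEquivOfEq hideal
  let e : (E ⧸ K.map (algebraMap A E)) ≃ₐ[A ⧸ K] E' := AlgEquiv.ofRingEquiv (f := e₀) (by
    intro y
    obtain ⟨r, rfl⟩ := Ideal.Quotient.mk_surjective y
    show e₀ (Ideal.Quotient.mk _ (algebraMap A E r)) = Ideal.Quotient.mk _ (algebraMap C E (algebraMap A C r))
    rw [← IsScalarTower.algebraMap_apply]
    rfl)
  haveI h2 : Algebra.Etale (A ⧸ K) E' := Algebra.Etale.of_equiv e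
  -- `E'` is the localization of `C / K_C` at `x'`
  haveI h3 : IsLocalization.Away x' E' := by
    have : IsLocalization (Algebra.algebraMapSubmonoid (C ⧸ K_C)
        (Submonoid.powers (algebraMap A C a))) E' := inferInstance
    rw [Algebra.algebraMapSubmonoid_powers] at this
    exact this
  let e₁ : Localization.Away x' ≃ₐ[C ⧸ K_C] E' :=
    IsLocalization.algEquiv (Submonoid.powers x') _ _
  exact Algebra.Etale.of_equiv (e₁.symm.restrictScalars (A ⧸ K))

end EtaleQuot

end Groth.Agent.Lib.Helper15.EtGlue
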