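import Mathlib
import Groth.Agent.Lib.Helper15.EtGlue19
import Groth.Agent.Lib.Helper15.EtGlue20

/-!
# Nilpotent gluing by induction on the order of nilpotency (helper15)
-/

set_option autoImplicit false
set_option linter.style.haveILetI false
set_option linter.unusedSectionVars false
set_option linter.style.longLine false

universe u

namespace Groth.Agent.Lib.Helper15.EtGlue

open TensorProduct

/-- The nilpotent gluing theorem, relative form. -/
theorem glue_rel (n : ℕ) : ∀ (A : Type u) [CommRing A] [IsNoetherianRing A] (I J : Ideal A)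
    (_ : J ^ n = ⊥)
    (A₀ : Type u) [CommRing A₀] [Algebra A A₀] (_ : Function.Surjective (algebraMap A A₀))
    (_ : RingHom.ker (algebraMap A A₀) = J)
    (C : Type u) [CommRing C] [Algebra A C] [Algebra.FiniteType A C]
    (_ : ∀ a ∈ I, Algebra.Etale A (Localization.Away (algebraMap A C a)))
    (B₀ : Type u) [CommRing B₀] [Algebra A B₀] [Algebra A₀ B₀] [IsScalarTower A A₀ B₀]
    [Algebra.FiniteType A₀ B₀]
    (_ : ∀ a ∈ I, Algebra.Etale A₀ (Localization.Away (algebraMap A B₀ a)))
    (C₀ : Type u) [CommRing C₀] [Algebra A C₀] [Algebra C C₀] [IsScalarTower A C C₀]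
    (_ : Function.Surjective (algebraMap C C₀))
    (_ : RingHom.ker (algebraMap C C₀) = J.map (algebraMap A C))
    [Algebra B₀ C₀] [IsScalarTower A B₀ C₀] [Algebra.Etale B₀ C₀]
    (_ : IsNbhdAlong (R := B₀) (R' := C₀) (I.map (algebraMap A B₀))),
    ∃ (B : Type u) (_ : CommRing B) (_ : Algebra A B) (_ : Algebra B C) (_ : IsScalarTower A B C)
      (_ : Algebra B B₀) (_ : IsScalarTower A B B₀),
      Algebra.FiniteType A B ∧ Algebra.Etale B C ∧
      (∀ a ∈ I, Algebra.Etale A (Localization.Away (algebraMap A B a))) ∧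
      Function.Surjective (algebraMap B B₀) ∧
      RingHom.ker (algebraMap B B₀) = J.map (algebraMap A B) ∧
      (∀ b : B, algebraMap B₀ C₀ (algebraMap B B₀ b) = algebraMap C C₀ (algebraMap B C b)) ∧
      IsNbhdAlong (R := B) (R' := C) (I.map (algebraMap A B)) := by
  induction n with
  | zero =>
    intro A _ _ I J hJn A₀ _ _ hA₀ hkA₀ C _ _ _ hC B₀ _ _ _ _ _ hB₀ C₀ _ _ _ _ hC₀ hkC₀ _ _ _ h3
    have h1 : (1 : A) ∈ (⊥ : Ideal A) := by rw [← hJn, pow_zero, Ideal.one_eq_top]; trivial
    have h10 : (1 : A) = 0 := h1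
    have hJ : ∀ x ∈ J, ∀ y ∈ J, x * y = 0 := fun x _ y _ => by
      rw [← mul_one (x * y), h10, mul_zero]
    exact sz_step A I J hJ A₀ hA₀ hkA₀ C hC B₀ hB₀ C₀ hC₀ hkC₀ h3
  | succ n ih =>
    intro A _ _ I J hJn A₀ _ _ hA₀ hkA₀ C _ _ _ hC B₀ _ _ _ _ _ hB₀ C₀ _ _ _ _ hC₀ hkC₀ _ _ _ h3
    by_cases hn : n ≤ 1
    · have hJ2 : J ^ 2 = ⊥ := by
        rw [eq_bot_iff, ← hJn]
        exact Ideal.pow_le_pow_right (by omega)
      have hJ : ∀ x ∈ J, ∀ y ∈ J, x * y = 0 := fun x hx y hy => by
        have : x * y ∈ J ^ 2 := by rw [pow_two]; exact Ideal.mul_mem_mul hx hy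
        rw [hJ2] at this
        exact this
      exact sz_step A I J hJ A₀ hA₀ hkA₀ C hC B₀ hB₀ C₀ hC₀ hkC₀ h3
    · push Not at hn
      -- the square-zero ideal `K = J ^ n`
      set K : Ideal A := J ^ n with hK
      have hKJ : K ≤ J := Ideal.pow_le_self (by omega)
      have hKK : ∀ x ∈ K, ∀ y ∈ K, x * y = 0 := fun x hx y hy => by
        have : x * y ∈ J ^ (n + 1) := by
          have h1 : x * y ∈ K * K := Ideal.mul_mem_mul hx hy
          rw [hK, ← pow_add] at h1
          exact Ideal.pow_le_pow_right (by omega) h1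
        rw [hJn] at this
        exact this
      set mkA := Ideal.Quotient.mk K with hmkA
      have hmkA_surj : Function.Surjective mkA := Ideal.Quotient.mk_surjective
      have hJ'n : (J.map mkA) ^ n = ⊥ := by
        rw [← Ideal.map_pow, ← hK, hmkA, Ideal.map_quotient_self]
      -- `A₀` over `A / K`
      have hK₀ : ∀ k ∈ K, algebraMap A A₀ k = 0 := fun k hk => by
        have : k ∈ RingHom.ker (algebraMap A A₀) := by rw [hkA₀]; exact hKJ hk
        exact this
      letI : Algebra (A ⧸ K) A₀ := (Ideal.Quotient.lift K (algebraMap A A₀) hK₀).toAlgebra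
      haveI : IsScalarTower A (A ⧸ K) A₀ := IsScalarTower.of_algebraMap_eq (fun _ => rfl)
      have hA₀' : Function.Surjective (algebraMap (A ⧸ K) A₀) :=
        Ideal.Quotient.lift_surjective_of_surjective K hK₀ hA₀
      have hkA₀' : RingHom.ker (algebraMap (A ⧸ K) A₀) = J.map mkA := by
        show RingHom.ker (Ideal.Quotient.lift K (algebraMap A A₀) hK₀) = _
        rw [Ideal.ker_quotient_lift, hkA₀]
      -- `C' = C / K C`
      haveI : IsScalarTower A (A ⧸ K) (C ⧸ K.map (algebraMap A C)) :=
        IsScalarTower.of_algebraMap_eq (fun _ => rfl)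
      haveI : Algebra.FiniteType A (C ⧸ K.map (algebraMap A C)) :=
        Algebra.FiniteType.of_surjective (Ideal.Quotient.mkₐ A _) Ideal.Quotient.mk_surjective
      haveI : Algebra.FiniteType (A ⧸ K) (C ⧸ K.map (algebraMap A C)) :=
        Algebra.FiniteType.of_restrictScalars_finiteType A (A ⧸ K) _
      have hC' : ∀ a' ∈ I.map mkA, Algebra.Etale (A ⧸ K) (Localization.Away
          (algebraMap (A ⧸ K) (C ⧸ K.map (algebraMap A C)) a')) := by
        intro a' ha'
        obtain ⟨a, ha, rfl⟩ := (Ideal.mem_map_iff_of_surjective mkA hmkA_surj).mp ha'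
        haveI := hC a ha
        exact etale_away_quot A K C a
      -- `B₀` over `A / K`
      have hKB₀ : ∀ k ∈ K, algebraMap A B₀ k = 0 := fun k hk => by
        rw [IsScalarTower.algebraMap_apply A A₀ B₀, hK₀ k hk, map_zero]
      letI : Algebra (A ⧸ K) B₀ := (Ideal.Quotient.lift K (algebraMap A B₀) hKB₀).toAlgebra
      haveI : IsScalarTower A (A ⧸ K) B₀ := IsScalarTower.of_algebraMap_eq (fun _ => rfl)
      haveI : IsScalarTower (A ⧸ K) A₀ B₀ := tower_of_quot K
      have hB₀' : ∀ a' ∈ I.map mkA, Algebra.Etale A₀ (Localization.Away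
          (algebraMap (A ⧸ K) B₀ a')) := by
        intro a' ha'
        obtain ⟨a, ha, rfl⟩ := (Ideal.mem_map_iff_of_surjective mkA hmkA_surj).mp ha'
        exact hB₀ a ha
      -- `C₀` over `A / K` and `C'`
      have hKC_le : K.map (algebraMap A C) ≤ RingHom.ker (algebraMap C C₀) := by
        rw [hkC₀]; exact Ideal.map_mono hKJ
      have hKC₀ : ∀ k ∈ K, algebraMap A C₀ k = 0 := fun k hk => by
        rw [IsScalarTower.algebraMap_apply A C C₀]
        exact hKC_le (Ideal.mem_map_of_mem _ hk)
      letI : Algebra (A ⧸ K) C₀ := (Ideal.Quotient.lift K (algebraMap A C₀) hKC₀).toAlgebra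
      haveI : IsScalarTower A (A ⧸ K) C₀ := IsScalarTower.of_algebraMap_eq (fun _ => rfl)
      letI : Algebra (C ⧸ K.map (algebraMap A C)) C₀ :=
        (Ideal.Quotient.lift (K.map (algebraMap A C)) (algebraMap C C₀)
          (fun x hx => hKC_le hx)).toAlgebra
      haveI : IsScalarTower (A ⧸ K) (C ⧸ K.map (algebraMap A C)) C₀ := by
        apply IsScalarTower.of_algebraMap_eq
        intro x'
        obtain ⟨a, rfl⟩ := Ideal.Quotient.mk_surjective x'
        exact IsScalarTower.algebraMap_apply A C C₀ a
      have hC₀' : Function.Surjective (algebraMap (C ⧸ K.map (algebraMap A C)) C₀) :=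
        Ideal.Quotient.lift_surjective_of_surjective _ _ hC₀
      have hkC₀' : RingHom.ker (algebraMap (C ⧸ K.map (algebraMap A C)) C₀) =
          (J.map mkA).map (algebraMap (A ⧸ K) (C ⧸ K.map (algebraMap A C))) := by
        show RingHom.ker (Ideal.Quotient.lift _ (algebraMap C C₀) _) = _
        rw [Ideal.ker_quotient_lift, hkC₀, Ideal.map_map, Ideal.map_map]
        rfl
      haveI : IsScalarTower (A ⧸ K) B₀ C₀ := tower_of_quot K
      have h3' : IsNbhdAlong (R := B₀) (R' := C₀) ((I.map mkA).map (algebraMap (A ⧸ K) B₀)) := by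
        have : (I.map mkA).map (algebraMap (A ⧸ K) B₀) = I.map (algebraMap A B₀) := by
          rw [Ideal.map_map]; rfl
        rw [this]; exact h3
      -- the induction hypothesis
      obtain ⟨B', _, _, _, _, _, _, hft', het', haw', hsurj', hker', hcomp', hnb'⟩ :=
        ih (A ⧸ K) (I.map mkA) (J.map mkA) hJ'n A₀ hA₀' hkA₀' (C ⧸ K.map (algebraMap A C)) hC'
          B₀ hB₀' C₀ hC₀' hkC₀' h3'
      -- the square-zero step over `A`
      letI : Algebra A B' := ((algebraMap (A ⧸ K) B').comp mkA).toAlgebra
      haveI : IsScalarTower A (A ⧸ K) B' := IsScalarTower.of_algebraMap_eq (fun _ => rfl)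
      haveI : IsScalarTower A B' (C ⧸ K.map (algebraMap A C)) := by
        apply IsScalarTower.of_algebraMap_eq
        intro a
        exact IsScalarTower.algebraMap_apply (A ⧸ K) B' (C ⧸ K.map (algebraMap A C)) (mkA a)
      have hawB' : ∀ a ∈ I, Algebra.Etale (A ⧸ K) (Localization.Away (algebraMap A B' a)) :=
        fun a ha => haw' (mkA a) (Ideal.mem_map_of_mem _ ha)
      have hnbB' : IsNbhdAlong (R := B') (R' := C ⧸ K.map (algebraMap A C))
          (I.map (algebraMap A B')) := by
        have : I.map (algebraMap A B') = (I.map mkA).map (algebraMap (A ⧸ K) B') := by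
          rw [Ideal.map_map]; rfl
        rw [this]; exact hnb'
      obtain ⟨B, _, _, _, _, _, _, hft, het, haw, hsurj, hker, hcomp, hnb⟩ :=
        sz_step A I K hKK (A ⧸ K) hmkA_surj Ideal.mk_ker C hC B' hawB'
          (C ⧸ K.map (algebraMap A C)) Ideal.Quotient.mk_surjective Ideal.mk_ker hnbB'
      -- assemble
      letI algBB₀ : Algebra B B₀ := ((algebraMap B' B₀).comp (algebraMap B B')).toAlgebra
      haveI : IsScalarTower B B' B₀ := IsScalarTower.of_algebraMap_eq (fun _ => rfl)
      have tow : IsScalarTower A B B₀ := by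
        apply IsScalarTower.of_algebraMap_eq
        intro a
        show algebraMap A B₀ a = algebraMap B' B₀ (algebraMap B B' (algebraMap A B a))
        rw [← IsScalarTower.algebraMap_apply A B B', IsScalarTower.algebraMap_apply A (A ⧸ K) B',
          ← IsScalarTower.algebraMap_apply (A ⧸ K) B' B₀,
          ← IsScalarTower.algebraMap_apply A (A ⧸ K) B₀]
      refine ⟨B, inferInstance, inferInstance, inferInstance, inferInstance, algBB₀, tow, hft, het,
        haw, hsurj'.comp hsurj, ?_, ?_, hnb⟩
      · -- the kernel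
        apply le_antisymm
        · intro b hb
          have hb0 : algebraMap B' B₀ (algebraMap B B' b) = 0 := hb
          have h1 : algebraMap B B' b ∈ (J.map mkA).map (algebraMap (A ⧸ K) B') := by
            rw [← hker']; exact hb0
          have e1 : (J.map mkA).map (algebraMap (A ⧸ K) B') =
              (J.map (algebraMap A B)).map (algebraMap B B') := by
            rw [Ideal.map_map, Ideal.map_map, ← IsScalarTower.algebraMap_eq A B B']
            rfl
          rw [e1, Ideal.mem_map_iff_of_surjective _ hsurj] at h1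
          obtain ⟨y, hy, hy'⟩ := h1
          have h2 : b - y ∈ RingHom.ker (algebraMap B B') := by
            rw [RingHom.mem_ker, map_sub, hy', sub_self]
          rw [hker] at h2
          have h3 : b - y ∈ J.map (algebraMap A B) := Ideal.map_mono hKJ h2
          have e : b = y + (b - y) := by ring
          rw [e]
          exact Ideal.add_mem _ hy h3
        · rw [Ideal.map_le_iff_le_comap]
          intro j hj
          rw [Ideal.mem_comap, RingHom.mem_ker, ← IsScalarTower.algebraMap_apply A B B₀,
            IsScalarTower.algebraMap_apply A A₀ B₀]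
          have : algebraMap A A₀ j = 0 := by
            have : j ∈ RingHom.ker (algebraMap A A₀) := by rw [hkA₀]; exact hj
            exact this
          rw [this, map_zero]
      · intro b
        show algebraMap B₀ C₀ (algebraMap B' B₀ (algebraMap B B' b)) = _
        rw [hcomp', hcomp]
        rfl

end Groth.Agent.Lib.Helper15.EtGlue
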