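import Mathlib
import Groth.Agent.Lib.Helper15.EtGlue21

/-!
# Nilpotent gluing: the final statement (helper15)
-/

set_option autoImplicit false
set_option linter.style.haveILetI false
set_option linter.unusedSectionVars false
set_option linter.style.longLine false

universe u

namespace Groth.Agent.Lib.Helper15.EtGlue

open TensorProduct

theorem glue_final (A : Type u) [CommRing A] [IsNoetherianRing A] (I J : Ideal A)
    (hJ : IsNilpotent J) (C : Type u) [CommRing C] [Algebra A C] [Algebra.FiniteType A C]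
    (hC : ∀ a ∈ I, Algebra.Etale A (Localization.Away (algebraMap A C a)))
    (B₀ : Type u) [CommRing B₀] [Algebra A B₀] [Algebra (A ⧸ J) B₀] [IsScalarTower A (A ⧸ J) B₀]
    [Algebra.FiniteType (A ⧸ J) B₀]
    (hB₀ : ∀ a ∈ I, Algebra.Etale (A ⧸ J) (Localization.Away (algebraMap A B₀ a)))
    [Algebra B₀ (C ⧸ J.map (algebraMap A C))] [IsScalarTower A B₀ (C ⧸ J.map (algebraMap A C))]
    [Algebra.Etale B₀ (C ⧸ J.map (algebraMap A C))]
    (h3 : (∀ c : (C ⧸ J.map (algebraMap A C)), ∃ b : B₀,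
        algebraMap B₀ (C ⧸ J.map (algebraMap A C)) b - c ∈
          I.map (algebraMap A (C ⧸ J.map (algebraMap A C)))) ∧
      ∀ b : B₀, algebraMap B₀ (C ⧸ J.map (algebraMap A C)) b ∈
          I.map (algebraMap A (C ⧸ J.map (algebraMap A C))) → b ∈ I.map (algebraMap A B₀)) :
    ∃ (B : Type u) (_ : CommRing B) (_ : Algebra A B) (_ : Algebra B C) (_ : IsScalarTower A B C)
      (_ : Algebra B B₀) (_ : IsScalarTower A B B₀),
      Algebra.FiniteType A B ∧ Algebra.Etale B C ∧
      (∀ a ∈ I, Algebra.Etale A (Localization.Away (algebraMap A B a))) ∧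
      Function.Surjective (algebraMap B B₀) ∧
      RingHom.ker (algebraMap B B₀) = J.map (algebraMap A B) ∧
      ∀ b : B, algebraMap B₀ (C ⧸ J.map (algebraMap A C)) (algebraMap B B₀ b) =
        Ideal.Quotient.mk (J.map (algebraMap A C)) (algebraMap B C b) := by
  obtain ⟨n, hn⟩ := hJ
  have hJn : J ^ n = ⊥ := hn
  have e : (I.map (algebraMap A B₀)).map (algebraMap B₀ (C ⧸ J.map (algebraMap A C))) =
      I.map (algebraMap A (C ⧸ J.map (algebraMap A C))) := by
    rw [Ideal.map_map, ← IsScalarTower.algebraMap_eq]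
  have hnb : IsNbhdAlong (R := B₀) (R' := C ⧸ J.map (algebraMap A C))
      (I.map (algebraMap A B₀)) := by
    refine ⟨fun c => ?_, fun b hb => ?_⟩
    · obtain ⟨b, hb⟩ := h3.1 c
      refine ⟨b, ?_⟩
      rw [e]
      have := neg_mem hb
      rwa [neg_sub] at this
    · rw [e] at hb
      exact h3.2 b hb
  obtain ⟨B, i1, i2, i3, i4, i5, i6, hft, het, haw, hsurj, hker, hcomp, -⟩ :=
    glue_rel n A I J hJn (A ⧸ J) Ideal.Quotient.mk_surjective Ideal.mk_ker C hC B₀ hB₀
      (C ⧸ J.map (algebraMap A C)) Ideal.Quotient.mk_surjective Ideal.mk_ker hnb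
  exact ⟨B, i1, i2, i3, i4, i5, i6, hft, het, haw, hsurj, hker, fun b => hcomp b⟩

end Groth.Agent.Lib.Helper15.EtGlue
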