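import Mathlib

/-!
# Splitting finite étale free algebras over local rings by faithfully flat local extensions (helper15)
-/

set_option autoImplicit false
universe u
open scoped TensorProduct

namespace Groth.Agent.Lib.Helper15.EtaleSplit

section cons

/-- `R × R^d → R^(d+1)` -/
noncomputable def consAlgHom (R : Type u) [CommRing R] (d : ℕ) :
    (R × (Fin d → R)) →ₐ[R] (Fin (d + 1) → R) :=
  AlgHom.pi
    (fun i => Fin.cases (motive := fun _ => (R × (Fin d → R)) →ₐ[R] R) (AlgHom.fst R R (Fin d → R))
      (fun j => (Pi.evalAlgHom R (fun _ : Fin d => R) j).comp (AlgHom.snd R R (Fin d → R))) i)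

theorem consAlgHom_apply (R : Type u) [CommRing R] (d : ℕ) (x : R × (Fin d → R)) :
    consAlgHom R d x = Fin.cons x.1 x.2 := by
  funext i
  refine Fin.cases ?_ (fun j => ?_) i
  · simp [consAlgHom]
  · simp [consAlgHom]

/-- `R × R^d ≃ R^(d+1)` -/
noncomputable def consAlgEquiv (R : Type u) [CommRing R] (d : ℕ) :
    (R × (Fin d → R)) ≃ₐ[R] (Fin (d + 1) → R) :=
  AlgEquiv.ofBijective (consAlgHom R d) (by
    constructor
    · intro x y h
      rw [consAlgHom_apply, consAlgHom_apply] at h
      have h1 := Fin.cons_injective2 h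
      exact Prod.ext h1.1 h1.2
    · intro f
      refine ⟨(f 0, Fin.tail f), ?_⟩
      rw [consAlgHom_apply]
      exact Fin.cons_self_tail f)

end cons

section step

variable (S : Type u) [CommRing S] [IsLocalRing S] (B : Type u) [CommRing B] [Algebra S B]
  [Module.Free S B] [Module.Finite S B] [Algebra.Etale S B]

/-- local homomorphism `S → B_q` -/
theorem isLocalHom_of_maximal (q : Ideal B) [q.IsMaximal] (A₁ : Type u) [CommRing A₁] [Algebra B A₁]
    [IsLocalization.AtPrime A₁ q] [Algebra S A₁] [IsScalarTower S B A₁] :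
    IsLocalHom (algebraMap S A₁) := by
  constructor
  intro s hs
  rw [IsScalarTower.algebraMap_apply S B A₁, IsLocalization.AtPrime.isUnit_to_map_iff A₁ q] at hs
  have hmax : (q.comap (algebraMap S B)).IsMaximal :=
    Ideal.isMaximal_comap_of_isIntegral_of_isMaximal q
  have h2 := IsLocalRing.eq_maximalIdeal hmax
  have h3 : s ∉ IsLocalRing.maximalIdeal S := by
    rw [← h2]
    exact hs
  exact IsLocalRing.notMem_maximalIdeal.mp h3

end step

section factor

variable {B : Type u} [CommRing B] {P : Type u} [CommRing P] [Algebra B P]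
  {T : Type u} [CommRing T] [Algebra B T] (e₀ : P ≃ₐ[B] B × T)

include e₀ in
theorem finite_of_prod [Module.Finite B P] : Module.Finite B T :=
  Module.Finite.of_surjective ((LinearMap.snd B B T) ∘ₗ e₀.toLinearMap)
    ((LinearMap.snd_surjective (R := B) (M := B) (M₂ := T)).comp e₀.surjective)

include e₀ in
theorem projective_of_prod [Module.Projective B P] : Module.Projective B T :=
  Module.Projective.of_split (e₀.symm.toLinearMap ∘ₗ (LinearMap.inr B B T))
    ((LinearMap.snd B B T) ∘ₗ e₀.toLinearMap) (by
      ext t
      simp)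

include e₀ in
theorem etale_of_prod [Algebra.Etale B P] : Algebra.Etale B T := by
  have : Algebra.Etale B (B × T) := Algebra.Etale.of_equiv e₀
  let _ : Algebra (B × T) T := (RingHom.snd B T).toAlgebra
  have : IsScalarTower B (B × T) T := IsScalarTower.of_algebraMap_eq (fun b => rfl)
  exact Algebra.Etale.comp B (B × T) T

end factor

section main

variable (S : Type u) [CommRing S] [IsLocalRing S] (B : Type u) [CommRing B] [Algebra S B]
  [Module.Free S B] [Module.Finite S B] [Algebra.Etale S B]

theorem exists_split_one (d : ℕ) (h : Module.finrank S B = d + 1) :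
    ∃ (A₁ : Type u) (_ : CommRing A₁) (_ : IsLocalRing A₁) (_ : Algebra S A₁)
      (_ : Module.FaithfullyFlat S A₁)
      (T₁ : Type u) (_ : CommRing T₁) (_ : Algebra A₁ T₁) (_ : Module.Free A₁ T₁)
      (_ : Module.Finite A₁ T₁) (_ : Algebra.Etale A₁ T₁),
      Module.finrank A₁ T₁ = d ∧ Nonempty (A₁ ⊗[S] B ≃ₐ[A₁] A₁ × T₁) := by
  have : Nontrivial B := Module.nontrivial_of_finrank_pos (R := S) (by omega)
  obtain ⟨q, hq⟩ := Ideal.exists_maximal B
  obtain ⟨T, _, _, ⟨e₀⟩⟩ := Algebra.FormallyUnramified.exists_algEquiv_prod S B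
  have : Module.Flat S (Localization.AtPrime q) := Module.Flat.trans S B _
  have : IsLocalHom (algebraMap S (Localization.AtPrime q)) := isLocalHom_of_maximal S B q _
  have hff : Module.FaithfullyFlat S (Localization.AtPrime q) :=
    Module.FaithfullyFlat.of_flat_of_isLocalHom
  have : Module.Finite B T := finite_of_prod e₀
  have : Module.Projective B T := projective_of_prod e₀
  have : Algebra.Etale B T := etale_of_prod e₀
  have : Module.Free (Localization.AtPrime q) (Localization.AtPrime q ⊗[B] T) :=
    Module.free_of_flat_of_isLocalRing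
  let E : Localization.AtPrime q ⊗[S] B ≃ₐ[Localization.AtPrime q]
      Localization.AtPrime q × (Localization.AtPrime q ⊗[B] T) :=
    (Algebra.TensorProduct.cancelBaseChange S B (Localization.AtPrime q)
      (Localization.AtPrime q) B).symm.trans
      ((Algebra.TensorProduct.congr AlgEquiv.refl e₀).trans
        ((Algebra.TensorProduct.prodRight B (Localization.AtPrime q)
          (Localization.AtPrime q) B T).trans
          (AlgEquiv.prodCongr (Algebra.TensorProduct.rid B (Localization.AtPrime q)
            (Localization.AtPrime q)) AlgEquiv.refl)))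
  refine ⟨Localization.AtPrime q, inferInstance, inferInstance, inferInstance, hff,
    Localization.AtPrime q ⊗[B] T, inferInstance, inferInstance, inferInstance, inferInstance,
    inferInstance, ?_, ⟨E⟩⟩
  have h1 : Module.finrank (Localization.AtPrime q) (Localization.AtPrime q ⊗[S] B) = d + 1 := by
    rw [Module.finrank_baseChange, h]
  rw [LinearEquiv.finrank_eq E.toLinearEquiv, Module.finrank_prod, Module.finrank_self] at h1
  omega

end main

/-- **a finite étale free algebra of rank `d` over a local ring is split by a faithfully flat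
local extension** -/
theorem exists_split : ∀ (d : ℕ) (S : Type u) [CommRing S] [IsLocalRing S] (B : Type u) [CommRing B]
    [Algebra S B] [Module.Free S B] [Module.Finite S B] [Algebra.Etale S B],
    Module.finrank S B = d →
    ∃ (A' : Type u) (_ : CommRing A') (_ : IsLocalRing A') (_ : Algebra S A')
      (_ : Module.FaithfullyFlat S A'), Nonempty (A' ⊗[S] B ≃ₐ[A'] (Fin d → A')) := by
  intro d
  induction d with
  | zero =>
    intro S _ _ B _ _ _ _ _ h
    have : Subsingleton B := (Module.finrank_eq_zero_iff_of_free S B).mp h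
    refine ⟨S, inferInstance, inferInstance, inferInstance, inferInstance, ⟨?_⟩⟩
    exact AlgEquiv.ofBijective (AlgHom.pi (fun i => i.elim0))
      ⟨fun x y _ => Subsingleton.elim _ _, fun f => ⟨0, Subsingleton.elim _ _⟩⟩
  | succ d ih =>
    intro S _ _ B _ _ _ _ _ h
    obtain ⟨A₁, _, _, _, hff₁, T₁, _, _, _, _, _, hT, ⟨E⟩⟩ := exists_split_one S B d h
    obtain ⟨A', _, _, _, hff', ⟨E'⟩⟩ := ih A₁ T₁ hT
    letI : Algebra S A' := ((algebraMap A₁ A').comp (algebraMap S A₁)).toAlgebra
    haveI : IsScalarTower S A₁ A' := IsScalarTower.of_algebraMap_eq (fun _ => rfl)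
    have hff : Module.FaithfullyFlat S A' := Module.FaithfullyFlat.trans S A₁ A'
    refine ⟨A', inferInstance, inferInstance, inferInstance, hff, ⟨?_⟩⟩
    exact (Algebra.TensorProduct.cancelBaseChange S A₁ A' A' B).symm.trans
      ((Algebra.TensorProduct.congr AlgEquiv.refl E).trans
        ((Algebra.TensorProduct.prodRight A₁ A' A' A₁ T₁).trans
          ((AlgEquiv.prodCongr (Algebra.TensorProduct.rid A₁ A' A') E').trans
            (consAlgEquiv A' d))))

end Groth.Agent.Lib.Helper15.EtaleSplit
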