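import Mathlib
import Groth.Agent.Lib.Helper15.Corestrict

/-!
# `Γ^d(B)` is a finite module when `B` is (helper15)
-/

set_option autoImplicit false
universe u
open scoped TensorProduct
open MvPolynomial

namespace Groth.Agent.Lib.Helper15.GammaFinite

open Groth.Agent.Lib.Helper15.PolLawGeneric Groth.Agent.Lib.Helper15.Corestrict

variable {A : Type u} [CommRing A] {B : Type u} [CommRing B] [Algebra A B]
  {C : Type u} [CommRing C] [Algebra A C] {d : ℕ} (γ : PolLaw.MulLaw A B C d)
  {n : ℕ} (b : Fin n → B) (hb : Submodule.span A (Set.range b) = ⊤)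

include hb in
/-- every element of `S ⊗ B` has coordinates with respect to the generating family -/
theorem exists_coords (S : Type u) [CommSemiring S] [Algebra A S] (z : S ⊗[A] B) :
    ∃ s : Fin n → S, z = ∑ i, s i ⊗ₜ[A] b i := by
  induction z using TensorProduct.induction_on with
  | zero => exact ⟨0, by simp⟩
  | tmul s₀ b' =>
    have hb' : b' ∈ Submodule.span A (Set.range b) := by rw [hb]; trivial
    obtain ⟨a, ha⟩ := (Submodule.mem_span_range_iff_exists_fun A).mp hb'
    refine ⟨fun i => a i • s₀, ?_⟩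
    rw [← ha, TensorProduct.tmul_sum]
    refine Finset.sum_congr rfl fun i _ => ?_
    rw [TensorProduct.tmul_smul, TensorProduct.smul_tmul']
  | add x y hx hy =>
    obtain ⟨s, rfl⟩ := hx
    obtain ⟨s', rfl⟩ := hy
    refine ⟨s + s', ?_⟩
    rw [← Finset.sum_add_distrib]
    refine Finset.sum_congr rfl fun i _ => ?_
    rw [Pi.add_apply, TensorProduct.add_tmul]

/-- the generic element -/
noncomputable def genEl : MvPolynomial (Fin n) A ⊗[A] B := ∑ i, (X i : MvPolynomial (Fin n) A) ⊗ₜ[A] b i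

/-- generic coefficients -/
noncomputable def gc : (Fin n →₀ ℕ) →₀ C :=
  (exists_finsupp_repr (γ.law.toFun' (MvPolynomial (Fin n) A) (genEl b))).choose

theorem gc_spec : γ.law.toFun' (MvPolynomial (Fin n) A) (genEl b) =
    ∑ α ∈ (gc γ b).support, (monomial α (1 : A)) ⊗ₜ[A] gc γ b α :=
  (exists_finsupp_repr (γ.law.toFun' (MvPolynomial (Fin n) A) (genEl b))).choose_spec

/-- the law at an element with given coordinates -/
theorem law_coords (S : Type u) [CommSemiring S] [Algebra A S] (s : Fin n → S) :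
    γ.law.toFun' S (∑ i, s i ⊗ₜ[A] b i) =
      ∑ α ∈ (gc γ b).support, mon s α ⊗ₜ[A] gc γ b α := by
  have h1 := PolynomialLaw.isCompat_apply' (f := γ.law)
    (aeval s : MvPolynomial (Fin n) A →ₐ[A] S) (genEl b)
  have h2 : (aeval s : MvPolynomial (Fin n) A →ₐ[A] S).toLinearMap.rTensor B (genEl b) =
      ∑ i, s i ⊗ₜ[A] b i := by
    unfold genEl
    rw [map_sum]
    refine Finset.sum_congr rfl fun i _ => ?_
    rw [LinearMap.rTensor_tmul, AlgHom.toLinearMap_apply, aeval_X]
  rw [h2, gc_spec, map_sum] at h1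
  rw [← h1]
  refine Finset.sum_congr rfl fun α _ => ?_
  rw [LinearMap.rTensor_tmul, AlgHom.toLinearMap_apply, aeval_monomial_one]

/-- the span of the generic coefficients -/
noncomputable def N : Submodule A C :=
  Submodule.span A ((fun α => gc γ b α) '' ((gc γ b).support : Set (Fin n →₀ ℕ)))

theorem gc_mem (α : Fin n →₀ ℕ) : gc γ b α ∈ N γ b := by
  by_cases h : α ∈ (gc γ b).support
  · exact Submodule.subset_span ⟨α, Finset.mem_coe.mpr h, rfl⟩
  · rw [Finsupp.notMem_support_iff] at h
    rw [h]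
    exact Submodule.zero_mem _

theorem N_fg : (N γ b).FG := Submodule.fg_span (Set.Finite.image _ (Finset.finite_toSet _))

/-- linear extraction: `p ⊗ c ↦ ℓ p • c` -/
noncomputable def ext {S : Type u} [CommSemiring S] [Algebra A S] (ℓ : S →ₗ[A] A) :
    S ⊗[A] C →ₗ[A] C :=
  (TensorProduct.lid A C).toLinearMap ∘ₗ ℓ.rTensor C

theorem ext_tmul {S : Type u} [CommSemiring S] [Algebra A S] (ℓ : S →ₗ[A] A) (p : S) (c : C) :
    ext ℓ (p ⊗ₜ[A] c) = ℓ p • c := by
  simp [ext]

include hb in
theorem one_mem : (1 : C) ∈ N γ b := by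
  obtain ⟨a, ha⟩ := exists_coords b hb A (1 : A ⊗[A] B)
  have h1 := law_coords γ b A a
  rw [← ha, (γ.mult A).1] at h1
  have h2 := congrArg (ext (LinearMap.id : A →ₗ[A] A) (C := C)) h1
  rw [map_sum, Algebra.TensorProduct.one_def, ext_tmul, LinearMap.id_apply, one_smul] at h2
  rw [h2]
  refine Submodule.sum_mem _ fun α _ => ?_
  rw [ext_tmul]
  exact Submodule.smul_mem _ _ (gc_mem γ b α)

include hb in
theorem gc_mul_mem (α₀ β₀ : Fin n →₀ ℕ) : gc γ b α₀ * gc γ b β₀ ∈ N γ b := by
  classical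
  set P₁ := MvPolynomial (Fin n) A with hP₁
  set P₂ := MvPolynomial (Fin n) P₁ with hP₂
  let sX : Fin n → P₂ := fun i => X i
  let sY : Fin n → P₂ := fun j => MvPolynomial.C (X j)
  have hX : ∀ α : Fin n →₀ ℕ, mon sX α = monomial α (1 : P₁) := by
    intro α
    unfold mon
    simp only [sX]
    rw [monomial_eq, C_1, one_mul]
  have hY : ∀ β : Fin n →₀ ℕ, mon sY β = MvPolynomial.C (monomial β (1 : A)) := by
    intro β
    unfold mon
    simp only [sY]
    rw [monomial_eq, C_1, one_mul, Finsupp.prod, Finsupp.prod, map_prod]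
    simp only [map_pow]
  obtain ⟨L, hL⟩ := exists_coords b hb P₂
    ((∑ i, sX i ⊗ₜ[A] b i) * (∑ j, sY j ⊗ₜ[A] b j))
  have h1 := law_coords γ b P₂ L
  rw [← hL, (γ.mult P₂).2, law_coords, law_coords, Finset.sum_mul_sum] at h1
  let ℓ : P₂ →ₗ[A] A := (lcoeff A β₀) ∘ₗ ((lcoeff P₁ α₀).restrictScalars A)
  have hℓ : ∀ α β : Fin n →₀ ℕ, ℓ (mon sX α * mon sY β) =
      if α = α₀ then (if β = β₀ then 1 else 0) else 0 := by
    intro α β
    rw [hX, hY, mul_comm, C_mul_monomial, mul_one]
    simp only [ℓ, LinearMap.comp_apply, LinearMap.restrictScalars_apply, lcoeff_apply]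
    rw [show (lcoeff P₁ α₀) ((monomial α) ((monomial β) (1 : A))) =
      coeff α₀ ((monomial α) ((monomial β) (1 : A))) from rfl, coeff_monomial]
    by_cases h : α = α₀
    · rw [if_pos h, if_pos h, coeff_monomial]
    · rw [if_neg h, if_neg h, coeff_zero]
  have h2 := congrArg (ext ℓ (C := C)) h1
  rw [map_sum, map_sum] at h2
  simp only [map_sum, Algebra.TensorProduct.tmul_mul_tmul, ext_tmul, hℓ] at h2
  have h3 : (∑ α ∈ (gc γ b).support, ∑ β ∈ (gc γ b).support,
      (if α = α₀ then (if β = β₀ then (1 : A) else 0) else 0) • (gc γ b α * gc γ b β)) =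
      gc γ b α₀ * gc γ b β₀ := by
    by_cases hα : α₀ ∈ (gc γ b).support
    · by_cases hβ : β₀ ∈ (gc γ b).support
      · rw [Finset.sum_eq_single α₀]
        · rw [Finset.sum_eq_single β₀]
          · simp
          · intro β _ hne; simp [hne]
          · intro h; exact absurd hβ h
        · intro α _ hne; simp [hne]
        · intro h; exact absurd hα h
      · rw [Finsupp.notMem_support_iff] at hβ
        rw [hβ, mul_zero]
        refine Finset.sum_eq_zero fun α _ => Finset.sum_eq_zero fun β hβ' => ?_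
        by_cases h : β = β₀
        · subst h
          rw [hβ, mul_zero, smul_zero]
        · simp [h]
    · rw [Finsupp.notMem_support_iff] at hα
      rw [hα, zero_mul]
      refine Finset.sum_eq_zero fun α hα' => Finset.sum_eq_zero fun β _ => ?_
      by_cases h : α = α₀
      · subst h
        rw [hα, zero_mul, smul_zero]
      · simp [h]
  rw [h3] at h2
  rw [h2]
  refine Submodule.sum_mem _ fun α _ => ?_
  exact Submodule.smul_mem _ _ (gc_mem γ b α)

include hb in
theorem mul_mem (x y : C) (hx : x ∈ N γ b) (hy : y ∈ N γ b) : x * y ∈ N γ b := by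
  have h : N γ b * N γ b ≤ N γ b := by
    unfold N
    rw [Submodule.span_mul_span, Submodule.span_le]
    rintro _ ⟨x, hx, y, hy, rfl⟩
    obtain ⟨α, -, rfl⟩ := hx
    obtain ⟨β, -, rfl⟩ := hy
    exact gc_mul_mem γ b hb α β
  exact h (Submodule.mul_mem_mul hx hy)

/-- the span of the generic coefficients as a subalgebra -/
noncomputable def C₀ : Subalgebra A C :=
  Submodule.toSubalgebra (N γ b) (one_mem γ b hb) (mul_mem γ b hb)

include hb in
theorem H (σ : Type u) (z : MvPolynomial σ A ⊗[A] B) :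
    γ.law.toFun' (MvPolynomial σ A) z ∈ LinearMap.range (inc (C₀ γ b hb) (MvPolynomial σ A)) := by
  obtain ⟨s, rfl⟩ := exists_coords b hb _ z
  rw [law_coords]
  refine ⟨∑ α ∈ (gc γ b).support, mon s α ⊗ₜ[A] (⟨gc γ b α, gc_mem γ b α⟩ : C₀ γ b hb), ?_⟩
  rw [map_sum]
  refine Finset.sum_congr rfl fun α _ => ?_
  unfold inc
  rw [LinearMap.lTensor_tmul]
  rfl

include hb in
theorem finite_of_isGammaD (hγ : PolLaw.IsGammaD γ) : Module.Finite A C := by
  have h1 : C₀ γ b hb = ⊤ := eq_top_of_isGammaD γ (C₀ γ b hb) (H γ b hb) hγ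
  have h2 : N γ b = ⊤ := by
    rw [eq_top_iff]
    intro c _
    have : c ∈ C₀ γ b hb := by rw [h1]; trivial
    exact this
  rw [Module.finite_def, ← h2]
  exact N_fg γ b

end Groth.Agent.Lib.Helper15.GammaFinite
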