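import Mathlib
import Groth.Agent.Lib.Helper15.PolLawPoly

/-!
# The kernel of a multiplicative law into a reduced ring is radical (helper15)
-/

set_option autoImplicit false
universe u
open scoped TensorProduct
open Polynomial

namespace Groth.Agent.Lib.Helper15.LawReduced

open Groth.Agent.Lib.Helper15.PolLawPoly

/-- degree argument: a polynomial over a reduced ring with `G² = c · G(2X)` is constant -/
theorem natDegree_eq_zero_of_sq {Λ : Type u} [CommRing Λ] [IsReduced Λ] (G : Λ[X]) (c : Λ)
    (h : G * G = Polynomial.C c * G.comp (X + X)) : G.natDegree = 0 := by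
  by_contra hN
  have hNpos : 0 < G.natDegree := Nat.pos_of_ne_zero hN
  have h1 : (G ^ 2).coeff (2 * G.natDegree) = G.leadingCoeff ^ 2 :=
    Polynomial.coeff_pow_mul_natDegree G 2
  have h2 : (Polynomial.C c * G.comp (X + X)).natDegree < 2 * G.natDegree := by
    have hX : (X + X : Λ[X]).natDegree ≤ 1 :=
      (Polynomial.natDegree_add_le _ _).trans (by simp [Polynomial.natDegree_X_le])
    calc (Polynomial.C c * G.comp (X + X)).natDegree
        ≤ (G.comp (X + X)).natDegree := Polynomial.natDegree_C_mul_le _ _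
      _ ≤ G.natDegree * (X + X : Λ[X]).natDegree := Polynomial.natDegree_comp_le
      _ ≤ G.natDegree * 1 := Nat.mul_le_mul_left _ hX
      _ < 2 * G.natDegree := by omega
  have h3 : (G ^ 2).coeff (2 * G.natDegree) = 0 := by
    rw [pow_two, h]
    exact Polynomial.coeff_eq_zero_of_natDegree_lt h2
  rw [h1] at h3
  have h4 : G.leadingCoeff = 0 := IsReduced.eq_zero _ ⟨2, h3⟩
  rw [Polynomial.leadingCoeff_eq_zero] at h4
  rw [h4, Polynomial.natDegree_zero] at hN
  exact hN rfl

section reduced

variable {A : Type u} [CommRing A] {C : Type u} [CommRing C] [Algebra A C]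

instance isReduced_mvPoly_tensor (σ : Type u) [IsReduced C] :
    IsReduced (MvPolynomial σ A ⊗[A] C) := by
  let e₁ : MvPolynomial σ A ⊗[A] C ≃ₐ[A] C ⊗[A] MvPolynomial σ A :=
    Algebra.TensorProduct.comm A (MvPolynomial σ A) C
  let e₂ : C ⊗[A] MvPolynomial σ A ≃ₐ[C] MvPolynomial σ C :=
    MvPolynomial.algebraTensorAlgEquiv A C
  exact isReduced_of_injective (e₂.toRingEquiv.toRingHom.comp e₁.toRingEquiv.toRingHom)
    (e₂.injective.comp e₁.injective)

end reduced

section main

variable {A : Type u} [CommRing A] {B : Type u} [CommRing B] [Algebra A B]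
  {C : Type u} [CommRing C] [Algebra A C] {d : ℕ} (F : PolLaw.MulLaw A B C d)

/-- naturality of the law, in algebra-map form -/
theorem compat {S S' : Type u} [CommSemiring S] [Algebra A S] [CommSemiring S'] [Algebra A S']
    (φ : S →ₐ[A] S') (z : S ⊗[A] B) :
    Algebra.TensorProduct.map φ (AlgHom.id A C) (F.law.toFun' S z) =
      F.law.toFun' S' (Algebra.TensorProduct.map φ (AlgHom.id A B) z) := by
  rw [← PolLaw.rTensor_algHom_apply, ← PolLaw.rTensor_algHom_apply]
  exact PolynomialLaw.isCompat_apply' (f := F.law) φ z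

theorem map_map {M : Type u} [CommRing M] [Algebra A M] {S S' S'' : Type u} [CommSemiring S]
    [Algebra A S] [CommSemiring S'] [Algebra A S'] [CommSemiring S''] [Algebra A S'']
    (φ : S →ₐ[A] S') (φ' : S' →ₐ[A] S'') (z : S ⊗[A] M) :
    Algebra.TensorProduct.map φ' (AlgHom.id A M) (Algebra.TensorProduct.map φ (AlgHom.id A M) z) =
      Algebra.TensorProduct.map (φ'.comp φ) (AlgHom.id A M) z := by
  induction z using TensorProduct.induction_on with
  | zero => simp
  | tmul s m => simp
  | add x y hx hy => rw [map_add, map_add, map_add, hx, hy]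

theorem key_poly [IsReduced C] (σ : Type u) (b : B) (hb : b ^ 2 ∈ PolLaw.ker F.law)
    (x w : MvPolynomial σ A ⊗[A] B) :
    F.law.toFun' (MvPolynomial σ A) (x + w * ((1 : MvPolynomial σ A) ⊗ₜ[A] b)) =
      F.law.toFun' (MvPolynomial σ A) x := by
  set P := MvPolynomial σ A with hP
  let ι : P →ₐ[A] P[X] := Polynomial.CAlgHom (R := A) (A := P)
  let r : P[X] := X + X
  let xt : P[X] ⊗[A] B := Algebra.TensorProduct.map ι (AlgHom.id A B) x
  let wt : P[X] ⊗[A] B := Algebra.TensorProduct.map ι (AlgHom.id A B) w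
  let β : P[X] ⊗[A] B := (1 : P[X]) ⊗ₜ[A] b
  let T : P[X] ⊗[A] B := (X : P[X]) ⊗ₜ[A] (1 : B)
  let g : P[X] ⊗[A] B := xt + T * (wt * β)
  let g₂ : P[X] ⊗[A] B := xt + (T + T) * (wt * β)
  -- substitution and evaluation on the pieces
  have hsub_ι : (subst (A := A) r).comp ι = ι := by
    apply AlgHom.ext
    intro p
    show (Polynomial.C p).comp r = Polynomial.C p
    exact Polynomial.C_comp
  have hev_ι : ∀ a : P, (evalAt (A := A) a).comp ι = AlgHom.id A P := by
    intro a
    apply AlgHom.ext
    intro p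
    show evalAt (A := A) a (Polynomial.C p) = p
    rw [evalAt_apply, Polynomial.eval_C]
  have hmapβ : ∀ (φ : P[X] →ₐ[A] P[X]),
      Algebra.TensorProduct.map φ (AlgHom.id A B) β = β := by
    intro φ
    simp only [β, Algebra.TensorProduct.map_tmul, map_one, AlgHom.id_apply]
  have hg₂ : Algebra.TensorProduct.map (subst (A := A) r) (AlgHom.id A B) g = g₂ := by
    simp only [g, g₂, xt, wt, map_add, map_mul, map_map, hsub_ι, hmapβ]
    congr 2
    simp only [T, Algebra.TensorProduct.map_tmul, AlgHom.id_apply, subst_apply, Polynomial.X_comp, r,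
      TensorProduct.add_tmul]
  have hgev : ∀ a : P, Algebra.TensorProduct.map (evalAt (A := A) a) (AlgHom.id A B) g =
      x + (a ⊗ₜ[A] (1 : B)) * (w * ((1 : P) ⊗ₜ[A] b)) := by
    intro a
    simp only [g, xt, wt, β, T, map_add, map_mul, map_map, hev_ι, Algebra.TensorProduct.map_tmul,
      AlgHom.id_apply, evalAt_apply, Polynomial.eval_X, Polynomial.eval_one]
    simp
  -- the multiplicative identity
  have hgg : g * g = xt * g₂ + (T * T * wt * wt) * ((1 : P[X]) ⊗ₜ[A] (b ^ 2)) := by
    have : ((1 : P[X]) ⊗ₜ[A] (b ^ 2) : P[X] ⊗[A] B) = β * β := by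
      simp only [β, Algebra.TensorProduct.tmul_mul_tmul, one_mul, pow_two]
    rw [this]
    simp only [g, g₂]
    ring
  have hF1 : F.law.toFun' P[X] (g * g) = F.law.toFun' P[X] (xt * g₂) := by
    rw [hgg]
    exact hb P[X] _ _
  have hF2 : F.law.toFun' P[X] g * F.law.toFun' P[X] g =
      Algebra.TensorProduct.map ι (AlgHom.id A C) (F.law.toFun' P x) *
        Algebra.TensorProduct.map (subst (A := A) r) (AlgHom.id A C) (F.law.toFun' P[X] g) := by
    rw [← (F.mult P[X]).2, hF1, (F.mult P[X]).2, compat, compat, hg₂]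
  -- pass to polynomials over `P ⊗ C`
  set G : (P ⊗[A] C)[X] := polyT P C (F.law.toFun' P[X] g) with hG
  have hGG : G * G = Polynomial.C (F.law.toFun' P x) * G.comp (X + X) := by
    have := congrArg (polyT P C) hF2
    rw [map_mul, map_mul, polyT_C, polyT_subst] at this
    rw [this]
    congr 2
    simp [r]
  have hdeg : G.natDegree = 0 := natDegree_eq_zero_of_sq G _ hGG
  have hconst := Polynomial.eq_C_of_natDegree_eq_zero hdeg
  have e1 : G.eval ((1 : P) ⊗ₜ[A] (1 : C)) =
      F.law.toFun' P (x + w * ((1 : P) ⊗ₜ[A] b)) := by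
    rw [hG, polyT_eval, compat, hgev]
    congr 2
    rw [← Algebra.TensorProduct.one_def, one_mul]
  have e0 : G.eval ((0 : P) ⊗ₜ[A] (1 : C)) = F.law.toFun' P x := by
    rw [hG, polyT_eval, compat, hgev]
    congr 1
    rw [TensorProduct.zero_tmul, zero_mul, add_zero]
  rw [← e1, ← e0, hconst, Polynomial.eval_C, Polynomial.eval_C]

/-- the general statement over any test algebra -/
theorem mem_ker_of_sq_mem [IsReduced C] (b : B) (hb : b ^ 2 ∈ PolLaw.ker F.law) :
    b ∈ PolLaw.ker F.law := by
  intro S _ _ x w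
  obtain ⟨x', hx'⟩ := exists_lift (A := A) (B := B) S x
  obtain ⟨w', hw'⟩ := exists_lift (A := A) (B := B) S w
  rw [PolLaw.rTensor_algHom_apply] at hx' hw'
  have h := key_poly F S b hb x' w'
  have h2 := congrArg (Algebra.TensorProduct.map (evS (A := A) S) (AlgHom.id A C)) h
  rw [compat, compat, map_add, map_mul, hx', hw', Algebra.TensorProduct.map_tmul, map_one,
    AlgHom.id_apply] at h2
  exact h2

theorem isReduced_image [IsReduced C] : IsReduced (PolLaw.image F.law) := by
  rw [← Ideal.isRadical_iff_quotient_reduced, Ideal.isRadical_iff_pow_one_lt 2 one_lt_two]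
  intro b hb
  exact mem_ker_of_sq_mem F b hb

end main

end Groth.Agent.Lib.Helper15.LawReduced
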