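import Mathlib
import Groth.Agent.Lib.Helper15.LawReduced

/-!
# The value of a law along a line `x + t y`, as a polynomial in `t` (helper15)
-/

set_option autoImplicit false
universe u
open scoped TensorProduct
open Polynomial

namespace Groth.Agent.Lib.Helper15.PolyLine

open Groth.Agent.Lib.Helper15.PolLawPoly Groth.Agent.Lib.Helper15.LawReduced

variable {A : Type u} [CommRing A] {B : Type u} [CommRing B] [Algebra A B]
  {C : Type u} [CommRing C] [Algebra A C] {d : ℕ} (F : PolLaw.MulLaw A B C d)
  {P : Type u} [CommRing P] [Algebra A P]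

/-- constants `P → P[X]` -/
noncomputable abbrev ι : P →ₐ[A] P[X] := Polynomial.CAlgHom (R := A) (A := P)

/-- the line `x + t y` in `P[t] ⊗ B` -/
noncomputable def line (x y : P ⊗[A] B) : P[X] ⊗[A] B :=
  Algebra.TensorProduct.map (ι (A := A) (P := P)) (AlgHom.id A B) x +
    ((X : P[X]) ⊗ₜ[A] (1 : B)) * Algebra.TensorProduct.map (ι (A := A) (P := P)) (AlgHom.id A B) y

theorem subst_comp_ι (r : P[X]) : (subst (A := A) r).comp (ι (A := A) (P := P)) = ι := by
  apply AlgHom.ext
  intro p
  show (Polynomial.C p).comp r = Polynomial.C p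
  exact Polynomial.C_comp

theorem evalAt_comp_ι (a : P) : (evalAt (A := A) a).comp (ι (A := A) (P := P)) = AlgHom.id A P := by
  apply AlgHom.ext
  intro p
  show evalAt (A := A) a (Polynomial.C p) = p
  rw [evalAt_apply, Polynomial.eval_C]

theorem map_subst_line (r : P[X]) (x y : P ⊗[A] B) :
    Algebra.TensorProduct.map (subst (A := A) r) (AlgHom.id A B) (line x y) =
      Algebra.TensorProduct.map (ι (A := A) (P := P)) (AlgHom.id A B) x +
        (r ⊗ₜ[A] (1 : B)) *
          Algebra.TensorProduct.map (ι (A := A) (P := P)) (AlgHom.id A B) y := by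
  unfold line
  rw [map_add, map_mul, LawReduced.map_map, LawReduced.map_map, subst_comp_ι, Algebra.TensorProduct.map_tmul,
    AlgHom.id_apply, subst_apply, Polynomial.X_comp]

theorem map_id_apply (x : P ⊗[A] B) :
    Algebra.TensorProduct.map (AlgHom.id A P) (AlgHom.id A B) x = x := by
  rw [Algebra.TensorProduct.map_id, AlgHom.id_apply]

theorem map_evalAt_line (a : P) (x y : P ⊗[A] B) :
    Algebra.TensorProduct.map (evalAt (A := A) a) (AlgHom.id A B) (line x y) =
      x + (a ⊗ₜ[A] (1 : B)) * y := by
  unfold line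
  rw [map_add, map_mul, LawReduced.map_map, LawReduced.map_map, evalAt_comp_ι, Algebra.TensorProduct.map_tmul,
    AlgHom.id_apply, evalAt_apply, Polynomial.eval_X, map_id_apply, map_id_apply]

/-- the value of the law along the line, as a polynomial over `P ⊗ C` -/
noncomputable def G (x y : P ⊗[A] B) : (P ⊗[A] C)[X] :=
  polyT P C (F.law.toFun' P[X] (line x y))

theorem eval_G (a : P) (x y : P ⊗[A] B) :
    (G F x y).eval (a ⊗ₜ[A] (1 : C)) = F.law.toFun' P (x + (a ⊗ₜ[A] (1 : B)) * y) := by
  unfold G
  rw [polyT_eval, compat, map_evalAt_line]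

theorem G_comp (r : P[X]) (x y : P ⊗[A] B) :
    (G F x y).comp (r.map (Algebra.TensorProduct.includeLeft : P →ₐ[A] P ⊗[A] C).toRingHom) =
      polyT P C (F.law.toFun' P[X]
        (Algebra.TensorProduct.map (ι (A := A) (P := P)) (AlgHom.id A B) x +
          (r ⊗ₜ[A] (1 : B)) *
            Algebra.TensorProduct.map (ι (A := A) (P := P)) (AlgHom.id A B) y)) := by
  unfold G
  rw [← polyT_subst, compat, map_subst_line]

theorem polyT_const (x : P ⊗[A] B) :
    polyT P C (F.law.toFun' P[X]
      (Algebra.TensorProduct.map (ι (A := A) (P := P)) (AlgHom.id A B) x)) =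
      Polynomial.C (F.law.toFun' P x) := by
  rw [← compat, polyT_C]

/-- if the polynomial `G` is constant then the law is constant along the line -/
theorem eq_of_G_const (x y : P ⊗[A] B) (h : ∀ k, 1 ≤ k → (G F x y).coeff k = 0) :
    F.law.toFun' P (x + y) = F.law.toFun' P x := by
  have hdeg : (G F x y).natDegree = 0 := by
    by_contra hne
    have hlc : (G F x y).leadingCoeff = 0 := h _ (Nat.one_le_iff_ne_zero.mpr hne)
    rw [Polynomial.leadingCoeff_eq_zero] at hlc
    rw [hlc, Polynomial.natDegree_zero] at hne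
    exact hne rfl
  have hconst := Polynomial.eq_C_of_natDegree_eq_zero hdeg
  have e1 := eval_G F (1 : P) x y
  have e0 := eval_G F (0 : P) x y
  rw [← Algebra.TensorProduct.one_def, ← Algebra.TensorProduct.one_def, one_mul] at e1
  rw [TensorProduct.zero_tmul, TensorProduct.zero_tmul, zero_mul, add_zero] at e0
  rw [← e1, ← e0, hconst, Polynomial.eval_C, Polynomial.eval_C]

end Groth.Agent.Lib.Helper15.PolyLine
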