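import Mathlib
import Groth.Agent.Lib.Helper15.PolyLine

/-!
# The directional derivative of a multiplicative law (helper15)
-/

set_option autoImplicit false
universe u
open scoped TensorProduct
open Polynomial

namespace Groth.Agent.Lib.Helper15.LawDeriv

open Groth.Agent.Lib.Helper15.PolLawPoly Groth.Agent.Lib.Helper15.LawReduced
  Groth.Agent.Lib.Helper15.PolyLine

variable {A : Type u} [CommRing A] {B : Type u} [CommRing B] [Algebra A B]
  {C : Type u} [CommRing C] [Algebra A C] {d : ℕ} (F : PolLaw.MulLaw A B C d)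
  {P : Type u} [CommRing P] [Algebra A P] {P' : Type u} [CommRing P'] [Algebra A P']

section nat

variable (ψ : P →ₐ[A] P')

/-- naturality of `polyT` -/
theorem polyT_map (z : P[X] ⊗[A] C) :
    polyT P' C (Algebra.TensorProduct.map (Polynomial.mapAlgHom ψ) (AlgHom.id A C) z) =
      (polyT P C z).map (Algebra.TensorProduct.map ψ (AlgHom.id A C)).toRingHom := by
  induction z using TensorProduct.induction_on with
  | zero => simp
  | tmul q c =>
    rw [Algebra.TensorProduct.map_tmul, polyT_tmul, polyT_tmul, AlgHom.id_apply,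
      Polynomial.map_mul, Polynomial.map_C, Polynomial.map_map]
    congr 1
    · show (q.map (ψ : P →+* P')).map _ = _
      rw [Polynomial.map_map]
      rfl
    · congr 1
      show (1 : P') ⊗ₜ[A] c = Algebra.TensorProduct.map ψ (AlgHom.id A C) ((1 : P) ⊗ₜ[A] c)
      rw [Algebra.TensorProduct.map_tmul, AlgHom.id_apply, map_one]
  | add x y hx hy => rw [map_add, map_add, hx, hy, map_add, Polynomial.map_add]

theorem mapAlgHom_comp_ι :
    (Polynomial.mapAlgHom ψ).comp (ι (A := A) (P := P)) = (ι (A := A) (P := P')).comp ψ := by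
  apply AlgHom.ext
  intro p
  show (Polynomial.C p).map (ψ : P →+* P') = Polynomial.C (ψ p)
  rw [Polynomial.map_C]
  rfl

theorem map_line (x y : P ⊗[A] B) :
    Algebra.TensorProduct.map (Polynomial.mapAlgHom ψ) (AlgHom.id A B) (line x y) =
      line (Algebra.TensorProduct.map ψ (AlgHom.id A B) x)
        (Algebra.TensorProduct.map ψ (AlgHom.id A B) y) := by
  unfold line
  rw [map_add, map_mul, LawReduced.map_map, LawReduced.map_map, mapAlgHom_comp_ι,
    ← LawReduced.map_map, ← LawReduced.map_map, Algebra.TensorProduct.map_tmul, AlgHom.id_apply]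
  congr 3
  show (X : P[X]).map (ψ : P →+* P') = X
  rw [Polynomial.map_X]

/-- naturality of `G` -/
theorem G_map (x y : P ⊗[A] B) :
    (G F x y).map (Algebra.TensorProduct.map ψ (AlgHom.id A C)).toRingHom =
      G F (Algebra.TensorProduct.map ψ (AlgHom.id A B) x)
        (Algebra.TensorProduct.map ψ (AlgHom.id A B) y) := by
  unfold G
  rw [← polyT_map, compat, map_line]

end nat

/-- the directional derivative -/
noncomputable def D (x y : P ⊗[A] B) : P ⊗[A] C := (G F x y).coeff 1

theorem D_map (ψ : P →ₐ[A] P') (x y : P ⊗[A] B) :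
    Algebra.TensorProduct.map ψ (AlgHom.id A C) (D F x y) =
      D F (Algebra.TensorProduct.map ψ (AlgHom.id A B) x)
        (Algebra.TensorProduct.map ψ (AlgHom.id A B) y) := by
  unfold D
  rw [← G_map, Polynomial.coeff_map]
  rfl

/-- homogeneity in the direction -/
theorem G_smul (p : P) (x y : P ⊗[A] B) :
    G F x ((p ⊗ₜ[A] (1 : B)) * y) = (G F x y).comp (Polynomial.C (p ⊗ₜ[A] (1 : C)) * X) := by
  have h6 := G_comp F (Polynomial.C p * X) x y
  have h7 : (Polynomial.C p * X : P[X]).map
      (Algebra.TensorProduct.includeLeft : P →ₐ[A] P ⊗[A] C).toRingHom =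
      Polynomial.C (p ⊗ₜ[A] (1 : C)) * X := by
    rw [Polynomial.map_mul, Polynomial.map_C, Polynomial.map_X]
    rfl
  rw [h7] at h6
  rw [h6]
  unfold G line
  congr 3
  rw [map_mul, Algebra.TensorProduct.map_tmul, AlgHom.id_apply, ← mul_assoc,
    Algebra.TensorProduct.tmul_mul_tmul, mul_one, mul_comm (X : P[X])]
  rfl

theorem D_smul (p : P) (x y : P ⊗[A] B) :
    D F x ((p ⊗ₜ[A] (1 : B)) * y) = (p ⊗ₜ[A] (1 : C)) * D F x y := by
  unfold D
  rw [G_smul, Polynomial.comp_C_mul_X_coeff, pow_one, mul_comm]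

theorem polyT_X_tmul : polyT P C ((X : P[X]) ⊗ₜ[A] (1 : C)) = X := by
  rw [polyT_tmul, Polynomial.map_X, ← Algebra.TensorProduct.one_def, Polynomial.C_1, mul_one]

/-- additivity in the direction -/
theorem D_add (x y y' : P ⊗[A] B) : D F x (y + y') = D F x y + D F x y' := by
  obtain ⟨Xq, hXq⟩ : ∃ Xq : P[X] ⊗[A] B, Xq = line x y' := ⟨_, rfl⟩
  obtain ⟨Yq, hYq⟩ : ∃ Yq : P[X] ⊗[A] B,
    Yq = Algebra.TensorProduct.map (ι (A := A) (P := P)) (AlgHom.id A B) y := ⟨_, rfl⟩
  obtain ⟨Γ, hΓ⟩ : ∃ Γ : (P[X] ⊗[A] C)[X], Γ = G F Xq Yq := ⟨_, rfl⟩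
  -- (a)
  have ha : Γ.map (Algebra.TensorProduct.map (evalAt (A := A) (0 : P)) (AlgHom.id A C)).toRingHom =
      G F x y := by
    rw [hΓ, G_map, hXq, hYq, map_evalAt_line, LawReduced.map_map, evalAt_comp_ι, map_id_apply,
      TensorProduct.zero_tmul, zero_mul, add_zero]
  -- (b)
  have hb : polyT P C (Γ.coeff 0) = G F x y' := by
    have h := eval_G F (0 : P[X]) Xq Yq
    rw [TensorProduct.zero_tmul, TensorProduct.zero_tmul, zero_mul, add_zero,
      ← Polynomial.coeff_zero_eq_eval_zero, ← hΓ] at h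
    rw [h, hXq]
    rfl
  -- (c)
  have hc : polyT P C (Γ.eval ((X : P[X]) ⊗ₜ[A] (1 : C))) = G F x (y + y') := by
    rw [hΓ, eval_G]
    unfold G
    congr 2
    rw [hXq, hYq]
    unfold line
    rw [map_add, mul_add]
    abel
  have hn : Γ.natDegree < Γ.natDegree + 2 := by omega
  rw [Polynomial.eval_eq_sum_range' hn, map_sum] at hc
  unfold D
  rw [← hc, Polynomial.finset_sum_coeff]
  have hterm : ∀ i, (polyT P C (Γ.coeff i * ((X : P[X]) ⊗ₜ[A] (1 : C)) ^ i)).coeff 1 =
      if i ≤ 1 then (polyT P C (Γ.coeff i)).coeff (1 - i) else 0 := by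
    intro i
    rw [map_mul, map_pow, polyT_X_tmul, Polynomial.coeff_mul_X_pow']
  simp only [hterm]
  have hsub : Finset.range 2 ⊆ Finset.range (Γ.natDegree + 2) :=
    Finset.range_mono (by omega)
  rw [← Finset.sum_subset hsub]
  · rw [Finset.sum_range_succ, Finset.sum_range_one, if_pos (by omega), if_pos (le_refl 1),
      Nat.sub_zero, Nat.sub_self, hb, add_comm]
    congr 1
    rw [Polynomial.coeff_zero_eq_eval_zero]
    have h := polyT_eval (A := A) (C := C) (0 : P) (Γ.coeff 1)
    rw [TensorProduct.zero_tmul] at h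
    rw [h, ← ha, Polynomial.coeff_map]
    rfl
  · intro i _ hi
    rw [Finset.mem_range] at hi
    rw [if_neg (by omega)]

theorem D_zero (x : P ⊗[A] B) : D F x 0 = 0 := by
  have h := D_add F x 0 0
  rw [add_zero] at h
  exact left_eq_add.mp h

/-- `polyT` of the evaluation at the generic point -/
theorem polyT_eval_generic (p : (P ⊗[A] C)[X]) :
    polyT P C ((p.map (Algebra.TensorProduct.map (ι (A := A) (P := P))
      (AlgHom.id A C)).toRingHom).eval ((X : P[X]) ⊗ₜ[A] (1 : C))) = p := by
  rw [Polynomial.eval_map, Polynomial.eval₂_eq_sum_range, map_sum]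
  conv_rhs => rw [p.as_sum_range_C_mul_X_pow]
  refine Finset.sum_congr rfl fun k _ => ?_
  rw [map_mul, map_pow, polyT_X_tmul]
  congr 1
  exact polyT_C _

/-- the polynomial `G` along a translated line is the Taylor shift -/
theorem G_line (x y : P ⊗[A] B) :
    G F (line x y) (Algebra.TensorProduct.map (ι (A := A) (P := P)) (AlgHom.id A B) y) =
      Polynomial.taylor ((X : P[X]) ⊗ₜ[A] (1 : C))
        ((G F x y).map (Algebra.TensorProduct.map (ι (A := A) (P := P))
          (AlgHom.id A C)).toRingHom) := by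
  rw [G_map, Polynomial.taylor_apply]
  have h6 := G_comp F (Polynomial.C (X : P[X]) + X)
    (Algebra.TensorProduct.map (ι (A := A) (P := P)) (AlgHom.id A B) x)
    (Algebra.TensorProduct.map (ι (A := A) (P := P)) (AlgHom.id A B) y)
  have h7 : (Polynomial.C (X : P[X]) + X : P[X][X]).map
      (Algebra.TensorProduct.includeLeft : P[X] →ₐ[A] P[X] ⊗[A] C).toRingHom =
      X + Polynomial.C ((X : P[X]) ⊗ₜ[A] (1 : C)) := by
    rw [Polynomial.map_add, Polynomial.map_C, Polynomial.map_X, add_comm]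
    rfl
  rw [h7] at h6
  rw [h6]
  unfold G line
  congr 2
  rw [map_add, map_mul, Algebra.TensorProduct.map_tmul, AlgHom.id_apply, TensorProduct.add_tmul,
    add_mul, add_assoc]
  rfl

/-- in characteristic zero, a vanishing derivative along the line gives constancy -/
theorem eq_of_D_eq_zero (hchar : ∀ k : ℕ, 0 < k → IsUnit ((k : ℕ) : P ⊗[A] C))
    (x y : P ⊗[A] B)
    (h : D F (line x y)
      (Algebra.TensorProduct.map (ι (A := A) (P := P)) (AlgHom.id A B) y) = 0) :
    F.law.toFun' P (x + y) = F.law.toFun' P x := by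
  unfold D at h
  rw [G_line, Polynomial.taylor_coeff_one, Polynomial.derivative_map] at h
  have h1 := congrArg (polyT P C) h
  rw [polyT_eval_generic, map_zero] at h1
  apply eq_of_G_const F x y
  intro k hk
  obtain ⟨n, rfl⟩ : ∃ n, k = n + 1 := ⟨k - 1, by omega⟩
  have h2 := congrArg (fun p : (P ⊗[A] C)[X] => p.coeff n) h1
  beta_reduce at h2
  rw [Polynomial.coeff_derivative, Polynomial.coeff_zero] at h2
  have hu := hchar (n + 1) (by omega)
  have h3 : ((n : ℕ) : P ⊗[A] C) + 1 = ((n + 1 : ℕ) : P ⊗[A] C) := by push_cast; rfl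
  rw [h3] at h2
  exact (hu.mul_left_eq_zero).mp h2

end Groth.Agent.Lib.Helper15.LawDeriv
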