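import Mathlib
import Groth.Agent.Lib.Helper15.TSplit
import Groth.Agent.Lib.Helper15.LawDeriv

/-!
# The Cayley–Hamilton theorem for multiplicative polynomial laws (helper15)
-/

set_option autoImplicit false
universe u
open scoped TensorProduct
open Polynomial

namespace Groth.Agent.Lib.Helper15.LawCH

open Groth.Agent.Lib.Helper15.PolLawPoly Groth.Agent.Lib.Helper15.LawReduced
  Groth.Agent.Lib.Helper15.PolyLine Groth.Agent.Lib.Helper15.LawDeriv
  Groth.Agent.Lib.Helper15.TSplit

section general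

variable {A : Type u} [CommRing A] (R : Type u) [CommRing R] [Algebra A R]

theorem polyT_mapC {C C' : Type u} [CommRing C] [Algebra A C] [CommRing C'] [Algebra A C']
    (f : C →ₐ[A] C') (z : R[X] ⊗[A] C) :
    polyT R C' (Algebra.TensorProduct.map (AlgHom.id A R[X]) f z) =
      (polyT R C z).map (Algebra.TensorProduct.map (AlgHom.id A R) f).toRingHom := by
  induction z using TensorProduct.induction_on with
  | zero => simp
  | tmul q c =>
    rw [Algebra.TensorProduct.map_tmul, polyT_tmul, polyT_tmul, AlgHom.id_apply,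
      Polynomial.map_mul, Polynomial.map_C, Polynomial.map_map]
    congr 1
    · congr 1
      apply RingHom.ext
      intro r
      show (r ⊗ₜ[A] (1 : C')) = Algebra.TensorProduct.map (AlgHom.id A R) f (r ⊗ₜ[A] (1 : C))
      rw [Algebra.TensorProduct.map_tmul, AlgHom.id_apply, map_one]
  | add x y hx hy => rw [map_add, map_add, hx, hy, map_add, Polynomial.map_add]

theorem polyT_rid (z : R[X] ⊗[A] A) :
    (polyT R A z).map (Algebra.TensorProduct.rid A A R).toAlgHom.toRingHom =
      TensorProduct.rid A R[X] z := by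
  induction z using TensorProduct.induction_on with
  | zero => simp
  | tmul q a =>
    rw [polyT_tmul, Polynomial.map_mul, Polynomial.map_C, Polynomial.map_map, TensorProduct.rid_tmul]
    have h1 : ((Algebra.TensorProduct.rid A A R).toAlgHom.toRingHom).comp
        (Algebra.TensorProduct.includeLeft : R →ₐ[A] R ⊗[A] A).toRingHom = RingHom.id R := by
      apply RingHom.ext
      intro r
      show Algebra.TensorProduct.rid A A R (r ⊗ₜ[A] (1 : A)) = r
      rw [Algebra.TensorProduct.rid_tmul, one_smul]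
    rw [h1, Polynomial.map_id]
    have h2 : (Algebra.TensorProduct.rid A A R).toAlgHom.toRingHom ((1 : R) ⊗ₜ[A] a) =
        algebraMap A R a := by
      show Algebra.TensorProduct.rid A A R ((1 : R) ⊗ₜ[A] a) = algebraMap A R a
      rw [Algebra.TensorProduct.rid_tmul, Algebra.smul_def, mul_one]
    rw [h2, mul_comm, ← Polynomial.smul_eq_C_mul, algebraMap_smul]
  | add x y hx hy => rw [map_add, map_add, Polynomial.map_add, hx, hy]

theorem coeff_rid_lTensor {D : Type u} [CommRing D] [Algebra A D] (ft : D →ₗ[A] A)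
    (z : R[X] ⊗[A] D) (k : ℕ) :
    (TensorProduct.rid A R[X] (ft.lTensor R[X] z)).coeff k =
      TensorProduct.rid A R (ft.lTensor R ((polyT R D z).coeff k)) := by
  induction z using TensorProduct.induction_on with
  | zero => simp
  | tmul q δ =>
    rw [LinearMap.lTensor_tmul, TensorProduct.rid_tmul, polyT_tmul, Polynomial.coeff_mul_C,
      Polynomial.coeff_map, Polynomial.coeff_smul]
    show ft δ • q.coeff k = TensorProduct.rid A R (ft.lTensor R ((q.coeff k ⊗ₜ[A] (1 : D)) *
      ((1 : R) ⊗ₜ[A] δ)))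
    rw [Algebra.TensorProduct.tmul_mul_tmul, mul_one, one_mul, LinearMap.lTensor_tmul,
      TensorProduct.rid_tmul]
  | add x y hx hy =>
    rw [map_add, map_add, Polynomial.coeff_add, hx, hy, map_add, Polynomial.coeff_add, map_add,
      map_add]

theorem map_map_comm {M M' : Type u} [CommRing M] [Algebra A M] [CommRing M'] [Algebra A M']
    {S S' : Type u} [CommRing S] [Algebra A S] [CommRing S'] [Algebra A S']
    (φ : S →ₐ[A] S') (f : M →ₐ[A] M') (z : S ⊗[A] M) :
    Algebra.TensorProduct.map (AlgHom.id A S') f (Algebra.TensorProduct.map φ (AlgHom.id A M) z) =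
      Algebra.TensorProduct.map φ (AlgHom.id A M') (Algebra.TensorProduct.map (AlgHom.id A S) f z) := by
  induction z using TensorProduct.induction_on with
  | zero => simp
  | tmul s m => simp
  | add x y hx hy => simp only [map_add, hx, hy]

end general

section abstract

variable {A : Type u} [CommRing A] {P : Type u} [CommRing P] [Algebra A P]
  {D : Type u} [CommRing D] [Algebra A D] {d : ℕ} (g : Fin d → (P →ₐ[A] D))
  (F : PolLaw.MulLaw A P A d) {T : Type u} [CommRing T] [Algebra A T] (ιT : T →ₐ[A] D)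
  (ft : D →ₗ[A] A)
  (h1 : ft 1 = 1) (hmul : ∀ x y : T, ft (ιT x * ιT y) = ft (ιT x) * ft (ιT y))
  (hmem : ∀ (S : Type u) [CommSemiring S] [Algebra A S] (x : S ⊗[A] P),
    (tau g).law.toFun' S x ∈ LinearMap.range (ιT.toLinearMap.lTensor S))
  (hfac : ∀ (S : Type u) [CommSemiring S] [Algebra A S] (x : S ⊗[A] P),
    F.law.toFun' S x = ft.lTensor S ((tau g).law.toFun' S x))

/-- the restriction of `ft` to `T`, an algebra map -/
noncomputable def fT : T →ₐ[A] A :=
  AlgHom.ofLinearMap (ft ∘ₗ ιT.toLinearMap) (by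
    show ft (ιT 1) = 1
    rw [map_one, h1]) (fun x y => by
    show ft (ιT (x * y)) = ft (ιT x) * ft (ιT y)
    rw [map_mul, hmul])

theorem fT_apply (t : T) : fT ιT ft h1 hmul t = ft (ιT t) := rfl

variable (R : Type u) [CommRing R] [Algebra A R]

/-- `R ⊗ T → R` -/
noncomputable def hR : R ⊗[A] T →ₐ[A] R :=
  Algebra.TensorProduct.lift (AlgHom.id A R) ((Algebra.ofId A R).comp (fT ιT ft h1 hmul))
    (fun _ _ => Commute.all _ _)

theorem hR_tmul (r : R) (t : T) :
    hR ιT ft h1 hmul R (r ⊗ₜ[A] t) = r * algebraMap A R (ft (ιT t)) := by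
  unfold hR
  rw [Algebra.TensorProduct.lift_tmul]
  rfl

/-- `R → R ⊗ T` -/
noncomputable abbrev jR (T : Type u) [CommRing T] [Algebra A T] : R →ₐ[A] R ⊗[A] T :=
  Algebra.TensorProduct.includeLeft

theorem hR_comp_jR : (hR ιT ft h1 hmul R).comp (jR R T) = AlgHom.id A R := by
  apply AlgHom.ext
  intro r
  show hR ιT ft h1 hmul R (r ⊗ₜ[A] (1 : T)) = r
  rw [hR_tmul, map_one, h1, map_one, mul_one]

/-- `R ⊗ T → R ⊗ D` -/
noncomputable abbrev incR : R ⊗[A] T →ₐ[A] R ⊗[A] D :=
  Algebra.TensorProduct.map (AlgHom.id A R) ιT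

/-- `(R ⊗ T) ⊗ D → R ⊗ D` -/
noncomputable def muD : (R ⊗[A] T) ⊗[A] D →ₐ[A] R ⊗[A] D :=
  Algebra.TensorProduct.lift (incR ιT R) (Algebra.TensorProduct.includeRight)
    (fun _ _ => Commute.all _ _)

theorem muD_tmul (ρ : R ⊗[A] T) (δ : D) :
    muD ιT R (ρ ⊗ₜ[A] δ) = incR ιT R ρ * ((1 : R) ⊗ₜ[A] δ) := by
  unfold muD
  rw [Algebra.TensorProduct.lift_tmul]
  rfl

include hmul in
theorem ft_map_h (ζ : (R ⊗[A] T) ⊗[A] T) :
    ft.lTensor R (Algebra.TensorProduct.map (hR ιT ft h1 hmul R) (AlgHom.id A D)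
      (ιT.toLinearMap.lTensor (R ⊗[A] T) ζ)) =
    ft.lTensor R (muD ιT R (ιT.toLinearMap.lTensor (R ⊗[A] T) ζ)) := by
  induction ζ using TensorProduct.induction_on with
  | zero => simp
  | tmul ρ t' =>
    rw [LinearMap.lTensor_tmul, Algebra.TensorProduct.map_tmul, AlgHom.id_apply,
      LinearMap.lTensor_tmul, muD_tmul]
    induction ρ using TensorProduct.induction_on with
    | zero => simp
    | tmul r t =>
      rw [hR_tmul, Algebra.TensorProduct.map_tmul, AlgHom.id_apply,
        Algebra.TensorProduct.tmul_mul_tmul, mul_one, LinearMap.lTensor_tmul]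
      show (r * algebraMap A R (ft (ιT t))) ⊗ₜ[A] ft (ιT t') = r ⊗ₜ[A] ft (ιT t * ιT t')
      rw [hmul, mul_comm r, ← Algebra.smul_def, TensorProduct.smul_tmul, smul_eq_mul]
    | add ρ ρ' hρ hρ' =>
      have e1 : hR ιT ft h1 hmul R (ρ + ρ') = hR ιT ft h1 hmul R ρ + hR ιT ft h1 hmul R ρ' :=
        map_add _ _ _
      have e2 : incR ιT R (ρ + ρ') = incR ιT R ρ + incR ιT R ρ' := map_add _ _ _
      rw [e1, e2, TensorProduct.add_tmul, hρ, hρ', add_mul, map_add]
  | add ζ ζ' hζ hζ' => simp only [map_add, hζ, hζ']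

theorem map_id_eq {S : Type u} [CommSemiring S] [Algebra A S] (f : P →ₐ[A] D) (x : S ⊗[A] P) :
    Algebra.TensorProduct.map (AlgHom.id S S) f x = Algebra.TensorProduct.map (AlgHom.id A S) f x :=
  rfl

/-- `(R ⊗ T) ⊗ P → R ⊗ D` through the `j`-th factor -/
noncomputable def psi (j : Fin d) : (R ⊗[A] T) ⊗[A] P →ₐ[A] R ⊗[A] D :=
  (muD ιT R).comp (Algebra.TensorProduct.map (AlgHom.id A (R ⊗[A] T)) (g j))

include hmul hmem hfac in
theorem law_map_h (z : (R ⊗[A] T) ⊗[A] P) :
    F.law.toFun' R (Algebra.TensorProduct.map (hR ιT ft h1 hmul R) (AlgHom.id A P) z) =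
      ft.lTensor R (∏ j, psi g ιT R j z) := by
  rw [hfac, ← compat (tau g) (hR ιT ft h1 hmul R) z]
  obtain ⟨ζ, hζ⟩ := hmem (R ⊗[A] T) z
  rw [← hζ, ft_map_h ιT ft h1 hmul R, hζ, PolLaw.MulLaw.prodMap_toFun', map_prod]
  rfl

theorem psi_jR (j : Fin d) (x : R ⊗[A] P) :
    psi g ιT R j (Algebra.TensorProduct.map (jR R T) (AlgHom.id A P) x) =
      Algebra.TensorProduct.map (AlgHom.id A R) (g j) x := by
  unfold psi
  induction x using TensorProduct.induction_on with
  | zero => simp
  | tmul r p =>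
    rw [Algebra.TensorProduct.map_tmul, AlgHom.comp_apply, Algebra.TensorProduct.map_tmul,
      AlgHom.id_apply, AlgHom.id_apply, muD_tmul, Algebra.TensorProduct.map_tmul, AlgHom.id_apply]
    show (r ⊗ₜ[A] ιT 1) * ((1 : R) ⊗ₜ[A] g j p) = r ⊗ₜ[A] g j p
    rw [map_one, Algebra.TensorProduct.tmul_mul_tmul, mul_one, one_mul]
  | add x y hx hy => simp only [map_add, hx, hy]

theorem psi_tmul_one (j : Fin d) (ρ : R ⊗[A] T) :
    psi g ιT R j (ρ ⊗ₜ[A] (1 : P)) = incR ιT R ρ := by
  unfold psi
  rw [AlgHom.comp_apply, Algebra.TensorProduct.map_tmul, AlgHom.id_apply, map_one, muD_tmul,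
    ← Algebra.TensorProduct.one_def, mul_one]

/-- the element `y − X` -/
noncomputable def cel (y : R ⊗[A] P) : R[X] ⊗[A] P :=
  Algebra.TensorProduct.map (ι (A := A) (P := R)) (AlgHom.id A P) y - (X : R[X]) ⊗ₜ[A] (1 : P)

/-- the characteristic polynomial of `y` with respect to `F` -/
noncomputable def chi (y : R ⊗[A] P) : R[X] :=
  TensorProduct.rid A R[X] (F.law.toFun' R[X] (cel R y))

theorem polyT_tau_cel (y : R ⊗[A] P) :
    polyT R D ((tau g).law.toFun' R[X] (cel R y)) =
      ∏ i, (Polynomial.C (Algebra.TensorProduct.map (AlgHom.id A R) (g i) y) - X) := by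
  rw [PolLaw.MulLaw.prodMap_toFun', map_prod]
  refine Finset.prod_congr rfl fun i _ => ?_
  rw [map_id_eq]
  unfold cel
  rw [map_sub, Algebra.TensorProduct.map_tmul, map_one, AlgHom.id_apply, map_map_comm, map_sub,
    polyT_C, polyT_X_tmul]

include hfac in
theorem coeff_chi (y : R ⊗[A] P) (k : ℕ) :
    (chi F R y).coeff k = TensorProduct.rid A R (ft.lTensor R
      ((∏ i, (Polynomial.C (Algebra.TensorProduct.map (AlgHom.id A R) (g i) y) - X)).coeff k)) := by
  unfold chi
  rw [hfac, coeff_rid_lTensor, polyT_tau_cel]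

include hfac in
theorem chi_natDegree_le (y : R ⊗[A] P) : (chi F R y).natDegree ≤ d := by
  rw [Polynomial.natDegree_le_iff_coeff_eq_zero]
  intro k hk
  rw [coeff_chi g F ft hfac R y k]
  have h2 : (∏ i : Fin d,
      (Polynomial.C (Algebra.TensorProduct.map (AlgHom.id A R) (g i) y) - X)).natDegree ≤ d := by
    refine (Polynomial.natDegree_prod_le _ _).trans ?_
    calc ∑ i : Fin d, (Polynomial.C (Algebra.TensorProduct.map (AlgHom.id A R) (g i) y) -
          X : (R ⊗[A] D)[X]).natDegree
        ≤ ∑ _i : Fin d, 1 := Finset.sum_le_sum fun i _ => by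
          refine (Polynomial.natDegree_sub_le _ _).trans ?_
          rw [Polynomial.natDegree_C]
          exact max_le (Nat.zero_le _) Polynomial.natDegree_X_le
      _ = d := by simp
  rw [Polynomial.coeff_eq_zero_of_natDegree_lt (lt_of_le_of_lt h2 hk), map_zero, map_zero]

include h1 hfac in
theorem chi_coeff_d (y : R ⊗[A] P) : (chi F R y).coeff d = (-1) ^ d := by
  rw [coeff_chi g F ft hfac R y d]
  have h2 := Polynomial.coeff_prod_of_natDegree_le (s := (Finset.univ : Finset (Fin d)))
    (fun i => (Polynomial.C (Algebra.TensorProduct.map (AlgHom.id A R) (g i) y) - X :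
      (R ⊗[A] D)[X])) 1 (fun i _ => by
        refine (Polynomial.natDegree_sub_le _ _).trans ?_
        rw [Polynomial.natDegree_C]
        exact max_le (Nat.zero_le _) Polynomial.natDegree_X_le)
  rw [Finset.card_univ, Fintype.card_fin, mul_one] at h2
  rw [h2]
  simp only [Polynomial.coeff_sub, Polynomial.coeff_C_succ, Polynomial.coeff_X_one, zero_sub,
    Finset.prod_const, Finset.card_univ, Fintype.card_fin]
  have h3 : ((-1 : R ⊗[A] D)) ^ d = ((-1 : R) ^ d) ⊗ₜ[A] (1 : D) := by
    have h4 : (-1 : R ⊗[A] D) = (-1 : R) ⊗ₜ[A] (1 : D) := by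
      rw [TensorProduct.neg_tmul]
      rfl
    rw [h4, Algebra.TensorProduct.tmul_pow, one_pow]
  rw [h3, LinearMap.lTensor_tmul, h1, TensorProduct.rid_tmul, one_smul]

include h1 hmul hmem hfac in
/-- **Cayley–Hamilton**, abstract form -/
theorem ch_abstract (y x w : R ⊗[A] P) :
    F.law.toFun' R (x + Polynomial.aeval y (chi F R y) * w) = F.law.toFun' R x := by
  obtain ⟨ξ, hξ⟩ := hmem R[X] (cel R y)
  obtain ⟨χ', hχ'⟩ : ∃ χ' : (R ⊗[A] T)[X], χ' = polyT R T ξ := ⟨_, rfl⟩
  -- the image of `χ'` over `R ⊗ D`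
  have ha0 : χ'.map (incR ιT R).toRingHom =
      ∏ i, (Polynomial.C (Algebra.TensorProduct.map (AlgHom.id A R) (g i) y) - X) := by
    rw [hχ', ← polyT_mapC, ← polyT_tau_cel, ← hξ]
    congr 1
  -- the image of `χ'` over `R`
  have hb0 : χ'.map (hR ιT ft h1 hmul R).toRingHom = chi F R y := by
    have h_a : ft.lTensor R[X] (ιT.toLinearMap.lTensor R[X] ξ) =
        Algebra.TensorProduct.map (AlgHom.id A R[X]) (fT ιT ft h1 hmul) ξ := by
      rw [← LinearMap.comp_apply, ← LinearMap.lTensor_comp]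
      exact PolLaw.lTensor_algHom_apply (fT ιT ft h1 hmul) R[X] ξ
    have h_b : ((Algebra.TensorProduct.rid A A R).toAlgHom.toRingHom).comp
        (Algebra.TensorProduct.map (AlgHom.id A R) (fT ιT ft h1 hmul)).toRingHom =
        (hR ιT ft h1 hmul R).toRingHom := by
      apply RingHom.ext
      intro z
      show Algebra.TensorProduct.rid A A R
        (Algebra.TensorProduct.map (AlgHom.id A R) (fT ιT ft h1 hmul) z) = hR ιT ft h1 hmul R z
      induction z using TensorProduct.induction_on with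
      | zero => simp
      | tmul r t =>
        rw [Algebra.TensorProduct.map_tmul, AlgHom.id_apply, Algebra.TensorProduct.rid_tmul,
          hR_tmul, fT_apply, Algebra.smul_def, mul_comm]
      | add z z' hz hz' => simp only [map_add, hz, hz']
    unfold chi
    rw [hfac, ← hξ, h_a, ← polyT_rid, polyT_mapC, Polynomial.map_map, h_b, hχ']
  obtain ⟨yT, hyT⟩ : ∃ yT : (R ⊗[A] T) ⊗[A] P,
    yT = Algebra.TensorProduct.map (jR R T) (AlgHom.id A P) y := ⟨_, rfl⟩
  obtain ⟨cT, hcT⟩ : ∃ cT : (R ⊗[A] T) ⊗[A] P, cT = Polynomial.aeval yT χ' := ⟨_, rfl⟩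
  have hback : ∀ v : R ⊗[A] P, Algebra.TensorProduct.map (hR ιT ft h1 hmul R) (AlgHom.id A P)
      (Algebra.TensorProduct.map (jR R T) (AlgHom.id A P) v) = v := by
    intro v
    rw [LawReduced.map_map, hR_comp_jR, map_id_apply]
  -- (a)
  have ha : ∀ j, psi g ιT R j cT = 0 := by
    intro j
    have hcomp : ((psi g ιT R j).toRingHom).comp
        (algebraMap (R ⊗[A] T) ((R ⊗[A] T) ⊗[A] P)) = (incR ιT R).toRingHom := by
      apply RingHom.ext
      intro ρ
      show psi g ιT R j (algebraMap (R ⊗[A] T) ((R ⊗[A] T) ⊗[A] P) ρ) = incR ιT R ρ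
      rw [Algebra.TensorProduct.algebraMap_apply, Algebra.algebraMap_self, RingHom.id_apply,
        psi_tmul_one]
    have h2 : psi g ιT R j cT = (psi g ιT R j).toRingHom
        (Polynomial.eval₂ (algebraMap (R ⊗[A] T) ((R ⊗[A] T) ⊗[A] P)) yT χ') := by
      rw [hcT, Polynomial.aeval_def]
      rfl
    rw [h2, Polynomial.hom_eval₂, hcomp, Polynomial.eval₂_eq_eval_map, ha0, Polynomial.eval_prod]
    refine Finset.prod_eq_zero (Finset.mem_univ j) ?_
    have h3 : (psi g ιT R j).toRingHom yT =
        Algebra.TensorProduct.map (AlgHom.id A R) (g j) y := by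
      rw [hyT]
      exact psi_jR g ιT R j y
    rw [h3, Polynomial.eval_sub, Polynomial.eval_C, Polynomial.eval_X, sub_self]
  -- (b)
  have hb : Algebra.TensorProduct.map (hR ιT ft h1 hmul R) (AlgHom.id A P) cT =
      Polynomial.aeval y (chi F R y) := by
    have hcomp : ((Algebra.TensorProduct.map (hR ιT ft h1 hmul R) (AlgHom.id A P)).toRingHom).comp
        (algebraMap (R ⊗[A] T) ((R ⊗[A] T) ⊗[A] P)) =
        (algebraMap R (R ⊗[A] P)).comp (hR ιT ft h1 hmul R).toRingHom := by
      apply RingHom.ext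
      intro ρ
      show Algebra.TensorProduct.map (hR ιT ft h1 hmul R) (AlgHom.id A P)
        (algebraMap (R ⊗[A] T) ((R ⊗[A] T) ⊗[A] P) ρ) =
        algebraMap R (R ⊗[A] P) (hR ιT ft h1 hmul R ρ)
      rw [Algebra.TensorProduct.algebraMap_apply, Algebra.algebraMap_self, RingHom.id_apply,
        Algebra.TensorProduct.map_tmul, map_one, Algebra.TensorProduct.algebraMap_apply,
        Algebra.algebraMap_self, RingHom.id_apply]
    have h2 : Algebra.TensorProduct.map (hR ιT ft h1 hmul R) (AlgHom.id A P) cT =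
        (Algebra.TensorProduct.map (hR ιT ft h1 hmul R) (AlgHom.id A P)).toRingHom
          (Polynomial.eval₂ (algebraMap (R ⊗[A] T) ((R ⊗[A] T) ⊗[A] P)) yT χ') := by
      rw [hcT, Polynomial.aeval_def]
      rfl
    have h3 : (Algebra.TensorProduct.map (hR ιT ft h1 hmul R) (AlgHom.id A P)).toRingHom yT = y := by
      rw [hyT]
      exact hback y
    rw [h2, Polynomial.hom_eval₂, hcomp, h3, ← Polynomial.eval₂_map, hb0, Polynomial.aeval_def]
  -- conclusion
  obtain ⟨zT, hzT⟩ : ∃ zT : (R ⊗[A] T) ⊗[A] P,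
    zT = Algebra.TensorProduct.map (jR R T) (AlgHom.id A P) x +
      cT * Algebra.TensorProduct.map (jR R T) (AlgHom.id A P) w := ⟨_, rfl⟩
  have hz : Algebra.TensorProduct.map (hR ιT ft h1 hmul R) (AlgHom.id A P) zT =
      x + Polynomial.aeval y (chi F R y) * w := by
    rw [hzT, map_add, map_mul, hback, hback, hb]
  rw [← hz, law_map_h g F ιT ft h1 hmul hmem hfac R zT, hfac R x, PolLaw.MulLaw.prodMap_toFun']
  congr 1
  refine Finset.prod_congr rfl fun j _ => ?_
  rw [hzT, map_add, map_mul, ha j, zero_mul, add_zero, psi_jR]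
  rfl

end abstract

section free

variable {A : Type u} [CommRing A] {P : Type u} [CommRing P] [Algebra A P] {I : Type u}
  (e : Module.Basis I A P) {d : ℕ} (F : PolLaw.MulLaw A P A d)

theorem prod_singleAlgHom (p : Fin d → P) :
    ∏ j, PiTensorProduct.singleAlgHom (R := A) (A := fun _ : Fin d => P) j (p j) =
      PiTensorProduct.tprod A p := by
  classical
  simp only [PiTensorProduct.singleAlgHom_apply, MonoidHom.mulSingle_apply]
  rw [← PiTensorProduct.tprod_prod]
  exact congrArg _ (Finset.univ_prod_mulSingle p)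

include e in
/-- Cayley–Hamilton for a multiplicative law on an algebra which is free as a module -/
theorem ch_free (R : Type u) [CommRing R] [Algebra A R] (y x w : R ⊗[A] P) :
    F.law.toFun' R (x + Polynomial.aeval y (chi F R y) * w) = F.law.toFun' R x := by
  let g : Fin d → (P →ₐ[A] (⨂[A] _ : Fin d, P)) :=
    fun j => PiTensorProduct.singleAlgHom (R := A) (A := fun _ : Fin d => P) j
  let bD : Module.Basis (Fin d → I) A (⨂[A] _ : Fin d, P) :=
    Basis.piTensorProduct (fun _ : Fin d => e)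
  have hbD : ∀ v, bD v = ∏ j, g j (e (v j)) := by
    intro v
    rw [prod_singleAlgHom]
    exact Basis.piTensorProduct_apply _ _
  exact ch_abstract g F (TSplit.T e g).val (TSplit.ft e bD F) (TSplit.ft_one e g bD hbD F)
    (fun x y => TSplit.ft_mul e g bD hbD F _ _ x.2 y.2) (TSplit.tau_mem e g)
    (TSplit.factor e g bD hbD F) R y x w

include e in
theorem chi_natDegree_le_free (R : Type u) [CommRing R] [Algebra A R] (y : R ⊗[A] P) :
    (chi F R y).natDegree ≤ d := by
  let g : Fin d → (P →ₐ[A] (⨂[A] _ : Fin d, P)) :=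
    fun j => PiTensorProduct.singleAlgHom (R := A) (A := fun _ : Fin d => P) j
  let bD : Module.Basis (Fin d → I) A (⨂[A] _ : Fin d, P) :=
    Basis.piTensorProduct (fun _ : Fin d => e)
  have hbD : ∀ v, bD v = ∏ j, g j (e (v j)) := by
    intro v
    rw [prod_singleAlgHom]
    exact Basis.piTensorProduct_apply _ _
  exact chi_natDegree_le g F (TSplit.ft e bD F) (TSplit.factor e g bD hbD F) R y

include e in
theorem chi_coeff_d_free (R : Type u) [CommRing R] [Algebra A R] (y : R ⊗[A] P) :
    (chi F R y).coeff d = (-1) ^ d := by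
  let g : Fin d → (P →ₐ[A] (⨂[A] _ : Fin d, P)) :=
    fun j => PiTensorProduct.singleAlgHom (R := A) (A := fun _ : Fin d => P) j
  let bD : Module.Basis (Fin d → I) A (⨂[A] _ : Fin d, P) :=
    Basis.piTensorProduct (fun _ : Fin d => e)
  have hbD : ∀ v, bD v = ∏ j, g j (e (v j)) := by
    intro v
    rw [prod_singleAlgHom]
    exact Basis.piTensorProduct_apply _ _
  exact chi_coeff_d g F (TSplit.ft e bD F) (TSplit.ft_one e g bD hbD F)
    (TSplit.factor e g bD hbD F) R y

end free

section general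

variable {A : Type u} [CommRing A] {B : Type u} [CommRing B] [Algebra A B] {d : ℕ}
  (F : PolLaw.MulLaw A B A d)

theorem cel_map {B' : Type u} [CommRing B'] [Algebra A B'] (π : B' →ₐ[A] B)
    (R : Type u) [CommRing R] [Algebra A R] (y' : R ⊗[A] B') :
    Algebra.TensorProduct.map (AlgHom.id A R[X]) π (cel R y') =
      cel R (Algebra.TensorProduct.map (AlgHom.id A R) π y') := by
  unfold cel
  rw [map_sub, map_map_comm, Algebra.TensorProduct.map_tmul, map_one, AlgHom.id_apply]

theorem precomp_apply {B' : Type u} [CommRing B'] [Algebra A B'] (π : B' →ₐ[A] B)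
    (S : Type u) [CommSemiring S] [Algebra A S] (z : S ⊗[A] B') :
    (F.precomp π).law.toFun' S z =
      F.law.toFun' S (Algebra.TensorProduct.map (AlgHom.id A S) π z) := by
  show F.law.toFun' S (π.toLinearMap.lTensor S z) = _
  rw [PolLaw.lTensor_algHom_apply]
  rfl

theorem chi_precomp {B' : Type u} [CommRing B'] [Algebra A B'] (π : B' →ₐ[A] B)
    (R : Type u) [CommRing R] [Algebra A R] (y' : R ⊗[A] B') :
    chi (F.precomp π) R y' = chi F R (Algebra.TensorProduct.map (AlgHom.id A R) π y') := by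
  unfold chi
  rw [precomp_apply, cel_map]

theorem exists_lift_tensor (R : Type u) [CommRing R] [Algebra A R] (z : R ⊗[A] B) :
    ∃ z' : R ⊗[A] MvPolynomial B A,
      Algebra.TensorProduct.map (AlgHom.id A R)
        (MvPolynomial.aeval id : MvPolynomial B A →ₐ[A] B) z' = z := by
  have hπ : Function.Surjective (MvPolynomial.aeval id : MvPolynomial B A →ₐ[A] B) :=
    fun b => ⟨MvPolynomial.X b, by simp⟩
  obtain ⟨z', hz'⟩ := LinearMap.lTensor_surjective R
    (g := (MvPolynomial.aeval id : MvPolynomial B A →ₐ[A] B).toLinearMap) hπ z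
  refine ⟨z', ?_⟩
  rw [← hz']
  exact (PolLaw.lTensor_algHom_apply _ R z').symm

/-- the characteristic polynomial has degree at most `d` -/
theorem chi_natDegree_le' (R : Type u) [CommRing R] [Algebra A R] (y : R ⊗[A] B) :
    (chi F R y).natDegree ≤ d := by
  obtain ⟨y', rfl⟩ := exists_lift_tensor R y
  rw [← chi_precomp]
  exact chi_natDegree_le_free (MvPolynomial.basisMonomials B A) _ R y'

/-- the coefficient of `X ^ d` in the characteristic polynomial is `(-1) ^ d` -/
theorem chi_coeff_d' (R : Type u) [CommRing R] [Algebra A R] (y : R ⊗[A] B) :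
    (chi F R y).coeff d = (-1) ^ d := by
  obtain ⟨y', rfl⟩ := exists_lift_tensor R y
  rw [← chi_precomp]
  exact chi_coeff_d_free (MvPolynomial.basisMonomials B A) _ R y'

/-- **The Cayley–Hamilton theorem for multiplicative laws**: for every test ring `R` and every
`y : R ⊗ B`, the element `χ_y(y)` lies in the kernel of `F_R`. -/
theorem cayleyHamilton (R : Type u) [CommRing R] [Algebra A R] (y x w : R ⊗[A] B) :
    F.law.toFun' R (x + Polynomial.aeval y (chi F R y) * w) = F.law.toFun' R x := by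
  let π : MvPolynomial B A →ₐ[A] B := MvPolynomial.aeval id
  have hπ : Function.Surjective π := fun b => ⟨MvPolynomial.X b, by simp [π]⟩
  have hsurj : Function.Surjective (Algebra.TensorProduct.map (AlgHom.id A R) π) := by
    intro z
    obtain ⟨z', hz'⟩ := LinearMap.lTensor_surjective R (g := π.toLinearMap) hπ z
    refine ⟨z', ?_⟩
    rw [← hz']
    exact (PolLaw.lTensor_algHom_apply π R z').symm
  obtain ⟨y', rfl⟩ := hsurj y
  obtain ⟨x', rfl⟩ := hsurj x
  obtain ⟨w', rfl⟩ := hsurj w
  have h := ch_free (MvPolynomial.basisMonomials B A) (F.precomp π) R y' x' w'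
  rw [precomp_apply, precomp_apply, chi_precomp, map_add, map_mul] at h
  have h2 : Algebra.TensorProduct.map (AlgHom.id A R) π
      (Polynomial.aeval y' (chi F R (Algebra.TensorProduct.map (AlgHom.id A R) π y'))) =
      Polynomial.aeval (Algebra.TensorProduct.map (AlgHom.id A R) π y')
        (chi F R (Algebra.TensorProduct.map (AlgHom.id A R) π y')) := by
    exact (Polynomial.aeval_algHom_apply
      (Algebra.TensorProduct.map (AlgHom.id R R) π : R ⊗[A] MvPolynomial B A →ₐ[R] R ⊗[A] B) y' _).symm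
  rw [h2] at h
  exact h

end general

end Groth.Agent.Lib.Helper15.LawCH
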