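import Mathlib
import Groth.Agent.Lib.Helper15.LawCH
import Groth.Agent.Lib.Helper15.LawLocal

/-!
# Cayley–Hamilton and the kernel of a multiplicative law (helper15)
-/

set_option autoImplicit false
universe u
open scoped TensorProduct
open Polynomial

namespace Groth.Agent.Lib.Helper15.LawCHKer

open Groth.Agent.Lib.Helper15.PolLawPoly Groth.Agent.Lib.Helper15.LawReduced
  Groth.Agent.Lib.Helper15.PolyLine Groth.Agent.Lib.Helper15.LawDeriv
  Groth.Agent.Lib.Helper15.LawCH

variable {A : Type u} [CommRing A] {B : Type u} [CommRing B] [Algebra A B]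

/-- membership in the kernel can be tested on ring test algebras -/
theorem mem_ker_of_ring {C : Type u} [CommRing C] [Algebra A C] (F : B →ₚₗ[A] C) (b : B)
    (h : ∀ (R : Type u) [CommRing R] [Algebra A R] (x w : R ⊗[A] B),
      F.toFun' R (x + w * ((1 : R) ⊗ₜ[A] b)) = F.toFun' R x) : b ∈ PolLaw.ker F := by
  intro S _ _ x w
  rw [LawLocal.eq_of_ring F S (x + w * ((1 : S) ⊗ₜ[A] b)), LawLocal.eq_of_ring F S x]
  congr 1
  rw [PolLaw.rTensor_algHom_apply, PolLaw.rTensor_algHom_apply, map_add, map_mul,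
    Algebra.TensorProduct.map_tmul, map_one, AlgHom.id_apply]
  exact h _ _ _

variable {d : ℕ} (F : PolLaw.MulLaw A B A d)

theorem cel_map' {R R' : Type u} [CommRing R] [Algebra A R] [CommRing R'] [Algebra A R']
    (ψ : R →ₐ[A] R') (y : R ⊗[A] B) :
    cel R' (Algebra.TensorProduct.map ψ (AlgHom.id A B) y) =
      Algebra.TensorProduct.map (Polynomial.mapAlgHom ψ) (AlgHom.id A B) (cel R y) := by
  unfold cel
  rw [map_sub, LawReduced.map_map, LawReduced.map_map, mapAlgHom_comp_ι,
    Algebra.TensorProduct.map_tmul, AlgHom.id_apply]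
  congr 2
  show (X : R'[X]) = (X : R[X]).map (ψ : R →+* R')
  rw [Polynomial.map_X]

/-- naturality of the characteristic polynomial in the test ring -/
theorem chi_map {R R' : Type u} [CommRing R] [Algebra A R] [CommRing R'] [Algebra A R']
    (ψ : R →ₐ[A] R') (y : R ⊗[A] B) :
    chi F R' (Algebra.TensorProduct.map ψ (AlgHom.id A B) y) = (chi F R y).map (ψ : R →+* R') := by
  unfold chi
  rw [cel_map', ← compat, ← PolLaw.rTensor_algHom_apply, LawLocal.rid_rTensor]
  rfl

/-- the characteristic polynomial of `b : B` -/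
noncomputable def chiB (b : B) : A[X] :=
  TensorProduct.rid A A[X] (F.law.toFun' A[X] ((1 : A[X]) ⊗ₜ[A] b - (X : A[X]) ⊗ₜ[A] (1 : B)))

theorem chiB_eq (b : B) : chiB F b = chi F A ((1 : A) ⊗ₜ[A] b) := by
  unfold chiB chi cel
  rw [Algebra.TensorProduct.map_tmul, map_one, AlgHom.id_apply]

theorem chi_one_tmul (R : Type u) [CommRing R] [Algebra A R] (b : B) :
    chi F R ((1 : R) ⊗ₜ[A] b) = (chiB F b).map (algebraMap A R) := by
  have h := chi_map F (Algebra.ofId A R) ((1 : A) ⊗ₜ[A] b)
  rw [Algebra.TensorProduct.map_tmul, map_one, AlgHom.id_apply] at h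
  rw [h, chiB_eq]
  rfl

theorem aeval_one_tmul (R : Type u) [CommRing R] [Algebra A R] (b : B) (p : A[X]) :
    Polynomial.aeval ((1 : R) ⊗ₜ[A] b) (p.map (algebraMap A R)) =
      (1 : R) ⊗ₜ[A] Polynomial.aeval b p := by
  rw [Polynomial.aeval_map_algebraMap]
  exact Polynomial.aeval_algHom_apply
    (Algebra.TensorProduct.includeRight : B →ₐ[A] R ⊗[A] B) b p

/-- **Cayley–Hamilton**: `χ_b(b)` lies in the kernel -/
theorem aeval_chiB_mem_ker (b : B) : Polynomial.aeval b (chiB F b) ∈ PolLaw.ker F.law := by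
  apply mem_ker_of_ring
  intro R _ _ x w
  have h := cayleyHamilton F R ((1 : R) ⊗ₜ[A] b) x w
  rw [chi_one_tmul, aeval_one_tmul, mul_comm] at h
  exact h

/-- the characteristic polynomial of an element of the kernel -/
theorem chiB_of_mem_ker (b : B) (hb : b ∈ PolLaw.ker F.law) : chiB F b = (-X) ^ d := by
  unfold chiB
  have h1 := hb A[X] (-((X : A[X]) ⊗ₜ[A] (1 : B))) 1
  rw [one_mul, neg_add_eq_sub] at h1
  rw [h1]
  have h2 : -((X : A[X]) ⊗ₜ[A] (1 : B)) = (-X : A[X]) • (1 : A[X] ⊗[A] B) := by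
    rw [Algebra.TensorProduct.one_def, TensorProduct.smul_tmul', smul_eq_mul, mul_one,
      TensorProduct.neg_tmul]
  rw [h2, F.homog, (F.mult _).1, Algebra.TensorProduct.one_def, TensorProduct.smul_tmul',
    smul_eq_mul, mul_one, TensorProduct.rid_tmul, one_smul]

theorem chiB_natDegree_le (b : B) : (chiB F b).natDegree ≤ d := by
  rw [chiB_eq]
  exact chi_natDegree_le' F A _

theorem chiB_coeff_d (b : B) : (chiB F b).coeff d = (-1) ^ d := by
  rw [chiB_eq]
  exact chi_coeff_d' F A _

end Groth.Agent.Lib.Helper15.LawCHKer
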