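import Mathlib
import Groth.Agent.Lib.Helper15.LawCH
import Groth.Agent.Lib.Helper15.LawCHKer

/-!
# The polarized Cayley–Hamilton theorem for multiplicative laws (helper15)

For every test ring `R`, every `y : R ⊗ B` and every `A`-linear form `ℓ : R → A`, the image
`(ℓ ⊗ id)(χ_y(y))` of the Cayley–Hamilton element lies in the kernel of `F`.
-/

set_option autoImplicit false
universe u
open scoped TensorProduct
open Polynomial

namespace Groth.Agent.Lib.Helper15.LawCH2

open Groth.Agent.Lib.Helper15.PolLawPoly Groth.Agent.Lib.Helper15.LawReduced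
  Groth.Agent.Lib.Helper15.PolyLine Groth.Agent.Lib.Helper15.LawDeriv
  Groth.Agent.Lib.Helper15.TSplit Groth.Agent.Lib.Helper15.LawCH

section abstract

variable {A : Type u} [CommRing A] {P : Type u} [CommRing P] [Algebra A P]
  {D : Type u} [CommRing D] [Algebra A D] {d : ℕ} (g : Fin d → (P →ₐ[A] D))
  (F : PolLaw.MulLaw A P A d) {T : Type u} [CommRing T] [Algebra A T] (ιT : T →ₐ[A] D)
  (ft : D →ₗ[A] A)
  (h1 : ft 1 = 1) (hmul : ∀ x y : T, ft (ιT x * ιT y) = ft (ιT x) * ft (ιT y))
  (hmem : ∀ (S : Type u) [CommSemiring S] [Algebra A S] (x : S ⊗[A] P),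
    (tau g).law.toFun' S x ∈ LinearMap.range (ιT.toLinearMap.lTensor S))
  (hfac : ∀ (S : Type u) [CommSemiring S] [Algebra A S] (x : S ⊗[A] P),
    F.law.toFun' S x = ft.lTensor S ((tau g).law.toFun' S x))
  (R : Type u) [CommRing R] [Algebra A R]

include h1 hmul hmem hfac in
/-- the Cayley–Hamilton element lifts to `(R ⊗ T) ⊗ P`, where it is killed by all `psi j` -/
theorem exists_cT (y : R ⊗[A] P) : ∃ cT : (R ⊗[A] T) ⊗[A] P,
    (∀ j, psi g ιT R j cT = 0) ∧
      Algebra.TensorProduct.map (hR ιT ft h1 hmul R) (AlgHom.id A P) cT =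
        Polynomial.aeval y (chi F R y) := by
  obtain ⟨ξ, hξ⟩ := hmem R[X] (cel R y)
  obtain ⟨χ', hχ'⟩ : ∃ χ' : (R ⊗[A] T)[X], χ' = polyT R T ξ := ⟨_, rfl⟩
  -- the image of `χ'` over `R ⊗ D`
  have ha0 : χ'.map (incR ιT R).toRingHom =
      ∏ i, (Polynomial.C (Algebra.TensorProduct.map (AlgHom.id A R) (g i) y) - X) := by
    rw [hχ', ← polyT_mapC, ← polyT_tau_cel, ← hξ]
    congr 1
  -- the image of `χ'` over `R`
  have hb0 : χ'.map (hR ιT ft h1 hmul R).toRingHom = chi F R y := by
    have h_a : ft.lTensor R[X] (ιT.toLinearMap.lTensor R[X] ξ) =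
        Algebra.TensorProduct.map (AlgHom.id A R[X]) (fT ιT ft h1 hmul) ξ := by
      rw [← LinearMap.comp_apply, ← LinearMap.lTensor_comp]
      exact PolLaw.lTensor_algHom_apply (fT ιT ft h1 hmul) R[X] ξ
    have h_b : ((Algebra.TensorProduct.rid A A R).toAlgHom.toRingHom).comp
        (Algebra.TensorProduct.map (AlgHom.id A R) (fT ιT ft h1 hmul)).toRingHom =
        (hR ιT ft h1 hmul R).toRingHom := by
      apply RingHom.ext
      intro z
      show Algebra.TensorProduct.rid A A R
        (Algebra.TensorProduct.map (AlgHom.id A R) (fT ιT ft h1 hmul) z) = hR ιT ft h1 hmul R z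
      induction z using TensorProduct.induction_on with
      | zero => simp
      | tmul r t =>
        rw [Algebra.TensorProduct.map_tmul, AlgHom.id_apply, Algebra.TensorProduct.rid_tmul,
          hR_tmul, fT_apply, Algebra.smul_def, mul_comm]
      | add z z' hz hz' => simp only [map_add, hz, hz']
    unfold chi
    rw [hfac, ← hξ, h_a, ← polyT_rid, polyT_mapC, Polynomial.map_map, h_b, hχ']
  obtain ⟨yT, hyT⟩ : ∃ yT : (R ⊗[A] T) ⊗[A] P,
    yT = Algebra.TensorProduct.map (jR R T) (AlgHom.id A P) y := ⟨_, rfl⟩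
  obtain ⟨cT, hcT⟩ : ∃ cT : (R ⊗[A] T) ⊗[A] P, cT = Polynomial.aeval yT χ' := ⟨_, rfl⟩
  have hback : ∀ v : R ⊗[A] P, Algebra.TensorProduct.map (hR ιT ft h1 hmul R) (AlgHom.id A P)
      (Algebra.TensorProduct.map (jR R T) (AlgHom.id A P) v) = v := by
    intro v
    rw [LawReduced.map_map, hR_comp_jR, map_id_apply]
  -- (a)
  have ha : ∀ j, psi g ιT R j cT = 0 := by
    intro j
    have hcomp : ((psi g ιT R j).toRingHom).comp
        (algebraMap (R ⊗[A] T) ((R ⊗[A] T) ⊗[A] P)) = (incR ιT R).toRingHom := by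
      apply RingHom.ext
      intro ρ
      show psi g ιT R j (algebraMap (R ⊗[A] T) ((R ⊗[A] T) ⊗[A] P) ρ) = incR ιT R ρ
      rw [Algebra.TensorProduct.algebraMap_apply, Algebra.algebraMap_self, RingHom.id_apply,
        psi_tmul_one]
    have h2 : psi g ιT R j cT = (psi g ιT R j).toRingHom
        (Polynomial.eval₂ (algebraMap (R ⊗[A] T) ((R ⊗[A] T) ⊗[A] P)) yT χ') := by
      rw [hcT, Polynomial.aeval_def]
      rfl
    rw [h2, Polynomial.hom_eval₂, hcomp, Polynomial.eval₂_eq_eval_map, ha0, Polynomial.eval_prod]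
    refine Finset.prod_eq_zero (Finset.mem_univ j) ?_
    have h3 : (psi g ιT R j).toRingHom yT =
        Algebra.TensorProduct.map (AlgHom.id A R) (g j) y := by
      rw [hyT]
      exact psi_jR g ιT R j y
    rw [h3, Polynomial.eval_sub, Polynomial.eval_C, Polynomial.eval_X, sub_self]
  -- (b)
  have hb : Algebra.TensorProduct.map (hR ιT ft h1 hmul R) (AlgHom.id A P) cT =
      Polynomial.aeval y (chi F R y) := by
    have hcomp : ((Algebra.TensorProduct.map (hR ιT ft h1 hmul R) (AlgHom.id A P)).toRingHom).comp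
        (algebraMap (R ⊗[A] T) ((R ⊗[A] T) ⊗[A] P)) =
        (algebraMap R (R ⊗[A] P)).comp (hR ιT ft h1 hmul R).toRingHom := by
      apply RingHom.ext
      intro ρ
      show Algebra.TensorProduct.map (hR ιT ft h1 hmul R) (AlgHom.id A P)
        (algebraMap (R ⊗[A] T) ((R ⊗[A] T) ⊗[A] P) ρ) =
        algebraMap R (R ⊗[A] P) (hR ιT ft h1 hmul R ρ)
      rw [Algebra.TensorProduct.algebraMap_apply, Algebra.algebraMap_self, RingHom.id_apply,
        Algebra.TensorProduct.map_tmul, map_one, Algebra.TensorProduct.algebraMap_apply,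
        Algebra.algebraMap_self, RingHom.id_apply]
    have h2 : Algebra.TensorProduct.map (hR ιT ft h1 hmul R) (AlgHom.id A P) cT =
        (Algebra.TensorProduct.map (hR ιT ft h1 hmul R) (AlgHom.id A P)).toRingHom
          (Polynomial.eval₂ (algebraMap (R ⊗[A] T) ((R ⊗[A] T) ⊗[A] P)) yT χ') := by
      rw [hcT, Polynomial.aeval_def]
      rfl
    have h3 : (Algebra.TensorProduct.map (hR ιT ft h1 hmul R) (AlgHom.id A P)).toRingHom yT = y := by
      rw [hyT]
      exact hback y
    rw [h2, Polynomial.hom_eval₂, hcomp, h3, ← Polynomial.eval₂_map, hb0, Polynomial.aeval_def]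
  exact ⟨cT, ha, hb⟩

/-- `T ⊗ P → D` through the `j`-th factor -/
noncomputable def psi0 (j : Fin d) : T ⊗[A] P →ₐ[A] D :=
  Algebra.TensorProduct.productMap ιT (g j)

theorem psi0_tmul (j : Fin d) (t : T) (p : P) : psi0 g ιT j (t ⊗ₜ[A] p) = ιT t * g j p := by
  unfold psi0
  rw [Algebra.TensorProduct.productMap_apply_tmul]

theorem ext_psi (ℓ : R →ₗ[A] A) (j : Fin d) (z : (R ⊗[A] T) ⊗[A] P) :
    LawFree.ext ℓ (psi g ιT R j z) =
      psi0 g ιT j ((LawFree.ext ℓ (N := T)).rTensor P z) := by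
  induction z using TensorProduct.induction_on with
  | zero => simp
  | tmul ρ p =>
    rw [LinearMap.rTensor_tmul]
    induction ρ using TensorProduct.induction_on with
    | zero => simp
    | tmul r t =>
      unfold psi
      rw [AlgHom.comp_apply, Algebra.TensorProduct.map_tmul, AlgHom.id_apply, muD_tmul,
        Algebra.TensorProduct.map_tmul, AlgHom.id_apply, Algebra.TensorProduct.tmul_mul_tmul,
        mul_one, LawFree.ext_tmul, LawFree.ext_tmul, psi0_tmul, map_smul, smul_mul_assoc]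
    | add ρ ρ' hρ hρ' =>
      rw [TensorProduct.add_tmul, map_add, map_add, hρ, hρ', map_add, TensorProduct.add_tmul,
        map_add]
  | add z z' hz hz' => simp only [map_add, hz, hz']

theorem ext_map_hR (ℓ : R →ₗ[A] A) (z : (R ⊗[A] T) ⊗[A] P) :
    LawFree.ext ℓ (Algebra.TensorProduct.map (hR ιT ft h1 hmul R) (AlgHom.id A P) z) =
      TensorProduct.lid A P ((fT ιT ft h1 hmul).toLinearMap.rTensor P
        ((LawFree.ext ℓ (N := T)).rTensor P z)) := by
  induction z using TensorProduct.induction_on with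
  | zero => simp
  | tmul ρ p =>
    rw [LinearMap.rTensor_tmul, LinearMap.rTensor_tmul, Algebra.TensorProduct.map_tmul,
      AlgHom.id_apply, LawFree.ext_tmul, TensorProduct.lid_tmul]
    congr 1
    induction ρ using TensorProduct.induction_on with
    | zero => simp
    | tmul r t =>
      rw [hR_tmul, LawFree.ext_tmul, AlgHom.toLinearMap_apply, map_smul, fT_apply, smul_eq_mul,
        mul_comm r, ← Algebra.smul_def, map_smul, smul_eq_mul, mul_comm]
    | add ρ ρ' hρ hρ' => simp only [map_add, hρ, hρ']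
  | add z z' hz hz' => simp only [map_add, hz, hz']

/-- `T → R ⊗ T` -/
noncomputable abbrev kR : T →ₐ[A] R ⊗[A] T := Algebra.TensorProduct.includeRight

theorem psi_kR (j : Fin d) (κ : T ⊗[A] P) :
    psi g ιT R j (Algebra.TensorProduct.map (kR (T := T) R) (AlgHom.id A P) κ) =
      (1 : R) ⊗ₜ[A] psi0 g ιT j κ := by
  induction κ using TensorProduct.induction_on with
  | zero => simp
  | tmul t p =>
    unfold psi
    rw [Algebra.TensorProduct.map_tmul, AlgHom.comp_apply, Algebra.TensorProduct.map_tmul,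
      AlgHom.id_apply, AlgHom.id_apply, muD_tmul, psi0_tmul]
    show ((1 : R) ⊗ₜ[A] ιT t) * ((1 : R) ⊗ₜ[A] g j p) = _
    rw [Algebra.TensorProduct.tmul_mul_tmul, mul_one]
  | add κ κ' hκ hκ' => simp only [map_add, hκ, hκ', TensorProduct.tmul_add]

theorem map_hR_kR (κ : T ⊗[A] P) :
    Algebra.TensorProduct.map (hR ιT ft h1 hmul R) (AlgHom.id A P)
      (Algebra.TensorProduct.map (kR (T := T) R) (AlgHom.id A P) κ) =
      (1 : R) ⊗ₜ[A] TensorProduct.lid A P ((fT ιT ft h1 hmul).toLinearMap.rTensor P κ) := by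
  induction κ using TensorProduct.induction_on with
  | zero => simp
  | tmul t p =>
    rw [Algebra.TensorProduct.map_tmul, Algebra.TensorProduct.map_tmul, AlgHom.id_apply,
      AlgHom.id_apply, LinearMap.rTensor_tmul, TensorProduct.lid_tmul, AlgHom.toLinearMap_apply,
      fT_apply]
    show (hR ιT ft h1 hmul R ((1 : R) ⊗ₜ[A] t)) ⊗ₜ[A] p = _
    rw [hR_tmul, one_mul, Algebra.algebraMap_eq_smul_one, TensorProduct.smul_tmul]
  | add κ κ' hκ hκ' => simp only [map_add, hκ, hκ', TensorProduct.tmul_add]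

include hmem hfac in
/-- the kernel criterion -/
theorem mem_ker_of_psi0 (κ : T ⊗[A] P) (hκ : ∀ j, psi0 g ιT j κ = 0) :
    TensorProduct.lid A P ((fT ιT ft h1 hmul).toLinearMap.rTensor P κ) ∈ PolLaw.ker F.law := by
  apply LawCHKer.mem_ker_of_ring
  intro R _ _ x w
  have hback : ∀ v : R ⊗[A] P, Algebra.TensorProduct.map (hR ιT ft h1 hmul R) (AlgHom.id A P)
      (Algebra.TensorProduct.map (jR R T) (AlgHom.id A P) v) = v := by
    intro v
    rw [LawReduced.map_map, hR_comp_jR, map_id_apply]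
  obtain ⟨zT, hzT⟩ : ∃ zT : (R ⊗[A] T) ⊗[A] P,
    zT = Algebra.TensorProduct.map (jR R T) (AlgHom.id A P) x +
      Algebra.TensorProduct.map (jR R T) (AlgHom.id A P) w *
        Algebra.TensorProduct.map (kR (T := T) R) (AlgHom.id A P) κ := ⟨_, rfl⟩
  have hz : Algebra.TensorProduct.map (hR ιT ft h1 hmul R) (AlgHom.id A P) zT =
      x + w * ((1 : R) ⊗ₜ[A]
        TensorProduct.lid A P ((fT ιT ft h1 hmul).toLinearMap.rTensor P κ)) := by
    rw [hzT, map_add, map_mul, hback, hback, map_hR_kR]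
  rw [← hz, law_map_h g F ιT ft h1 hmul hmem hfac R zT, hfac R x, PolLaw.MulLaw.prodMap_toFun']
  congr 1
  refine Finset.prod_congr rfl fun j _ => ?_
  rw [hzT, map_add, map_mul, psi_kR, hκ j, TensorProduct.tmul_zero, mul_zero, add_zero, psi_jR]
  rfl

include h1 hmul hmem hfac in
/-- **polarized Cayley–Hamilton**, abstract form -/
theorem ext_ch_mem_ker (y : R ⊗[A] P) (ℓ : R →ₗ[A] A) :
    LawFree.ext ℓ (Polynomial.aeval y (chi F R y)) ∈ PolLaw.ker F.law := by
  obtain ⟨cT, ha, hb⟩ := exists_cT g F ιT ft h1 hmul hmem hfac R y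
  rw [← hb, ext_map_hR]
  apply mem_ker_of_psi0 g F ιT ft h1 hmul hmem hfac
  intro j
  rw [← ext_psi, ha j, map_zero]

end abstract

section free

variable {A : Type u} [CommRing A] {P : Type u} [CommRing P] [Algebra A P] {I : Type u}
  (e : Module.Basis I A P) {d : ℕ} (F : PolLaw.MulLaw A P A d)

include e in
theorem ext_ch_mem_ker_free (R : Type u) [CommRing R] [Algebra A R] (y : R ⊗[A] P)
    (ℓ : R →ₗ[A] A) :
    LawFree.ext ℓ (Polynomial.aeval y (chi F R y)) ∈ PolLaw.ker F.law := by
  let g : Fin d → (P →ₐ[A] (⨂[A] _ : Fin d, P)) :=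
    fun j => PiTensorProduct.singleAlgHom (R := A) (A := fun _ : Fin d => P) j
  let bD : Module.Basis (Fin d → I) A (⨂[A] _ : Fin d, P) :=
    Basis.piTensorProduct (fun _ : Fin d => e)
  have hbD : ∀ v, bD v = ∏ j, g j (e (v j)) := by
    intro v
    rw [prod_singleAlgHom]
    exact Basis.piTensorProduct_apply _ _
  exact ext_ch_mem_ker g F (TSplit.T e g).val (TSplit.ft e bD F) (TSplit.ft_one e g bD hbD F)
    (fun x y => TSplit.ft_mul e g bD hbD F _ _ x.2 y.2) (TSplit.tau_mem e g)
    (TSplit.factor e g bD hbD F) R y ℓ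

end free

section general

variable {A : Type u} [CommRing A] {B : Type u} [CommRing B] [Algebra A B] {d : ℕ}
  (F : PolLaw.MulLaw A B A d)

theorem ext_map {B' : Type u} [CommRing B'] [Algebra A B'] (π : B' →ₐ[A] B)
    {R : Type u} [CommRing R] [Algebra A R] (ℓ : R →ₗ[A] A) (z : R ⊗[A] B') :
    LawFree.ext ℓ (Algebra.TensorProduct.map (AlgHom.id A R) π z) = π (LawFree.ext ℓ z) := by
  induction z using TensorProduct.induction_on with
  | zero => simp
  | tmul r p =>
    rw [Algebra.TensorProduct.map_tmul, AlgHom.id_apply, LawFree.ext_tmul, LawFree.ext_tmul,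
      map_smul]
  | add z z' hz hz' => simp only [map_add, hz, hz']

/-- the image of the kernel of `F ∘ π` under a surjection `π` lies in the kernel of `F` -/
theorem map_mem_ker_of_surjective {B' : Type u} [CommRing B'] [Algebra A B'] (π : B' →ₐ[A] B)
    (hπ : Function.Surjective π) (p : B') (hp : p ∈ PolLaw.ker (F.precomp π).law) :
    π p ∈ PolLaw.ker F.law := by
  intro S _ _ x w
  have hsurj : Function.Surjective (Algebra.TensorProduct.map (AlgHom.id A S) π) := by
    intro z
    obtain ⟨z', hz'⟩ := LinearMap.lTensor_surjective S (g := π.toLinearMap) hπ z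
    refine ⟨z', ?_⟩
    rw [← hz']
    exact (PolLaw.lTensor_algHom_apply π S z').symm
  obtain ⟨x', rfl⟩ := hsurj x
  obtain ⟨w', rfl⟩ := hsurj w
  have h := hp S x' w'
  rw [precomp_apply, precomp_apply, map_add, map_mul, Algebra.TensorProduct.map_tmul,
    AlgHom.id_apply] at h
  exact h

/-- **The polarized Cayley–Hamilton theorem**: for every test ring `R`, every `y : R ⊗ B` and
every `A`-linear form `ℓ` on `R`, the element `(ℓ ⊗ id)(χ_y(y))` lies in the kernel of `F`. -/
theorem ext_cayleyHamilton (R : Type u) [CommRing R] [Algebra A R] (y : R ⊗[A] B)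
    (ℓ : R →ₗ[A] A) :
    LawFree.ext ℓ (Polynomial.aeval y (chi F R y)) ∈ PolLaw.ker F.law := by
  let π : MvPolynomial B A →ₐ[A] B := MvPolynomial.aeval id
  have hπ : Function.Surjective π := fun b => ⟨MvPolynomial.X b, by simp [π]⟩
  obtain ⟨y', rfl⟩ := exists_lift_tensor R y
  have h := ext_ch_mem_ker_free (MvPolynomial.basisMonomials B A) (F.precomp π) R y' ℓ
  have h2 : Algebra.TensorProduct.map (AlgHom.id A R) π
      (Polynomial.aeval y' (chi F R (Algebra.TensorProduct.map (AlgHom.id A R) π y'))) =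
      Polynomial.aeval (Algebra.TensorProduct.map (AlgHom.id A R) π y')
        (chi F R (Algebra.TensorProduct.map (AlgHom.id A R) π y')) := by
    exact (Polynomial.aeval_algHom_apply
      (Algebra.TensorProduct.map (AlgHom.id R R) π : R ⊗[A] MvPolynomial B A →ₐ[R] R ⊗[A] B) y' _).symm
  rw [chi_precomp] at h
  have h3 := map_mem_ker_of_surjective F π hπ _ h
  rw [← ext_map, h2] at h3
  exact h3

theorem map_aeval {R R' : Type u} [CommRing R] [Algebra A R] [CommRing R'] [Algebra A R']
    (ψ : R →ₐ[A] R') (y : R ⊗[A] B) (p : R[X]) :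
    Algebra.TensorProduct.map ψ (AlgHom.id A B) (Polynomial.aeval y p) =
      Polynomial.aeval (Algebra.TensorProduct.map ψ (AlgHom.id A B) y)
        (p.map (ψ : R →+* R')) := by
  have hcomp : ((Algebra.TensorProduct.map ψ (AlgHom.id A B)).toRingHom).comp
      (algebraMap R (R ⊗[A] B)) = (algebraMap R' (R' ⊗[A] B)).comp (ψ : R →+* R') := by
    apply RingHom.ext
    intro ρ
    show Algebra.TensorProduct.map ψ (AlgHom.id A B) (algebraMap R (R ⊗[A] B) ρ) =
      algebraMap R' (R' ⊗[A] B) (ψ ρ)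
    rw [Algebra.TensorProduct.algebraMap_apply, Algebra.algebraMap_self, RingHom.id_apply,
      Algebra.TensorProduct.map_tmul, map_one, Algebra.TensorProduct.algebraMap_apply,
      Algebra.algebraMap_self, RingHom.id_apply]
  have h2 : Algebra.TensorProduct.map ψ (AlgHom.id A B) (Polynomial.aeval y p) =
      (Algebra.TensorProduct.map ψ (AlgHom.id A B)).toRingHom
        (Polynomial.eval₂ (algebraMap R (R ⊗[A] B)) y p) := by
    rw [Polynomial.aeval_def]
    rfl
  rw [h2, Polynomial.hom_eval₂, hcomp, ← Polynomial.eval₂_map, Polynomial.aeval_def]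
  rfl

/-- the Cayley–Hamilton element is natural in the test ring -/
theorem map_ch {R R' : Type u} [CommRing R] [Algebra A R] [CommRing R'] [Algebra A R']
    (ψ : R →ₐ[A] R') (y : R ⊗[A] B) :
    Algebra.TensorProduct.map ψ (AlgHom.id A B) (Polynomial.aeval y (chi F R y)) =
      Polynomial.aeval (Algebra.TensorProduct.map ψ (AlgHom.id A B) y)
        (chi F R' (Algebra.TensorProduct.map ψ (AlgHom.id A B) y)) := by
  rw [map_aeval, LawCHKer.chi_map]

/-- the Cayley–Hamilton element over a polynomial ring lies in the extension of the kernel -/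
theorem ch_mem_map_ker_mvPolynomial (σ : Type u) (y : MvPolynomial σ A ⊗[A] B) :
    Polynomial.aeval y (chi F (MvPolynomial σ A) y) ∈ (PolLaw.ker F.law).map
      (Algebra.TensorProduct.includeRight : B →ₐ[A] MvPolynomial σ A ⊗[A] B) := by
  obtain ⟨f, hf1, hf2⟩ := LawFree.exists_repr_tcoeff (Polynomial.aeval y (chi F (MvPolynomial σ A) y))
  rw [hf2]
  refine Ideal.sum_mem _ fun α _ => ?_
  have h1 : f α ∈ PolLaw.ker F.law := by
    rw [hf1]
    exact ext_cayleyHamilton F (MvPolynomial σ A) y (MvPolynomial.lcoeff A α)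
  have h2 : (MvPolynomial.monomial α (1 : A)) ⊗ₜ[A] f α =
      ((MvPolynomial.monomial α (1 : A)) ⊗ₜ[A] (1 : B)) *
        (Algebra.TensorProduct.includeRight : B →ₐ[A] MvPolynomial σ A ⊗[A] B) (f α) := by
    rw [Algebra.TensorProduct.includeRight_apply, Algebra.TensorProduct.tmul_mul_tmul, mul_one,
      one_mul]
  rw [h2]
  exact Ideal.mul_mem_left _ _ (Ideal.mem_map_of_mem _ h1)

theorem map_includeRight_le {R R' : Type u} [CommRing R] [Algebra A R] [CommRing R'] [Algebra A R']
    (ψ : R →ₐ[A] R') (I : Ideal B) :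
    (I.map (Algebra.TensorProduct.includeRight : B →ₐ[A] R ⊗[A] B)).map
      (Algebra.TensorProduct.map ψ (AlgHom.id A B)) ≤
      I.map (Algebra.TensorProduct.includeRight : B →ₐ[A] R' ⊗[A] B) := by
  rw [Ideal.map_le_iff_le_comap, Ideal.map_le_iff_le_comap]
  intro b hb
  rw [Ideal.mem_comap, Ideal.mem_comap]
  have : Algebra.TensorProduct.map ψ (AlgHom.id A B)
      ((Algebra.TensorProduct.includeRight : B →ₐ[A] R ⊗[A] B) b) =
      (Algebra.TensorProduct.includeRight : B →ₐ[A] R' ⊗[A] B) b := by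
    show Algebra.TensorProduct.map ψ (AlgHom.id A B) ((1 : R) ⊗ₜ[A] b) = (1 : R') ⊗ₜ[A] b
    rw [Algebra.TensorProduct.map_tmul, map_one, AlgHom.id_apply]
  rw [this]
  exact Ideal.mem_map_of_mem _ hb

/-- **the Cayley–Hamilton element of any `y : R ⊗ B` lies in the extension of the kernel** -/
theorem ch_mem_map_ker (R : Type u) [CommRing R] [Algebra A R] (y : R ⊗[A] B) :
    Polynomial.aeval y (chi F R y) ∈ (PolLaw.ker F.law).map
      (Algebra.TensorProduct.includeRight : B →ₐ[A] R ⊗[A] B) := by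
  obtain ⟨yQ, hyQ⟩ := PolLawPoly.exists_lift (A := A) (B := B) R y
  rw [PolLaw.rTensor_algHom_apply] at hyQ
  have h1 := ch_mem_map_ker_mvPolynomial F R yQ
  have h2 := Ideal.mem_map_of_mem
    (Algebra.TensorProduct.map (PolLawPoly.evS (A := A) R) (AlgHom.id A B)) h1
  have h3 := map_includeRight_le (PolLawPoly.evS (A := A) R) (PolLaw.ker F.law) h2
  have h4 := map_ch F (PolLawPoly.evS (A := A) R) yQ
  rw [hyQ] at h4
  rw [← h4]
  exact h3

theorem map_ker_le_kerBC (A' : Type u) [CommRing A'] [Algebra A A'] :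
    (PolLaw.ker F.law).map (Algebra.TensorProduct.includeRight : B →ₐ[A] A' ⊗[A] B) ≤
      PolLaw.kerBC F.law A' := by
  rw [Ideal.map_le_iff_le_comap]
  intro b hb
  rw [Ideal.mem_comap]
  intro R _ _ _ _ x w
  rw [Algebra.TensorProduct.includeRight_apply, Algebra.TensorProduct.map_tmul, map_one,
    AlgHom.id_apply]
  exact hb R x w

/-- the characteristic polynomial of an element of the kernel of the base change -/
theorem chi_of_mem_kerBC (A' : Type u) [CommRing A'] [Algebra A A'] (b' : A' ⊗[A] B)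
    (hb' : b' ∈ PolLaw.kerBC F.law A') : chi F A' b' = (-X) ^ d := by
  unfold chi cel
  have h1 := hb' A'[X] (-((X : A'[X]) ⊗ₜ[A] (1 : B))) 1
  rw [one_mul, neg_add_eq_sub] at h1
  have h0 : IsScalarTower.toAlgHom A A' A'[X] = ι (A := A) (P := A') := by
    apply AlgHom.ext
    intro a
    rfl
  rw [h0] at h1
  rw [h1]
  have h2 : -((X : A'[X]) ⊗ₜ[A] (1 : B)) = (-X : A'[X]) • (1 : A'[X] ⊗[A] B) := by
    rw [Algebra.TensorProduct.one_def, TensorProduct.smul_tmul', smul_eq_mul, mul_one,
      TensorProduct.neg_tmul]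
  rw [h2, F.homog, (F.mult _).1, Algebra.TensorProduct.one_def, TensorProduct.smul_tmul',
    smul_eq_mul, mul_one, TensorProduct.rid_tmul, one_smul]

/-- elements of the kernel of the base change are nilpotent modulo the extended kernel -/
theorem pow_mem_map_ker_of_mem_kerBC (A' : Type u) [CommRing A'] [Algebra A A'] (b' : A' ⊗[A] B)
    (hb' : b' ∈ PolLaw.kerBC F.law A') :
    (-b') ^ d ∈ (PolLaw.ker F.law).map
      (Algebra.TensorProduct.includeRight : B →ₐ[A] A' ⊗[A] B) := by
  have h := ch_mem_map_ker F A' b'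
  rw [chi_of_mem_kerBC F A' b' hb', map_pow, map_neg, Polynomial.aeval_X] at h
  exact h

theorem radical_kerBC (A' : Type u) [CommRing A'] [Algebra A A'] :
    (PolLaw.kerBC F.law A').radical =
      ((PolLaw.ker F.law).map
        (Algebra.TensorProduct.includeRight : B →ₐ[A] A' ⊗[A] B)).radical := by
  apply le_antisymm
  · rw [Ideal.radical_le_radical_iff]
    intro b' hb'
    have h2 : -b' ∈ ((PolLaw.ker F.law).map
        (Algebra.TensorProduct.includeRight : B →ₐ[A] A' ⊗[A] B)).radical :=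
      ⟨d, pow_mem_map_ker_of_mem_kerBC F A' b' hb'⟩
    have h3 := neg_mem h2
    rwa [neg_neg] at h3
  · exact Ideal.radical_mono (map_ker_le_kerBC F A')

end general

end Groth.Agent.Lib.Helper15.LawCH2
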