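import Mathlib
import Groth.Agent.Lib.Helper15.EtaleSplit
import Groth.Agent.Lib.Helper15.LawImage
import Groth.Agent.Lib.Helper15.GammaFinite
import Groth.Agent.Lib.Helper15.BCLaw
import Groth.Agent.Lib.Helper15.LawCH2
import Groth.Agent.Lib.Helper15.LawLocal
import Groth.Agent.Lib.Helper13.TraceForm

/-!
# Uniqueness of the norm law of a finite étale free algebra (helper15)
-/

set_option autoImplicit false
universe u
open scoped TensorProduct

namespace Groth.Agent.Lib.Helper15.EtaleNormUnique

open Groth.Agent.Lib.Helper15.LawImage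

section connected

theorem eq_one_of_isUnit_of_idem {R : Type u} [CommRing R] {e : R} (he : IsIdempotentElem e)
    (h : IsUnit e) : e = 1 := by
  obtain ⟨u, rfl⟩ := h
  exact (Units.mul_right_inj u).mp (by rw [he.eq, mul_one])

theorem connectedSpace_of_isLocalRing (R : Type u) [CommRing R] [IsLocalRing R] :
    ConnectedSpace (PrimeSpectrum R) := by
  have : PreconnectedSpace (PrimeSpectrum R) := by
    rw [preconnectedSpace_iff_clopen]
    intro s hs
    obtain ⟨e, he, rfl⟩ := PrimeSpectrum.isClopen_iff.mp hs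
    rcases IsLocalRing.isUnit_or_isUnit_one_sub_self e with h | h
    · right
      rw [eq_one_of_isUnit_of_idem he h]
      simp
    · left
      have h1 : (1 - e) = 1 := eq_one_of_isUnit_of_idem he.one_sub h
      have : e = 0 := by
        have h2 : e = 1 - (1 - e) := by ring
        rw [h2, h1, sub_self]
      rw [this]
      simp
  exact { toPreconnectedSpace := this, toNonempty := inferInstance }

end connected

section split

variable {A : Type u} [CommRing A] [ConnectedSpace (PrimeSpectrum A)] {T : Type u} [CommRing T]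
  [Algebra A T] {d : ℕ} (e : T ≃ₐ[A] (Fin d → A))

/-- the idempotents of a split algebra -/
noncomputable def idem (i : Fin d) : T := e.symm (Pi.single i 1)

theorem idem_idem (i : Fin d) : IsIdempotentElem (idem e i) := by
  unfold IsIdempotentElem idem
  rw [← map_mul, ← Pi.single_mul, mul_one]

theorem idem_orth {i j : Fin d} (h : i ≠ j) : idem e i * idem e j = 0 := by
  unfold idem
  have h0 : (Pi.single i 1 : Fin d → A) * Pi.single j 1 = 0 := by
    funext k
    rw [Pi.mul_apply, Pi.single_apply, Pi.single_apply, Pi.zero_apply]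
    by_cases h1 : k = i
    · rw [if_pos h1, if_neg (fun h2 => h (h1.symm.trans h2)), mul_zero]
    · rw [if_neg h1, zero_mul]
  rw [← map_mul, h0, map_zero]

theorem sum_idem : ∑ i, idem e i = 1 := by
  unfold idem
  have h0 : (∑ i, Pi.single i (1 : A)) = (1 : Fin d → A) := Finset.univ_sum_single 1
  rw [← map_sum, h0, map_one]

theorem span_idem : Submodule.span A (Set.range (idem e)) = ⊤ := by
  rw [eq_top_iff]
  intro t _
  have h : t = ∑ i, (e t i) • idem e i := by
    apply e.injective
    rw [map_sum]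
    funext j
    simp only [map_smul, idem, AlgEquiv.apply_symm_apply, Finset.sum_apply, Pi.smul_apply,
      Pi.single_apply, smul_eq_mul, mul_ite, mul_one, mul_zero, Finset.sum_ite_eq,
      Finset.mem_univ, if_true]
  rw [h]
  exact Submodule.sum_mem _ fun i _ => Submodule.smul_mem _ _ (Submodule.subset_span ⟨i, rfl⟩)

theorem idem_ne_zero (i : Fin d) : idem e i ≠ 0 := by
  have := LawProduct.nontrivial_of_connected (A := A)
  intro h
  have h1 := congrArg e h
  unfold idem at h1
  rw [AlgEquiv.apply_symm_apply, map_zero] at h1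
  have h2 := congrFun h1 i
  rw [Pi.single_eq_same, Pi.zero_apply] at h2
  exact one_ne_zero h2

variable (G : PolLaw.MulLaw A T A d)

theorem ideg_eq_one (hG : PolLaw.ker G.law ≤ nilradical T) (i : Fin d) :
    ideg G (idem e i) = 1 := by
  have hpos : ∀ j, 1 ≤ ideg G (idem e j) := by
    intro j
    by_contra hlt
    have h0 : ideg G (idem e j) = 0 := by omega
    have hmem := hG (mem_ker_of_ideg_eq_zero G (idem_idem e j) h0)
    obtain ⟨n, hn⟩ := hmem
    have : idem e j = 0 := by
      rcases Nat.eq_zero_or_pos n with rfl | hnpos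
      · rw [pow_zero] at hn
        have h2 : idem e j = idem e j * 1 := (mul_one _).symm
        rw [h2, hn, mul_zero]
      · rw [← (idem_idem e j).pow_succ_eq (n - 1), Nat.sub_add_cancel hnpos, hn]
    exact idem_ne_zero e j this
  have hsum := (IdemDegree.deg_sum (ideg G) (fun e₁ e₂ h₁ h₂ h => ideg_add G h₁ h₂ h)
    Finset.univ (idem e) (fun j _ => idem_idem e j)
    (fun j _ k _ hjk => idem_orth e hjk)).2
  rw [sum_idem, ideg_one] at hsum
  have h3 : ∑ j : Fin d, 1 = ∑ j : Fin d, ideg G (idem e j) := by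
    rw [← hsum]
    simp
  exact ((Finset.sum_eq_sum_iff_of_le (fun j _ => hpos j)).mp h3 i (Finset.mem_univ i)).symm

theorem law_partial (S : Type u) [CommSemiring S] [Algebra A S] (c : Fin d → S)
    (s : Finset (Fin d)) :
    G.law.toFun' S ((1 : S) ⊗ₜ[A] (1 - ∑ i ∈ s, idem e i) + ∑ i ∈ s, c i ⊗ₜ[A] idem e i) =
      (∏ i ∈ s, c i ^ ideg G (idem e i)) ⊗ₜ[A] (1 : A) := by
  classical
  induction s using Finset.induction_on with
  | empty =>
    rw [Finset.sum_empty, Finset.sum_empty, Finset.prod_empty, sub_zero, add_zero,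
      ← Algebra.TensorProduct.one_def, (G.mult S).1, Algebra.TensorProduct.one_def]
  | insert a s ha ih =>
    have hsI : IsIdempotentElem (∑ i ∈ s, idem e i) :=
      (IdemDegree.deg_sum (ideg G) (fun e₁ e₂ h₁ h₂ h => ideg_add G h₁ h₂ h)
        s (idem e) (fun j _ => idem_idem e j) (fun j _ k _ hjk => idem_orth e hjk)).1
    have horth : idem e a * ∑ i ∈ s, idem e i = 0 := by
      rw [Finset.mul_sum]
      exact Finset.sum_eq_zero fun i hi => idem_orth e (fun h => ha (h ▸ hi))
    have key : (1 : S) ⊗ₜ[A] (1 - ∑ i ∈ insert a s, idem e i) +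
        ∑ i ∈ insert a s, c i ⊗ₜ[A] idem e i =
        ((1 : S) ⊗ₜ[A] (1 - ∑ i ∈ s, idem e i) + ∑ i ∈ s, c i ⊗ₜ[A] idem e i) *
          eps A (idem e a) S (c a) := by
      unfold eps
      rw [Finset.sum_insert ha, Finset.sum_insert ha, add_mul, mul_add, mul_add]
      have e1 : (1 - ∑ i ∈ s, idem e i) * (1 - idem e a) = 1 - (idem e a + ∑ i ∈ s, idem e i) := by
        have : (∑ i ∈ s, idem e i) * idem e a = 0 := by rw [mul_comm]; exact horth
        calc (1 - ∑ i ∈ s, idem e i) * (1 - idem e a)
            = 1 - idem e a - ∑ i ∈ s, idem e i + (∑ i ∈ s, idem e i) * idem e a := by ring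
          _ = 1 - (idem e a + ∑ i ∈ s, idem e i) := by rw [this]; ring
      have e2 : (1 - ∑ i ∈ s, idem e i) * idem e a = idem e a := by
        rw [sub_mul, one_mul, mul_comm, horth, sub_zero]
      have t1 : ((1 : S) ⊗ₜ[A] (1 - ∑ i ∈ s, idem e i)) * ((1 : S) ⊗ₜ[A] (1 - idem e a)) =
          (1 : S) ⊗ₜ[A] (1 - (idem e a + ∑ i ∈ s, idem e i)) := by
        rw [Algebra.TensorProduct.tmul_mul_tmul, one_mul, e1]
      have t2 : ((1 : S) ⊗ₜ[A] (1 - ∑ i ∈ s, idem e i)) * (c a ⊗ₜ[A] idem e a) =
          c a ⊗ₜ[A] idem e a := by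
        rw [Algebra.TensorProduct.tmul_mul_tmul, one_mul, e2]
      have t3 : (∑ i ∈ s, c i ⊗ₜ[A] idem e i) * ((1 : S) ⊗ₜ[A] (1 - idem e a)) =
          ∑ i ∈ s, c i ⊗ₜ[A] idem e i := by
        rw [Finset.sum_mul]
        refine Finset.sum_congr rfl fun i hi => ?_
        rw [Algebra.TensorProduct.tmul_mul_tmul, mul_one, mul_sub, mul_one,
          idem_orth e (fun h => ha (h ▸ hi) : i ≠ a), sub_zero]
      have t4 : (∑ i ∈ s, c i ⊗ₜ[A] idem e i) * (c a ⊗ₜ[A] idem e a) = 0 := by
        rw [Finset.sum_mul]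
        refine Finset.sum_eq_zero fun i hi => ?_
        rw [Algebra.TensorProduct.tmul_mul_tmul, idem_orth e (fun h => ha (h ▸ hi) : i ≠ a),
          TensorProduct.tmul_zero]
      rw [t1, t2, t3, t4]
      abel
    rw [key, (G.mult S).2, ih, ideg_spec G (idem_idem e a), Algebra.TensorProduct.tmul_mul_tmul,
      mul_one, Finset.prod_insert ha, mul_comm]

theorem law_eq (hG : PolLaw.ker G.law ≤ nilradical T) (S : Type u) [CommSemiring S] [Algebra A S]
    (c : Fin d → S) :
    G.law.toFun' S (∑ i, c i ⊗ₜ[A] idem e i) = (∏ i, c i) ⊗ₜ[A] (1 : A) := by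
  have h := law_partial e G S c Finset.univ
  rw [sum_idem, sub_self, TensorProduct.tmul_zero, zero_add] at h
  rw [h]
  congr 1
  refine Finset.prod_congr rfl fun i _ => ?_
  rw [ideg_eq_one e G hG, pow_one]

include e in
/-- **two multiplicative laws of degree `d` on a split algebra of rank `d` whose kernels are nil
agree** -/
theorem eq_of_split (F G : PolLaw.MulLaw A T A d) (hF : PolLaw.ker F.law ≤ nilradical T)
    (hG : PolLaw.ker G.law ≤ nilradical T) : F = G := by
  apply PolLaw.MulLaw.ext
  ext S _ _ x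
  obtain ⟨c, rfl⟩ := GammaFinite.exists_coords (idem e) (span_idem e) S x
  rw [law_eq e F hF, law_eq e G hG]

end split

section glue

open Groth.Agent.Lib.Helper15.BCLaw

variable {A : Type u} [CommRing A] {B : Type u} [CommRing B] [Algebra A B] {d : ℕ}

/-- if the base changes to `A'` of two laws agree, the laws agree on all `A'`-algebras -/
theorem eq_on_of_bcLaw_eq (A' : Type u) [CommRing A'] [Algebra A A'] (F G : PolLaw.MulLaw A B A d)
    (h : bcLaw A' F = bcLaw A' G) (R : Type u) [CommSemiring R] [Algebra A' R] [instA : Algebra A R]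
    [IsScalarTower A A' R] (y : R ⊗[A] B) : F.law.toFun' R y = G.law.toFun' R y := by
  have e : instA = Algebra.compHom R (algebraMap A A') :=
    Algebra.algebra_ext _ _ (fun a => IsScalarTower.algebraMap_apply A A' R a)
  subst e
  letI : Algebra A R := Algebra.compHom R (algebraMap A A')
  have h1 : (bcLaw A' F).law.toFun' R ((cb (B := B) A' R).symm y) =
      (bcLaw A' G).law.toFun' R ((cb (B := B) A' R).symm y) := by rw [h]
  have h2 : bcFun A' R F.law ((cb (B := B) A' R).symm y) =
      bcFun A' R G.law ((cb (B := B) A' R).symm y) := h1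
  unfold bcFun at h2
  have h3 := (ridd A' R).injective h2
  rw [AlgEquiv.apply_symm_apply] at h3
  exact h3

theorem ker_bcLaw_le_nilradical (A' : Type u) [CommRing A'] [Algebra A A']
    (F : PolLaw.MulLaw A B A d) (hF : PolLaw.ker F.law ≤ nilradical B) :
    PolLaw.ker (bcLaw A' F).law ≤ nilradical (A' ⊗[A] B) := by
  rw [ker_bcLaw]
  refine le_trans Ideal.le_radical ?_
  rw [LawCH2.radical_kerBC]
  have h1 : (PolLaw.ker F.law).map
      (Algebra.TensorProduct.includeRight : B →ₐ[A] A' ⊗[A] B) ≤ nilradical (A' ⊗[A] B) := by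
    rw [Ideal.map_le_iff_le_comap]
    intro b hb
    have hb' : IsNilpotent b := hF hb
    exact hb'.map _
  have h2 := Ideal.radical_mono h1
  rw [nilradical, Ideal.radical_idem] at h2
  exact h2

/-- **uniqueness of the multiplicative law of degree `d` with nil kernel on a finite étale free
algebra of rank `d`** -/
theorem unique_of_etale [Module.Free A B] [Module.Finite A B] [Algebra.Etale A B]
    (hd : Module.finrank A B = d) (F G : PolLaw.MulLaw A B A d)
    (hF : PolLaw.ker F.law ≤ nilradical B) (hG : PolLaw.ker G.law ≤ nilradical B) : F = G := by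
  apply PolLaw.MulLaw.ext
  apply LawLocal.ext_of_local
  intro S _ _ _ x
  haveI : Nontrivial A := (algebraMap A S).domain_nontrivial
  have hrank : Module.finrank S (S ⊗[A] B) = d := by rw [Module.finrank_baseChange, hd]
  obtain ⟨A', _, _, _, hff, ⟨E⟩⟩ := EtaleSplit.exists_split d S (S ⊗[A] B) hrank
  letI : Algebra A A' := ((algebraMap S A').comp (algebraMap A S)).toAlgebra
  haveI : IsScalarTower A S A' := IsScalarTower.of_algebraMap_eq (fun _ => rfl)
  haveI := connectedSpace_of_isLocalRing A'
  let e' : A' ⊗[A] B ≃ₐ[A'] (Fin d → A') :=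
    (Algebra.TensorProduct.cancelBaseChange A S A' A' B).symm.trans E
  have hFG : bcLaw A' F = bcLaw A' G :=
    eq_of_split e' _ _ (ker_bcLaw_le_nilradical A' F hF) (ker_bcLaw_le_nilradical A' G hG)
  have hinj : Function.Injective (algebraMap S A') := FaithfulSMul.algebraMap_injective S A'
  let φ : S →ₐ[A] A' := IsScalarTower.toAlgHom A S A'
  have h1 := eq_on_of_bcLaw_eq A' F G hFG A' (φ.toLinearMap.rTensor B x)
  rw [← PolynomialLaw.isCompat_apply' (f := F.law), ← PolynomialLaw.isCompat_apply' (f := G.law)]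
    at h1
  have h2 := congrArg (TensorProduct.rid A A') h1
  rw [LawLocal.rid_rTensor, LawLocal.rid_rTensor] at h2
  exact (TensorProduct.rid A S).injective (hinj h2)

end glue

section kerN

open Polynomial

variable {A : Type u} [CommRing A] {B : Type u} [CommRing B] [Algebra A B]

theorem coeff_norm_one_add {ι : Type*} [Fintype ι] [DecidableEq ι] (b : Module.Basis ι A B) (c : B) :
    (Algebra.norm A[X] ((1 : A[X] ⊗[A] B) + (X : A[X]) ⊗ₜ[A] c)).coeff 1 = Algebra.trace A B c := by
  rw [Algebra.norm_eq_matrix_det (b.baseChange A[X]), Algebra.trace_eq_matrix_trace b,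
    ← Matrix.coeff_det_one_add_X_smul_one]
  congr 2
  ext i j
  rw [Algebra.leftMulMatrix_eq_repr_mul, Module.Basis.baseChange_apply, add_mul, one_mul,
    Algebra.TensorProduct.tmul_mul_tmul, mul_one, map_add, Finsupp.add_apply,
    Module.Basis.baseChange_repr_tmul, Module.Basis.baseChange_repr_tmul, Matrix.add_apply,
    Matrix.smul_apply, Matrix.map_apply, Algebra.leftMulMatrix_eq_repr_mul, Module.Basis.repr_self,
    Matrix.one_apply, smul_eq_mul, Finsupp.single_apply]
  rw [Polynomial.smul_eq_C_mul ((b.repr (c * b j)) i), mul_comm (X : A[X])]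
  congr 1
  split_ifs with h1 h2 h2
  · simp
  · exact absurd h1.symm h2
  · exact absurd h2.symm h1
  · simp

/-- the kernel of the norm law of a finite free unramified algebra is zero -/
theorem ker_norm_eq_bot [Module.Free A B] [Module.Finite A B] [Algebra.FormallyUnramified A B]
    {d : ℕ} (N : PolLaw.MulLaw A B A d)
    (hN : ∀ (S : Type u) [CommRing S] [Algebra A S] (x : S ⊗[A] B),
      N.law.toFun' S x = Algebra.norm S x ⊗ₜ[A] (1 : A)) :
    PolLaw.ker N.law = ⊥ := by
  classical
  rw [eq_bot_iff]
  intro b hb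
  rw [Ideal.mem_bot]
  have htr : ∀ b' : B, Algebra.trace A B (b' * b) = 0 := by
    intro b'
    have h := hb A[X] 1 ((X : A[X]) ⊗ₜ[A] b')
    rw [Algebra.TensorProduct.tmul_mul_tmul, mul_one, (N.mult _).1, hN] at h
    have h2 := congrArg (TensorProduct.rid A A[X]) h
    have h3 : (TensorProduct.rid A A[X]) (1 : A[X] ⊗[A] A) = 1 := by
      rw [Algebra.TensorProduct.one_def, TensorProduct.rid_tmul, one_smul]
    rw [TensorProduct.rid_tmul, one_smul, h3] at h2
    rw [← coeff_norm_one_add (Module.Free.chooseBasis A B), h2, Polynomial.coeff_one,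
      if_neg (by omega)]
  have hinj := (Groth.Agent.Lib.Helper13.bijective_traceForm_of_formallyUnramified
    (Module.Free.chooseBasis A B)).1
  apply hinj
  rw [map_zero]
  ext b'
  rw [Algebra.traceForm_apply, mul_comm]
  exact htr b'

end kerN

end Groth.Agent.Lib.Helper15.EtaleNormUnique
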