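import Mathlib
import Groth.Prelude.Def_FlatCA
import Groth.Agent.Lib.Helper15.Desc8

/-!
# `B → B^` is universally injective for smooth algebras with geometrically integral fibres and a
section (helper15)
-/

set_option autoImplicit false
set_option linter.style.haveILetI false
set_option linter.unusedSectionVars false
set_option linter.style.longLine false

universe u

namespace Groth.Agent.Lib.Helper15.UnivInjCompl

open TensorProduct AlgebraicGeometry CategoryTheory

theorem isDomain_tensor_of_geomIntegralFibres (A B : Type u) [CommRing A] [CommRing B]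
    [Algebra A B] (h : FlatCA.GeomIntegralFibres A B) (K : Type u) [Field K] [Algebra A K] :
    IsDomain (B ⊗[A] K) := by
  have hp := AlgebraicGeometry.isPullback_SpecMap_of_isPushout _ _ _ _
    (CommRingCat.isPushout_tensorProduct A B K)
  have hint : AlgebraicGeometry.IsIntegral (Spec (CommRingCat.of (B ⊗[A] K))) :=
    h.geometrically_isIntegral (Spec.map (CommRingCat.ofHom (algebraMap A K))) _ _ hp
  exact (AlgebraicGeometry.affine_isIntegral_iff _).mp hint

section NZD

variable (A B : Type u) [CommRing A] [CommRing B] [Algebra A B] [IsNoetherianRing A]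
  [Module.Flat A B] (hfib : FlatCA.GeomIntegralFibres A B) (u : B →ₐ[A] A) (s : B) (hs : u s = 1)

include hfib hs in
theorem eq_zero_of_smul_eq_zero_quot (p : Ideal A) [p.IsPrime] (y : B ⊗[A] (A ⧸ p))
    (hy : s • y = 0) : y = 0 := by
  haveI := isDomain_tensor_of_geomIntegralFibres A B hfib p.ResidueField
  let j : (A ⧸ p) →ₗ[A] p.ResidueField :=
    (IsScalarTower.toAlgHom A (A ⧸ p) p.ResidueField).toLinearMap
  have hj : Function.Injective j := p.injective_algebraMap_quotient_residueField
  have hinj : Function.Injective (j.baseChange B) :=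
    Module.Flat.lTensor_preserves_injective_linearMap (M := B) j hj
  apply hinj
  rw [map_zero]
  have h1 : s • (j.baseChange B y) = 0 := by rw [← map_smul, hy, map_zero]
  rw [Algebra.smul_def] at h1
  have h2 : algebraMap B (B ⊗[A] p.ResidueField) s ≠ 0 := by
    intro hc
    let θ : B ⊗[A] p.ResidueField →ₐ[A] p.ResidueField :=
      Algebra.TensorProduct.lift ((Algebra.ofId A p.ResidueField).comp u)
        (AlgHom.id A p.ResidueField) (fun _ _ => Commute.all _ _)
    have h3 : θ (algebraMap B (B ⊗[A] p.ResidueField) s) = 1 := by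
      rw [Algebra.TensorProduct.algebraMap_apply, Algebra.algebraMap_self, RingHom.id_apply]
      show Algebra.TensorProduct.lift ((Algebra.ofId A p.ResidueField).comp u)
        (AlgHom.id A p.ResidueField) (fun _ _ => Commute.all _ _) (s ⊗ₜ[A] 1) = 1
      rw [Algebra.TensorProduct.lift_tmul, map_one, mul_one, AlgHom.comp_apply, hs, map_one]
    rw [hc, map_zero] at h3
    exact zero_ne_one h3
  exact (mul_eq_zero.mp h1).resolve_left h2

include hfib hs in
theorem eq_zero_of_smul_eq_zero (Q : Type u) [AddCommGroup Q] [Module A Q] [hQ : Module.Finite A Q]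
    (y : B ⊗[A] Q) (hy : s • y = 0) : y = 0 := by
  revert y
  induction hQ using IsNoetherianRing.induction_on_isQuotientEquivQuotientPrime A with
  | subsingleton N =>
    intro y _
    have hall : ∀ z : B ⊗[A] N, z = 0 := by
      intro z
      induction z using TensorProduct.induction_on with
      | zero => rfl
      | tmul b n => rw [Subsingleton.elim n 0, TensorProduct.tmul_zero]
      | add x y hx hy => rw [hx, hy, add_zero]
    exact hall y
  | quotient N p e =>
    intro y hy
    haveI := p.2
    have h1 : s • (e.toLinearMap.baseChange B y) = 0 := by rw [← map_smul, hy, map_zero]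
    have h2 := eq_zero_of_smul_eq_zero_quot A B hfib u s hs p.asIdeal _ h1
    have hinj : Function.Injective (e.toLinearMap.baseChange B) :=
      Module.Flat.lTensor_preserves_injective_linearMap (M := B) e.toLinearMap e.injective
    exact hinj (by rw [h2, map_zero])
  | exact N₁ N₂ N₃ f g hf hg hfg h₁ h₃ =>
    intro y hy
    have h1 : s • (g.baseChange B y) = 0 := by rw [← map_smul, hy, map_zero]
    have h2 : g.lTensor B y = 0 := h₃ _ h1
    have hex : Function.Exact (f.lTensor B) (g.lTensor B) := lTensor_exact B hfg hg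
    obtain ⟨z, rfl⟩ := (hex y).mp h2
    have hinj : Function.Injective (f.baseChange B) :=
      Module.Flat.lTensor_preserves_injective_linearMap (M := B) f hf
    have h3 : s • z = 0 := by
      apply hinj
      rw [map_smul, map_zero]
      exact hy
    rw [h₁ z h3, map_zero]

end NZD

section Main

open Groth.Agent.Lib.Helper15.RigBC Groth.Agent.Lib.Helper15.Desc

variable (A : Type u) [CommRing A] [IsNoetherianRing A] (B : Type u) [CommRing B] [Algebra A B]
  [Algebra.Smooth A B] (hfib : FlatCA.GeomIntegralFibres A B) (u : B →ₐ[A] A)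
  (Bh : Type u) [CommRing Bh] [Algebra B Bh] [Algebra A Bh] [IsScalarTower A B Bh]
  (hq : ∀ n : ℕ, Function.Bijective (Ideal.quotientMap ((RingHom.ker u ^ n).map (algebraMap B Bh))
      (algebraMap B Bh) Ideal.le_comap_map))

include hq in
theorem mem_pow_smul_top (Q : Type u) [AddCommGroup Q] [Module A Q] (x : B ⊗[A] Q)
    (hx : ((IsScalarTower.toAlgHom A B Bh).toLinearMap.rTensor Q) x = 0) (n : ℕ) :
    x ∈ ((RingHom.ker u) ^ n • ⊤ : Submodule B (B ⊗[A] Q)) := by
  obtain ⟨I, hI⟩ : ∃ I : Ideal B, I = RingHom.ker u := ⟨_, rfl⟩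
  rw [← hI]
  rw [← hI] at hq
  let e : (B ⧸ I ^ n) ≃+* (Bh ⧸ (I ^ n).map (algebraMap B Bh)) := RingEquiv.ofBijective _ (hq n)
  have he : ∀ b : B, e (Ideal.Quotient.mk _ b) = Ideal.Quotient.mk _ (algebraMap B Bh b) :=
    fun b => rfl
  have hes : ∀ b : B, e.symm (Ideal.Quotient.mk _ (algebraMap B Bh b)) = Ideal.Quotient.mk _ b := by
    intro b; rw [← he, RingEquiv.symm_apply_apply]
  let σ : Bh →ₐ[A] B ⧸ I ^ n :=
    { toRingHom := (e.symm : _ →+* _).comp (Ideal.Quotient.mk ((I ^ n).map (algebraMap B Bh)))
      commutes' := fun a => by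
        show e.symm (Ideal.Quotient.mk _ (algebraMap A Bh a)) = _
        rw [IsScalarTower.algebraMap_apply A B Bh, hes]
        rfl }
  have hσ : ∀ b : B, σ (algebraMap B Bh b) = Ideal.Quotient.mk _ b := hes
  let π : B →ₗ[A] B ⧸ I ^ n := (Ideal.Quotient.mkₐ A (I ^ n)).toLinearMap
  have hcomp : σ.toLinearMap ∘ₗ (IsScalarTower.toAlgHom A B Bh).toLinearMap = π := by
    apply LinearMap.ext
    intro b
    exact hσ b
  have h1 : (π.rTensor Q) x = 0 := by
    rw [← hcomp, LinearMap.rTensor_comp, LinearMap.comp_apply, hx, map_zero]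
  let F : ↥((I ^ n).restrictScalars A) →ₗ[A] B := ((I ^ n).restrictScalars A).subtype
  have hexact : Function.Exact F π := by
    intro b
    constructor
    · intro hb
      have hb' : b ∈ I ^ n := Ideal.Quotient.eq_zero_iff_mem.mp hb
      exact ⟨⟨b, hb'⟩, rfl⟩
    · rintro ⟨y, rfl⟩
      exact Ideal.Quotient.eq_zero_iff_mem.mpr y.2
  have hsurj : Function.Surjective π := Ideal.Quotient.mk_surjective
  have hex2 := rTensor_exact Q hexact hsurj
  have key : ∀ w, (F.rTensor Q) w ∈ (I ^ n • ⊤ : Submodule B (B ⊗[A] Q)) := by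
    intro w
    induction w using TensorProduct.induction_on with
    | zero => rw [map_zero]; exact Submodule.zero_mem _
    | tmul i q =>
      rw [LinearMap.rTensor_tmul]
      have : (F i) ⊗ₜ[A] q = (F i) • ((1 : B) ⊗ₜ[A] q) := by
        rw [TensorProduct.smul_tmul', smul_eq_mul, mul_one]
      rw [this]
      exact Submodule.smul_mem_smul i.2 trivial
    | add w₁ w₂ h₁ h₂ =>
      rw [map_add]
      exact Submodule.add_mem _ h₁ h₂
  obtain ⟨w, rfl⟩ := (hex2 x).mp h1
  exact key w

include hfib hq in
theorem rTensor_injective_of_finite (Q : Type u) [AddCommGroup Q] [Module A Q] [Module.Finite A Q] :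
    Function.Injective ((IsScalarTower.toAlgHom A B Bh).toLinearMap.rTensor Q) := by
  haveI : IsNoetherianRing B := Algebra.FiniteType.isNoetherianRing A B
  rw [injective_iff_map_eq_zero]
  intro x hx
  have hmem : x ∈ (⨅ n : ℕ, (RingHom.ker u) ^ n • ⊤ : Submodule B (B ⊗[A] Q)) := by
    rw [Submodule.mem_iInf]
    exact mem_pow_smul_top A B u Bh hq Q x hx
  obtain ⟨r, hr⟩ := (Ideal.mem_iInf_smul_pow_eq_bot_iff (RingHom.ker u) x).mp hmem
  have hs : u (1 - (r : B)) = 1 := by
    rw [map_sub, map_one, (RingHom.mem_ker).mp r.2, sub_zero]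
  apply eq_zero_of_smul_eq_zero A B hfib u (1 - (r : B)) hs Q x
  have h : (1 - (r : B)) • x = (1 : B) • x - (r : B) • x := sub_smul 1 (r : B) x
  rw [h, one_smul, hr, sub_self]

include hq in
theorem isDenseIso_of_hq : IsDenseIso (RingHom.ker u) (algebraMap B Bh) where
  dense k r := by
    obtain ⟨y, hy⟩ := (hq k).2 (Ideal.Quotient.mk _ r)
    obtain ⟨t, rfl⟩ := Ideal.Quotient.mk_surjective y
    rw [Ideal.quotientMap_mk, eq_comm, Ideal.Quotient.eq] at hy
    exact ⟨t, hy⟩
  closed k t ht := by
    have h1 : Ideal.quotientMap ((RingHom.ker u ^ k).map (algebraMap B Bh)) (algebraMap B Bh)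
        Ideal.le_comap_map (Ideal.Quotient.mk _ t) = 0 := by
      rw [Ideal.quotientMap_mk]; exact Ideal.Quotient.eq_zero_iff_mem.mpr ht
    have h2 := (hq k).1 (h1.trans (map_zero _).symm)
    exact Ideal.Quotient.eq_zero_iff_mem.mp h2

include hq in
theorem flat_Bh [IsAdicComplete ((RingHom.ker u).map (algebraMap B Bh)) Bh] :
    Module.Flat A Bh := by
  haveI : IsNoetherianRing B := Algebra.FiniteType.isNoetherianRing A B
  obtain ⟨e, he⟩ := exists_ringEquiv_completion (RingHom.ker u) (algebraMap B Bh)
    (isDenseIso_of_hq A B u Bh hq)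
  let eL : Bh ≃ₗ[B] AdicCompletion (RingHom.ker u) B :=
    { e with
      map_smul' := fun b x => by
        show e (b • x) = b • e x
        rw [Algebra.smul_def, map_mul, he, Algebra.smul_def]
        rfl }
  haveI : Module.Flat B Bh := Module.Flat.of_linearEquiv eL
  exact Module.Flat.trans A B Bh

include hfib hq in
theorem rTensor_injective [IsAdicComplete ((RingHom.ker u).map (algebraMap B Bh)) Bh]
    (Q : Type u) [AddCommGroup Q] [Module A Q] :
    Function.Injective ((IsScalarTower.toAlgHom A B Bh).toLinearMap.rTensor Q) := by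
  haveI := flat_Bh A B u Bh hq
  rw [injective_iff_map_eq_zero]
  intro x hx
  obtain ⟨Q', hQ', hxQ'⟩ := TensorProduct.exists_finite_submodule_right_of_setFinite
    ({x} : Set (B ⊗[A] Q)) (Set.finite_singleton x)
  obtain ⟨x₀, rfl⟩ := hxQ' (Set.mem_singleton x)
  have hinj : Function.Injective (Q'.subtype.lTensor Bh) :=
    Module.Flat.lTensor_preserves_injective_linearMap (M := Bh) Q'.subtype Q'.injective_subtype
  have h1 : (Q'.subtype.lTensor Bh)
      (((IsScalarTower.toAlgHom A B Bh).toLinearMap.rTensor Q') x₀) = 0 := by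
    rw [← LinearMap.comp_apply, LinearMap.lTensor_comp_rTensor, ← LinearMap.rTensor_comp_lTensor,
      LinearMap.comp_apply]
    exact hx
  have h2 : ((IsScalarTower.toAlgHom A B Bh).toLinearMap.rTensor Q') x₀ = 0 :=
    hinj (by rw [h1, map_zero])
  have h3 : x₀ = 0 := rTensor_injective_of_finite A B hfib u Bh hq Q' (by rw [h2, map_zero])
  rw [h3, map_zero]

include hfib hq in
theorem main17619 [IsAdicComplete ((RingHom.ker u).map (algebraMap B Bh)) Bh] :
    FlatCA.UnivInj A (IsScalarTower.toAlgHom A B Bh).toLinearMap := by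
  intro Q _ _
  rw [← LinearMap.comm_comp_rTensor_comp_comm_eq]
  exact (TensorProduct.comm A Bh Q).injective.comp
    ((rTensor_injective A B hfib u Bh hq Q).comp (TensorProduct.comm A Q B).injective)

end Main

end Groth.Agent.Lib.Helper15.UnivInjCompl
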