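import Mathlib
import Groth.Prelude.Def_FlatCA
import Groth.Agent.Lib.Helper15.FB3
import Groth.Agent.Lib.Helper15.UnivInjCompl
import Groth.Agent.Lib.Helper18.FlF

/-!
# Pieces for S1205: universal nonzerodivisors in algebras with geometrically integral fibres
-/

set_option autoImplicit false
set_option linter.style.haveILetI false
set_option linter.unusedSectionVars false
set_option linter.style.longLine false
set_option linter.unusedVariables false

universe u

namespace Groth.Agent.Lib.Helper15.FB

open TensorProduct Groth.Agent.Lib.Helper18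

section Prime

variable {R S : Type u} [CommRing R] [CommRing S] [Algebra R S]

theorem isPrime_map_of_geomIntegralFibres [Module.Flat R S] (hgi : FlatCA.GeomIntegralFibres R S)
    (p₀ : Ideal R) [p₀.IsPrime] : (p₀.map (algebraMap R S)).IsPrime := by
  haveI := UnivInjCompl.isDomain_tensor_of_geomIntegralFibres R S hgi p₀.ResidueField
  let φ : S →+* S ⊗[R] p₀.ResidueField :=
    (Algebra.TensorProduct.includeLeft : S →ₐ[R] S ⊗[R] p₀.ResidueField).toRingHom
  have hker : RingHom.ker φ = p₀.map (algebraMap R S) := by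
    ext s
    rw [RingHom.mem_ker]
    show s ⊗ₜ[R] (1 : p₀.ResidueField) = 0 ↔ _
    constructor
    · intro hs
      let j : (R ⧸ p₀) →ₗ[R] p₀.ResidueField :=
        (IsScalarTower.toAlgHom R (R ⧸ p₀) p₀.ResidueField).toLinearMap
      have hj : Function.Injective j := p₀.injective_algebraMap_quotient_residueField
      have hinj : Function.Injective (j.lTensor S) :=
        Module.Flat.lTensor_preserves_injective_linearMap (M := S) j hj
      have h1 : j.lTensor S (s ⊗ₜ[R] (1 : R ⧸ p₀)) = 0 := by
        rw [LinearMap.lTensor_tmul]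
        have : j 1 = 1 := map_one (IsScalarTower.toAlgHom R (R ⧸ p₀) p₀.ResidueField)
        rw [this, hs]
      have h2 : s ⊗ₜ[R] (1 : R ⧸ p₀) = 0 := hinj (by rw [h1, map_zero])
      have h3 := congrArg (TensorProduct.tensorQuotEquivQuotSMul S p₀) h2
      rw [map_zero, ← map_one (Ideal.Quotient.mk p₀), TensorProduct.tensorQuotEquivQuotSMul_tmul_mk,
        one_smul, Submodule.Quotient.mk_eq_zero, Ideal.smul_top_eq_map] at h3
      exact h3
    · intro hs
      refine Submodule.span_induction (p := fun s _ => s ⊗ₜ[R] (1 : p₀.ResidueField) = 0)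
        ?_ ?_ ?_ ?_ hs
      · rintro _ ⟨a, ha, rfl⟩
        rw [Algebra.algebraMap_eq_smul_one, TensorProduct.smul_tmul, Algebra.smul_def, mul_one]
        have : algebraMap R p₀.ResidueField a = 0 := by
          rw [Ideal.algebraMap_residueField_eq_zero]; exact ha
        rw [this, TensorProduct.tmul_zero]
      · rw [TensorProduct.zero_tmul]
      · intro a b _ _ ha hb
        rw [TensorProduct.add_tmul, ha, hb, add_zero]
      · intro c a _ ha
        have : (c • a) ⊗ₜ[R] (1 : p₀.ResidueField) = (c ⊗ₜ[R] (1 : p₀.ResidueField)) *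
            (a ⊗ₜ[R] (1 : p₀.ResidueField)) := by
          rw [Algebra.TensorProduct.tmul_mul_tmul, mul_one, smul_eq_mul]
        rw [this, ha, mul_zero]
  rw [← hker]
  exact RingHom.ker_isPrime φ

end Prime

section NZD

variable {R S : Type u} [CommRing R] [CommRing S] [Algebra R S]

instance flat_pi_fin [Module.Flat R S] (r : ℕ) : Module.Flat R (Fin r → S) :=
  Module.Flat.of_linearEquiv ((Finsupp.linearEquivFunOnFinite R S (Fin r)).symm.trans
    (finsuppLEquivDirectSum R S (Fin r)))

/-- local form: `h ∉ p₀ S` acts injectively on `Q ⊗ S^r` near `P` -/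
theorem exists_smul_eq_zero_of_smul_eq_zero [Algebra.FinitePresentation R S] [Module.Flat R S]
    (P : Ideal S) [P.IsPrime] (h : S)
    (hprime : ((P.comap (algebraMap R S)).map (algebraMap R S)).IsPrime)
    (hh : h ∉ (P.comap (algebraMap R S)).map (algebraMap R S)) {r : ℕ}
    (Q : Type u) [AddCommGroup Q] [Module R Q] (z : (Fin r → S) ⊗[R] Q) (hz : h • z = 0) :
    ∃ t ∉ P, t • z = 0 := by
  haveI : Module.Flat R (LocalizedModule P.primeCompl (Fin r → S)) := Fl.flat_localizedModule _
  have hu : ∀ x : Fin r → S,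
      (∃ s ∉ P, s • (LinearMap.lsmul S (Fin r → S) h) x ∈
        (P.comap (algebraMap R S)) • (⊤ : Submodule R (Fin r → S))) →
      ∃ s ∉ P, s • x ∈ (P.comap (algebraMap R S)) • (⊤ : Submodule R (Fin r → S)) := by
    rintro x ⟨s, hs, hsx⟩
    refine ⟨s, hs, ?_⟩
    rw [mem_smul_top_pi_iff] at hsx ⊢
    intro i
    have h1 := hsx i
    rw [LinearMap.lsmul_apply, Pi.smul_apply, Pi.smul_apply, smul_eq_mul, smul_eq_mul,
      mul_left_comm] at h1
    rcases hprime.mem_or_mem h1 with h2 | h2
    · exact absurd h2 hh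
    · rw [Pi.smul_apply, smul_eq_mul]; exact h2
  obtain ⟨h1, h2⟩ := Groth.Agent.Lib27.FibInj.fibInj_at_prime P
    (LinearMap.lsmul S (Fin r → S) h) hu
  haveI := h2
  have hui : FlatCA.UnivInj R ((LocalizedModule.map P.primeCompl
      (LinearMap.lsmul S (Fin r → S) h)).restrictScalars R) :=
    fun Q _ _ => Groth.Agent.Lib27.FibInj.lTensor_injective_of_flat_coker
      ((LocalizedModule.map P.primeCompl
        (LinearMap.lsmul S (Fin r → S) h)).restrictScalars R) h1 Q
  rw [univInj_map_iff] at hui
  obtain ⟨t, ht, htz⟩ := hui Q z (by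
    rw [← Groth.Agent.Lib27.FibInj.smul_eq_rTensor_lsmul]; exact hz)
  exact ⟨t, ht, htz⟩

/-- global form on `D(f)` -/
theorem exists_pow_smul_eq_zero_of_smul_eq_zero [Algebra.FinitePresentation R S] [Module.Flat R S]
    (f : R) (h : S)
    (H : ∀ (P : Ideal S) [P.IsPrime], algebraMap R S f ∉ P →
      ((P.comap (algebraMap R S)).map (algebraMap R S)).IsPrime ∧
        h ∉ (P.comap (algebraMap R S)).map (algebraMap R S)) {r : ℕ}
    (Q : Type u) [AddCommGroup Q] [Module R Q] (z : (Fin r → S) ⊗[R] Q) (hz : h • z = 0) :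
    ∃ n : ℕ, (algebraMap R S f) ^ n • z = 0 := by
  refine exists_pow_smul_eq_zero (S := S) (W := (Fin r → S) ⊗[R] Q) (algebraMap R S f) z ?_
  intro P _ hfP
  obtain ⟨h1, h2⟩ := H P hfP
  exact exists_smul_eq_zero_of_smul_eq_zero P h h1 h2 Q z hz

end NZD

section Retract

variable {S : Type u} [CommRing S] {M N : Type u} [AddCommGroup M] [Module S M]
  [AddCommGroup N] [Module S N]

theorem exists_retraction (P : Ideal S) [P.IsPrime] [Module.Finite S M]
    [Module.FinitePresentation S N] (α : M →ₗ[S] N)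
    (hbij : Function.Bijective (LocalizedModule.map P.primeCompl α)) :
    ∃ (β : N →ₗ[S] M) (h : S), h ∉ P ∧ ∀ x, β (α x) = h • x := by
  let fM := LocalizedModule.mkLinearMap P.primeCompl M
  let fN := LocalizedModule.mkLinearMap P.primeCompl N
  have hfun : ⇑(IsLocalizedModule.map P.primeCompl fM fN α) = ⇑(LocalizedModule.map P.primeCompl α) := by
    funext y
    induction y using LocalizedModule.induction_on with
    | h m s => rw [LocalizedModule.map_mk, IsLocalizedModule.map_LocalizedModules]
  have hbij' : Function.Bijective (IsLocalizedModule.map P.primeCompl fM fN α) := by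
    rw [hfun]; exact hbij
  let e : LocalizedModule P.primeCompl M ≃ₗ[S] LocalizedModule P.primeCompl N :=
    LinearEquiv.ofBijective _ hbij'
  obtain ⟨β₀, s₀, H⟩ := Module.FinitePresentation.exists_lift_of_isLocalizedModule P.primeCompl fM
    (e.symm.toLinearMap.comp fN)
  have H₂ : fM ∘ₗ (β₀ ∘ₗ α) = fM ∘ₗ (s₀ • LinearMap.id) := by
    rw [← LinearMap.comp_assoc, H, LinearMap.smul_comp, LinearMap.comp_assoc,
      ← IsLocalizedModule.map_comp P.primeCompl fM fN α, ← LinearMap.comp_assoc]
    change s₀ • (e.symm.toLinearMap ∘ₗ e.toLinearMap) ∘ₗ _ = _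
    simp [LinearMap.comp_smul]
  obtain ⟨s₂, hs₂⟩ := Module.Finite.exists_smul_of_comp_eq_of_isLocalizedModule P.primeCompl fM _ _ H₂
  refine ⟨(s₂ : S) • β₀, (s₂ : S) * (s₀ : S), ?_, ?_⟩
  · exact (s₂ * s₀).2
  · intro x
    have := LinearMap.congr_fun hs₂ x
    simp only [LinearMap.smul_apply, LinearMap.comp_apply, LinearMap.id_apply,
      Submonoid.smul_def] at this
    rw [LinearMap.smul_apply, this, mul_smul]

end Retract

end Groth.Agent.Lib.Helper15.FB
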