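import Mathlib
import Groth.Prelude.Def_FlatCA
import Groth.Agent.Lib.Helper15.FB4

/-!
# S1205: flatness at a point in terms of a map from a free module inducing a fibre basis
-/

set_option autoImplicit false
set_option linter.style.haveILetI false
set_option linter.unusedSectionVars false
set_option linter.style.longLine false
set_option linter.unusedVariables false

universe u

namespace Groth.Agent.Lib.Helper15.FB

open TensorProduct Groth.Agent.Lib.Helper18

section Main

variable {R S : Type u} [CommRing R] [CommRing S] [Algebra R S]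
  [Algebra.FinitePresentation R S] [Module.Flat R S]
  (hgi : FlatCA.GeomIntegralFibres R S) (rr : Ideal R) [rr.IsPrime]
  [(rr.map (algebraMap R S)).IsPrime] (q : Ideal S) [q.IsPrime] [q.LiesOver rr]
  {N : Type u} [AddCommGroup N] [Module S N] [Module R N] [IsScalarTower R S N]
  [Module.FinitePresentation S N]

include q in
theorem comap_q : q.comap (algebraMap R S) = rr :=
  ((Ideal.LiesOver.over (p := rr) (P := q))).symm

include q in
theorem map_le_q : rr.map (algebraMap R S) ≤ q := by
  rw [Ideal.map_le_iff_le_comap, comap_q rr q]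

include q in
theorem comap_map_rr : (rr.map (algebraMap R S)).comap (algebraMap R S) = rr := by
  apply le_antisymm
  · have := Ideal.comap_mono (f := algebraMap R S) (map_le_q rr q)
    rw [comap_q rr q] at this
    exact this
  · exact Ideal.le_comap_map

/-- (5) ⇒ (6) -/
theorem injective_map_q_of_injective_map_p {r : ℕ} (α : (Fin r → S) →ₗ[S] N)
    (hinj : Function.Injective (LocalizedModule.map (rr.map (algebraMap R S)).primeCompl α)) :
    Function.Injective (LocalizedModule.map q.primeCompl α) := by
  rw [injective_map_iff] at hinj ⊢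
  intro x hx
  obtain ⟨g, hg, hgx⟩ := hinj x hx
  have hprime : ((q.comap (algebraMap R S)).map (algebraMap R S)).IsPrime := by
    rw [comap_q rr q]; infer_instance
  have hh : g ∉ (q.comap (algebraMap R S)).map (algebraMap R S) := by
    rw [comap_q rr q]; exact hg
  obtain ⟨t, ht, htz⟩ := exists_smul_eq_zero_of_smul_eq_zero q g hprime hh R
    (x ⊗ₜ[R] (1 : R)) (by rw [TensorProduct.smul_tmul', hgx, TensorProduct.zero_tmul])
  refine ⟨t, ht, ?_⟩
  rw [TensorProduct.smul_tmul'] at htz
  have := congrArg (TensorProduct.rid R (Fin r → S)) htz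
  rw [TensorProduct.rid_tmul, one_smul, map_zero] at this
  exact this

include hgi in
/-- (1) ⇒ (2), first half -/
theorem exists_univInj_of_flat {r : ℕ} (α : (Fin r → S) →ₗ[S] N)
    (hb : Function.Bijective (α.baseChange (rr.map (algebraMap R S)).ResidueField))
    (hflat : Module.Flat R (LocalizedModule q.primeCompl N)) :
    ∃ f : R, f ∉ rr ∧ FlatCA.UnivInj R ((LocalizedModule.map
      (Submonoid.powers (algebraMap R S f)) α).restrictScalars R) := by
  obtain ⟨hinjq, -⟩ := injective_and_flat_coker_of_flat rr q α hb.1 hflat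
  have hle : q.primeCompl ≤ (rr.map (algebraMap R S)).primeCompl := by
    intro s hs hsp
    exact hs (map_le_q rr q hsp)
  have hinjp := injective_map_mono α hle hinjq
  have hsurjp := surjective_map_of_baseChange_surjective (rr.map (algebraMap R S)) α hb.2
  obtain ⟨β, h, hh, hβ⟩ := exists_retraction (rr.map (algebraMap R S)) α ⟨hinjp, hsurjp⟩
  -- choose `f`
  haveI : Algebra.HasGoingDown R S := Algebra.HasGoingDown.of_flat
  have hopen := PrimeSpectrum.isOpenMap_comap_of_hasGoingDown_of_finitePresentation (R := R) (S := S)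
    _ (PrimeSpectrum.basicOpen h).isOpen
  have hmem : (⟨rr, inferInstance⟩ : PrimeSpectrum R) ∈
      PrimeSpectrum.comap (algebraMap R S) '' (PrimeSpectrum.basicOpen h : Set (PrimeSpectrum S)) := by
    refine ⟨⟨rr.map (algebraMap R S), inferInstance⟩, ?_, ?_⟩
    · exact hh
    · apply PrimeSpectrum.ext
      exact comap_map_rr rr q
  obtain ⟨_, ⟨f, rfl⟩, hfrr, hfsub⟩ :=
    PrimeSpectrum.isTopologicalBasis_basic_opens.exists_subset_of_mem_open hmem hopen
  refine ⟨f, hfrr, ?_⟩
  have H : ∀ (P : Ideal S) [P.IsPrime], algebraMap R S f ∉ P →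
      ((P.comap (algebraMap R S)).map (algebraMap R S)).IsPrime ∧
        h ∉ (P.comap (algebraMap R S)).map (algebraMap R S) := by
    intro P _ hfP
    refine ⟨isPrime_map_of_geomIntegralFibres hgi _, ?_⟩
    have h1 : (⟨P.comap (algebraMap R S), inferInstance⟩ : PrimeSpectrum R) ∈
        (PrimeSpectrum.basicOpen f : Set (PrimeSpectrum R)) := hfP
    obtain ⟨P', hP', hP'eq⟩ := hfsub h1
    have h2 : P'.asIdeal.comap (algebraMap R S) = P.comap (algebraMap R S) :=
      congrArg PrimeSpectrum.asIdeal hP'eq
    intro hc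
    apply hP'
    have h3 : (P.comap (algebraMap R S)).map (algebraMap R S) ≤ P'.asIdeal := by
      rw [Ideal.map_le_iff_le_comap, h2]
    exact h3 hc
  rw [univInj_map_iff]
  intro Q _ _ z hz
  have hz' : h • z = 0 := by
    rw [Groth.Agent.Lib27.FibInj.smul_eq_rTensor_lsmul]
    have : (LinearMap.lsmul S (Fin r → S) h).restrictScalars R =
        (β.restrictScalars R) ∘ₗ (α.restrictScalars R) := by
      refine LinearMap.ext fun x => ?_
      show h • x = β (α x)
      rw [hβ]
    rw [this, LinearMap.rTensor_comp, LinearMap.comp_apply, hz, map_zero]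
  obtain ⟨n, hn⟩ := exists_pow_smul_eq_zero_of_smul_eq_zero f h H Q z hz'
  exact ⟨_, ⟨n, rfl⟩, hn⟩

/-- (1) ⇒ (2), second half -/
theorem exists_flat_away_of_flatAt (X : Type u) [AddCommGroup X] [Module S X] [Module R X]
    [IsScalarTower R S X] [Module.FinitePresentation S X]
    (hflat : Module.Flat R (LocalizedModule q.primeCompl X)) :
    ∃ g : S, g ∉ q ∧ Module.Flat R (LocalizedModule (Submonoid.powers g) X) := by
  have hopen := Fl.isOpen_flatLocus (R := R) (S := S) (M := X)
  have hmem : (⟨q, inferInstance⟩ : PrimeSpectrum S) ∈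
      {q : PrimeSpectrum S | Module.Flat R (LocalizedModule q.asIdeal.primeCompl X)} := hflat
  obtain ⟨_, ⟨g, rfl⟩, hgq, hgsub⟩ :=
    PrimeSpectrum.isTopologicalBasis_basic_opens.exists_subset_of_mem_open hmem hopen
  refine ⟨g, hgq, ?_⟩
  rw [FACP.flat_isLocalizedModule_iff (R := R) (Submonoid.powers g)
    (LocalizedModule.mkLinearMap (Submonoid.powers g) X)]
  intro I z hz
  obtain ⟨n, hn⟩ := exists_pow_smul_eq_zero (S := S) (W := X ⊗[R] I) g z (by
    intro P _ hgP
    have hP : Module.Flat R (LocalizedModule P.primeCompl X) :=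
      hgsub (show (⟨P, inferInstance⟩ : PrimeSpectrum S) ∈
        (PrimeSpectrum.basicOpen g : Set (PrimeSpectrum S)) from hgP)
    rw [FACP.flat_isLocalizedModule_iff (R := R) P.primeCompl
      (LocalizedModule.mkLinearMap P.primeCompl X)] at hP
    obtain ⟨t, ht, htz⟩ := hP I z hz
    exact ⟨t, ht, htz⟩)
  exact ⟨_, ⟨n, rfl⟩, hn⟩

include hgi in
theorem main1205 :
    (∃ (r : ℕ) (α : (Fin r → S) →ₗ[S] N), Function.Bijective (α.baseChange (rr.map (algebraMap R S)).ResidueField)) ∧
    ∀ (r : ℕ) (α : (Fin r → S) →ₗ[S] N), Function.Bijective (α.baseChange (rr.map (algebraMap R S)).ResidueField) →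
      [FlatCA.FlatAt R q N,
       (∃ f : R, f ∉ rr ∧ FlatCA.UnivInj R ((LocalizedModule.map (Submonoid.powers (algebraMap R S f)) α).restrictScalars R)) ∧
         (∃ g : S, g ∉ q ∧ Module.Flat R (LocalizedModule (Submonoid.powers g) (N ⧸ LinearMap.range α))),
       FlatCA.UnivInj R ((LocalizedModule.map (Algebra.algebraMapSubmonoid S rr.primeCompl) α).restrictScalars R) ∧ FlatCA.FlatAt R q (N ⧸ LinearMap.range α),
       Function.Injective (LocalizedModule.map (Algebra.algebraMapSubmonoid S rr.primeCompl) α) ∧ FlatCA.FlatAt R q (N ⧸ LinearMap.range α),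
       Function.Bijective (LocalizedModule.map (rr.map (algebraMap R S)).primeCompl α) ∧ FlatCA.FlatAt R q (N ⧸ LinearMap.range α),
       Function.Injective (LocalizedModule.map q.primeCompl α) ∧ FlatCA.FlatAt R q (N ⧸ LinearMap.range α)].TFAE := by
  refine ⟨exists_alpha (rr.map (algebraMap R S)), ?_⟩
  intro r α hb
  have hle_qp : q.primeCompl ≤ (rr.map (algebraMap R S)).primeCompl := by
    intro s hs hsp
    exact hs (map_le_q rr q hsp)
  have hle_rp : Algebra.algebraMapSubmonoid S rr.primeCompl ≤ (rr.map (algebraMap R S)).primeCompl := by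
    rintro _ ⟨a, ha, rfl⟩ hc
    apply ha
    have : a ∈ (rr.map (algebraMap R S)).comap (algebraMap R S) := hc
    rwa [comap_map_rr rr q] at this
  haveI : Module.FinitePresentation S (N ⧸ LinearMap.range α) :=
    Module.finitePresentation_of_surjective (LinearMap.range α).mkQ (Submodule.mkQ_surjective _)
      (by rw [Submodule.ker_mkQ]; exact Submodule.fg_range α)
  tfae_have 1 → 6 := fun h => injective_and_flat_coker_of_flat rr q α hb.1 h
  tfae_have 6 → 1 := by
    rintro ⟨h1, h2⟩
    haveI : Module.Flat R (LocalizedModule q.primeCompl (Fin r → S)) := Fl.flat_localizedModule _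
    exact flat_of_injective_of_flat_coker q.primeCompl α h1 h2
  tfae_have 1 → 2 := by
    intro h
    obtain ⟨-, h2⟩ := injective_and_flat_coker_of_flat rr q α hb.1 h
    exact ⟨exists_univInj_of_flat hgi rr q α hb h,
      exists_flat_away_of_flatAt q (N ⧸ LinearMap.range α) h2⟩
  tfae_have 2 → 3 := by
    rintro ⟨⟨f, hf, hui⟩, ⟨g, hg, hfl⟩⟩
    refine ⟨univInj_map_mono α ?_ hui, flat_localizedModule_mono ?_ hfl⟩
    · rw [Submonoid.powers_le]
      exact ⟨f, hf, rfl⟩
    · rw [Submonoid.powers_le]
      exact hg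
  tfae_have 3 → 4 := fun ⟨h1, h2⟩ => ⟨injective_of_univInj_map _ α h1, h2⟩
  tfae_have 4 → 5 := fun ⟨h1, h2⟩ =>
    ⟨⟨injective_map_mono α hle_rp h1,
      surjective_map_of_baseChange_surjective (rr.map (algebraMap R S)) α hb.2⟩, h2⟩
  tfae_have 5 → 6 := fun ⟨h1, h2⟩ => ⟨injective_map_q_of_injective_map_p rr q α h1.1, h2⟩
  tfae_finish

end Main

end Groth.Agent.Lib.Helper15.FB
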