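import Mathlib

/-!
# Bilinear forms given by matrices: complements of families with invertible Gram matrix (helper15)
-/

set_option linter.style.haveILetI false
set_option autoImplicit false

open Matrix

namespace Groth.Agent.Lib.Helper15.FKForm

section form

variable {T : Type*} [CommRing T] {n : ℕ} (u : Matrix (Fin n) (Fin n) T)

/-- the bilinear form `xᵀ u y` -/
def bf (x y : Fin n → T) : T := x ⬝ᵥ (u *ᵥ y)

theorem bf_add_left (x x' y : Fin n → T) : bf u (x + x') y = bf u x y + bf u x' y := by
  simp [bf, add_dotProduct]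

theorem bf_add_right (x y y' : Fin n → T) : bf u x (y + y') = bf u x y + bf u x y' := by
  simp [bf, Matrix.mulVec_add, dotProduct_add]

theorem bf_smul_left (c : T) (x y : Fin n → T) : bf u (c • x) y = c * bf u x y := by
  simp [bf, smul_dotProduct]

theorem bf_smul_right (c : T) (x y : Fin n → T) : bf u x (c • y) = c * bf u x y := by
  simp [bf, Matrix.mulVec_smul, dotProduct_smul]

theorem bf_zero_right (x : Fin n → T) : bf u x 0 = 0 := by simp [bf]

theorem bf_zero_left (y : Fin n → T) : bf u 0 y = 0 := by simp [bf]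

theorem bf_sum_smul_right {ι : Type*} (s : Finset ι) (x : Fin n → T) (c : ι → T)
    (y : ι → Fin n → T) :
    bf u x (∑ i ∈ s, c i • y i) = ∑ i ∈ s, c i * bf u x (y i) := by
  classical
  induction s using Finset.induction_on with
  | empty => simp [bf_zero_right]
  | insert a s ha ih =>
    rw [Finset.sum_insert ha, Finset.sum_insert ha, bf_add_right, bf_smul_right, ih]

theorem bf_eq_sum (x y : Fin n → T) : bf u x y = ∑ i, ∑ j, x i * u i j * y j := by
  simp only [bf, dotProduct, Matrix.mulVec, Finset.mul_sum, mul_assoc]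

variable {u}

theorem bf_symm {ε : T} (hu : uᵀ = ε • u) (x y : Fin n → T) : bf u y x = ε * bf u x y := by
  have hent : ∀ i j, u j i = ε * u i j := by
    intro i j
    have := congrFun (congrFun hu i) j
    simpa using this
  rw [bf_eq_sum, bf_eq_sum, Finset.mul_sum, Finset.sum_comm]
  refine Finset.sum_congr rfl fun i _ => ?_
  rw [Finset.mul_sum]
  refine Finset.sum_congr rfl fun j _ => ?_
  rw [hent i j]; ring

theorem bf_inv_single (hu : IsUnit u.det) (w : Fin n → T) (j : Fin n) :
    bf u w (u⁻¹ *ᵥ Pi.single j 1) = w j := by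
  rw [bf, Matrix.mulVec_mulVec, Matrix.mul_nonsing_inv u hu, Matrix.one_mulVec]
  simp [dotProduct, Pi.single_apply]

theorem bf_map {T' : Type*} [CommRing T'] (f : T →+* T') (x y : Fin n → T) :
    bf (u.map f) (f ∘ x) (f ∘ y) = f (bf u x y) := by
  simp only [bf_eq_sum, map_sum, map_mul, Matrix.map_apply, Function.comp_apply]

theorem bf_single_single (a b : Fin n) : bf u (Pi.single a 1) (Pi.single b 1) = u a b := by
  classical
  rw [bf_eq_sum]
  rw [Finset.sum_eq_single a, Finset.sum_eq_single b]
  · simp
  · intro j _ hj; simp [Pi.single_apply, hj]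
  · intro hb; exact absurd (Finset.mem_univ b) hb
  · intro i _ hi
    refine Finset.sum_eq_zero fun j _ => ?_
    simp [Pi.single_apply, hi]
  · intro ha; exact absurd (Finset.mem_univ a) ha

/-- the Gram matrix of a family equals `X u Xᵀ` -/
theorem gram_eq {ι : Type*} [Fintype ι] (x : ι → Fin n → T) :
    (Matrix.of fun i j => bf u (x i) (x j)) =
      (Matrix.of fun i a => x i a) * u * (Matrix.of fun i a => x i a)ᵀ := by
  ext i j
  simp only [Matrix.of_apply, Matrix.mul_apply, Matrix.transpose_apply, bf_eq_sum]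
  rw [Finset.sum_comm]
  refine Finset.sum_congr rfl fun b _ => ?_
  rw [Finset.sum_mul]

/-- the form does not vanish modulo a proper ideal on the complement of a short family with
invertible Gram matrix -/
theorem exists_pair_gram {ε : T} (hu : uᵀ = ε • u) (q : Ideal T) (hq : q ≠ ⊤) (hdet : IsUnit u.det)
    {ι : Type*} [Fintype ι] [DecidableEq ι]
    (hk : Fintype.card ι < n) (x : ι → Fin n → T)
    (hG : IsUnit (Matrix.of fun i j => bf u (x i) (x j)).det) :
    ∃ y z, (∀ i, bf u (x i) y = 0) ∧ (∀ i, bf u (x i) z = 0) ∧ bf u y z ∉ q := by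
  classical
  by_contra hcon
  push Not at hcon
  set G : Matrix ι ι T := Matrix.of fun i j => bf u (x i) (x j) with hGdef
  set c : (Fin n → T) → ι → T := fun v => G⁻¹ *ᵥ (fun j => bf u (x j) v) with hc
  have hGc : ∀ v j, ∑ i, G j i * c v i = bf u (x j) v := by
    intro v j
    have : G *ᵥ c v = fun j => bf u (x j) v := by
      rw [hc, Matrix.mulVec_mulVec, Matrix.mul_nonsing_inv G hG, Matrix.one_mulVec]
    exact congrFun this j
  set P : (Fin n → T) → (Fin n → T) := fun y => y + (-1 : T) • ∑ i, c y i • x i with hP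
  have hPW : ∀ y j, bf u (x j) (P y) = 0 := by
    intro y j
    simp only [hP]
    rw [bf_add_right, bf_smul_right, bf_sum_smul_right]
    have : ∑ i, c y i * bf u (x j) (x i) = ∑ i, G j i * c y i :=
      Finset.sum_congr rfl fun i _ => by rw [hGdef, Matrix.of_apply, mul_comm]
    rw [this, hGc]; ring
  have hwy : ∀ w, (∀ i, bf u (x i) w = 0) → ∀ y, bf u w y ∈ q := by
    intro w hw y
    have h1 : bf u w (P y) = bf u w y := by
      simp only [hP]
      rw [bf_add_right, bf_smul_right, bf_sum_smul_right]
      have : ∑ i, c y i * bf u w (x i) = 0 := by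
        refine Finset.sum_eq_zero fun i _ => ?_
        rw [bf_symm hu (x i) w, hw i, mul_zero, mul_zero]
      rw [this]; ring
    rw [← h1]
    exact hcon w (P y) hw (hPW y)
  have hwN : ∀ w, (∀ i, bf u (x i) w = 0) → ∀ j, w j ∈ q := by
    intro w hw j
    have := hwy w hw (u⁻¹ *ᵥ Pi.single j 1)
    rwa [bf_inv_single hdet] at this
  haveI : Nontrivial (T ⧸ q) := Ideal.Quotient.nontrivial_iff.mpr hq
  let Xm : Matrix (Fin n) ι T := Matrix.of fun a i => x i a
  let Cm : Matrix ι (Fin n) T := Matrix.of fun i j => c (Pi.single j 1) i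
  have hprod : (Xm.map (Ideal.Quotient.mk q)) * (Cm.map (Ideal.Quotient.mk q)) = 1 := by
    rw [← Matrix.map_mul]
    ext a j
    rw [Matrix.map_apply, Matrix.one_apply]
    have h1 : (Xm * Cm) a j = (Pi.single j (1 : T) : Fin n → T) a - P (Pi.single j 1) a := by
      simp only [hP, Matrix.mul_apply, Xm, Cm, Matrix.of_apply, Pi.add_apply, Pi.smul_apply,
        Finset.sum_apply, smul_eq_mul]
      rw [Finset.mul_sum]
      have : ∀ i : ι, x i a * c (Pi.single j 1) i =
          -(-1 * (c (Pi.single j 1) i * x i a)) := fun i => by ring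
      rw [Finset.sum_congr rfl (fun i _ => this i), Finset.sum_neg_distrib]
      ring
    rw [h1, map_sub, (Ideal.Quotient.eq_zero_iff_mem (I := q)).2 (hwN _ (hPW _) a), sub_zero,
      Pi.single_apply]
    split_ifs <;> simp
  have hr1 : (1 : Matrix (Fin n) (Fin n) (T ⧸ q)).rank = n := by
    rw [Matrix.rank_one, Fintype.card_fin]
  have hr2 := Matrix.rank_mul_le_left (Xm.map (Ideal.Quotient.mk q)) (Cm.map (Ideal.Quotient.mk q))
  rw [hprod, hr1] at hr2
  have hr3 := Matrix.rank_le_card_width (Xm.map (Ideal.Quotient.mk q))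
  omega

end form

end Groth.Agent.Lib.Helper15.FKForm
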