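import Mathlib
import Groth.Agent.S14457

/-!
# Pointed étale neighbourhoods: localizing and adjoining square roots (helper15)
-/

set_option linter.style.haveILetI false
set_option autoImplicit false

universe u

open Polynomial

namespace Groth.Agent.Lib.Helper15.FKNbhd

/-- localization away from `s ∉ q` as a pointed étale neighbourhood -/
theorem exists_away_nbhd (T : Type u) [CommRing T] (q : Ideal T) [q.IsPrime] (s : T) (hs : s ∉ q) :
    ∃ (T' : Type u) (_ : CommRing T') (_ : Algebra T T') (_ : Algebra.Etale T T')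
      (q' : Ideal T') (_ : q'.IsPrime), q'.comap (algebraMap T T') = q ∧
      ∃ sinv : T', algebraMap T T' s * sinv = 1 := by
  have hd : Disjoint ((Submonoid.powers s : Submonoid T) : Set T) (q : Set T) := by
    rw [Set.disjoint_left]
    rintro x ⟨k, rfl⟩ hx
    exact hs (Ideal.IsPrime.mem_of_pow_mem inferInstance k hx)
  haveI : Algebra.Etale T (Localization.Away s) := Algebra.Etale.of_isLocalizationAway s
  refine ⟨Localization.Away s, inferInstance, inferInstance, inferInstance,
    Ideal.map (algebraMap T (Localization.Away s)) q,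
    IsLocalization.isPrime_of_isPrime_disjoint (Submonoid.powers s) _ q inferInstance hd,
    IsLocalization.under_map_of_isPrime_disjoint (Submonoid.powers s) _ inferInstance hd,
    IsLocalization.Away.invSelf s, ?_⟩
  exact IsLocalization.Away.mul_invSelf s

/-- composing pointed étale neighbourhoods -/
theorem nbhd_trans {T : Type u} [CommRing T] (q : Ideal T)
    (T₁ : Type u) [CommRing T₁] [Algebra T T₁] [Algebra.Etale T T₁] (q₁ : Ideal T₁)
    (h₁ : q₁.comap (algebraMap T T₁) = q)
    (P : ∀ (T' : Type u) [CommRing T'] [Algebra T T'], Prop)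
    (h : ∃ (T₂ : Type u) (_ : CommRing T₂) (_ : Algebra T₁ T₂) (_ : Algebra.Etale T₁ T₂)
      (q₂ : Ideal T₂) (_ : q₂.IsPrime), q₂.comap (algebraMap T₁ T₂) = q₁ ∧
      ∀ (_ : Algebra T T₂) (_ : IsScalarTower T T₁ T₂), P T₂) :
    ∃ (T' : Type u) (_ : CommRing T') (_ : Algebra T T') (_ : Algebra.Etale T T')
      (q' : Ideal T') (_ : q'.IsPrime), q'.comap (algebraMap T T') = q ∧ P T' := by
  obtain ⟨T₂, _, _, _, q₂, _, hq₂, hP⟩ := h
  letI : Algebra T T₂ := ((algebraMap T₁ T₂).comp (algebraMap T T₁)).toAlgebra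
  haveI : IsScalarTower T T₁ T₂ := IsScalarTower.of_algebraMap_eq (fun _ => rfl)
  haveI : Algebra.Etale T T₂ := Algebra.Etale.comp T T₁ T₂
  refine ⟨T₂, inferInstance, inferInstance, inferInstance, q₂, inferInstance, ?_,
    hP inferInstance inferInstance⟩
  rw [IsScalarTower.algebraMap_eq T T₁ T₂, ← Ideal.comap_comap, hq₂, h₁]

/-- adjoining a square root of `s ∉ q` (with `2` invertible) as a pointed étale neighbourhood -/
theorem exists_sqrt_nbhd (T : Type u) [CommRing T] (h2 : IsUnit (2 : T)) (q : Ideal T) [q.IsPrime]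
    (s : T) (hs : s ∉ q) :
    ∃ (T' : Type u) (_ : CommRing T') (_ : Algebra T T') (_ : Algebra.Etale T T')
      (q' : Ideal T') (_ : q'.IsPrime), q'.comap (algebraMap T T') = q ∧
      ∃ r rinv : T', r * r = algebraMap T T' s ∧ r * rinv = 1 := by
  obtain ⟨L, _, _, _, qL, _, hqL, sinv, hsinv⟩ := exists_away_nbhd T q s hs
  apply nbhd_trans q L qL hqL
    (fun T' _ _ => ∃ r rinv : T', r * r = algebraMap T T' s ∧ r * rinv = 1)
  obtain ⟨c2, hc2⟩ := h2.exists_right_inv
  set s' : L := algebraMap T L s with hs'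
  set c : L := algebraMap T L c2 with hc
  have hc2' : (2 : L) * c = 1 := by
    rw [hc, ← map_ofNat (algebraMap T L) 2, ← map_mul, hc2, map_one]
  let P : L[X] := X ^ 2 - C s'
  have hPm : P.Monic := monic_X_pow_sub_C s' two_ne_zero
  have hbez : derivative P * (C (c * sinv) * X) + P * (- C sinv) = 1 := by
    have hd : derivative P = C 2 * X := by
      simp only [P, derivative_sub, derivative_X_pow, derivative_C, sub_zero]
      norm_num
    rw [hd]
    have e1 : (C (2 : L) * X) * (C (c * sinv) * X) = C sinv * X ^ 2 := by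
      have : (C (2 : L)) * C (c * sinv) = C sinv := by
        rw [← C_mul, ← mul_assoc, hc2', one_mul]
      calc (C (2 : L) * X) * (C (c * sinv) * X) = (C (2 : L) * C (c * sinv)) * X ^ 2 := by ring
        _ = _ := by rw [this]
    have e2 : (C s' : L[X]) * C sinv = 1 := by rw [← C_mul, hsinv, C_1]
    rw [e1]
    simp only [P]
    linear_combination e2
  haveI het : Algebra.Etale L (AdjoinRoot P) :=
    Groth.Agent.S14457.etale_of_bezout P hPm _ _ hbez
  haveI hfin : Module.Finite L (AdjoinRoot P) := hPm.finite_adjoinRoot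
  haveI : Algebra.IsIntegral L (AdjoinRoot P) := Algebra.IsIntegral.of_finite L (AdjoinRoot P)
  haveI : Nontrivial L := nontrivial_of_ne (0 : L) 1 (fun h =>
    (inferInstance : qL.IsPrime).ne_top ((Ideal.eq_top_iff_one _).2 (h ▸ qL.zero_mem)))
  haveI : Module.Free L (AdjoinRoot P) := Module.Free.of_basis (AdjoinRoot.powerBasis' hPm).basis
  have hfr : Module.finrank L (AdjoinRoot P) = 2 := by
    rw [(AdjoinRoot.powerBasis' hPm).finrank]
    simp only [AdjoinRoot.powerBasis'_dim, P]
    exact natDegree_X_pow_sub_C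
  haveI : Nontrivial (AdjoinRoot P) :=
    Module.nontrivial_of_finrank_pos (R := L) (by rw [hfr]; norm_num)
  have hinj : Function.Injective (algebraMap L (AdjoinRoot P)) :=
    FaithfulSMul.algebraMap_injective L (AdjoinRoot P)
  obtain ⟨Q, _, hQp, hQ⟩ := Ideal.exists_ideal_over_prime_of_isIntegral qL (⊥ : Ideal (AdjoinRoot P))
    (by
      rw [Ideal.comap_bot_of_injective _ hinj]
      exact bot_le)
  refine ⟨AdjoinRoot P, inferInstance, inferInstance, het, Q, hQp, hQ, ?_⟩
  intro _ _
  have hroot : AdjoinRoot.root P * AdjoinRoot.root P = algebraMap L (AdjoinRoot P) s' := by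
    have h0 : aeval (AdjoinRoot.root P) P = 0 := by
      rw [AdjoinRoot.aeval_eq, AdjoinRoot.mk_self]
    simp only [P, map_sub, map_pow, aeval_X, aeval_C] at h0
    rw [← sq]
    exact sub_eq_zero.mp h0
  refine ⟨AdjoinRoot.root P, AdjoinRoot.root P * algebraMap L (AdjoinRoot P) sinv, ?_, ?_⟩
  · rw [hroot, hs', ← IsScalarTower.algebraMap_apply]
  · rw [← mul_assoc, hroot, ← map_mul, hsinv, map_one]

end Groth.Agent.Lib.Helper15.FKNbhd
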