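import Groth.Agent.Lib27.RInvL
import Mathlib

set_option linter.style.haveILetI false
set_option autoImplicit false

open Matrix

namespace Groth.Agent.Lib.Helper15.HermDiag

section altodd

/-- An alternating matrix of odd size has determinant zero. -/
theorem det_eq_zero_of_alternating_odd {K : Type*} [CommRing K] {n : ℕ} (hn : Odd n)
    (G : Matrix (Fin n) (Fin n) K) (hdiag : ∀ i, G i i = 0) (hskew : ∀ i j, G j i = -G i j) :
    G.det = 0 := by
  classical
  let Ggen : Matrix (Fin n) (Fin n) (MvPolynomial (Fin n × Fin n) ℤ) :=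
    fun i j => if i < j then MvPolynomial.X (i, j) else if j < i then -MvPolynomial.X (j, i) else 0
  have hT : Ggenᵀ = -Ggen := by
    ext i j
    simp only [Ggen, Matrix.transpose_apply, Matrix.neg_apply]
    rcases lt_trichotomy i j with hij | hij | hij
    · rw [if_neg (not_lt.2 hij.le), if_pos hij, if_pos hij]
    · subst hij; simp
    · rw [if_pos hij, if_neg (not_lt.2 hij.le), if_pos hij, neg_neg]
  have hdet : Ggen.det = 0 := by
    have h1 : Ggen.det = -Ggen.det := by
      conv_lhs => rw [← Matrix.det_transpose, hT, Matrix.det_neg, Fintype.card_fin, hn.neg_one_pow]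
      ring
    have h2 : (2 : MvPolynomial (Fin n × Fin n) ℤ) * Ggen.det = 0 := by linear_combination h1
    rcases mul_eq_zero.1 h2 with h3 | h3
    · exact absurd h3 two_ne_zero
    · exact h3
  let f : MvPolynomial (Fin n × Fin n) ℤ →+* K :=
    MvPolynomial.eval₂Hom (Int.castRingHom K) (fun p => G p.1 p.2)
  have hG : G = Ggen.map f := by
    ext i j
    simp only [Ggen, Matrix.map_apply]
    rcases lt_trichotomy i j with hij | hij | hij
    · rw [if_pos hij]; simp [f]
    · subst hij; simp [hdiag]
    · rw [if_neg (not_lt.2 hij.le), if_pos hij]; simp [f, hskew j i]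
  rw [hG, ← RingHom.mapMatrix_apply, ← RingHom.map_det, hdet, map_zero]

end altodd

section form

variable {A : Type*} [CommRing A] (lam : A ≃+* A) {n : ℕ} (h : Matrix (Fin n) (Fin n) A)

/-- the sesquilinear form `(x, y) ↦ (lam x)ᵀ h y`. -/
def frm (x y : Fin n → A) : A := ∑ i, ∑ j, lam (x i) * h i j * y j

theorem frm_add_left (x x' y : Fin n → A) :
    frm lam h (x + x') y = frm lam h x y + frm lam h x' y := by
  simp [frm, add_mul, Finset.sum_add_distrib]

theorem frm_add_right (x y y' : Fin n → A) :
    frm lam h x (y + y') = frm lam h x y + frm lam h x y' := by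
  simp [frm, mul_add, Finset.sum_add_distrib]

theorem frm_smul_left (c : A) (x y : Fin n → A) :
    frm lam h (c • x) y = lam c * frm lam h x y := by
  simp [frm, Finset.mul_sum, mul_assoc]

theorem frm_smul_right (c : A) (x y : Fin n → A) :
    frm lam h x (c • y) = c * frm lam h x y := by
  simp only [frm, Pi.smul_apply, smul_eq_mul, Finset.mul_sum]
  refine Finset.sum_congr rfl fun i _ => Finset.sum_congr rfl fun j _ => ?_
  ring

theorem frm_zero_right (x : Fin n → A) : frm lam h x 0 = 0 := by simp [frm]

theorem frm_zero_left (y : Fin n → A) : frm lam h 0 y = 0 := by simp [frm]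

theorem frm_comb (x y x' y' : Fin n → A) (c c' : A) :
    frm lam h (x + c • y) (x' + c' • y') =
      frm lam h x x' + c' * frm lam h x y' + lam c * frm lam h y x' +
        lam c * c' * frm lam h y y' := by
  simp only [frm_add_left, frm_add_right, frm_smul_left, frm_smul_right]
  ring

theorem frm_sum_smul_right {k : ℕ} (x : Fin n → A) (c : Fin k → A) (y : Fin k → Fin n → A) :
    frm lam h x (∑ i, c i • y i) = ∑ i, c i * frm lam h x (y i) := by
  induction k with
  | zero => simp [frm_zero_right]
  | succ k ih =>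
    rw [Fin.sum_univ_castSucc, Fin.sum_univ_castSucc, frm_add_right, frm_smul_right, ih]

variable {lam h}

theorem frm_herm (hlam : Function.Involutive lam) {ε : A} (_hε : ε = 1 ∨ ε = -1)
    (herm : ε • (h.map lam).transpose = h) (x y : Fin n → A) :
    frm lam h y x = ε * lam (frm lam h x y) := by
  have hent : ∀ i j, h i j = ε * lam (h j i) := by
    intro i j
    have := congrFun (congrFun herm i) j
    simp only [Matrix.smul_apply, Matrix.transpose_apply, Matrix.map_apply, smul_eq_mul] at this
    exact this.symm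
  simp only [frm, map_sum, map_mul, hlam _, Finset.mul_sum]
  rw [Finset.sum_comm]
  refine Finset.sum_congr rfl fun i _ => Finset.sum_congr rfl fun j _ => ?_
  rw [hent j i]; ring

theorem lam_eps {ε : A} (hε : ε = 1 ∨ ε = -1) : lam ε = ε := by
  rcases hε with rfl | rfl <;> simp

theorem eps_mul_eps {ε : A} (hε : ε = 1 ∨ ε = -1) : ε * ε = 1 := by
  rcases hε with rfl | rfl <;> simp

/-- `q`-values are `ε`-symmetric. -/
theorem lam_q (hlam : Function.Involutive lam) {ε : A} (hε : ε = 1 ∨ ε = -1)
    (herm : ε • (h.map lam).transpose = h) (x : Fin n → A) :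
    lam (frm lam h x x) = ε * frm lam h x x := by
  have := frm_herm hlam hε herm x x
  calc lam (frm lam h x x) = (ε * ε) * lam (frm lam h x x) := by rw [eps_mul_eps hε, one_mul]
    _ = ε * (ε * lam (frm lam h x x)) := by ring
    _ = ε * frm lam h x x := by rw [← this]

end form

section main

variable {A : Type*} [CommRing A] {lam : A ≃+* A} (hlam : Function.Involutive lam)
  {n : ℕ} {h : Matrix (Fin n) (Fin n) A} {ε : A} (hε : ε = 1 ∨ ε = -1)
  (herm : ε • (h.map lam).transpose = h)
  (M : Ideal A) [hM : M.IsMaximal]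
  (hMM : ∀ M' : Ideal A, M'.IsMaximal → M' = M ∨ M' = M.comap (lam : A →+* A))

include hMM in
theorem isUnit_of_notMem {t : A} (h1 : t ∉ M) (h2 : lam t ∉ M) : IsUnit t := by
  by_contra hnu
  obtain ⟨M', hM', htM'⟩ := exists_max_ideal_of_mem_nonunits hnu
  rcases hMM M' hM' with rfl | rfl
  · exact h1 htM'
  · exact h2 htM'

include hMM hε in
theorem isUnit_of_symm {z : A} (hz : lam z = ε * z) (h1 : z ∉ M) : IsUnit z := by
  refine isUnit_of_notMem M hMM h1 ?_
  rw [hz]
  intro h2
  apply h1
  have : z = ε * (ε * z) := by rw [← mul_assoc, eps_mul_eps hε, one_mul]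
  rw [this]
  exact Ideal.mul_mem_left _ _ h2

variable (lam h) in
/-- orthogonal family with unit norms -/
def Orth {k : ℕ} (x : Fin k → Fin n → A) : Prop :=
  (∀ i j, i ≠ j → frm lam h (x i) (x j) = 0) ∧ ∀ i, IsUnit (frm lam h (x i) (x i))

variable (lam h) in
/-- membership in the orthogonal complement of the family -/
def InW {k : ℕ} (x : Fin k → Fin n → A) (w : Fin n → A) : Prop :=
  ∀ i, frm lam h (x i) w = 0

include hlam hε herm in
theorem InW.symm {k : ℕ} {x : Fin k → Fin n → A} {w : Fin n → A} (hw : InW lam h x w) (i : Fin k) :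
    frm lam h w (x i) = 0 := by
  rw [frm_herm hlam hε herm (x i) w, hw i, map_zero, mul_zero]

theorem InW.add {k : ℕ} {x : Fin k → Fin n → A} {w w' : Fin n → A} (hw : InW lam h x w)
    (hw' : InW lam h x w') : InW lam h x (w + w') := by
  intro i
  rw [frm_add_right, hw i, hw' i, add_zero]

theorem InW.smul {k : ℕ} {x : Fin k → Fin n → A} {w : Fin n → A} (hw : InW lam h x w)
    (c : A) : InW lam h x (c • w) := by
  intro i
  rw [frm_smul_right, hw i, mul_zero]

theorem frm_eq_sum_mulVec (w y : Fin n → A) :
    frm lam h w y = ∑ i, lam (w i) * (h *ᵥ y) i := by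
  simp only [frm, Matrix.mulVec, dotProduct, Finset.mul_sum, mul_assoc]

theorem frm_inv_single (hh : IsUnit h) (w : Fin n → A) (j : Fin n) :
    frm lam h w (h⁻¹ *ᵥ Pi.single j 1) = lam (w j) := by
  have hd : IsUnit h.det := (Matrix.isUnit_iff_isUnit_det h).1 hh
  rw [frm_eq_sum_mulVec, Matrix.mulVec_mulVec, Matrix.mul_nonsing_inv h hd, Matrix.one_mulVec]
  simp [Pi.single_apply]

include hlam hε herm hM in
/-- the form does not vanish mod `M` on the complement of a short orthogonal family -/
theorem exists_pair (hh : IsUnit h) {k : ℕ} (hk : k < n) (x : Fin k → Fin n → A)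
    (hx : Orth lam h x) :
    ∃ y z, InW lam h x y ∧ InW lam h x z ∧ frm lam h y z ∉ M := by
  classical
  by_contra hcon
  push Not at hcon
  choose qi hqi using fun i => (hx.2 i).exists_right_inv
  -- the projection onto the complement
  set P : (Fin n → A) → (Fin n → A) := fun y => y + (-1 : A) • ∑ i, (qi i * frm lam h (x i) y) • x i
    with hP
  have hPW : ∀ y, InW lam h x (P y) := by
    intro y j
    simp only [hP]
    rw [frm_add_right, frm_smul_right, frm_sum_smul_right, Finset.sum_eq_single j]
    · linear_combination (-(frm lam h (x j) y)) * hqi j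
    · intro i _ hij
      rw [hx.1 j i (Ne.symm hij), mul_zero]
    · intro hj; exact absurd (Finset.mem_univ j) hj
  have hwy : ∀ w, InW lam h x w → ∀ y, frm lam h w y ∈ M := by
    intro w hw y
    have h1 : frm lam h w (P y) = frm lam h w y := by
      simp only [hP]
      rw [frm_add_right, frm_smul_right, frm_sum_smul_right]
      have : ∑ i, qi i * frm lam h (x i) y * frm lam h w (x i) = 0 := by
        refine Finset.sum_eq_zero fun i _ => ?_
        rw [InW.symm hlam hε herm hw i, mul_zero]
      rw [this]; ring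
    rw [← h1]
    exact hcon w (P y) hw (hPW y)
  have hwN : ∀ w, InW lam h x w → ∀ j, w j ∈ M.comap (lam : A →+* A) := by
    intro w hw j
    rw [Ideal.mem_comap]
    have := hwy w hw (h⁻¹ *ᵥ Pi.single j 1)
    rwa [frm_inv_single hh] at this
  set N : Ideal A := M.comap (lam : A →+* A) with hN
  have hNmax : N.IsMaximal := Ideal.comap_isMaximal_of_surjective (lam : A →+* A) lam.surjective
  letI : Field (A ⧸ N) := Ideal.Quotient.field N
  let Xm : Matrix (Fin n) (Fin k) A := Matrix.of fun a i => x i a
  let Cm : Matrix (Fin k) (Fin n) A := Matrix.of fun i j => qi i * frm lam h (x i) (Pi.single j 1)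
  have hprod : (Xm.map (Ideal.Quotient.mk N)) * (Cm.map (Ideal.Quotient.mk N)) = 1 := by
    rw [← Matrix.map_mul]
    ext a j
    rw [Matrix.map_apply, Matrix.one_apply]
    have h1 : (Xm * Cm) a j = (Pi.single j (1 : A) : Fin n → A) a - P (Pi.single j 1) a := by
      simp only [hP, Matrix.mul_apply, Xm, Cm, Matrix.of_apply, Pi.add_apply, Pi.smul_apply,
        Finset.sum_apply, smul_eq_mul]
      rw [Finset.mul_sum]
      have : ∀ i : Fin k, x i a * (qi i * frm lam h (x i) (Pi.single j 1)) =
          -(-1 * (qi i * frm lam h (x i) (Pi.single j 1) * x i a)) := fun i => by ring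
      rw [Finset.sum_congr rfl (fun i _ => this i), Finset.sum_neg_distrib]
      ring
    rw [h1, map_sub, (Ideal.Quotient.eq_zero_iff_mem (I := N)).2 (hwN _ (hPW _) a), sub_zero,
      Pi.single_apply]
    split_ifs <;> simp
  have hr1 : (1 : Matrix (Fin n) (Fin n) (A ⧸ N)).rank = n := by
    rw [Matrix.rank_one, Fintype.card_fin]
  have hr2 := Matrix.rank_mul_le_left (Xm.map (Ideal.Quotient.mk N)) (Cm.map (Ideal.Quotient.mk N))
  rw [hprod, hr1] at hr2
  have hr3 := Matrix.rank_le_width (Xm.map (Ideal.Quotient.mk N))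
  omega

include hlam hε herm in
theorem orth_snoc {k : ℕ} {x : Fin k → Fin n → A} (hx : Orth lam h x) {w : Fin n → A}
    (hw : InW lam h x w) (hu : IsUnit (frm lam h w w)) :
    Orth lam h (Fin.snoc (α := fun _ => Fin n → A) x w) := by
  constructor
  · intro i j hij
    induction i using Fin.lastCases with
    | last =>
      induction j using Fin.lastCases with
      | last => exact absurd rfl hij
      | cast j => rw [Fin.snoc_last, Fin.snoc_castSucc]; exact InW.symm hlam hε herm hw j
    | cast i =>
      induction j using Fin.lastCases with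
      | last => rw [Fin.snoc_last, Fin.snoc_castSucc]; exact hw i
      | cast j =>
        rw [Fin.snoc_castSucc, Fin.snoc_castSucc]
        exact hx.1 i j (fun hc => hij (by rw [hc]))
  · intro i
    induction i using Fin.lastCases with
    | last => rw [Fin.snoc_last]; exact hu
    | cast i => rw [Fin.snoc_castSucc]; exact hx.2 i

theorem inW_snoc {k : ℕ} {x : Fin k → Fin n → A} {w₀ w : Fin n → A} :
    InW lam h (Fin.snoc (α := fun _ => Fin n → A) x w₀) w ↔
      InW lam h x w ∧ frm lam h w₀ w = 0 := by
  constructor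
  · intro hw
    refine ⟨fun i => ?_, ?_⟩
    · have := hw i.castSucc
      rwa [Fin.snoc_castSucc] at this
    · have := hw (Fin.last k)
      rwa [Fin.snoc_last] at this
  · rintro ⟨h1, h2⟩ i
    induction i using Fin.lastCases with
    | last => rw [Fin.snoc_last]; exact h2
    | cast i => rw [Fin.snoc_castSucc]; exact h1 i

include hlam hε herm hM hMM in
theorem step (hh : IsUnit h) {k : ℕ} (x : Fin k → Fin n → A) (hx : Orth lam h x)
    (w₀ : Fin n → A) (hw₀ : InW lam h x w₀) (hu : IsUnit (frm lam h w₀ w₀)) :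
    ∃ x' : Fin (k + 1) → Fin n → A, Orth lam h x' ∧
      (k + 1 < n → ∃ w, InW lam h x' w ∧ IsUnit (frm lam h w w)) := by
  classical
  have hx₁ : Orth lam h (Fin.snoc (α := fun _ => Fin n → A) x w₀) :=
    orth_snoc hlam hε herm hx hw₀ hu
  by_cases hA : ∃ w, InW lam h (Fin.snoc (α := fun _ => Fin n → A) x w₀) w ∧
      IsUnit (frm lam h w w)
  · exact ⟨_, hx₁, fun _ => hA⟩
  by_cases hk : k + 1 < n
  swap
  · exact ⟨_, hx₁, fun hk' => absurd hk' hk⟩
  push Not at hA
  -- all `q`-values on the complement lie in `M`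
  have hqM : ∀ w, InW lam h (Fin.snoc (α := fun _ => Fin n → A) x w₀) w →
      frm lam h w w ∈ M := by
    intro w hw
    by_contra hn
    exact hA w hw (isUnit_of_symm hε M hMM (lam_q hlam hε herm w) hn)
  obtain ⟨y, z, hy, hz, ht⟩ := exists_pair hlam hε herm M hh hk _ hx₁
  set t := frm lam h y z with htdef
  have hzy : frm lam h z y = ε * lam t := frm_herm hlam hε herm y z
  -- `t` is a unit
  have htu : IsUnit t := by
    refine isUnit_of_notMem M hMM ht ?_
    intro hlt
    have hyz := hqM (y + z) (hy.add hz)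
    have e : frm lam h (y + z) (y + z) =
        frm lam h y y + frm lam h z z + t + ε * lam t := by
      have := frm_comb lam h y z y z 1 1
      simp only [one_smul, map_one, one_mul] at this
      rw [this, hzy]; ring
    rw [e] at hyz
    apply ht
    have h3 : t = (frm lam h y y + frm lam h z z + t + ε * lam t) -
        (frm lam h y y + frm lam h z z + ε * lam t) := by ring
    rw [h3]
    exact M.sub_mem hyz (M.add_mem (M.add_mem (hqM y hy) (hqM z hz)) (M.mul_mem_left _ hlt))
  obtain ⟨ti, hti⟩ := htu.exists_right_inv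
  set z' : Fin n → A := ti • z with hz'
  have hz'W : InW lam h (Fin.snoc (α := fun _ => Fin n → A) x w₀) z' := hz.smul ti
  have hyz' : frm lam h y z' = 1 := by rw [hz', frm_smul_right, ← htdef, mul_comm, hti]
  obtain ⟨hyW, hy0⟩ := inW_snoc.1 hy
  obtain ⟨hz'W0, hz'0⟩ := inW_snoc.1 hz'W
  have hy0' : frm lam h y w₀ = 0 := by
    rw [frm_herm hlam hε herm w₀ y, hy0, map_zero, mul_zero]
  have hz'0' : frm lam h z' w₀ = 0 := by
    rw [frm_herm hlam hε herm w₀ z', hz'0, map_zero, mul_zero]
  set q₀ := frm lam h w₀ w₀ with hq₀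
  have hq₀M : q₀ ∉ M := fun hq => hM.ne_top (Ideal.eq_top_of_isUnit_mem _ hq hu)
  set x'' : Fin n → A := w₀ + (1 : A) • y with hx''
  set w : Fin n → A := w₀ + (-q₀) • z' with hw
  have hx''W : InW lam h x x'' := hw₀.add (hyW.smul 1)
  have hwW : InW lam h x w := hw₀.add (hz'W0.smul _)
  have e1 : frm lam h x'' x'' = q₀ + frm lam h y y := by
    rw [hx'', frm_comb, hy0, hy0', map_one]; ring
  have e2 : frm lam h x'' w = 0 := by
    rw [hx'', hw, frm_comb, hz'0, hy0', hyz', map_one]; ring
  have e3 : frm lam h w w = q₀ + lam (-q₀) * (-q₀) * frm lam h z' z' := by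
    rw [hw, frm_comb, hz'0, hz'0']; ring
  have hu'' : IsUnit (frm lam h x'' x'') := by
    refine isUnit_of_symm hε M hMM (lam_q hlam hε herm x'') ?_
    rw [e1]
    intro hc
    apply hq₀M
    have : q₀ = (q₀ + frm lam h y y) - frm lam h y y := by ring
    rw [this]
    exact M.sub_mem hc (hqM y hy)
  have huw : IsUnit (frm lam h w w) := by
    refine isUnit_of_symm hε M hMM (lam_q hlam hε herm w) ?_
    rw [e3]
    intro hc
    apply hq₀M
    have : q₀ = (q₀ + lam (-q₀) * (-q₀) * frm lam h z' z') -
        lam (-q₀) * (-q₀) * frm lam h z' z' := by ring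
    rw [this]
    exact M.sub_mem hc (M.mul_mem_left _ (hqM z' hz'W))
  refine ⟨Fin.snoc (α := fun _ => Fin n → A) x x'', orth_snoc hlam hε herm hx hx''W hu'', fun _ => ?_⟩
  exact ⟨w, inW_snoc.2 ⟨hwW, e2⟩, huw⟩

include hlam hε herm hM hMM in
theorem exists_orth (hh : IsUnit h)
    (hbase : 0 < n → ∃ w : Fin n → A, IsUnit (frm lam h w w)) :
    ∀ k ≤ n, ∃ x : Fin k → Fin n → A, Orth lam h x ∧
      (k < n → ∃ w, InW lam h x w ∧ IsUnit (frm lam h w w)) := by
  intro k
  induction k with
  | zero =>
    intro _
    refine ⟨Fin.elim0, ⟨fun i => i.elim0, fun i => i.elim0⟩, fun hn => ?_⟩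
    obtain ⟨w, hw⟩ := hbase hn
    exact ⟨w, fun i => i.elim0, hw⟩
  | succ k ih =>
    intro hk
    obtain ⟨x, hx, hw⟩ := ih (by omega)
    obtain ⟨w₀, hw₀, hu⟩ := hw (by omega)
    exact step hlam hε herm M hMM hh x hx w₀ hw₀ hu

include hlam hε herm hM hMM in
theorem exists_diag (hh : IsUnit h)
    (hbase : 0 < n → ∃ w : Fin n → A, IsUnit (frm lam h w w)) :
    ∃ v : Matrix (Fin n) (Fin n) A, IsUnit v ∧
      ∃ d : Fin n → A, (v.map lam).transpose * h * v = Matrix.diagonal d := by
  classical
  obtain ⟨x, hx, -⟩ := exists_orth hlam hε herm M hMM hh hbase n le_rfl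
  set v : Matrix (Fin n) (Fin n) A := Matrix.of fun a j => x j a with hv
  have hgram : (v.map lam).transpose * h * v = Matrix.diagonal fun i => frm lam h (x i) (x i) := by
    ext i j
    have e : ((v.map lam).transpose * h * v) i j = frm lam h (x i) (x j) := by
      simp only [Matrix.mul_apply, Matrix.transpose_apply, Matrix.map_apply, hv, Matrix.of_apply,
        frm, Finset.sum_mul]
      exact Finset.sum_comm
    rw [e, Matrix.diagonal_apply]
    split_ifs with hij
    · rw [hij]
    · exact hx.1 i j hij
  refine ⟨v, ?_, _, hgram⟩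
  rw [Matrix.isUnit_iff_isUnit_det]
  have hdet := congrArg Matrix.det hgram
  rw [Matrix.det_mul, Matrix.det_mul, Matrix.det_diagonal] at hdet
  have hprod : IsUnit (∏ i, frm lam h (x i) (x i)) := by
    rw [IsUnit.prod_univ_iff]
    exact hx.2
  rw [← hdet] at hprod
  exact isUnit_of_mul_isUnit_right hprod

end main

section base

variable {A : Type*} [CommRing A] {lam : A ≃+* A} (hlam : Function.Involutive lam)
  {n : ℕ} {h : Matrix (Fin n) (Fin n) A} {ε : A} (hε : ε = 1 ∨ ε = -1)
  (herm : ε • (h.map lam).transpose = h)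
  (hMM : ∀ M M' : Ideal A, M.IsMaximal → M'.IsMaximal → M' = M ∨ M' = M.comap (lam : A →+* A))

theorem exists_maximal_notMem {x : A} (hx : x ∉ Ring.jacobson A) :
    ∃ M : Ideal A, M.IsMaximal ∧ x ∉ M := by
  by_contra hc
  push Not at hc
  apply hx
  rw [← Ideal.jacobson_bot, Ideal.jacobson, Ideal.mem_sInf]
  rintro M ⟨-, hM⟩
  exact hc M hM

theorem frm_single_single (a b : Fin n) :
    frm lam h (Pi.single a 1) (Pi.single b 1) = h a b := by
  classical
  simp only [frm, Pi.single_apply]
  rw [Finset.sum_eq_single a, Finset.sum_eq_single b]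
  · simp
  · intro j _ hj; simp [hj]
  · intro hb; exact absurd (Finset.mem_univ b) hb
  · intro i _ hi
    refine Finset.sum_eq_zero fun j _ => ?_
    simp [hi]
  · intro ha; exact absurd (Finset.mem_univ a) ha

include hlam hε herm hMM in
theorem base [Nontrivial A] (hh : IsUnit h)
    (hcase : (∃ a : A, lam a - a ∉ Ring.jacobson A) ∨ ε + 1 ∉ Ring.jacobson A ∨ Odd n)
    (hn : 0 < n) : ∃ w : Fin n → A, IsUnit (frm lam h w w) := by
  classical
  by_cases hstar : ∃ M : Ideal A, M.IsMaximal ∧ ((∃ c, c - lam c ∉ M) ∨ 1 + ε ∉ M)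
  · obtain ⟨M, hM, hM2⟩ := hstar
    by_contra hno
    push Not at hno
    have hqM : ∀ w : Fin n → A, frm lam h w w ∈ M := by
      intro w
      by_contra hc
      exact hno w (isUnit_of_symm hε M (fun M' hM' => hMM M M' hM hM')
        (lam_q hlam hε herm w) hc)
    set j₀ : Fin n := ⟨0, hn⟩
    set y : Fin n → A := Pi.single j₀ 1 with hy
    set z : Fin n → A := h⁻¹ *ᵥ Pi.single j₀ 1 with hz
    have hyz : frm lam h y z = 1 := by
      rw [hz, frm_inv_single hh, hy, Pi.single_eq_same, map_one]
    have hzy : frm lam h z y = ε := by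
      rw [frm_herm hlam hε herm y z, hyz, map_one, mul_one]
    have hc : ∀ c : A, c + ε * lam c ∈ M := by
      intro c
      have e := frm_comb lam h y z y z c c
      rw [hyz, hzy] at e
      have h1 := hqM (y + c • z)
      rw [e] at h1
      have : c + ε * lam c = (frm lam h y y + c * 1 + lam c * ε + lam c * c * frm lam h z z) -
          (frm lam h y y + lam c * c * frm lam h z z) := by ring
      rw [this]
      exact M.sub_mem h1 (M.add_mem (hqM y) (M.mul_mem_left _ (hqM z)))
    have h1ε : 1 + ε ∈ M := by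
      have := hc 1
      rwa [map_one, mul_one] at this
    rcases hM2 with ⟨c, hcM⟩ | h2
    · apply hcM
      have : c - lam c = (c + ε * lam c) - (1 + ε) * lam c := by ring
      rw [this]
      exact M.sub_mem (hc c) (M.mul_mem_right _ h1ε)
    · exact h2 h1ε
  · push Not at hstar
    have hodd : Odd n := by
      rcases hcase with ⟨a, ha⟩ | h2 | h3
      · exfalso
        obtain ⟨M, hM, haM⟩ := exists_maximal_notMem ha
        apply haM
        have := (hstar M hM).1 a
        have e : lam a - a = -(a - lam a) := by ring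
        rw [e]; exact M.neg_mem this
      · exfalso
        obtain ⟨M, hM, haM⟩ := exists_maximal_notMem h2
        apply haM
        rw [add_comm]
        exact (hstar M hM).2
      · exact h3
    obtain ⟨M, hM⟩ := Ideal.exists_maximal A
    obtain ⟨hM1, hM2⟩ := hstar M hM
    by_contra hno
    push Not at hno
    have hqM : ∀ w : Fin n → A, frm lam h w w ∈ M := by
      intro w
      by_contra hc
      exact hno w (isUnit_of_symm hε M (fun M' hM' => hMM M M' hM hM')
        (lam_q hlam hε herm w) hc)
    have hent : ∀ i j, h i j = ε * lam (h j i) := by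
      intro i j
      have := congrFun (congrFun herm i) j
      simp only [Matrix.smul_apply, Matrix.transpose_apply, Matrix.map_apply, smul_eq_mul] at this
      exact this.symm
    have hdet : (h.map (Ideal.Quotient.mk M)).det = 0 := by
      apply det_eq_zero_of_alternating_odd hodd
      · intro i
        rw [Matrix.map_apply, Ideal.Quotient.eq_zero_iff_mem,
          ← frm_single_single (lam := lam) (h := h) i i]
        exact hqM _
      · intro i j
        rw [Matrix.map_apply, Matrix.map_apply, ← map_neg, Ideal.Quotient.eq, hent j i]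
        have : ε * lam (h i j) - -h i j = (1 + ε) * lam (h i j) + (h i j - lam (h i j)) := by ring
        rw [this]
        exact M.add_mem (M.mul_mem_right _ hM2) (hM1 _)
    have hd : IsUnit h.det := (Matrix.isUnit_iff_isUnit_det h).1 hh
    rw [← RingHom.mapMatrix_apply, ← RingHom.map_det, Ideal.Quotient.eq_zero_iff_mem] at hdet
    exact hM.ne_top (Ideal.eq_top_of_isUnit_mem _ hdet hd)

include hlam hε herm hMM in
theorem main [Nontrivial A] (hh : IsUnit h)
    (hcase : (∃ a : A, lam a - a ∉ Ring.jacobson A) ∨ ε + 1 ∉ Ring.jacobson A ∨ Odd n) :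
    ∃ v : Matrix (Fin n) (Fin n) A, IsUnit v ∧
      ∃ d : Fin n → A, (v.map lam).transpose * h * v = Matrix.diagonal d := by
  obtain ⟨M, hM⟩ := Ideal.exists_maximal A
  exact exists_diag hlam hε herm M (fun M' hM' => hMM M M' hM hM') hh
    (base hlam hε herm hMM hh hcase)

end base

section gram

variable {A : Type*} [CommRing A] {lam : A ≃+* A} (hlam : Function.Involutive lam)
  {n : ℕ} {h : Matrix (Fin n) (Fin n) A} {ε : A} (hε : ε = 1 ∨ ε = -1)
  (herm : ε • (h.map lam).transpose = h)
  (M : Ideal A) [hM : M.IsMaximal]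

theorem frm_finset_sum_smul_right {ι : Type*} (s : Finset ι) (x : Fin n → A) (c : ι → A)
    (y : ι → Fin n → A) :
    frm lam h x (∑ i ∈ s, c i • y i) = ∑ i ∈ s, c i * frm lam h x (y i) := by
  classical
  induction s using Finset.induction_on with
  | empty => simp [frm_zero_right]
  | insert a s ha ih =>
    rw [Finset.sum_insert ha, Finset.sum_insert ha, frm_add_right, frm_smul_right, ih]

include hlam hε herm hM in
/-- the form does not vanish mod `M` on the complement of a short family with invertible Gram
matrix -/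
theorem exists_pair_gram (hh : IsUnit h) {ι : Type*} [Fintype ι] [DecidableEq ι]
    (hk : Fintype.card ι < n) (x : ι → Fin n → A)
    (hG : IsUnit (Matrix.of fun i j => frm lam h (x i) (x j)).det) :
    ∃ y z, (∀ i, frm lam h (x i) y = 0) ∧ (∀ i, frm lam h (x i) z = 0) ∧ frm lam h y z ∉ M := by
  classical
  by_contra hcon
  push Not at hcon
  set G : Matrix ι ι A := Matrix.of fun i j => frm lam h (x i) (x j) with hGdef
  set c : (Fin n → A) → ι → A := fun u => G⁻¹ *ᵥ (fun j => frm lam h (x j) u) with hc
  have hGc : ∀ u j, ∑ i, G j i * c u i = frm lam h (x j) u := by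
    intro u j
    have : G *ᵥ c u = fun j => frm lam h (x j) u := by
      rw [hc, Matrix.mulVec_mulVec, Matrix.mul_nonsing_inv G hG, Matrix.one_mulVec]
    exact congrFun this j
  -- the projection onto the complement
  set P : (Fin n → A) → (Fin n → A) := fun y => y + (-1 : A) • ∑ i, c y i • x i with hP
  have hPW : ∀ y j, frm lam h (x j) (P y) = 0 := by
    intro y j
    simp only [hP]
    rw [frm_add_right, frm_smul_right, frm_finset_sum_smul_right]
    have : ∑ i, c y i * frm lam h (x j) (x i) = ∑ i, G j i * c y i :=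
      Finset.sum_congr rfl fun i _ => by rw [hGdef, Matrix.of_apply, mul_comm]
    rw [this, hGc]; ring
  have hwy : ∀ w, (∀ i, frm lam h (x i) w = 0) → ∀ y, frm lam h w y ∈ M := by
    intro w hw y
    have h1 : frm lam h w (P y) = frm lam h w y := by
      simp only [hP]
      rw [frm_add_right, frm_smul_right, frm_finset_sum_smul_right]
      have : ∑ i, c y i * frm lam h w (x i) = 0 := by
        refine Finset.sum_eq_zero fun i _ => ?_
        rw [frm_herm hlam hε herm (x i) w, hw i, map_zero, mul_zero, mul_zero]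
      rw [this]; ring
    rw [← h1]
    exact hcon w (P y) hw (hPW y)
  have hwN : ∀ w, (∀ i, frm lam h (x i) w = 0) → ∀ j, w j ∈ M.comap (lam : A →+* A) := by
    intro w hw j
    rw [Ideal.mem_comap]
    have := hwy w hw (h⁻¹ *ᵥ Pi.single j 1)
    rwa [frm_inv_single hh] at this
  set N : Ideal A := M.comap (lam : A →+* A) with hN
  have hNmax : N.IsMaximal := Ideal.comap_isMaximal_of_surjective (lam : A →+* A) lam.surjective
  letI : Field (A ⧸ N) := Ideal.Quotient.field N
  let Xm : Matrix (Fin n) ι A := Matrix.of fun a i => x i a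
  let Cm : Matrix ι (Fin n) A := Matrix.of fun i j => c (Pi.single j 1) i
  have hprod : (Xm.map (Ideal.Quotient.mk N)) * (Cm.map (Ideal.Quotient.mk N)) = 1 := by
    rw [← Matrix.map_mul]
    ext a j
    rw [Matrix.map_apply, Matrix.one_apply]
    have h1 : (Xm * Cm) a j = (Pi.single j (1 : A) : Fin n → A) a - P (Pi.single j 1) a := by
      simp only [hP, Matrix.mul_apply, Xm, Cm, Matrix.of_apply, Pi.add_apply, Pi.smul_apply,
        Finset.sum_apply, smul_eq_mul]
      rw [Finset.mul_sum]
      have : ∀ i : ι, x i a * c (Pi.single j 1) i =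
          -(-1 * (c (Pi.single j 1) i * x i a)) := fun i => by ring
      rw [Finset.sum_congr rfl (fun i _ => this i), Finset.sum_neg_distrib]
      ring
    rw [h1, map_sub, (Ideal.Quotient.eq_zero_iff_mem (I := N)).2 (hwN _ (hPW _) a), sub_zero,
      Pi.single_apply]
    split_ifs <;> simp
  have hr1 : (1 : Matrix (Fin n) (Fin n) (A ⧸ N)).rank = n := by
    rw [Matrix.rank_one, Fintype.card_fin]
  have hr2 := Matrix.rank_mul_le_left (Xm.map (Ideal.Quotient.mk N)) (Cm.map (Ideal.Quotient.mk N))
  rw [hprod, hr1] at hr2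
  have hr3 := Matrix.rank_le_card_width (Xm.map (Ideal.Quotient.mk N))
  omega

end gram

end Groth.Agent.Lib.Helper15.HermDiag
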