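import Mathlib
import Groth.Agent.Lib.Helper15.FKForm
import Groth.Agent.Lib.Helper15.FKNbhd
import Groth.Agent.Lib.Helper15.HermDiag

/-!
# Étale-local normal forms of symmetric and alternating unimodular matrices (helper15)
-/

set_option linter.style.haveILetI false
set_option autoImplicit false

universe u

open Matrix

namespace Groth.Agent.Lib.Helper15.FKFamily

open Groth.Agent.Lib.Helper15.FKForm Groth.Agent.Lib.Helper15.FKNbhd

/-- the standard `2 × 2` alternating matrix -/
def J2 (T : Type*) [CommRing T] : Matrix (Fin 2) (Fin 2) T := !![0, -1; 1, 0]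

/-- the standard alternating matrix of size `2k` -/
def Jstd (k : ℕ) (T : Type*) [CommRing T] : Matrix (Fin k × Fin 2) (Fin k × Fin 2) T :=
  Matrix.of fun p p' => if p.1 = p'.1 then J2 T p.2 p'.2 else 0

theorem J2_map {T T' : Type*} [CommRing T] [CommRing T'] (f : T →+* T') (a b : Fin 2) :
    f (J2 T a b) = J2 T' a b := by
  fin_cases a <;> fin_cases b <;> simp [J2]

theorem Jstd_map {T T' : Type*} [CommRing T] [CommRing T'] (f : T →+* T') (k : ℕ) :
    (Jstd k T).map f = Jstd k T' := by
  ext p p'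
  simp only [Jstd, Matrix.map_apply, Matrix.of_apply]
  split_ifs
  · exact J2_map f _ _
  · exact map_zero f

theorem J2_mul_J2 (T : Type*) [CommRing T] : J2 T * J2 T = -1 := by
  ext a b
  fin_cases a <;> fin_cases b <;> simp [J2, Matrix.mul_apply, Fin.sum_univ_two]

theorem J2_transpose (T : Type*) [CommRing T] : (J2 T)ᵀ = -J2 T := by
  ext a b
  fin_cases a <;> fin_cases b <;> simp [J2]

theorem Jstd_mul_Jstd (k : ℕ) (T : Type*) [CommRing T] : Jstd k T * Jstd k T = -1 := by
  ext p p'
  obtain ⟨i, a⟩ := p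
  obtain ⟨j, b⟩ := p'
  simp only [Jstd, Matrix.mul_apply, Matrix.of_apply, Fintype.sum_prod_type, Matrix.neg_apply,
    Matrix.one_apply, Prod.mk.injEq]
  rw [Finset.sum_eq_single i]
  · by_cases hij : i = j
    · subst hij
      have := congrFun (congrFun (J2_mul_J2 T) a) b
      simp only [Matrix.mul_apply, Matrix.neg_apply, Matrix.one_apply] at this
      simpa using this
    · simp [hij]
  · intro i' _ hi'
    simp [Ne.symm hi']
  · intro hi; exact absurd (Finset.mem_univ i) hi

theorem Jstd_transpose (k : ℕ) (T : Type*) [CommRing T] : (Jstd k T)ᵀ = -Jstd k T := by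
  ext p p'
  obtain ⟨i, a⟩ := p
  obtain ⟨j, b⟩ := p'
  have := congrFun (congrFun (J2_transpose T) a) b
  simp only [Matrix.transpose_apply, Matrix.neg_apply] at this
  simp only [Jstd, Matrix.transpose_apply, Matrix.of_apply, Matrix.neg_apply]
  by_cases hij : i = j
  · subst hij; simpa using this
  · simp [hij, Ne.symm hij]

theorem Jstd_mul_neg (k : ℕ) (T : Type*) [CommRing T] : Jstd k T * (-Jstd k T) = 1 := by
  rw [Matrix.mul_neg, Jstd_mul_Jstd, neg_neg]

theorem neg_Jstd_mul (k : ℕ) (T : Type*) [CommRing T] : (-Jstd k T) * Jstd k T = 1 := by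
  rw [Matrix.neg_mul, Jstd_mul_Jstd, neg_neg]

theorem map_map_tower {T T₁ T₂ : Type*} [CommRing T] [CommRing T₁] [CommRing T₂] [Algebra T T₁]
    [Algebra T₁ T₂] [Algebra T T₂] [IsScalarTower T T₁ T₂] {m n : Type*} (u : Matrix m n T) :
    (u.map (algebraMap T T₁)).map (algebraMap T₁ T₂) = u.map (algebraMap T T₂) := by
  ext i j
  simp [IsScalarTower.algebraMap_apply T T₁ T₂]

theorem isUnit_two_map {T T' : Type*} [CommRing T] [CommRing T'] [Algebra T T']
    (h2 : IsUnit (2 : T)) : IsUnit (2 : T') := by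
  have := h2.map (algebraMap T T')
  rwa [map_ofNat] at this

theorem isUnit_det_map {T T' : Type*} [CommRing T] [CommRing T'] (f : T →+* T') {n : Type*}
    [Fintype n] [DecidableEq n] {u : Matrix n n T} (h : IsUnit u.det) : IsUnit (u.map f).det := by
  have := h.map f
  rwa [RingHom.map_det, RingHom.mapMatrix_apply] at this

section sym

/-- one more orthonormal vector, étale locally -/
theorem step_sym (T : Type u) [CommRing T] (h2 : IsUnit (2 : T)) (q : Ideal T) [q.IsPrime] {n : ℕ}
    (u : Matrix (Fin n) (Fin n) T) (huT : uᵀ = u) (hdet : IsUnit u.det) {k : ℕ} (hk : k < n)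
    (x : Fin k → Fin n → T) (hx : ∀ i j, bf u (x i) (x j) = if i = j then 1 else 0) :
    ∃ (T' : Type u) (_ : CommRing T') (_ : Algebra T T') (_ : Algebra.Etale T T')
      (q' : Ideal T') (_ : q'.IsPrime), q'.comap (algebraMap T T') = q ∧
      ∃ x' : Fin (k + 1) → Fin n → T',
        ∀ i j, bf (u.map (algebraMap T T')) (x' i) (x' j) = if i = j then 1 else 0 := by
  classical
  have hu1 : uᵀ = (1 : T) • u := by rw [one_smul, huT]
  have hG : (Matrix.of fun i j => bf u (x i) (x j)) = (1 : Matrix (Fin k) (Fin k) T) := by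
    ext i j
    rw [Matrix.of_apply, hx, Matrix.one_apply]
  obtain ⟨y, z, hy, hz, hyz⟩ := exists_pair_gram hu1 q (Ideal.IsPrime.ne_top inferInstance) hdet
    (ι := Fin k) (by rw [Fintype.card_fin]; exact hk) x (by rw [hG, Matrix.det_one]; exact isUnit_one)
  -- a vector of the complement with value outside `q`
  obtain ⟨w, hw, hww⟩ : ∃ w, (∀ i, bf u (x i) w = 0) ∧ bf u w w ∉ q := by
    by_cases h1 : bf u y y ∈ q
    · by_cases h3 : bf u z z ∈ q
      · refine ⟨y + z, fun i => by rw [bf_add_right, hy, hz, add_zero], fun hmem => ?_⟩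
        have e : bf u (y + z) (y + z) = bf u y y + bf u z z + 2 * bf u y z := by
          rw [bf_add_left, bf_add_right, bf_add_right, bf_symm hu1 y z]
          ring
        rw [e] at hmem
        have h4 : 2 * bf u y z ∈ q := by
          have := q.sub_mem hmem (q.add_mem h1 h3)
          rwa [add_sub_cancel_left] at this
        rcases Ideal.IsPrime.mem_or_mem inferInstance h4 with h5 | h5
        · exact Ideal.IsPrime.ne_top inferInstance (q.eq_top_of_isUnit_mem h5 h2)
        · exact hyz h5
      · exact ⟨z, hz, h3⟩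
    · exact ⟨y, hy, h1⟩
  obtain ⟨T', _, _, _, q', _, hq', r, rinv, hr, hrinv⟩ := exists_sqrt_nbhd T h2 q (bf u w w) hww
  refine ⟨T', inferInstance, inferInstance, inferInstance, q', inferInstance, hq', ?_⟩
  set f := algebraMap T T' with hf
  refine ⟨Fin.snoc (α := fun _ => Fin n → T') (fun i => f ∘ x i) (rinv • (f ∘ w)), ?_⟩
  have hu1' : (u.map f)ᵀ = (1 : T') • u.map f := by
    rw [one_smul, ← Matrix.transpose_map, huT]
  intro i j
  induction i using Fin.lastCases with
  | last =>
    induction j using Fin.lastCases with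
    | last =>
      rw [Fin.snoc_last, bf_smul_left, bf_smul_right, bf_map, if_pos rfl, ← hr]
      linear_combination (rinv * r + 1) * hrinv
    | cast j =>
      rw [Fin.snoc_last, Fin.snoc_castSucc, bf_smul_left, bf_map, bf_symm hu1 (x j) w, hw,
        if_neg (Fin.castSucc_lt_last j).ne']
      simp
  | cast i =>
    induction j using Fin.lastCases with
    | last =>
      rw [Fin.snoc_last, Fin.snoc_castSucc, bf_smul_right, bf_map, hw,
        if_neg (Fin.castSucc_lt_last i).ne]
      simp
    | cast j =>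
      rw [Fin.snoc_castSucc, Fin.snoc_castSucc, bf_map, hx]
      by_cases hij : i = j
      · rw [if_pos hij, if_pos (by rw [hij]), map_one]
      · rw [if_neg hij, if_neg (fun h => hij (Fin.castSucc_injective _ h)), map_zero]

/-- a full orthonormal family, étale locally -/
theorem full_sym {n : ℕ} : ∀ (k : ℕ), k ≤ n → ∀ (T : Type u) [CommRing T] (_ : IsUnit (2 : T))
    (q : Ideal T) [q.IsPrime]
    (u : Matrix (Fin n) (Fin n) T) (_ : uᵀ = u) (_ : IsUnit u.det),
    ∃ (T' : Type u) (_ : CommRing T') (_ : Algebra T T') (_ : Algebra.Etale T T')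
      (q' : Ideal T') (_ : q'.IsPrime), q'.comap (algebraMap T T') = q ∧
      ∃ x : Fin k → Fin n → T',
        ∀ i j, bf (u.map (algebraMap T T')) (x i) (x j) = if i = j then 1 else 0 := by
  intro k
  induction k with
  | zero =>
    intro _ T _ h2 q _ u huT hdet
    refine ⟨T, inferInstance, inferInstance, inferInstance, q, inferInstance, ?_,
      fun i => i.elim0, fun i => i.elim0⟩
    simp
  | succ k ih =>
    intro hk T _ h2 q _ u huT hdet
    obtain ⟨T₁, _, _, _, q₁, _, hq₁, x, hx⟩ := ih (by omega) T h2 q u huT hdet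
    apply nbhd_trans q T₁ q₁ hq₁ (fun T' _ _ => ∃ x : Fin (k + 1) → Fin n → T',
        ∀ i j, bf (u.map (algebraMap T T')) (x i) (x j) = if i = j then 1 else 0)
    obtain ⟨T₂, _, _, _, q₂, _, hq₂, x', hx'⟩ := step_sym T₁ (isUnit_two_map h2) q₁
      (u.map (algebraMap T T₁)) (by rw [← Matrix.transpose_map, huT]) (isUnit_det_map _ hdet)
      (by omega) x hx
    refine ⟨T₂, inferInstance, inferInstance, inferInstance, q₂, inferInstance, hq₂, ?_⟩
    intro _ _
    refine ⟨x', ?_⟩
    rw [← map_map_tower (T₁ := T₁)]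
    exact hx'

/-- a symmetric unimodular matrix is étale locally of the form `w wᵀ` -/
theorem exists_sym_form (T : Type u) [CommRing T] (h2 : IsUnit (2 : T)) (q : Ideal T) [q.IsPrime]
    {n : ℕ} (u : Matrix (Fin n) (Fin n) T) (huT : uᵀ = u) (hdet : IsUnit u.det) :
    ∃ (T' : Type u) (_ : CommRing T') (_ : Algebra T T') (_ : Algebra.Etale T T')
      (q' : Ideal T') (_ : q'.IsPrime), q'.comap (algebraMap T T') = q ∧
      ∃ w winv : Matrix (Fin n) (Fin n) T', w * winv = 1 ∧ winv * w = 1 ∧
        u.map (algebraMap T T') = w * wᵀ := by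
  obtain ⟨T', _, _, _, q', _, hq', x, hx⟩ := full_sym n le_rfl T h2 q u huT hdet
  refine ⟨T', inferInstance, inferInstance, inferInstance, q', inferInstance, hq', ?_⟩
  set u' := u.map (algebraMap T T') with hu'
  have hu'T : u'ᵀ = u' := by rw [hu', ← Matrix.transpose_map, huT]
  set X : Matrix (Fin n) (Fin n) T' := Matrix.of fun i a => x i a with hX
  have hG : X * u' * Xᵀ = 1 := by
    rw [hX, ← gram_eq]
    ext i j
    rw [Matrix.of_apply, hx, Matrix.one_apply]
  have h1 : X * (u' * Xᵀ) = 1 := by rw [← Matrix.mul_assoc, hG]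
  have h2' : (u' * Xᵀ) * X = 1 := mul_eq_one_comm.mp h1
  refine ⟨u' * Xᵀ, X, h2', h1, ?_⟩
  rw [Matrix.transpose_mul, Matrix.transpose_transpose, hu'T, ← Matrix.mul_assoc, h2',
    Matrix.one_mul]

end sym

section alt

theorem bf_self_eq_zero {T : Type*} [CommRing T] (h2 : IsUnit (2 : T)) {n : ℕ}
    {u : Matrix (Fin n) (Fin n) T} (hu : uᵀ = (-1 : T) • u) (y : Fin n → T) : bf u y y = 0 := by
  have h := bf_symm hu y y
  have h3 : (2 : T) * bf u y y = 0 := by linear_combination h
  exact (h2.mul_right_eq_zero).mp h3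

/-- one more hyperbolic pair, Zariski locally -/
theorem step_alt (T : Type u) [CommRing T] (h2 : IsUnit (2 : T)) (q : Ideal T) [q.IsPrime] {n : ℕ}
    (u : Matrix (Fin n) (Fin n) T) (huT : uᵀ = (-1 : T) • u) (hdet : IsUnit u.det) {k : ℕ}
    (hk : 2 * k < n)
    (x : Fin k × Fin 2 → Fin n → T) (hx : ∀ p p', bf u (x p) (x p') = Jstd k T p p') :
    ∃ (T' : Type u) (_ : CommRing T') (_ : Algebra T T') (_ : Algebra.Etale T T')
      (q' : Ideal T') (_ : q'.IsPrime), q'.comap (algebraMap T T') = q ∧
      ∃ x' : Fin (k + 1) × Fin 2 → Fin n → T',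
        ∀ p p', bf (u.map (algebraMap T T')) (x' p) (x' p') = Jstd (k + 1) T' p p' := by
  classical
  have hG : (Matrix.of fun p p' => bf u (x p) (x p')) = Jstd k T := by
    ext p p'
    rw [Matrix.of_apply, hx]
  obtain ⟨y, z, hy, hz, hyz⟩ := exists_pair_gram huT q (Ideal.IsPrime.ne_top inferInstance) hdet
    (ι := Fin k × Fin 2) (by rw [Fintype.card_prod, Fintype.card_fin, Fintype.card_fin]; omega) x
    (by
      rw [hG]
      exact IsUnit.of_mul_eq_one _ (by rw [← Matrix.det_mul, Jstd_mul_neg, Matrix.det_one]))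
  obtain ⟨T', _, _, _, q', _, hq', sinv, hsinv⟩ := exists_away_nbhd T q (bf u y z) hyz
  refine ⟨T', inferInstance, inferInstance, inferInstance, q', inferInstance, hq', ?_⟩
  set f := algebraMap T T' with hf
  have huT' : (u.map f)ᵀ = (-1 : T') • u.map f := by
    rw [← Matrix.transpose_map, huT]
    ext i j
    simp
  have h2' : IsUnit (2 : T') := isUnit_two_map h2
  let new : Fin 2 → Fin n → T' := fun a => if a = 0 then f ∘ y else (-sinv) • (f ∘ z)
  refine ⟨fun p => Fin.lastCases (motive := fun _ => Fin n → T') (new p.2)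
    (fun i => f ∘ x (i, p.2)) p.1, ?_⟩
  have hnewW : ∀ (p : Fin k × Fin 2) (b : Fin 2), bf (u.map f) (f ∘ x p) (new b) = 0 := by
    intro p b
    simp only [new]
    split_ifs
    · rw [bf_map, hy, map_zero]
    · rw [bf_smul_right, bf_map, hz, map_zero, mul_zero]
  have hnewW' : ∀ (p : Fin k × Fin 2) (b : Fin 2), bf (u.map f) (new b) (f ∘ x p) = 0 := by
    intro p b
    rw [bf_symm huT', hnewW, mul_zero]
  have hzy : bf u z y = - bf u y z := by rw [bf_symm huT y z]; ring
  rintro ⟨i, a⟩ ⟨j, b⟩
  induction i using Fin.lastCases with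
  | last =>
    induction j using Fin.lastCases with
    | last =>
      simp only [Fin.lastCases_last, Jstd, Matrix.of_apply, if_true]
      fin_cases a <;> fin_cases b
      · simp only [new, Fin.zero_eta, if_true]
        rw [bf_self_eq_zero h2' huT']
        simp [J2]
      · simp only [new, Fin.zero_eta, Fin.mk_one, if_true, one_ne_zero, if_false]
        rw [bf_smul_right, bf_map]
        simp only [J2, Matrix.of_apply, Matrix.cons_val', Matrix.cons_val_zero,
          Matrix.cons_val_one, Matrix.cons_val_fin_one]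
        linear_combination (-1 : T') * hsinv
      · simp only [new, Fin.zero_eta, Fin.mk_one, if_true, one_ne_zero, if_false]
        rw [bf_smul_left, bf_map, hzy, map_neg]
        simp only [J2, Matrix.of_apply, Matrix.cons_val', Matrix.cons_val_zero,
          Matrix.cons_val_one, Matrix.cons_val_fin_one]
        linear_combination hsinv
      · simp only [new, Fin.mk_one, one_ne_zero, if_false]
        rw [bf_self_eq_zero h2' huT']
        simp [J2]
    | cast j =>
      simp only [Fin.lastCases_last, Fin.lastCases_castSucc, Jstd, Matrix.of_apply]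
      rw [hnewW', if_neg (Fin.castSucc_lt_last j).ne']
  | cast i =>
    induction j using Fin.lastCases with
    | last =>
      simp only [Fin.lastCases_last, Fin.lastCases_castSucc, Jstd, Matrix.of_apply]
      rw [hnewW, if_neg (Fin.castSucc_lt_last i).ne]
    | cast j =>
      simp only [Fin.lastCases_castSucc]
      rw [bf_map, hx]
      simp only [Jstd, Matrix.of_apply]
      by_cases hij : i = j
      · rw [if_pos hij, if_pos (by rw [hij]), J2_map]
      · rw [if_neg hij, if_neg (fun h => hij (Fin.castSucc_injective _ h)), map_zero]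

/-- a family of `k` hyperbolic pairs, Zariski locally -/
theorem full_alt {n : ℕ} : ∀ (k : ℕ), 2 * k ≤ n → ∀ (T : Type u) [CommRing T] (_ : IsUnit (2 : T))
    (q : Ideal T) [q.IsPrime]
    (u : Matrix (Fin n) (Fin n) T) (_ : uᵀ = (-1 : T) • u) (_ : IsUnit u.det),
    ∃ (T' : Type u) (_ : CommRing T') (_ : Algebra T T') (_ : Algebra.Etale T T')
      (q' : Ideal T') (_ : q'.IsPrime), q'.comap (algebraMap T T') = q ∧
      ∃ x : Fin k × Fin 2 → Fin n → T',
        ∀ p p', bf (u.map (algebraMap T T')) (x p) (x p') = Jstd k T' p p' := by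
  intro k
  induction k with
  | zero =>
    intro _ T _ h2 q _ u huT hdet
    refine ⟨T, inferInstance, inferInstance, inferInstance, q, inferInstance, ?_,
      fun p => p.1.elim0, fun p => p.1.elim0⟩
    simp
  | succ k ih =>
    intro hk T _ h2 q _ u huT hdet
    obtain ⟨T₁, _, _, _, q₁, _, hq₁, x, hx⟩ := ih (by omega) T h2 q u huT hdet
    apply nbhd_trans q T₁ q₁ hq₁ (fun T' _ _ => ∃ x : Fin (k + 1) × Fin 2 → Fin n → T',
        ∀ p p', bf (u.map (algebraMap T T')) (x p) (x p') = Jstd (k + 1) T' p p')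
    have huT₁ : (u.map (algebraMap T T₁))ᵀ = (-1 : T₁) • u.map (algebraMap T T₁) := by
      rw [← Matrix.transpose_map, huT]
      ext i j
      simp
    obtain ⟨T₂, _, _, _, q₂, _, hq₂, x', hx'⟩ := step_alt T₁ (isUnit_two_map h2) q₁
      (u.map (algebraMap T T₁)) huT₁ (isUnit_det_map _ hdet) (by omega) x hx
    refine ⟨T₂, inferInstance, inferInstance, inferInstance, q₂, inferInstance, hq₂, ?_⟩
    intro _ _
    refine ⟨x', ?_⟩
    rw [← map_map_tower (T₁ := T₁)]
    exact hx'

/-- an alternating unimodular matrix is locally of the form `w J wᵀ` -/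
theorem exists_alt_form (T : Type u) [CommRing T] (h2 : IsUnit (2 : T)) (q : Ideal T) [q.IsPrime]
    {n : ℕ} (u : Matrix (Fin n) (Fin n) T) (huT : uᵀ = (-1 : T) • u) (hdet : IsUnit u.det) :
    ∃ (T' : Type u) (_ : CommRing T') (_ : Algebra T T') (_ : Algebra.Etale T T')
      (q' : Ideal T') (_ : q'.IsPrime), q'.comap (algebraMap T T') = q ∧
      ∃ (k : ℕ) (_ : n = 2 * k) (w : Matrix (Fin n) (Fin k × Fin 2) T')
        (winv : Matrix (Fin k × Fin 2) (Fin n) T'), w * winv = 1 ∧ winv * w = 1 ∧
        u.map (algebraMap T T') = w * Jstd k T' * wᵀ := by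
  classical
  -- `n` is even
  haveI : Nontrivial T := nontrivial_of_ne (0 : T) 1 (fun h =>
    (inferInstance : q.IsPrime).ne_top ((Ideal.eq_top_iff_one _).2 (h ▸ q.zero_mem)))
  have hent : ∀ i j, u j i = - u i j := by
    intro i j
    have := congrFun (congrFun huT i) j
    simpa using this
  have heven : Even n := by
    by_contra hodd
    rw [Nat.not_even_iff_odd] at hodd
    have hdiag : ∀ i, u i i = 0 := by
      intro i
      have h3 : (2 : T) * u i i = 0 := by linear_combination hent i i
      exact (h2.mul_right_eq_zero).mp h3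
    have := Groth.Agent.Lib.Helper15.HermDiag.det_eq_zero_of_alternating_odd hodd u hdiag hent
    rw [this] at hdet
    exact not_isUnit_zero hdet
  obtain ⟨k, hk⟩ := heven
  have hk2 : n = 2 * k := by omega
  obtain ⟨T', _, _, _, q', _, hq', x, hx⟩ := full_alt k (by omega) T h2 q u huT hdet
  refine ⟨T', inferInstance, inferInstance, inferInstance, q', inferInstance, hq', k, hk2, ?_⟩
  set u' := u.map (algebraMap T T') with hu'
  have hu'T : u'ᵀ = -u' := by
    rw [hu', ← Matrix.transpose_map, huT]
    ext i j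
    simp
  set X : Matrix (Fin k × Fin 2) (Fin n) T' := Matrix.of fun p a => x p a with hX
  have hG : X * u' * Xᵀ = Jstd k T' := by
    rw [hX, ← gram_eq]
    ext p p'
    rw [Matrix.of_apply, hx]
  have h1 : X * (u' * Xᵀ * (-Jstd k T')) = 1 := by
    rw [← Matrix.mul_assoc, ← Matrix.mul_assoc, hG, Jstd_mul_neg]
  have e : Fin k × Fin 2 ≃ Fin n := by
    apply Fintype.equivOfCardEq
    rw [Fintype.card_prod, Fintype.card_fin, Fintype.card_fin, Fintype.card_fin]
    omega
  have h2' : (u' * Xᵀ * (-Jstd k T')) * X = 1 := (Matrix.mul_eq_one_comm_of_equiv e).mp h1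
  refine ⟨u' * Xᵀ * (-Jstd k T'), X, h2', h1, ?_⟩
  have e1 : (u' * Xᵀ * (-Jstd k T'))ᵀ = Jstd k T' * X * (-u') := by
    rw [Matrix.transpose_mul, Matrix.transpose_mul, Matrix.transpose_transpose, hu'T,
      Matrix.transpose_neg, Jstd_transpose, neg_neg, Matrix.mul_assoc]
  rw [e1]
  have hJJ : Jstd k T' * (Jstd k T' * X * (-u')) = X * u' := by
    rw [Matrix.mul_assoc (Jstd k T') X, ← Matrix.mul_assoc (Jstd k T') (Jstd k T'), Jstd_mul_Jstd,
      Matrix.neg_mul, Matrix.one_mul, Matrix.mul_neg, neg_neg]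
  rw [Matrix.mul_assoc _ (Jstd k T'), hJJ, ← Matrix.mul_assoc, h2', Matrix.one_mul]

end alt

end Groth.Agent.Lib.Helper15.FKFamily
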