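import Mathlib
import Groth.Agent.Lib.Helper15.FKFamily
import Groth.Agent.Lib.Helper15.AzumayaInner

/-!
# Involutions of the first kind on matrix algebras: étale-local normal form (helper15)
-/

set_option linter.style.haveILetI false
set_option autoImplicit false

universe u

open Matrix
open scoped TensorProduct

namespace Groth.Agent.Lib.Helper15.FKMat

open Groth.Agent.Lib.Helper15.FKForm Groth.Agent.Lib.Helper15.FKNbhd
  Groth.Agent.Lib.Helper15.FKFamily Groth.Agent.Lib.Helper15.Azumaya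

section intertwiners

variable (R : Type*) [CommRing R] (A : Type*) [Ring A] [Algebra R A] [IsAzumaya R A]

/-- intertwiners for an automorphism of an Azumaya algebra which are invertible near `p` -/
theorem exists_intertwiners (φ : A ≃ₐ[R] A) (p : Ideal R) [p.IsPrime] :
    ∃ (g g' : A) (r r' : R), (∀ a : A, φ a * g = g * a) ∧ algebraMap R A r = g' * g ∧
      algebraMap R A r' = g * g' ∧ r ∉ p ∧ r' ∉ p := by
  obtain ⟨g, hg, hgu⟩ := exists_intertwiner_fibre_unit R A φ p
  obtain ⟨g', hg', hgu'⟩ := exists_intertwiner_fibre_unit R A φ.symm p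
  have hcen := isCentral_of_isAzumaya_ring R A
  have hc1 : ∀ a : A, a * (g' * g) = (g' * g) * a := by
    intro a
    have h1 := hg' (φ a)
    rw [AlgEquiv.symm_apply_apply] at h1
    rw [mul_assoc, ← hg a, ← mul_assoc, ← mul_assoc, h1]
  have hc2 : ∀ a : A, a * (g * g') = (g * g') * a := by
    intro a
    have h1 := hg (φ.symm a)
    rw [AlgEquiv.apply_symm_apply] at h1
    rw [mul_assoc, ← hg' a, ← mul_assoc, ← mul_assoc, h1]
  obtain ⟨r, hr⟩ := hcen.out (Subalgebra.mem_center_iff.mpr hc1)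
  obtain ⟨r', hr'⟩ := hcen.out (Subalgebra.mem_center_iff.mpr hc2)
  have hr1 : algebraMap R A r = g' * g := hr
  have hr1' : algebraMap R A r' = g * g' := hr'
  have hAz : IsAzumaya p.ResidueField (p.ResidueField ⊗[R] A) :=
    isAzumaya_baseChange R p.ResidueField A
  have hsr := isSimpleRing_of_isAzumaya p.ResidueField (p.ResidueField ⊗[R] A)
  have hnt : Nontrivial (p.ResidueField ⊗[R] A) := inferInstance
  have hnotmem : ∀ (t : R) (x : A), algebraMap R A t = x →
      IsUnit ((1 : p.ResidueField) ⊗ₜ[R] x) → t ∉ p := by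
    intro t x htx hx htp
    rw [← htx, Algebra.algebraMap_eq_smul_one, ← TensorProduct.smul_tmul,
      ← Algebra.algebraMap_eq_smul_one,
      Ideal.algebraMap_residueField_eq_zero.mpr htp, TensorProduct.zero_tmul] at hx
    exact not_isUnit_zero hx
  refine ⟨g, g', r, r', hg, hr1, hr1', ?_, ?_⟩
  · apply hnotmem r _ hr1
    have : (1 : p.ResidueField) ⊗ₜ[R] (g' * g) =
        ((1 : p.ResidueField) ⊗ₜ[R] g') * ((1 : p.ResidueField) ⊗ₜ[R] g) := by
      simp [Algebra.TensorProduct.tmul_mul_tmul]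
    rw [this]
    exact hgu'.mul hgu
  · apply hnotmem r' _ hr1'
    have : (1 : p.ResidueField) ⊗ₜ[R] (g * g') =
        ((1 : p.ResidueField) ⊗ₜ[R] g) * ((1 : p.ResidueField) ⊗ₜ[R] g') := by
      simp [Algebra.TensorProduct.tmul_mul_tmul]
    rw [this]
    exact hgu.mul hgu'

end intertwiners

section conj

variable {T T' : Type*} [CommRing T] [CommRing T'] {n : ℕ} {κ : Type*} [Fintype κ] [DecidableEq κ]

/-- from the intertwining relation and `u = w G wᵀ` to the normal form of the involution -/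
theorem rel_to_conj (F : T →+* T') (σ : Matrix (Fin n) (Fin n) T → Matrix (Fin n) (Fin n) T)
    (u : Matrix (Fin n) (Fin n) T')
    (hRel : ∀ y, (σ y).map F * u = u * (y.map F)ᵀ)
    (w : Matrix (Fin n) κ T') (winv : Matrix κ (Fin n) T') (hw : w * winv = 1) (hw' : winv * w = 1)
    (G Ginv : Matrix κ κ T') (hG : G * Ginv = 1) (hu : u = w * G * wᵀ) (x : Matrix (Fin n) (Fin n) T) :
    winv * (σ x).map F * w = G * (winv * x.map F * w)ᵀ * Ginv := by
  have hwT : wᵀ * winvᵀ = 1 := by rw [← Matrix.transpose_mul, hw', Matrix.transpose_one]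
  have h1 : winv * (σ x).map F * w * G = G * (winv * x.map F * w)ᵀ := by
    calc winv * (σ x).map F * w * G = winv * ((σ x).map F * (w * G * wᵀ)) * winvᵀ := by
          simp only [Matrix.mul_assoc]
          rw [hwT, Matrix.mul_one]
      _ = winv * (w * G * wᵀ * (x.map F)ᵀ) * winvᵀ := by rw [← hu, hRel x]
      _ = (winv * w) * G * (wᵀ * (x.map F)ᵀ * winvᵀ) := by simp only [Matrix.mul_assoc]
      _ = G * (winv * x.map F * w)ᵀ := by
          rw [hw', Matrix.one_mul, Matrix.transpose_mul, Matrix.transpose_mul, Matrix.mul_assoc]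
  calc winv * (σ x).map F * w = winv * (σ x).map F * w * G * Ginv := by
        rw [Matrix.mul_assoc _ G Ginv, hG, Matrix.mul_one]
    _ = _ := by rw [h1]

end conj

section main

variable (T : Type u) [CommRing T] {n : ℕ}
  (σ : Matrix (Fin n) (Fin n) T → Matrix (Fin n) (Fin n) T)

/-- the conclusion: the involution is, after conjugation, the transpose or the standard symplectic
involution -/
def Concl (T' : Type u) [CommRing T'] [Algebra T T'] : Prop :=
  (∃ w winv : Matrix (Fin n) (Fin n) T', w * winv = 1 ∧ winv * w = 1 ∧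
      ∀ x, winv * (σ x).map (algebraMap T T') * w = (winv * x.map (algebraMap T T') * w)ᵀ) ∨
  (∃ (k : ℕ) (_ : n = 2 * k) (w : Matrix (Fin n) (Fin k × Fin 2) T')
      (winv : Matrix (Fin k × Fin 2) (Fin n) T'), w * winv = 1 ∧ winv * w = 1 ∧
      ∀ x, winv * (σ x).map (algebraMap T T') * w =
        Jstd k T' * (winv * x.map (algebraMap T T') * w)ᵀ * (-Jstd k T'))

variable {T σ}

theorem finish (hn : 0 < n) (T₁ : Type u) [CommRing T₁] [Algebra T T₁] (h2 : IsUnit (2 : T₁))
    (q₁ : Ideal T₁) [q₁.IsPrime] (u₁ : Matrix (Fin n) (Fin n) T₁)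
    (hRel : ∀ y, (σ y).map (algebraMap T T₁) * u₁ = u₁ * (y.map (algebraMap T T₁))ᵀ)
    (hdet : IsUnit u₁.det) (ε : T₁) (hε : u₁ᵀ = ε • u₁) (hεε : ε * ε = 1) :
    ∃ (T₃ : Type u) (_ : CommRing T₃) (_ : Algebra T₁ T₃) (_ : Algebra.Etale T₁ T₃)
      (q₃ : Ideal T₃) (_ : q₃.IsPrime), q₃.comap (algebraMap T₁ T₃) = q₁ ∧
      ∀ (_ : Algebra T T₃) (_ : IsScalarTower T T₁ T₃), Concl T σ T₃ := by
  classical
  have hprod : (ε - 1) * (ε + 1) = 0 := by linear_combination hεε
  by_cases hcase : ε + 1 ∈ q₁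
  · -- symplectic case
    have hm : ε - 1 ∉ q₁ := by
      intro hm
      have : (2 : T₁) ∈ q₁ := by
        have := q₁.sub_mem hcase hm
        convert this using 1
        ring
      exact Ideal.IsPrime.ne_top inferInstance (q₁.eq_top_of_isUnit_mem this h2)
    obtain ⟨T₂, _, _, _, q₂, _, hq₂, sinv, hsinv⟩ := exists_away_nbhd T₁ q₁ (ε - 1) hm
    apply nbhd_trans q₁ T₂ q₂ hq₂
      (fun T' _ _ => ∀ (_ : Algebra T T') (_ : IsScalarTower T T₁ T'), Concl T σ T')
    have hε₂ : algebraMap T₁ T₂ ε = -1 := by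
      have h0 : algebraMap T₁ T₂ (ε - 1) * algebraMap T₁ T₂ (ε + 1) = 0 := by
        rw [← map_mul, hprod, map_zero]
      have h1 : algebraMap T₁ T₂ (ε + 1) = 0 := by
        calc algebraMap T₁ T₂ (ε + 1) =
            (algebraMap T₁ T₂ (ε - 1) * sinv) * algebraMap T₁ T₂ (ε + 1) := by
              rw [hsinv, one_mul]
          _ = sinv * (algebraMap T₁ T₂ (ε - 1) * algebraMap T₁ T₂ (ε + 1)) := by ring
          _ = 0 := by rw [h0, mul_zero]
      rw [map_add, map_one] at h1
      linear_combination h1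
    set u₂ := u₁.map (algebraMap T₁ T₂) with hu₂
    have hu₂T : u₂ᵀ = (-1 : T₂) • u₂ := by
      rw [hu₂, ← Matrix.transpose_map, hε]
      ext i j
      simp [hε₂]
    obtain ⟨T₃, _, _, _, q₃, _, hq₃, k, hk, w, winv, hw, hw', hform⟩ :=
      exists_alt_form T₂ (isUnit_two_map h2) q₂ u₂ hu₂T (isUnit_det_map _ hdet)
    refine ⟨T₃, inferInstance, inferInstance, inferInstance, q₃, inferInstance, hq₃, ?_⟩
    intro _ _ _ _
    right
    refine ⟨k, hk, w, winv, hw, hw', fun x => ?_⟩
    refine rel_to_conj (algebraMap T T₃) σ ((u₁.map (algebraMap T₁ T₃))) ?_ w winv hw hw'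
      (Jstd k T₃) (-Jstd k T₃) (Jstd_mul_neg k T₃) ?_ x
    · intro y
      have := congrArg (fun M => M.map (algebraMap T₁ T₃)) (hRel y)
      simp only [Matrix.map_mul, map_map_tower, ← Matrix.transpose_map] at this
      simpa only [← Matrix.transpose_map] using this
    · rw [← hform, hu₂, map_map_tower]
  · -- orthogonal case
    obtain ⟨T₂, _, _, _, q₂, _, hq₂, sinv, hsinv⟩ := exists_away_nbhd T₁ q₁ (ε + 1) hcase
    apply nbhd_trans q₁ T₂ q₂ hq₂
      (fun T' _ _ => ∀ (_ : Algebra T T') (_ : IsScalarTower T T₁ T'), Concl T σ T')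
    have hε₂ : algebraMap T₁ T₂ ε = 1 := by
      have h0 : algebraMap T₁ T₂ (ε - 1) * algebraMap T₁ T₂ (ε + 1) = 0 := by
        rw [← map_mul, hprod, map_zero]
      have h1 : algebraMap T₁ T₂ (ε - 1) = 0 := by
        calc algebraMap T₁ T₂ (ε - 1) =
            algebraMap T₁ T₂ (ε - 1) * (algebraMap T₁ T₂ (ε + 1) * sinv) := by
              rw [hsinv, mul_one]
          _ = sinv * (algebraMap T₁ T₂ (ε - 1) * algebraMap T₁ T₂ (ε + 1)) := by ring
          _ = 0 := by rw [h0, mul_zero]
      rw [map_sub, map_one] at h1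
      linear_combination h1
    set u₂ := u₁.map (algebraMap T₁ T₂) with hu₂
    have hu₂T : u₂ᵀ = u₂ := by
      rw [hu₂, ← Matrix.transpose_map, hε]
      ext i j
      simp [hε₂]
    obtain ⟨T₃, _, _, _, q₃, _, hq₃, w, winv, hw, hw', hform⟩ :=
      exists_sym_form T₂ (isUnit_two_map h2) q₂ u₂ hu₂T (isUnit_det_map _ hdet)
    refine ⟨T₃, inferInstance, inferInstance, inferInstance, q₃, inferInstance, hq₃, ?_⟩
    intro _ _ _ _
    left
    refine ⟨w, winv, hw, hw', fun x => ?_⟩
    have := rel_to_conj (algebraMap T T₃) σ ((u₁.map (algebraMap T₁ T₃))) ?_ w winv hw hw'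
      (1 : Matrix (Fin n) (Fin n) T₃) 1 (Matrix.one_mul 1) ?_ x
    · rw [this, Matrix.one_mul, Matrix.mul_one]
    · intro y
      have := congrArg (fun M => M.map (algebraMap T₁ T₃)) (hRel y)
      simp only [Matrix.map_mul, map_map_tower, ← Matrix.transpose_map] at this
      simpa only [← Matrix.transpose_map] using this
    · rw [Matrix.mul_one, ← hform, hu₂, map_map_tower]

/-- **Étale-local normal form** of an involution of the first kind of a matrix algebra, `2`
invertible. -/
theorem matrix_main (h2 : IsUnit (2 : T)) (hn : 0 < n)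
    (hadd : ∀ x y, σ (x + y) = σ x + σ y) (hmul : ∀ x y, σ (x * y) = σ y * σ x)
    (hsmul : ∀ (c : T) x, σ (c • x) = c • σ x) (hinv : ∀ x, σ (σ x) = x)
    (q : Ideal T) [q.IsPrime] :
    ∃ (T' : Type u) (_ : CommRing T') (_ : Algebra T T') (_ : Algebra.Etale T T')
      (q' : Ideal T') (_ : q'.IsPrime), q'.comap (algebraMap T T') = q ∧ Concl T σ T' := by
  classical
  haveI : Nonempty (Fin n) := ⟨⟨0, hn⟩⟩
  haveI : IsAzumaya T (Matrix (Fin n) (Fin n) T) := IsAzumaya.matrix T (Fin n)
  have hσ1 : σ 1 = 1 := by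
    have h : ∀ x, σ 1 * x = x := fun x => by
      conv_rhs => rw [← hinv x, ← Matrix.mul_one (σ x), hmul, hinv]
    simpa using h 1
  let α : Matrix (Fin n) (Fin n) T ≃ₐ[T] Matrix (Fin n) (Fin n) T :=
    { toFun := fun x => σ xᵀ
      invFun := fun x => (σ x)ᵀ
      left_inv := fun x => by simp only [hinv, Matrix.transpose_transpose]
      right_inv := fun x => by simp only [hinv, Matrix.transpose_transpose]
      map_mul' := fun x y => by simp only [Matrix.transpose_mul, hmul]
      map_add' := fun x y => by simp only [Matrix.transpose_add, hadd]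
      commutes' := fun c => by
        simp only [Algebra.algebraMap_eq_smul_one, Matrix.transpose_smul, Matrix.transpose_one,
          hsmul, hσ1] }
  have hα : ∀ x, α x = σ xᵀ := fun x => rfl
  obtain ⟨g, g', r, r', hg, hr, hr', hrq, hr'q⟩ := exists_intertwiners T _ α q
  have hrr : r * r' ∉ q := fun h => (Ideal.IsPrime.mem_or_mem inferInstance h).elim hrq hr'q
  obtain ⟨T₁, _, _, _, q₁, _, hq₁, sinv, hsinv⟩ := exists_away_nbhd T q (r * r') hrr
  apply nbhd_trans q T₁ q₁ hq₁ (fun T' _ _ => Concl T σ T')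
  set f := algebraMap T T₁ with hf
  set u₁ := g.map f with hu₁
  have hRel : ∀ y, (σ y).map f * u₁ = u₁ * (y.map f)ᵀ := by
    intro y
    have h1 := hg yᵀ
    rw [hα, Matrix.transpose_transpose] at h1
    have := congrArg (fun M => M.map f) h1
    simp only [Matrix.map_mul] at this
    rw [hu₁, this, Matrix.transpose_map]
  have hfr : f r * sinv * f r' = 1 := by
    rw [map_mul] at hsinv
    linear_combination hsinv
  have hgg' : u₁ * ((f r * sinv) • g'.map f) = 1 := by
    rw [Matrix.mul_smul, hu₁, ← Matrix.map_mul, ← hr']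
    ext i j
    simp only [Matrix.smul_apply, Matrix.map_apply, Matrix.one_apply, smul_eq_mul,
      Matrix.algebraMap_matrix_apply]
    split_ifs
    · exact hfr
    · simp
  have hdet : IsUnit u₁.det := Matrix.isUnit_det_of_right_inverse hgg'
  have h2₁ : IsUnit (2 : T₁) := isUnit_two_map h2
  -- the sign
  set v := u₁⁻¹ with hv
  have huv : u₁ * v = 1 := Matrix.mul_nonsing_inv u₁ hdet
  have hvu : v * u₁ = 1 := Matrix.nonsing_inv_mul u₁ hdet
  have hvuT : vᵀ * u₁ᵀ = 1 := by rw [← Matrix.transpose_mul, huv, Matrix.transpose_one]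
  have huvT : u₁ᵀ * vᵀ = 1 := by rw [← Matrix.transpose_mul, hvu, Matrix.transpose_one]
  have hcomm : ∀ y : Matrix (Fin n) (Fin n) T, Commute (y.map f) (u₁ * vᵀ) := by
    intro y
    have e1 := hRel y
    have e2 := hRel (σ y)
    rw [hinv] at e2
    have e3 : (σ y).map f = u₁ * (y.map f)ᵀ * v := by
      rw [← e1, Matrix.mul_assoc, huv, Matrix.mul_one]
    rw [e3, Matrix.transpose_mul, Matrix.transpose_mul, Matrix.transpose_transpose] at e2
    -- e2 : y' * u₁ = u₁ * (vᵀ * (y' * u₁ᵀ))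
    show y.map f * (u₁ * vᵀ) = (u₁ * vᵀ) * y.map f
    calc y.map f * (u₁ * vᵀ) = (y.map f * u₁) * vᵀ := by rw [Matrix.mul_assoc]
      _ = u₁ * (vᵀ * (y.map f * u₁ᵀ)) * vᵀ := by rw [e2]
      _ = (u₁ * vᵀ) * y.map f * (u₁ᵀ * vᵀ) := by simp only [Matrix.mul_assoc]
      _ = _ := by rw [huvT, Matrix.mul_one]
  obtain ⟨ε, hε⟩ : u₁ * vᵀ ∈ Set.range (Matrix.scalar (Fin n)) := by
    apply Matrix.mem_range_scalar_of_commute_single
    intro i j _
    have := hcomm (Matrix.single i j (1 : T))
    rwa [Matrix.map_single, map_one] at this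
  have hε1 : u₁ = ε • u₁ᵀ := by
    have := congrArg (fun M => M * u₁ᵀ) hε
    simp only [Matrix.mul_assoc, hvuT, Matrix.mul_one] at this
    rw [Matrix.scalar_apply, ← Matrix.smul_eq_diagonal_mul] at this
    exact this.symm
  have hε2 : u₁ᵀ = ε • u₁ := by
    conv_lhs => rw [hε1]
    rw [Matrix.transpose_smul, Matrix.transpose_transpose]
  have hεε : ε * ε = 1 := by
    have h3 : (ε * ε) • u₁ = u₁ := by
      conv_rhs => rw [hε1, hε2]
      rw [smul_smul]
    have h4 := congrArg (fun M => M * v) h3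
    simp only [Matrix.smul_mul, huv] at h4
    have h5 := congrFun (congrFun h4 ⟨0, hn⟩) ⟨0, hn⟩
    simpa using h5
  obtain ⟨T₃, _, _, _, q₃, _, hq₃, hC⟩ := finish hn T₁ h2₁ q₁ u₁ hRel hdet ε hε2 hεε
  exact ⟨T₃, inferInstance, inferInstance, inferInstance, q₃, inferInstance, hq₃, hC⟩

end main

end Groth.Agent.Lib.Helper15.FKMat
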