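import Mathlib

/-!
# Split homomorphisms `B → C` over a base change `S` (helper15)

For `R`-algebras `B`, a commutative `R`-algebra `S` and an `S`-algebra `C`, an `R`-algebra map
`ψ : B → C` is *split over `S`* if the induced `S`-algebra map `S ⊗[R] B → C` is bijective.
-/

set_option linter.style.haveILetI false
set_option autoImplicit false

open scoped TensorProduct

namespace Groth.Agent.Lib.Helper15.FKSplit

section basic

variable {R : Type*} [CommRing R] {B : Type*} [Ring B] [Algebra R B]
  (S : Type*) [CommRing S] [Algebra R S] {C : Type*} [Ring C] [Algebra R C] [Algebra S C]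
  [IsScalarTower R S C]

/-- the `S`-algebra map `S ⊗ B → C` induced by `ψ` -/
noncomputable def liftA (ψ : B →ₐ[R] C) : S ⊗[R] B →ₐ[S] C :=
  Algebra.TensorProduct.lift (Algebra.ofId S C) ψ (fun s b => Algebra.commutes s (ψ b))

theorem liftA_tmul (ψ : B →ₐ[R] C) (s : S) (b : B) : liftA S ψ (s ⊗ₜ b) = s • ψ b := by
  rw [liftA, Algebra.TensorProduct.lift_tmul, Algebra.ofId_apply, Algebra.smul_def]

/-- `ψ` is split over `S` -/
def Split (ψ : B →ₐ[R] C) : Prop := Function.Bijective (liftA S ψ)

variable {S}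

/-- composing with an isomorphism of the source -/
theorem Split.comp_equiv {B' : Type*} [Ring B'] [Algebra R B'] {ψ : B →ₐ[R] C} (h : Split S ψ)
    (e : B' ≃ₐ[R] B) : Split S (ψ.comp (e : B' →ₐ[R] B)) := by
  have : ⇑(liftA S (ψ.comp (e : B' →ₐ[R] B))) =
      ⇑(liftA S ψ) ∘ ⇑(Algebra.TensorProduct.congr (AlgEquiv.refl : S ≃ₐ[S] S) e) := by
    funext x
    induction x using TensorProduct.induction_on with
    | zero => simp
    | tmul s b =>
      simp only [Function.comp_apply, Algebra.TensorProduct.congr_apply,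
        Algebra.TensorProduct.map_tmul, liftA_tmul]
      rfl
    | add x y hx hy => simp only [map_add, hx, hy, Function.comp_apply]
  rw [Split, this]
  exact h.comp (AlgEquiv.bijective _)

/-- composing with an isomorphism of the target -/
theorem Split.equiv_comp {C' : Type*} [Ring C'] [Algebra R C'] [Algebra S C']
    [IsScalarTower R S C'] {ψ : B →ₐ[R] C} (h : Split S ψ)
    (e : C ≃ₐ[S] C') : Split S (((e : C →ₐ[S] C').restrictScalars R).comp ψ) := by
  have : ⇑(liftA S (((e : C →ₐ[S] C').restrictScalars R).comp ψ)) = ⇑e ∘ ⇑(liftA S ψ) := by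
    funext x
    induction x using TensorProduct.induction_on with
    | zero => simp
    | tmul s b =>
      simp only [Function.comp_apply, liftA_tmul, map_smul]
      rfl
    | add x y hx hy => simp only [map_add, hx, hy, Function.comp_apply]
  rw [Split, this]
  exact (AlgEquiv.bijective e).comp h

/-- transport of structure through split maps -/
theorem exists_equiv_of_split {B' : Type*} [Ring B'] [Algebra R B']
    (τ : B →ₗ[R] B) (τ' : B' →ₗ[R] B') (ψ : B →ₐ[R] C) (ψ' : B' →ₐ[R] C)
    (hψ : Split S ψ) (hψ' : Split S ψ') (θ : C →ₗ[S] C)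
    (h : ∀ b, ψ (τ b) = θ (ψ b)) (h' : ∀ b', ψ' (τ' b') = θ (ψ' b')) :
    ∃ f : S ⊗[R] B ≃ₐ[S] S ⊗[R] B',
      ∀ x, f (τ.baseChange S x) = τ'.baseChange S (f x) := by
  let L : S ⊗[R] B ≃ₐ[S] C := AlgEquiv.ofBijective (liftA S ψ) hψ
  let L' : S ⊗[R] B' ≃ₐ[S] C := AlgEquiv.ofBijective (liftA S ψ') hψ'
  have hL : ∀ x, L (τ.baseChange S x) = θ (L x) := by
    intro x
    induction x using TensorProduct.induction_on with
    | zero => simp
    | tmul s b =>
      change liftA S ψ (τ.baseChange S (s ⊗ₜ b)) = θ (liftA S ψ (s ⊗ₜ b))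
      rw [LinearMap.baseChange_tmul, liftA_tmul, liftA_tmul, h, map_smul]
    | add x y hx hy => simp only [map_add, hx, hy]
  have hL' : ∀ x, L' (τ'.baseChange S x) = θ (L' x) := by
    intro x
    induction x using TensorProduct.induction_on with
    | zero => simp
    | tmul s b =>
      change liftA S ψ' (τ'.baseChange S (s ⊗ₜ b)) = θ (liftA S ψ' (s ⊗ₜ b))
      rw [LinearMap.baseChange_tmul, liftA_tmul, liftA_tmul, h', map_smul]
    | add x y hx hy => simp only [map_add, hx, hy]
  refine ⟨L.trans L'.symm, fun x => ?_⟩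
  apply L'.injective
  rw [hL', AlgEquiv.trans_apply, AlgEquiv.trans_apply, AlgEquiv.apply_symm_apply,
    AlgEquiv.apply_symm_apply, hL]

end basic

section matrix

variable {R : Type*} [CommRing R] {B : Type*} [Ring B] [Algebra R B]
  {S : Type*} [CommRing S] [Algebra R S]
  {κ κ' : Type*} [Fintype κ] [DecidableEq κ] [Fintype κ'] [DecidableEq κ']

/-- conjugation by a (possibly rectangular) invertible matrix, as an algebra isomorphism -/
def conjEquiv (w : Matrix κ κ' S) (winv : Matrix κ' κ S) (hw : w * winv = 1) (hw' : winv * w = 1) :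
    Matrix κ κ S ≃ₐ[S] Matrix κ' κ' S where
  toFun x := winv * x * w
  invFun x := w * x * winv
  left_inv x := by
    calc w * (winv * x * w) * winv = (w * winv) * x * (w * winv) := by simp only [Matrix.mul_assoc]
      _ = x := by rw [hw, Matrix.one_mul, Matrix.mul_one]
  right_inv x := by
    calc winv * (w * x * winv) * w = (winv * w) * x * (winv * w) := by simp only [Matrix.mul_assoc]
      _ = x := by rw [hw', Matrix.one_mul, Matrix.mul_one]
  map_mul' x y := by
    have : x * y = x * (w * winv) * y := by rw [hw, Matrix.mul_one]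
    change winv * (x * y) * w = (winv * x * w) * (winv * y * w)
    rw [this]
    simp only [Matrix.mul_assoc]
  map_add' x y := by rw [Matrix.mul_add, Matrix.add_mul]
  commutes' c := by
    rw [Algebra.algebraMap_eq_smul_one, Algebra.algebraMap_eq_smul_one, Matrix.mul_smul,
      Matrix.mul_one, Matrix.smul_mul, hw']

@[simp] theorem conjEquiv_apply (w : Matrix κ κ' S) (winv : Matrix κ' κ S) (hw : w * winv = 1)
    (hw' : winv * w = 1) (x : Matrix κ κ S) : conjEquiv w winv hw hw' x = winv * x * w := rfl

/-- the canonical map `M_κ(R) → M_κ(S)` is split -/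
theorem split_mapMatrix :
    Split S ((Algebra.ofId R S).mapMatrix : Matrix κ κ R →ₐ[R] Matrix κ κ S) := by
  have : ⇑(liftA S ((Algebra.ofId R S).mapMatrix : Matrix κ κ R →ₐ[R] Matrix κ κ S)) =
      ⇑(matrixEquivTensor κ R S).symm := by
    funext x
    induction x using TensorProduct.induction_on with
    | zero => simp
    | tmul s b =>
      rw [liftA_tmul, matrixEquivTensor_apply_symm]
      rfl
    | add x y hx hy => simp only [map_add, hx, hy]
  rw [Split, this]
  exact AlgEquiv.bijective _

variable {S' : Type*} [CommRing S'] [Algebra R S'] [Algebra S S'] [IsScalarTower R S S']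

/-- base change of a split map to a matrix algebra -/
theorem Split.baseChange {ψ : B →ₐ[R] Matrix κ κ S} (h : Split S ψ) :
    Split S' ((((Algebra.ofId S S').mapMatrix : Matrix κ κ S →ₐ[S] Matrix κ κ S').restrictScalars
      R).comp ψ) := by
  set ψ' : B →ₐ[R] Matrix κ κ S' :=
    (((Algebra.ofId S S').mapMatrix : Matrix κ κ S →ₐ[S] Matrix κ κ S').restrictScalars R).comp ψ
    with hψ'
  have hψ'a : ∀ b, ψ' b = (ψ b).map (algebraMap S S') := fun b => rfl
  let L : S ⊗[R] B ≃ₗ[S] Matrix κ κ S := (AlgEquiv.ofBijective (liftA S ψ) h).toLinearEquiv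
  let e1 : S' ⊗[S] (S ⊗[R] B) ≃ₗ[S'] S' ⊗[R] B :=
    TensorProduct.AlgebraTensorModule.cancelBaseChange R S S' S' B
  let e2 : S' ⊗[S] (S ⊗[R] B) ≃ₗ[S'] S' ⊗[S] Matrix κ κ S := L.baseChange S S' _ _
  have : ⇑(liftA S' ψ') = ⇑(matrixEquivTensor κ S S').symm ∘ ⇑e2 ∘ ⇑e1.symm := by
    funext x
    induction x using TensorProduct.induction_on with
    | zero => simp
    | tmul s b =>
      have h1 : e1.symm (s ⊗ₜ[R] b) = s ⊗ₜ[S] ((1 : S) ⊗ₜ[R] b) := by
        rw [LinearEquiv.symm_apply_eq]
        simp [e1]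
      have h2 : e2 (s ⊗ₜ[S] ((1 : S) ⊗ₜ[R] b)) = s ⊗ₜ[S] ψ b := by
        simp only [e2, LinearEquiv.baseChange_tmul]
        congr 1
        change liftA S ψ ((1 : S) ⊗ₜ[R] b) = ψ b
        rw [liftA_tmul, one_smul]
      rw [Function.comp_apply, Function.comp_apply, h1, h2, matrixEquivTensor_apply_symm,
        liftA_tmul, hψ'a]
    | add x y hx hy => simp only [map_add, hx, hy, Function.comp_apply]
  rw [Split, this]
  exact (AlgEquiv.bijective _).comp (e2.bijective.comp e1.symm.bijective)

end matrix

end Groth.Agent.Lib.Helper15.FKSplit
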