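import Mathlib
import Groth.Agent.Lib.Helper15.FKSplit
import Groth.Agent.Lib.Helper15.FKMat
import Groth.Agent.Lib.Helper15.AzInvInner

/-!
# Splittings of an algebra with involution of prescribed form (helper15)
-/

set_option linter.style.haveILetI false
set_option autoImplicit false

universe u w

open Matrix
open scoped TensorProduct

namespace Groth.Agent.Lib.Helper15.FKHasForm

open Groth.Agent.Lib.Helper15.FKSplit Groth.Agent.Lib.Helper15.FKFamily
  Groth.Agent.Lib.Helper15.FKMat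

section intmat

variable {κ : Type*} {T T' : Type*} [CommRing T] [CommRing T']

theorem intMat_map (f : T →+* T') (G : Matrix κ κ ℤ) :
    (G.map (Int.castRingHom T)).map f = G.map (Int.castRingHom T') := by
  ext i j
  simp

end intmat

section hasform

variable {R : Type u} [CommRing R] {A : Type w} [Ring A] [Algebra R A] (t : A →ₗ[R] A)
  (κ : Type) [Fintype κ] [DecidableEq κ] (G Ginv : Matrix κ κ ℤ)

/-- `A` is split over `T` by a map carrying `t` to `X ↦ G Xᵀ G⁻¹` -/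
def HasForm (T : Type u) [CommRing T] [Algebra R T] : Prop :=
  ∃ ψ : A →ₐ[R] Matrix κ κ T, Split T ψ ∧
    ∀ a, ψ (t a) = G.map (Int.castRingHom T) * (ψ a)ᵀ * Ginv.map (Int.castRingHom T)

variable {t κ G Ginv}

theorem HasForm.baseChange {T K : Type u} [CommRing T] [Algebra R T] [CommRing K] [Algebra R K]
    [Algebra T K] [IsScalarTower R T K] (h : HasForm t κ G Ginv T) : HasForm t κ G Ginv K := by
  obtain ⟨ψ, hψ, hrel⟩ := h
  refine ⟨_, hψ.baseChange (S' := K), fun a => ?_⟩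
  change (ψ (t a)).map (algebraMap T K) = _ * ((ψ a).map (algebraMap T K))ᵀ * _
  rw [hrel, Matrix.map_mul, Matrix.map_mul, intMat_map, intMat_map, Matrix.transpose_map]

theorem HasForm.of_ringHom {T K : Type u} [CommRing T] [Algebra R T] [CommRing K] [Algebra R K]
    (f : T →+* K) (hf : ∀ r, f (algebraMap R T r) = algebraMap R K r)
    (h : HasForm t κ G Ginv T) : HasForm t κ G Ginv K := by
  letI : Algebra T K := f.toAlgebra
  haveI : IsScalarTower R T K := IsScalarTower.of_algebraMap_eq (fun r => (hf r).symm)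
  exact h.baseChange

/-- reindexing -/
theorem HasForm.reindex {κ' : Type} [Fintype κ'] [DecidableEq κ'] (e : κ ≃ κ')
    {T : Type u} [CommRing T] [Algebra R T] (h : HasForm t κ G Ginv T) :
    HasForm t κ' (Matrix.reindex e e G) (Matrix.reindex e e Ginv) T := by
  obtain ⟨ψ, hψ, hrel⟩ := h
  refine ⟨_, hψ.equiv_comp (Matrix.reindexAlgEquiv T T e), fun a => ?_⟩
  change Matrix.reindex e e (ψ (t a)) = _ * (Matrix.reindex e e (ψ a))ᵀ * _
  rw [hrel]
  ext i j
  simp [Matrix.mul_apply, Matrix.reindex_apply, Matrix.submatrix_apply, Matrix.map_apply,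
    ← e.symm.sum_comp]

/-- finite products -/
theorem HasForm.pi {ι : Type u} [Fintype ι] [DecidableEq ι] (T : ι → Type u)
    [∀ i, CommRing (T i)] [∀ i, Algebra R (T i)] (h : ∀ i, HasForm t κ G Ginv (T i)) :
    HasForm t κ G Ginv (Π i, T i) := by
  choose ψ hψ hrel using h
  -- the evaluation maps on matrices
  let Ψ : Matrix κ κ (Π i, T i) → Π i, Matrix κ κ (T i) :=
    fun M i => M.map (fun x => x i)
  have hΨbij : Function.Bijective Ψ := by
    refine ⟨fun M N hMN => ?_, fun m => ⟨Matrix.of fun r c i => m i r c, ?_⟩⟩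
    · ext r c i
      exact congrFun (congrFun (congrFun hMN i) r) c
    · funext i
      ext r c
      rfl
  let ψP : A →ₐ[R] Matrix κ κ (Π i, T i) :=
    { toFun := fun a => Matrix.of fun r c i => ψ i a r c
      map_one' := by
        ext r c i
        simp [Matrix.one_apply, apply_ite (fun (f : Π i, T i) => f i)]
      map_mul' := fun a b => by
        ext r c i
        simp [Matrix.mul_apply, Finset.sum_apply]
      map_zero' := by
        ext r c i
        simp
      map_add' := fun a b => by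
        ext r c i
        simp
      commutes' := fun x => by
        ext r c i
        simp [Matrix.algebraMap_matrix_apply, apply_ite (fun (f : Π i, T i) => f i)] }
  have hψP : ∀ a i, Ψ (ψP a) i = ψ i a := fun a i => rfl
  refine ⟨ψP, ?_, fun a => ?_⟩
  · -- split
    have hcomp : ∀ x, Ψ (liftA (Π i, T i) ψP x) =
        fun i => liftA (T i) (ψ i) (AzInvInner.piTensor (S := R) (A := A) T x i) := by
      intro x
      induction x using TensorProduct.induction_on with
      | zero =>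
        funext i
        simp [Ψ]
      | tmul c a =>
        funext i
        rw [AzInvInner.piTensor_tmul, liftA_tmul, liftA_tmul]
        ext r s
        simp [Ψ, ψP]
      | add x y hx hy =>
        funext i
        have hx' := congrFun hx i
        have hy' := congrFun hy i
        simp only [map_add, Pi.add_apply]
        rw [← hx', ← hy']
        ext r s
        simp [Ψ]
    have hbij : Function.Bijective (fun x => Ψ (liftA (Π i, T i) ψP x)) := by
      have : (fun x => Ψ (liftA (Π i, T i) ψP x)) =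
          (fun (y : Π i, T i ⊗[R] A) i => liftA (T i) (ψ i) (y i)) ∘
            ⇑(AzInvInner.piTensor (S := R) (A := A) T) := by
        funext x
        exact hcomp x
      rw [this]
      refine Function.Bijective.comp ?_ (AlgEquiv.bijective _)
      constructor
      · intro y y' hyy'
        funext i
        exact (hψ i).1 (congrFun hyy' i)
      · intro m
        choose y hy using fun i => (hψ i).2 (m i)
        exact ⟨y, funext hy⟩
    exact (Function.Bijective.of_comp_iff' hΨbij _).mp hbij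
  · apply hΨbij.1
    funext i
    rw [hψP, hrel]
    ext r c
    simp [Ψ, Matrix.mul_apply, ψP]

end hasform

section disjoint

variable {R : Type u} [CommRing R] {A : Type w} [Ring A] [Algebra R A] (t : A →ₗ[R] A)

/-- a symmetric and an alternating form cannot both occur over a nontrivial ring -/
theorem not_sym_and_alt {n : ℕ} (hn : 0 < n) (T : Type u) [CommRing T] [Algebra R T] [Nontrivial T]
    (h2 : IsUnit (2 : T)) (G₁ G₁inv G₂ G₂inv : Matrix (Fin n) (Fin n) ℤ)
    (hG₁ : G₁ᵀ = G₁) (hG₁i : G₁ * G₁inv = 1) (hG₂inv : G₂invᵀ = -G₂inv) (hG₂ : G₂inv * G₂ = 1)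
    (hG₂' : G₂ * G₂inv = 1)
    (h₁ : HasForm t (Fin n) G₁ G₁inv T) (h₂ : HasForm t (Fin n) G₂ G₂inv T) : False := by
  classical
  obtain ⟨ψ₁, hψ₁, hrel₁⟩ := h₁
  obtain ⟨ψ₂, hψ₂, hrel₂⟩ := h₂
  haveI : Nonempty (Fin n) := ⟨⟨0, hn⟩⟩
  haveI : IsAzumaya T (Matrix (Fin n) (Fin n) T) := IsAzumaya.matrix T (Fin n)
  let L₁ : T ⊗[R] A ≃ₐ[T] Matrix (Fin n) (Fin n) T := AlgEquiv.ofBijective (liftA T ψ₁) hψ₁
  let L₂ : T ⊗[R] A ≃ₐ[T] Matrix (Fin n) (Fin n) T := AlgEquiv.ofBijective (liftA T ψ₂) hψ₂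
  let α : Matrix (Fin n) (Fin n) T ≃ₐ[T] Matrix (Fin n) (Fin n) T := L₁.symm.trans L₂
  have hL₁ : ∀ a, L₁ ((1 : T) ⊗ₜ[R] a) = ψ₁ a := fun a => by
    rw [show L₁ ((1 : T) ⊗ₜ[R] a) = liftA T ψ₁ ((1 : T) ⊗ₜ[R] a) from rfl, liftA_tmul, one_smul]
  have hL₂ : ∀ a, L₂ ((1 : T) ⊗ₜ[R] a) = ψ₂ a := fun a => by
    rw [show L₂ ((1 : T) ⊗ₜ[R] a) = liftA T ψ₂ ((1 : T) ⊗ₜ[R] a) from rfl, liftA_tmul, one_smul]
  have hα : ∀ a, α (ψ₁ a) = ψ₂ a := by
    intro a
    change L₂ (L₁.symm (ψ₁ a)) = ψ₂ a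
    rw [← hL₁, AlgEquiv.symm_apply_apply, hL₂]
  obtain ⟨P, hP⟩ := Ideal.exists_maximal T
  haveI := hP.isPrime
  obtain ⟨g, g', r, r', hg, hr, hr', hrP, hr'P⟩ := exists_intertwiners T _ α P
  set H₁ := G₁.map (Int.castRingHom T) with hH₁
  set H₁i := G₁inv.map (Int.castRingHom T) with hH₁i
  set H₂ := G₂.map (Int.castRingHom T) with hH₂
  set H₂i := G₂inv.map (Int.castRingHom T) with hH₂i
  have hH₁T : H₁ᵀ = H₁ := by rw [hH₁, ← Matrix.transpose_map, hG₁]
  have hH₁H₁i : H₁ * H₁i = 1 := by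
    rw [hH₁, hH₁i, ← Matrix.map_mul, hG₁i, Matrix.map_one _ (map_zero _) (map_one _)]
  have hH₂iT : H₂iᵀ = -H₂i := by
    rw [hH₂i, ← Matrix.transpose_map, hG₂inv]
    ext i j
    simp
  have hH₂iH₂ : H₂i * H₂ = 1 := by
    rw [hH₂, hH₂i, ← Matrix.map_mul, hG₂, Matrix.map_one _ (map_zero _) (map_one _)]
  have hH₂H₂i : H₂ * H₂i = 1 := by
    rw [hH₂, hH₂i, ← Matrix.map_mul, hG₂', Matrix.map_one _ (map_zero _) (map_one _)]
  -- `m = gᵀ H₂i g H₁` commutes with all `ψ₁(a)ᵀ`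
  set m := gᵀ * H₂i * g * H₁ with hm
  have hgψ : ∀ a, ψ₂ a * g = g * ψ₁ a := fun a => by rw [← hα, hg]
  have hcomm1 : ∀ a, m * (ψ₁ a)ᵀ = (ψ₁ a)ᵀ * m := by
    intro a
    have e1 : g * (H₁ * (ψ₁ a)ᵀ * H₁i) = (H₂ * (ψ₂ a)ᵀ * H₂i) * g := by
      rw [← hrel₁, ← hrel₂, hgψ]
    have e2 : gᵀ * (ψ₂ a)ᵀ = (ψ₁ a)ᵀ * gᵀ := by
      rw [← Matrix.transpose_mul, hgψ, Matrix.transpose_mul]
    have hH₁iH₁ : H₁i * H₁ = 1 := mul_eq_one_comm.mp hH₁H₁i
    have e1' : g * (H₁ * (ψ₁ a)ᵀ) = H₂ * (ψ₂ a)ᵀ * H₂i * g * H₁ := by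
      have := congrArg (· * H₁) e1
      simp only [Matrix.mul_assoc, hH₁iH₁, Matrix.mul_one] at this
      simpa only [Matrix.mul_assoc] using this
    calc m * (ψ₁ a)ᵀ = gᵀ * H₂i * (g * (H₁ * (ψ₁ a)ᵀ)) := by
          rw [hm]; simp only [Matrix.mul_assoc]
      _ = gᵀ * H₂i * (H₂ * (ψ₂ a)ᵀ * H₂i * g * H₁) := by rw [e1']
      _ = gᵀ * (H₂i * H₂) * (ψ₂ a)ᵀ * H₂i * g * H₁ := by simp only [Matrix.mul_assoc]
      _ = (gᵀ * (ψ₂ a)ᵀ) * H₂i * g * H₁ := by rw [hH₂iH₂, Matrix.mul_one]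
      _ = (ψ₁ a)ᵀ * m := by rw [e2, hm]; simp only [Matrix.mul_assoc]
  have hcommz : ∀ z : T ⊗[R] A, m * (L₁ z)ᵀ = (L₁ z)ᵀ * m := by
    intro z
    induction z using TensorProduct.induction_on with
    | zero => simp
    | tmul c a =>
      have : L₁ (c ⊗ₜ[R] a) = c • ψ₁ a := liftA_tmul T ψ₁ c a
      rw [this, Matrix.transpose_smul, Matrix.mul_smul, Matrix.smul_mul, hcomm1]
    | add x y hx hy =>
      rw [map_add, Matrix.transpose_add, Matrix.mul_add, Matrix.add_mul, hx, hy]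
  have hcomm : ∀ X : Matrix (Fin n) (Fin n) T, m * X = X * m := by
    intro X
    have := hcommz (L₁.symm Xᵀ)
    rwa [AlgEquiv.apply_symm_apply, Matrix.transpose_transpose] at this
  obtain ⟨c, hc⟩ : m ∈ Set.range (Matrix.scalar (Fin n)) := by
    apply Matrix.mem_range_scalar_of_commute_single
    intro i j _
    exact (hcomm _).symm
  -- `m H₁i = gᵀ H₂i g` is alternating and `c H₁i` is symmetric
  have hmH : m * H₁i = gᵀ * H₂i * g := by
    rw [hm, Matrix.mul_assoc, hH₁H₁i, Matrix.mul_one]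
  have halt : (gᵀ * H₂i * g)ᵀ = -(gᵀ * H₂i * g) := by
    rw [Matrix.transpose_mul, Matrix.transpose_mul, Matrix.transpose_transpose, hH₂iT]
    simp only [Matrix.mul_assoc, Matrix.neg_mul, Matrix.mul_neg]
  have hH₁iT : H₁iᵀ = H₁i := by
    have h1 : H₁iᵀ * H₁ = 1 := by
      rw [← hH₁T, ← Matrix.transpose_mul, hH₁H₁i, Matrix.transpose_one]
    calc H₁iᵀ = H₁iᵀ * (H₁ * H₁i) := by rw [hH₁H₁i, Matrix.mul_one]
      _ = H₁i := by rw [← Matrix.mul_assoc, h1, Matrix.one_mul]
  have hsym : (m * H₁i)ᵀ = m * H₁i := by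
    rw [← hc, Matrix.scalar_apply, ← Matrix.smul_eq_diagonal_mul, Matrix.transpose_smul, hH₁iT]
  have hzero : gᵀ * H₂i * g = 0 := by
    have h3 : (2 : T) • (gᵀ * H₂i * g) = 0 := by
      have : gᵀ * H₂i * g = -(gᵀ * H₂i * g) := by
        conv_lhs => rw [← hmH, ← hsym, hmH, halt]
      rw [two_smul]
      nth_rewrite 1 [this]
      exact neg_add_cancel _
    obtain ⟨c2, hc2⟩ := h2.exists_left_inv
    calc gᵀ * H₂i * g = (c2 * 2) • (gᵀ * H₂i * g) := by rw [hc2, one_smul]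
      _ = c2 • ((2 : T) • (gᵀ * H₂i * g)) := by rw [mul_smul]
      _ = 0 := by rw [h3, smul_zero]
  -- multiply by `g'`
  have hr'1 : g * g' = r' • (1 : Matrix (Fin n) (Fin n) T) := by
    rw [← hr', Algebra.algebraMap_eq_smul_one]
  have h4 : (r' * r') • H₂i = 0 := by
    calc (r' * r') • H₂i = (g * g')ᵀ * H₂i * (g * g') := by
          rw [hr'1, Matrix.transpose_smul, Matrix.transpose_one, Matrix.smul_mul, Matrix.one_mul,
            Matrix.mul_smul, Matrix.mul_one, smul_smul]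
      _ = g'ᵀ * (gᵀ * H₂i * g) * g' := by
          rw [Matrix.transpose_mul]; simp only [Matrix.mul_assoc]
      _ = 0 := by rw [hzero, Matrix.mul_zero, Matrix.zero_mul]
  have h5 : (r' * r') • (1 : Matrix (Fin n) (Fin n) T) = 0 := by
    rw [← hH₂iH₂, ← Matrix.smul_mul, h4, Matrix.zero_mul]
  have h6 : r' * r' = 0 := by
    have := congrFun (congrFun h5 ⟨0, hn⟩) ⟨0, hn⟩
    simpa using this
  exact hr'P (Ideal.IsPrime.mem_of_pow_mem inferInstance 2 (by rw [sq, h6]; exact P.zero_mem))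

end disjoint

end Groth.Agent.Lib.Helper15.FKHasForm
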