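import Mathlib
import Groth.Agent.Lib.Helper15.ModuleDim
import Groth.Agent.Lib.Helper15.TPow

/-!
# Index and base change (helper15)

`ind(A_K) ∣ ind(A) ∣ [K:k] · ind(A_K)` for an arbitrary finite extension `K/k`
(universe-polymorphic version of S7748).
-/

set_option autoImplicit false
universe u v w w'
open scoped TensorProduct

namespace Groth.Agent.Lib.Helper15.CSA

theorem index_baseChange (k : Type u) [Field k] (K : Type w') [Field K] [Algebra k K]
    [FiniteDimensional k K]
    (A : Type v) [Ring A] [Algebra k A] [Algebra.IsCentral k A] [IsSimpleRing A] [FiniteDimensional k A]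
    (D : Type v) [DivisionRing D] [Algebra k D] [Algebra.IsCentral k D] [FiniteDimensional k D]
    (m : ℕ) (iso : A ≃ₐ[k] Matrix (Fin m) (Fin m) D) (d : ℕ) (hd : Module.finrank k D = d ^ 2)
    (D' : Type w) [DivisionRing D'] [Algebra K D'] [Algebra.IsCentral K D'] [FiniteDimensional K D']
    (m' : ℕ) (iso' : (K ⊗[k] A) ≃ₐ[K] Matrix (Fin m') (Fin m') D') (d' : ℕ)
    (hd' : Module.finrank K D' = d' ^ 2) : d' ∣ d ∧ d ∣ Module.finrank k K * d' := by
  classical
  have hm : m ≠ 0 := by
    rintro rfl
    have : Subsingleton A := iso.injective.subsingleton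
    exact not_subsingleton A this
  have hsimpK : IsSimpleRing (K ⊗[k] A) := Groth.Agent.Lib.Helper15.CSA.isSimpleRing_baseChange k K A
  have hm' : m' ≠ 0 := by
    rintro rfl
    have : Subsingleton (K ⊗[k] A) := iso'.injective.subsingleton
    exact not_subsingleton _ this
  have : NeZero m := ⟨hm⟩
  have : NeZero m' := ⟨hm'⟩
  have hdpos : 0 < d := by
    have : 0 < Module.finrank k D := Module.finrank_pos
    rw [hd] at this
    exact Nat.pos_of_ne_zero (by rintro rfl; simp at this)
  have hd'pos : 0 < d' := by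
    have : 0 < Module.finrank K D' := Module.finrank_pos
    rw [hd'] at this
    exact Nat.pos_of_ne_zero (by rintro rfl; simp at this)
  -- degree relation
  have hdeg : m * d = m' * d' := by
    have h1 := iso.toLinearEquiv.finrank_eq
    have h2 := iso'.toLinearEquiv.finrank_eq
    rw [Module.finrank_matrix, hd] at h1
    rw [Module.finrank_matrix, hd', Module.finrank_baseChange, h1] at h2
    simp only [Fintype.card_fin] at h2
    have h3 : (m * d) ^ 2 = (m' * d') ^ 2 := by
      calc (m * d) ^ 2 = m * m * d ^ 2 := by ring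
        _ = m' * m' * d' ^ 2 := h2
        _ = (m' * d') ^ 2 := by ring
    exact Nat.pow_left_injective (n := 2) (by norm_num) h3
  constructor
  · -- `d' ∣ d` by uniqueness
    have hcK : Algebra.IsCentral K (K ⊗[k] D) := Groth.Agent.Lib.Helper15.CSA.isCentral_baseChange k K D
    have hsK : IsSimpleRing (K ⊗[k] D) := Groth.Agent.Lib.Helper15.CSA.isSimpleRing_baseChange k K D
    obtain ⟨t, ht, D'', _, _, hc, hf, ⟨e2⟩⟩ :=
      Groth.Agent.Lib.Helper15.CSA.exists_algEquiv_matrix_central_division K (K ⊗[k] D)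
    have : NeZero (m * t) := ⟨Nat.mul_ne_zero hm (NeZero.ne t)⟩
    let φ : Matrix (Fin (m * t)) (Fin (m * t)) D'' ≃ₐ[K] Matrix (Fin m') (Fin m') D' :=
      (Matrix.reindexAlgEquiv K D'' finProdFinEquiv).symm.trans <|
        (Matrix.compAlgEquiv (Fin m) (Fin t) D'' K).symm.trans <|
          (AlgEquiv.mapMatrix e2.symm).trans <|
            (Groth.Agent.Lib.Helper15.CSA.baseChangeMatrixEquiv k K D m).symm.trans <|
              (Algebra.TensorProduct.congr AlgEquiv.refl iso.symm).trans iso'
    obtain ⟨-, ⟨eD⟩⟩ := Groth.Agent.Lib.Helper15.CSA.matrix_division_unique K D'' D' (m * t) m' φ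
    have h1 : Module.finrank K (K ⊗[k] D) = d ^ 2 := by rw [Module.finrank_baseChange, hd]
    have h2 := e2.toLinearEquiv.finrank_eq
    rw [h1, Module.finrank_matrix, eD.toLinearEquiv.finrank_eq, hd'] at h2
    simp only [Fintype.card_fin] at h2
    have h3 : d ^ 2 = (t * d') ^ 2 := by rw [h2]; ring
    have h4 : d = t * d' := Nat.pow_left_injective (n := 2) (by norm_num) h3
    exact ⟨t, by rw [h4]; ring⟩
  · -- `d ∣ [K : k] * d'` by a dimension count
    letI : Algebra k D' := Algebra.compHom D' (algebraMap k K)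
    haveI : IsScalarTower k K D' := IsScalarTower.of_algebraMap_eq (fun _ => rfl)
    haveI : FiniteDimensional k D' := Module.Finite.trans K D'
    let φ : A →ₐ[k] Matrix (Fin m') (Fin m') D' :=
      ((iso' : K ⊗[k] A →ₐ[K] Matrix (Fin m') (Fin m') D').restrictScalars k).comp
        Algebra.TensorProduct.includeRight
    have hQ := Groth.Agent.Lib.Helper15.CSA.finrank_dvd_of_module k A D m iso
      (Groth.Agent.Lib.Helper15.CSA.Pull φ (Fin m' → D'))
    rw [Groth.Agent.Lib.Helper15.CSA.Pull.finrank_eq, Module.finrank_pi_fintype, hd] at hQ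
    simp only [Finset.sum_const, Finset.card_univ, Fintype.card_fin, smul_eq_mul] at hQ
    rw [← Module.finrank_mul_finrank k K D', hd'] at hQ
    -- hQ : m * d ^ 2 ∣ m' * (r * d' ^ 2)
    have h5 : (m * d) * d ∣ (m * d) * (Module.finrank k K * d') := by
      have e1 : (m * d) * d = m * d ^ 2 := by ring
      have e2 : (m * d) * (Module.finrank k K * d') = m' * (Module.finrank k K * d' ^ 2) := by
        rw [hdeg]; ring
      rw [e1, e2]
      exact hQ
    exact Nat.dvd_of_mul_dvd_mul_left (Nat.mul_pos (Nat.pos_of_ne_zero hm) hdpos) h5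


end Groth.Agent.Lib.Helper15.CSA
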