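import Mathlib
import Groth.Agent.Lib.Helper15.CrossedExist
import Groth.Agent.Lib.Helper15.CrossedPow
import Groth.Agent.Lib.Helper8.CSASplit

/-!
# Period divides index (helper15)

The `d`-fold tensor power of a central simple algebra of index `d` is split; the relative Brauer
group of a Galois extension of degree `n` is killed by `n`.
-/

set_option autoImplicit false
universe u v w w'
open scoped TensorProduct

namespace Groth.Agent.Lib.Helper15.CSA

open CrossedProd

section main

variable {k : Type u} [Field k] {K : Type v} [Field K] [Algebra k K] [FiniteDimensional k K]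
  [IsGalois k K]

/-- If a crossed product `A` for `K/k` has a module of `K`-dimension `d ≥ 1`, then `A^{⊗d}` is
split. -/
theorem CrossedProd.IsCP.isSplit_tpow_of_module {A : Type w} [Ring A] [Algebra k A]
    {ι : K →ₐ[k] A} {u : (K ≃ₐ[k] K) → A} {f : (K ≃ₐ[k] K) → (K ≃ₐ[k] K) → K}
    (h : IsCP k K A ι u f)
    (V : Type w') [AddCommGroup V] [Module A V] [Module k V] [IsScalarTower k A V]
    [FiniteDimensional k V] (d : ℕ) (hd0 : 1 ≤ d)
    (hd : Module.finrank k V = Module.finrank k K * d) : IsSplit k (CSAGal.tpow k A d) := by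
  obtain ⟨c, hc, hcf⟩ := h.exists_coboundary_pow V d hd
  obtain ⟨X, _, _, ιX, uX, hX, hBr⟩ := h.exists_pow d hd0
  have hXs := hX.isSplit_of_coboundary c hc hcf
  exact hBr.symm.isSplit hXs (h.isCSA.tpow d)

/-- If the Galois extension `K/k` of degree `n` splits `B`, then `B^{⊗n}` is split. -/
theorem isSplit_tpow_finrank_of_splits (B : Type w) [Ring B] [Algebra k B]
    [Algebra.IsCentral k B] [IsSimpleRing B] [FiniteDimensional k B] (hB : Curves.Splits k B K) :
    IsSplit k (CSAGal.tpow k B (Module.finrank k K)) := by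
  obtain ⟨X, _, _, ι, u, f, hX, hBr⟩ := exists_isCP_of_splits (K := K) B hB
  have hfin := hX.finite
  have hn : 0 < Module.finrank k K := Module.finrank_pos
  have h1 : IsSplit k (CSAGal.tpow k X (Module.finrank k K)) :=
    hX.isSplit_tpow_of_module X (Module.finrank k K) hn (by rw [hX.fin, pow_two])
  exact (hBr.tpow (Module.finrank k K)).symm.isSplit h1 ((IsCSA.mk' B).tpow _)

end main

section index

/-- The `d`-fold tensor power of a central simple algebra of index `d` is split. -/
theorem isSplit_tpow_index (k : Type u) [Field k] (A : Type v) [Ring A] [Algebra k A]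
    [Algebra.IsCentral k A] [IsSimpleRing A] [FiniteDimensional k A]
    (D : Type w) [DivisionRing D] [Algebra k D] [Algebra.IsCentral k D] [FiniteDimensional k D]
    (m : ℕ) (e : A ≃ₐ[k] Matrix (Fin m) (Fin m) D) (d : ℕ) (hd : Module.finrank k D = d ^ 2) :
    IsSplit k (CSAGal.tpow k A d) := by
  have hm : m ≠ 0 := by
    rintro rfl
    have : Subsingleton A := e.injective.subsingleton
    exact not_subsingleton A this
  have hdpos : 0 < d := by
    have : 0 < Module.finrank k D := Module.finrank_pos
    rw [hd] at this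
    exact Nat.pos_of_ne_zero (by rintro rfl; simp at this)
  obtain ⟨K, hKf, hKg, ⟨t, ht, ⟨eD⟩⟩⟩ :=
    Groth.Agent.Lib.Helper8.CSASplit.exists_finite_galois_intermediateField_splits k D
  obtain ⟨hdimD, s, hs⟩ := dvd_of_splits_division k K D t eD
  have htd : t = d := by
    have : t ^ 2 = d ^ 2 := by rw [← hdimD, hd]
    exact Nat.pow_left_injective (n := 2) (by norm_num) this
  subst htd
  have hmpos : 0 < Module.finrank k K := Module.finrank_pos
  have hs0 : s ≠ 0 := by
    rintro rfl
    rw [mul_zero] at hs
    omega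
  have : NeZero s := ⟨hs0⟩
  have hBs : Curves.Splits k (Matrix (Fin s) (Fin s) D) K :=
    ⟨s * t, Nat.mul_ne_zero hs0 ht,
      ⟨(baseChangeMatrixEquiv k K D s).trans
        ((AlgEquiv.mapMatrix eD).trans (matrixMatrixEquiv K K s t))⟩⟩
  have hBdim : Module.finrank k (Matrix (Fin s) (Fin s) D) = Module.finrank k K ^ 2 := by
    rw [Module.finrank_matrix, hdimD, hs]
    simp only [Fintype.card_fin]
    ring
  obtain ⟨ι, u, f, hcp⟩ := exists_isCP_of_splits_of_finrank (K := K)
    (Matrix (Fin s) (Fin s) D) hBs hBdim
  have hV : Module.finrank k (Fin s → D) = Module.finrank k K * t := by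
    rw [Module.finrank_pi_fintype, hs]
    simp only [Finset.sum_const, Finset.card_univ, Fintype.card_fin, smul_eq_mul, hdimD]
    ring
  have h1 : IsSplit k (CSAGal.tpow k (Matrix (Fin s) (Fin s) D) t) :=
    hcp.isSplit_tpow_of_module (Fin s → D) t hdpos hV
  have hBr : BrEq k A (Matrix (Fin s) (Fin s) D) :=
    ((BrEq.of_algEquiv e).trans (BrEq.matrix m hm)).trans (BrEq.matrix s hs0).symm
  exact (hBr.tpow t).symm.isSplit h1 ((IsCSA.mk' A).tpow _)

end index

end Groth.Agent.Lib.Helper15.CSA
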