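import Mathlib
import Groth.Agent.Lib.Helper15.TPow
import Groth.Agent.Lib.Helper15.CSABaseChange
import Groth.Agent.Lib.Helper8.CSASplit

/-!
# Tensor powers and base change; existence of the period (helper15)
-/

set_option autoImplicit false
universe u v w
open scoped TensorProduct

namespace Groth.Agent.Lib.Helper15.CSA

section bc

variable (k : Type u) [Field k] (K : Type v) [Field K] [Algebra k K]
  (A : Type w) [Ring A] [Algebra k A]

/-- `(K ⊗ A)^{⊗e} ≃ K ⊗ A^{⊗e}` as `K`-algebras. -/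
theorem nonempty_tpow_baseChange (e : ℕ) :
    Nonempty (CSAGal.tpow K (K ⊗[k] A) e ≃ₐ[K] K ⊗[k] CSAGal.tpow k A e) := by
  induction e with
  | zero =>
    exact ⟨(tpowZeroEquiv K (K ⊗[k] A)).trans <|
      (Algebra.TensorProduct.rid k K K).symm.trans <|
        Algebra.TensorProduct.congr (AlgEquiv.refl : K ≃ₐ[K] K) (tpowZeroEquiv k A).symm⟩
  | succ e ih =>
    obtain ⟨φ⟩ := ih
    have e1 : CSAGal.tpow K (K ⊗[k] A) (e + 1) ≃ₐ[K]
        CSAGal.tpow K (K ⊗[k] A) e ⊗[K] (K ⊗[k] A) :=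
      (tpowAddEquiv K (K ⊗[k] A) e 1).trans
        (Algebra.TensorProduct.congr AlgEquiv.refl (tpowOneEquiv K (K ⊗[k] A)))
    have e2 : CSAGal.tpow k A (e + 1) ≃ₐ[k] CSAGal.tpow k A e ⊗[k] A :=
      (tpowAddEquiv k A e 1).trans (Algebra.TensorProduct.congr AlgEquiv.refl (tpowOneEquiv k A))
    exact ⟨e1.trans <| (Algebra.TensorProduct.congr φ AlgEquiv.refl).trans <|
      (baseChangeTensorEquiv k K (CSAGal.tpow k A e) A).symm.trans <|
        Algebra.TensorProduct.congr (AlgEquiv.refl : K ≃ₐ[K] K) e2.symm⟩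

variable {k A} in
/-- A split algebra is split by every extension. -/
theorem IsSplit.splits {B : Type*} [Ring B] [Algebra k B] (h : IsSplit k B) :
    Curves.Splits k B K := by
  classical
  obtain ⟨n, hn, ⟨e⟩⟩ := h
  exact ⟨n, hn, ⟨(Algebra.TensorProduct.congr (AlgEquiv.refl : K ≃ₐ[K] K) e).trans
    (Groth.Agent.Lib.Helper8.CSASplit.tensorMatrixEquiv k K (Fin n))⟩⟩

variable {k A} in
/-- If `A^{⊗e}` is split then so is `(K ⊗ A)^{⊗e}`. -/
theorem isSplit_tpow_baseChange {e : ℕ} (h : IsSplit k (CSAGal.tpow k A e)) :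
    IsSplit K (CSAGal.tpow K (K ⊗[k] A) e) := by
  obtain ⟨n, hn, ⟨ψ⟩⟩ := h.splits K
  obtain ⟨φ⟩ := nonempty_tpow_baseChange k K A e
  exact ⟨n, hn, ⟨φ.trans ψ⟩⟩

end bc

section tower

/-- If `K ⊇ k' ⊇ k` and `K` splits `A` over `k` then `K` splits `k' ⊗ A` over `k'`. -/
theorem splits_baseChange_of_tower (k : Type*) [Field k] (F : Type*) [Field F] [Algebra k F]
    (E : Type*) [Field E] [Algebra k E] [Algebra F E] [IsScalarTower k F E]
    (A : Type*) [Ring A] [Algebra k A] (h : Curves.Splits k A E) :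
    Curves.Splits F (F ⊗[k] A) E := by
  obtain ⟨n, hn, ⟨ψ⟩⟩ := h
  exact ⟨n, hn, ⟨(Groth.Agent.Lib.Helper8.CSASplit.cancelBaseChangeE k F E A).trans ψ⟩⟩

end tower

section period

variable {k : Type u} [Field k] {A : Type v} [Ring A] [Algebra k A]

/-- If some positive tensor power is split, the period exists. -/
theorem exists_isPeriod {n : ℕ} (hn : 0 < n) (h : IsSplit k (CSAGal.tpow k A n)) :
    ∃ e, CSAGal.IsPeriod k A e := by
  classical
  have hex : ∃ e, 0 < e ∧ Curves.Splits k (CSAGal.tpow k A e) k :=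
    ⟨n, hn, splits_self_iff.mpr h⟩
  refine ⟨Nat.find hex, (Nat.find_spec hex).1, (Nat.find_spec hex).2, fun e' he' hlt hs => ?_⟩
  exact Nat.find_min hex hlt ⟨he', hs⟩

/-- If `A^{⊗x}` and `A^{⊗y}` are split (with `x > 0`), so is `A^{⊗ gcd x y}`. -/
theorem isSplit_tpow_gcd (hA : IsCSA k A) {x y : ℕ} (hx0 : 0 < x)
    (hx : IsSplit k (CSAGal.tpow k A x)) (hy : IsSplit k (CSAGal.tpow k A y)) :
    IsSplit k (CSAGal.tpow k A (Nat.gcd x y)) := by
  obtain ⟨e, he⟩ := exists_isPeriod hx0 hx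
  rw [isSplit_tpow_iff_dvd hA he] at hx hy ⊢
  exact Nat.dvd_gcd hx hy

end period

end Groth.Agent.Lib.Helper15.CSA
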