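import Mathlib
import Groth.Agent.Lib.Helper15.PeriodIndex
import Groth.Agent.Lib.Helper15.TPowBaseChange
import Groth.Agent.Lib.Helper15.IndexBaseChange

/-!
# Period and index have the same prime factors (helper15)
-/

set_option autoImplicit false
universe u v w
open scoped TensorProduct

namespace Groth.Agent.Lib.Helper15.CSA

/-- The dimension of a central simple algebra is a square. -/
theorem exists_finrank_eq_sq (F : Type u) [Field F] (B : Type v) [Ring B] [Algebra F B]
    [Algebra.IsCentral F B] [IsSimpleRing B] [FiniteDimensional F B] :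
    ∃ n : ℕ, Module.finrank F B = n ^ 2 := by
  obtain ⟨n, hn, ⟨e⟩⟩ :=
    Groth.Agent.Lib.Helper8.CSASplit.splits_of_isSepClosed F B (SeparableClosure F)
  refine ⟨n, ?_⟩
  have h1 := e.toLinearEquiv.finrank_eq
  rw [Module.finrank_baseChange, Module.finrank_matrix] at h1
  simpa [pow_two] using h1

/-- If `A` has index `d` and `A^{⊗e}` is split with `e > 0`, every prime divisor of `d`
divides `e`. -/
theorem prime_dvd_of_isSplit_tpow (k : Type u) [Field k] (A : Type v) [Ring A] [Algebra k A]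
    [Algebra.IsCentral k A] [IsSimpleRing A] [FiniteDimensional k A]
    (D : Type v) [DivisionRing D] [Algebra k D] [Algebra.IsCentral k D] [FiniteDimensional k D]
    (m : ℕ) (iso : A ≃ₐ[k] Matrix (Fin m) (Fin m) D) (d : ℕ) (hd : Module.finrank k D = d ^ 2)
    (e : ℕ) (hsplit : IsSplit k (CSAGal.tpow k A e))
    (p : ℕ) (hp : p.Prime) (hpd : p ∣ d) : p ∣ e := by
  classical
  obtain ⟨K, hKf, hKg, hKs⟩ :=
    Groth.Agent.Lib.Helper8.CSASplit.exists_finite_galois_intermediateField_splits k A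
  have : Fact p.Prime := ⟨hp⟩
  let P : Sylow p (K ≃ₐ[k] K) := default
  let F : IntermediateField k K := IntermediateField.fixedField (P : Subgroup (K ≃ₐ[k] K))
  have h1 : Module.finrank F K = Nat.card (P : Subgroup (K ≃ₐ[k] K)) :=
    IntermediateField.finrank_fixedField_eq_card _
  obtain ⟨a, ha⟩ := IsPGroup.iff_card.mp P.isPGroup'
  have h2 : Module.finrank k F * Module.finrank F K = Module.finrank k K :=
    Module.finrank_mul_finrank k F K
  have h3 : ¬ p ∣ Module.finrank k F := by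
    have h4 : Nat.card (P : Subgroup (K ≃ₐ[k] K)) * (P : Subgroup (K ≃ₐ[k] K)).index =
        Nat.card (K ≃ₐ[k] K) := Subgroup.card_mul_index _
    rw [IsGalois.card_aut_eq_finrank, ← h2, ← h1, mul_comm] at h4
    have hpos : 0 < Module.finrank F K := Module.finrank_pos
    have h5 : (P : Subgroup (K ≃ₐ[k] K)).index = Module.finrank k F :=
      Nat.eq_of_mul_eq_mul_right hpos h4
    rw [← h5]
    exact P.not_dvd_index
  have hc' : Algebra.IsCentral F (F ⊗[k] A) := isCentral_baseChange k F A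
  have hs' : IsSimpleRing (F ⊗[k] A) := isSimpleRing_baseChange k F A
  obtain ⟨m', hm', D', _, _, hD'c, hD'f, ⟨iso'⟩⟩ :=
    exists_algEquiv_matrix_central_division F (F ⊗[k] A)
  obtain ⟨d', hd'⟩ := exists_finrank_eq_sq F D'
  obtain ⟨-, hdd⟩ := index_baseChange k F A D m iso d hd D' m' iso' d' hd'
  have hpd' : p ∣ d' := (hp.dvd_mul.mp (hpd.trans hdd)).resolve_left h3
  have hsK : Curves.Splits F (F ⊗[k] A) K := splits_baseChange_of_tower k F K A hKs
  have h4 : IsSplit F (CSAGal.tpow F (F ⊗[k] A) (Module.finrank F K)) :=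
    isSplit_tpow_finrank_of_splits (F ⊗[k] A) hsK
  have h5 : IsSplit F (CSAGal.tpow F (F ⊗[k] A) e) := isSplit_tpow_baseChange F hsplit
  have h6 := isSplit_tpow_gcd (IsCSA.mk' (F ⊗[k] A)) Module.finrank_pos h4 h5
  by_contra hpe
  have hg : Nat.gcd (p ^ a) e = 1 :=
    Nat.Coprime.pow_left a ((Nat.Prime.coprime_iff_not_dvd hp).mpr hpe)
  rw [h1, ha, hg] at h6
  have h6' : IsSplit F (F ⊗[k] A) := h6.of_algEquiv (tpowOneEquiv F (F ⊗[k] A))
  obtain ⟨N, hN, ⟨ψ⟩⟩ := h6'
  have : NeZero N := ⟨hN⟩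
  obtain ⟨-, ⟨eD⟩⟩ := matrix_division_unique F D' F m' N (iso'.symm.trans ψ)
  have h7 : d' ^ 2 = 1 := by
    rw [← hd', eD.toLinearEquiv.finrank_eq, Module.finrank_self]
  have h8 : d' = 1 := by
    rcases Nat.eq_zero_or_pos d' with h0 | h0
    · rw [h0] at h7; simp at h7
    · exact Nat.pow_left_injective (n := 2) (by norm_num) (by simpa using h7)
  rw [h8] at hpd'
  exact hp.one_lt.ne' (Nat.dvd_one.mp hpd')

end Groth.Agent.Lib.Helper15.CSA
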