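import Mathlib
import Groth.Agent.S5720
import Groth.Agent.Lib.Helper15.FKSplit

/-!
# Azumaya algebras of degree `n` are split by pointed étale neighbourhoods (helper15)
-/

set_option linter.style.haveILetI false
set_option autoImplicit false

universe u w

open scoped TensorProduct

namespace Groth.Agent.Lib.Helper15.FKSplitExists

open Groth.Agent.Lib.Helper15.FKSplit

theorem exists_split_nbhd (R : Type u) [CommRing R] (A : Type w) [Ring A] [Algebra R A]
    [IsAzumaya R A] (n : ℕ)
    (hrank : ∀ p : PrimeSpectrum R, Module.rankAtStalk (R := R) A p = n ^ 2)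
    (p : Ideal R) [p.IsPrime] :
    ∃ (T : Type u) (_ : CommRing T) (_ : Algebra R T) (_ : Algebra.Etale R T)
      (q : Ideal T) (_ : q.IsPrime), q.comap (algebraMap R T) = p ∧
      ∃ ψ : A →ₐ[R] Matrix (Fin n) (Fin n) T, Split T ψ := by
  classical
  obtain ⟨m, f, hf⟩ := Module.Finite.exists_fin' R A
  haveI : Small.{u} A := small_of_surjective hf
  let e : Shrink.{u} A ≃ₐ[R] A := Shrink.algEquiv R A
  haveI : IsAzumaya R (Shrink.{u} A) := IsAzumaya.of_AlgEquiv R A _ e.symm
  obtain ⟨g, hg, R', _, _, _, _, hfin, het, hff, r, hr, ⟨E⟩⟩ :=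
    Groth.Agent.S5720.result R (Shrink.{u} A) p
  haveI := het
  haveI := hff
  haveI := hfin
  haveI : Algebra.Etale R (Localization.Away g) := Algebra.Etale.of_isLocalizationAway g
  haveI : Algebra.Etale R R' := Algebra.Etale.comp R (Localization.Away g) R'
  -- a prime of `R'` over `p`
  have hd : Disjoint ((Submonoid.powers g : Submonoid R) : Set R) (p : Set R) := by
    rw [Set.disjoint_left]
    rintro x ⟨k, rfl⟩ hx
    exact hg (Ideal.IsPrime.mem_of_pow_mem inferInstance k hx)
  let pL : Ideal (Localization.Away g) := Ideal.map (algebraMap R (Localization.Away g)) p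
  haveI hpL : pL.IsPrime :=
    IsLocalization.isPrime_of_isPrime_disjoint (Submonoid.powers g) _ p inferInstance hd
  have hpL' : pL.comap (algebraMap R (Localization.Away g)) = p :=
    IsLocalization.under_map_of_isPrime_disjoint (Submonoid.powers g) _ inferInstance hd
  obtain ⟨Q, hQ⟩ := PrimeSpectrum.comap_surjective_of_faithfullyFlat
    (A := Localization.Away g) (B := R') ⟨pL, hpL⟩
  have hQ' : Q.asIdeal.comap (algebraMap (Localization.Away g) R') = pL :=
    congrArg PrimeSpectrum.asIdeal hQ
  have hQp : Q.asIdeal.comap (algebraMap R R') = p := by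
    rw [IsScalarTower.algebraMap_eq R (Localization.Away g) R', ← Ideal.comap_comap, hQ', hpL']
  -- the rank
  have hrn : r = n := by
    have h1 : Module.rankAtStalk (R := R') (R' ⊗[R] Shrink.{u} A) Q = n ^ 2 := by
      rw [Module.rankAtStalk_baseChange, Module.rankAtStalk_eq_of_equiv e.toLinearEquiv, hrank]
    have h2 : Module.rankAtStalk (R := R') (R' ⊗[R] Shrink.{u} A) Q = r ^ 2 := by
      haveI : Nontrivial R' := Q.nontrivial
      rw [Module.rankAtStalk_eq_of_equiv E.toLinearEquiv, Module.rankAtStalk_eq_finrank_of_free]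
      simp [Module.finrank_matrix, sq]
    rw [h1] at h2
    exact (Nat.pow_left_injective (n := 2) (by norm_num) h2).symm
  subst hrn
  refine ⟨R', inferInstance, inferInstance, inferInstance, Q.asIdeal, Q.isPrime, hQp, ?_⟩
  let ψ₀ : Shrink.{u} A →ₐ[R] Matrix (Fin r) (Fin r) R' :=
    ((E : R' ⊗[R] Shrink.{u} A →ₐ[R'] Matrix (Fin r) (Fin r) R').restrictScalars R).comp
      Algebra.TensorProduct.includeRight
  have hψ₀ : Split R' ψ₀ := by
    have : ⇑(liftA R' ψ₀) = ⇑E := by
      funext x
      induction x using TensorProduct.induction_on with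
      | zero => simp
      | tmul s b =>
        rw [liftA_tmul]
        change s • E ((1 : R') ⊗ₜ[R] b) = E (s ⊗ₜ[R] b)
        rw [← map_smul, TensorProduct.smul_tmul', smul_eq_mul, mul_one]
      | add x y hx hy => simp only [map_add, hx, hy]
    rw [Split, this]
    exact E.bijective
  exact ⟨ψ₀.comp (e.symm : A →ₐ[R] Shrink.{u} A), hψ₀.comp_equiv e.symm⟩

end Groth.Agent.Lib.Helper15.FKSplitExists
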