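import Mathlib
import Groth.Agent.Lib.Helper15.FKHasForm
import Groth.Agent.Lib.Helper15.FKSplitExists

/-!
# Involutions of the first kind on Azumaya algebras: local structure, sign, covers (helper15)
-/

set_option linter.style.haveILetI false
set_option autoImplicit false

universe u w

open Matrix
open scoped TensorProduct

namespace Groth.Agent.Lib.Helper15.FKLocal

open Groth.Agent.Lib.Helper15.FKSplit Groth.Agent.Lib.Helper15.FKFamily
  Groth.Agent.Lib.Helper15.FKMat Groth.Agent.Lib.Helper15.FKHasForm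
  Groth.Agent.Lib.Helper15.FKNbhd Groth.Agent.Lib.Helper15.FKSplitExists

section pointwise

variable {R : Type u} [CommRing R] {A : Type w} [Ring A] [Algebra R A]

theorem baseChange_mul (t : A →ₗ[R] A) (htmul : ∀ a b, t (a * b) = t b * t a)
    (T : Type*) [CommRing T] [Algebra R T] (x y : T ⊗[R] A) :
    t.baseChange T (x * y) = t.baseChange T y * t.baseChange T x := by
  induction x using TensorProduct.induction_on with
  | zero => simp
  | tmul s a =>
    induction y using TensorProduct.induction_on with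
    | zero => simp
    | tmul s' a' =>
      rw [Algebra.TensorProduct.tmul_mul_tmul, LinearMap.baseChange_tmul, LinearMap.baseChange_tmul,
        LinearMap.baseChange_tmul, Algebra.TensorProduct.tmul_mul_tmul, htmul, mul_comm]
    | add y y' hy hy' => rw [mul_add, map_add, hy, hy', map_add, add_mul]
  | add x x' hx hx' => rw [add_mul, map_add, hx, hx', map_add, mul_add]

theorem baseChange_invol (t : A →ₗ[R] A) (htinv : ∀ a, t (t a) = a)
    (T : Type*) [CommRing T] [Algebra R T] (x : T ⊗[R] A) :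
    t.baseChange T (t.baseChange T x) = x := by
  induction x using TensorProduct.induction_on with
  | zero => simp
  | tmul s a => rw [LinearMap.baseChange_tmul, LinearMap.baseChange_tmul, htinv]
  | add x x' hx hx' => rw [map_add, map_add, hx, hx']

/-- the local structure of an involution of the first kind of an Azumaya algebra of degree `n` -/
theorem pointwise (h2 : IsUnit (2 : R)) [IsAzumaya R A] (n : ℕ) (hn : 0 < n)
    (hrank : ∀ p : PrimeSpectrum R, Module.rankAtStalk (R := R) A p = n ^ 2)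
    (t : A →ₗ[R] A) (htmul : ∀ a b, t (a * b) = t b * t a) (htinv : ∀ a, t (t a) = a)
    (p : Ideal R) [p.IsPrime] :
    ∃ (T : Type u) (_ : CommRing T) (_ : Algebra R T) (_ : Algebra.Etale R T)
      (q : Ideal T) (_ : q.IsPrime), q.comap (algebraMap R T) = p ∧
      (HasForm t (Fin n) 1 1 T ∨ (n = 2 * (n / 2) ∧
        HasForm t (Fin (n / 2) × Fin 2) (Jstd (n / 2) ℤ) (-Jstd (n / 2) ℤ) T)) := by
  classical
  obtain ⟨T₁, _, _, _, q₁, _, hq₁, ψ₁, hψ₁⟩ := exists_split_nbhd R A n hrank p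
  apply nbhd_trans p T₁ q₁ hq₁ (fun T' _ _ => HasForm t (Fin n) 1 1 T' ∨ (n = 2 * (n / 2) ∧
        HasForm t (Fin (n / 2) × Fin 2) (Jstd (n / 2) ℤ) (-Jstd (n / 2) ℤ) T'))
  let L : T₁ ⊗[R] A ≃ₐ[T₁] Matrix (Fin n) (Fin n) T₁ := AlgEquiv.ofBijective (liftA T₁ ψ₁) hψ₁
  have hL : ∀ a, L ((1 : T₁) ⊗ₜ[R] a) = ψ₁ a := fun a => by
    rw [show L ((1 : T₁) ⊗ₜ[R] a) = liftA T₁ ψ₁ ((1 : T₁) ⊗ₜ[R] a) from rfl, liftA_tmul, one_smul]
  let σ : Matrix (Fin n) (Fin n) T₁ → Matrix (Fin n) (Fin n) T₁ :=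
    fun m => L (t.baseChange T₁ (L.symm m))
  have hσψ : ∀ a, σ (ψ₁ a) = ψ₁ (t a) := by
    intro a
    change L (t.baseChange T₁ (L.symm (ψ₁ a))) = _
    rw [← hL a, AlgEquiv.symm_apply_apply, LinearMap.baseChange_tmul, hL]
  have hadd : ∀ x y, σ (x + y) = σ x + σ y := fun x y => by
    simp only [σ, map_add]
  have hmul : ∀ x y, σ (x * y) = σ y * σ x := fun x y => by
    simp only [σ, map_mul, baseChange_mul t htmul]
  have hsmul : ∀ (c : T₁) x, σ (c • x) = c • σ x := fun c x => by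
    simp only [σ, map_smul]
  have hinv : ∀ x, σ (σ x) = x := fun x => by
    simp only [σ, AlgEquiv.symm_apply_apply, baseChange_invol t htinv, AlgEquiv.apply_symm_apply]
  obtain ⟨T', _, _, _, q', _, hq', hC⟩ :=
    matrix_main (T := T₁) (σ := σ) (isUnit_two_map h2) hn hadd hmul hsmul hinv q₁
  refine ⟨T', inferInstance, inferInstance, inferInstance, q', inferInstance, hq', ?_⟩
  intro _ _
  rcases hC with ⟨w, winv, hw, hw', hrel⟩ | ⟨k, hk, w, winv, hw, hw', hrel⟩
  · left
    refine ⟨_, (hψ₁.baseChange (S' := T')).equiv_comp (conjEquiv w winv hw hw'), fun a => ?_⟩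
    change winv * (ψ₁ (t a)).map (algebraMap T₁ T') * w =
      _ * (winv * (ψ₁ a).map (algebraMap T₁ T') * w)ᵀ * _
    rw [← hσψ, hrel, Matrix.map_one _ (map_zero _) (map_one _), Matrix.one_mul, Matrix.mul_one]
  · right
    obtain rfl : k = n / 2 := by omega
    refine ⟨hk, _, (hψ₁.baseChange (S' := T')).equiv_comp (conjEquiv w winv hw hw'), fun a => ?_⟩
    change winv * (ψ₁ (t a)).map (algebraMap T₁ T') * w =
      _ * (winv * (ψ₁ a).map (algebraMap T₁ T') * w)ᵀ * _
    have hJn : (-Jstd (n / 2) ℤ).map (Int.castRingHom T') =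
        -((Jstd (n / 2) ℤ).map (Int.castRingHom T')) := by
      ext i j
      simp
    rw [← hσψ, hrel, hJn, Jstd_map]

end pointwise

section common

variable {R : Type u} [CommRing R]

/-- two algebras with points over the same prime map to a common nontrivial ring -/
theorem exists_common (T T' : Type u) [CommRing T] [CommRing T'] [Algebra R T] [Algebra R T']
    (p : PrimeSpectrum R) (hT : p ∈ Set.range (PrimeSpectrum.comap (algebraMap R T)))
    (hT' : p ∈ Set.range (PrimeSpectrum.comap (algebraMap R T'))) :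
    ∃ (K : Type u) (_ : CommRing K) (_ : Nontrivial K) (f : T →+* K) (f' : T' →+* K),
      ∀ r, f (algebraMap R T r) = f' (algebraMap R T' r) := by
  let κ := p.asIdeal.ResidueField
  haveI h1 : Nontrivial (κ ⊗[R] T) := (PrimeSpectrum.nontrivial_iff_mem_rangeComap p).mpr hT
  haveI h2 : Nontrivial (κ ⊗[R] T') := (PrimeSpectrum.nontrivial_iff_mem_rangeComap p).mpr hT'
  haveI : Nontrivial ((κ ⊗[R] T) ⊗[κ] (κ ⊗[R] T')) :=
    Algebra.TensorProduct.nontrivial_of_algebraMap_injective_of_flat_left κ (κ ⊗[R] T) (κ ⊗[R] T')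
      (algebraMap κ (κ ⊗[R] T')).injective
  let f : T →+* (κ ⊗[R] T) ⊗[κ] (κ ⊗[R] T') :=
    (Algebra.TensorProduct.includeLeft : (κ ⊗[R] T) →ₐ[κ] (κ ⊗[R] T) ⊗[κ] (κ ⊗[R] T')).toRingHom.comp
      (Algebra.TensorProduct.includeRight : T →ₐ[R] κ ⊗[R] T).toRingHom
  let f' : T' →+* (κ ⊗[R] T) ⊗[κ] (κ ⊗[R] T') :=
    (Algebra.TensorProduct.includeRight :
      (κ ⊗[R] T') →ₐ[κ] (κ ⊗[R] T) ⊗[κ] (κ ⊗[R] T')).toRingHom.comp
      (Algebra.TensorProduct.includeRight : T' →ₐ[R] κ ⊗[R] T').toRingHom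
  refine ⟨(κ ⊗[R] T) ⊗[κ] (κ ⊗[R] T'), inferInstance, inferInstance, f, f', fun r => ?_⟩
  have e1 : f (algebraMap R T r) =
      algebraMap κ ((κ ⊗[R] T) ⊗[κ] (κ ⊗[R] T')) (algebraMap R κ r) := by
    change (Algebra.TensorProduct.includeLeft : (κ ⊗[R] T) →ₐ[κ] (κ ⊗[R] T) ⊗[κ] (κ ⊗[R] T'))
      ((Algebra.TensorProduct.includeRight : T →ₐ[R] κ ⊗[R] T) (algebraMap R T r)) = _
    rw [AlgHom.commutes, IsScalarTower.algebraMap_apply R κ (κ ⊗[R] T), AlgHom.commutes]
  have e2 : f' (algebraMap R T' r) =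
      algebraMap κ ((κ ⊗[R] T) ⊗[κ] (κ ⊗[R] T')) (algebraMap R κ r) := by
    change (Algebra.TensorProduct.includeRight :
      (κ ⊗[R] T') →ₐ[κ] (κ ⊗[R] T) ⊗[κ] (κ ⊗[R] T'))
      ((Algebra.TensorProduct.includeRight : T' →ₐ[R] κ ⊗[R] T') (algebraMap R T' r)) = _
    rw [AlgHom.commutes, IsScalarTower.algebraMap_apply R κ (κ ⊗[R] T'), AlgHom.commutes]
  rw [e1, e2]

end common

section topology

variable {R : Type u} [CommRing R]

theorem isOpen_range_comap (T : Type u) [CommRing T] [Algebra R T] [Algebra.Etale R T] :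
    IsOpen (Set.range (PrimeSpectrum.comap (algebraMap R T))) :=
  (PrimeSpectrum.isOpenMap_comap_of_hasGoingDown_of_finitePresentation (R := R) (S := T)).isOpen_range

/-- the locus where a property of étale algebras holds étale locally is open -/
theorem isOpen_locus (Φ : ∀ (T : Type u) [CommRing T] [Algebra R T], Prop) :
    IsOpen {p : PrimeSpectrum R | ∃ (T : Type u) (_ : CommRing T) (_ : Algebra R T)
      (_ : Algebra.Etale R T), Φ T ∧ p ∈ Set.range (PrimeSpectrum.comap (algebraMap R T))} := by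
  rw [isOpen_iff_forall_mem_open]
  rintro p ⟨T, _, _, _, hΦ, hp⟩
  exact ⟨_, fun p' hp' => ⟨T, inferInstance, inferInstance, inferInstance, hΦ, hp'⟩,
    isOpen_range_comap T, hp⟩

theorem sign_constant [ConnectedSpace (PrimeSpectrum R)]
    (Φ₁ Φ₂ : ∀ (T : Type u) [CommRing T] [Algebra R T], Prop)
    (hpt : ∀ p : PrimeSpectrum R, ∃ (T : Type u) (_ : CommRing T) (_ : Algebra R T)
      (_ : Algebra.Etale R T), (Φ₁ T ∨ Φ₂ T) ∧
        p ∈ Set.range (PrimeSpectrum.comap (algebraMap R T)))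
    (hdisj : ∀ (T T' : Type u) [CommRing T] [CommRing T'] [Algebra R T] [Algebra R T'],
      Φ₁ T → Φ₂ T' → ∀ p : PrimeSpectrum R,
        p ∈ Set.range (PrimeSpectrum.comap (algebraMap R T)) →
        p ∈ Set.range (PrimeSpectrum.comap (algebraMap R T')) → False) :
    (∀ p : PrimeSpectrum R, ∃ (T : Type u) (_ : CommRing T) (_ : Algebra R T)
      (_ : Algebra.Etale R T), Φ₁ T ∧ p ∈ Set.range (PrimeSpectrum.comap (algebraMap R T))) ∨
    (∀ p : PrimeSpectrum R, ∃ (T : Type u) (_ : CommRing T) (_ : Algebra R T)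
      (_ : Algebra.Etale R T), Φ₂ T ∧ p ∈ Set.range (PrimeSpectrum.comap (algebraMap R T))) := by
  set U₁ := {p : PrimeSpectrum R | ∃ (T : Type u) (_ : CommRing T) (_ : Algebra R T)
      (_ : Algebra.Etale R T), Φ₁ T ∧ p ∈ Set.range (PrimeSpectrum.comap (algebraMap R T))} with hU₁
  set U₂ := {p : PrimeSpectrum R | ∃ (T : Type u) (_ : CommRing T) (_ : Algebra R T)
      (_ : Algebra.Etale R T), Φ₂ T ∧ p ∈ Set.range (PrimeSpectrum.comap (algebraMap R T))} with hU₂
  have ho₁ : IsOpen U₁ := isOpen_locus Φ₁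
  have ho₂ : IsOpen U₂ := isOpen_locus Φ₂
  have hcompl : U₁ᶜ = U₂ := by
    ext p
    constructor
    · intro hp
      obtain ⟨T, _, _, _, h12, hpT⟩ := hpt p
      rcases h12 with h | h
      · exact absurd ⟨T, inferInstance, inferInstance, inferInstance, h, hpT⟩ hp
      · exact ⟨T, inferInstance, inferInstance, inferInstance, h, hpT⟩
    · rintro ⟨T', _, _, _, h', hpT'⟩ ⟨T, _, _, _, h, hpT⟩
      exact hdisj T T' h h' p hpT hpT'
  have hclopen : IsClopen U₁ := ⟨by rw [← isOpen_compl_iff, hcompl]; exact ho₂, ho₁⟩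
  rcases isClopen_iff.mp hclopen with h | h
  · right
    intro p
    have : p ∈ U₂ := by rw [← hcompl, h]; simp
    exact this
  · left
    intro p
    have : p ∈ U₁ := by rw [h]; trivial
    exact this

/-- gluing pointed étale neighbourhoods into one étale faithfully flat algebra -/
theorem exists_cover_of_points (Φ : ∀ (T : Type u) [CommRing T] [Algebra R T], Prop)
    (hpt : ∀ p : PrimeSpectrum R, ∃ (T : Type u) (_ : CommRing T) (_ : Algebra R T)
      (_ : Algebra.Etale R T), Φ T ∧ p ∈ Set.range (PrimeSpectrum.comap (algebraMap R T)))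
    (hprod : ∀ (ι : Type u) [Fintype ι] [DecidableEq ι] (T : ι → Type u) [∀ i, CommRing (T i)]
      [∀ i, Algebra R (T i)], (∀ i, Φ (T i)) → Φ (Π i, T i)) :
    ∃ (S' : Type u) (_ : CommRing S') (_ : Algebra R S') (_ : Algebra.Etale R S')
      (_ : Module.FaithfullyFlat R S'), Φ S' := by
  classical
  choose T iR iA iE hΦ hp using hpt
  let U : PrimeSpectrum R → Set (PrimeSpectrum R) :=
    fun p => Set.range (PrimeSpectrum.comap (algebraMap R (T p)))
  have hUo : ∀ p, IsOpen (U p) := fun p => isOpen_range_comap (T p)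
  obtain ⟨F, hF⟩ := isCompact_univ.elim_finite_subcover U hUo
    (fun p _ => Set.mem_iUnion.mpr ⟨p, hp p⟩)
  let ι := {p : PrimeSpectrum R // p ∈ F}
  letI : ∀ i : ι, CommRing (T i.1) := fun i => iR i.1
  letI : ∀ i : ι, Algebra R (T i.1) := fun i => iA i.1
  haveI : ∀ i : ι, Algebra.Etale R (T i.1) := fun i => iE i.1
  haveI : Module.Flat R (Π i : ι, T i.1) := inferInstance
  refine ⟨Π i : ι, T i.1, inferInstance, inferInstance, inferInstance, ?_,
    hprod ι (fun i => T i.1) (fun i => hΦ i.1)⟩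
  apply Module.FaithfullyFlat.of_comap_surjective
  intro p
  have := hF (Set.mem_univ p)
  simp only [Set.mem_iUnion] at this
  obtain ⟨i, hi, Q, hQ⟩ := this
  refine ⟨PrimeSpectrum.comap (Pi.evalRingHom (fun j : ι => T j.1) ⟨i, hi⟩) Q, ?_⟩
  rw [← hQ, ← PrimeSpectrum.comap_comp_apply]
  rfl

end topology

end Groth.Agent.Lib.Helper15.FKLocal
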