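import Mathlib
import Groth.Prelude.Def_AzInv
import Groth.Agent.Lib.Helper15.FKLocal
import Groth.Agent.Lib.Helper15.AzInvType

/-!
# Types of involutions of the first kind over a connected base with `2` invertible (helper15)
-/

set_option linter.style.haveILetI false
set_option autoImplicit false

universe u w w'

open Matrix
open scoped TensorProduct

namespace Groth.Agent.Lib.Helper15.FKFinal

open Groth.Agent.Lib.Helper15.FKSplit Groth.Agent.Lib.Helper15.FKFamily
  Groth.Agent.Lib.Helper15.FKMat Groth.Agent.Lib.Helper15.FKHasForm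
  Groth.Agent.Lib.Helper15.FKLocal Groth.Agent.Lib.Helper15.AzInvType

section theta

variable {S' : Type*} [CommRing S'] {κ : Type*} [Fintype κ] [DecidableEq κ]

/-- `X ↦ G Xᵀ G'` as a linear map -/
def thetaLin (G G' : Matrix κ κ S') : Matrix κ κ S' →ₗ[S'] Matrix κ κ S' where
  toFun X := G * Xᵀ * G'
  map_add' X Y := by rw [Matrix.transpose_add, Matrix.mul_add, Matrix.add_mul]
  map_smul' c X := by
    rw [Matrix.transpose_smul, Matrix.mul_smul, Matrix.smul_mul, RingHom.id_apply]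

@[simp] theorem thetaLin_apply (G G' X : Matrix κ κ S') : thetaLin G G' X = G * Xᵀ * G' := rfl

end theta

theorem one_tmul_algebraMap {R S' C : Type*} [CommRing R] [CommRing S'] [Algebra R S'] [Ring C]
    [Algebra R C] (r : R) :
    ((1 : S') ⊗ₜ[R] algebraMap R C r : S' ⊗[R] C) =
      algebraMap S' (S' ⊗[R] C) (algebraMap R S' r) := by
  rw [Algebra.TensorProduct.algebraMap_apply, Algebra.algebraMap_self, RingHom.id_apply,
    Algebra.TensorProduct.tmul_one_eq_one_tmul]

section conv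

variable {R : Type u} [CommRing R] {A : Type w} [Ring A] [Algebra R A]
  (t : AzInv.LamInv R A (AlgEquiv.refl : R ≃ₐ[R] R))
  {B' : Type w'} [Ring B'] [Algebra R B'] (t' : AzInv.LamInv R B' (AlgEquiv.refl : R ≃ₐ[R] R))
  {κ : Type} [Fintype κ] [DecidableEq κ] {G Ginv : Matrix κ κ ℤ}

theorem locIsoEt_of_hasForm (S' : Type u) [CommRing S'] [Algebra R S'] [Algebra.Etale R S']
    [Module.FaithfullyFlat R S']
    (h : HasForm (t.linS R (AlgEquiv.refl : R ≃ₐ[R] R)) κ G Ginv S')
    (ψ' : B' →ₐ[R] Matrix κ κ S') (hψ' : Split S' ψ')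
    (h' : ∀ b', ψ' (t' b') =
      G.map (Int.castRingHom S') * (ψ' b')ᵀ * Ginv.map (Int.castRingHom S')) :
    AzInv.LocIsoEt R (AlgEquiv.refl : R ≃ₐ[R] R) (t.matrix (Fin 1)) t' := by
  obtain ⟨ψ, hψ, hrel⟩ := h
  let e₁ : Matrix (Fin 1) (Fin 1) A ≃ₐ[R] A :=
    { toFun := fun b => b 0 0
      invFun := fun a => Matrix.of fun _ _ => a
      left_inv := fun b => by
        ext i j
        rw [Subsingleton.elim i 0, Subsingleton.elim j 0]
        rfl
      right_inv := fun a => rfl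
      map_mul' := fun b c => by simp [Matrix.mul_apply]
      map_add' := fun b c => rfl
      commutes' := fun r => by simp [Matrix.algebraMap_matrix_apply] }
  have he₁ : ∀ b, e₁ b = b 0 0 := fun b => rfl
  obtain ⟨f, hf⟩ := exists_equiv_of_split (S := S')
    ((t.matrix (Fin 1)).linS R (AlgEquiv.refl : R ≃ₐ[R] R))
    (t'.linS R (AlgEquiv.refl : R ≃ₐ[R] R))
    (ψ.comp (e₁ : Matrix (Fin 1) (Fin 1) A →ₐ[R] A)) ψ' (hψ.comp_equiv e₁) hψ'
    (thetaLin (G.map (Int.castRingHom S')) (Ginv.map (Int.castRingHom S')))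
    (fun b => by
      change ψ ((t.matrix (Fin 1) b) 0 0) = thetaLin _ _ (ψ (b 0 0))
      rw [AzInv.LamInv.matrix_apply, thetaLin_apply]
      exact hrel (b 0 0))
    (fun b' => by simpa using h' b')
  refine ⟨S', inferInstance, inferInstance, inferInstance, inferInstance, f, ?_, hf⟩
  intro r x
  rw [one_tmul_algebraMap, one_tmul_algebraMap, map_mul, AlgEquiv.commutes]

end conv

section Jconj

variable {T : Type*} [CommRing T] (k : ℕ)

theorem Jstd_conj_apply (X : Matrix (Fin k × Fin 2) (Fin k × Fin 2) T) (i j : Fin k) (a b : Fin 2) :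
    (Jstd k T * Xᵀ * (-Jstd k T)) (i, a) (j, b) =
      sig (Matrix.of fun c d => X (j, c) (i, d)) a b := by
  have h1 : ∀ q, (Jstd k T * Xᵀ) (i, a) q = ∑ c, J2 T a c * X q (i, c) := by
    intro q
    simp only [Matrix.mul_apply, Fintype.sum_prod_type, Matrix.transpose_apply, Jstd,
      Matrix.of_apply]
    rw [Finset.sum_eq_single i]
    · simp
    · intro i' _ hi'
      simp [Ne.symm hi']
    · simp
  have h2 : (Jstd k T * Xᵀ * (-Jstd k T)) (i, a) (j, b) =
      ∑ d, (Jstd k T * Xᵀ) (i, a) (j, d) * (-J2 T d b) := by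
    rw [Matrix.mul_apply, Fintype.sum_prod_type, Finset.sum_eq_single j]
    · simp [Jstd]
    · intro j' _ hj'
      simp [Jstd, hj']
    · simp
  rw [h2]
  simp only [h1, Fin.sum_univ_two]
  fin_cases a <;> fin_cases b <;> simp [J2, sig]

theorem sig_map {T' : Type*} [CommRing T'] (f : T →+* T') (x : Matrix (Fin 2) (Fin 2) T) :
    (sig x).map f = sig (x.map f) := by
  ext a b
  fin_cases a <;> fin_cases b <;> simp [sig]

end Jconj

section main

open AzInv

variable (R : Type u) [CommRing R]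
  (hlam : ∀ r : R, (AlgEquiv.refl : R ≃ₐ[R] R) ((AlgEquiv.refl : R ≃ₐ[R] R) r) = r)

theorem main [Nontrivial R] [ConnectedSpace (PrimeSpectrum R)] (h2 : IsUnit (2 : R))
    (J : (Matrix (Fin 2) (Fin 2) R)ˣ)
    (hJ : (↑J : Matrix (Fin 2) (Fin 2) R) = Matrix.of ![![0, -1], ![1, 0]])
    (hJt : AzInv.LamInv.transpose (AlgEquiv.refl : R ≃ₐ[R] R) (Fin 2) hlam
      (↑J : Matrix (Fin 2) (Fin 2) R) = (-1 : R) • (↑J : Matrix (Fin 2) (Fin 2) R))
    (hneg : (AlgEquiv.refl : R ≃ₐ[R] R) (-1) * (-1) = 1)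
    (A : Type w) [Ring A] [Algebra R A]
    (n : ℕ) (hn : 0 < n) (hA : AzInv.IsAzumayaDeg R A n)
    (t : AzInv.LamInv R A (AlgEquiv.refl : R ≃ₐ[R] R)) :
    AzInv.SameType R (AlgEquiv.refl : R ≃ₐ[R] R) t
        (AzInv.LamInv.self (AlgEquiv.refl : R ≃ₐ[R] R) hlam) ∨
      AzInv.SameType R (AlgEquiv.refl : R ≃ₐ[R] R) t
        ((AzInv.LamInv.transpose (AlgEquiv.refl : R ≃ₐ[R] R) (Fin 2) hlam).conj J (-1) hJt hneg) := by
  classical
  haveI : IsAzumaya R A := hA.1
  have hrank := hA.2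
  set tl : A →ₗ[R] A := t.linS R (AlgEquiv.refl : R ≃ₐ[R] R) with htl
  have htmul : ∀ a b, tl (a * b) = tl b * tl a := fun a b => t.map_mul a b
  have htinv : ∀ a, tl (tl a) = a := fun a => t.invol a
  set k := n / 2 with hk
  -- pointwise structure
  have hpt : ∀ p : PrimeSpectrum R, ∃ (T : Type u) (_ : CommRing T) (_ : Algebra R T)
      (_ : Algebra.Etale R T), (HasForm tl (Fin n) 1 1 T ∨ (n = 2 * k ∧
        HasForm tl (Fin k × Fin 2) (Jstd k ℤ) (-Jstd k ℤ) T)) ∧
        p ∈ Set.range (PrimeSpectrum.comap (algebraMap R T)) := by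
    intro p
    obtain ⟨T, _, _, _, q, _, hq, hform⟩ := pointwise h2 n hn hrank tl htmul htinv p.asIdeal
    exact ⟨T, inferInstance, inferInstance, inferInstance, hform, ⟨⟨q, inferInstance⟩,
      PrimeSpectrum.ext hq⟩⟩
  have hdisj : ∀ (T T' : Type u) [CommRing T] [CommRing T'] [Algebra R T] [Algebra R T'],
      HasForm tl (Fin n) 1 1 T →
      (n = 2 * k ∧ HasForm tl (Fin k × Fin 2) (Jstd k ℤ) (-Jstd k ℤ) T') →
      ∀ p : PrimeSpectrum R,
        p ∈ Set.range (PrimeSpectrum.comap (algebraMap R T)) →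
        p ∈ Set.range (PrimeSpectrum.comap (algebraMap R T')) → False := by
    intro T T' _ _ _ _ h₁ h₂ p hp hp'
    obtain ⟨K, _, _, f, f', hff'⟩ := exists_common T T' p hp hp'
    letI : Algebra R K := (f.comp (algebraMap R T)).toAlgebra
    have h₁K : HasForm tl (Fin n) 1 1 K := HasForm.of_ringHom f (fun r => rfl) h₁
    have h₂K : HasForm tl (Fin k × Fin 2) (Jstd k ℤ) (-Jstd k ℤ) K :=
      HasForm.of_ringHom f' (fun r => (hff' r).symm) h₂.2
    have e : Fin k × Fin 2 ≃ Fin n := by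
      apply Fintype.equivOfCardEq
      rw [Fintype.card_prod, Fintype.card_fin, Fintype.card_fin, Fintype.card_fin]
      omega
    have h₂K' := h₂K.reindex e
    refine not_sym_and_alt tl hn K (isUnit_two_map h2) 1 1 _ _ Matrix.transpose_one
      (Matrix.one_mul 1) ?_ ?_ ?_ h₁K h₂K'
    · rw [Matrix.reindex_apply, Matrix.transpose_submatrix, Matrix.transpose_neg, Jstd_transpose,
        neg_neg]
      ext i j
      simp
    · rw [Matrix.reindex_apply, Matrix.reindex_apply, Matrix.submatrix_mul_equiv, neg_Jstd_mul,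
        Matrix.submatrix_one_equiv]
    · rw [Matrix.reindex_apply, Matrix.reindex_apply, Matrix.submatrix_mul_equiv, Jstd_mul_neg,
        Matrix.submatrix_one_equiv]
  rcases sign_constant
    (fun (T : Type u) [CommRing T] [Algebra R T] => HasForm tl (Fin n) 1 1 T)
    (fun (T : Type u) [CommRing T] [Algebra R T] => n = 2 * k ∧
        HasForm tl (Fin k × Fin 2) (Jstd k ℤ) (-Jstd k ℤ) T) hpt hdisj with hall | hall
  · -- orthogonal type
    left
    obtain ⟨S', _, _, _, _, hS'⟩ := exists_cover_of_points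
      (fun (T : Type u) [CommRing T] [Algebra R T] => HasForm tl (Fin n) 1 1 T) hall
      (fun ι _ _ T _ _ h => HasForm.pi T h)
    refine ⟨1, n, one_pos, hn, ?_⟩
    refine locIsoEt_of_hasForm t _ S' hS'
      ((Algebra.ofId R S').mapMatrix : Matrix (Fin n) (Fin n) R →ₐ[R] Matrix (Fin n) (Fin n) S')
      split_mapMatrix (fun b' => ?_)
    rw [Matrix.map_one _ (map_zero _) (map_one _), Matrix.one_mul, Matrix.mul_one]
    ext i j
    rfl
  · -- symplectic type
    right
    obtain ⟨p₀⟩ : Nonempty (PrimeSpectrum R) := inferInstance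
    obtain ⟨_, _, _, _, ⟨hnk, _⟩, _⟩ := hall p₀
    have hkpos : 0 < k := by omega
    obtain ⟨S', _, _, _, _, hS'⟩ := exists_cover_of_points
      (fun (T : Type u) [CommRing T] [Algebra R T] =>
        HasForm tl (Fin k × Fin 2) (Jstd k ℤ) (-Jstd k ℤ) T)
      (fun p => by
        obtain ⟨T, _, _, _, ⟨_, h⟩, hp⟩ := hall p
        exact ⟨T, inferInstance, inferInstance, inferInstance, h, hp⟩)
      (fun ι _ _ T _ _ h => HasForm.pi T h)
    refine ⟨1, k, one_pos, hkpos, ?_⟩
    let ec : Matrix (Fin k) (Fin k) (Matrix (Fin 2) (Fin 2) R) ≃ₐ[R]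
        Matrix (Fin k × Fin 2) (Fin k × Fin 2) R := Matrix.compAlgEquiv (Fin k) (Fin 2) R R
    have hec : ∀ (b' : Matrix (Fin k) (Fin k) (Matrix (Fin 2) (Fin 2) R)) i j a b,
        ec b' (i, a) (j, b) = b' i j a b := fun b' i j a b => rfl
    let mm : Matrix (Fin k × Fin 2) (Fin k × Fin 2) R →ₐ[R]
        Matrix (Fin k × Fin 2) (Fin k × Fin 2) S' := (Algebra.ofId R S').mapMatrix
    have hmm : Split S' mm := split_mapMatrix
    let ψ' : Matrix (Fin k) (Fin k) (Matrix (Fin 2) (Fin 2) R) →ₐ[R]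
        Matrix (Fin k × Fin 2) (Fin k × Fin 2) S' :=
      mm.comp (ec : Matrix (Fin k) (Fin k) (Matrix (Fin 2) (Fin 2) R) →ₐ[R] _)
    have hψ' : Split S' ψ' := hmm.comp_equiv ec
    have hψ'a : ∀ b' i j a b, ψ' b' (i, a) (j, b) = algebraMap R S' (b' i j a b) :=
      fun b' i j a b => rfl
    refine locIsoEt_of_hasForm t (((AzInv.LamInv.transpose (AlgEquiv.refl : R ≃ₐ[R] R) (Fin 2)
      hlam).conj J (-1) hJt hneg).matrix (Fin k)) S' hS' ψ' hψ' (fun b' => ?_)
    have hJn : (-Jstd k ℤ).map (Int.castRingHom S') =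
        -((Jstd k ℤ).map (Int.castRingHom S')) := by
      ext i j
      simp
    rw [hJn, Jstd_map]
    ext ⟨i, a⟩ ⟨j, b⟩
    rw [Jstd_conj_apply, hψ'a, AzInv.LamInv.matrix_apply, conj_eq_sig R hlam J hJ hJt hneg]
    have := congrFun (congrFun (sig_map (algebraMap R S') (b' j i)) a) b
    rw [Matrix.map_apply] at this
    rw [this]
    congr 1

end main

end Groth.Agent.Lib.Helper15.FKFinal
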