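import Mathlib

/-!
# Finite presentation of a localized module in terms of kernel elements (helper15, for S1251)
-/

set_option autoImplicit false
set_option linter.style.haveILetI false
set_option linter.unusedSectionVars false
set_option linter.style.longLine false
set_option linter.unusedVariables false

universe u

namespace Groth.Agent.Lib.Helper15.FPL

open TensorProduct

section LocFG

variable {A : Type u} [CommRing A] (T : Submonoid A) {F : Type u} [AddCommGroup F] [Module A F]

/-- `K` is finitely generated up to `T`-torsion. -/
def LocFG (K : Submodule A F) : Prop :=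
  ∃ K₀ : Submodule A F, K₀ ≤ K ∧ K₀.FG ∧ ∀ k ∈ K, ∃ t ∈ T, t • k ∈ K₀

theorem localized_fg_iff (K : Submodule A F) :
    (K.localized' (Localization T) T (LocalizedModule.mkLinearMap T F)).FG ↔ LocFG T K := by
  set f := LocalizedModule.mkLinearMap T F with hf
  constructor
  · intro hfg
    obtain ⟨S₀, hS₀⟩ := hfg
    have hmem : ∀ x ∈ S₀, ∃ m ∈ K, ∃ s : T, IsLocalizedModule.mk' f m s = x := by
      intro x hx
      have : x ∈ K.localized' (Localization T) T f := by
        rw [← hS₀]; exact Submodule.subset_span hx
      exact this
    choose! m hm s hs using hmem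
    classical
    refine ⟨Submodule.span A (S₀.image m : Set F), ?_, ?_, ?_⟩
    · rw [Submodule.span_le]
      intro y hy
      rw [Finset.coe_image] at hy
      obtain ⟨x, hx, rfl⟩ := hy
      exact hm x hx
    · exact Submodule.fg_span (Finset.finite_toSet _)
    · intro k hk
      have h1 : f k ∈ K.localized' (Localization T) T f := ⟨k, hk, 1, by simp⟩
      have h2 : K.localized' (Localization T) T f ≤
          (Submodule.span A (S₀.image m : Set F)).localized' (Localization T) T f := by
        rw [← hS₀, Submodule.span_le]
        intro x hx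
        refine ⟨m x, Submodule.subset_span ?_, s x, hs x hx⟩
        rw [Finset.coe_image]
        exact ⟨x, hx, rfl⟩
      obtain ⟨y, hy, t, hyt⟩ := h2 h1
      rw [IsLocalizedModule.mk'_eq_iff] at hyt
      have h3 : f y = f ((t : A) • k) := by rw [hyt, map_smul]; rfl
      obtain ⟨c, hc⟩ := IsLocalizedModule.exists_of_eq (S := T) h3
      refine ⟨(c : A) * (t : A), T.mul_mem c.2 t.2, ?_⟩
      rw [mul_smul]
      have : (c : A) • (t : A) • k = (c : A) • y := hc.symm
      rw [this]
      exact Submodule.smul_mem _ _ hy
  · rintro ⟨K₀, hle, hfg, hK⟩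
    have heq : K.localized' (Localization T) T f = K₀.localized' (Localization T) T f := by
      apply le_antisymm
      · rintro x ⟨m, hm, s, rfl⟩
        obtain ⟨t, ht, htm⟩ := hK m hm
        refine ⟨t • m, htm, ⟨t, ht⟩ * s, ?_⟩
        exact IsLocalizedModule.mk'_cancel_left (f := f) m ⟨t, ht⟩ s
      · rintro x ⟨m, hm, s, rfl⟩
        exact ⟨m, hle hm, s, rfl⟩
    rw [heq]
    obtain ⟨s₀, hs₀⟩ := hfg
    rw [← hs₀, Submodule.localized'_span]
    exact Submodule.fg_span ((Finset.finite_toSet s₀).image _)

variable {G : Type u} [AddCommGroup G] [Module A G]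

theorem finitePresentation_localizedModule_iff [Module.FinitePresentation A F]
    (π : F →ₗ[A] G) (hπ : Function.Surjective π) :
    Module.FinitePresentation (Localization T) (LocalizedModule T G) ↔
      LocFG T (LinearMap.ker π) := by
  rw [← localized_fg_iff]
  rw [LinearMap.localized'_ker_eq_ker_localizedMap (Localization T) T
    (LocalizedModule.mkLinearMap T F) (LocalizedModule.mkLinearMap T G) π]
  exact (Module.FinitePresentation.fg_ker_iff (LocalizedModule.map T π)
    (LocalizedModule.map_surjective T π hπ)).symm

end LocFG

end Groth.Agent.Lib.Helper15.FPL
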