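import Mathlib
import Groth.Agent.Lib.Helper15.FP1
import Groth.Agent.Lib.Helper15.ED2

/-!
# `LocFG`: change of rings and flat base change (helper15, for S1251)
-/

set_option autoImplicit false
set_option linter.style.haveILetI false
set_option linter.unusedSectionVars false
set_option linter.style.longLine false
set_option linter.unusedVariables false

universe u

namespace Groth.Agent.Lib.Helper15.FPL

open TensorProduct

section Ring

variable {A B : Type u} [CommRing A] [CommRing B] [Algebra A B]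
  {F : Type u} [AddCommGroup F] [Module A F] [Module B F] [IsScalarTower A B F]
  (TA : Submonoid A) (TB : Submonoid B)

theorem locFG_of_algebraMap_mem (K : Submodule B F) (h : ∀ t ∈ TA, algebraMap A B t ∈ TB)
    (hK : LocFG TA (K.restrictScalars A)) : LocFG TB K := by
  obtain ⟨K₀, hle, hfg, hcond⟩ := hK
  refine ⟨Submodule.span B (K₀ : Set F), ?_, ?_, ?_⟩
  · rw [Submodule.span_le]
    intro x hx
    exact hle hx
  · obtain ⟨s₀, hs₀⟩ := hfg
    refine ⟨s₀, ?_⟩
    rw [← hs₀, Submodule.span_span_of_tower]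
  · intro k hk
    obtain ⟨t, ht, htk⟩ := hcond k hk
    refine ⟨algebraMap A B t, h t ht, ?_⟩
    rw [algebraMap_smul]
    exact Submodule.subset_span htk

theorem locFG_restrictScalars_of_exists_mul [Module.Finite A B] (K : Submodule B F)
    (h : ∀ s ∈ TB, ∃ c : B, ∃ t ∈ TA, s * c = algebraMap A B t)
    (hK : LocFG TB K) : LocFG TA (K.restrictScalars A) := by
  obtain ⟨K₀, hle, hfg, hcond⟩ := hK
  refine ⟨K₀.restrictScalars A, fun x hx => hle hx, ?_, ?_⟩
  · haveI : Module.Finite B K₀ := Module.Finite.iff_fg.mpr hfg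
    haveI : Module.Finite A K₀ := Module.Finite.trans B K₀
    exact Module.Finite.iff_fg.mp (inferInstanceAs (Module.Finite A K₀))
  · intro k hk
    obtain ⟨s, hs, hsk⟩ := hcond k hk
    obtain ⟨c, t, ht, hct⟩ := h s hs
    refine ⟨t, ht, ?_⟩
    show t • k ∈ K₀
    rw [← algebraMap_smul B t k, ← hct, mul_comm, mul_smul]
    exact Submodule.smul_mem _ _ hsk

end Ring

section BC

variable {S S' : Type u} [CommRing S] [CommRing S'] [Algebra S S']
  {F : Type u} [AddCommGroup F] [Module S F]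

/-- `S' ⊗ K` as a submodule of `S' ⊗ F` -/
noncomputable abbrev bcSub (K : Submodule S F) : Submodule S' (S' ⊗[S] F) :=
  LinearMap.range (AlgebraTensorModule.lTensor S' S' K.subtype)

theorem bcSub_mono {K₁ K₂ : Submodule S F} (h : K₁ ≤ K₂) :
    bcSub (S' := S') K₁ ≤ bcSub (S' := S') K₂ := by
  rintro _ ⟨u, rfl⟩
  refine ⟨AlgebraTensorModule.lTensor S' S' (Submodule.inclusion h) u, ?_⟩
  rw [← LinearMap.comp_apply, ← AlgebraTensorModule.lTensor_comp]
  rfl

theorem tmul_mem_bcSub (K : Submodule S F) (s' : S') {k : F} (hk : k ∈ K) :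
    s' ⊗ₜ[S] k ∈ bcSub (S' := S') K :=
  ⟨s' ⊗ₜ[S] ⟨k, hk⟩, by simp⟩

theorem bcSub_fg {K : Submodule S F} (hK : K.FG) : (bcSub (S' := S') K).FG := by
  haveI : Module.Finite S K := Module.Finite.iff_fg.mpr hK
  exact Submodule.fg_range _

theorem locFG_bcSub_of_locFG (T : Submonoid S) (T' : Submonoid S')
    (hT : ∀ t ∈ T, algebraMap S S' t ∈ T') (K : Submodule S F) (h : LocFG T K) :
    LocFG T' (bcSub (S' := S') K) := by
  obtain ⟨K₀, hle, hfg, hcond⟩ := h
  refine ⟨bcSub K₀, bcSub_mono hle, bcSub_fg hfg, ?_⟩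
  rintro _ ⟨u, rfl⟩
  have hclaim : ∀ u : S' ⊗[S] K, ∃ t ∈ T,
      (algebraMap S S' t) • (AlgebraTensorModule.lTensor S' S' K.subtype u) ∈ bcSub (S' := S') K₀ := by
    intro u
    induction u using TensorProduct.induction_on with
    | zero => exact ⟨1, T.one_mem, by simp⟩
    | tmul s' k =>
      obtain ⟨t, ht, htk⟩ := hcond k.1 k.2
      refine ⟨t, ht, ?_⟩
      rw [AlgebraTensorModule.lTensor_tmul, Submodule.subtype_apply, algebraMap_smul,
        ← TensorProduct.tmul_smul]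
      exact tmul_mem_bcSub K₀ s' htk
    | add a b ha hb =>
      obtain ⟨t₁, ht₁, h₁⟩ := ha
      obtain ⟨t₂, ht₂, h₂⟩ := hb
      refine ⟨t₁ * t₂, T.mul_mem ht₁ ht₂, ?_⟩
      rw [map_add, smul_add]
      refine Submodule.add_mem _ ?_ ?_
      · rw [map_mul, mul_comm, mul_smul]
        exact Submodule.smul_mem _ _ h₁
      · rw [map_mul, mul_smul]
        exact Submodule.smul_mem _ _ h₂
  obtain ⟨t, ht, htu⟩ := hclaim u
  exact ⟨_, hT t ht, htu⟩

/-- every element of `S' ⊗ K` comes from `S' ⊗ K₁` with `K₁ ≤ K` finitely generated -/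
theorem exists_fg_le_mem_bcSub (K : Submodule S F) (u : S' ⊗[S] K) :
    ∃ K₁ : Submodule S F, K₁ ≤ K ∧ K₁.FG ∧
      AlgebraTensorModule.lTensor S' S' K.subtype u ∈ bcSub (S' := S') K₁ := by
  induction u using TensorProduct.induction_on with
  | zero => exact ⟨⊥, bot_le, Submodule.fg_bot, by simp⟩
  | tmul s' k =>
    refine ⟨Submodule.span S {k.1}, ?_, Submodule.fg_span_singleton _, ?_⟩
    · rw [Submodule.span_le, Set.singleton_subset_iff]; exact k.2
    · rw [AlgebraTensorModule.lTensor_tmul]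
      exact tmul_mem_bcSub _ s' (Submodule.subset_span rfl)
  | add a b ha hb =>
    obtain ⟨K₁, h₁le, h₁fg, h₁⟩ := ha
    obtain ⟨K₂, h₂le, h₂fg, h₂⟩ := hb
    refine ⟨K₁ ⊔ K₂, sup_le h₁le h₂le, h₁fg.sup h₂fg, ?_⟩
    rw [map_add]
    exact Submodule.add_mem _ (bcSub_mono le_sup_left h₁) (bcSub_mono le_sup_right h₂)

theorem exists_fg_le_bcSub_le (K : Submodule S F) (K₀' : Submodule S' (S' ⊗[S] F))
    (hle : K₀' ≤ bcSub (S' := S') K) (hfg : K₀'.FG) :
    ∃ K₁ : Submodule S F, K₁ ≤ K ∧ K₁.FG ∧ K₀' ≤ bcSub (S' := S') K₁ := by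
  obtain ⟨s₀, rfl⟩ := hfg
  classical
  induction s₀ using Finset.induction_on with
  | empty => exact ⟨⊥, bot_le, Submodule.fg_bot, by simp⟩
  | insert a s ha ih =>
    have hsle : Submodule.span S' (s : Set (S' ⊗[S] F)) ≤ bcSub (S' := S') K := by
      refine le_trans (Submodule.span_mono ?_) hle
      rw [Finset.coe_insert]
      exact Set.subset_insert _ _
    obtain ⟨K₁, h₁le, h₁fg, h₁⟩ := ih hsle
    have ha' : a ∈ bcSub (S' := S') K :=
      hle (Submodule.subset_span (by rw [Finset.coe_insert]; exact Set.mem_insert _ _))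
    obtain ⟨u, rfl⟩ := ha'
    obtain ⟨K₂, h₂le, h₂fg, h₂⟩ := exists_fg_le_mem_bcSub (S' := S') K u
    refine ⟨K₁ ⊔ K₂, sup_le h₁le h₂le, h₁fg.sup h₂fg, ?_⟩
    rw [Finset.coe_insert, Submodule.span_insert, sup_le_iff]
    refine ⟨?_, le_trans h₁ (bcSub_mono le_sup_left)⟩
    rw [Submodule.span_le, Set.singleton_subset_iff]
    exact bcSub_mono le_sup_right h₂

theorem locFG_of_locFG_bcSub (T : Submonoid S) (T' : Submonoid S') (K : Submodule S F)
    (Hdesc : ∀ (W : Type u) [AddCommGroup W] [Module S W] (w : W) (t' : S'), t' ∈ T' →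
      t' ⊗ₜ[S] w = (0 : S' ⊗[S] W) → ∃ t ∈ T, t • w = 0)
    (h : LocFG T' (bcSub (S' := S') K)) : LocFG T K := by
  obtain ⟨K₀', hle, hfg, hcond⟩ := h
  obtain ⟨K₁, h₁le, h₁fg, h₁⟩ := exists_fg_le_bcSub_le K K₀' hle hfg
  refine ⟨K₁, h₁le, h₁fg, ?_⟩
  intro k hk
  obtain ⟨t', ht', htk⟩ := hcond _ (tmul_mem_bcSub K (1 : S') hk)
  have h2 : t' • ((1 : S') ⊗ₜ[S] k) ∈ bcSub (S' := S') K₁ := h₁ htk
  obtain ⟨u, hu⟩ := h2
  have h3 : t' ⊗ₜ[S] (K₁.mkQ k) = (0 : S' ⊗[S] (F ⧸ K₁)) := by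
    have e1 : t' ⊗ₜ[S] (K₁.mkQ k) =
        AlgebraTensorModule.lTensor S' S' K₁.mkQ (t' • ((1 : S') ⊗ₜ[S] k)) := by
      rw [TensorProduct.smul_tmul', smul_eq_mul, mul_one, AlgebraTensorModule.lTensor_tmul]
    rw [e1, ← hu, ← LinearMap.comp_apply, ← AlgebraTensorModule.lTensor_comp]
    have : K₁.mkQ ∘ₗ K₁.subtype = 0 := by
      ext x
      simp
    rw [this]
    simp
  obtain ⟨t, ht, htw⟩ := Hdesc (F ⧸ K₁) (K₁.mkQ k) t' ht' h3
  refine ⟨t, ht, ?_⟩
  rw [← map_smul, Submodule.mkQ_apply, Submodule.Quotient.mk_eq_zero] at htw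
  exact htw

end BC

end Groth.Agent.Lib.Helper15.FPL
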