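import Mathlib
import Groth.Agent.Lib.Helper15.FP2

/-!
# Finite presentation of localized modules: flat base change, linear equivalences, change of rings
(helper15, for S1251)
-/

set_option autoImplicit false
set_option linter.style.haveILetI false
set_option linter.unusedSectionVars false
set_option linter.style.longLine false
set_option linter.unusedVariables false

universe u

namespace Groth.Agent.Lib.Helper15.FPL

open TensorProduct

section BC

variable {S S' : Type u} [CommRing S] [CommRing S'] [Algebra S S'] [Module.Flat S S']
  {N : Type u} [AddCommGroup N] [Module S N] [Module.Finite S N]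

theorem fp_baseChange_of_fp (T : Submonoid S) (T' : Submonoid S')
    (hT : ∀ t ∈ T, algebraMap S S' t ∈ T')
    (h : Module.FinitePresentation (Localization T) (LocalizedModule T N)) :
    Module.FinitePresentation (Localization T') (LocalizedModule T' (S' ⊗[S] N)) := by
  obtain ⟨m, π, hπ⟩ := Module.Finite.exists_fin' S N
  rw [finitePresentation_localizedModule_iff T π hπ] at h
  have hπ' : Function.Surjective (AlgebraTensorModule.lTensor S' S' π) :=
    LinearMap.lTensor_surjective S' hπ
  rw [finitePresentation_localizedModule_iff T' (AlgebraTensorModule.lTensor S' S' π) hπ',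
    Module.Flat.ker_lTensor_eq S' S' π]
  exact locFG_bcSub_of_locFG T T' hT _ h

theorem fp_of_fp_baseChange (T : Submonoid S) (T' : Submonoid S')
    (Hdesc : ∀ (W : Type u) [AddCommGroup W] [Module S W] (w : W) (t' : S'), t' ∈ T' →
      t' ⊗ₜ[S] w = (0 : S' ⊗[S] W) → ∃ t ∈ T, t • w = 0)
    (h : Module.FinitePresentation (Localization T') (LocalizedModule T' (S' ⊗[S] N))) :
    Module.FinitePresentation (Localization T) (LocalizedModule T N) := by
  obtain ⟨m, π, hπ⟩ := Module.Finite.exists_fin' S N
  rw [finitePresentation_localizedModule_iff T π hπ]
  have hπ' : Function.Surjective (AlgebraTensorModule.lTensor S' S' π) :=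
    LinearMap.lTensor_surjective S' hπ
  rw [finitePresentation_localizedModule_iff T' (AlgebraTensorModule.lTensor S' S' π) hπ',
    Module.Flat.ker_lTensor_eq S' S' π] at h
  exact locFG_of_locFG_bcSub T T' _ Hdesc h

end BC

section Equiv

variable {A : Type u} [CommRing A] {X Y : Type u} [AddCommGroup X] [Module A X]
  [AddCommGroup Y] [Module A Y]

theorem fp_localizedModule_congr (T : Submonoid A) (e : X ≃ₗ[A] Y) :
    Module.FinitePresentation (Localization T) (LocalizedModule T X) ↔
      Module.FinitePresentation (Localization T) (LocalizedModule T Y) :=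
  (IsLocalizedModule.mapEquiv T (LocalizedModule.mkLinearMap T X)
    (LocalizedModule.mkLinearMap T Y) (Localization T) e).finitePresentation_iff

end Equiv

section Ring

variable {A B : Type u} [CommRing A] [CommRing B] [Algebra A B] [Module.FinitePresentation A B]
  {G : Type u} [AddCommGroup G] [Module A G] [Module B G] [IsScalarTower A B G] [Module.Finite B G]

theorem fp_ring_of_algebraMap_mem (TA : Submonoid A) (TB : Submonoid B)
    (h : ∀ t ∈ TA, algebraMap A B t ∈ TB)
    (hA : Module.FinitePresentation (Localization TA) (LocalizedModule TA G)) :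
    Module.FinitePresentation (Localization TB) (LocalizedModule TB G) := by
  obtain ⟨n, ρ, hρ⟩ := Module.Finite.exists_fin' B G
  rw [finitePresentation_localizedModule_iff TB ρ hρ]
  have hρA : Function.Surjective (ρ.restrictScalars A) := hρ
  rw [finitePresentation_localizedModule_iff TA (ρ.restrictScalars A) hρA,
    LinearMap.ker_restrictScalars] at hA
  exact locFG_of_algebraMap_mem TA TB _ h hA

theorem fp_ring_of_exists_mul (TA : Submonoid A) (TB : Submonoid B)
    (h : ∀ s ∈ TB, ∃ c : B, ∃ t ∈ TA, s * c = algebraMap A B t)
    (hB : Module.FinitePresentation (Localization TB) (LocalizedModule TB G)) :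
    Module.FinitePresentation (Localization TA) (LocalizedModule TA G) := by
  obtain ⟨n, ρ, hρ⟩ := Module.Finite.exists_fin' B G
  rw [finitePresentation_localizedModule_iff TB ρ hρ] at hB
  have hρA : Function.Surjective (ρ.restrictScalars A) := hρ
  rw [finitePresentation_localizedModule_iff TA (ρ.restrictScalars A) hρA,
    LinearMap.ker_restrictScalars]
  exact locFG_restrictScalars_of_exists_mul TA TB _ h hB

end Ring

end Groth.Agent.Lib.Helper15.FPL
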