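import Mathlib
import Groth.Prelude.Def_FlatCA
import Groth.Agent.Lib.Helper15.FP3
import Groth.Agent.Lib.Helper15.ED3

/-!
# S1251 in abstract form: finite presentation along an elementary dévissage
-/

set_option autoImplicit false
set_option linter.style.haveILetI false
set_option linter.unusedSectionVars false
set_option linter.style.longLine false
set_option linter.unusedVariables false

universe u

namespace Groth.Agent.Lib.Helper15.FPL

open TensorProduct

section PartA

theorem finitePresentation_DC {R S R' S' C D : Type u} [CommRing R] [CommRing S] [CommRing R']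
    [CommRing S'] [CommRing C] [CommRing D]
    [Algebra R S] [Algebra R R'] [Algebra S S'] [Algebra R' S'] [Algebra R S']
    [IsScalarTower R R' S'] [IsScalarTower R S S']
    [Algebra S' C] [Algebra D C] [Algebra R' D] [Algebra R' C] [IsScalarTower R' D C]
    [IsScalarTower R' S' C]
    [Algebra.FinitePresentation R S] [Algebra.FiniteType R R'] [Algebra.FinitePresentation S S']
    [Algebra.FinitePresentation S' C] [Algebra.FiniteType R' D] :
    Algebra.FinitePresentation D C := by
  haveI h1 : Algebra.FinitePresentation R S' := Algebra.FinitePresentation.trans (R := R) (A := S) (B := S')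
  haveI h2 : Algebra.FinitePresentation R' S' :=
    Algebra.FinitePresentation.of_restrict_scalars_finitePresentation (R := R) (A := R') (B := S')
  haveI h3 : Algebra.FinitePresentation R' C := Algebra.FinitePresentation.trans (R := R') (A := S') (B := C)
  exact Algebra.FinitePresentation.of_restrict_scalars_finitePresentation (R := R') (A := D) (B := C)

end PartA

theorem notMem_of_liesOver {A B : Type u} [CommRing A] [CommRing B] [Algebra A B] (p : Ideal A)
    (P : Ideal B) [P.LiesOver p] {t : A} (ht : t ∉ p) : algebraMap A B t ∉ P := by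
  intro h
  apply ht
  rw [Ideal.LiesOver.over (p := p) (P := P), Ideal.under_def, Ideal.mem_comap]
  exact h

section Main

variable {S S' C D : Type u} [CommRing S] [CommRing S'] [CommRing C] [CommRing D]
  [Algebra S S'] [Algebra S' C] [Algebra D C]
  {N : Type u} [AddCommGroup N] [Module S N] [Module.Finite S N]
  {N' : Type u} [AddCommGroup N'] [Module S' N'] [Module S N'] [IsScalarTower S S' N']
  {G : Type u} [AddCommGroup G] [Module C G] [Module S' G] [IsScalarTower S' C G] [Module D G]
  [IsScalarTower D C G] [Module.Finite C G]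
  [Module.Flat S S'] [Algebra.FinitePresentation S S']
  [Algebra.FinitePresentation S' C] [Algebra.FinitePresentation D C]
  (q : Ideal S) [q.IsPrime] (q' : Ideal S') [q'.IsPrime] (z : Ideal C) [z.IsPrime]
  (y : Ideal D) [y.IsPrime] [q'.LiesOver q] [z.LiesOver q'] [z.LiesOver y]
  (φ : N →ₗ[S] N') (hφ : IsBaseChange S' φ) (surjC : Function.Surjective (algebraMap S' C))
  (iso : N' ≃ₗ[S'] G) [Module.Finite D C]
  (uniq : ∀ (z₁ : Ideal C) [z₁.IsPrime], z₁.LiesOver y → z₁ = z)

include φ hφ iso surjC in
/-- `N` at `T ⊆ S` to `G` at `TC ⊆ C` -/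
theorem fp_G_of_fp_N (T : Submonoid S) (T' : Submonoid S') (TC : Submonoid C)
    (hT : ∀ t ∈ T, algebraMap S S' t ∈ T') (hT' : ∀ t ∈ T', algebraMap S' C t ∈ TC)
    (h : Module.FinitePresentation (Localization T) (LocalizedModule T N)) :
    Module.FinitePresentation (Localization TC) (LocalizedModule TC G) := by
  haveI : Module.Finite S' C := Module.Finite.of_surjective (Algebra.linearMap S' C) surjC
  haveI : Module.FinitePresentation S' C := Module.FinitePresentation.of_finite_of_finitePresentation S' C
  have h1 := fp_baseChange_of_fp (S' := S') T T' hT h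
  have h2 := (fp_localizedModule_congr T' hφ.equiv).mp h1
  have h3 := (fp_localizedModule_congr T' iso).mp h2
  exact fp_ring_of_algebraMap_mem (A := S') (B := C) T' TC hT' h3

include φ hφ iso surjC in
/-- `G` at `TC ⊆ C` to the base change of `N` at `T' ⊆ S'` -/
theorem fp_bc_of_fp_G (T' : Submonoid S') (TC : Submonoid C)
    (hT' : ∀ s ∈ TC, ∃ c : C, ∃ t ∈ T', s * c = algebraMap S' C t)
    (h : Module.FinitePresentation (Localization TC) (LocalizedModule TC G)) :
    Module.FinitePresentation (Localization T') (LocalizedModule T' (S' ⊗[S] N)) := by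
  haveI : Module.Finite S' C := Module.Finite.of_surjective (Algebra.linearMap S' C) surjC
  haveI : Module.FinitePresentation S' C := Module.FinitePresentation.of_finite_of_finitePresentation S' C
  have h3 := fp_ring_of_exists_mul (A := S') (B := C) T' TC hT' h
  have h2 := (fp_localizedModule_congr T' iso).mpr h3
  exact (fp_localizedModule_congr T' hφ.equiv).mpr h2

include q' φ hφ surjC iso uniq in
theorem main1251_abs :
    [Module.FinitePresentation (Localization.AtPrime q) (LocalizedModule q.primeCompl N),
     Module.FinitePresentation (Localization.AtPrime z) (LocalizedModule z.primeCompl G),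
     Module.FinitePresentation (Localization.AtPrime y) (LocalizedModule y.primeCompl G)].TFAE ∧
    [∃ g : S, g ∉ q ∧ Module.FinitePresentation (Localization.Away g) (LocalizedModule (Submonoid.powers g) N),
     ∃ g : C, g ∉ z ∧ Module.FinitePresentation (Localization.Away g) (LocalizedModule (Submonoid.powers g) G),
     ∃ g : D, g ∉ y ∧ Module.FinitePresentation (Localization.Away g) (LocalizedModule (Submonoid.powers g) G)].TFAE := by
  haveI : Algebra.IsIntegral D C := inferInstance
  haveI : Module.FinitePresentation D C := Module.FinitePresentation.of_finite_of_finitePresentation D C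
  have hsat := ED.exists_mul_eq_algebraMap y z uniq
  have hqq' : q.map (algebraMap S S') ≤ q' := by
    rw [Ideal.map_le_iff_le_comap, Ideal.LiesOver.over (p := q) (P := q'), Ideal.under_def]
  constructor
  · tfae_have 1 → 2 := fun h =>
      fp_G_of_fp_N φ hφ surjC iso q.primeCompl q'.primeCompl z.primeCompl
        (fun t ht => notMem_of_liesOver q q' ht) (fun t ht => notMem_of_liesOver q' z ht) h
    tfae_have 2 → 1 := by
      intro h
      have h' := fp_bc_of_fp_G (N := N) φ hφ surjC iso q'.primeCompl z.primeCompl (by
          intro s hs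
          obtain ⟨t, rfl⟩ := surjC s
          refine ⟨1, t, ?_, mul_one _⟩
          intro ht
          apply hs
          have ht' : t ∈ q' := ht
          rw [Ideal.LiesOver.over (p := q') (P := z), Ideal.under_def] at ht'
          exact ht') h
      refine fp_of_fp_baseChange q.primeCompl q'.primeCompl ?_ h'
      intro W _ _ w t' ht' htw
      exact ED.exists_smul_eq_zero_of_tmul_eq_zero q q' hqq' w t' ht' htw
    tfae_have 2 → 3 := fun h =>
      fp_ring_of_exists_mul (A := D) (B := C) y.primeCompl z.primeCompl
        (fun s hs => hsat s hs) h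
    tfae_have 3 → 2 := fun h =>
      fp_ring_of_algebraMap_mem (A := D) (B := C) y.primeCompl z.primeCompl
        (fun t ht => notMem_of_liesOver y z ht) h
    tfae_finish
  · tfae_have 1 → 2 := by
      rintro ⟨g, hg, h⟩
      refine ⟨algebraMap S' C (algebraMap S S' g), notMem_of_liesOver q' z (notMem_of_liesOver q q' hg), ?_⟩
      refine fp_G_of_fp_N φ hφ surjC iso (Submonoid.powers g) (Submonoid.powers (algebraMap S S' g))
        (Submonoid.powers (algebraMap S' C (algebraMap S S' g))) ?_ ?_ h
      · rintro _ ⟨n, rfl⟩
        exact ⟨n, by rw [map_pow]⟩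
      · rintro _ ⟨n, rfl⟩
        exact ⟨n, by rw [map_pow]⟩
    tfae_have 2 → 1 := by
      rintro ⟨g', hg', h⟩
      obtain ⟨s', rfl⟩ := surjC g'
      have hs' : s' ∉ q' := by
        intro hc
        apply hg'
        rw [Ideal.LiesOver.over (p := q') (P := z), Ideal.under_def, Ideal.mem_comap] at hc
        exact hc
      have h' := fp_bc_of_fp_G (N := N) φ hφ surjC iso (Submonoid.powers s')
          (Submonoid.powers (algebraMap S' C s')) (by
          rintro _ ⟨n, rfl⟩
          exact ⟨1, s' ^ n, ⟨n, rfl⟩, by simp⟩) h
      haveI : Algebra.HasGoingDown S S' := Algebra.HasGoingDown.of_flat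
      have hopen := PrimeSpectrum.isOpenMap_comap_of_hasGoingDown_of_finitePresentation
        (R := S) (S := S') _ (PrimeSpectrum.basicOpen s').isOpen
      have hmem : (⟨q, inferInstance⟩ : PrimeSpectrum S) ∈
          PrimeSpectrum.comap (algebraMap S S') '' (PrimeSpectrum.basicOpen s' : Set (PrimeSpectrum S')) := by
        refine ⟨⟨q', inferInstance⟩, hs', ?_⟩
        apply PrimeSpectrum.ext
        exact (Ideal.LiesOver.over (p := q) (P := q')).symm
      obtain ⟨_, ⟨g, rfl⟩, hgq, hgsub⟩ :=
        PrimeSpectrum.isTopologicalBasis_basic_opens.exists_subset_of_mem_open hmem hopen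
      refine ⟨g, hgq, fp_of_fp_baseChange (Submonoid.powers g) (Submonoid.powers s') ?_ h'⟩
      rintro W _ _ w _ ⟨n, rfl⟩ htw
      obtain ⟨l, hl⟩ := FB.exists_pow_smul_eq_zero (S := S) (W := W) g w (by
        intro P _ hgP
        have h1 : (⟨P, inferInstance⟩ : PrimeSpectrum S) ∈
            (PrimeSpectrum.basicOpen g : Set (PrimeSpectrum S)) := hgP
        obtain ⟨P', hP', hP'eq⟩ := hgsub h1
        have h2 : P'.asIdeal.comap (algebraMap S S') = P := congrArg PrimeSpectrum.asIdeal hP'eq
        have h3 : s' ^ n ∉ P'.asIdeal := fun hc => hP' (P'.2.mem_of_pow_mem n hc)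
        exact ED.exists_smul_eq_zero_of_tmul_eq_zero P P'.asIdeal
          (by rw [Ideal.map_le_iff_le_comap, h2]) w (s' ^ n) h3 htw)
      exact ⟨_, ⟨l, rfl⟩, hl⟩
    tfae_have 2 → 3 := by
      rintro ⟨g', hg', h⟩
      obtain ⟨c, t, ht, hct⟩ := hsat g' hg'
      refine ⟨t, ht, ?_⟩
      refine fp_ring_of_exists_mul (A := D) (B := C) (Submonoid.powers t)
        (Submonoid.powers g') ?_ h
      rintro _ ⟨n, rfl⟩
      exact ⟨c ^ n, t ^ n, ⟨n, rfl⟩, by rw [← mul_pow, hct, map_pow]⟩
    tfae_have 3 → 2 := by
      rintro ⟨g, hg, h⟩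
      refine ⟨algebraMap D C g, notMem_of_liesOver y z hg, ?_⟩
      refine fp_ring_of_algebraMap_mem (A := D) (B := C) (Submonoid.powers g)
        (Submonoid.powers (algebraMap D C g)) ?_ h
      rintro _ ⟨n, rfl⟩
      exact ⟨n, by rw [map_pow]⟩
    tfae_finish

end Main

end Groth.Agent.Lib.Helper15.FPL

namespace Groth.Agent.Lib.Helper15.FPL

open AlgebraicGeometry in
theorem finitePresentation_of_smoothRelDim {A B : Type u} [CommRing A] [CommRing B] [Algebra A B]
    (n : ℕ) (h : FlatCA.SmoothRelDim n A B) : Algebra.FinitePresentation A B := by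
  haveI : SmoothOfRelativeDimension n (Spec.map (CommRingCat.ofHom (algebraMap A B))) := h
  haveI : Smooth (Spec.map (CommRingCat.ofHom (algebraMap A B))) :=
    SmoothOfRelativeDimension.smooth n _
  have hlfp : LocallyOfFinitePresentation (Spec.map (CommRingCat.ofHom (algebraMap A B))) :=
    inferInstance
  rw [HasRingHomProperty.Spec_iff (P := @LocallyOfFinitePresentation)] at hlfp
  exact RingHom.finitePresentation_algebraMap.mp hlfp

end Groth.Agent.Lib.Helper15.FPL
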