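import Mathlib

set_option autoImplicit false

/-! Every module is a directed colimit of finitely presented modules: explicit presentation. -/

namespace Groth.Agent.Lib.Helper15.FPC1

universe u

open Classical

noncomputable section

variable (A : Type u) [CommRing A] (M : Type u) [AddCommGroup M] [Module A M]

/-- canonical surjection from the free module on the underlying set -/
def eps : (M →₀ A) →ₗ[A] M := Finsupp.linearCombination A (id : M → M)

lemma eps_single (m : M) (a : A) : eps A M (Finsupp.single m a) = a • m := by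
  simp [eps]

structure Idx where
  S : Finset M
  T : Finset (M →₀ A)
  hK : ∀ t ∈ T, eps A M t = 0
  hS : ∀ t ∈ T, t ∈ Finsupp.supported A A (S : Set M)

instance : Preorder (Idx A M) where
  le i j := i.S ⊆ j.S ∧ i.T ⊆ j.T
  le_refl i := ⟨subset_rfl, subset_rfl⟩
  le_trans i j k h1 h2 := ⟨h1.1.trans h2.1, h1.2.trans h2.2⟩

variable {A M}

lemma Idx.le_def {i j : Idx A M} : i ≤ j ↔ i.S ⊆ j.S ∧ i.T ⊆ j.T := Iff.rfl

def Idx.sup (i j : Idx A M) : Idx A M where
  S := i.S ∪ j.S
  T := i.T ∪ j.T
  hK := by
    intro t ht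
    rcases Finset.mem_union.mp ht with h | h
    · exact i.hK t h
    · exact j.hK t h
  hS := by
    intro t ht
    rcases Finset.mem_union.mp ht with h | h
    · exact Finsupp.supported_mono (by simp) (i.hS t h)
    · exact Finsupp.supported_mono (by simp) (j.hS t h)

lemma Idx.le_sup_left (i j : Idx A M) : i ≤ i.sup j :=
  ⟨Finset.subset_union_left, Finset.subset_union_left⟩

lemma Idx.le_sup_right (i j : Idx A M) : j ≤ i.sup j :=
  ⟨Finset.subset_union_right, Finset.subset_union_right⟩

instance : IsDirected (Idx A M) (· ≤ ·) :=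
  ⟨fun i j => ⟨i.sup j, i.le_sup_left j, i.le_sup_right j⟩⟩

instance : Nonempty (Idx A M) := ⟨⟨∅, ∅, by simp, by simp⟩⟩

variable (A M)

abbrev W (i : Idx A M) : Submodule A (M →₀ A) := Finsupp.supported A A (i.S : Set M)

instance instACGW (i : Idx A M) : AddCommGroup ↥(W A M i) := inferInstance

def N (i : Idx A M) : Submodule A (W A M i) :=
  (Submodule.span A (i.T : Set (M →₀ A))).comap (W A M i).subtype

abbrev D (i : Idx A M) : Type u := (W A M i) ⧸ (N A M i)

variable {A M}

lemma mem_N {i : Idx A M} (w : W A M i) :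
    w ∈ N A M i ↔ (w : M →₀ A) ∈ Submodule.span A (i.T : Set (M →₀ A)) := Iff.rfl

lemma span_T_le_ker (i : Idx A M) :
    Submodule.span A (i.T : Set (M →₀ A)) ≤ LinearMap.ker (eps A M) :=
  Submodule.span_le.mpr (fun t ht => i.hK t ht)

lemma span_T_le_W (i : Idx A M) :
    Submodule.span A (i.T : Set (M →₀ A)) ≤ W A M i :=
  Submodule.span_le.mpr (fun t ht => i.hS t ht)

lemma W_mono {i j : Idx A M} (h : i ≤ j) : W A M i ≤ W A M j :=
  Finsupp.supported_mono (by exact_mod_cast h.1)

def trans {i j : Idx A M} (h : i ≤ j) : D A M i →ₗ[A] D A M j :=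
  Submodule.mapQ (N A M i) (N A M j) (Submodule.inclusion (W_mono h)) (by
    intro w hw
    rw [Submodule.mem_comap, mem_N]
    rw [mem_N] at hw
    exact Submodule.span_mono (by exact_mod_cast h.2) hw)

@[simp] lemma trans_mk {i j : Idx A M} (h : i ≤ j) (w : W A M i) :
    trans h (Submodule.Quotient.mk w) = Submodule.Quotient.mk (Submodule.inclusion (W_mono h) w) :=
  rfl

def toM (i : Idx A M) : D A M i →ₗ[A] M :=
  Submodule.liftQ (N A M i) ((eps A M).comp (W A M i).subtype) (by
    intro w hw
    rw [mem_N] at hw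
    exact span_T_le_ker i hw)

@[simp] lemma toM_mk (i : Idx A M) (w : W A M i) :
    toM i (Submodule.Quotient.mk w) = eps A M (w : M →₀ A) := rfl

lemma toM_trans {i j : Idx A M} (h : i ≤ j) : (toM j).comp (trans h) = toM i := by
  apply Submodule.linearMap_qext
  ext w
  rfl

lemma trans_refl (i : Idx A M) : trans (le_refl i) = LinearMap.id := by
  apply Submodule.linearMap_qext
  ext w
  rfl

lemma trans_trans {i j k : Idx A M} (h1 : i ≤ j) (h2 : j ≤ k) :
    (trans h2).comp (trans h1) = trans (h1.trans h2) := by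
  apply Submodule.linearMap_qext
  ext w
  rfl

instance (i : Idx A M) : Module.FinitePresentation A (D A M i) := by
  haveI : Module.Free A (W A M i) :=
    Module.Free.of_equiv (Finsupp.supportedEquivFinsupp (M := A) (R := A) (i.S : Set M)).symm
  haveI : Module.Finite A (W A M i) :=
    Module.Finite.equiv (Finsupp.supportedEquivFinsupp (M := A) (R := A) (i.S : Set M)).symm
  apply Module.finitePresentation_of_free_of_surjective (N A M i).mkQ (Submodule.mkQ_surjective _)
  rw [Submodule.ker_mkQ]
  apply Submodule.fg_of_fg_map_injective (W A M i).subtype (Submodule.subtype_injective _)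
  have : (N A M i).map (W A M i).subtype = Submodule.span A (i.T : Set (M →₀ A)) := by
    rw [N, Submodule.map_comap_eq, Submodule.range_subtype]
    exact inf_eq_right.mpr (span_T_le_W i)
  rw [this]
  exact Submodule.fg_span (Finset.finite_toSet _)

/-- index with one generator and no relations -/
def idx1 (m : M) : Idx A M := ⟨{m}, ∅, by simp, by simp⟩

lemma single_mem_W {i : Idx A M} {m : M} (hm : m ∈ i.S) (a : A) :
    Finsupp.single m a ∈ W A M i :=
  Finsupp.single_mem_supported A a (by exact_mod_cast hm)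

def cls (m : M) : D A M (idx1 (A := A) m) :=
  Submodule.Quotient.mk ⟨Finsupp.single m 1, single_mem_W (by simp [idx1]) 1⟩

lemma toM_cls (m : M) : toM (idx1 (A := A) m) (cls m) = m := by
  simp [cls, eps_single]

lemma idx1_le {i : Idx A M} {m : M} (hm : m ∈ i.S) : idx1 (A := A) m ≤ i :=
  ⟨by simpa [idx1] using hm, by simp [idx1]⟩

/-- index killing a given relation -/
def idxK (y : M →₀ A) (hy : eps A M y = 0) : Idx A M :=
  ⟨y.support, {y}, by simpa using hy, by
    intro t ht
    rw [Finset.mem_singleton] at ht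
    subst ht
    rw [Finsupp.mem_supported]⟩

lemma mem_W_idxK (y : M →₀ A) (hy : eps A M y = 0) : y ∈ W A M (idxK y hy) := by
  rw [Finsupp.mem_supported]; rfl

lemma mk_idxK (y : M →₀ A) (hy : eps A M y = 0) :
    (Submodule.Quotient.mk ⟨y, mem_W_idxK y hy⟩ : D A M (idxK y hy)) = 0 := by
  rw [Submodule.Quotient.mk_eq_zero, mem_N]
  exact Submodule.subset_span (by simp [idxK])

end

end Groth.Agent.Lib.Helper15.FPC1
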