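import Mathlib
import Groth.Agent.Lib.Helper15.FPC1

set_option autoImplicit false

/-! Universal property of the presentation and factorisation of maps from f.p. modules. -/

namespace Groth.Agent.Lib.Helper15.FPC2

open Groth.Agent.Lib.Helper15.FPC1

universe u

open Classical

noncomputable section

variable {A : Type u} [CommRing A] {M : Type u} [AddCommGroup M] [Module A M]

section Desc

variable {X : Type u} [AddCommGroup X] [Module A X] (g : ∀ i : Idx A M, D A M i →ₗ[A] X)
  (hg : ∀ (i j : Idx A M) (h : i ≤ j), (g j).comp (trans h) = g i)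

/-- the candidate map on the free module -/
def psi : (M →₀ A) →ₗ[A] X :=
  Finsupp.linearCombination A (fun m => g (idx1 m) (cls m))

lemma psi_single (m : M) (a : A) : psi g (Finsupp.single m a) = a • g (idx1 m) (cls m) := by
  simp [psi]

include hg in
lemma psi_eq (i : Idx A M) (w : W A M i) : psi g (w : M →₀ A) = g i (Submodule.Quotient.mk w) := by
  let e := Finsupp.supportedEquivFinsupp (M := A) (R := A) (i.S : Set M)
  have key : ((psi g).comp (W A M i).subtype).comp e.symm.toLinearMap =
      ((g i).comp (N A M i).mkQ).comp e.symm.toLinearMap := by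
    apply Finsupp.lhom_ext
    rintro ⟨m, hm⟩ a
    have hm' : m ∈ i.S := by exact_mod_cast hm
    have h1 : ((e.symm (Finsupp.single ⟨m, hm⟩ a) : W A M i) : M →₀ A) = Finsupp.single m a :=
      Finsupp.supportedEquivFinsupp_symm_single _ _ _
    have h2 : (e.symm (Finsupp.single ⟨m, hm⟩ a) : W A M i) =
        a • Submodule.inclusion (W_mono (idx1_le hm'))
          ⟨Finsupp.single m 1, single_mem_W (by simp [idx1]) 1⟩ := by
      apply Subtype.ext
      rw [h1]
      simp
    simp only [LinearMap.comp_apply, LinearEquiv.coe_coe, Submodule.subtype_apply,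
      Submodule.mkQ_apply]
    rw [h1, psi_single, h2, Submodule.Quotient.mk_smul, map_smul]
    congr 1
    have := hg (idx1 m) i (idx1_le hm')
    rw [← this]
    rfl
  have := congrArg (fun f => f (e w)) key
  simpa using this

include hg in
lemma psi_ker (y : M →₀ A) (hy : eps A M y = 0) : psi g y = 0 := by
  have := psi_eq g hg (idxK y hy) ⟨y, mem_W_idxK y hy⟩
  rw [mk_idxK, map_zero] at this
  exact this

include hg in
lemma psi_congr (y z : M →₀ A) (h : eps A M y = eps A M z) : psi g y = psi g z := by
  have := psi_ker g hg (y - z) (by rw [map_sub, h, sub_self])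
  rw [map_sub, sub_eq_zero] at this
  exact this

/-- the induced map on `M` -/
def desc : M →ₗ[A] X where
  toFun m := psi g (Finsupp.single m 1)
  map_add' m m' := by
    rw [← map_add]
    apply psi_congr g hg
    simp [eps_single]
  map_smul' a m := by
    rw [RingHom.id_apply, ← map_smul]
    apply psi_congr g hg
    simp [eps_single]

lemma desc_eps (y : M →₀ A) : desc g hg (eps A M y) = psi g y := by
  show psi g (Finsupp.single (eps A M y) 1) = psi g y
  apply psi_congr g hg
  simp [eps_single]

lemma desc_toM (i : Idx A M) : (desc g hg).comp (toM i) = g i := by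
  apply Submodule.linearMap_qext
  ext w
  show desc g hg (eps A M (w : M →₀ A)) = g i (Submodule.Quotient.mk w)
  rw [desc_eps, psi_eq g hg]

include hg in
lemma desc_unique (φ : M →ₗ[A] X) (hφ : ∀ i, φ.comp (toM i) = g i) : φ = desc g hg := by
  ext m
  have h1 : φ m = g (idx1 m) (cls m) := by
    rw [← hφ (idx1 m), LinearMap.comp_apply, toM_cls]
  rw [h1]
  show _ = psi g (Finsupp.single m 1)
  rw [psi_single, one_smul]

end Desc



end

end Groth.Agent.Lib.Helper15.FPC2
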