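import Mathlib
import Groth.Agent.Lib.Helper15.FPC2

set_option autoImplicit false

namespace Groth.Agent.Lib.Helper15.FPC3

open Groth.Agent.Lib.Helper15.FPC1 Groth.Agent.Lib.Helper15.FPC2

universe u

open Classical

noncomputable section

variable {A : Type u} [CommRing A] {M : Type u} [AddCommGroup M] [Module A M]

section Factor

variable {P : Type u} [AddCommGroup P] [Module A P]
variable (s : Finset P) (G : Finset (s →₀ A)) (h : P →ₗ[A] M)

def fS : (s →₀ A) →ₗ[A] P := Finsupp.linearCombination A ((↑) : s → P)

def ell : (s →₀ A) →ₗ[A] (M →₀ A) := Finsupp.lmapDomain A A (fun p : s => h p)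

lemma eps_ell (v : s →₀ A) : eps A M (ell s h v) = h (fS s v) := by
  have : (eps A M).comp (ell s h) = h.comp (fS s) := by
    apply Finsupp.lhom_ext
    intro p a
    simp [ell, fS, eps_single]
  exact congrArg (fun φ => φ v) this

def SS : Finset M := Finset.univ.image (fun p : s => h p)

lemma ell_mem (v : s →₀ A) : ell s h v ∈ Finsupp.supported A A (SS s h : Set M) := by
  rw [Finsupp.mem_supported]
  intro m hm
  have := Finsupp.mapDomain_support hm
  rw [Finset.mem_image] at this
  obtain ⟨p, _, rfl⟩ := this
  rw [Finset.mem_coe, SS, Finset.mem_image]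
  exact ⟨p, Finset.mem_univ _, rfl⟩

def TT : Finset (M →₀ A) := G.image (ell s h)

variable (hG : ∀ v ∈ G, fS s v = 0)

def idxF : Idx A M where
  S := SS s h
  T := TT s G h
  hK := by
    intro t ht
    obtain ⟨v, hv, rfl⟩ := Finset.mem_image.mp ht
    rw [eps_ell, hG v hv, map_zero]
  hS := by
    intro t ht
    obtain ⟨v, _, rfl⟩ := Finset.mem_image.mp ht
    exact ell_mem s h v

def ellW : (s →₀ A) →ₗ[A] W A M (idxF s G h hG) :=
  (ell s h).codRestrict (W A M (idxF s G h hG)) (ell_mem s h)

def ell' : (s →₀ A) →ₗ[A] D A M (idxF s G h hG) :=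
  (N A M (idxF s G h hG)).mkQ.comp (ellW s G h hG)

lemma ell'_G (v : s →₀ A) (hv : v ∈ G) : ell' s G h hG v = 0 := by
  unfold ell'
  rw [LinearMap.comp_apply, Submodule.mkQ_apply, Submodule.Quotient.mk_eq_zero, mem_N]
  apply Submodule.subset_span
  exact Finset.mem_image_of_mem (ell s h) hv

lemma toM_ell' (v : s →₀ A) : toM (idxF s G h hG) (ell' s G h hG v) = h (fS s v) := by
  unfold ell'
  rw [LinearMap.comp_apply, Submodule.mkQ_apply, toM_mk]
  exact eps_ell s h v

end Factor

theorem exists_factor {P : Type u} [AddCommGroup P] [Module A P] [Module.FinitePresentation A P]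
    (h : P →ₗ[A] M) :
    ∃ (i : Idx A M) (h' : P →ₗ[A] D A M i), (toM i).comp h' = h := by
  obtain ⟨s, hs, hker⟩ := (inferInstance : Module.FinitePresentation A P).out
  obtain ⟨G, hG⟩ := hker
  have hf : Function.Surjective (fS (A := A) s) := by
    rw [← LinearMap.range_eq_top]
    unfold fS
    rw [Finsupp.range_linearCombination]
    simpa using hs
  have hG0 : ∀ v ∈ G, fS (A := A) s v = 0 := by
    intro v hv
    have : v ∈ LinearMap.ker (fS (A := A) s) := by
      unfold fS
      rw [← hG]; exact Submodule.subset_span hv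
    exact this
  have hker : LinearMap.ker (fS (A := A) s) ≤ LinearMap.ker (ell' s G h hG0) := by
    have : LinearMap.ker (fS (A := A) s) = Submodule.span A (G : Set (s →₀ A)) := by
      unfold fS; exact hG.symm
    rw [this, Submodule.span_le]
    intro v hv
    exact ell'_G s G h hG0 v hv
  have hcongr : ∀ v w, fS (A := A) s v = fS s w → ell' s G h hG0 v = ell' s G h hG0 w := by
    intro v w hvw
    have : v - w ∈ LinearMap.ker (fS (A := A) s) := by
      rw [LinearMap.mem_ker, map_sub, hvw, sub_self]
    have := hker this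
    rw [LinearMap.mem_ker, map_sub, sub_eq_zero] at this
    exact this
  let h' : P →ₗ[A] D A M (idxF s G h hG0) :=
    { toFun := fun p => ell' s G h hG0 (Function.surjInv hf p)
      map_add' := by
        intro p q
        rw [← map_add]
        apply hcongr
        rw [map_add, Function.surjInv_eq hf, Function.surjInv_eq hf, Function.surjInv_eq hf]
      map_smul' := by
        intro a p
        rw [RingHom.id_apply, ← map_smul]
        apply hcongr
        rw [map_smul, Function.surjInv_eq hf, Function.surjInv_eq hf] }
  refine ⟨idxF s G h hG0, h', ?_⟩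
  apply LinearMap.ext
  intro p
  show toM _ (ell' s G h hG0 (Function.surjInv hf p)) = h p
  rw [toM_ell', Function.surjInv_eq hf]

end

end Groth.Agent.Lib.Helper15.FPC3
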