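import Mathlib
import Groth.Agent.Lib.Helper15.FPC3

set_option autoImplicit false

namespace Groth.Agent.Lib.Helper15.FPC4

open Groth.Agent.Lib.Helper15.FPC1 Groth.Agent.Lib.Helper15.FPC2 Groth.Agent.Lib.Helper15.FPC3

universe u v' u'

open CategoryTheory CategoryTheory.Limits

noncomputable section

variable (A : Type u) [CommRing A]

/-- the diagram of finitely presented modules -/
def diag (M : ModuleCat.{u} A) : Idx A M ⥤ ModuleCat.{u} A where
  obj i := ModuleCat.of A (D A M i)
  map {i j} h := ModuleCat.ofHom (trans (leOfHom h))
  map_id i := by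
    apply ModuleCat.hom_ext
    exact trans_refl i
  map_comp {i j k} f g := by
    apply ModuleCat.hom_ext
    exact (trans_trans (leOfHom f) (leOfHom g)).symm

def cocone (M : ModuleCat.{u} A) : Cocone (diag A M) where
  pt := M
  ι :=
    { app := fun i => ModuleCat.ofHom (toM i)
      naturality := by
        intro i j f
        apply ModuleCat.hom_ext
        simp only [Functor.const_obj_obj, Functor.const_obj_map, Category.comp_id]
        exact toM_trans (leOfHom f) }

def gs (M : ModuleCat.{u} A) (s : Cocone (diag A M)) (i : Idx A M) : D A M i →ₗ[A] s.pt :=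
  (s.ι.app i).hom

lemma compat (M : ModuleCat.{u} A) (s : Cocone (diag A M)) (i j : Idx A M) (h : i ≤ j) :
    (gs A M s j).comp (trans h) = gs A M s i := by
  have h2 := congrArg ModuleCat.Hom.hom (s.w (homOfLE h))
  exact h2

def isColimit (M : ModuleCat.{u} A) : IsColimit (cocone A M) where
  desc s := ModuleCat.ofHom (desc (gs A M s) (compat A M s))
  fac s i := by
    apply ModuleCat.hom_ext
    exact desc_toM (gs A M s) (compat A M s) i
  uniq s m hm := by
    apply ModuleCat.hom_ext
    apply desc_unique (gs A M s) (compat A M s) m.hom
    intro i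
    have := congrArg ModuleCat.Hom.hom (hm i)
    exact this

instance (M : ModuleCat.{u} A) (i : Idx A M) :
    Module.FinitePresentation A ((diag A M).obj i) :=
  inferInstanceAs (Module.FinitePresentation A (D A M i))

end

end Groth.Agent.Lib.Helper15.FPC4
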