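import Mathlib
import Groth.Agent.Lib.Helper15.FPC4

set_option autoImplicit false

namespace Groth.Agent.Lib.Helper15.FPC5

open Groth.Agent.Lib.Helper15.FPC1 Groth.Agent.Lib.Helper15.FPC2 Groth.Agent.Lib.Helper15.FPC3
  Groth.Agent.Lib.Helper15.FPC4

universe u v' u'

open CategoryTheory CategoryTheory.Limits

noncomputable section

variable (A : Type u) [CommRing A] {B : Type u'} [Category.{v'} B] [Preadditive B]
  (F' : ModuleCat.{u} A ⥤ B)

/-- cocone leg with a clean type -/
def cι (N : ModuleCat.{u} A) (k : Idx A N) : (diag A N).obj k ⟶ N := (cocone A N).ι.app k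

section Add

variable [(ObjectProperty.ι (fun M : ModuleCat.{u} A => Module.FinitePresentation A M) ⋙ F').Additive]

lemma map_add_fp_fp {M N : ModuleCat.{u} A} (hM : Module.FinitePresentation A M)
    (hN : Module.FinitePresentation A N) (f g : M ⟶ N) :
    F'.map (f + g) = F'.map f + F'.map g := by
  let P : ObjectProperty (ModuleCat.{u} A) := fun M => Module.FinitePresentation A M
  let Mo : P.FullSubcategory := ⟨M, hM⟩
  let No : P.FullSubcategory := ⟨N, hN⟩
  have := (P.ι ⋙ F').map_add (X := Mo) (Y := No) (f := P.homMk f) (g := P.homMk g)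
  exact this

lemma map_add_of_fp {M N : ModuleCat.{u} A} (hM : Module.FinitePresentation A M) (f g : M ⟶ N) :
    F'.map (f + g) = F'.map f + F'.map g := by
  obtain ⟨i, f', hf'⟩ := exists_factor f.hom
  obtain ⟨j, g', hg'⟩ := exists_factor g.hom
  let k := i.sup j
  let fk : M ⟶ (diag A N).obj k := ModuleCat.ofHom ((FPC1.trans (i.le_sup_left j)).comp f')
  let gk : M ⟶ (diag A N).obj k := ModuleCat.ofHom ((FPC1.trans (i.le_sup_right j)).comp g')
  have hfk : fk ≫ cι A N k = f := by
    apply ModuleCat.hom_ext
    show (toM k).comp ((FPC1.trans (i.le_sup_left j)).comp f') = f.hom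
    rw [← LinearMap.comp_assoc, toM_trans, hf']
  have hgk : gk ≫ cι A N k = g := by
    apply ModuleCat.hom_ext
    show (toM k).comp ((FPC1.trans (i.le_sup_right j)).comp g') = g.hom
    rw [← LinearMap.comp_assoc, toM_trans, hg']
  have hadd : F'.map (fk + gk) = F'.map fk + F'.map gk :=
    map_add_fp_fp A F' hM (inferInstance) fk gk
  rw [← hfk, ← hgk, ← Preadditive.add_comp, F'.map_comp, hadd, Preadditive.add_comp,
    ← F'.map_comp, ← F'.map_comp]

variable [PreservesFilteredColimitsOfSize.{u, u} F']

theorem additive : F'.Additive where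
  map_add {M N f g} := by
    haveI : PreservesColimitsOfShape (Idx A M) F' :=
      PreservesFilteredColimitsOfSize.preserves_filtered_colimits _
    have hc := isColimitOfPreserves F' (isColimit A M)
    apply hc.hom_ext
    intro i
    show F'.map (cι A M i) ≫ F'.map (f + g) =
      F'.map (cι A M i) ≫ (F'.map f + F'.map g)
    rw [← F'.map_comp, Preadditive.comp_add, Preadditive.comp_add, ← F'.map_comp, ← F'.map_comp,
      map_add_of_fp A F' (inferInstance)]

end Add

end

end Groth.Agent.Lib.Helper15.FPC5
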