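import Mathlib
import Groth.Agent.Lib.Helper15.FPC5

set_option autoImplicit false

/-! Additivity from an additivity hypothesis on f.p. modules given as a plain statement;
and additivity on f.p. modules from preservation of finite colimits. -/

namespace Groth.Agent.Lib.Helper15.FPC7

open Groth.Agent.Lib.Helper15.FPC1 Groth.Agent.Lib.Helper15.FPC2 Groth.Agent.Lib.Helper15.FPC3
  Groth.Agent.Lib.Helper15.FPC4 Groth.Agent.Lib.Helper15.FPC5

universe u v' u'

open CategoryTheory CategoryTheory.Limits

noncomputable section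

variable (A : Type u) [CommRing A] {B : Type u'} [Category.{v'} B] [Preadditive B]
  (F' : ModuleCat.{u} A ⥤ B)

section General

variable (hfp : ∀ {M N : ModuleCat.{u} A}, Module.FinitePresentation A M →
  Module.FinitePresentation A N → ∀ f g : M ⟶ N, F'.map (f + g) = F'.map f + F'.map g)

include hfp in
lemma map_add_of_fp' {M N : ModuleCat.{u} A} (hM : Module.FinitePresentation A M) (f g : M ⟶ N) :
    F'.map (f + g) = F'.map f + F'.map g := by
  obtain ⟨i, f', hf'⟩ := exists_factor f.hom
  obtain ⟨j, g', hg'⟩ := exists_factor g.hom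
  let k := i.sup j
  let fk : M ⟶ (diag A N).obj k := ModuleCat.ofHom ((FPC1.trans (i.le_sup_left j)).comp f')
  let gk : M ⟶ (diag A N).obj k := ModuleCat.ofHom ((FPC1.trans (i.le_sup_right j)).comp g')
  have hfk : fk ≫ cι A N k = f := by
    apply ModuleCat.hom_ext
    show (toM k).comp ((FPC1.trans (i.le_sup_left j)).comp f') = f.hom
    rw [← LinearMap.comp_assoc, toM_trans, hf']
  have hgk : gk ≫ cι A N k = g := by
    apply ModuleCat.hom_ext
    show (toM k).comp ((FPC1.trans (i.le_sup_right j)).comp g') = g.hom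
    rw [← LinearMap.comp_assoc, toM_trans, hg']
  have hadd : F'.map (fk + gk) = F'.map fk + F'.map gk := hfp hM (inferInstance) fk gk
  rw [← hfk, ← hgk, ← Preadditive.add_comp, F'.map_comp, hadd, Preadditive.add_comp,
    ← F'.map_comp, ← F'.map_comp]

include hfp in
theorem additive' [PreservesFilteredColimitsOfSize.{u, u} F'] : F'.Additive where
  map_add {M N f g} := by
    haveI : PreservesColimitsOfShape (Idx A M) F' :=
      PreservesFilteredColimitsOfSize.preserves_filtered_colimits _
    have hc := isColimitOfPreserves F' (isColimit A M)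
    apply hc.hom_ext
    intro i
    show F'.map (cι A M i) ≫ F'.map (f + g) =
      F'.map (cι A M i) ≫ (F'.map f + F'.map g)
    rw [← F'.map_comp, Preadditive.comp_add, Preadditive.comp_add, ← F'.map_comp, ← F'.map_comp,
      map_add_of_fp' A F' hfp (inferInstance)]

end General

section Aux

variable {A}
variable {M X : Type u} [AddCommGroup M] [Module A M] [AddCommGroup X] [Module A X]

lemma cop1 (a b : M →ₗ[A] X) (x : M) : LinearMap.coprod a b (x, 0) = a x := by simp

lemma cop2 (a b : M →ₗ[A] X) (x : M) : LinearMap.coprod a b (0, x) = b x := by simp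

lemma cop3 (m : (M × M) →ₗ[A] X) (a b : M →ₗ[A] X) (h1 : ∀ x, m (x, 0) = a x)
    (h2 : ∀ y, m (0, y) = b y) (x y : M) : m (x, y) = LinearMap.coprod a b (x, y) := by
  have : ((x, y) : M × M) = (x, 0) + (0, y) := by simp
  rw [this, map_add, h1, h2]
  simp

end Aux

section FromColimits

variable [PreservesFiniteColimits
  (ObjectProperty.ι (fun M : ModuleCat.{u} A => Module.FinitePresentation A M) ⋙ F')]

lemma map_zero_fp {M N : ModuleCat.{u} A} (hM : Module.FinitePresentation A M)
    (hN : Module.FinitePresentation A N) : F'.map (0 : M ⟶ N) = 0 := by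
  let Z : ObjectProperty (ModuleCat.{u} A) := fun M => Module.FinitePresentation A M
  let O : Z.FullSubcategory := ⟨ModuleCat.of A PUnit.{u+1}, (inferInstance :
    Module.FinitePresentation A PUnit.{u+1})⟩
  have hO : IsInitial O := IsInitial.ofUniqueHom (fun Y => Z.homMk 0) (by
    intro Y m
    apply ObjectProperty.hom_ext
    apply ModuleCat.hom_ext
    apply LinearMap.ext
    intro x
    have hx : x = 0 := Subsingleton.elim _ _
    rw [hx, map_zero, map_zero])
  have hGO : IsInitial ((Z.ι ⋙ F').obj O) := IsInitial.isInitialObj (Z.ι ⋙ F') O hO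
  have h1 : (0 : M ⟶ N) = (0 : M ⟶ O.obj) ≫ (0 : O.obj ⟶ N) := by simp
  have h2 : F'.map (0 : O.obj ⟶ N) = 0 := hGO.hom_ext _ _
  rw [h1, F'.map_comp, h2, comp_zero]

lemma map_add_fp_fp' {M N : ModuleCat.{u} A} (hM : Module.FinitePresentation A M)
    (hN : Module.FinitePresentation A N) (f g : M ⟶ N) :
    F'.map (f + g) = F'.map f + F'.map g := by
  let Z : ObjectProperty (ModuleCat.{u} A) := fun M => Module.FinitePresentation A M
  let MM : ModuleCat.{u} A := ModuleCat.of A (M × M)
  have hMM : Module.FinitePresentation A MM :=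
    (inferInstance : Module.FinitePresentation A (M × M))
  let inl : M ⟶ MM := ModuleCat.ofHom (LinearMap.inl A M M)
  let inr : M ⟶ MM := ModuleCat.ofHom (LinearMap.inr A M M)
  let fst : MM ⟶ M := ModuleCat.ofHom (LinearMap.fst A M M)
  let snd : MM ⟶ M := ModuleCat.ofHom (LinearMap.snd A M M)
  let dg : M ⟶ MM := ModuleCat.ofHom (LinearMap.prod LinearMap.id LinearMap.id)
  let cd : MM ⟶ N := ModuleCat.ofHom (LinearMap.coprod f.hom g.hom)
  have e1 : inl ≫ fst = 𝟙 M := by
    apply ModuleCat.hom_ext; apply LinearMap.ext; intro x; rfl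
  have e2 : inl ≫ snd = 0 := by
    apply ModuleCat.hom_ext; apply LinearMap.ext; intro x; rfl
  have e3 : inr ≫ fst = 0 := by
    apply ModuleCat.hom_ext; apply LinearMap.ext; intro x; rfl
  have e4 : inr ≫ snd = 𝟙 M := by
    apply ModuleCat.hom_ext; apply LinearMap.ext; intro x; rfl
  have e5 : dg ≫ fst = 𝟙 M := by
    apply ModuleCat.hom_ext; apply LinearMap.ext; intro x; rfl
  have e6 : dg ≫ snd = 𝟙 M := by
    apply ModuleCat.hom_ext; apply LinearMap.ext; intro x; rfl
  have e7 : inl ≫ cd = f := by
    apply ModuleCat.hom_ext; apply LinearMap.ext; intro x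
    show LinearMap.coprod f.hom g.hom (x, 0) = f.hom x
    simp
  have e8 : inr ≫ cd = g := by
    apply ModuleCat.hom_ext; apply LinearMap.ext; intro x
    show LinearMap.coprod f.hom g.hom (0, x) = g.hom x
    simp
  have e9 : f + g = dg ≫ cd := by
    apply ModuleCat.hom_ext; apply LinearMap.ext; intro x
    show f.hom x + g.hom x = LinearMap.coprod f.hom g.hom (x, x)
    simp
  -- the binary cofan in the full subcategory
  let Mo : Z.FullSubcategory := ⟨M, hM⟩
  let MMo : Z.FullSubcategory := ⟨MM, hMM⟩
  have hc : IsColimit (BinaryCofan.mk (Z.homMk inl : Mo ⟶ MMo) (Z.homMk inr : Mo ⟶ MMo)) :=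
    BinaryCofan.isColimitMk
      (fun s => Z.homMk (ModuleCat.ofHom (LinearMap.coprod s.inl.hom.hom s.inr.hom.hom)))
      (fun s => by
        apply ObjectProperty.hom_ext
        apply ModuleCat.hom_ext; apply LinearMap.ext; intro x
        exact cop1 _ _ x)
      (fun s => by
        apply ObjectProperty.hom_ext
        apply ModuleCat.hom_ext; apply LinearMap.ext; intro x
        exact cop2 _ _ x)
      (fun s m h1 h2 => by
        apply ObjectProperty.hom_ext
        apply ModuleCat.hom_ext; apply LinearMap.ext; rintro ⟨x, y⟩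
        refine cop3 _ _ _ ?_ ?_ x y
        · intro x
          rw [← h1]; rfl
        · intro y
          rw [← h2]; rfl)
  have hGc := isColimitOfPreserves (Z.ι ⋙ F') hc
  have hz := fun {X Y : ModuleCat.{u} A} (hX : Module.FinitePresentation A X)
    (hY : Module.FinitePresentation A Y) => map_zero_fp A F' hX hY
  have k1 : F'.map inl ≫ F'.map fst = 𝟙 _ := by rw [← F'.map_comp, e1, F'.map_id]
  have k2 : F'.map inl ≫ F'.map snd = 0 := by rw [← F'.map_comp, e2, hz hM hM]
  have k3 : F'.map inr ≫ F'.map fst = 0 := by rw [← F'.map_comp, e3, hz hM hM]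
  have k4 : F'.map inr ≫ F'.map snd = 𝟙 _ := by rw [← F'.map_comp, e4, F'.map_id]
  have k5 : F'.map dg ≫ F'.map fst = 𝟙 _ := by rw [← F'.map_comp, e5, F'.map_id]
  have k6 : F'.map dg ≫ F'.map snd = 𝟙 _ := by rw [← F'.map_comp, e6, F'.map_id]
  have hid : F'.map fst ≫ F'.map inl + F'.map snd ≫ F'.map inr = 𝟙 (F'.obj MM) := by
    apply hGc.hom_ext
    rintro ⟨_ | _⟩
    · show F'.map inl ≫ (F'.map fst ≫ F'.map inl + F'.map snd ≫ F'.map inr) =
        F'.map inl ≫ 𝟙 (F'.obj MM)
      rw [Preadditive.comp_add, reassoc_of% k1, reassoc_of% k2, zero_comp, add_zero,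
        Category.comp_id]
    · show F'.map inr ≫ (F'.map fst ≫ F'.map inl + F'.map snd ≫ F'.map inr) =
        F'.map inr ≫ 𝟙 (F'.obj MM)
      rw [Preadditive.comp_add, reassoc_of% k3, reassoc_of% k4, zero_comp, zero_add,
        Category.comp_id]
  have hdg : F'.map dg = F'.map inl + F'.map inr := by
    calc F'.map dg = F'.map dg ≫ 𝟙 _ := (Category.comp_id _).symm
      _ = F'.map dg ≫ (F'.map fst ≫ F'.map inl + F'.map snd ≫ F'.map inr) := by rw [hid]
      _ = F'.map inl + F'.map inr := by
        rw [Preadditive.comp_add, reassoc_of% k5, reassoc_of% k6]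
  rw [e9, F'.map_comp, hdg, Preadditive.add_comp, ← F'.map_comp, ← F'.map_comp, e7, e8]

end FromColimits

end

end Groth.Agent.Lib.Helper15.FPC7
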