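import Mathlib
import Groth.Agent.Lib.Helper15.FPC7

set_option autoImplicit false

/-! Right exactness on finitely presented modules, in elementary form. -/

namespace Groth.Agent.Lib.Helper15.FPC8

open Groth.Agent.Lib.Helper15.FPC7

universe u v' u'

open CategoryTheory CategoryTheory.Limits

noncomputable section

section Lin

variable {A : Type u} [CommRing A]
variable {P₀ P T : Type u} [AddCommGroup P₀] [Module A P₀] [AddCommGroup P] [Module A P]
  [AddCommGroup T] [Module A T]

theorem lift_surj (p : P₀ →ₗ[A] P) (hp : Function.Surjective p) (g : P₀ →ₗ[A] T)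
    (hg : LinearMap.ker p ≤ LinearMap.ker g) : ∃ g' : P →ₗ[A] T, g'.comp p = g := by
  have hcongr : ∀ v w, p v = p w → g v = g w := by
    intro v w hvw
    have : v - w ∈ LinearMap.ker p := by rw [LinearMap.mem_ker, map_sub, hvw, sub_self]
    have := hg this
    rw [LinearMap.mem_ker, map_sub, sub_eq_zero] at this
    exact this
  refine ⟨{ toFun := fun x => g (Function.surjInv hp x), map_add' := ?_, map_smul' := ?_ }, ?_⟩
  · intro x y
    rw [← map_add]
    apply hcongr
    rw [map_add, Function.surjInv_eq hp, Function.surjInv_eq hp, Function.surjInv_eq hp]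
  · intro a x
    rw [RingHom.id_apply, ← map_smul]
    apply hcongr
    rw [map_smul, Function.surjInv_eq hp, Function.surjInv_eq hp]
  · apply LinearMap.ext
    intro v
    show g (Function.surjInv hp (p v)) = g v
    apply hcongr
    rw [Function.surjInv_eq hp]

end Lin

variable (A : Type u) [CommRing A] {B : Type u'} [Category.{v'} B] [Preadditive B]
  (F' : ModuleCat.{u} A ⥤ B)
  [PreservesFiniteColimits
    (ObjectProperty.ι (fun M : ModuleCat.{u} A => Module.FinitePresentation A M) ⋙ F')]

instance preservesZero :
    (ObjectProperty.ι (fun M : ModuleCat.{u} A => Module.FinitePresentation A M) ⋙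
      F').PreservesZeroMorphisms where
  map_zero X Y := map_zero_fp A F' X.property Y.property

/-- Key lemma: a right exact sequence of finitely presented modules is sent to a cokernel. -/
def fpCokernel {P₁ P₀ P : ModuleCat.{u} A} (h₁ : Module.FinitePresentation A P₁)
    (h₀ : Module.FinitePresentation A P₀) (hP : Module.FinitePresentation A P)
    (r : P₁ ⟶ P₀) (p : P₀ ⟶ P) (hp : Function.Surjective p.hom)
    (hex : LinearMap.range r.hom = LinearMap.ker p.hom) (w' : F'.map r ≫ F'.map p = 0) :
    IsColimit (CokernelCofork.ofπ (F'.map p) w') := by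
  let Z : ObjectProperty (ModuleCat.{u} A) := fun M => Module.FinitePresentation A M
  let P₁o : Z.FullSubcategory := ⟨P₁, h₁⟩
  let P₀o : Z.FullSubcategory := ⟨P₀, h₀⟩
  let Po : Z.FullSubcategory := ⟨P, hP⟩
  let ro : P₁o ⟶ P₀o := Z.homMk r
  let po : P₀o ⟶ Po := Z.homMk p
  have hrp : r ≫ p = 0 := by
    apply ModuleCat.hom_ext
    apply LinearMap.ext
    intro x
    have : r.hom x ∈ LinearMap.ker p.hom := by rw [← hex]; exact ⟨x, rfl⟩
    exact this
  have w₀ : ro ≫ po = 0 := by
    apply ObjectProperty.hom_ext
    exact hrp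
  have hker : ∀ {T : Z.FullSubcategory} (k : P₀o ⟶ T), ro ≫ k = 0 →
      LinearMap.ker p.hom ≤ LinearMap.ker k.hom.hom := by
    intro T k hk x hx
    rw [← hex] at hx
    obtain ⟨z, rfl⟩ := hx
    have := congrArg (fun φ => φ.hom.hom z) hk
    exact this
  have hc : IsColimit (CokernelCofork.ofπ po w₀) :=
    CokernelCofork.IsColimit.ofπ po w₀
      (fun {T} k hk => Z.homMk (ModuleCat.ofHom
        (Classical.choose (lift_surj p.hom hp k.hom.hom (hker k hk)))))
      (fun {T} k hk => by
        apply ObjectProperty.hom_ext
        apply ModuleCat.hom_ext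
        exact Classical.choose_spec (lift_surj p.hom hp k.hom.hom (hker k hk)))
      (fun {T} k hk m hm => by
        apply ObjectProperty.hom_ext
        apply ModuleCat.hom_ext
        apply LinearMap.ext
        intro x
        obtain ⟨y, rfl⟩ := hp x
        have h1 := congrArg (fun φ => φ.hom.hom y) hm
        have h2 := congrArg (fun φ => φ y)
          (Classical.choose_spec (lift_surj p.hom hp k.hom.hom (hker k hk)))
        exact h1.trans h2.symm)
  exact isColimitMapCoconeCoforkEquiv' (Z.ι ⋙ F') w₀ (isColimitOfPreserves (Z.ι ⋙ F') hc)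

end

end Groth.Agent.Lib.Helper15.FPC8
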