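import Mathlib
import Groth.Agent.Lib.Helper15.FPC8

set_option autoImplicit false

/-! Consequences of right exactness on f.p. modules; projective lifting lemmas. -/

namespace Groth.Agent.Lib.Helper15.FPC9

open Groth.Agent.Lib.Helper15.FPC1 Groth.Agent.Lib.Helper15.FPC7 Groth.Agent.Lib.Helper15.FPC8

universe u v' u'

open CategoryTheory CategoryTheory.Limits

noncomputable section

variable (A : Type u) [CommRing A] {B : Type u'} [Category.{v'} B] [Preadditive B]
  (F' : ModuleCat.{u} A ⥤ B)

section Inst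

variable {A}
variable {M : Type u} [AddCommGroup M] [Module A M]

instance instFreeW (i : Idx A M) : Module.Free A (W A M i) :=
  Module.Free.of_equiv (Finsupp.supportedEquivFinsupp (M := A) (R := A) (i.S : Set M)).symm

instance instFiniteW (i : Idx A M) : Module.Finite A (W A M i) :=
  Module.Finite.equiv (Finsupp.supportedEquivFinsupp (M := A) (R := A) (i.S : Set M)).symm

instance instProjW (i : Idx A M) : Module.Projective A (W A M i) := Module.Projective.of_free

instance instFPW (i : Idx A M) : Module.FinitePresentation A (W A M i) :=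
  Module.finitePresentation_of_projective A _

end Inst

section FP

variable [PreservesFiniteColimits
    (ObjectProperty.ι (fun M : ModuleCat.{u} A => Module.FinitePresentation A M) ⋙ F')]

lemma exists_pres {P₀ P : ModuleCat.{u} A} (h₀ : Module.FinitePresentation A P₀)
    (hP : Module.FinitePresentation A P) (p : P₀ ⟶ P) (hp : Function.Surjective p.hom) :
    ∃ (n : ℕ) (r : ModuleCat.of A (Fin n → A) ⟶ P₀),
      LinearMap.range r.hom = LinearMap.ker p.hom := by
  have hfg := Module.FinitePresentation.fg_ker p.hom hp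
  obtain ⟨n, g, hg⟩ := (Submodule.fg_iff_exists_fin_linearMap A P₀).mp hfg
  exact ⟨n, ModuleCat.ofHom g, hg⟩

lemma comp_eq_zero_of_range {P₁ P₀ P : ModuleCat.{u} A} (r : P₁ ⟶ P₀) (p : P₀ ⟶ P)
    (h : LinearMap.range r.hom = LinearMap.ker p.hom) : r ≫ p = 0 := by
  apply ModuleCat.hom_ext
  apply LinearMap.ext
  intro x
  have : r.hom x ∈ LinearMap.ker p.hom := by rw [← h]; exact ⟨x, rfl⟩
  exact this

lemma epi_of_surj {P₀ P : ModuleCat.{u} A} (h₀ : Module.FinitePresentation A P₀)
    (hP : Module.FinitePresentation A P) (p : P₀ ⟶ P) (hp : Function.Surjective p.hom) :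
    Epi (F'.map p) := by
  obtain ⟨n, r, hr⟩ := exists_pres A h₀ hP p hp
  have hF : Module.FinitePresentation A (ModuleCat.of A (Fin n → A)) :=
    (inferInstance : Module.FinitePresentation A (Fin n → A))
  have w' : F'.map r ≫ F'.map p = 0 := by
    rw [← F'.map_comp, comp_eq_zero_of_range A r p hr, map_zero_fp A F' hF hP]
  have hc := fpCokernel A F' hF h₀ hP r p hp hr w'
  exact epi_of_isColimit_cofork hc

lemma exists_desc {P₀ P : ModuleCat.{u} A} (h₀ : Module.FinitePresentation A P₀)
    (hP : Module.FinitePresentation A P) (p : P₀ ⟶ P) (hp : Function.Surjective p.hom)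
    {X : B} (φ : F'.obj P₀ ⟶ X)
    (hφ : ∀ (n : ℕ) (r : ModuleCat.of A (Fin n → A) ⟶ P₀), r ≫ p = 0 → F'.map r ≫ φ = 0) :
    ∃ ψ : F'.obj P ⟶ X, F'.map p ≫ ψ = φ := by
  obtain ⟨n, r, hr⟩ := exists_pres A h₀ hP p hp
  have hF : Module.FinitePresentation A (ModuleCat.of A (Fin n → A)) :=
    (inferInstance : Module.FinitePresentation A (Fin n → A))
  have hrp := comp_eq_zero_of_range A r p hr
  have w' : F'.map r ≫ F'.map p = 0 := by
    rw [← F'.map_comp, hrp, map_zero_fp A F' hF hP]
  have hc := fpCokernel A F' hF h₀ hP r p hp hr w'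
  have h0 : F'.map r ≫ φ = 0 ≫ φ := by rw [hφ n r hrp, zero_comp]
  exact ⟨(Cofork.IsColimit.desc' hc φ h0).1, (Cofork.IsColimit.desc' hc φ h0).2⟩

end FP

section Proj

variable {A}
variable [F'.Additive]

/-- maps from a projective module into the image of `f` die after `φ` -/
lemma proj_kill {M N P : ModuleCat.{u} A} [Module.Projective A P] (f : M ⟶ N) (u : P ⟶ N)
    (hu : ∀ x, u.hom x ∈ LinearMap.range f.hom) {X : B} (φ : F'.obj N ⟶ X)
    (hφ : F'.map f ≫ φ = 0) : F'.map u ≫ φ = 0 := by
  obtain ⟨ρ, hρ⟩ := Module.projective_lifting_property f.hom.rangeRestrict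
    (u.hom.codRestrict (LinearMap.range f.hom) hu) (LinearMap.surjective_rangeRestrict _)
  have h1 : u = ModuleCat.ofHom ρ ≫ f := by
    apply ModuleCat.hom_ext
    apply LinearMap.ext
    intro x
    have := congrArg (fun ψ => ((ψ x : LinearMap.range f.hom) : N)) hρ
    exact this.symm
  rw [h1, F'.map_comp, Category.assoc, hφ, comp_zero]

lemma proj_congr {M N P : ModuleCat.{u} A} [Module.Projective A P] (f : M ⟶ N) (u u' : P ⟶ N)
    (hu : ∀ x, u.hom x - u'.hom x ∈ LinearMap.range f.hom) {X : B} (φ : F'.obj N ⟶ X)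
    (hφ : F'.map f ≫ φ = 0) : F'.map u ≫ φ = F'.map u' ≫ φ := by
  have := proj_kill F' f (u - u') hu φ hφ
  rw [Functor.map_sub, Preadditive.sub_comp, sub_eq_zero] at this
  exact this

end Proj

end

end Groth.Agent.Lib.Helper15.FPC9
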