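import Mathlib
import Groth.Agent.Lib.Helper15.FPC9

set_option autoImplicit false

/-! Preservation of cokernels of arbitrary maps of modules. -/

namespace Groth.Agent.Lib.Helper15.FPC10

open Groth.Agent.Lib.Helper15.FPC1 Groth.Agent.Lib.Helper15.FPC2 Groth.Agent.Lib.Helper15.FPC3
  Groth.Agent.Lib.Helper15.FPC4 Groth.Agent.Lib.Helper15.FPC5 Groth.Agent.Lib.Helper15.FPC7
  Groth.Agent.Lib.Helper15.FPC8 Groth.Agent.Lib.Helper15.FPC9

universe u v' u'

open CategoryTheory CategoryTheory.Limits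

noncomputable section

variable (A : Type u) [CommRing A]

section Objs

variable (T : ModuleCat.{u} A) (i : Idx A T)

/-- the finite free module above `D A T i` -/
def Wo : ModuleCat.{u} A := ModuleCat.of A (W A T i)

instance : Module.Projective A (Wo A T i) := instProjW i

instance : Module.FinitePresentation A (Wo A T i) := instFPW i

def qo : Wo A T i ⟶ (diag A T).obj i := ModuleCat.ofHom (N A T i).mkQ

lemma qo_surj : Function.Surjective (qo A T i).hom := Submodule.mkQ_surjective _

variable {A T} in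
def inclo {i j : Idx A T} (h : i ≤ j) : Wo A T i ⟶ Wo A T j :=
  ModuleCat.ofHom (Submodule.inclusion (W_mono h))

variable {A T} in
lemma qo_trans {i j : Idx A T} (h : i ≤ j) :
    qo A T i ≫ (diag A T).map (homOfLE h) = inclo h ≫ qo A T j := by
  apply ModuleCat.hom_ext
  apply LinearMap.ext
  intro w
  rfl

variable {A T} in
lemma diag_map_cι {i j : Idx A T} (h : i ≤ j) :
    (diag A T).map (homOfLE h) ≫ cι A T j = cι A T i :=
  (cocone A T).w (homOfLE h)

end Objs

section Main

variable {A}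
variable {M N : ModuleCat.{u} A} (f : M ⟶ N)

abbrev Q : ModuleCat.{u} A := ModuleCat.of A (N ⧸ LinearMap.range f.hom)

abbrev π : N ⟶ Q f := ModuleCat.ofHom (LinearMap.range f.hom).mkQ

lemma π_surj : Function.Surjective (π f).hom := Submodule.mkQ_surjective _

lemma mem_range_of_π {x : N} (h : (π f).hom x = 0) : x ∈ LinearMap.range f.hom :=
  (Submodule.Quotient.mk_eq_zero _).mp h

lemma f_π : f ≫ π f = 0 := by
  apply ModuleCat.hom_ext
  apply LinearMap.ext
  intro x
  exact (Submodule.Quotient.mk_eq_zero _).mpr ⟨x, rfl⟩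

/-- chosen lift of `W_j → D_j → Q` to `N` -/
def lj (j : Idx A (Q f)) : Wo A (Q f) j ⟶ N :=
  ModuleCat.ofHom (Classical.choose (Module.projective_lifting_property (π f).hom
    (qo A (Q f) j ≫ cι A (Q f) j).hom (π_surj f)))

lemma lj_spec (j : Idx A (Q f)) : lj f j ≫ π f = qo A (Q f) j ≫ cι A (Q f) j := by
  apply ModuleCat.hom_ext
  exact Classical.choose_spec (Module.projective_lifting_property (π f).hom
    (qo A (Q f) j ≫ cι A (Q f) j).hom (π_surj f))

variable {B : Type u'} [Category.{v'} B] [Preadditive B] (F' : ModuleCat.{u} A ⥤ B)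
  [PreservesFiniteColimits
    (ObjectProperty.ι (fun M : ModuleCat.{u} A => Module.FinitePresentation A M) ⋙ F')]
  [F'.Additive]

lemma diff_mem {P : ModuleCat.{u} A} (u u' : P ⟶ N) (h : u ≫ π f = u' ≫ π f) (x : P) :
    u.hom x - u'.hom x ∈ LinearMap.range f.hom := by
  apply mem_range_of_π f
  rw [map_sub, sub_eq_zero]
  exact congrArg (fun ψ => ψ.hom x) h

variable {X : B} (φ : F'.obj N ⟶ X) (hφ : F'.map f ≫ φ = 0)

include hφ in
lemma lift_indep {P : ModuleCat.{u} A} [Module.Projective A P] (u u' : P ⟶ N)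
    (h : u ≫ π f = u' ≫ π f) : F'.map u ≫ φ = F'.map u' ≫ φ :=
  proj_congr F' f u u' (diff_mem f u u' h) φ hφ

include hφ in
lemma exists_psi (j : Idx A (Q f)) :
    ∃ ψ : F'.obj ((diag A (Q f)).obj j) ⟶ X,
      F'.map (qo A (Q f) j) ≫ ψ = F'.map (lj f j) ≫ φ := by
  apply exists_desc A F' (inferInstance : Module.FinitePresentation A (Wo A (Q f) j))
    (inferInstance : Module.FinitePresentation A ((diag A (Q f)).obj j))
    (qo A (Q f) j) (qo_surj A (Q f) j) (F'.map (lj f j) ≫ φ)
  intro n r hr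
  rw [← Category.assoc, ← F'.map_comp]
  have h0 : (r ≫ lj f j) ≫ π f = (0 : ModuleCat.of A (Fin n → A) ⟶ N) ≫ π f := by
    rw [Category.assoc, lj_spec, ← Category.assoc, hr, zero_comp, zero_comp]
  haveI : Module.Projective A (ModuleCat.of A (Fin n → A)) :=
    (inferInstance : Module.Projective A (Fin n → A))
  rw [lift_indep f F' φ hφ _ _ h0, Functor.map_zero, zero_comp]

def psi (j : Idx A (Q f)) : F'.obj ((diag A (Q f)).obj j) ⟶ X :=
  Classical.choose (exists_psi f F' φ hφ j)

lemma psi_spec (j : Idx A (Q f)) :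
    F'.map (qo A (Q f) j) ≫ psi f F' φ hφ j = F'.map (lj f j) ≫ φ :=
  Classical.choose_spec (exists_psi f F' φ hφ j)

lemma epi_qo (T : ModuleCat.{u} A) (i : Idx A T) : Epi (F'.map (qo A T i)) :=
  epi_of_surj A F' (inferInstance : Module.FinitePresentation A (Wo A T i))
    (inferInstance : Module.FinitePresentation A ((diag A T).obj i)) (qo A T i) (qo_surj A T i)

lemma psi_compat {j j' : Idx A (Q f)} (h : j ≤ j') :
    F'.map ((diag A (Q f)).map (homOfLE h)) ≫ psi f F' φ hφ j' = psi f F' φ hφ j := by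
  haveI := epi_qo F' (Q f) j
  rw [← cancel_epi (F'.map (qo A (Q f) j)), psi_spec, ← Category.assoc, ← F'.map_comp, qo_trans,
    F'.map_comp, Category.assoc, psi_spec, ← Category.assoc, ← F'.map_comp]
  apply lift_indep f F' φ hφ
  rw [Category.assoc, lj_spec, lj_spec, ← Category.assoc, ← qo_trans, Category.assoc,
    diag_map_cι]

variable [PreservesFilteredColimitsOfSize.{u, u} F']

def hcolim (T : ModuleCat.{u} A) : IsColimit (F'.mapCocone (cocone A T)) :=
  haveI : PreservesColimitsOfShape (Idx A T) F' :=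
    PreservesFilteredColimitsOfSize.preserves_filtered_colimits _
  isColimitOfPreserves F' (isColimit A T)

def psiCocone : Cocone (diag A (Q f) ⋙ F') where
  pt := X
  ι :=
    { app := fun j => psi f F' φ hφ j
      naturality := by
        intro j j' h
        have := psi_compat f F' φ hφ (leOfHom h)
        exact this.trans (Category.comp_id _).symm }

def psiTot : F'.obj (Q f) ⟶ X := (hcolim F' (Q f)).desc (psiCocone f F' φ hφ)

lemma psiTot_fac (j : Idx A (Q f)) :
    F'.map (cι A (Q f) j) ≫ psiTot f F' φ hφ = psi f F' φ hφ j :=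
  (hcolim F' (Q f)).fac (psiCocone f F' φ hφ) j

lemma π_psiTot : F'.map (π f) ≫ psiTot f F' φ hφ = φ := by
  apply (hcolim F' N).hom_ext
  intro i
  show F'.map (cι A N i) ≫ F'.map (π f) ≫ psiTot f F' φ hφ = F'.map (cι A N i) ≫ φ
  haveI := epi_qo F' N i
  rw [← cancel_epi (F'.map (qo A N i))]
  obtain ⟨j, h', hh'⟩ := exists_factor (qo A N i ≫ cι A N i ≫ π f).hom
  obtain ⟨τ, hτ⟩ := Module.projective_lifting_property (qo A (Q f) j).hom h'
    (qo_surj A (Q f) j)
  let τo : Wo A N i ⟶ Wo A (Q f) j := ModuleCat.ofHom τ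
  have hv : qo A N i ≫ cι A N i ≫ π f = τo ≫ qo A (Q f) j ≫ cι A (Q f) j := by
    apply ModuleCat.hom_ext
    rw [← hh', ← hτ]
    rfl
  have e1 : F'.map (qo A N i) ≫ F'.map (cι A N i) ≫ F'.map (π f) ≫ psiTot f F' φ hφ =
      F'.map (τo ≫ lj f j) ≫ φ := by
    rw [← Category.assoc (F'.map (cι A N i)), ← F'.map_comp, ← Category.assoc, ← F'.map_comp, hv,
      F'.map_comp, F'.map_comp, Category.assoc, Category.assoc, psiTot_fac, psi_spec,
      F'.map_comp, Category.assoc]
  have e2 : F'.map (qo A N i) ≫ F'.map (cι A N i) ≫ φ = F'.map (qo A N i ≫ cι A N i) ≫ φ := by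
    rw [F'.map_comp, Category.assoc]
  rw [e1, e2]
  apply lift_indep f F' φ hφ
  rw [Category.assoc, lj_spec, Category.assoc, hv]

lemma epi_π : Epi (F'.map (π f)) := by
  constructor
  intro X ψ₁ ψ₂ h
  apply (hcolim F' (Q f)).hom_ext
  intro j
  show F'.map (cι A (Q f) j) ≫ ψ₁ = F'.map (cι A (Q f) j) ≫ ψ₂
  haveI := epi_qo F' (Q f) j
  rw [← cancel_epi (F'.map (qo A (Q f) j)), ← Category.assoc, ← F'.map_comp, ← lj_spec,
    F'.map_comp, Category.assoc, h, ← Category.assoc, ← F'.map_comp, lj_spec, F'.map_comp,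
    Category.assoc]

lemma w_π : F'.map f ≫ F'.map (π f) = 0 := by
  rw [← F'.map_comp, f_π, Functor.map_zero]

def isColimitCokernel : IsColimit (CokernelCofork.ofπ (F'.map (π f)) (w_π f F')) :=
  haveI := epi_π f F'
  CokernelCofork.IsColimit.ofπ' (F'.map (π f)) (w_π f F')
    (fun {X} k hk => ⟨psiTot f F' k hk, π_psiTot f F' k hk⟩)

theorem preservesCokernel : PreservesColimit (parallelPair f 0) F' :=
  preservesColimit_of_preserves_colimit_cocone (ModuleCat.cokernelIsColimit f)
    ((isColimitMapCoconeCoforkEquiv' F' (f_π f)).symm (isColimitCokernel f F'))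

end Main

end

end Groth.Agent.Lib.Helper15.FPC10
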