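import Mathlib
import Groth.Agent.Lib.Helper15.FPC4

set_option autoImplicit false

/-! Finitely presented modules are compact: maps into a filtered colimit of modules factor through
a stage, uniquely up to refinement. -/

namespace Groth.Agent.Lib.Helper15.FPC11

universe u

open CategoryTheory CategoryTheory.Limits

noncomputable section

variable {A : Type u} [CommRing A] {J : Type u} [SmallCategory J] [IsFiltered J]
  (K : J ⥤ ModuleCat.{u} A) (c : Cocone K) (hc : IsColimit c)

lemma ι_map (k k' : J) (e : k ⟶ k') (x : K.obj k) :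
    (c.ι.app k').hom ((K.map e).hom x) = (c.ι.app k).hom x := by
  have := c.w e
  rw [← this]
  rfl

include hc in
lemma exists_map_eq_zero (k : J) (x : K.obj k) (hx : (c.ι.app k).hom x = 0) :
    ∃ (k' : J) (e : k ⟶ k'), (K.map e).hom x = 0 := by
  have h : (c.ι.app k) x = (c.ι.app k) (0 : K.obj k) := by
    rw [map_zero]; exact hx
  obtain ⟨k', f, g, hfg⟩ := Concrete.isColimit_exists_of_rep_eq K hc x (0 : K.obj k) h
  refine ⟨k', f, ?_⟩
  rw [map_zero] at hfg
  exact hfg

include hc in
lemma exists_map_eq_zero_finset {X : Type u} [AddCommGroup X] [Module A X] (m : J)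
    (g : X →ₗ[A] K.obj m) (G : Finset X) (hG : ∀ v ∈ G, (c.ι.app m).hom (g v) = 0) :
    ∃ (k : J) (e : m ⟶ k), ∀ v ∈ G, (K.map e).hom (g v) = 0 := by
  classical
  induction G using Finset.induction_on with
  | empty => exact ⟨m, 𝟙 m, by simp⟩
  | insert v G hv ih =>
    obtain ⟨k, e, hk⟩ := ih (fun w hw => hG w (Finset.mem_insert_of_mem hw))
    have hv0 : (c.ι.app k).hom ((K.map e).hom (g v)) = 0 := by
      rw [ι_map]
      exact hG v (Finset.mem_insert_self v G)
    obtain ⟨k', e', hk'⟩ := exists_map_eq_zero K c hc k _ hv0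
    refine ⟨k', e ≫ e', ?_⟩
    intro w hw
    rw [K.map_comp]
    rcases Finset.mem_insert.mp hw with rfl | hw
    · exact hk'
    · show (K.map e').hom ((K.map e).hom (g w)) = 0
      rw [hk w hw, map_zero]

include hc in
theorem exists_eq_of_fg {P : Type u} [AddCommGroup P] [Module A P] [Module.Finite A P]
    {j j' : J} (h : P →ₗ[A] K.obj j) (h' : P →ₗ[A] K.obj j')
    (hh : (c.ι.app j).hom.comp h = (c.ι.app j').hom.comp h') :
    ∃ (k : J) (a : j ⟶ k) (b : j' ⟶ k), (K.map a).hom.comp h = (K.map b).hom.comp h' := by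
  obtain ⟨s, hs⟩ := (Module.Finite.fg_top : (⊤ : Submodule A P).FG)
  let m := IsFiltered.max j j'
  let g : P →ₗ[A] K.obj m := (K.map (IsFiltered.leftToMax j j')).hom.comp h -
    (K.map (IsFiltered.rightToMax j j')).hom.comp h'
  have hg : ∀ v ∈ s, (c.ι.app m).hom (g v) = 0 := by
    intro v _
    simp only [g, LinearMap.sub_apply, LinearMap.comp_apply, map_sub]
    rw [ι_map, ι_map, sub_eq_zero]
    exact LinearMap.congr_fun hh v
  obtain ⟨k, e, hk⟩ := exists_map_eq_zero_finset K c hc m g s hg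
  refine ⟨k, IsFiltered.leftToMax j j' ≫ e, IsFiltered.rightToMax j j' ≫ e, ?_⟩
  apply LinearMap.ext_on hs
  intro v hv
  have := hk v hv
  simp only [g, LinearMap.sub_apply, LinearMap.comp_apply, map_sub, sub_eq_zero] at this
  rw [K.map_comp, K.map_comp]
  exact this

include hc in
theorem exists_factor_filtered {P : Type u} [AddCommGroup P] [Module A P]
    [Module.FinitePresentation A P] (φ : P →ₗ[A] c.pt) :
    ∃ (j : J) (h : P →ₗ[A] K.obj j), (c.ι.app j).hom.comp h = φ := by
  classical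
  obtain ⟨s, hs, hker⟩ := (inferInstance : Module.FinitePresentation A P).out
  obtain ⟨G, hG⟩ := hker
  have hf : Function.Surjective (FPC3.fS (A := A) s) := by
    rw [← LinearMap.range_eq_top]
    unfold FPC3.fS
    rw [Finsupp.range_linearCombination]
    simpa using hs
  have hkerG : LinearMap.ker (FPC3.fS (A := A) s) = Submodule.span A (G : Set (s →₀ A)) := by
    unfold FPC3.fS; exact hG.symm
  have hrep : ∀ p : s, ∃ (j : J) (x : K.obj j), (c.ι.app j).hom x = φ p := fun p => by
    obtain ⟨j, y, hy⟩ := Concrete.isColimit_exists_rep K hc (φ p)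
    exact ⟨j, y, hy⟩
  choose jp xp hxp using hrep
  obtain ⟨j₀, hj₀⟩ := IsFiltered.sup_objs_exists (Finset.univ.image jp)
  have tp : ∀ p : s, jp p ⟶ j₀ := fun p =>
    (hj₀ (Finset.mem_image_of_mem _ (Finset.mem_univ p))).some
  let y : s → K.obj j₀ := fun p => (K.map (tp p)).hom (xp p)
  have hy : ∀ p, (c.ι.app j₀).hom (y p) = φ p := by
    intro p
    rw [← hxp p]
    exact ι_map K c _ _ (tp p) (xp p)
  let ψ₀ : (s →₀ A) →ₗ[A] K.obj j₀ := Finsupp.linearCombination A y
  have hψ₀ : (c.ι.app j₀).hom.comp ψ₀ = φ.comp (FPC3.fS s) := by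
    apply Finsupp.lhom_ext
    intro p a
    simp only [ψ₀, FPC3.fS, LinearMap.comp_apply, Finsupp.linearCombination_single, map_smul, hy]
  have hGz : ∀ v ∈ G, (c.ι.app j₀).hom (ψ₀ v) = 0 := by
    intro v hv
    have h1 := LinearMap.congr_fun hψ₀ v
    simp only [LinearMap.comp_apply] at h1
    rw [h1]
    have : v ∈ LinearMap.ker (FPC3.fS (A := A) s) := by
      rw [hkerG]; exact Submodule.subset_span hv
    rw [LinearMap.mem_ker.mp this, map_zero]
  obtain ⟨k, e, hk⟩ := exists_map_eq_zero_finset K c hc j₀ ψ₀ G hGz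
  let ψ : (s →₀ A) →ₗ[A] K.obj k := (K.map e).hom.comp ψ₀
  have hle : LinearMap.ker (FPC3.fS (A := A) s) ≤ LinearMap.ker ψ := by
    rw [hkerG, Submodule.span_le]
    intro v hv
    exact hk v hv
  let h : P →ₗ[A] K.obj k :=
    ((LinearMap.ker (FPC3.fS (A := A) s)).liftQ ψ hle).comp
      (LinearMap.quotKerEquivOfSurjective (FPC3.fS (A := A) s) hf).symm.toLinearMap
  have hh : ∀ v, h (FPC3.fS s v) = ψ v := by
    intro v
    have : (LinearMap.quotKerEquivOfSurjective (FPC3.fS (A := A) s) hf).symm (FPC3.fS s v) =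
        Submodule.Quotient.mk v := by
      rw [LinearEquiv.symm_apply_eq]
      rfl
    show ((LinearMap.ker (FPC3.fS (A := A) s)).liftQ ψ hle)
      ((LinearMap.quotKerEquivOfSurjective (FPC3.fS (A := A) s) hf).symm (FPC3.fS s v)) = ψ v
    rw [this]
    rfl
  refine ⟨k, h, ?_⟩
  apply LinearMap.ext
  intro p
  obtain ⟨v, rfl⟩ := hf p
  rw [LinearMap.comp_apply, hh]
  show (c.ι.app k).hom ((K.map e).hom (ψ₀ v)) = _
  rw [ι_map]
  exact LinearMap.congr_fun hψ₀ v

end

end Groth.Agent.Lib.Helper15.FPC11
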