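import Mathlib
import Groth.Agent.Lib.Helper15.FPC11

set_option autoImplicit false

/-! The canonical presentation `Idx A M` is final in the comma category of f.p. modules over `M`. -/

namespace Groth.Agent.Lib.Helper15.FPC12

open Groth.Agent.Lib.Helper15.FPC1 Groth.Agent.Lib.Helper15.FPC2 Groth.Agent.Lib.Helper15.FPC3
  Groth.Agent.Lib.Helper15.FPC4

universe u

open CategoryTheory CategoryTheory.Limits

noncomputable section

variable (A : Type u) [CommRing A]

abbrev FP : ObjectProperty (ModuleCat.{u} A) := fun M => Module.FinitePresentation A M

/-- the diagram of f.p. modules, valued in the full subcategory -/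
def diagFP (M : ModuleCat.{u} A) : Idx A M ⥤ (FP A).FullSubcategory where
  obj i := ⟨(diag A M).obj i, inferInstanceAs (Module.FinitePresentation A (D A M i))⟩
  map f := ObjectProperty.homMk ((diag A M).map f)
  map_id i := by
    apply ObjectProperty.hom_ext
    exact (diag A M).map_id i
  map_comp f g := by
    apply ObjectProperty.hom_ext
    exact (diag A M).map_comp f g

lemma diagFP_comp_ι (M : ModuleCat.{u} A) : diagFP A M ⋙ (FP A).ι = diag A M := rfl

/-- the functor to the comma category -/
def Phi (M : ModuleCat.{u} A) : Idx A M ⥤ CostructuredArrow (FP A).ι M where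
  obj i := CostructuredArrow.mk (Y := (diagFP A M).obj i) ((cocone A M).ι.app i)
  map {i j} f := CostructuredArrow.homMk ((diagFP A M).map f) (by
    exact (cocone A M).w f)
  map_id i := by
    apply CostructuredArrow.hom_ext
    exact (diagFP A M).map_id i
  map_comp f g := by
    apply CostructuredArrow.hom_ext
    exact (diagFP A M).map_comp f g

lemma Phi_comp_proj (M : ModuleCat.{u} A) :
    Phi A M ⋙ CostructuredArrow.proj (FP A).ι M = diagFP A M := rfl

instance (M : ModuleCat.{u} A) : IsFiltered (Idx A M) := inferInstance

instance final_Phi (M : ModuleCat.{u} A) : (Phi A M).Final := by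
  apply Functor.final_of_exists_of_isFiltered
  · intro d
    haveI : Module.FinitePresentation A ((FP A).ι.obj d.left) := d.left.property
    obtain ⟨i, h', hh'⟩ := exists_factor (A := A) (M := M) d.hom.hom
    refine ⟨i, ⟨CostructuredArrow.homMk (ObjectProperty.homMk (ModuleCat.ofHom h')) ?_⟩⟩
    apply ModuleCat.hom_ext
    exact hh'
  · intro d i s s'
    haveI : Module.FinitePresentation A ((FP A).ι.obj d.left) := d.left.property
    haveI : Module.FinitePresentation A d.left.obj := d.left.property
    have hs := CostructuredArrow.w s
    have hs' := CostructuredArrow.w s'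
    have hh : ((cocone A M).ι.app i).hom.comp s.left.hom.hom =
        ((cocone A M).ι.app i).hom.comp s'.left.hom.hom := by
      have h1 := congrArg ModuleCat.Hom.hom hs
      have h2 := congrArg ModuleCat.Hom.hom hs'
      exact h1.trans h2.symm
    obtain ⟨k, a, b, hab⟩ := FPC11.exists_eq_of_fg (diag A M) (cocone A M) (isColimit A M)
      s.left.hom.hom s'.left.hom.hom hh
    -- coequalize a and b (thin category: a = b)
    have hab' : a = b := Subsingleton.elim _ _
    subst hab'
    refine ⟨k, a, ?_⟩
    apply CostructuredArrow.hom_ext
    apply ObjectProperty.hom_ext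
    apply ModuleCat.hom_ext
    exact hab

end

end Groth.Agent.Lib.Helper15.FPC12
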