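import Mathlib
import Groth.Agent.Lib.Helper15.FPC5
import Groth.Agent.Lib.Helper15.FPC12

set_option autoImplicit false

/-! A functor on modules which preserves the canonical presentations by f.p. modules preserves
all (small) filtered colimits. -/

namespace Groth.Agent.Lib.Helper15.FPC13

open Groth.Agent.Lib.Helper15.FPC1 Groth.Agent.Lib.Helper15.FPC2 Groth.Agent.Lib.Helper15.FPC3
  Groth.Agent.Lib.Helper15.FPC4 Groth.Agent.Lib.Helper15.FPC5

universe u v' u'

open CategoryTheory CategoryTheory.Limits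

noncomputable section

variable {A : Type u} [CommRing A] {B : Type u'} [Category.{v'} B] (F' : ModuleCat.{u} A ⥤ B)
variable {J : Type u} [SmallCategory J] [IsFiltered J] {K : J ⥤ ModuleCat.{u} A} (c : Cocone K)
  (hc : IsColimit c)

def kι (j : J) : K.obj j ⟶ c.pt := c.ι.app j

lemma kι_w {j k : J} (a : j ⟶ k) : K.map a ≫ kι c k = kι c j := c.w a

def sι (s : Cocone (K ⋙ F')) (j : J) : F'.obj (K.obj j) ⟶ s.pt := s.ι.app j

lemma sι_w (s : Cocone (K ⋙ F')) {j k : J} (a : j ⟶ k) :
    F'.map (K.map a) ≫ sι F' s k = sι F' s j := s.w a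

include hc in
lemma wd (s : Cocone (K ⋙ F')) {P : ModuleCat.{u} A} [Module.FinitePresentation A P] {j j' : J}
    (h : P ⟶ K.obj j) (h' : P ⟶ K.obj j') (hh : h ≫ kι c j = h' ≫ kι c j') :
    F'.map h ≫ sι F' s j = F'.map h' ≫ sι F' s j' := by
  have hh' : (c.ι.app j).hom.comp h.hom = (c.ι.app j').hom.comp h'.hom :=
    congrArg ModuleCat.Hom.hom hh
  obtain ⟨k, a, b, hab⟩ := FPC11.exists_eq_of_fg K c hc h.hom h'.hom hh'
  have hab' : h ≫ K.map a = h' ≫ K.map b := by
    apply ModuleCat.hom_ext; exact hab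
  rw [← sι_w F' s a, ← sι_w F' s b, ← Category.assoc, ← Category.assoc, ← F'.map_comp,
    ← F'.map_comp, hab']

include hc in
lemma exists_fac (i : Idx A c.pt) :
    ∃ (j : J) (h : (diag A c.pt).obj i ⟶ K.obj j), h ≫ kι c j = cι A c.pt i := by
  obtain ⟨j, h, hh⟩ := FPC11.exists_factor_filtered K c hc (P := D A c.pt i) (toM i)
  exact ⟨j, ModuleCat.ofHom h, by apply ModuleCat.hom_ext; exact hh⟩

def jx (i : Idx A c.pt) : J := (exists_fac c hc i).choose

def hx (i : Idx A c.pt) : (diag A c.pt).obj i ⟶ K.obj (jx c hc i) :=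
  (exists_fac c hc i).choose_spec.choose

lemma hx_spec (i : Idx A c.pt) : hx c hc i ≫ kι c (jx c hc i) = cι A c.pt i :=
  (exists_fac c hc i).choose_spec.choose_spec

def coc (s : Cocone (K ⋙ F')) : Cocone (diag A c.pt ⋙ F') where
  pt := s.pt
  ι :=
    { app := fun i => F'.map (hx c hc i) ≫ sι F' s (jx c hc i)
      naturality := by
        intro i i' f
        simp only [Functor.const_obj_obj, Functor.const_obj_map, Category.comp_id,
          Functor.comp_map]
        rw [← Category.assoc, ← F'.map_comp]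
        apply wd F' c hc s
        rw [Category.assoc, hx_spec, hx_spec]
        exact (cocone A c.pt).w f }

variable (hM : IsColimit (F'.mapCocone (cocone A c.pt)))

def dsc (s : Cocone (K ⋙ F')) : F'.obj c.pt ⟶ s.pt := hM.desc (coc F' c hc s)

lemma dsc_leg (s : Cocone (K ⋙ F')) (i : Idx A c.pt) :
    F'.map (cι A c.pt i) ≫ dsc F' c hc hM s = F'.map (hx c hc i) ≫ sι F' s (jx c hc i) :=
  hM.fac (coc F' c hc s) i

lemma dsc_gen (s : Cocone (K ⋙ F')) {P : ModuleCat.{u} A} [Module.FinitePresentation A P] {j : J}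
    (h : P ⟶ K.obj j) :
    F'.map (h ≫ kι c j) ≫ dsc F' c hc hM s = F'.map h ≫ sι F' s j := by
  obtain ⟨i, g, hg⟩ := exists_factor (A := A) (M := c.pt) (P := P) (h ≫ kι c j).hom
  let g' : P ⟶ (diag A c.pt).obj i := ModuleCat.ofHom g
  have hg' : g' ≫ cι A c.pt i = h ≫ kι c j := by
    apply ModuleCat.hom_ext; exact hg
  rw [← hg', F'.map_comp, Category.assoc, dsc_leg, ← Category.assoc, ← F'.map_comp]
  apply wd F' c hc s
  rw [Category.assoc, hx_spec, hg']

include hc in
theorem isColimit_map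
    (hF : ∀ M : ModuleCat.{u} A, Nonempty (IsColimit (F'.mapCocone (cocone A M)))) :
    Nonempty (IsColimit (F'.mapCocone c)) := by
  let hM := (hF c.pt).some
  refine ⟨{ desc := fun s => dsc F' c hc hM s, fac := ?_, uniq := ?_ }⟩
  · intro s j
    show F'.map (kι c j) ≫ dsc F' c hc hM s = sι F' s j
    apply (hF (K.obj j)).some.hom_ext
    intro l
    show F'.map (cι A (K.obj j) l) ≫ F'.map (kι c j) ≫ dsc F' c hc hM s =
      F'.map (cι A (K.obj j) l) ≫ sι F' s j
    rw [← Category.assoc, ← F'.map_comp]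
    exact dsc_gen F' c hc hM s (cι A (K.obj j) l)
  · intro s m hm
    apply hM.hom_ext
    intro i
    show F'.map (cι A c.pt i) ≫ m = F'.map (cι A c.pt i) ≫ dsc F' c hc hM s
    rw [dsc_leg, ← hx_spec c hc i, F'.map_comp, Category.assoc]
    congr 1
    exact hm (jx c hc i)

theorem preservesFiltered
    (hF : ∀ M : ModuleCat.{u} A, Nonempty (IsColimit (F'.mapCocone (cocone A M)))) :
    PreservesFilteredColimitsOfSize.{u, u} F' where
  preserves_filtered_colimits J _ _ :=
    { preservesColimit := fun {K} =>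
        { preserves := fun {c} hc => isColimit_map F' c hc hF } }

end

end Groth.Agent.Lib.Helper15.FPC13
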