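import Mathlib
import Groth.Agent.Lib.Helper15.FPC13

set_option autoImplicit false

/-! Existence of the extension of a functor on f.p. modules to all modules, commuting with
filtered colimits: the pointwise left Kan extension. -/

namespace Groth.Agent.Lib.Helper15.FPC14

open Groth.Agent.Lib.Helper15.FPC1 Groth.Agent.Lib.Helper15.FPC2 Groth.Agent.Lib.Helper15.FPC3
  Groth.Agent.Lib.Helper15.FPC4 Groth.Agent.Lib.Helper15.FPC5 Groth.Agent.Lib.Helper15.FPC12

universe u v' u'

open CategoryTheory CategoryTheory.Limits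

noncomputable section

variable (A : Type u) [CommRing A] {B : Type u'} [Category.{v'} B]
  (F : (FP A).FullSubcategory ⥤ B)

section Abstract

variable (F' : ModuleCat.{u} A ⥤ B) (η : F ⟶ (FP A).ι ⋙ F') [IsIso η]
  (hE : (Functor.LeftExtension.mk F' η).IsPointwiseLeftKanExtension)

/-- clean-typed component of `η` -/
def ηi (M : ModuleCat.{u} A) (i : Idx A M) :
    F.obj ((diagFP A M).obj i) ⟶ F'.obj ((diag A M).obj i) :=
  η.app ((diagFP A M).obj i)

instance (M : ModuleCat.{u} A) (i : Idx A M) : IsIso (ηi A F F' η M i) :=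
  inferInstanceAs (IsIso (η.app ((diagFP A M).obj i)))

lemma ηi_nat (M : ModuleCat.{u} A) {i j : Idx A M} (f : i ⟶ j) :
    F.map ((diagFP A M).map f) ≫ ηi A F F' η M j = ηi A F F' η M i ≫ F'.map ((diag A M).map f) :=
  η.naturality ((diagFP A M).map f)

/-- the whiskered colimit cocone -/
def wcocone (M : ModuleCat.{u} A) : Cocone (Phi A M ⋙ CostructuredArrow.proj (FP A).ι M ⋙ F) :=
  ((Functor.LeftExtension.mk F' η).coconeAt M).whisker (Phi A M)

def wIsColimit (M : ModuleCat.{u} A) : IsColimit (wcocone A F F' η M) :=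
  (Functor.Final.isColimitWhiskerEquiv (Phi A M) _).symm (hE M)

lemma wcocone_ι (M : ModuleCat.{u} A) (i : Idx A M) :
    (wcocone A F F' η M).ι.app i = ηi A F F' η M i ≫ F'.map (cι A M i) := rfl

/-- cocone over the whiskered diagram built from one over `diag A M ⋙ F'` -/
def tcocone (M : ModuleCat.{u} A) (s : Cocone (diag A M ⋙ F')) :
    Cocone (Phi A M ⋙ CostructuredArrow.proj (FP A).ι M ⋙ F) where
  pt := s.pt
  ι :=
    { app := fun i => ηi A F F' η M i ≫ s.ι.app i
      naturality := by
        intro i j f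
        simp only [Functor.const_obj_obj, Functor.const_obj_map, Category.comp_id]
        show F.map ((diagFP A M).map f) ≫ ηi A F F' η M j ≫ s.ι.app j =
          ηi A F F' η M i ≫ s.ι.app i
        rw [reassoc_of% (ηi_nat A F F' η M f)]
        congr 1
        exact s.w f }

def isColimitMap (M : ModuleCat.{u} A) : IsColimit (F'.mapCocone (cocone A M)) where
  desc s := (wIsColimit A F F' η hE M).desc (tcocone A F F' η M s)
  fac s i := by
    have h := (wIsColimit A F F' η hE M).fac (tcocone A F F' η M s) i
    rw [wcocone_ι] at h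
    have h2 : ηi A F F' η M i ≫ (F'.map (cι A M i) ≫
        (wIsColimit A F F' η hE M).desc (tcocone A F F' η M s)) =
        ηi A F F' η M i ≫ s.ι.app i := by
      rw [← Category.assoc]; exact h
    exact (cancel_epi (ηi A F F' η M i)).mp h2
  uniq s m hm := by
    apply (wIsColimit A F F' η hE M).hom_ext
    intro i
    have h := (wIsColimit A F F' η hE M).fac (tcocone A F F' η M s) i
    refine Eq.trans ?_ h.symm
    show (ηi A F F' η M i ≫ F'.map (cι A M i)) ≫ m = ηi A F F' η M i ≫ s.ι.app i
    rw [Category.assoc]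
    congr 1
    exact hm i

include hE in
theorem preservesFiltered_of_kan : PreservesFilteredColimitsOfSize.{u, u} F' :=
  FPC13.preservesFiltered F' (fun M => ⟨isColimitMap A F F' η hE M⟩)

end Abstract

variable [HasFilteredColimitsOfSize.{u, u} B]

instance hasKan : (FP A).ι.HasPointwiseLeftKanExtension F := by
  intro M
  haveI : HasColimitsOfShape (Idx A M) B := HasFilteredColimitsOfSize.HasColimitsOfShape _
  haveI : HasColimit (Phi A M ⋙ CostructuredArrow.proj (FP A).ι M ⋙ F) := inferInstance
  exact Functor.Final.hasColimit_of_comp (Phi A M)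

theorem exists_extension :
    ∃ F' : ModuleCat.{u} A ⥤ B, PreservesFilteredColimitsOfSize.{u, u} F' ∧
      Nonempty ((FP A).ι ⋙ F' ≅ F) := by
  let F' := (FP A).ι.pointwiseLeftKanExtension F
  let η := (FP A).ι.pointwiseLeftKanExtensionUnit F
  have hE := (FP A).ι.pointwiseLeftKanExtensionIsPointwiseLeftKanExtension F
  haveI : IsIso η := hE.isIso_hom
  exact ⟨F', preservesFiltered_of_kan A F F' η hE, ⟨(asIso η).symm⟩⟩

end

end Groth.Agent.Lib.Helper15.FPC14
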