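import Mathlib
import Groth.Agent.Lib.Helper15.FPC14

set_option autoImplicit false

/-! Natural transformations between functors on modules, the source commuting with filtered
colimits, are determined by (and can be built from) their restriction to f.p. modules. -/

namespace Groth.Agent.Lib.Helper15.FPC15

open Groth.Agent.Lib.Helper15.FPC1 Groth.Agent.Lib.Helper15.FPC2 Groth.Agent.Lib.Helper15.FPC3
  Groth.Agent.Lib.Helper15.FPC4 Groth.Agent.Lib.Helper15.FPC5 Groth.Agent.Lib.Helper15.FPC12

universe u v' u'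

open CategoryTheory CategoryTheory.Limits

noncomputable section

variable (A : Type u) [CommRing A] {B : Type u'} [Category.{v'} B]
  (F₁ G : ModuleCat.{u} A ⥤ B)

section

variable [PreservesFilteredColimitsOfSize.{u, u} F₁]

def hcol (M : ModuleCat.{u} A) : IsColimit (F₁.mapCocone (cocone A M)) :=
  haveI : PreservesColimitsOfShape (Idx A M) F₁ :=
    PreservesFilteredColimitsOfSize.preserves_filtered_colimits _
  isColimitOfPreserves F₁ (isColimit A M)

variable {F₁ G}
variable (α : (FP A).ι ⋙ F₁ ⟶ (FP A).ι ⋙ G)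

/-- component at a f.p. module -/
def αP (P : ModuleCat.{u} A) [hP : Module.FinitePresentation A P] : F₁.obj P ⟶ G.obj P :=
  α.app ⟨P, hP⟩

lemma α_nat {P Q : ModuleCat.{u} A} [hP : Module.FinitePresentation A P]
    [hQ : Module.FinitePresentation A Q] (f : P ⟶ Q) :
    F₁.map f ≫ αP A α Q = αP A α P ≫ G.map f :=
  α.naturality (X := ⟨P, hP⟩) (Y := ⟨Q, hQ⟩) (ObjectProperty.homMk f)

def ecocone (M : ModuleCat.{u} A) : Cocone (diag A M ⋙ F₁) where
  pt := G.obj M
  ι :=
    { app := fun i => αP A α ((diag A M).obj i) ≫ G.map (cι A M i)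
      naturality := by
        intro i j f
        simp only [Functor.const_obj_obj, Functor.const_obj_map, Category.comp_id]
        show F₁.map ((diag A M).map f) ≫ αP A α ((diag A M).obj j) ≫ G.map (cι A M j) =
          αP A α ((diag A M).obj i) ≫ G.map (cι A M i)
        rw [reassoc_of% (α_nat A α ((diag A M).map f)), ← G.map_comp]
        congr 2
        exact (cocone A M).w f }

def extApp (M : ModuleCat.{u} A) : F₁.obj M ⟶ G.obj M := (hcol A F₁ M).desc (ecocone A α M)

lemma ext_leg (M : ModuleCat.{u} A) (i : Idx A M) :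
    F₁.map (cι A M i) ≫ extApp A α M = αP A α ((diag A M).obj i) ≫ G.map (cι A M i) :=
  (hcol A F₁ M).fac (ecocone A α M) i

lemma ext_gen (M : ModuleCat.{u} A) {P : ModuleCat.{u} A} [Module.FinitePresentation A P]
    (h : P ⟶ M) : F₁.map h ≫ extApp A α M = αP A α P ≫ G.map h := by
  obtain ⟨i, g, hg⟩ := exists_factor (A := A) (M := M) (P := P) h.hom
  let g' : P ⟶ (diag A M).obj i := ModuleCat.ofHom g
  have hg' : g' ≫ cι A M i = h := by
    apply ModuleCat.hom_ext; exact hg
  rw [← hg', F₁.map_comp, Category.assoc, ext_leg, reassoc_of% (α_nat A α g'), ← G.map_comp]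

lemma ext_fp (P : ModuleCat.{u} A) [Module.FinitePresentation A P] :
    extApp A α P = αP A α P := by
  have := ext_gen A α P (𝟙 P)
  simpa using this

def ext : F₁ ⟶ G where
  app M := extApp A α M
  naturality M N f := by
    apply (hcol A F₁ M).hom_ext
    intro i
    have h1 : F₁.map (cι A M i) ≫ F₁.map f ≫ extApp A α N =
        αP A α ((diag A M).obj i) ≫ G.map (cι A M i ≫ f) := by
      rw [← Category.assoc, ← F₁.map_comp]
      exact ext_gen A α N (cι A M i ≫ f)
    have h2 : F₁.map (cι A M i) ≫ extApp A α M ≫ G.map f =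
        αP A α ((diag A M).obj i) ≫ G.map (cι A M i ≫ f) := by
      rw [← Category.assoc, ext_leg, Category.assoc, G.map_comp]
    exact h1.trans h2.symm

lemma ext_app (M : ModuleCat.{u} A) : (ext A α).app M = extApp A α M := rfl

variable (F₁ G) in
lemma nat_ext (β β' : F₁ ⟶ G)
    (h : ∀ (P : ModuleCat.{u} A) [Module.FinitePresentation A P], β.app P = β'.app P) :
    β = β' := by
  ext M
  apply (hcol A F₁ M).hom_ext
  intro i
  show F₁.map (cι A M i) ≫ β.app M = F₁.map (cι A M i) ≫ β'.app M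
  rw [β.naturality, β'.naturality, h]

end

theorem iso_of_iso_on_fp (F₁ F₂ : ModuleCat.{u} A ⥤ B)
    [PreservesFilteredColimitsOfSize.{u, u} F₁] [PreservesFilteredColimitsOfSize.{u, u} F₂]
    (e : (FP A).ι ⋙ F₁ ≅ (FP A).ι ⋙ F₂) : Nonempty (F₁ ≅ F₂) := by
  refine ⟨⟨ext A e.hom, ext A e.inv, ?_, ?_⟩⟩
  · apply nat_ext A F₁ F₁
    intro P hP
    rw [NatTrans.comp_app, ext_app, ext_app, ext_fp, ext_fp]
    show e.hom.app ⟨P, hP⟩ ≫ e.inv.app ⟨P, hP⟩ = 𝟙 _
    rw [← NatTrans.comp_app, e.hom_inv_id]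
    rfl
  · apply nat_ext A F₂ F₂
    intro P hP
    rw [NatTrans.comp_app, ext_app, ext_app, ext_fp, ext_fp]
    show e.inv.app ⟨P, hP⟩ ≫ e.hom.app ⟨P, hP⟩ = 𝟙 _
    rw [← NatTrans.comp_app, e.inv_hom_id]
    rfl

end

end Groth.Agent.Lib.Helper15.FPC15
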