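import Mathlib

set_option autoImplicit false

/-! Coherent rings: the kernel of a map between finitely presented modules is finitely
presented. -/

namespace Groth.Agent.Lib.Helper15.FPC16

universe u

/-- every f.g. submodule is f.p. -/
def Coh (A : Type u) [CommRing A] (M : Type u) [AddCommGroup M] [Module A M] : Prop :=
  ∀ N : Submodule A M, N.FG → Module.FinitePresentation A N

variable {A : Type u} [CommRing A]
variable {M M₁ M₂ : Type u} [AddCommGroup M] [Module A M] [AddCommGroup M₁] [Module A M₁]
  [AddCommGroup M₂] [Module A M₂]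

lemma Coh.of_equiv (e : M₁ ≃ₗ[A] M₂) (h : Coh A M₁) : Coh A M₂ := by
  intro N hN
  have hfg : (N.map e.symm.toLinearMap).FG := hN.map _
  haveI := h _ hfg
  exact Module.FinitePresentation.of_equiv (e.symm.submoduleMap N).symm

lemma Coh.of_ker (π : M →ₗ[A] M₂) (h2 : Coh A M₂) (hk : Coh A (LinearMap.ker π)) : Coh A M := by
  intro N hN
  haveI : Module.Finite A N := Module.Finite.iff_fg.mpr hN
  have hQ : (N.map π).FG := hN.map π
  haveI : Module.FinitePresentation A (N.map π) := h2 _ hQ
  let l : N →ₗ[A] (N.map π) :=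
    (π.comp N.subtype).codRestrict (N.map π) (fun x => Submodule.mem_map_of_mem x.2)
  have hl : Function.Surjective l := by
    rintro ⟨y, hy⟩
    obtain ⟨x, hx, rfl⟩ := hy
    exact ⟨⟨x, hx⟩, rfl⟩
  have hker : (LinearMap.ker l).FG := Module.FinitePresentation.fg_ker l hl
  have hkl : LinearMap.ker l = (N ⊓ LinearMap.ker π).comap N.subtype := by
    ext x
    rw [LinearMap.mem_ker, Submodule.mem_comap, Submodule.mem_inf, LinearMap.mem_ker]
    constructor
    · intro h
      exact ⟨x.2, congrArg Subtype.val h⟩
    · intro h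
      apply Subtype.ext
      exact h.2
  have hinf : (N ⊓ LinearMap.ker π).FG := by
    have h1 := hker.map N.subtype
    rw [hkl, Submodule.map_comap_subtype, inf_eq_right.mpr inf_le_left] at h1
    exact h1
  let K' : Submodule A (LinearMap.ker π) := (N ⊓ LinearMap.ker π).comap (LinearMap.ker π).subtype
  have hK' : K'.FG := by
    apply Submodule.fg_of_fg_map_injective (LinearMap.ker π).subtype (Submodule.subtype_injective _)
    rw [Submodule.map_comap_subtype, inf_eq_right.mpr inf_le_right]
    exact hinf
  haveI : Module.FinitePresentation A K' := hk K' hK'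
  haveI : Module.FinitePresentation A ↥(N ⊓ LinearMap.ker π) :=
    Module.FinitePresentation.of_equiv
      (Submodule.comapSubtypeEquivOfLe (inf_le_right : N ⊓ LinearMap.ker π ≤ LinearMap.ker π))
  haveI : Module.FinitePresentation A ↥((N ⊓ LinearMap.ker π).comap N.subtype) :=
    Module.FinitePresentation.of_equiv
      (Submodule.comapSubtypeEquivOfLe (inf_le_left : N ⊓ LinearMap.ker π ≤ N)).symm
  haveI : Module.FinitePresentation A (LinearMap.ker l) :=
    Module.FinitePresentation.of_equiv (LinearEquiv.ofEq _ _ hkl.symm)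
  exact Module.finitePresentation_of_ker l hl

lemma Coh.prod (h1 : Coh A M₁) (h2 : Coh A M₂) : Coh A (M₁ × M₂) := by
  apply Coh.of_ker (LinearMap.snd A M₁ M₂) h2
  have e1 : M₁ ≃ₗ[A] LinearMap.range (LinearMap.inl A M₁ M₂) :=
    LinearEquiv.ofInjective (LinearMap.inl A M₁ M₂) LinearMap.inl_injective
  have e2 : LinearMap.range (LinearMap.inl A M₁ M₂) ≃ₗ[A] LinearMap.ker (LinearMap.snd A M₁ M₂) :=
    LinearEquiv.ofEq _ _ (LinearMap.range_inl A M₁ M₂)
  exact Coh.of_equiv (e1.trans e2) h1

lemma Coh.fin (hA : Coh A A) (n : ℕ) : Coh A (Fin n → A) := by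
  induction n with
  | zero =>
    intro N _
    infer_instance
  | succ n ih =>
    exact Coh.of_equiv (Fin.consLinearEquiv A (fun _ : Fin n.succ => A)) (Coh.prod hA ih)

lemma Coh.of_fp (hA : Coh A A) (P : Type u) [AddCommGroup P] [Module A P]
    [Module.FinitePresentation A P] : Coh A P := by
  obtain ⟨n, K, e, hK⟩ := Module.FinitePresentation.exists_fin A P
  apply Coh.of_equiv e.symm
  intro N hN
  let q := K.mkQ
  let N' := N.comap q
  have hKN : K ≤ N' := fun x hx => by
    show q x ∈ N
    have : q x = 0 := (Submodule.Quotient.mk_eq_zero K).mpr hx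
    rw [this]; exact N.zero_mem
  have hN' : N'.FG := by
    apply Submodule.fg_of_fg_map_of_fg_inf_ker q
    · rw [Submodule.map_comap_eq_of_surjective (Submodule.mkQ_surjective K)]; exact hN
    · rw [Submodule.ker_mkQ, inf_eq_right.mpr hKN]; exact hK
  haveI : Module.FinitePresentation A N' := Coh.fin hA n N' hN'
  let l : N' →ₗ[A] N := (q.comp N'.subtype).codRestrict N (fun x => x.2)
  have hl : Function.Surjective l := by
    rintro ⟨y, hy⟩
    obtain ⟨x, rfl⟩ := Submodule.mkQ_surjective K y
    exact ⟨⟨x, hy⟩, rfl⟩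
  refine Module.finitePresentation_of_surjective l hl ?_
  apply Submodule.fg_of_fg_map_injective N'.subtype (Submodule.subtype_injective _)
  have : (LinearMap.ker l).map N'.subtype = K := by
    ext x
    constructor
    · rintro ⟨⟨y, hy⟩, hker, rfl⟩
      have : q y = 0 := congrArg Subtype.val (LinearMap.mem_ker.mp hker)
      exact (Submodule.Quotient.mk_eq_zero K).mp this
    · intro hx
      refine ⟨⟨x, hKN hx⟩, ?_, rfl⟩
      rw [SetLike.mem_coe, LinearMap.mem_ker]
      apply Subtype.ext
      exact (Submodule.Quotient.mk_eq_zero K).mpr hx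
  rw [this]; exact hK

theorem fp_ker (hA : Coh A A) {P Q : Type u} [AddCommGroup P] [Module A P] [AddCommGroup Q]
    [Module A Q] [Module.FinitePresentation A P] [Module.FinitePresentation A Q]
    (f : P →ₗ[A] Q) : Module.FinitePresentation A (LinearMap.ker f) := by
  have hr : (LinearMap.range f).FG := by
    rw [LinearMap.range_eq_map]
    exact Module.Finite.fg_top.map f
  haveI : Module.FinitePresentation A (LinearMap.range f) := Coh.of_fp hA Q _ hr
  have hk : (LinearMap.ker f.rangeRestrict).FG :=
    Module.FinitePresentation.fg_ker f.rangeRestrict f.surjective_rangeRestrict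
  rw [LinearMap.ker_rangeRestrict] at hk
  exact Coh.of_fp hA P _ hk

lemma coh_of_ideal (hcoh : ∀ I : Ideal A, I.FG → Module.FinitePresentation A I) : Coh A A :=
  fun N hN => hcoh N hN

end Groth.Agent.Lib.Helper15.FPC16
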