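import Mathlib
import Groth.Agent.Lib.Helper15.FPC7

set_option autoImplicit false

/-! Additivity on f.p. modules from preservation of finite limits on f.p. modules. -/

namespace Groth.Agent.Lib.Helper15.FPC17

open Groth.Agent.Lib.Helper15.FPC1 Groth.Agent.Lib.Helper15.FPC2 Groth.Agent.Lib.Helper15.FPC3
  Groth.Agent.Lib.Helper15.FPC4 Groth.Agent.Lib.Helper15.FPC5

universe u v' u'

open CategoryTheory CategoryTheory.Limits

noncomputable section

variable (A : Type u) [CommRing A] {B : Type u'} [Category.{v'} B] [Preadditive B]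
  (F' : ModuleCat.{u} A ⥤ B)

section Aux

variable {A}
variable {M X : Type u} [AddCommGroup M] [Module A M] [AddCommGroup X] [Module A X]

lemma pr3 (m : X →ₗ[A] (M × M)) (a b : X →ₗ[A] M) (h1 : ∀ x, (m x).1 = a x)
    (h2 : ∀ x, (m x).2 = b x) (x : X) : m x = LinearMap.prod a b x := by
  apply Prod.ext
  · rw [h1]; rfl
  · rw [h2]; rfl

end Aux

variable [PreservesFiniteLimits
  (ObjectProperty.ι (fun M : ModuleCat.{u} A => Module.FinitePresentation A M) ⋙ F')]

lemma map_zero_fp {M N : ModuleCat.{u} A} (hM : Module.FinitePresentation A M)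
    (hN : Module.FinitePresentation A N) : F'.map (0 : M ⟶ N) = 0 := by
  let Z : ObjectProperty (ModuleCat.{u} A) := fun M => Module.FinitePresentation A M
  let O : Z.FullSubcategory := ⟨ModuleCat.of A PUnit.{u+1}, (inferInstance :
    Module.FinitePresentation A PUnit.{u+1})⟩
  have hO : IsTerminal O := IsTerminal.ofUniqueHom (fun Y => Z.homMk 0) (by
    intro Y m
    apply ObjectProperty.hom_ext
    apply ModuleCat.hom_ext
    apply LinearMap.ext
    intro x
    exact Subsingleton.elim _ _)
  have hGO : IsTerminal ((Z.ι ⋙ F').obj O) := IsTerminal.isTerminalObj (Z.ι ⋙ F') O hO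
  have h1 : (0 : M ⟶ N) = (0 : M ⟶ O.obj) ≫ (0 : O.obj ⟶ N) := by simp
  have h2 : F'.map (0 : M ⟶ O.obj) = 0 := hGO.hom_ext _ _
  rw [h1, F'.map_comp, h2, zero_comp]

lemma map_add_fp_fp {M N : ModuleCat.{u} A} (hM : Module.FinitePresentation A M)
    (hN : Module.FinitePresentation A N) (f g : M ⟶ N) :
    F'.map (f + g) = F'.map f + F'.map g := by
  let Z : ObjectProperty (ModuleCat.{u} A) := fun M => Module.FinitePresentation A M
  let NN : ModuleCat.{u} A := ModuleCat.of A (N × N)
  have hNN : Module.FinitePresentation A NN :=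
    (inferInstance : Module.FinitePresentation A (N × N))
  let inl : N ⟶ NN := ModuleCat.ofHom (LinearMap.inl A N N)
  let inr : N ⟶ NN := ModuleCat.ofHom (LinearMap.inr A N N)
  let fst : NN ⟶ N := ModuleCat.ofHom (LinearMap.fst A N N)
  let snd : NN ⟶ N := ModuleCat.ofHom (LinearMap.snd A N N)
  let cd : NN ⟶ N := ModuleCat.ofHom (LinearMap.coprod LinearMap.id LinearMap.id)
  let pr : M ⟶ NN := ModuleCat.ofHom (LinearMap.prod f.hom g.hom)
  have e1 : inl ≫ fst = 𝟙 N := by
    apply ModuleCat.hom_ext; apply LinearMap.ext; intro x; rfl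
  have e2 : inl ≫ snd = 0 := by
    apply ModuleCat.hom_ext; apply LinearMap.ext; intro x; rfl
  have e3 : inr ≫ fst = 0 := by
    apply ModuleCat.hom_ext; apply LinearMap.ext; intro x; rfl
  have e4 : inr ≫ snd = 𝟙 N := by
    apply ModuleCat.hom_ext; apply LinearMap.ext; intro x; rfl
  have e5 : inl ≫ cd = 𝟙 N := by
    apply ModuleCat.hom_ext; apply LinearMap.ext; intro x
    show LinearMap.coprod LinearMap.id LinearMap.id ((x, 0) : N × N) = x
    simp
  have e6 : inr ≫ cd = 𝟙 N := by
    apply ModuleCat.hom_ext; apply LinearMap.ext; intro x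
    show LinearMap.coprod LinearMap.id LinearMap.id ((0, x) : N × N) = x
    simp
  have e7 : pr ≫ fst = f := by
    apply ModuleCat.hom_ext; apply LinearMap.ext; intro x; rfl
  have e8 : pr ≫ snd = g := by
    apply ModuleCat.hom_ext; apply LinearMap.ext; intro x; rfl
  have e9 : f + g = pr ≫ cd := by
    apply ModuleCat.hom_ext; apply LinearMap.ext; intro x
    show f.hom x + g.hom x = LinearMap.coprod LinearMap.id LinearMap.id ((f.hom x, g.hom x) : N × N)
    simp
  let No : Z.FullSubcategory := ⟨N, hN⟩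
  let NNo : Z.FullSubcategory := ⟨NN, hNN⟩
  have hc : IsLimit (BinaryFan.mk (Z.homMk fst : NNo ⟶ No) (Z.homMk snd : NNo ⟶ No)) :=
    BinaryFan.isLimitMk
      (fun s => Z.homMk (ModuleCat.ofHom (LinearMap.prod s.fst.hom.hom s.snd.hom.hom)))
      (fun s => by
        apply ObjectProperty.hom_ext
        apply ModuleCat.hom_ext; apply LinearMap.ext; intro x
        rfl)
      (fun s => by
        apply ObjectProperty.hom_ext
        apply ModuleCat.hom_ext; apply LinearMap.ext; intro x
        rfl)
      (fun s m h1 h2 => by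
        apply ObjectProperty.hom_ext
        apply ModuleCat.hom_ext; apply LinearMap.ext; intro x
        refine pr3 _ _ _ ?_ ?_ x
        · intro x
          rw [← h1]; rfl
        · intro y
          rw [← h2]; rfl)
  have hGc := isLimitOfPreserves (Z.ι ⋙ F') hc
  have hz := fun {X Y : ModuleCat.{u} A} (hX : Module.FinitePresentation A X)
    (hY : Module.FinitePresentation A Y) => map_zero_fp A F' hX hY
  have k1 : F'.map inl ≫ F'.map fst = 𝟙 _ := by rw [← F'.map_comp, e1, F'.map_id]
  have k2 : F'.map inl ≫ F'.map snd = 0 := by rw [← F'.map_comp, e2, hz hN hN]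
  have k3 : F'.map inr ≫ F'.map fst = 0 := by rw [← F'.map_comp, e3, hz hN hN]
  have k4 : F'.map inr ≫ F'.map snd = 𝟙 _ := by rw [← F'.map_comp, e4, F'.map_id]
  have k5 : F'.map inl ≫ F'.map cd = 𝟙 _ := by rw [← F'.map_comp, e5, F'.map_id]
  have k6 : F'.map inr ≫ F'.map cd = 𝟙 _ := by rw [← F'.map_comp, e6, F'.map_id]
  have hid : F'.map fst ≫ F'.map inl + F'.map snd ≫ F'.map inr = 𝟙 (F'.obj NN) := by
    apply hGc.hom_ext
    rintro ⟨_ | _⟩
    · show (F'.map fst ≫ F'.map inl + F'.map snd ≫ F'.map inr) ≫ F'.map fst =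
        𝟙 (F'.obj NN) ≫ F'.map fst
      rw [Preadditive.add_comp, Category.assoc, Category.assoc, k1, k3, comp_zero, add_zero,
        Category.comp_id, Category.id_comp]
    · show (F'.map fst ≫ F'.map inl + F'.map snd ≫ F'.map inr) ≫ F'.map snd =
        𝟙 (F'.obj NN) ≫ F'.map snd
      rw [Preadditive.add_comp, Category.assoc, Category.assoc, k2, k4, comp_zero, zero_add,
        Category.comp_id, Category.id_comp]
  have hcd : F'.map cd = F'.map fst + F'.map snd := by
    calc F'.map cd = 𝟙 _ ≫ F'.map cd := (Category.id_comp _).symm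
      _ = (F'.map fst ≫ F'.map inl + F'.map snd ≫ F'.map inr) ≫ F'.map cd := by rw [hid]
      _ = F'.map fst + F'.map snd := by
        rw [Preadditive.add_comp, Category.assoc, Category.assoc, k5, k6, Category.comp_id,
          Category.comp_id]
  rw [e9, F'.map_comp, hcd, Preadditive.comp_add, ← F'.map_comp, ← F'.map_comp, e7, e8]

end

end Groth.Agent.Lib.Helper15.FPC17
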