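import Mathlib

set_option autoImplicit false

/-! If filtered colimits commute with kernels, a functor on modules commuting with filtered
colimits preserves the kernel of a filtered colimit of maps whose kernels it preserves. -/

namespace Groth.Agent.Lib.Helper15.FPC18

universe u v' u' w

open CategoryTheory CategoryTheory.Limits

noncomputable section

section Transport

variable {C : Type*} [Category C] [Preadditive C]

/-- transport of kernels across isomorphisms of arrows -/
def kernelTransport {K X Y W U V : C} (k : K ⟶ X) (f : X ⟶ Y) (w : k ≫ f = 0)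
    (κ : W ⟶ U) (g : U ⟶ V) (wκ : κ ≫ g = 0) (hκ : IsLimit (KernelFork.ofι κ wκ))
    (a : K ≅ W) (b : X ≅ U) (c : Y ≅ V)
    (h1 : k ≫ b.hom = a.hom ≫ κ) (h2 : f ≫ c.hom = b.hom ≫ g) :
    IsLimit (KernelFork.ofι k w) := by
  haveI : Mono κ := mono_of_isLimit_fork hκ
  have hk : k = a.hom ≫ κ ≫ b.inv := by
    rw [← Category.assoc, ← h1, Category.assoc, b.hom_inv_id, Category.comp_id]
  haveI : Mono k := by
    rw [hk]; infer_instance
  apply KernelFork.IsLimit.ofι'
  intro T t ht
  have h3 : (t ≫ b.hom) ≫ g = 0 := by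
    rw [Category.assoc, ← h2, ← Category.assoc, ht, zero_comp]
  obtain ⟨l₀, hl₀⟩ := KernelFork.IsLimit.lift' hκ (t ≫ b.hom) h3
  have hl₀' : l₀ ≫ κ = t ≫ b.hom := hl₀
  refine ⟨l₀ ≫ a.inv, ?_⟩
  rw [hk, Category.assoc, a.inv_hom_id_assoc, ← Category.assoc, hl₀', Category.assoc,
    b.hom_inv_id, Category.comp_id]

end Transport

section Colim

variable {C : Type u'} [Category.{v'} C] [Preadditive C] {J : Type u} [SmallCategory J]
  [HasColimitsOfShape J C]

instance colim_pzm : (colim : (J ⥤ C) ⥤ C).PreservesZeroMorphisms where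
  map_zero X Y := by
    apply colimit.hom_ext
    intro j
    simp

/-- a kernel fork in a functor category is limit if it is so pointwise -/
def isLimitOfEval {X Y K : J ⥤ C} (φ : X ⟶ Y) (κ : K ⟶ X) (w : κ ≫ φ = 0)
    (h : ∀ j, IsLimit (KernelFork.ofι (κ.app j)
      (by rw [← NatTrans.comp_app, w]; rfl) : KernelFork (φ.app j))) :
    IsLimit (KernelFork.ofι κ w) := by
  apply evaluationJointlyReflectsLimits
  intro j
  exact (isLimitMapConeForkEquiv' ((evaluation J C).obj j) w).symm (h j)

end Colim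

section GenL

variable {A : Type u} [CommRing A] {B : Type u'} [Category.{v'} B] [Preadditive B]
  [HasFilteredColimitsOfSize.{u, u} B]
  (hcomm : ∀ (J : Type u) [SmallCategory J] [IsFiltered J],
      PreservesLimitsOfShape WalkingParallelPair (colim : (J ⥤ B) ⥤ B))
  (F' : ModuleCat.{u} A ⥤ B) [F'.PreservesZeroMorphisms] [PreservesFilteredColimitsOfSize.{u, u} F']

include hcomm in
theorem genLemma {J : Type u} [SmallCategory J] [IsFiltered J] {Xm Ym : J ⥤ ModuleCat.{u} A}
    (φ : Xm ⟶ Ym) (H : ∀ j, PreservesLimit (parallelPair (φ.app j) 0) F')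
    {cX : Cocone Xm} (hcX : IsColimit cX) {cY : Cocone Ym} (hcY : IsColimit cY)
    (f : cX.pt ⟶ cY.pt) (hf : ∀ j, cX.ι.app j ≫ f = φ.app j ≫ cY.ι.app j) :
    PreservesLimit (parallelPair f 0) F' := by
  haveI := hcomm J
  haveI : PreservesColimitsOfShape J F' :=
    PreservesFilteredColimitsOfSize.preserves_filtered_colimits _
  haveI : PreservesFiniteLimits (colim : (J ⥤ ModuleCat.{u} A) ⥤ ModuleCat.{u} A) :=
    HasExactColimitsOfShape.preservesFiniteLimits
  let κ : kernel φ ⟶ Xm := kernel.ι φ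
  have wκ : κ ≫ φ = 0 := kernel.condition φ
  have hκ : IsLimit (KernelFork.ofι κ wκ) := kernelIsKernel φ
  have hmod : IsLimit ((KernelFork.ofι κ wκ).map colim) := KernelFork.mapIsLimit _ hκ colim
  let eX : cX.pt ≅ colimit Xm := hcX.coconePointUniqueUpToIso (colimit.isColimit Xm)
  let eY : cY.pt ≅ colimit Ym := hcY.coconePointUniqueUpToIso (colimit.isColimit Ym)
  have sq : f ≫ eY.hom = eX.hom ≫ colim.map φ := by
    apply hcX.hom_ext
    intro j
    rw [← Category.assoc, hf, Category.assoc]
    simp [eX, eY]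
  let k : colimit (kernel φ) ⟶ cX.pt := colim.map κ ≫ eX.inv
  have wk0 : colim.map κ ≫ colim.map φ = 0 := by
    rw [← Functor.map_comp, wκ, Functor.map_zero]
  have wk : k ≫ f = 0 := by
    have : f = eX.hom ≫ colim.map φ ≫ eY.inv := by
      rw [← Category.assoc, ← sq, Category.assoc, eY.hom_inv_id, Category.comp_id]
    rw [this]
    simp only [k, Category.assoc, Iso.inv_hom_id_assoc]
    rw [← Category.assoc, wk0, zero_comp]
  have hk : IsLimit (KernelFork.ofι k wk) :=
    kernelTransport k f wk (colim.map κ) (colim.map φ) wk0 hmod (Iso.refl _) eX eY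
      (by simp [k]) sq
  apply preservesLimit_of_preserves_limit_cone hk
  refine (isLimitMapConeForkEquiv' F' wk).symm ?_
  -- B side
  let φ' : Xm ⋙ F' ⟶ Ym ⋙ F' := Functor.whiskerRight φ F'
  let κ' : kernel φ ⋙ F' ⟶ Xm ⋙ F' := Functor.whiskerRight κ F'
  have wκ' : κ' ≫ φ' = 0 := by
    ext j
    show F'.map (κ.app j) ≫ F'.map (φ.app j) = 0
    rw [← F'.map_comp, ← NatTrans.comp_app, wκ]
    simp
  have hκ' : IsLimit (KernelFork.ofι κ' wκ') := isLimitOfEval φ' κ' wκ' (fun j => by
    have h1 := KernelFork.mapIsLimit _ hκ ((evaluation J (ModuleCat.{u} A)).obj j)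
    haveI : PreservesLimit
        (parallelPair (((evaluation J (ModuleCat.{u} A)).obj j).map φ) 0) F' := H j
    exact KernelFork.mapIsLimit _ h1 F')
  have hB : IsLimit ((KernelFork.ofι κ' wκ').map colim) := KernelFork.mapIsLimit _ hκ' colim
  let nat := preservesColimitNatIso (J := J) F'
  have wB : colim.map κ' ≫ colim.map φ' = 0 := by
    rw [← Functor.map_comp, wκ', Functor.map_zero]
  have hB' : IsLimit (KernelFork.ofι (colim.map κ') wB) := hB
  refine kernelTransport (F'.map k) (F'.map f) _ (colim.map κ') (colim.map φ') wB hB'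
     (nat.app (kernel φ)) (F'.mapIso eX ≪≫ nat.app Xm) (F'.mapIso eY ≪≫ nat.app Ym) ?_ ?_
  · have h := nat.hom.naturality κ
    have h' : F'.map (colim.map κ) ≫ (nat.app Xm).hom = (nat.app (kernel φ)).hom ≫ colim.map κ' := h
    have : F'.map k ≫ F'.map eX.hom = F'.map (colim.map κ) := by
      rw [← F'.map_comp]
      simp [k]
    show F'.map k ≫ (F'.map eX.hom ≫ (nat.app Xm).hom) = _
    rw [← Category.assoc, this, h']
  · have h := nat.hom.naturality φ
    have h' : F'.map (colim.map φ) ≫ (nat.app Ym).hom = (nat.app Xm).hom ≫ colim.map φ' := h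
    show F'.map f ≫ (F'.map eY.hom ≫ (nat.app Ym).hom) =
      (F'.map eX.hom ≫ (nat.app Xm).hom) ≫ colim.map φ'
    rw [← Category.assoc, ← F'.map_comp, sq, F'.map_comp, Category.assoc, Category.assoc, h']

end GenL

end

end Groth.Agent.Lib.Helper15.FPC18
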