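import Mathlib
import Groth.Agent.Lib.Helper15.FPC15
import Groth.Agent.Lib.Helper15.FPC16
import Groth.Agent.Lib.Helper15.FPC17
import Groth.Agent.Lib.Helper15.FPC18

set_option autoImplicit false

/-! Over a coherent ring: a functor commuting with filtered colimits which is left exact on f.p.
modules preserves all kernels, provided filtered colimits commute with kernels in the target. -/

namespace Groth.Agent.Lib.Helper15.FPC19

open Groth.Agent.Lib.Helper15.FPC1 Groth.Agent.Lib.Helper15.FPC2 Groth.Agent.Lib.Helper15.FPC3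
  Groth.Agent.Lib.Helper15.FPC4 Groth.Agent.Lib.Helper15.FPC5 Groth.Agent.Lib.Helper15.FPC12

universe u v' u'

open CategoryTheory CategoryTheory.Limits

noncomputable section

variable (A : Type u) [CommRing A] (hA : FPC16.Coh A A)
  {B : Type u'} [Category.{v'} B] [Preadditive B]
  (F' : ModuleCat.{u} A ⥤ B) [F'.Additive]
  [PreservesFiniteLimits (ObjectProperty.ι (fun M : ModuleCat.{u} A =>
    Module.FinitePresentation A M) ⋙ F')]

include hA in
/-- kernels of maps between f.p. modules are preserved -/
theorem preservesKernel_fp {P Q : ModuleCat.{u} A} [hP : Module.FinitePresentation A P]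
    [hQ : Module.FinitePresentation A Q] (f : P ⟶ Q) :
    PreservesLimit (parallelPair f 0) F' := by
  haveI hK : Module.FinitePresentation A (LinearMap.ker f.hom) := FPC16.fp_ker hA f.hom
  let Kf : ModuleCat.{u} A := ModuleCat.of A (LinearMap.ker f.hom)
  let k : Kf ⟶ P := ModuleCat.ofHom (LinearMap.ker f.hom).subtype
  have wk : k ≫ f = 0 := (ModuleCat.kernelCone f).condition
  have hk : IsLimit (KernelFork.ofι k wk) := ModuleCat.kernelIsLimit f
  let Ko : (FP A).FullSubcategory := ⟨Kf, hK⟩
  let Po : (FP A).FullSubcategory := ⟨P, hP⟩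
  let Qo : (FP A).FullSubcategory := ⟨Q, hQ⟩
  let ko : Ko ⟶ Po := ObjectProperty.homMk k
  let fo : Po ⟶ Qo := ObjectProperty.homMk f
  have wo : ko ≫ fo = 0 := by
    apply ObjectProperty.hom_ext
    exact wk
  have ho : IsLimit (KernelFork.ofι ko wo) := by
    apply isLimitOfReflects (FP A).ι
    exact (isLimitMapConeForkEquiv' (FP A).ι wo).symm hk
  have h1 : IsLimit (((FP A).ι ⋙ F').mapCone (KernelFork.ofι ko wo)) :=
    isLimitOfPreserves ((FP A).ι ⋙ F') ho
  have h2 := isLimitMapConeForkEquiv' ((FP A).ι ⋙ F') wo h1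
  apply preservesLimit_of_preserves_limit_cone hk
  refine (isLimitMapConeForkEquiv' F' wk).symm ?_
  exact h2

variable [HasFilteredColimitsOfSize.{u, u} B]
  (hcomm : ∀ (J : Type u) [SmallCategory J] [IsFiltered J],
      PreservesLimitsOfShape WalkingParallelPair (colim : (J ⥤ B) ⥤ B))
  [PreservesFilteredColimitsOfSize.{u, u} F']

include hA hcomm in
/-- kernels of maps out of a f.p. module are preserved -/
theorem preservesKernel_of_fp {P N : ModuleCat.{u} A} [hP : Module.FinitePresentation A P]
    (f : P ⟶ N) : PreservesLimit (parallelPair f 0) F' := by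
  obtain ⟨j₀, f₀', hf₀'⟩ := exists_factor (A := A) (M := N) (P := P) f.hom
  let f₀ : P ⟶ (diag A N).obj j₀ := ModuleCat.ofHom f₀'
  have hf₀ : f₀ ≫ cι A N j₀ = f := by
    apply ModuleCat.hom_ext; exact hf₀'
  let J := Under j₀
  let Xm : J ⥤ ModuleCat.{u} A := (Functor.const J).obj P
  let Ym : J ⥤ ModuleCat.{u} A := Under.forget j₀ ⋙ diag A N
  let φ : Xm ⟶ Ym :=
    { app := fun j => f₀ ≫ (diag A N).map j.hom
      naturality := by
        intro j j' e
        show 𝟙 P ≫ f₀ ≫ (diag A N).map j'.hom =
          (f₀ ≫ (diag A N).map j.hom) ≫ (diag A N).map e.right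
        rw [Category.id_comp, Category.assoc, ← (diag A N).map_comp]
        congr 2 }
  haveI : IsConnected J := IsFiltered.isConnected J
  let cX : Cocone Xm := constCocone J P
  have hcX : IsColimit cX := isColimitConstCocone J P
  let cY : Cocone Ym := (cocone A N).whisker (Under.forget j₀)
  have hcY : IsColimit cY :=
    (Functor.Final.isColimitWhiskerEquiv (Under.forget j₀) _).symm (isColimit A N)
  refine FPC18.genLemma hcomm F' φ (fun j => ?_) hcX hcY f (fun j => ?_)
  · exact preservesKernel_fp A hA F' (P := P) (Q := (diag A N).obj j.right) (hP := hP)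
      (φ.app j)
  · show 𝟙 P ≫ f = (f₀ ≫ (diag A N).map j.hom) ≫ cι A N j.right
    rw [Category.id_comp, Category.assoc]
    have : (diag A N).map j.hom ≫ cι A N j.right = cι A N j₀ := (cocone A N).w j.hom
    rw [this, hf₀]

include hA hcomm in
/-- all kernels are preserved -/
theorem preservesKernel {M N : ModuleCat.{u} A} (f : M ⟶ N) :
    PreservesLimit (parallelPair f 0) F' := by
  let J := Idx A M
  let Xm : J ⥤ ModuleCat.{u} A := diag A M
  let Ym : J ⥤ ModuleCat.{u} A := (Functor.const J).obj N
  let φ : Xm ⟶ Ym :=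
    { app := fun i => cι A M i ≫ f
      naturality := by
        intro i i' e
        show (diag A M).map e ≫ cι A M i' ≫ f = (cι A M i ≫ f) ≫ 𝟙 N
        rw [Category.comp_id, ← Category.assoc]
        congr 1
        exact (cocone A M).w e }
  haveI : IsConnected J := IsFiltered.isConnected J
  let cY : Cocone Ym := constCocone J N
  have hcY : IsColimit cY := isColimitConstCocone J N
  refine FPC18.genLemma hcomm F' φ (fun i => ?_) (isColimit A M) hcY f (fun i => ?_)
  · exact preservesKernel_of_fp A hA F' hcomm (P := (diag A M).obj i) (N := N) (φ.app i)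
  · show cι A M i ≫ f = (cι A M i ≫ f) ≫ 𝟙 N
    rw [Category.comp_id]

end

end Groth.Agent.Lib.Helper15.FPC19
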