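import Mathlib

set_option autoImplicit false

/-! A functor preserving finite coproducts and filtered colimits preserves all coproducts. -/

namespace Groth.Agent.Lib.Helper15.FPC6

universe w v₁ v₂ u₁ u₂

open CategoryTheory CategoryTheory.Limits CategoryTheory.Limits.CoproductsFromFiniteFiltered

noncomputable section

variable {C : Type u₁} [Category.{v₁} C] {D : Type u₂} [Category.{v₂} D] (F : C ⥤ D)
  {α : Type w} [HasFiniteCoproducts C] [HasColimitsOfShape (Finset (Discrete α)) C]
  (f : α → C) [HasCoproduct f]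
  [PreservesFiniteCoproducts F] [PreservesColimitsOfShape (Finset (Discrete α)) F]

/-- the family over a finite subset -/
abbrev famS (S : Finset (Discrete α)) : S → C := fun x => f x.1.as

abbrev TS (S : Finset (Discrete α)) : C := ∐ famS f S

/-- transition maps, with clean types -/
def tmap {S S' : Finset (Discrete α)} (h : S ⟶ S') : TS f S ⟶ TS f S' :=
  (liftToFinsetObj (Discrete.functor f)).map h

omit [HasColimitsOfShape (Finset (Discrete α)) C] [HasCoproduct f] in
lemma ι_tmap {S S' : Finset (Discrete α)} (h : S ⟶ S') (x : S) :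
    Sigma.ι (famS f S) x ≫ tmap f h = Sigma.ι (famS f S') ⟨x.1, h.down.down x.2⟩ := by
  unfold tmap
  exact Sigma.ι_desc _ _

/-- the cocone legs, with clean types -/
def cS (S : Finset (Discrete α)) : TS f S ⟶ ∐ f := (finiteSubcoproductsCocone f).ι.app S

omit [HasColimitsOfShape (Finset (Discrete α)) C] in
lemma ι_cS (S : Finset (Discrete α)) (x : S) :
    Sigma.ι (famS f S) x ≫ cS f S = Sigma.ι f x.1.as := by
  unfold cS
  exact Sigma.ι_desc _ _

omit [HasColimitsOfShape (Finset (Discrete α)) C] in
lemma tmap_cS {S S' : Finset (Discrete α)} (h : S ⟶ S') : tmap f h ≫ cS f S' = cS f S :=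
  (finiteSubcoproductsCocone f).w h

/-- the image under `F` of the finite coproduct cofan is a colimit -/
def hFS (S : Finset (Discrete α)) :
    IsColimit (Cofan.mk (F.obj (TS f S)) (fun x : S => F.map (Sigma.ι (famS f S) x)) :
      Cofan fun x : S => F.obj (famS f S x)) :=
  isColimitOfHasCoproductOfPreservesColimit F (famS f S)

variable (s : Cofan fun a : α => F.obj (f a))

def legS (S : Finset (Discrete α)) : F.obj (TS f S) ⟶ s.pt :=
  Cofan.IsColimit.desc (hFS F f S) (fun x : S => s.inj x.1.as)

omit [HasColimitsOfShape (Finset (Discrete α)) C] [HasCoproduct f]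
  [PreservesColimitsOfShape (Finset (Discrete α)) F] in
lemma ι_legS (S : Finset (Discrete α)) (x : S) :
    F.map (Sigma.ι (famS f S) x) ≫ legS F f s S = s.inj x.1.as :=
  Cofan.IsColimit.fac (hFS F f S) (fun x : S => s.inj x.1.as) x

omit [HasColimitsOfShape (Finset (Discrete α)) C] [HasCoproduct f]
  [PreservesColimitsOfShape (Finset (Discrete α)) F] in
lemma legS_ext (S : Finset (Discrete α)) {X : D} (a b : F.obj (TS f S) ⟶ X)
    (h : ∀ x : S, F.map (Sigma.ι (famS f S) x) ≫ a = F.map (Sigma.ι (famS f S) x) ≫ b) : a = b :=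
  Cofan.IsColimit.hom_ext (hFS F f S) a b h

omit [HasColimitsOfShape (Finset (Discrete α)) C] [HasCoproduct f]
  [PreservesColimitsOfShape (Finset (Discrete α)) F] in
lemma tmap_legS {S S' : Finset (Discrete α)} (h : S ⟶ S') :
    F.map (tmap f h) ≫ legS F f s S' = legS F f s S := by
  apply legS_ext F f S
  intro x
  rw [← Category.assoc, ← F.map_comp, ι_tmap, ι_legS, ι_legS]

def coconeT : Cocone (liftToFinsetObj (Discrete.functor f) ⋙ F) where
  pt := s.pt
  ι :=
    { app := fun S => legS F f s S
      naturality := by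
        intro S S' h
        exact (tmap_legS F f s h).trans (Category.comp_id (legS F f s S)).symm }

def hFc : IsColimit (F.mapCocone (finiteSubcoproductsCocone f)) :=
  isColimitOfPreserves F (isColimitFiniteSubproductsCocone f)

def descS : F.obj (∐ f) ⟶ s.pt := (hFc F f).desc (coconeT F f s)

lemma fac_S (S : Finset (Discrete α)) : F.map (cS f S) ≫ descS F f s = legS F f s S :=
  (hFc F f).fac (coconeT F f s) S

lemma fac_one (a : α) : F.map (Sigma.ι f a) ≫ descS F f s = s.inj a := by
  let S0 : Finset (Discrete α) := {⟨a⟩}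
  let x0 : S0 := ⟨⟨a⟩, Finset.mem_singleton_self _⟩
  have h1 : Sigma.ι f a = Sigma.ι (famS f S0) x0 ≫ cS f S0 := (ι_cS f S0 x0).symm
  rw [h1, F.map_comp, Category.assoc, fac_S, ι_legS]

lemma descS_uniq (m : F.obj (∐ f) ⟶ s.pt) (hm : ∀ a, F.map (Sigma.ι f a) ≫ m = s.inj a) :
    m = descS F f s := by
  apply (hFc F f).hom_ext
  intro S
  show F.map (cS f S) ≫ m = F.map (cS f S) ≫ descS F f s
  rw [fac_S]
  apply legS_ext F f S
  intro x
  rw [ι_legS, ← Category.assoc, ← F.map_comp, ι_cS]
  exact hm x.1.as

def isColimitCofan :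
    IsColimit (Cofan.mk (F.obj (∐ f)) (fun a => F.map (Sigma.ι f a)) :
      Cofan fun a : α => F.obj (f a)) :=
  Cofan.IsColimit.mk _ (fun s => descS F f s) (fun s a => fac_one F f s a)
    (fun s m hm => descS_uniq F f s m hm)

theorem preservesColimit_discrete : PreservesColimit (Discrete.functor f) F :=
  preservesColimit_of_preserves_colimit_cocone (coproductIsCoproduct f)
    ((isColimitMapCoconeCofanMkEquiv F f (Sigma.ι f)).symm (isColimitCofan F f))

end

end Groth.Agent.Lib.Helper15.FPC6
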