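import Mathlib
import Groth.Prelude.Def_PBC
import Groth.Agent.Lib.Helper4.IndEtColim
import Groth.Agent.Lib.Helper4.IndEtGen
import Groth.Agent.Lib.Helper10.IndEtale

/-!
# Descending matrix units from a flat ind-étale algebra to an étale algebra
-/

set_option autoImplicit false
set_option linter.style.haveILetI false
universe u w

open scoped TensorProduct
open CategoryTheory CategoryTheory.Limits

namespace Groth.Agent.Lib.Helper15.FRDescent

section basic

variable {S : Type u} [CommRing S] (A : Type w) [Ring A] [Algebra S A]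

/-- base change of the coefficient algebra -/
noncomputable abbrev bc {U U' : Type*} [CommRing U] [Algebra S U] [CommRing U'] [Algebra S U']
    (a : U →ₐ[S] U') : U ⊗[S] A →ₐ[S] U' ⊗[S] A :=
  Algebra.TensorProduct.map a (AlgHom.id S A)

theorem bc_tmul {U U' : Type*} [CommRing U] [Algebra S U] [CommRing U'] [Algebra S U']
    (a : U →ₐ[S] U') (x : U) (y : A) : bc A a (x ⊗ₜ y) = a x ⊗ₜ y := by
  simp [bc]

theorem bc_comp_apply {U U' U'' : Type*} [CommRing U] [Algebra S U] [CommRing U'] [Algebra S U']
    [CommRing U''] [Algebra S U''] (a : U →ₐ[S] U') (a' : U' →ₐ[S] U'') (x : U ⊗[S] A) :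
    bc A (a'.comp a) x = bc A a' (bc A a x) := by
  induction x using TensorProduct.induction_on with
  | zero => simp
  | tmul x y => simp [bc]
  | add x y hx hy => simp only [map_add, hx, hy]

/-- finitely many elements of `H ⊗ A` come from a polynomial algebra -/
theorem exists_lift_family {H : Type u} [CommRing H] [Algebra S H] {ι : Type} [Finite ι]
    (ys : ι → H ⊗[S] A) :
    ∃ (U : Type u) (_ : CommRing U) (_ : Algebra S U) (_ : Algebra.FinitePresentation S U)
      (g : U →ₐ[S] H) (xs : ι → U ⊗[S] A), ∀ i, bc A g (xs i) = ys i := by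
  classical
  haveI := Fintype.ofFinite ι
  choose F hF using fun i => TensorProduct.exists_finset (ys i)
  let σ := Σ i, ↥(F i)
  let N := Fintype.card σ
  let e : σ ≃ Fin N := Fintype.equivFin σ
  let g : MvPolynomial (Fin N) S →ₐ[S] H := MvPolynomial.aeval (fun t => (e.symm t).2.1.1)
  refine ⟨MvPolynomial (Fin N) S, inferInstance, inferInstance, inferInstance, g,
    fun i => ∑ p : ↥(F i), (MvPolynomial.X (e ⟨i, p⟩) : MvPolynomial (Fin N) S) ⊗ₜ[S] p.1.2, ?_⟩
  intro i
  rw [map_sum, hF i, ← Finset.sum_coe_sort (F i)]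
  refine Finset.sum_congr rfl fun p _ => ?_
  rw [bc_tmul]
  simp only [g, MvPolynomial.aeval_X]
  rw [e.symm_apply_apply]

variable {H : Type u} [CommRing H] [Algebra S H] [Module.Flat S H]

/-- killing one element of the kernel of `U ⊗ A → H ⊗ A` by a finitely presented algebra -/
theorem exists_kill_one (U : Type u) [CommRing U] [Algebra S U] [Algebra.FinitePresentation S U]
    (g : U →ₐ[S] H) (x : U ⊗[S] A) (hx : bc A g x = 0) :
    ∃ (U' : Type u) (_ : CommRing U') (_ : Algebra S U') (_ : Algebra.FinitePresentation S U')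
      (a : U →ₐ[S] U') (g' : U' →ₐ[S] H), g'.comp a = g ∧ bc A a x = 0 := by
  classical
  obtain ⟨F, hF⟩ := TensorProduct.exists_finset x
  let ι := ↥F
  let m : ι → A := fun p => p.1.2
  let nH : ι → H := fun p => g p.1.1
  have hsum : ∑ i, m i ⊗ₜ[S] nH i = (0 : A ⊗[S] H) := by
    have h1 := congrArg (TensorProduct.comm S H A) hx
    rw [hF, map_sum, map_sum, map_zero] at h1
    rw [← h1, ← Finset.sum_coe_sort F]
    refine Finset.sum_congr rfl fun p _ => ?_
    rw [bc_tmul, TensorProduct.comm_tmul]
  have hinj : Function.Injective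
      (LinearMap.rTensor H (Submodule.span S (Set.range m)).subtype) :=
    Module.Flat.rTensor_preserves_injective_linearMap _ (Submodule.injective_subtype _)
  obtain ⟨k, c, y, hy, hc⟩ :=
    TensorProduct.vanishesTrivially_of_sum_tmul_eq_zero_of_rTensor_injective S hinj hsum
  -- the new algebra
  let rel : ι → MvPolynomial (Fin k) U := fun i =>
    MvPolynomial.C (i.1.1) - ∑ j, MvPolynomial.C (algebraMap S U (c i j)) * MvPolynomial.X j
  let I : Ideal (MvPolynomial (Fin k) U) := Ideal.span (Set.range rel)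
  have hIfg : I.FG := Submodule.fg_span (Set.finite_range rel)
  haveI h2 : Algebra.FinitePresentation U (MvPolynomial (Fin k) U ⧸ I) := Algebra.FinitePresentation.quotient hIfg
  haveI h3 : Algebra.FinitePresentation S (MvPolynomial (Fin k) U ⧸ I) := Algebra.FinitePresentation.trans S U (MvPolynomial (Fin k) U ⧸ I)
  let a : U →ₐ[S] MvPolynomial (Fin k) U ⧸ I := (Ideal.Quotient.mkₐ S I).comp (IsScalarTower.toAlgHom S U (MvPolynomial (Fin k) U))
  let G₀ : MvPolynomial (Fin k) U →+* H := MvPolynomial.eval₂Hom (g : U →+* H) y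
  have hG₀ : ∀ i, G₀ (rel i) = 0 := by
    intro i
    have h1 : G₀ (rel i) = g i.1.1 - ∑ j, g (algebraMap S U (c i j)) * y j := by
      simp only [G₀, rel, map_sub, map_sum, map_mul]
      rw [MvPolynomial.eval₂Hom_C]
      congr 1
      refine Finset.sum_congr rfl fun j _ => ?_
      rw [MvPolynomial.eval₂Hom_C, MvPolynomial.eval₂Hom_X']
      rfl
    rw [h1, sub_eq_zero]
    have h2 := hy i
    simp only [nH] at h2
    rw [h2]
    refine Finset.sum_congr rfl fun j _ => ?_
    rw [AlgHom.commutes, Algebra.smul_def]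
  let G : MvPolynomial (Fin k) U →ₐ[S] H :=
    { G₀ with
      commutes' := fun s => by
        change G₀ (algebraMap S (MvPolynomial (Fin k) U) s) = _
        rw [IsScalarTower.algebraMap_apply S U (MvPolynomial (Fin k) U), MvPolynomial.algebraMap_eq]
        rw [MvPolynomial.eval₂Hom_C]
        exact g.commutes s }
  have hGI : ∀ z ∈ I, G z = 0 := by
    intro z hz
    have hle : I ≤ RingHom.ker G₀ := by
      rw [Ideal.span_le]
      rintro _ ⟨i, rfl⟩
      exact hG₀ i
    exact hle hz
  let g' : MvPolynomial (Fin k) U ⧸ I →ₐ[S] H := Ideal.Quotient.liftₐ I G hGI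
  refine ⟨MvPolynomial (Fin k) U ⧸ I, inferInstance, inferInstance, h3, a, g', ?_, ?_⟩
  · refine AlgHom.ext fun u => ?_
    change G₀ (MvPolynomial.C u) = g u
    rw [MvPolynomial.eval₂Hom_C]
    rfl
  · let ξ : Fin k → MvPolynomial (Fin k) U ⧸ I := fun j => Ideal.Quotient.mk I (MvPolynomial.X j)
    have ha : ∀ i : ι, a i.1.1 = ∑ j, c i j • ξ j := by
      intro i
      have h1 : Ideal.Quotient.mk I (rel i) = 0 :=
        Ideal.Quotient.eq_zero_iff_mem.mpr (Ideal.subset_span ⟨i, rfl⟩)
      have h2 : a i.1.1 = Ideal.Quotient.mk I (MvPolynomial.C i.1.1) := rfl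
      rw [h2]
      simp only [rel, map_sub, sub_eq_zero] at h1
      rw [h1, map_sum]
      refine Finset.sum_congr rfl fun j _ => ?_
      rw [map_mul]
      exact (Algebra.smul_def (c i j) (ξ j)).symm
    calc bc A a x = ∑ i : ι, a i.1.1 ⊗ₜ[S] m i := by
          rw [hF, map_sum, ← Finset.sum_coe_sort F]
          refine Finset.sum_congr rfl fun p _ => ?_
          rw [bc_tmul]
      _ = ∑ i : ι, ∑ j, (c i j • ξ j) ⊗ₜ[S] m i := by
          refine Finset.sum_congr rfl fun i _ => ?_
          rw [ha, TensorProduct.sum_tmul]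
      _ = ∑ j, ∑ i : ι, ξ j ⊗ₜ[S] (c i j • m i) := by
          rw [Finset.sum_comm]
          refine Finset.sum_congr rfl fun j _ => Finset.sum_congr rfl fun i _ => ?_
          rw [TensorProduct.smul_tmul]
      _ = ∑ j, ξ j ⊗ₜ[S] (∑ i : ι, c i j • m i) := by
          refine Finset.sum_congr rfl fun j _ => ?_
          rw [TensorProduct.tmul_sum]
      _ = 0 := by
          refine Finset.sum_eq_zero fun j _ => ?_
          rw [hc j, TensorProduct.tmul_zero]

/-- killing a finite family -/
theorem exists_kill_family : ∀ (ι : Type) [Finite ι] (U : Type u) [CommRing U] [Algebra S U]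
    [Algebra.FinitePresentation S U] (g : U →ₐ[S] H) (xs : ι → U ⊗[S] A),
    (∀ i, bc A g (xs i) = 0) →
    ∃ (U' : Type u) (_ : CommRing U') (_ : Algebra S U') (_ : Algebra.FinitePresentation S U')
      (a : U →ₐ[S] U') (g' : U' →ₐ[S] H), g'.comp a = g ∧ ∀ i, bc A a (xs i) = 0 := by
  intro ι _
  refine Finite.induction_empty_option
    (P := fun ι : Type => ∀ (U : Type u) [CommRing U] [Algebra S U]
      [Algebra.FinitePresentation S U] (g : U →ₐ[S] H) (xs : ι → U ⊗[S] A),
      (∀ i, bc A g (xs i) = 0) →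
      ∃ (U' : Type u) (_ : CommRing U') (_ : Algebra S U') (_ : Algebra.FinitePresentation S U')
        (a : U →ₐ[S] U') (g' : U' →ₐ[S] H), g'.comp a = g ∧ ∀ i, bc A a (xs i) = 0)
    ?_ ?_ ?_ ι
  · intro α β e h U _ _ _ g xs hxs
    obtain ⟨U', i1, i2, i3, a, g', h1, h2⟩ := h U g (xs ∘ e) (fun i => hxs (e i))
    refine ⟨U', i1, i2, i3, a, g', h1, fun b => ?_⟩
    have := h2 (e.symm b)
    simpa using this
  · intro U _ _ _ g xs _
    exact ⟨U, inferInstance, inferInstance, inferInstance, AlgHom.id S U, g, by ext; rfl,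
      fun i => i.elim⟩
  · intro α _ ih U _ _ _ g xs hxs
    obtain ⟨U₁, _, _, _, a₁, g₁, h₁, h₁'⟩ := ih U g (fun i => xs (some i)) (fun i => hxs (some i))
    have hx : bc A g₁ (bc A a₁ (xs none)) = 0 := by
      rw [← bc_comp_apply, h₁]
      exact hxs none
    obtain ⟨U₂, i1, i2, i3, a₂, g₂, h₂, h₂'⟩ := exists_kill_one A U₁ g₁ (bc A a₁ (xs none)) hx
    refine ⟨U₂, i1, i2, i3, a₂.comp a₁, g₂, ?_, ?_⟩
    · rw [← AlgHom.comp_assoc, h₂, h₁]
    · intro o
      rw [bc_comp_apply]
      cases o with
      | none => exact h₂'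
      | some i => rw [h₁' i, map_zero]

end basic

section factor

open Groth.Agent.Lib.Helper4.IndEt

/-- a map from a finitely presented algebra to an ind-étale algebra factors through an étale
algebra -/
theorem exists_factor_etale {S H : Type u} [CommRing S] [CommRing H] [Algebra S H]
    (hH : EtPBC.IsIndEtale S H) (U : Type u) [CommRing U] [Algebra S U]
    [Algebra.FinitePresentation S U] (g : U →ₐ[S] H) :
    ∃ (E : Type u) (_ : CommRing E) (_ : Algebra S E) (_ : Algebra.Etale S E)
      (a : U →ₐ[S] E) (β : E →ₐ[S] H), β.comp a = g := by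
  obtain ⟨J, _, _, pres, hpres⟩ := ind_of_isIndEtale S H hH
  have hfp : IsFinitelyPresentable.{u} (mkU S U) := by
    apply CommRingCat.isFinitelyPresentable_under
    change (algebraMap S U).FinitePresentation
    exact RingHom.finitePresentation_algebraMap.mpr inferInstance
  let g₀ : mkU S U ⟶ mkU S H := Under.homMk (CommRingCat.ofHom g.toRingHom) (by
    ext a
    exact g.commutes a)
  obtain ⟨j, v, hv⟩ := IsFinitelyPresentable.exists_hom_of_isColimit pres.isColimit g₀
  have hv' : ∀ x : U, (pres.ι.app j).right (v.right x) = g x := fun x =>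
    congrArg (fun m => m.right x) hv
  let _ : Algebra S (pres.diag.obj j).right := (pres.diag.obj j).hom.hom.toAlgebra
  have het : Algebra.Etale S (pres.diag.obj j).right := hpres j
  let β : (pres.diag.obj j).right →ₐ[S] H :=
    { toRingHom := (pres.ι.app j).right.hom
      commutes' := fun r => Groth.Agent.Lib.Helper10.IndEtale.under_w_apply (pres.ι.app j) r }
  let a : U →ₐ[S] (pres.diag.obj j).right :=
    { toRingHom := v.right.hom
      commutes' := fun r =>
        Groth.Agent.Lib.Helper10.IndEtale.under_w_apply (X := mkU S U) v r }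
  refine ⟨(pres.diag.obj j).right, inferInstance, inferInstance, het, a, β, ?_⟩
  ext x
  exact hv' x

end factor

section units

variable {S : Type u} [CommRing S] (A : Type w) [Ring A] [Algebra S A]

/-- a full system of `n × n` matrix units -/
def IsUnits {B : Type*} [Ring B] (n : ℕ) (e : Fin n → Fin n → B) : Prop :=
  (∀ i j k l, e i j * e k l = if j = k then e i l else 0) ∧ ∑ i, e i i = 1

theorem IsUnits.map {B B' : Type*} [Ring B] [Ring B'] {n : ℕ} {e : Fin n → Fin n → B}
    (h : IsUnits n e) {F : Type*} [FunLike F B B'] [RingHomClass F B B'] (f : F) :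
    IsUnits n (fun i j => f (e i j)) := by
  refine ⟨fun i j k l => ?_, ?_⟩
  · rw [← map_mul, h.1]
    split_ifs <;> simp
  · rw [← map_sum, h.2, map_one]

/-- matrix units over a flat ind-étale algebra descend to an étale algebra -/
theorem exists_etale_units {H : Type u} [CommRing H] [Algebra S H] [Module.Flat S H]
    (hH : EtPBC.IsIndEtale S H) (n : ℕ) (e : Fin n → Fin n → H ⊗[S] A) (he : IsUnits n e) :
    ∃ (E : Type u) (_ : CommRing E) (_ : Algebra S E) (_ : Algebra.Etale S E)
      (_ : E →ₐ[S] H) (e' : Fin n → Fin n → E ⊗[S] A), IsUnits n e' := by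
  classical
  obtain ⟨U₀, _, _, _, g₀, xs, hxs⟩ :=
    exists_lift_family A (H := H) (ι := Fin n × Fin n) (fun p => e p.1 p.2)
  let rs : Option (Fin n × Fin n × Fin n × Fin n) → U₀ ⊗[S] A := fun o =>
    match o with
    | none => ∑ i, xs (i, i) - 1
    | some (i, j, k, l) => xs (i, j) * xs (k, l) - (if j = k then xs (i, l) else 0)
  have hrs : ∀ o, bc A g₀ (rs o) = 0 := by
    intro o
    match o with
    | none =>
      change bc A g₀ (∑ i, xs (i, i) - 1) = 0
      rw [map_sub, map_sum, map_one, sub_eq_zero]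
      simp only [hxs]
      exact he.2
    | some (i, j, k, l) =>
      change bc A g₀ (xs (i, j) * xs (k, l) - (if j = k then xs (i, l) else 0)) = 0
      rw [map_sub, map_mul, hxs, hxs, sub_eq_zero, he.1]
      split_ifs
      · rw [hxs]
      · rw [map_zero]
  obtain ⟨U₁, _, _, _, a₁, g₁, h₁, h₁'⟩ := exists_kill_family A _ U₀ g₀ rs hrs
  obtain ⟨E, i1, i2, i3, a₂, β, h₂⟩ := exists_factor_etale hH U₁ g₁
  refine ⟨E, i1, i2, i3, β, fun i j => bc A (a₂.comp a₁) (xs (i, j)), ?_, ?_⟩
  · intro i j k l
    have h := h₁' (some (i, j, k, l))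
    change bc A a₁ (xs (i, j) * xs (k, l) - (if j = k then xs (i, l) else 0)) = 0 at h
    have h' := congrArg (bc A a₂) h
    rw [map_zero, ← bc_comp_apply, map_sub, map_mul, sub_eq_zero] at h'
    rw [h']
    split_ifs
    · rfl
    · rw [map_zero]
  · have h := h₁' none
    change bc A a₁ (∑ i, xs (i, i) - 1) = 0 at h
    have h' := congrArg (bc A a₂) h
    rw [map_zero, ← bc_comp_apply, map_sub, map_sum, map_one, sub_eq_zero] at h'
    exact h'

end units

end Groth.Agent.Lib.Helper15.FRDescent
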