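import Mathlib
import Groth.Agent.Lib.Helper15.AzumayaFibre
import Groth.Agent.Lib.Helper15.FRDescent

/-!
# Matrix units in an Azumaya algebra of degree `n` give an isomorphism with `Mₙ`
-/

set_option autoImplicit false
set_option linter.style.haveILetI false

open scoped TensorProduct

namespace Groth.Agent.Lib.Helper15.FRMatUnits

open Groth.Agent.Lib.Helper15.FRDescent Groth.Agent.Lib.Helper15.Azumaya

variable {C : Type*} [CommRing C] {B : Type*} [Ring B] [Algebra C B] {n : ℕ}

/-- the linear map attached to a family `e i j` -/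
noncomputable def unitsLin (e : Fin n → Fin n → B) : Matrix (Fin n) (Fin n) C →ₗ[C] B where
  toFun X := ∑ i, ∑ j, X i j • e i j
  map_add' X Y := by
    simp only [Matrix.add_apply, add_smul, Finset.sum_add_distrib]
  map_smul' c X := by
    simp only [Matrix.smul_apply, smul_eq_mul, mul_smul, Finset.smul_sum, RingHom.id_apply]

theorem unitsLin_apply (e : Fin n → Fin n → B) (X : Matrix (Fin n) (Fin n) C) :
    unitsLin e X = ∑ i, ∑ j, X i j • e i j := rfl

/-- the algebra map attached to matrix units -/
noncomputable def unitsHom (e : Fin n → Fin n → B) (he : IsUnits n e) :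
    Matrix (Fin n) (Fin n) C →ₐ[C] B :=
  AlgHom.ofLinearMap (unitsLin e)
    (by
      rw [unitsLin_apply]
      simp only [Matrix.one_apply, ite_smul, one_smul, zero_smul, Finset.sum_ite_eq,
        Finset.mem_univ, if_true]
      exact he.2)
    (by
      intro X Y
      rw [unitsLin_apply, unitsLin_apply, unitsLin_apply, Finset.sum_mul]
      refine Finset.sum_congr rfl fun i _ => ?_
      rw [Finset.sum_mul]
      have key : ∀ j, (X i j • e i j) * (∑ k, ∑ l, Y k l • e k l) =
          ∑ l, (X i j * Y j l) • e i l := by
        intro j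
        rw [Finset.mul_sum, Finset.sum_eq_single j]
        · rw [Finset.mul_sum]
          refine Finset.sum_congr rfl fun l _ => ?_
          rw [smul_mul_smul_comm, he.1, if_pos rfl]
        · intro k _ hkj
          rw [Finset.mul_sum]
          refine Finset.sum_eq_zero fun l _ => ?_
          rw [smul_mul_smul_comm, he.1, if_neg (Ne.symm hkj), smul_zero]
        · intro h
          exact absurd (Finset.mem_univ j) h
      simp_rw [key]
      rw [Finset.sum_comm]
      refine Finset.sum_congr rfl fun l _ => ?_
      rw [Matrix.mul_apply, Finset.sum_smul])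

theorem unitsHom_apply (e : Fin n → Fin n → B) (he : IsUnits n e)
    (X : Matrix (Fin n) (Fin n) C) : unitsHom e he X = ∑ i, ∑ j, X i j • e i j := rfl

/-- matrix units in an Azumaya algebra of rank `n²` give an isomorphism with the matrix algebra -/
theorem unitsHom_bijective [IsAzumaya C B] (hn : 0 < n)
    (hrank : ∀ p : PrimeSpectrum C, Module.rankAtStalk (R := C) B p = n ^ 2)
    (e : Fin n → Fin n → B) (he : IsUnits n e) :
    Function.Bijective (unitsHom (C := C) e he) := by
  classical
  haveI : Nonempty (Fin n) := ⟨⟨0, hn⟩⟩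
  haveI : IsAzumaya C (Matrix (Fin n) (Fin n) C) := IsAzumaya.matrix C (Fin n)
  have hb : Function.Bijective (unitsHom (C := C) e he).toLinearMap := by
    apply bijective_of_forall_residueField
    intro p _
    let κ := p.ResidueField
    haveI : Nontrivial C := RingHom.domain_nontrivial (algebraMap C κ)
    let Φκ : κ ⊗[C] Matrix (Fin n) (Fin n) C →ₐ[κ] κ ⊗[C] B :=
      Algebra.TensorProduct.map (AlgHom.id κ κ) (unitsHom (C := C) e he)
    have hfun : ⇑((unitsHom (C := C) e he).toLinearMap.baseChange κ) = ⇑Φκ := by
      funext x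
      induction x using TensorProduct.induction_on with
      | zero => simp
      | tmul c X => simp [Φκ]
      | add x y hx hy => simp only [map_add, hx, hy]
    rw [hfun]
    haveI : IsAzumaya κ (κ ⊗[C] Matrix (Fin n) (Fin n) C) := isAzumaya_baseChange C κ _
    haveI : IsSimpleRing (κ ⊗[C] Matrix (Fin n) (Fin n) C) := isSimpleRing_of_isAzumaya κ _
    have hr2 : Module.finrank κ (κ ⊗[C] B) = n ^ 2 := by
      have := Module.rankAtStalk_eq (R := C) (M := B) ⟨p, inferInstance⟩
      rw [hrank] at this
      exact this.symm
    have hr1 : Module.finrank κ (κ ⊗[C] Matrix (Fin n) (Fin n) C) = n ^ 2 := by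
      rw [Module.finrank_baseChange, Module.finrank_matrix]
      simp [sq]
    haveI : Nontrivial (κ ⊗[C] B) := by
      apply Module.nontrivial_of_finrank_pos (R := κ)
      rw [hr2]
      positivity
    have hinj : Function.Injective Φκ :=
      RingHom.injective (Φκ : κ ⊗[C] Matrix (Fin n) (Fin n) C →+* κ ⊗[C] B)
    have := (LinearMap.injective_iff_surjective_of_finrank_eq_finrank
      (f := Φκ.toLinearMap) (hr1.trans hr2.symm)).mp hinj
    exact ⟨hinj, this⟩
  exact hb

/-- the resulting isomorphism -/
noncomputable def unitsEquiv [IsAzumaya C B] (hn : 0 < n)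
    (hrank : ∀ p : PrimeSpectrum C, Module.rankAtStalk (R := C) B p = n ^ 2)
    (e : Fin n → Fin n → B) (he : IsUnits n e) : Matrix (Fin n) (Fin n) C ≃ₐ[C] B :=
  AlgEquiv.ofBijective (unitsHom e he) (unitsHom_bijective hn hrank e he)

/-- matrix units of the matrix algebra -/
theorem isUnits_single : IsUnits n (fun i j => (Matrix.single i j (1 : C) : Matrix (Fin n) (Fin n) C)) := by
  classical
  refine ⟨fun i j k l => ?_, ?_⟩
  · by_cases h : j = k
    · subst h
      rw [if_pos rfl, Matrix.single_mul_single_same, mul_one]
    · rw [if_neg h, Matrix.single_mul_single_of_ne _ _ _ _ h]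
  · ext a b
    rw [Matrix.sum_apply, Matrix.one_apply]
    simp only [Matrix.single_apply]
    by_cases hab : a = b
    · subst hab
      simp
    · rw [if_neg hab]
      apply Finset.sum_eq_zero
      intro i _
      rw [if_neg]
      rintro ⟨rfl, rfl⟩
      exact hab rfl

end Groth.Agent.Lib.Helper15.FRMatUnits
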