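import Mathlib
import Groth.Prelude.Def_AzInv
import Groth.Agent.Lib.Helper15.FRDescent
import Groth.Agent.Lib.Helper15.FRMatUnits

/-!
# Transporting an involution along a splitting: abstract form

A ring `𝔸` with a central map `ι : C → 𝔸`, an anti-involution `tt` of `𝔸` which is `lamC` on the
centre, and a splitting `F : 𝔸 ≃ Mₙ(C)`.
-/

set_option autoImplicit false
set_option linter.style.haveILetI false

namespace Groth.Agent.Lib.Helper15.FRInvAbs

open Groth.Agent.Lib.Helper15.FRDescent Groth.Agent.Lib.Helper15.FRMatUnits AzInv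

/-- abstract frame -/
structure Frame (C : Type*) [CommRing C] (𝔸 : Type*) [Ring 𝔸] (lamC : C → C) where
  /-- the central map -/
  ι : C →+* 𝔸
  comm : ∀ c x, ι c * x = x * ι c
  /-- the involution -/
  tt : 𝔸 → 𝔸
  tt_add : ∀ x y, tt (x + y) = tt x + tt y
  tt_mul : ∀ x y, tt (x * y) = tt y * tt x
  tt_tt : ∀ x, tt (tt x) = x
  tt_ι : ∀ c, tt (ι c) = ι (lamC c)

variable {C : Type*} [CommRing C] {𝔸 : Type*} [Ring 𝔸] {lamC : C ≃+* C} {n : ℕ}

namespace Frame

variable (Fr : Frame C 𝔸 lamC)

/-- `tt` as an additive map -/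
def ttHom : 𝔸 →+ 𝔸 := AddMonoidHom.mk' Fr.tt Fr.tt_add

@[simp] theorem ttHom_apply (x : 𝔸) : Fr.ttHom x = Fr.tt x := rfl

theorem tt_sum {α : Type*} (s : Finset α) (f : α → 𝔸) : Fr.tt (∑ a ∈ s, f a) = ∑ a ∈ s, Fr.tt (f a) := by
  rw [← ttHom_apply, map_sum]
  rfl

theorem tt_zero : Fr.tt 0 = 0 := Fr.ttHom.map_zero

variable (F : 𝔸 ≃+* Matrix (Fin n) (Fin n) C) (hF : ∀ c x, F (Fr.ι c * x) = c • F x)

include hF in
theorem symm_smul (c : C) (X : Matrix (Fin n) (Fin n) C) :
    F.symm (c • X) = Fr.ι c * F.symm X := by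
  apply F.injective
  rw [F.apply_symm_apply, hF, F.apply_symm_apply]

/-- the transported involution of the matrix algebra -/
def transport : LamInv C (Matrix (Fin n) (Fin n) C) lamC where
  toFun X := F (Fr.tt (F.symm X))
  map_add' X Y := by rw [map_add, Fr.tt_add, map_add]
  map_mul' X Y := by rw [map_mul, Fr.tt_mul, map_mul]
  map_smul' c X := by
    rw [symm_smul Fr F hF, Fr.tt_mul, Fr.tt_ι, ← Fr.comm, hF]
  invol' X := by rw [F.symm_apply_apply, Fr.tt_tt, F.apply_symm_apply]

theorem transport_apply (X : Matrix (Fin n) (Fin n) C) :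
    Fr.transport F hF X = F (Fr.tt (F.symm X)) := rfl

end Frame

section matrixLemmas

variable (hlamC : ∀ c, lamC (lamC c) = c)

theorem lamTr_single (i j : Fin n) (c : C) :
    LamInv.transpose lamC (Fin n) hlamC (Matrix.single i j c) = Matrix.single j i (lamC c) := by
  ext a b
  rw [LamInv.transpose_apply, Matrix.single_apply, Matrix.single_apply]
  by_cases h : i = b ∧ j = a
  · rw [if_pos h, if_pos ⟨h.2, h.1⟩]
  · rw [if_neg h, if_neg (fun h' => h ⟨h'.2, h'.1⟩), map_zero]

theorem mul_single_mul (G G' : Matrix (Fin n) (Fin n) C) (i j : Fin n) :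
    G * Matrix.single j i (1 : C) * G' =
      ∑ k, ∑ l, (G k j * G' i l) • Matrix.single k l (1 : C) := by
  ext a b
  rw [Matrix.mul_apply]
  simp only [Matrix.sum_apply, Matrix.smul_apply, Matrix.single_apply, smul_eq_mul]
  rw [Finset.sum_eq_single i]
  · rw [Matrix.mul_single_apply_same, mul_one, Finset.sum_eq_single a]
    · rw [Finset.sum_eq_single b]
      · rw [if_pos ⟨rfl, rfl⟩, mul_one]
      · intro l _ hl
        rw [if_neg (fun h => hl h.2), mul_zero]
      · intro h; exact absurd (Finset.mem_univ _) h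
    · intro k _ hk
      apply Finset.sum_eq_zero
      intro l _
      rw [if_neg (fun h => hk h.1), mul_zero]
    · intro h; exact absurd (Finset.mem_univ _) h
  · intro k _ hk
    rw [Matrix.mul_single_apply_of_ne (1 : C) j i a k hk G, zero_mul]
  · intro h; exact absurd (Finset.mem_univ _) h

end matrixLemmas

section units

variable (hlamC : ∀ c, lamC (lamC c) = c) (Fr : Frame C 𝔸 lamC)
  (F : 𝔸 ≃+* Matrix (Fin n) (Fin n) C) (hF : ∀ c x, F (Fr.ι c * x) = c • F x)

/-- from a normal form of the transported involution to matrix units with a prescribed action of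
the involution -/
theorem units_of_normalForm (u u' G G' : Matrix (Fin n) (Fin n) C) (huu' : u * u' = 1)
    (hu'u : u' * u = 1) (hGG' : G * G' = 1)
    (hτ : ∀ X, Fr.transport F hF X * (u * G * LamInv.transpose lamC (Fin n) hlamC u) =
      (u * G * LamInv.transpose lamC (Fin n) hlamC u) * LamInv.transpose lamC (Fin n) hlamC X) :
    IsUnits n (fun i j => F.symm (u * Matrix.single i j 1 * u')) ∧
      ∀ i j, Fr.tt (F.symm (u * Matrix.single i j 1 * u')) =
        ∑ k, ∑ l, Fr.ι (G k j * G' i l) * F.symm (u * Matrix.single k l 1 * u') := by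
  classical
  set T0 := LamInv.transpose lamC (Fin n) hlamC with hT0
  have hstar : T0 u * T0 u' = 1 := by rw [← T0.map_mul, hu'u, T0.map_one]
  refine ⟨⟨fun i j k l => ?_, ?_⟩, fun i j => ?_⟩
  · rw [← map_mul]
    have h1 : u * Matrix.single i j 1 * u' * (u * Matrix.single k l 1 * u') =
        u * (Matrix.single i j (1 : C) * Matrix.single k l 1) * u' := by
      calc u * Matrix.single i j 1 * u' * (u * Matrix.single k l 1 * u')
          = u * Matrix.single i j 1 * (u' * u) * Matrix.single k l 1 * u' := by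
            simp only [mul_assoc]
        _ = _ := by rw [hu'u, mul_one]; simp only [mul_assoc]
    rw [h1, (isUnits_single (C := C) (n := n)).1]
    split_ifs
    · rfl
    · rw [mul_zero, zero_mul, map_zero]
  · rw [← map_sum, ← Finset.sum_mul, ← Finset.mul_sum, (isUnits_single (C := C) (n := n)).2,
      mul_one, huu', map_one]
  · -- the key computation
    have hW' : (u * G * T0 u) * (T0 u' * G' * u') = 1 := by
      calc (u * G * T0 u) * (T0 u' * G' * u')
          = u * (G * ((T0 u * T0 u') * G')) * u' := by simp only [mul_assoc]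
        _ = 1 := by rw [hstar, one_mul, hGG', mul_one, huu']
    have h1 : Fr.transport F hF (u * Matrix.single i j 1 * u') =
        u * (G * Matrix.single j i 1 * G') * u' := by
      have h2 := hτ (u * Matrix.single i j 1 * u')
      have h3 : Fr.transport F hF (u * Matrix.single i j 1 * u') =
          Fr.transport F hF (u * Matrix.single i j 1 * u') * ((u * G * T0 u) * (T0 u' * G' * u')) := by
        rw [hW', mul_one]
      rw [h3, ← mul_assoc, h2, T0.map_mul, T0.map_mul, hT0, lamTr_single, map_one, ← hT0]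
      calc u * G * T0 u * (T0 u' * (Matrix.single j i 1 * T0 u)) * (T0 u' * G' * u')
          = u * G * (T0 u * T0 u') * Matrix.single j i 1 * (T0 u * T0 u') * G' * u' := by
            simp only [mul_assoc]
        _ = _ := by rw [hstar, mul_one, mul_one]; simp only [mul_assoc]
    have h4 : Fr.tt (F.symm (u * Matrix.single i j 1 * u')) =
        F.symm (Fr.transport F hF (u * Matrix.single i j 1 * u')) := by
      rw [Frame.transport_apply, F.symm_apply_apply]
    rw [h4, h1, mul_single_mul, Finset.mul_sum, Finset.sum_mul, map_sum]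
    refine Finset.sum_congr rfl fun k _ => ?_
    rw [Finset.mul_sum, Finset.sum_mul, map_sum]
    refine Finset.sum_congr rfl fun l _ => ?_
    rw [Matrix.mul_smul, Matrix.smul_mul, Frame.symm_smul Fr F hF]

include hF in
/-- the involution in terms of matrix units with a prescribed action -/
theorem formula_of_units (e : Fin n → Fin n → 𝔸) (he : ∀ i j, F (e i j) = Matrix.single i j 1)
    (κ : Fin n → Fin n → Fin n → Fin n → C)
    (hrel : ∀ i j, Fr.tt (e i j) = ∑ k, ∑ l, Fr.ι (κ i j k l) * e k l) (x : 𝔸) :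
    F (Fr.tt x) = Matrix.of fun k l => ∑ i, ∑ j, lamC (F x i j) * κ i j k l := by
  classical
  have hx : x = ∑ i, ∑ j, Fr.ι (F x i j) * e i j := by
    apply F.injective
    rw [map_sum]
    conv_lhs => rw [Matrix.matrix_eq_sum_single (F x)]
    refine Finset.sum_congr rfl fun i _ => ?_
    rw [map_sum]
    refine Finset.sum_congr rfl fun j _ => ?_
    rw [hF, he, Matrix.smul_single, smul_eq_mul, mul_one]
  conv_lhs => rw [hx]
  rw [Fr.tt_sum, map_sum]
  ext k l
  rw [Matrix.sum_apply, Matrix.of_apply]
  refine Finset.sum_congr rfl fun i _ => ?_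
  rw [Fr.tt_sum, map_sum, Matrix.sum_apply]
  refine Finset.sum_congr rfl fun j _ => ?_
  rw [Fr.tt_mul, Fr.tt_ι, ← Fr.comm, hF, hrel, map_sum, Matrix.smul_apply, Matrix.sum_apply,
    smul_eq_mul]
  congr 1
  rw [Finset.sum_eq_single k]
  · rw [map_sum, Matrix.sum_apply, Finset.sum_eq_single l]
    · rw [hF, he, Matrix.smul_apply, Matrix.single_apply, if_pos ⟨rfl, rfl⟩, smul_eq_mul, mul_one]
    · intro l' _ hl'
      rw [hF, he, Matrix.smul_apply, Matrix.single_apply, if_neg (fun h => hl' h.2), smul_zero]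
    · intro h; exact absurd (Finset.mem_univ _) h
  · intro k' _ hk'
    rw [map_sum, Matrix.sum_apply]
    apply Finset.sum_eq_zero
    intro l' _
    rw [hF, he, Matrix.smul_apply, Matrix.single_apply, if_neg (fun h => hk' h.1), smul_zero]
  · intro h; exact absurd (Finset.mem_univ _) h

end units

end Groth.Agent.Lib.Helper15.FRInvAbs
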