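import Mathlib
import Groth.Prelude.Def_W4c2azumayainvolQEt
import Groth.Agent.Lib.Helper4.HzsInt
import Groth.Agent.Lib.Helper4.HznQF

/-!
# Rings with involution over a strictly henselian fixed ring are finite products of strictly
henselian local rings
-/

set_option autoImplicit false
set_option linter.style.haveILetI false
universe u v

open IsLocalRing Polynomial

namespace Groth.Agent.Lib.Helper15.FRSemiLocal

section transport

/-- henselian local rings are stable under ring isomorphism -/
theorem henselianLocalRing_of_ringEquiv {A : Type*} {B : Type*} [CommRing A] [CommRing B]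
    (e : A ≃+* B) [HenselianLocalRing A] : HenselianLocalRing B := by
  haveI : IsLocalRing B := e.isLocalRing
  have hmem : ∀ x : B, x ∈ maximalIdeal B ↔ e.symm x ∈ maximalIdeal A := by
    intro x
    rw [mem_maximalIdeal, mem_maximalIdeal, mem_nonunits_iff, mem_nonunits_iff]
    exact not_congr (MulEquiv.isUnit_map (e.symm : B ≃* A)).symm
  refine { is_henselian := fun f hf a₀ h0 hu => ?_ }
  have hev : ∀ (g : B[X]) (b : B), (g.map (e.symm : B →+* A)).eval (e.symm b) = e.symm (g.eval b) := by
    intro g b
    rw [eval_map]
    exact eval₂_at_apply (e.symm : B →+* A) b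
  obtain ⟨a, ha, ha'⟩ := HenselianLocalRing.is_henselian (f.map (e.symm : B →+* A))
    (hf.map _) (e.symm a₀)
    (by rw [hev]; exact (hmem _).mp h0)
    (by rw [derivative_map, hev]; exact hu.map (e.symm : B →+* A))
  refine ⟨e a, ?_, ?_⟩
  · have h1 := hev f (e a)
    rw [RingEquiv.symm_apply_apply] at h1
    rw [IsRoot.def] at ha ⊢
    rw [ha] at h1
    have h2 := congrArg e h1
    rw [map_zero, RingEquiv.apply_symm_apply] at h2
    exact h2.symm
  · rw [hmem, map_sub, RingEquiv.symm_apply_apply]
    exact ha'

/-- an integral algebra map into a local ring is a local homomorphism -/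
theorem isLocalHom_of_isIntegral (A : Type*) (D : Type*) [CommRing A] [IsLocalRing A] [CommRing D]
    [IsLocalRing D] [Algebra A D] [Algebra.IsIntegral A D] : IsLocalHom (algebraMap A D) := by
  have hmax : ((maximalIdeal D).comap (algebraMap A D)).IsMaximal :=
    Ideal.isMaximal_comap_of_isIntegral_of_isMaximal (R := A) (maximalIdeal D)
  have heq : (maximalIdeal D).comap (algebraMap A D) = maximalIdeal A := eq_maximalIdeal hmax
  refine ⟨fun x hx => ?_⟩
  by_contra hnu
  have h1 : x ∈ maximalIdeal A := (mem_maximalIdeal x).mpr hnu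
  rw [← heq, Ideal.mem_comap, mem_maximalIdeal] at h1
  exact h1 hx

/-- residue field extensions of integral local homomorphisms are integral -/
theorem isIntegral_residueField (A : Type*) (D : Type*) [CommRing A] [IsLocalRing A] [CommRing D]
    [IsLocalRing D] [Algebra A D] [IsLocalHom (algebraMap A D)] [Algebra.IsIntegral A D] :
    Algebra.IsIntegral (ResidueField A) (ResidueField D) := by
  refine ⟨fun x => ?_⟩
  obtain ⟨s, rfl⟩ := residue_surjective x
  have h1 : IsIntegral A (residue D s) :=
    (Algebra.IsIntegral.isIntegral (R := A) s).map (IsScalarTower.toAlgHom A D (ResidueField D))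
  exact h1.tower_top

end transport

section involution

variable {S : Type u} {R : Type v} [CommRing S] [CommRing R] [Algebra S R]
  (lam : R ≃+* R) (hlam : ∀ r, lam (lam r) = r) (hfix : RInv.IsFixedRing S R lam)

include hlam hfix

theorem isIntegral : Algebra.IsIntegral S R := by
  refine ⟨fun r => ?_⟩
  obtain ⟨a, ha⟩ := (hfix.2 (r + lam r)).mp (by rw [map_add, hlam, add_comm])
  obtain ⟨b, hb⟩ := (hfix.2 (r * lam r)).mp (by rw [map_mul, hlam, mul_comm])
  refine ⟨X ^ 2 - C a * X + C b, ?_, ?_⟩
  · have : (X ^ 2 - C a * X + C b : S[X]) = X ^ 2 + (- C a * X + C b) := by ring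
    rw [this]
    apply Polynomial.monic_X_pow_add
    rw [← C_neg]
    compute_degree!
  · simp only [eval₂_add, eval₂_sub, eval₂_mul, eval₂_pow, eval₂_X, eval₂_C, ha, hb]
    ring

/-- primes with comparable contractions are comparable up to the involution -/
theorem le_or_le_comap (P Q : Ideal R) [P.IsPrime]
    (h : Q.comap (algebraMap S R) ≤ P.comap (algebraMap S R)) :
    Q ≤ P ∨ Q ≤ P.comap (lam : R →+* R) := by
  rw [← Ideal.subset_union]
  intro b hb
  by_contra hcon
  rw [Set.mem_union, not_or] at hcon
  obtain ⟨h1, h2⟩ := hcon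
  obtain ⟨s, hs⟩ := (hfix.2 (b * lam b)).mp (by rw [map_mul, hlam, mul_comm])
  have h3 : s ∈ Q.comap (algebraMap S R) := by
    rw [Ideal.mem_comap, hs]
    exact Q.mul_mem_right _ hb
  have h4 := h h3
  rw [Ideal.mem_comap, hs] at h4
  rcases Ideal.IsPrime.mem_or_mem inferInstance h4 with h5 | h5
  · exact h1 h5
  · exact h2 h5

/-- over a local fixed ring there are at most two maximal ideals -/
theorem finite_maximalSpectrum [IsLocalRing S] : Finite (MaximalSpectrum R) := by
  classical
  haveI := isIntegral lam hlam hfix
  by_cases hne : Nonempty (MaximalSpectrum R)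
  · obtain ⟨Q₀⟩ := hne
    haveI := Q₀.isMaximal
    have hcm : ∀ Q : Ideal R, Q.IsMaximal → Q.comap (algebraMap S R) = maximalIdeal S := by
      intro Q hQ
      exact eq_maximalIdeal (Ideal.isMaximal_comap_of_isIntegral_of_isMaximal (R := S) Q)
    have hQ₀' : (Q₀.asIdeal.comap (lam : R →+* R)).IsMaximal :=
      Ideal.comap_isMaximal_of_surjective (lam : R →+* R) lam.surjective
    let f : MaximalSpectrum R → ({Q₀.asIdeal, Q₀.asIdeal.comap (lam : R →+* R)} : Set (Ideal R)) :=
      fun Q => ⟨Q.asIdeal, by
        haveI := Q.isMaximal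
        have h := le_or_le_comap lam hlam hfix Q₀.asIdeal Q.asIdeal
          (by rw [hcm _ Q.isMaximal, hcm _ Q₀.isMaximal])
        rcases h with h | h
        · exact Or.inl (Q.isMaximal.eq_of_le Q₀.isMaximal.ne_top h)
        · exact Or.inr (Q.isMaximal.eq_of_le hQ₀'.ne_top h)⟩
    have hf : Function.Injective f := by
      intro Q Q' h
      have : Q.asIdeal = Q'.asIdeal := congrArg Subtype.val h
      exact MaximalSpectrum.ext this
    haveI : Finite ({Q₀.asIdeal, Q₀.asIdeal.comap (lam : R →+* R)} : Set (Ideal R)) :=
      Set.Finite.to_subtype (Set.toFinite _)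
    exact Finite.of_injective f hf
  · haveI : IsEmpty (MaximalSpectrum R) := not_nonempty_iff.mp hne
    infer_instance

end involution

section SL

variable (H : Type u) [CommRing H] [HenselianLocalRing H] [IsSepClosed (ResidueField H)]
  (C : Type v) [CommRing C] [Algebra H C] [Algebra.IsIntegral H C]
  (hinj : Function.Injective (algebraMap H C))

include hinj

/-- the localization at a maximal ideal is strictly henselian and a quotient -/
theorem localization_props (Q : Ideal C) [hQ : Q.IsMaximal] :
    Function.Surjective (algebraMap C (Localization.AtPrime Q)) ∧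
      HenselianLocalRing (Localization.AtPrime Q) ∧
      IsSepClosed (ResidueField (Localization.AtPrime Q)) := by
  -- the image of `H`
  let H' : Subalgebra H C := (Algebra.ofId H C).range
  let e : H ≃ₐ[H] H' := AlgEquiv.ofInjective (Algebra.ofId H C) hinj
  haveI : HenselianLocalRing H' := henselianLocalRing_of_ringEquiv e.toRingEquiv
  haveI : Algebra.IsIntegral H' C := Algebra.IsIntegral.tower_top (R := H)
  have hQ' : (maximalIdeal H').map (algebraMap H' C) ≤ Q := by
    rw [Ideal.map_le_iff_le_comap]
    have := eq_maximalIdeal (Ideal.isMaximal_comap_of_isIntegral_of_isMaximal (R := H') Q)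
    rw [this]
  have hsurj := Groth.Agent.Lib.Helper4.Hzn.surjective_algebraMap_localization_of_isIntegral H' C Q hQ'
  letI alg' : Algebra H' (Localization.AtPrime Q) := OreLocalization.instAlgebra
  haveI hint' : Algebra.IsIntegral H' (Localization.AtPrime Q) :=
    Groth.Agent.Lib.Helper4.Hzn.isIntegral_localization_of_isIntegral H' C Q hQ'
  have hhens : HenselianLocalRing (Localization.AtPrime Q) :=
    Groth.Agent.Lib.Helper4.Hzn.henselianLocalRing_of_isIntegral H' (Localization.AtPrime Q)
  refine ⟨hsurj, hhens, ?_⟩
  haveI : Algebra.IsIntegral H (Localization.AtPrime Q) :=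
    Algebra.IsIntegral.of_surjective (IsScalarTower.toAlgHom H C (Localization.AtPrime Q)) hsurj
  haveI : IsLocalHom (algebraMap H (Localization.AtPrime Q)) :=
    isLocalHom_of_isIntegral H (Localization.AtPrime Q)
  haveI := isIntegral_residueField H (Localization.AtPrime Q)
  exact Algebra.IsAlgebraic.isSepClosed (F := ResidueField H)

/-- a semilocal integral algebra is the product of its localizations -/
theorem toPiLocalization_bijective [Finite (MaximalSpectrum C)] :
    Function.Bijective (MaximalSpectrum.toPiLocalization C) := by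
  classical
  haveI := Fintype.ofFinite (MaximalSpectrum C)
  refine ⟨MaximalSpectrum.toPiLocalization_injective C, ?_⟩
  have hs : ∀ I : MaximalSpectrum C,
      Function.Surjective (algebraMap C (Localization.AtPrime I.asIdeal)) := fun I => by
    haveI := I.isMaximal
    exact (localization_props H C hinj I.asIdeal).1
  let K : MaximalSpectrum C → Ideal C := fun I =>
    RingHom.ker (algebraMap C (Localization.AtPrime I.asIdeal))
  -- a maximal ideal containing `K I` is `I`
  have hKmax : ∀ (I : MaximalSpectrum C) (M : Ideal C), M.IsMaximal → K I ≤ M → M = I.asIdeal := by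
    intro I M hM hle
    by_contra hne
    have hnle : ¬ M ≤ I.asIdeal := fun h => hne (hM.eq_of_le I.isMaximal.ne_top h)
    obtain ⟨y, hyM, hyI⟩ := Set.not_subset.mp hnle
    have hu : IsUnit (algebraMap C (Localization.AtPrime I.asIdeal) y) :=
      IsLocalization.map_units (M := I.asIdeal.primeCompl) _ ⟨y, hyI⟩
    obtain ⟨z, hz⟩ := hu.exists_right_inv
    obtain ⟨t, rfl⟩ := hs I z
    have h1 : y * t - 1 ∈ K I := by
      rw [RingHom.mem_ker, map_sub, map_mul, hz, map_one, sub_self]
    have h2 : y * t - 1 ∈ M := hle h1
    have h3 : (1 : C) ∈ M := by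
      have : (1 : C) = y * t - (y * t - 1) := by ring
      rw [this]
      exact M.sub_mem (M.mul_mem_right _ hyM) h2
    exact hM.ne_top ((Ideal.eq_top_iff_one _).mpr h3)
  have hcop : Pairwise (Function.onFun IsCoprime K) := by
    intro I J hIJ
    rw [Function.onFun, Ideal.isCoprime_iff_sup_eq]
    by_contra hne
    obtain ⟨M, hM, hle⟩ := Ideal.exists_le_maximal _ hne
    have h1 := hKmax I M hM (le_sup_left.trans hle)
    have h2 := hKmax J M hM (le_sup_right.trans hle)
    exact hIJ (MaximalSpectrum.ext (h1.symm.trans h2))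
  intro z
  choose c hc using fun I => hs I (z I)
  obtain ⟨y, hy⟩ := Ideal.quotientInfToPiQuotient_surj hcop
    (fun I => Ideal.Quotient.mk (K I) (c I))
  obtain ⟨x, rfl⟩ := Ideal.Quotient.mk_surjective y
  refine ⟨x, ?_⟩
  funext I
  have h1 := congrFun hy I
  change Ideal.Quotient.mk (K I) x = Ideal.Quotient.mk (K I) (c I) at h1
  rw [Ideal.Quotient.eq, RingHom.mem_ker, map_sub, sub_eq_zero] at h1
  rw [MaximalSpectrum.toPiLocalization_apply_apply, h1, hc]

end SL

section main

variable {S : Type u} {R : Type v} [CommRing S] [CommRing R] [Algebra S R]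
  (lam : R ≃+* R) (hlam : ∀ r, lam (lam r) = r) (hfix : RInv.IsFixedRing S R lam)
  [HenselianLocalRing S] [IsSepClosed (ResidueField S)]

include hlam hfix

/-- `S15578` -/
theorem main :
    ∃ (ι : Type) (_ : Fintype ι) (T : ι → Type v) (_ : ∀ i, CommRing (T i))
      (_ : ∀ i, HenselianLocalRing (T i)),
      (∀ i, IsSepClosed (ResidueField (T i))) ∧ Nonempty (R ≃+* (∀ i, T i)) := by
  classical
  haveI := isIntegral lam hlam hfix
  haveI := finite_maximalSpectrum lam hlam hfix
  let k := Nat.card (MaximalSpectrum R)
  let eq : MaximalSpectrum R ≃ Fin k := Finite.equivFin _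
  have hprops : ∀ I : MaximalSpectrum R,
      HenselianLocalRing (Localization.AtPrime I.asIdeal) ∧
        IsSepClosed (ResidueField (Localization.AtPrime I.asIdeal)) := fun I => by
    haveI := I.isMaximal
    exact (localization_props S R hfix.1 I.asIdeal).2
  refine ⟨Fin k, inferInstance, fun i => Localization.AtPrime (eq.symm i).asIdeal,
    fun i => inferInstance, fun i => (hprops _).1, fun i => (hprops _).2, ⟨?_⟩⟩
  let e1 : R ≃+* MaximalSpectrum.PiLocalization R :=
    RingEquiv.ofBijective (MaximalSpectrum.toPiLocalization R)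
      (toPiLocalization_bijective S R hfix.1)
  exact e1.trans (RingEquiv.piCongrLeft' (fun I : MaximalSpectrum R =>
    Localization.AtPrime I.asIdeal) eq)

end main

end Groth.Agent.Lib.Helper15.FRSemiLocal
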