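import Mathlib
import Groth.Agent.Lib.Helper15.FKSplitExists
import Groth.Agent.Lib.Helper15.FKHasForm
import Groth.Agent.Lib.Helper15.FRSemiLocal
import Groth.Agent.Lib.Helper15.AzumayaFibre
import Groth.Agent.Lib.Helper4.HensSection2
import Groth.Agent.Lib.Helper4.IndEtUniq

/-!
# Azumaya algebras over semilocal integral algebras over a strictly henselian ring are split
-/

set_option autoImplicit false
set_option linter.style.haveILetI false
universe u v w

open scoped TensorProduct
open IsLocalRing

namespace Groth.Agent.Lib.Helper15.FRSplit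

open Groth.Agent.Lib.Helper15.FKSplit Groth.Agent.Lib.Helper15.FKHasForm
  Groth.Agent.Lib.Helper15.Azumaya

section basic

variable {R : Type*} [CommRing R] {B : Type*} [Ring B] [Algebra R B]

/-- a map split over the base ring itself is bijective -/
theorem bijective_of_split_self {C : Type*} [Ring C] [Algebra R C] (ψ : B →ₐ[R] C)
    (h : Split R ψ) : Function.Bijective ψ := by
  have : ⇑ψ = ⇑(liftA R ψ) ∘ ⇑(TensorProduct.lid R B).symm := by
    funext b
    rw [Function.comp_apply, TensorProduct.lid_symm_apply, liftA_tmul, one_smul]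
  rw [this]
  exact h.comp (LinearEquiv.bijective _)

/-- a bijective map out of a base change gives a split map -/
theorem split_of_bijective_tensor (S : Type*) [CommRing S] [Algebra R S] {C : Type*} [Ring C]
    [Algebra R C] [Algebra S C] [IsScalarTower R S C] (ψ' : S ⊗[R] B →ₐ[S] C)
    (h : Function.Bijective ψ') :
    Split S ((ψ'.restrictScalars R).comp
      (Algebra.TensorProduct.includeRight : B →ₐ[R] S ⊗[R] B)) := by
  have : ⇑(liftA S ((ψ'.restrictScalars R).comp
      (Algebra.TensorProduct.includeRight : B →ₐ[R] S ⊗[R] B))) = ⇑ψ' := by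
    funext x
    induction x using TensorProduct.induction_on with
    | zero => simp
    | tmul s b =>
      rw [liftA_tmul]
      change s • ψ' ((1 : S) ⊗ₜ[R] b) = _
      rw [← map_smul, TensorProduct.smul_tmul', smul_eq_mul, mul_one]
    | add x y hx hy => simp only [map_add, hx, hy]
  rw [Split, this]
  exact h

end basic

section local_case

/-- Azumaya algebras over strictly henselian local rings are split -/
theorem exists_split_strictHensel (D : Type u) [CommRing D] [HenselianLocalRing D]
    [IsSepClosed (ResidueField D)] (B : Type w) [Ring B] [Algebra D B] [IsAzumaya D B] (n : ℕ)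
    (hrank : ∀ p : PrimeSpectrum D, Module.rankAtStalk (R := D) B p = n ^ 2) :
    ∃ ψ : B →ₐ[D] Matrix (Fin n) (Fin n) D, Split D ψ := by
  obtain ⟨T, _, _, _, q, _, hq, ψT, hψT⟩ :=
    Groth.Agent.Lib.Helper15.FKSplitExists.exists_split_nbhd D B n hrank (maximalIdeal D)
  obtain ⟨σ₀, -⟩ := Groth.Agent.Lib.Helper4.HensSection.exists_residue_point D T q hq
  let uT : D →ₐ[D] ResidueField D := Algebra.ofId D (ResidueField D)
  have huT : Function.Surjective uT := residue_surjective
  have hk : RingHom.ker uT.toRingHom = maximalIdeal D := ker_residue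
  obtain ⟨σ, -, -⟩ := Groth.Agent.Lib.Helper4.IndEt.existsUnique_lift_etale uT huT hk T σ₀
  letI : Algebra T D := σ.toRingHom.toAlgebra
  haveI : IsScalarTower D T D := IsScalarTower.of_algebraMap_eq (fun d => (σ.commutes d).symm)
  exact ⟨_, hψT.baseChange (S' := D)⟩

end local_case

section semilocal

variable (H : Type u) [CommRing H] [HenselianLocalRing H] [IsSepClosed (ResidueField H)]
  (C : Type v) [CommRing C] [Algebra H C] [Algebra.IsIntegral H C]
  (hinj : Function.Injective (algebraMap H C)) [Finite (MaximalSpectrum C)]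
  (B : Type w) [Ring B] [Algebra C B] [IsAzumaya C B] (n : ℕ)
  (hrank : ∀ p : PrimeSpectrum C, Module.rankAtStalk (R := C) B p = n ^ 2)

include hinj hrank

/-- Azumaya algebras of degree `n` over `C` are matrix algebras -/
theorem exists_split_semilocal : ∃ ψ : B →ₐ[C] Matrix (Fin n) (Fin n) C, Split C ψ := by
  classical
  haveI := Fintype.ofFinite (MaximalSpectrum C)
  have hloc : ∀ I : MaximalSpectrum C,
      HasForm (0 : B →ₗ[C] B) (Fin n) 0 0 (Localization.AtPrime I.asIdeal) := by
    intro I
    haveI := I.isMaximal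
    obtain ⟨-, hh, hs⟩ := Groth.Agent.Lib.Helper15.FRSemiLocal.localization_props H C hinj I.asIdeal
    haveI := hh
    haveI := hs
    let D := Localization.AtPrime I.asIdeal
    haveI : IsAzumaya D (D ⊗[C] B) := isAzumaya_baseChange C D B
    have hr : ∀ p : PrimeSpectrum D, Module.rankAtStalk (R := D) (D ⊗[C] B) p = n ^ 2 := by
      intro p
      rw [Module.rankAtStalk_baseChange, hrank]
    obtain ⟨ψ', hψ'⟩ := exists_split_strictHensel D (D ⊗[C] B) n hr
    have hb := bijective_of_split_self ψ' hψ'
    refine ⟨_, split_of_bijective_tensor D ψ' hb, fun a => ?_⟩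
    simp
  have hpi := HasForm.pi (fun I : MaximalSpectrum C => Localization.AtPrime I.asIdeal) hloc
  let e : C ≃+* MaximalSpectrum.PiLocalization C :=
    RingEquiv.ofBijective (MaximalSpectrum.toPiLocalization C)
      (Groth.Agent.Lib.Helper15.FRSemiLocal.toPiLocalization_bijective H C hinj)
  have hC : HasForm (0 : B →ₗ[C] B) (Fin n) 0 0 C :=
    HasForm.of_ringHom (e.symm : MaximalSpectrum.PiLocalization C →+* C) (fun c => by
      change e.symm (MaximalSpectrum.toPiLocalization C c) = c
      exact e.symm_apply_apply c) hpi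
  obtain ⟨ψ, hψ, -⟩ := hC
  exact ⟨ψ, hψ⟩

/-- the isomorphism with the matrix algebra -/
theorem nonempty_algEquiv_matrix : Nonempty (B ≃ₐ[C] Matrix (Fin n) (Fin n) C) := by
  obtain ⟨ψ, hψ⟩ := exists_split_semilocal H C hinj B n hrank
  exact ⟨AlgEquiv.ofBijective ψ (bijective_of_split_self ψ hψ)⟩

end semilocal

end Groth.Agent.Lib.Helper15.FRSplit
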