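import Mathlib

/-!
# The identification `T ⊗[S] A ≃ (T ⊗[S] R) ⊗[R] A`
-/

set_option autoImplicit false
set_option linter.style.haveILetI false

open scoped TensorProduct

namespace Groth.Agent.Lib.Helper15.FRTheta

attribute [local instance] Algebra.TensorProduct.rightAlgebra

section

variable (S : Type*) [CommRing S] (R : Type*) [CommRing R] [Algebra S R]
  (A : Type*) [Ring A] [Algebra S A] [Algebra R A] [IsScalarTower S R A]
  (T : Type*) [CommRing T] [Algebra S T]

/-- `T ⊗ R → T ⊗ A` -/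
noncomputable def iota : T ⊗[S] R →ₐ[T] T ⊗[S] A :=
  Algebra.TensorProduct.map (AlgHom.id T T) (IsScalarTower.toAlgHom S R A)

theorem iota_tmul (t : T) (r : R) : iota S R A T (t ⊗ₜ r) = t ⊗ₜ algebraMap R A r := by
  simp [iota]

theorem iota_commute (c : T ⊗[S] R) (x : T ⊗[S] A) :
    iota S R A T c * x = x * iota S R A T c := by
  induction c using TensorProduct.induction_on with
  | zero => simp
  | tmul t r =>
    induction x using TensorProduct.induction_on with
    | zero => simp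
    | tmul t' a =>
      rw [iota_tmul, Algebra.TensorProduct.tmul_mul_tmul, Algebra.TensorProduct.tmul_mul_tmul,
        mul_comm, Algebra.commutes]
    | add x y hx hy => rw [mul_add, add_mul, hx, hy]
  | add c d hc hd => rw [map_add, add_mul, mul_add, hc, hd]

/-- the forward map as an `S`-algebra map -/
noncomputable def fwdS : T ⊗[S] A →ₐ[S] (T ⊗[S] R) ⊗[R] A :=
  Algebra.TensorProduct.lift
    (((Algebra.TensorProduct.includeLeft : T ⊗[S] R →ₐ[S] (T ⊗[S] R) ⊗[R] A)).comp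
      (Algebra.TensorProduct.includeLeft : T →ₐ[S] T ⊗[S] R))
    ((Algebra.TensorProduct.includeRight : A →ₐ[R] (T ⊗[S] R) ⊗[R] A).restrictScalars S)
    (fun t a => by
      change Commute (((t ⊗ₜ[S] (1 : R)) ⊗ₜ[R] (1 : A)) : (T ⊗[S] R) ⊗[R] A)
        ((1 : T ⊗[S] R) ⊗ₜ[R] a)
      rw [Commute, SemiconjBy, Algebra.TensorProduct.tmul_mul_tmul,
        Algebra.TensorProduct.tmul_mul_tmul, mul_one, one_mul, mul_one, one_mul])

theorem fwdS_tmul (t : T) (a : A) :
    fwdS S R A T (t ⊗ₜ a) = (t ⊗ₜ[S] (1 : R)) ⊗ₜ[R] a := by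
  rw [fwdS, Algebra.TensorProduct.lift_tmul]
  change ((t ⊗ₜ[S] (1 : R)) ⊗ₜ[R] (1 : A)) * ((1 : T ⊗[S] R) ⊗ₜ[R] a) = _
  rw [Algebra.TensorProduct.tmul_mul_tmul, mul_one, one_mul]

/-- the backward map as an additive map -/
noncomputable def bwd : (T ⊗[S] R) ⊗[R] A →+ T ⊗[S] A :=
  TensorProduct.liftAddHom
    ((AddMonoidHom.mul : T ⊗[S] A →+ T ⊗[S] A →+ T ⊗[S] A).comp
      (iota S R A T : T ⊗[S] R →+ T ⊗[S] A) |>.flip.comp
        ((Algebra.TensorProduct.includeRight : A →ₐ[S] T ⊗[S] A) : A →+ T ⊗[S] A) |>.flip)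
    (fun r c a => by
      change iota S R A T (r • c) * ((1 : T) ⊗ₜ[S] a) = iota S R A T c * ((1 : T) ⊗ₜ[S] (r • a))
      have h1 : r • c = ((1 : T) ⊗ₜ[S] r) * c := by
        rw [Algebra.smul_def]
        rfl
      have h2 : ((1 : T) ⊗ₜ[S] (r • a) : T ⊗[S] A) =
          iota S R A T ((1 : T) ⊗ₜ[S] r) * ((1 : T) ⊗ₜ[S] a) := by
        rw [iota_tmul, Algebra.TensorProduct.tmul_mul_tmul, one_mul, Algebra.smul_def]
      rw [h1, h2, map_mul, ← mul_assoc, iota_commute S R A T ((1 : T) ⊗ₜ[S] r) (iota S R A T c)])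

theorem bwd_tmul (c : T ⊗[S] R) (a : A) :
    bwd S R A T (c ⊗ₜ a) = iota S R A T c * ((1 : T) ⊗ₜ[S] a) := rfl

theorem bwd_fwdS (x : T ⊗[S] A) : bwd S R A T (fwdS S R A T x) = x := by
  induction x using TensorProduct.induction_on with
  | zero => simp
  | tmul t a =>
    rw [fwdS_tmul, bwd_tmul, iota_tmul, map_one, Algebra.TensorProduct.tmul_mul_tmul, mul_one,
      one_mul]
  | add x y hx hy => rw [map_add, map_add, hx, hy]

theorem fwdS_bwd (y : (T ⊗[S] R) ⊗[R] A) : fwdS S R A T (bwd S R A T y) = y := by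
  induction y using TensorProduct.induction_on with
  | zero => simp
  | tmul c a =>
    induction c using TensorProduct.induction_on with
    | zero => simp
    | tmul t r =>
      rw [bwd_tmul, iota_tmul, Algebra.TensorProduct.tmul_mul_tmul, mul_one, fwdS_tmul,
        ← Algebra.smul_def, ← TensorProduct.smul_tmul]
      congr 1
      rw [Algebra.smul_def]
      change ((1 : T) ⊗ₜ[S] r) * (t ⊗ₜ[S] (1 : R)) = _
      rw [Algebra.TensorProduct.tmul_mul_tmul, one_mul, mul_one]
    | add c d hc hd => rw [TensorProduct.add_tmul, map_add, map_add, hc, hd]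
  | add x y hx hy => rw [map_add, map_add, hx, hy]

/-- the identification as a `T`-algebra isomorphism -/
noncomputable def theta : T ⊗[S] A ≃ₐ[T] (T ⊗[S] R) ⊗[R] A :=
  AlgEquiv.ofBijective
    { (fwdS S R A T : T ⊗[S] A →+* (T ⊗[S] R) ⊗[R] A) with
      commutes' := fun t => by
        change fwdS S R A T (t ⊗ₜ[S] (1 : A)) = _
        rw [fwdS_tmul]
        rfl }
    ⟨Function.LeftInverse.injective (bwd_fwdS S R A T),
      Function.RightInverse.surjective (fwdS_bwd S R A T)⟩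

theorem theta_tmul (t : T) (a : A) :
    theta S R A T (t ⊗ₜ a) = (t ⊗ₜ[S] (1 : R)) ⊗ₜ[R] a := fwdS_tmul S R A T t a

theorem smul_eq (c : T ⊗[S] R) (y : (T ⊗[S] R) ⊗[R] A) :
    c • y = (c ⊗ₜ[R] (1 : A)) * y := by
  induction y using TensorProduct.induction_on with
  | zero => simp
  | tmul d a =>
    rw [TensorProduct.smul_tmul', Algebra.TensorProduct.tmul_mul_tmul, one_mul, smul_eq_mul]
  | add x y hx hy => rw [smul_add, mul_add, hx, hy]

theorem theta_one_tmul_mul (r : R) (x : T ⊗[S] A) :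
    theta S R A T (((1 : T) ⊗ₜ[S] algebraMap R A r) * x) =
      ((1 : T) ⊗ₜ[S] r : T ⊗[S] R) • theta S R A T x := by
  rw [map_mul, theta_tmul, smul_eq]
  congr 1
  rw [Algebra.algebraMap_eq_smul_one, ← TensorProduct.smul_tmul]
  congr 1
  rw [Algebra.smul_def]
  change ((1 : T) ⊗ₜ[S] r) * ((1 : T) ⊗ₜ[S] (1 : R)) = _
  rw [Algebra.TensorProduct.tmul_mul_tmul, one_mul, mul_one]

end

end Groth.Agent.Lib.Helper15.FRTheta
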