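import Mathlib
import Groth.Prelude.Def_AzInv
import Groth.Prelude.Def_W4c2azumayainvolQEt
import Groth.Agent.Lib.Helper15.FRDescent
import Groth.Agent.Lib.Helper15.FRTheta
import Groth.Agent.Lib.Helper15.FRMatUnits
import Groth.Agent.Lib.Helper15.FRSplit
import Groth.Agent.Lib.Helper15.FKLocal
import Groth.Agent.Lib.Helper15.AzInvInner
import Groth.Agent.Lib.Helper4.HzsStrict
import Groth.Agent.Lib.Helper4.IndEtHz
import Groth.Agent.Lib.Helper4.IndEtLoc
import Groth.Agent.S0734
import Groth.Agent.S15586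

/-!
# Azumaya algebras over a ring with involution are split étale-locally on the fixed ring
-/

set_option autoImplicit false
set_option linter.style.haveILetI false
universe u v w

open scoped TensorProduct
open IsLocalRing

namespace Groth.Agent.Lib.Helper15.FRMain

open Groth.Agent.Lib.Helper15.FRDescent Groth.Agent.Lib.Helper15.FRTheta
  Groth.Agent.Lib.Helper15.FRMatUnits Groth.Agent.Lib.Helper15.Azumaya

attribute [local instance] Algebra.TensorProduct.rightAlgebra

section data

variable (S : Type u) (R : Type v) [CommRing S] [CommRing R] [Algebra S R]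
  (A : Type w) [Ring A] [Algebra S A] [Algebra R A] [IsScalarTower S R A] (n : ℕ)

/-- `T ⊗[S] A` contains a full system of `n × n` matrix units -/
def HasUnits (T : Type u) [CommRing T] [Algebra S T] : Prop :=
  ∃ e : Fin n → Fin n → T ⊗[S] A, IsUnits n e

/-- the target property -/
def IsSplitOver (T : Type u) [CommRing T] [Algebra S T] : Prop :=
  ∃ f : T ⊗[S] A ≃ₐ[T] Matrix (Fin n) (Fin n) (T ⊗[S] R),
    ∀ (r : R) (x : T ⊗[S] A),
      f (((1 : T) ⊗ₜ[S] algebraMap R A r) * x) = Matrix.scalar (Fin n) ((1 : T) ⊗ₜ[S] r) * f x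

variable {S A n} in
theorem HasUnits.pi {ι : Type u} [Fintype ι] [DecidableEq ι] (T : ι → Type u)
    [∀ i, CommRing (T i)] [∀ i, Algebra S (T i)] (h : ∀ i, HasUnits S A n (T i)) :
    HasUnits S A n (Π i, T i) := by
  choose e he using h
  have hP : IsUnits n (fun a b => (fun i => e i a b : Π i, T i ⊗[S] A)) := by
    refine ⟨fun a b c d => ?_, ?_⟩
    · funext i
      rw [Pi.mul_apply, (he i).1]
      split_ifs <;> rfl
    · funext i
      rw [Finset.sum_apply, (he i).2]
      rfl
  exact ⟨_, hP.map (AzInvInner.piTensor (S := S) (A := A) T).symm⟩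

end data

section azumaya

variable (S : Type u) (R : Type v) [CommRing S] [CommRing R] [Algebra S R]
  (A : Type w) [Ring A] [Algebra S A] [Algebra R A] [IsScalarTower S R A] (n : ℕ)
  (hA : AzInv.IsAzumayaDeg R A n)

include hA

theorem isAzumaya_bc (T : Type*) [CommRing T] [Algebra S T] :
    IsAzumaya (T ⊗[S] R) ((T ⊗[S] R) ⊗[R] A) :=
  haveI := hA.1
  isAzumaya_baseChange R (T ⊗[S] R) A

theorem rank_bc (T : Type*) [CommRing T] [Algebra S T] (p : PrimeSpectrum (T ⊗[S] R)) :
    Module.rankAtStalk (R := T ⊗[S] R) ((T ⊗[S] R) ⊗[R] A) p = n ^ 2 := by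
  haveI := hA.1
  rw [Module.rankAtStalk_baseChange, hA.2]

/-- matrix units give the splitting -/
theorem isSplitOver_of_hasUnits (hn : 0 < n) (T : Type u) [CommRing T] [Algebra S T]
    (h : HasUnits S A n T) : IsSplitOver S R A n T := by
  obtain ⟨e, he⟩ := h
  haveI := isAzumaya_bc S R A n hA T
  have he' : IsUnits n (fun a b => theta S R A T (e a b)) :=
    he.map (theta S R A T)
  let Φ : Matrix (Fin n) (Fin n) (T ⊗[S] R) ≃ₐ[T ⊗[S] R] (T ⊗[S] R) ⊗[R] A :=
    unitsEquiv hn (rank_bc S R A n hA T) _ he'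
  refine ⟨(theta S R A T).trans (Φ.symm.restrictScalars T), fun r x => ?_⟩
  change Φ.symm (theta S R A T (((1 : T) ⊗ₜ[S] algebraMap R A r) * x)) =
    Matrix.scalar (Fin n) ((1 : T) ⊗ₜ[S] r) * Φ.symm (theta S R A T x)
  rw [theta_one_tmul_mul, map_smul, Matrix.scalar_apply, Matrix.smul_eq_diagonal_mul]

end azumaya

section local_claim

variable (S : Type u) (R : Type v) [CommRing S] [CommRing R] [Algebra S R]
  (lam : R ≃ₐ[S] R) (hlam : ∀ r, lam (lam r) = r) (hfix : RInv.IsFixedRing S R lam.toRingEquiv)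
  (A : Type w) [Ring A] [Algebra S A] [Algebra R A] [IsScalarTower S R A] (n : ℕ)
  (hA : AzInv.IsAzumayaDeg R A n)

include hlam hfix hA

/-- over a strictly henselian flat algebra there are matrix units -/
theorem hasUnits_strictHensel (H : Type u) [CommRing H] [Algebra S H] [HenselianLocalRing H]
    [IsSepClosed (ResidueField H)] [Module.Flat S H] : HasUnits S A n H := by
  classical
  -- the base-changed involution
  let lamH : H ⊗[S] R ≃+* H ⊗[S] R :=
    (Algebra.TensorProduct.congr (AlgEquiv.refl : H ≃ₐ[S] H) lam).toRingEquiv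
  have hlamH : ∀ c, lamH (lamH c) = c := by
    intro c
    induction c using TensorProduct.induction_on with
    | zero => simp
    | tmul h r =>
      change Algebra.TensorProduct.congr (AlgEquiv.refl : H ≃ₐ[S] H) lam
        (Algebra.TensorProduct.congr (AlgEquiv.refl : H ≃ₐ[S] H) lam (h ⊗ₜ r)) = _
      simp [hlam]
    | add x y hx hy => rw [map_add, map_add, hx, hy]
  have hfixH : RInv.IsFixedRing H (H ⊗[S] R) lamH :=
    Groth.Agent.S15586.result S R H lam (fun r => hlam r) hfix (Or.inl inferInstance)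
  haveI := Groth.Agent.Lib.Helper15.FRSemiLocal.isIntegral lamH hlamH hfixH
  haveI := Groth.Agent.Lib.Helper15.FRSemiLocal.finite_maximalSpectrum lamH hlamH hfixH
  haveI := isAzumaya_bc S R A n hA H
  obtain ⟨f⟩ := Groth.Agent.Lib.Helper15.FRSplit.nonempty_algEquiv_matrix H (H ⊗[S] R) hfixH.1
    ((H ⊗[S] R) ⊗[R] A) n (rank_bc S R A n hA H)
  have he1 : IsUnits n (fun i j =>
      f.symm (Matrix.single i j (1 : H ⊗[S] R) : Matrix (Fin n) (Fin n) (H ⊗[S] R))) :=
    (isUnits_single (C := H ⊗[S] R) (n := n)).map f.symm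
  exact ⟨_, he1.map (theta S R A H).symm⟩

open Groth.Agent.Lib.Helper4.Hzs Groth.Agent.Lib.Helper4.IndEt in
theorem exists_etale_hasUnits (p : PrimeSpectrum S) :
    ∃ (E : Type u) (_ : CommRing E) (_ : Algebra S E) (_ : Algebra.Etale S E),
      HasUnits S A n E ∧ p ∈ Set.range (PrimeSpectrum.comap (algebraMap S E)) := by
  classical
  let L := Localization.AtPrime p.asIdeal
  let H := Hs L
  letI algSH : Algebra S H := ((algebraMap L H).comp (algebraMap S L)).toAlgebra
  haveI : IsScalarTower S L H := IsScalarTower.of_algebraMap_eq (fun _ => rfl)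
  haveI : Module.Flat S L := IsLocalization.flat L p.asIdeal.primeCompl
  haveI : Module.Flat S H := Module.Flat.trans S L H
  haveI : IsSepClosed (ResidueField H) := (Hs.isSepClosure L).sep_closed
  have hind : EtPBC.IsIndEtale S H := by
    have h1 : EtPBC.IsIndEtale S L :=
      isIndEtale_of_ind S _ (ind_atPrime (R := S) (E := S) (q := p.asIdeal))
    have h2 : EtPBC.IsIndEtale L H := isIndEtale_of_ind L H (Hs.ind L)
    exact Groth.Agent.S0734.result S L H h1 h2
  obtain ⟨e, he⟩ := hasUnits_strictHensel S R lam hlam hfix A n hA H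
  obtain ⟨E, i1, i2, i3, β, e', he'⟩ := exists_etale_units A hind n e he
  refine ⟨E, i1, i2, i3, ⟨e', he'⟩, ⟨⟨(maximalIdeal H).comap β.toRingHom, inferInstance⟩, ?_⟩⟩
  apply PrimeSpectrum.ext
  change ((maximalIdeal H).comap β.toRingHom).comap (algebraMap S E) = p.asIdeal
  rw [Ideal.comap_comap]
  have h1 : β.toRingHom.comp (algebraMap S E) = algebraMap S H := by
    ext s
    exact β.commutes s
  rw [h1, IsScalarTower.algebraMap_eq S L H, ← Ideal.comap_comap]
  have h2 : (maximalIdeal H).comap (algebraMap L H) = maximalIdeal L :=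
    ((local_hom_TFAE (algebraMap L H)).out 0 4).mp (Hs.isLocalHom_algebraMap L)
  rw [h2]
  exact Localization.AtPrime.under_maximalIdeal

end local_claim

section main

variable (S : Type u) (R : Type v) [CommRing S] [CommRing R] [Algebra S R]
  (lam : R ≃ₐ[S] R) (hlam : ∀ r, lam (lam r) = r) (hfix : RInv.IsFixedRing S R lam.toRingEquiv)
  (A : Type w) [Ring A] [Algebra S A] [Algebra R A] [IsScalarTower S R A] (n : ℕ) (hn : 0 < n)
  (hA : AzInv.IsAzumayaDeg R A n)

include hlam hfix hA

/-- étale-local matrix units over the fixed ring -/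
theorem exists_cover_hasUnits :
    ∃ (S' : Type u) (_ : CommRing S') (_ : Algebra S S') (_ : Algebra.Etale S S')
      (_ : Module.FaithfullyFlat S S'), HasUnits S A n S' := by
  apply Groth.Agent.Lib.Helper15.FKLocal.exists_cover_of_points
    (fun (T : Type u) [CommRing T] [Algebra S T] => HasUnits S A n T)
  · intro p
    obtain ⟨E, i1, i2, i3, h1, h2⟩ := exists_etale_hasUnits S R lam hlam hfix A n hA p
    exact ⟨E, i1, i2, i3, h1, h2⟩
  · intro ι _ _ T _ _ h
    exact HasUnits.pi T h

include hn in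
/-- `S17356` -/
theorem main :
    ∃ (S' : Type u) (_ : CommRing S') (_ : Algebra S S') (_ : Algebra.Etale S S')
      (_ : Module.FaithfullyFlat S S') (f : S' ⊗[S] A ≃ₐ[S'] Matrix (Fin n) (Fin n) (S' ⊗[S] R)),
      ∀ (r : R) (x : S' ⊗[S] A),
        f (((1 : S') ⊗ₜ[S] algebraMap R A r) * x) =
          Matrix.scalar (Fin n) ((1 : S') ⊗ₜ[S] r) * f x := by
  obtain ⟨S', i1, i2, i3, i4, h⟩ := exists_cover_hasUnits S R lam hlam hfix A n hA
  obtain ⟨f, hf⟩ := isSplitOver_of_hasUnits S R A n hA hn S' h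
  exact ⟨S', i1, i2, i3, i4, f, hf⟩

end main

end Groth.Agent.Lib.Helper15.FRMain
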