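import Mathlib
import Groth.Prelude.Def_AzInv
import Groth.Prelude.Def_W4c2azumayainvolQEt
import Groth.Agent.Lib.Helper15.FRInvAbs
import Groth.Agent.Lib.Helper15.FRTheta
import Groth.Agent.Lib.Helper15.FRMain

/-!
# The base change of a `lam`-involution as an abstract frame
-/

set_option autoImplicit false
set_option linter.style.haveILetI false
universe u v w

open scoped TensorProduct

namespace Groth.Agent.Lib.Helper15.FRInv1

open Groth.Agent.Lib.Helper15.FRDescent Groth.Agent.Lib.Helper15.FRTheta
  Groth.Agent.Lib.Helper15.FRMatUnits Groth.Agent.Lib.Helper15.FRInvAbs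
  Groth.Agent.Lib.Helper15.FRMain

attribute [local instance] Algebra.TensorProduct.rightAlgebra

section

variable (S : Type*) {R : Type*} [CommRing S] [CommRing R] [Algebra S R]
  (lam : R ≃ₐ[S] R) (hlam : ∀ r, lam (lam r) = r)
  {A : Type*} [Ring A] [Algebra S A] [Algebra R A] [IsScalarTower S R A]
  (t : AzInv.LamInv R A lam) (T : Type*) [CommRing T] [Algebra S T]

/-- the base-changed involution of the centre -/
noncomputable def lamT : T ⊗[S] R ≃ₐ[T] T ⊗[S] R :=
  Algebra.TensorProduct.congr (AlgEquiv.refl : T ≃ₐ[T] T) lam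

theorem lamT_tmul (x : T) (r : R) : lamT S lam T (x ⊗ₜ r) = x ⊗ₜ lam r := by
  simp [lamT]

include hlam in
theorem lamT_lamT (c : T ⊗[S] R) : lamT S lam T (lamT S lam T c) = c := by
  induction c using TensorProduct.induction_on with
  | zero => simp
  | tmul x r => rw [lamT_tmul, lamT_tmul, hlam]
  | add x y hx hy => rw [map_add, map_add, hx, hy]

theorem bc_mul (x y : T ⊗[S] A) :
    t.bc S lam T (x * y) = t.bc S lam T y * t.bc S lam T x := by
  induction x using TensorProduct.induction_on with
  | zero => simp
  | tmul a b =>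
    induction y using TensorProduct.induction_on with
    | zero => simp
    | tmul c d =>
      rw [Algebra.TensorProduct.tmul_mul_tmul, AzInv.LamInv.bc_tmul, AzInv.LamInv.bc_tmul,
        AzInv.LamInv.bc_tmul, Algebra.TensorProduct.tmul_mul_tmul, t.map_mul, mul_comm]
    | add y z hy hz => rw [mul_add, map_add, hy, hz, map_add, add_mul]
  | add x z hx hz => rw [add_mul, map_add, hx, hz, map_add, mul_add]

theorem bc_bc (x : T ⊗[S] A) : t.bc S lam T (t.bc S lam T x) = x := by
  induction x using TensorProduct.induction_on with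
  | zero => simp
  | tmul a b => rw [AzInv.LamInv.bc_tmul, AzInv.LamInv.bc_tmul, t.invol]
  | add x y hx hy => rw [map_add, map_add, hx, hy]

theorem bc_iota (c : T ⊗[S] R) :
    t.bc S lam T (iota S R A T c) = iota S R A T (lamT S lam T c) := by
  induction c using TensorProduct.induction_on with
  | zero => simp
  | tmul x r => rw [iota_tmul, AzInv.LamInv.bc_tmul, lamT_tmul, iota_tmul, t.map_algebraMap]
  | add x y hx hy => rw [map_add, map_add, hx, hy, map_add, map_add]

include hlam in
/-- the frame attached to the base change -/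
noncomputable def frame :
    Frame (T ⊗[S] R) (T ⊗[S] A) (lamT S lam T).toRingEquiv where
  ι := (iota S R A T : T ⊗[S] R →+* T ⊗[S] A)
  comm c x := iota_commute S R A T c x
  tt := t.bc S lam T
  tt_add x y := map_add _ x y
  tt_mul x y := bc_mul S lam t T x y
  tt_tt x := bc_bc S lam t T x
  tt_ι c := bc_iota S lam t T c

theorem theta_iota (c : T ⊗[S] R) :
    theta S R A T (iota S R A T c) = c ⊗ₜ[R] (1 : A) := by
  induction c using TensorProduct.induction_on with
  | zero => simp
  | tmul x r =>
    rw [iota_tmul, theta_tmul, Algebra.algebraMap_eq_smul_one, ← TensorProduct.smul_tmul]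
    congr 1
    rw [Algebra.smul_def]
    change ((1 : T) ⊗ₜ[S] r) * (x ⊗ₜ[S] (1 : R)) = _
    rw [Algebra.TensorProduct.tmul_mul_tmul, one_mul, mul_one]
  | add x y hx hy => rw [map_add, map_add, hx, hy, TensorProduct.add_tmul]

theorem theta_iota_mul (c : T ⊗[S] R) (x : T ⊗[S] A) :
    theta S R A T (iota S R A T c * x) = c • theta S R A T x := by
  rw [map_mul, theta_iota, smul_eq]

end

section split

variable (S : Type u) (R : Type v) [CommRing S] [CommRing R] [Algebra S R]
  (A : Type w) [Ring A] [Algebra S A] [Algebra R A] [IsScalarTower S R A] (n : ℕ)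
  (hA : AzInv.IsAzumayaDeg R A n)

include hA in
/-- matrix units give a splitting which sends them to the standard matrix units -/
theorem exists_split_of_units (hn : 0 < n) (T : Type*) [CommRing T] [Algebra S T]
    (e : Fin n → Fin n → T ⊗[S] A) (he : IsUnits n e) :
    ∃ F : T ⊗[S] A ≃ₐ[T] Matrix (Fin n) (Fin n) (T ⊗[S] R),
      (∀ c x, F (iota S R A T c * x) = c • F x) ∧ ∀ i j, F (e i j) = Matrix.single i j 1 := by
  classical
  haveI := isAzumaya_bc S R A n hA T
  have he' : IsUnits n (fun a b => theta S R A T (e a b)) := he.map (theta S R A T)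
  let Φ : Matrix (Fin n) (Fin n) (T ⊗[S] R) ≃ₐ[T ⊗[S] R] (T ⊗[S] R) ⊗[R] A :=
    unitsEquiv hn (rank_bc S R A n hA T) _ he'
  refine ⟨(theta S R A T).trans (Φ.symm.restrictScalars T), fun c x => ?_, fun i j => ?_⟩
  · change Φ.symm (theta S R A T (iota S R A T c * x)) = c • Φ.symm (theta S R A T x)
    rw [theta_iota_mul, map_smul]
  · change Φ.symm (theta S R A T (e i j)) = _
    rw [AlgEquiv.symm_apply_eq]
    change _ = unitsHom _ he' (Matrix.single i j 1)
    rw [unitsHom_apply, Finset.sum_eq_single i]
    · rw [Finset.sum_eq_single j]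
      · rw [Matrix.single_apply_same, one_smul]
      · intro b _ hb
        rw [Matrix.single_apply_of_ne _ _ _ _ _ (fun h => hb h.2.symm), zero_smul]
      · intro h; exact absurd (Finset.mem_univ _) h
    · intro a _ ha
      apply Finset.sum_eq_zero
      intro b _
      rw [Matrix.single_apply_of_ne _ _ _ _ _ (fun h => ha h.1.symm), zero_smul]
    · intro h; exact absurd (Finset.mem_univ _) h

end split

end Groth.Agent.Lib.Helper15.FRInv1
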