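import Mathlib
import Groth.Prelude.Def_AzInv
import Groth.Prelude.Def_W4c2azumayainvolQEt
import Groth.Agent.Lib.Helper15.FRDescent
import Groth.Agent.Lib.Helper15.AzInvInner
import Groth.Agent.Lib.Helper15.FKLocal

/-!
# Matrix units on which a base-changed involution acts by prescribed global constants
-/

set_option autoImplicit false
set_option linter.style.haveILetI false
universe u v w

open scoped TensorProduct

namespace Groth.Agent.Lib.Helper15.FRInv2

open Groth.Agent.Lib.Helper15.FRDescent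

section defs

variable (S : Type u) {R : Type v} [CommRing S] [CommRing R] [Algebra S R] (lam : R ≃ₐ[S] R)
  {A : Type w} [Ring A] [Algebra S A] [Algebra R A] [IsScalarTower S R A]
  (t : AzInv.LamInv R A lam) {n : ℕ} (κ : Fin n → Fin n → Fin n → Fin n → R)

/-- `T ⊗ A` has `n × n` matrix units on which the involution acts through the constants `κ` -/
def HasKUnits (T : Type u) [CommRing T] [Algebra S T] : Prop :=
  ∃ e : Fin n → Fin n → T ⊗[S] A, IsUnits n e ∧
    ∀ i j, t.bc S lam T (e i j) =
      ∑ k, ∑ l, ((1 : T) ⊗ₜ[S] algebraMap R A (κ i j k l)) * e k l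

variable {S lam}

theorem bc_natural {U U' : Type*} [CommRing U] [Algebra S U] [CommRing U'] [Algebra S U']
    (a : U →ₐ[S] U') (x : U ⊗[S] A) :
    bc A a (t.bc S lam U x) = t.bc S lam U' (bc A a x) := by
  induction x using TensorProduct.induction_on with
  | zero => simp
  | tmul x y => rw [AzInv.LamInv.bc_tmul, bc_tmul, bc_tmul, AzInv.LamInv.bc_tmul]
  | add x y hx hy => rw [map_add, map_add, hx, hy, map_add, map_add]

variable {t κ}

theorem HasKUnits.baseChange {T T' : Type u} [CommRing T] [Algebra S T] [CommRing T']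
    [Algebra S T'] (a : T →ₐ[S] T') (h : HasKUnits S lam t κ T) : HasKUnits S lam t κ T' := by
  obtain ⟨e, he, hrel⟩ := h
  refine ⟨fun i j => bc A a (e i j), he.map (bc A a), fun i j => ?_⟩
  rw [← bc_natural, hrel, map_sum]
  refine Finset.sum_congr rfl fun k _ => ?_
  rw [map_sum]
  refine Finset.sum_congr rfl fun l _ => ?_
  rw [map_mul, bc_tmul, map_one]

theorem HasKUnits.pi {ι : Type u} [Fintype ι] [DecidableEq ι] (T : ι → Type u)
    [∀ i, CommRing (T i)] [∀ i, Algebra S (T i)] (h : ∀ i, HasKUnits S lam t κ (T i)) :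
    HasKUnits S lam t κ (Π i, T i) := by
  choose e he hrel using h
  have hP : IsUnits n (fun a b => (fun i => e i a b : Π i, T i ⊗[S] A)) := by
    refine ⟨fun a b c d => ?_, ?_⟩
    · funext i
      rw [Pi.mul_apply, (he i).1]
      split_ifs <;> rfl
    · funext i
      rw [Finset.sum_apply, (he i).2]
      rfl
  refine ⟨_, hP.map (AzInvInner.piTensor (S := S) (A := A) T).symm, fun a b => ?_⟩
  apply (AzInvInner.piTensor (S := S) (A := A) T).injective
  funext i
  have h1 : AzInvInner.piTensor (S := S) (A := A) T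
      (t.bc S lam (Π i, T i) ((AzInvInner.piTensor (S := S) (A := A) T).symm fun i => e i a b)) i =
      t.bc S lam (T i) (e i a b) := by
    have h2 := AzInvInner.piTensor_baseChange T (t.linS S lam)
      ((AzInvInner.piTensor (S := S) (A := A) T).symm fun i => e i a b) i
    rw [AlgEquiv.apply_symm_apply] at h2
    exact h2
  rw [h1, hrel, map_sum, Finset.sum_apply]
  refine Finset.sum_congr rfl fun k _ => ?_
  rw [map_sum, Finset.sum_apply]
  refine Finset.sum_congr rfl fun l _ => ?_
  rw [map_mul, Pi.mul_apply, AzInvInner.piTensor_tmul, AlgEquiv.apply_symm_apply]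
  rfl

end defs

section descent

variable {S : Type u} {R : Type v} [CommRing S] [CommRing R] [Algebra S R] {lam : R ≃ₐ[S] R}
  {A : Type w} [Ring A] [Algebra S A] [Algebra R A] [IsScalarTower S R A]
  {t : AzInv.LamInv R A lam} {n : ℕ} {κ : Fin n → Fin n → Fin n → Fin n → R}

/-- matrix units with prescribed action of the involution descend from a flat ind-étale algebra
to an étale algebra -/
theorem exists_etale_kunits {H : Type u} [CommRing H] [Algebra S H] [Module.Flat S H]
    (hH : EtPBC.IsIndEtale S H) (e : Fin n → Fin n → H ⊗[S] A) (he : IsUnits n e)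
    (hrel : ∀ i j, t.bc S lam H (e i j) =
      ∑ k, ∑ l, ((1 : H) ⊗ₜ[S] algebraMap R A (κ i j k l)) * e k l) :
    ∃ (E : Type u) (_ : CommRing E) (_ : Algebra S E) (_ : Algebra.Etale S E)
      (_ : E →ₐ[S] H), HasKUnits S lam t κ E := by
  classical
  obtain ⟨U₀, _, _, _, g₀, xs, hxs⟩ :=
    exists_lift_family A (H := H) (ι := Fin n × Fin n) (fun p => e p.1 p.2)
  let rs : Option (Fin n × Fin n × Fin n × Fin n) ⊕ (Fin n × Fin n) → U₀ ⊗[S] A := fun o =>
    match o with
    | Sum.inl none => ∑ i, xs (i, i) - 1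
    | Sum.inl (some (i, j, k, l)) => xs (i, j) * xs (k, l) - (if j = k then xs (i, l) else 0)
    | Sum.inr (i, j) => t.bc S lam U₀ (xs (i, j)) -
        ∑ k, ∑ l, ((1 : U₀) ⊗ₜ[S] algebraMap R A (κ i j k l)) * xs (k, l)
  have hrs : ∀ o, bc A g₀ (rs o) = 0 := by
    intro o
    match o with
    | Sum.inl none =>
      change bc A g₀ (∑ i, xs (i, i) - 1) = 0
      rw [map_sub, map_sum, map_one, sub_eq_zero]
      simp only [hxs]
      exact he.2
    | Sum.inl (some (i, j, k, l)) =>
      change bc A g₀ (xs (i, j) * xs (k, l) - (if j = k then xs (i, l) else 0)) = 0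
      rw [map_sub, map_mul, hxs, hxs, sub_eq_zero, he.1]
      split_ifs
      · rw [hxs]
      · rw [map_zero]
    | Sum.inr (i, j) =>
      change bc A g₀ (t.bc S lam U₀ (xs (i, j)) -
        ∑ k, ∑ l, ((1 : U₀) ⊗ₜ[S] algebraMap R A (κ i j k l)) * xs (k, l)) = 0
      rw [map_sub, bc_natural, hxs, sub_eq_zero, hrel, map_sum]
      refine Finset.sum_congr rfl fun k _ => ?_
      rw [map_sum]
      refine Finset.sum_congr rfl fun l _ => ?_
      rw [map_mul, bc_tmul, map_one, hxs]
  obtain ⟨U₁, _, _, _, a₁, g₁, h₁, h₁'⟩ := exists_kill_family A _ U₀ g₀ rs hrs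
  obtain ⟨E, i1, i2, i3, a₂, β, h₂⟩ := exists_factor_etale hH U₁ g₁
  refine ⟨E, i1, i2, i3, β, fun i j => bc A (a₂.comp a₁) (xs (i, j)), ⟨?_, ?_⟩, ?_⟩
  · intro i j k l
    have h := h₁' (Sum.inl (some (i, j, k, l)))
    change bc A a₁ (xs (i, j) * xs (k, l) - (if j = k then xs (i, l) else 0)) = 0 at h
    have h' := congrArg (bc A a₂) h
    rw [map_zero, ← bc_comp_apply, map_sub, map_mul, sub_eq_zero] at h'
    rw [h']
    split_ifs
    · rfl
    · rw [map_zero]
  · have h := h₁' (Sum.inl none)
    change bc A a₁ (∑ i, xs (i, i) - 1) = 0 at h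
    have h' := congrArg (bc A a₂) h
    rw [map_zero, ← bc_comp_apply, map_sub, map_sum, map_one, sub_eq_zero] at h'
    exact h'
  · intro i j
    have h := h₁' (Sum.inr (i, j))
    change bc A a₁ (t.bc S lam U₀ (xs (i, j)) -
        ∑ k, ∑ l, ((1 : U₀) ⊗ₜ[S] algebraMap R A (κ i j k l)) * xs (k, l)) = 0 at h
    have h' := congrArg (bc A a₂) h
    rw [map_zero, ← bc_comp_apply, map_sub, sub_eq_zero, bc_natural] at h'
    rw [h', map_sum]
    refine Finset.sum_congr rfl fun k _ => ?_
    rw [map_sum]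
    refine Finset.sum_congr rfl fun l _ => ?_
    rw [map_mul, bc_tmul, map_one]

end descent

end Groth.Agent.Lib.Helper15.FRInv2
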