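import Mathlib
import Groth.Prelude.Def_AzInv
import Groth.Prelude.Def_W4c2azumayainvolQEt
import Groth.Agent.Lib.Helper15.FRInv1
import Groth.Agent.Lib.Helper15.FRInv2

/-!
# Two algebras with involution having matrix units with the same constants are isomorphic
-/

set_option autoImplicit false
set_option linter.style.haveILetI false
universe u v w w'

open scoped TensorProduct

namespace Groth.Agent.Lib.Helper15.FRInv3

open Groth.Agent.Lib.Helper15.FRDescent Groth.Agent.Lib.Helper15.FRTheta
  Groth.Agent.Lib.Helper15.FRInvAbs Groth.Agent.Lib.Helper15.FRInv1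
  Groth.Agent.Lib.Helper15.FRInv2

attribute [local instance] Algebra.TensorProduct.rightAlgebra

section

variable (S : Type u) (R : Type v) [CommRing S] [CommRing R] [Algebra S R]
  (lam : R ≃ₐ[S] R) (hlam : ∀ r, lam (lam r) = r)
  (A : Type w) [Ring A] [Algebra S A] [Algebra R A] [IsScalarTower S R A]
  (n : ℕ) (hn : 0 < n) (hA : AzInv.IsAzumayaDeg R A n) (t : AzInv.LamInv R A lam)
  (κ : Fin n → Fin n → Fin n → Fin n → R)

include hlam hn hA in
/-- the involution in matrix coordinates attached to the units -/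
theorem exists_split_formula (T : Type u) [CommRing T] [Algebra S T]
    (h : HasKUnits S lam t κ T) :
    ∃ F : T ⊗[S] A ≃ₐ[T] Matrix (Fin n) (Fin n) (T ⊗[S] R),
      (∀ c x, F (iota S R A T c * x) = c • F x) ∧
      ∀ x, F (t.bc S lam T x) = Matrix.of fun k l =>
        ∑ i, ∑ j, lamT S lam T (F x i j) * ((1 : T) ⊗ₜ[S] κ i j k l) := by
  obtain ⟨e, he, hrel⟩ := h
  obtain ⟨F, hF, hFe⟩ := exists_split_of_units S R A n hA hn T e he
  refine ⟨F, hF, fun x => ?_⟩
  have h1 := formula_of_units (frame S lam t T) F.toRingEquiv (fun c x => hF c x) e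
    (fun i j => hFe i j) (fun i j k l => (1 : T) ⊗ₜ[S] κ i j k l)
    (fun i j => by
      change t.bc S lam T (e i j) = _
      rw [hrel]
      refine Finset.sum_congr rfl fun k _ => Finset.sum_congr rfl fun l _ => ?_
      change _ = iota S R A T ((1 : T) ⊗ₜ[S] κ i j k l) * e k l
      rw [iota_tmul]) x
  exact h1

variable (A' : Type w') [Ring A'] [Algebra S A'] [Algebra R A'] [IsScalarTower S R A']
  (hA' : AzInv.IsAzumayaDeg R A' n) (t' : AzInv.LamInv R A' lam)

include hlam hn hA hA' in
/-- two algebras with involution with matrix units with the same constants are isomorphic -/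
theorem exists_iso_of_kunits (T : Type u) [CommRing T] [Algebra S T]
    (h : HasKUnits S lam t κ T) (h' : HasKUnits S lam t' κ T) :
    ∃ f : T ⊗[S] A ≃ₐ[T] T ⊗[S] A',
      (∀ (r : R) (x : T ⊗[S] A),
        f (((1 : T) ⊗ₜ[S] algebraMap R A r) * x) = ((1 : T) ⊗ₜ[S] algebraMap R A' r) * f x) ∧
      ∀ x : T ⊗[S] A, f (t.bc S lam T x) = t'.bc S lam T (f x) := by
  obtain ⟨F, hF, hform⟩ := exists_split_formula S R lam hlam A n hn hA t κ T h
  obtain ⟨F', hF', hform'⟩ := exists_split_formula S R lam hlam A' n hn hA' t' κ T h'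
  refine ⟨F.trans F'.symm, fun r x => ?_, fun x => ?_⟩
  · change F'.symm (F (((1 : T) ⊗ₜ[S] algebraMap R A r) * x)) = _ * F'.symm (F x)
    rw [← iota_tmul, hF, ← iota_tmul, AlgEquiv.symm_apply_eq, hF', AlgEquiv.apply_symm_apply]
  · change F'.symm (F (t.bc S lam T x)) = t'.bc S lam T (F'.symm (F x))
    rw [AlgEquiv.symm_apply_eq, hform', AlgEquiv.apply_symm_apply, hform]

end

end Groth.Agent.Lib.Helper15.FRInv3
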