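import Mathlib
import Groth.Prelude.Def_AzInv
import Groth.Prelude.Def_W4c2azumayainvolQEt
import Groth.Agent.Lib.Helper15.AzInvInner
import Groth.Agent.S15583
import Groth.Agent.S15580
import Groth.Agent.S15576

/-!
# Normal forms of `lam`-involutions of matrix algebras over a ring with involution whose fixed
ring is local
-/

set_option autoImplicit false
set_option linter.style.haveILetI false

open scoped TensorProduct

namespace Groth.Agent.Lib.Helper15.FRInvNF

open AzInv IsLocalRing

section gram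

variable {H : Type*} {C : Type*} [CommRing H] [IsLocalRing H] [CommRing C] [Algebra H C]
  (lamC : C ≃ₐ[H] C) (hlamC : ∀ c, lamC (lamC c) = c)
  (hfix : RInv.IsFixedRing H C lamC.toRingEquiv)

include hfix in
/-- Skolem–Noether: every `lam`-involution of a matrix algebra is the `lam`-transpose twisted by
a Gram matrix. -/
theorem exists_gram (n : ℕ) (hn : 0 < n) (τ : LamInv C (Matrix (Fin n) (Fin n) C) lamC) :
    ∃ (g g' : Matrix (Fin n) (Fin n) C) (e : C), g * g' = 1 ∧ g' * g = 1 ∧ lamC e * e = 1 ∧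
      LamInv.transpose lamC (Fin n) hlamC g = e • g ∧
      ∀ X, τ X * g = g * LamInv.transpose lamC (Fin n) hlamC X := by
  classical
  haveI : Nonempty (Fin n) := Fin.pos_iff_nonempty.mp hn
  haveI : IsAzumaya C (Matrix (Fin n) (Fin n) C) := IsAzumaya.matrix C (Fin n)
  set T0 := LamInv.transpose lamC (Fin n) hlamC with hT0
  let σ : Matrix (Fin n) (Fin n) C ≃ₐ[C] Matrix (Fin n) (Fin n) C :=
    { toFun := fun X => τ (T0 X)
      invFun := fun X => T0 (τ X)
      left_inv := fun X => by simp
      right_inv := fun X => by simp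
      map_mul' := fun X Y => by rw [T0.map_mul, τ.map_mul]
      map_add' := fun X Y => by rw [T0.map_add, τ.map_add]
      commutes' := fun c => by
        rw [Algebra.algebraMap_eq_smul_one, T0.map_smul, τ.map_smul, hlamC, T0.map_one, τ.map_one] }
  have hσ : ∀ X, σ X = τ (T0 X) := fun X => rfl
  obtain ⟨f, hf, hT⟩ := Groth.Agent.Lib.Helper15.AzInvInner.exists_local_inner lamC hlamC hfix σ
    (maximalIdeal H)
  have hfu : IsUnit f := by
    by_contra h
    exact hf ((mem_maximalIdeal f).mpr h)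
  obtain ⟨u, hu⟩ := hT H (by simpa using hfu)
  let L := Algebra.TensorProduct.lid H (Matrix (Fin n) (Fin n) C)
  have hgg' : L ↑u * L ↑u⁻¹ = 1 := by rw [← map_mul, Units.mul_inv, map_one]
  have hg'g : L ↑u⁻¹ * L ↑u = 1 := by rw [← map_mul, Units.inv_mul, map_one]
  set g := L ↑u with hg
  set g' := L ↑u⁻¹ with hg'
  have hconj : ∀ X, σ X = g * X * g' := by
    intro X
    have h1 := congrArg L (hu ((1 : H) ⊗ₜ[H] X))
    rw [Algebra.TensorProduct.congr_apply, Algebra.TensorProduct.map_tmul, map_mul, map_mul] at h1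
    simp only [L, Algebra.TensorProduct.lid_tmul, one_smul] at h1
    simpa [L] using h1
  have hτ : ∀ X, τ X = g * T0 X * g' := by
    intro X
    have := hconj (T0 X)
    rwa [hσ, T0.invol] at this
  -- the symmetry of the Gram matrix
  set k := T0 g with hk
  set k' := T0 g' with hk'
  have hkk' : k * k' = 1 := by rw [hk, hk', ← T0.map_mul, hg'g, T0.map_one]
  have hk'k : k' * k = 1 := by rw [hk, hk', ← T0.map_mul, hgg', T0.map_one]
  have hττ : ∀ X, X = (g * k') * X * (k * g') := by
    intro X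
    have h1 := τ.invol X
    rw [hτ X, hτ, T0.map_mul, T0.map_mul, T0.invol] at h1
    conv_lhs => rw [← h1]
    simp only [mul_assoc, hk, hk']
  have hzz' : (g * k') * (k * g') = 1 := by
    calc (g * k') * (k * g') = g * (k' * k) * g' := by simp only [mul_assoc]
      _ = 1 := by rw [hk'k, mul_one, hgg']
  have hz'z : (k * g') * (g * k') = 1 := by
    calc (k * g') * (g * k') = k * (g' * g) * k' := by simp only [mul_assoc]
      _ = 1 := by rw [hg'g, mul_one, hkk']
  have hcz : ∀ X, X * (g * k') = (g * k') * X := by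
    intro X
    calc X * (g * k') = (g * k') * X * (k * g') * (g * k') := by rw [← hττ X]
      _ = (g * k') * X * ((k * g') * (g * k')) := by simp only [mul_assoc]
      _ = _ := by rw [hz'z, mul_one]
  have hcz' : ∀ X, X * (k * g') = (k * g') * X := by
    intro X
    calc X * (k * g') = ((k * g') * (g * k')) * X * (k * g') := by rw [hz'z, one_mul]
      _ = (k * g') * ((g * k') * X * (k * g')) := by simp only [mul_assoc]
      _ = _ := by rw [← hττ X]
  obtain ⟨c, hc⟩ := Matrix.mem_range_scalar_of_commute_single (M := g * k')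
    (fun i j _ => hcz _)
  obtain ⟨c', hc'⟩ := Matrix.mem_range_scalar_of_commute_single (M := k * g')
    (fun i j _ => hcz' _)
  have i0 : Fin n := ⟨0, hn⟩
  have hcc' : c * c' = 1 := by
    have h1 := hzz'
    rw [← hc, ← hc', ← map_mul] at h1
    have h2 := congrFun (congrFun h1 i0) i0
    simpa using h2
  -- `k = c' • g`
  have hkg : k = c' • g := by
    have h1 : k = (k * g') * g := by rw [mul_assoc, hg'g, mul_one]
    rw [h1, ← hc', Matrix.scalar_apply, ← Matrix.smul_eq_diagonal_mul]
  refine ⟨g, g', c', hgg', hg'g, ?_, hkg, fun X => ?_⟩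
  · have h1 : T0 k = g := T0.invol g
    rw [hkg, T0.map_smul, ← hk, hkg, smul_smul] at h1
    have h2 : (lamC c' * c') • (g * g') = g * g' := by
      rw [← Matrix.smul_mul, h1]
    rw [hgg'] at h2
    have h3 := congrFun (congrFun h2 i0) i0
    simpa using h3
  · rw [hτ, mul_assoc, hg'g, mul_one]

end gram

section herm

variable {H : Type*} {C : Type*} [CommRing H] [IsLocalRing H] [CommRing C] [Algebra H C]
  (lam : C ≃+* C) (hlam : ∀ c, lam (lam c) = c) (hfix : RInv.IsFixedRing H C lam)
  (hsqH : ∀ x : Hˣ, ∃ y : H, y * y = x)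

include hfix hsqH in
/-- a hermitian invertible matrix is of the form `u u†` -/
theorem herm_eq_mul_lamTr (n : ℕ) (h h' : Matrix (Fin n) (Fin n) C) (hh' : h * h' = 1)
    (herm : LamInv.transpose lam (Fin n) hlam h = h)
    (hcase : (∃ a : C, lam a - a ∉ Ring.jacobson C) ∨ (1 : C) + 1 ∉ Ring.jacobson C ∨ Odd n) :
    ∃ u u' : Matrix (Fin n) (Fin n) C, u * u' = 1 ∧ u' * u = 1 ∧
      h = u * LamInv.transpose lam (Fin n) hlam u := by
  classical
  set T0 := LamInv.transpose lam (Fin n) hlam with hT0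
  have hhu : IsUnit h := ⟨⟨h, h', hh', mul_eq_one_comm.mp hh'⟩, rfl⟩
  obtain ⟨v, hv, d, hD⟩ := Groth.Agent.S15583.result H C lam (fun c => hlam c) hfix n 1
    (Or.inl rfl) h hhu (by rw [one_smul]; exact herm) hcase
  have hD' : T0 v * h * v = Matrix.diagonal d := hD
  obtain ⟨vu, rfl⟩ := hv
  set v : Matrix (Fin n) (Fin n) C := (vu : Matrix (Fin n) (Fin n) C) with hvdef
  set v' : Matrix (Fin n) (Fin n) C := ((vu⁻¹ : (Matrix (Fin n) (Fin n) C)ˣ) : Matrix (Fin n) (Fin n) C) with hv'def
  have hvv' : v * v' = 1 := Units.mul_inv vu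
  have hv'v : v' * v = 1 := Units.inv_mul vu
  -- the diagonal is fixed by the involution
  have hfixD : T0 (Matrix.diagonal d) = Matrix.diagonal d := by
    rw [← hD', T0.map_mul, T0.map_mul, T0.invol, herm, mul_assoc]
  have hd : ∀ i, lam (d i) = d i := by
    intro i
    have h1 := congrFun (congrFun hfixD i) i
    rw [hT0, LamInv.transpose_apply, Matrix.diagonal_apply_eq] at h1
    exact h1
  -- the diagonal entries are units
  have hDu : IsUnit (Matrix.diagonal d) := by
    rw [← hD']
    refine (IsUnit.mul ?_ hhu).mul vu.isUnit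
    exact ⟨⟨T0 v, T0 v', by rw [← T0.map_mul, hv'v, T0.map_one],
      by rw [← T0.map_mul, hvv', T0.map_one]⟩, rfl⟩
  have hdu : ∀ i, IsUnit (d i) := by
    intro i
    have h1 : IsUnit (Matrix.diagonal d).det := (Matrix.isUnit_iff_isUnit_det _).mp hDu
    rw [Matrix.det_diagonal] at h1
    exact isUnit_of_dvd_unit (Finset.dvd_prod_of_mem d (Finset.mem_univ i)) h1
  -- they come from units of `H`
  have hs : ∀ i, ∃ s : Hˣ, algebraMap H C ↑s = d i := by
    intro i
    obtain ⟨s, hs⟩ := (hfix.2 (d i)).mp (hd i)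
    obtain ⟨du, hdu'⟩ := hdu i
    have h2 : lam ↑du⁻¹ = ↑du⁻¹ := by
      have h3 : d i * lam ↑du⁻¹ = 1 := by
        rw [← hd i, ← map_mul, ← hdu', Units.mul_inv, map_one]
      calc lam ↑du⁻¹ = ↑du⁻¹ * (d i * lam ↑du⁻¹) := by
            rw [← mul_assoc, ← hdu', Units.inv_mul, one_mul]
        _ = ↑du⁻¹ := by rw [h3, mul_one]
    obtain ⟨s', hs'⟩ := (hfix.2 _).mp h2
    have h4 : s * s' = 1 := by
      apply hfix.1
      rw [map_mul, hs, hs', map_one, ← hdu', Units.mul_inv]
    exact ⟨⟨s, s', h4, by rw [mul_comm, h4]⟩, hs⟩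
  choose s hs using hs
  choose r hr using fun i => hsqH (s i)
  let Sg : Matrix (Fin n) (Fin n) C := Matrix.diagonal fun i => algebraMap H C (r i)
  have hSgii : ∀ i, Sg i i = algebraMap H C (r i) := fun i => Matrix.diagonal_apply_eq _ _
  have hSgij : ∀ i j, i ≠ j → Sg i j = 0 := fun i j h => Matrix.diagonal_apply_ne _ h
  have hSgfix : T0 Sg = Sg := by
    ext i j
    rw [hT0, LamInv.transpose_apply]
    by_cases hij : i = j
    · subst hij
      rw [hSgii]
      exact (hfix.2 _).mpr ⟨r i, rfl⟩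
    · rw [hSgij _ _ (Ne.symm hij), hSgij _ _ hij, map_zero]
  have hSgSg : Sg * Sg = Matrix.diagonal d := by
    rw [Matrix.diagonal_mul_diagonal]
    congr 1
    funext i
    rw [← map_mul, hr, hs]
  set u := T0 v' * Sg with hu
  have huT : T0 u = Sg * v' := by rw [hu, T0.map_mul, T0.invol, hSgfix]
  have hmain : h = u * T0 u := by
    rw [huT, hu]
    calc h = T0 (v * v') * h * (v * v') := by rw [hvv', T0.map_one, one_mul, mul_one]
      _ = T0 v' * (T0 v * h * v) * v' := by rw [T0.map_mul]; simp only [mul_assoc]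
      _ = T0 v' * (Sg * Sg) * v' := by rw [hD', hSgSg]
      _ = _ := by simp only [mul_assoc]
  have huu' : u * (T0 u * h') = 1 := by rw [← mul_assoc, ← hmain, hh']
  exact ⟨u, T0 u * h', huu', mul_eq_one_comm.mp huu', hmain⟩

end herm

section normalForm

variable {H : Type*} {C : Type*} [CommRing H] [IsLocalRing H] [CommRing C] [Algebra H C]
  (lamC : C ≃ₐ[H] C) (hlamC : ∀ c, lamC (lamC c) = c)
  (hfix : RInv.IsFixedRing H C lamC.toRingEquiv)
  (hsqH : ∀ x : Hˣ, ∃ y : H, y * y = x)

include hfix hsqH in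
/-- the neutral normal form: in the unramified case, or in odd degree, every `lam`-involution of
the matrix algebra is conjugate to the `lam`-transpose -/
theorem normalForm_one (n : ℕ) (hn : 0 < n)
    (hcase : (∃ a : C, lamC a - a ∉ Ring.jacobson C) ∨ Odd n)
    (τ : LamInv C (Matrix (Fin n) (Fin n) C) lamC) :
    ∃ u u' : Matrix (Fin n) (Fin n) C, u * u' = 1 ∧ u' * u = 1 ∧
      ∀ X, τ X * (u * LamInv.transpose lamC (Fin n) hlamC u) =
        (u * LamInv.transpose lamC (Fin n) hlamC u) * LamInv.transpose lamC (Fin n) hlamC X := by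
  classical
  set T0 := LamInv.transpose lamC (Fin n) hlamC with hT0
  obtain ⟨g, g', e, hgg', hg'g, he, hgT, hτ⟩ := exists_gram lamC hlamC hfix n hn τ
  -- a scalar making the Gram matrix hermitian
  have hc : ∃ c c' : C, c * c' = 1 ∧ lamC c * e = c := by
    rcases hcase with hq | hodd
    · have hQ : RInv.IsQuadEtale H C :=
        Groth.Agent.S15576.result H C lamC.toRingEquiv (fun c => hlamC c) hfix hq
      have he' : e * lamC e = 1 := by rw [mul_comm, he]
      obtain ⟨a, ha⟩ := Groth.Agent.S15580.result H C lamC.toRingEquiv (fun c => hlamC c) hfix hQ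
        ⟨e, lamC e, he', he⟩ he
      have ha' : e = ↑a⁻¹ * lamC ↑a := ha
      refine ⟨↑a⁻¹, ↑a, Units.inv_mul a, ?_⟩
      rw [ha']
      calc lamC ↑a⁻¹ * (↑a⁻¹ * lamC ↑a) = ↑a⁻¹ * lamC (↑a⁻¹ * ↑a) := by rw [map_mul]; ring
        _ = ↑a⁻¹ := by rw [Units.inv_mul, map_one, mul_one]
    · obtain ⟨k, hk⟩ := hodd
      set ν := g.det with hν
      set ν' := g'.det with hν'
      have hνν' : ν * ν' = 1 := by rw [hν, hν', ← Matrix.det_mul, hgg', Matrix.det_one]
      have h1 : lamC ν = e ^ n * ν := by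
        have h2 := congrArg Matrix.det hgT
        rw [Matrix.det_smul, Fintype.card_fin] at h2
        rw [← h2]
        change lamC g.det = ((g.map lamC).transpose).det
        rw [Matrix.det_transpose]
        exact (RingHom.map_det (lamC : C →+* C) g)
      set a := lamC e with ha
      have h3 : lamC ν' = a ^ n * ν' := by
        calc lamC ν' = lamC ν' * ((a * e) ^ n * (ν * ν')) := by
              rw [he, one_pow, hνν', mul_one, mul_one]
          _ = a ^ n * ν' * (lamC ν' * (e ^ n * ν)) := by ring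
          _ = a ^ n * ν' * (lamC ν' * lamC ν) := by rw [h1]
          _ = a ^ n * ν' * lamC (ν' * ν) := by rw [map_mul]
          _ = a ^ n * ν' := by rw [mul_comm ν' ν, hνν', map_one, mul_one]
      refine ⟨ν' * a ^ k, ν * e ^ k, ?_, ?_⟩
      · calc ν' * a ^ k * (ν * e ^ k) = (ν * ν') * (a * e) ^ k := by ring
          _ = 1 := by rw [hνν', he, one_pow, mul_one]
      · rw [map_mul, map_pow, ha, hlamC, h3, ← ha, hk]
        calc a ^ (2 * k + 1) * ν' * e ^ k * e = ν' * a ^ k * (a * e) ^ (k + 1) := by ring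
          _ = ν' * a ^ k := by rw [he, one_pow, mul_one]
  obtain ⟨c, c', hcc', hce⟩ := hc
  have herm : T0 (c • g) = c • g := by
    rw [T0.map_smul, hgT, smul_smul, hce]
  have hcase' : (∃ a : C, lamC.toRingEquiv a - a ∉ Ring.jacobson C) ∨
      (1 : C) + 1 ∉ Ring.jacobson C ∨ Odd n := by
    rcases hcase with hq | hodd
    · exact Or.inl hq
    · exact Or.inr (Or.inr hodd)
  obtain ⟨u, u', huu', hu'u, hmain⟩ := herm_eq_mul_lamTr lamC.toRingEquiv (fun c => hlamC c) hfix
    hsqH n (c • g) (c' • g') (by rw [smul_mul_smul_comm, hcc', hgg', one_smul]) herm hcase'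
  refine ⟨u, u', huu', hu'u, fun X => ?_⟩
  have hmain' : u * T0 u = c • g := hmain.symm
  rw [hmain', Matrix.mul_smul, hτ, Matrix.smul_mul]

end normalForm

end Groth.Agent.Lib.Helper15.FRInvNF
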