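import Mathlib
import Groth.Prelude.Def_AzInv
import Groth.Prelude.Def_W4c2azumayainvolQEt
import Groth.Agent.Lib.Helper15.FRInv1
import Groth.Agent.Lib.Helper15.FRInv2
import Groth.Agent.Lib.Helper15.FRInvNF
import Groth.Agent.S15574

/-!
# Matrix units adapted to an involution over a strictly henselian flat algebra
-/

set_option autoImplicit false
set_option linter.style.haveILetI false
universe u v w

open scoped TensorProduct
open IsLocalRing

namespace Groth.Agent.Lib.Helper15.FRInv4

open Groth.Agent.Lib.Helper15.FRDescent Groth.Agent.Lib.Helper15.FRTheta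
  Groth.Agent.Lib.Helper15.FRInvAbs Groth.Agent.Lib.Helper15.FRInv1
  Groth.Agent.Lib.Helper15.FRInv2 Groth.Agent.Lib.Helper15.FRMain
  Groth.Agent.Lib.Helper15.FRInvNF AzInv

attribute [local instance] Algebra.TensorProduct.rightAlgebra

/-- the constants attached to a Gram matrix and its inverse -/
def kap {R : Type*} [CommRing R] {n : ℕ} (G G' : Matrix (Fin n) (Fin n) R) :
    Fin n → Fin n → Fin n → Fin n → R := fun i j k l => G k j * G' i l

section

variable (S : Type u) (R : Type v) [CommRing S] [CommRing R] [Algebra S R]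
  (lam : R ≃ₐ[S] R) (hlam : ∀ r, lam (lam r) = r)
  (A : Type w) [Ring A] [Algebra S A] [Algebra R A] [IsScalarTower S R A]
  (n : ℕ) (hn : 0 < n) (hA : AzInv.IsAzumayaDeg R A n) (t : AzInv.LamInv R A lam)

/-- `R → T ⊗ R` -/
noncomputable def incl (T : Type*) [CommRing T] [Algebra S T] : R →+* T ⊗[S] R :=
  (Algebra.TensorProduct.includeRight : R →ₐ[S] T ⊗[S] R).toRingHom

theorem incl_apply (T : Type*) [CommRing T] [Algebra S T] (r : R) :
    incl S R T r = (1 : T) ⊗ₜ[S] r := rfl

include hlam in
theorem hlamT (T : Type*) [CommRing T] [Algebra S T] (c : T ⊗[S] R) :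
    (lamT S lam T).toRingEquiv ((lamT S lam T).toRingEquiv c) = c :=
  lamT_lamT S lam hlam T c

include hn hA in
/-- a normal form of the transported involution gives adapted matrix units -/
theorem hasKUnits_of_normalForm (T : Type u) [CommRing T] [Algebra S T]
    (h : HasUnits S A n T) :
    ∃ τ : LamInv (T ⊗[S] R) (Matrix (Fin n) (Fin n) (T ⊗[S] R)) (lamT S lam T).toRingEquiv,
      ∀ (G G' : Matrix (Fin n) (Fin n) R), G * G' = 1 →
        ∀ (u u' : Matrix (Fin n) (Fin n) (T ⊗[S] R)), u * u' = 1 → u' * u = 1 →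
        (∀ X, τ X * (u * G.map (incl S R T) *
            LamInv.transpose (lamT S lam T).toRingEquiv (Fin n) (hlamT S R lam hlam T) u) =
          (u * G.map (incl S R T) *
            LamInv.transpose (lamT S lam T).toRingEquiv (Fin n) (hlamT S R lam hlam T) u) *
            LamInv.transpose (lamT S lam T).toRingEquiv (Fin n) (hlamT S R lam hlam T) X) →
        HasKUnits S lam t (kap G G') T := by
  obtain ⟨e, he⟩ := h
  obtain ⟨F, hF, hFe⟩ := exists_split_of_units S R A n hA hn T e he
  refine ⟨(frame S lam t T).transport F.toRingEquiv (fun c x => hF c x), ?_⟩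
  intro G G' hGG' u u' huu' hu'u hτ
  have hGC : G.map (incl S R T) * G'.map (incl S R T) = 1 := by
    rw [← Matrix.map_mul, hGG', Matrix.map_one _ (map_zero _) (map_one _)]
  obtain ⟨h1, h2⟩ := units_of_normalForm (hlamT S R lam hlam T) (frame S lam t T) F.toRingEquiv
    (fun c x => hF c x) u u' (G.map (incl S R T)) (G'.map (incl S R T)) huu' hu'u hGC hτ
  refine ⟨_, h1, fun i j => ?_⟩
  have h3 := h2 i j
  change t.bc S lam T _ = _ at h3
  rw [h3]
  refine Finset.sum_congr rfl fun k _ => Finset.sum_congr rfl fun l _ => ?_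
  change iota S R A T _ * _ = _
  rw [Matrix.map_apply, Matrix.map_apply, incl_apply, incl_apply,
    Algebra.TensorProduct.tmul_mul_tmul, one_mul, iota_tmul]
  rfl

end

section quad

variable (S : Type*) (R : Type*) [CommRing S] [CommRing R] [Algebra S R]

theorem isQuadEtale_baseChange (hq : RInv.IsQuadEtale S R) (H : Type*) [CommRing H]
    [Algebra S H] : RInv.IsQuadEtale H (H ⊗[S] R) := by
  obtain ⟨h1, h2, h3, h4⟩ := hq
  refine ⟨inferInstance, inferInstance, inferInstance, fun p => ?_⟩
  rw [Module.rankAtStalk_baseChange, h4]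

end quad

section hensel

variable (S : Type u) (R : Type v) [CommRing S] [CommRing R] [Algebra S R]
  (lam : R ≃ₐ[S] R) (hlam : ∀ r, lam (lam r) = r) (hfix : RInv.IsFixedRing S R lam.toRingEquiv)
  (A : Type w) [Ring A] [Algebra S A] [Algebra R A] [IsScalarTower S R A]
  (n : ℕ) (hn : 0 < n) (hA : AzInv.IsAzumayaDeg R A n) (t : AzInv.LamInv R A lam)

include hlam hfix in
/-- the fixed ring of the base-changed involution -/
theorem isFixedRing_lamT (H : Type*) [CommRing H] [Algebra S H] [Module.Flat S H] :
    RInv.IsFixedRing H (H ⊗[S] R) (lamT S lam H).toRingEquiv := by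
  have h0 := Groth.Agent.S15586.result S R H lam (fun r => hlam r) hfix (Or.inl inferInstance)
  have hsame : ∀ c : H ⊗[S] R,
      (Algebra.TensorProduct.congr (AlgEquiv.refl : H ≃ₐ[S] H) lam).toRingEquiv c =
        (lamT S lam H).toRingEquiv c := by
    intro c
    induction c using TensorProduct.induction_on with
    | zero => simp
    | tmul h r =>
      change Algebra.TensorProduct.congr (AlgEquiv.refl : H ≃ₐ[S] H) lam (h ⊗ₜ r) =
        lamT S lam H (h ⊗ₜ r)
      rw [lamT_tmul]
      simp
    | add x y hx hy => rw [map_add, map_add, hx, hy]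
  refine ⟨h0.1, fun c => ?_⟩
  rw [← hsame]
  exact h0.2 c

include hlam hfix hn hA in
/-- over a strictly henselian flat algebra in which units are squares there are matrix units on
which the involution acts as the transpose (unramified case, or odd degree) -/
theorem hasKUnits_strictHensel (H : Type u) [CommRing H] [Algebra S H] [HenselianLocalRing H]
    [IsSepClosed (ResidueField H)] [Module.Flat S H]
    (hsqH : ∀ x : Hˣ, ∃ y : H, y * y = x) (hcase : RInv.IsQuadEtale S R ∨ Odd n) :
    HasKUnits S lam t (kap (1 : Matrix (Fin n) (Fin n) R) 1) H := by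
  classical
  have hfixH := isFixedRing_lamT S R lam hlam hfix H
  obtain ⟨τ, hτ⟩ := hasKUnits_of_normalForm S R lam hlam A n hn hA t H
    (hasUnits_strictHensel S R lam hlam hfix A n hA H)
  haveI : Nontrivial (H ⊗[S] R) := hfixH.1.nontrivial
  have hcase' : (∃ a : H ⊗[S] R, lamT S lam H a - a ∉ Ring.jacobson (H ⊗[S] R)) ∨ Odd n := by
    rcases hcase with hq | hodd
    · left
      obtain ⟨r, hr⟩ := Groth.Agent.S15574.result H (H ⊗[S] R) (lamT S lam H).toRingEquiv
        (fun c => lamT_lamT S lam hlam H c) hfixH (isQuadEtale_baseChange S R hq H)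
      refine ⟨r, fun hmem => ?_⟩
      have h1 : IsUnit (lamT S lam H r - r) := by
        have : lamT S lam H r - r = -(r - lamT S lam H r) := by ring
        rw [this]
        exact hr.neg
      have h2 : Ring.jacobson (H ⊗[S] R) = ⊤ := Ideal.eq_top_of_isUnit_mem _ hmem h1
      rw [← Ideal.jacobson_bot, Ideal.jacobson_eq_top_iff] at h2
      exact bot_ne_top h2
    · exact Or.inr hodd
  obtain ⟨u, u', huu', hu'u, hNF⟩ := normalForm_one (lamT S lam H) (lamT_lamT S lam hlam H)
    hfixH hsqH n hn hcase' τ
  refine hτ 1 1 (one_mul 1) u u' huu' hu'u fun X => ?_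
  rw [Matrix.map_one _ (map_zero _) (map_one _), mul_one]
  exact hNF X

end hensel

end Groth.Agent.Lib.Helper15.FRInv4
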