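import Mathlib
import Groth.Prelude.Def_PBC
import Groth.Agent.Lib.Helper15.FRDescent
import Groth.Agent.Lib.Helper4.HensSection2
import Groth.Agent.Lib.Helper4.IndEtUniq

/-!
# Sections of étale faithfully flat algebras over a strictly henselian ring; square roots
-/

set_option autoImplicit false
set_option linter.style.haveILetI false
universe u

open scoped TensorProduct
open IsLocalRing

namespace Groth.Agent.Lib.Helper15.FRInv5

open Groth.Agent.Lib.Helper15.FRDescent

/-- a map to a strictly henselian local ring extends along an étale faithfully flat algebra -/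
theorem exists_section_etale (H : Type u) [CommRing H] [HenselianLocalRing H]
    [IsSepClosed (ResidueField H)] (E : Type u) [CommRing E] (β : E →+* H)
    (E₂ : Type u) [CommRing E₂] [Algebra E E₂] [Algebra.Etale E E₂]
    [Module.FaithfullyFlat E E₂] :
    ∃ β₂ : E₂ →+* H, β₂.comp (algebraMap E E₂) = β := by
  letI : Algebra E H := β.toAlgebra
  obtain ⟨q, hq⟩ := PrimeSpectrum.comap_surjective_of_faithfullyFlat (A := H) (B := H ⊗[E] E₂)
    (closedPoint H)
  have hq' : q.asIdeal.comap (algebraMap H (H ⊗[E] E₂)) = maximalIdeal H :=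
    congrArg PrimeSpectrum.asIdeal hq
  obtain ⟨σ, -⟩ := Groth.Agent.Lib.Helper4.HensSection.exists_residue_point H (H ⊗[E] E₂)
    q.asIdeal hq'
  let uT : H →ₐ[H] ResidueField H := Algebra.ofId H (ResidueField H)
  have huT : Function.Surjective uT := IsLocalRing.residue_surjective
  have hk : RingHom.ker uT.toRingHom = maximalIdeal H := IsLocalRing.ker_residue
  obtain ⟨w, hw, -⟩ := Groth.Agent.Lib.Helper4.IndEt.existsUnique_lift_etale uT huT hk
    (H ⊗[E] E₂) σ
  refine ⟨(w : H ⊗[E] E₂ →+* H).comp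
    (Algebra.TensorProduct.includeRight : E₂ →ₐ[E] H ⊗[E] E₂).toRingHom, ?_⟩
  ext x
  change w ((1 : H) ⊗ₜ[E] algebraMap E E₂ x) = β x
  have h1 : ((1 : H) ⊗ₜ[E] algebraMap E E₂ x : H ⊗[E] E₂) =
      algebraMap H (H ⊗[E] E₂) (β x) := by
    rw [Algebra.TensorProduct.algebraMap_apply, Algebra.algebraMap_eq_smul_one,
      ← TensorProduct.smul_tmul, Algebra.smul_def, mul_one]
    rfl
  rw [h1, AlgHom.commutes]
  rfl

section squares

variable (S : Type u) [CommRing S]
  (hsq : ∀ (S₁ : Type u) [CommRing S₁] [Algebra S S₁] [Algebra.Etale S S₁] (x : S₁ˣ),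
      ∃ (S₂ : Type u) (_ : CommRing S₂) (_ : Algebra S₁ S₂) (_ : Algebra.Etale S₁ S₂)
        (_ : Module.FaithfullyFlat S₁ S₂) (y : S₂), y * y = algebraMap S₁ S₂ ↑x)

include hsq in
/-- if units have square roots étale locally, then units of a strictly henselian ind-étale
algebra are squares -/
theorem units_sq_of_hsq (H : Type u) [CommRing H] [Algebra S H] [HenselianLocalRing H]
    [IsSepClosed (ResidueField H)] (hH : EtPBC.IsIndEtale S H) (x : Hˣ) :
    ∃ y : H, y * y = x := by
  classical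
  let I : Ideal (MvPolynomial (Fin 2) S) :=
    Ideal.span {MvPolynomial.X 0 * MvPolynomial.X 1 - 1}
  have hIfg : I.FG := Submodule.fg_span_singleton _
  haveI hfp : Algebra.FinitePresentation S (MvPolynomial (Fin 2) S ⧸ I) :=
    Algebra.FinitePresentation.quotient hIfg
  let G : MvPolynomial (Fin 2) S →ₐ[S] H :=
    MvPolynomial.aeval ![(x : H), ((x⁻¹ : Hˣ) : H)]
  have hG : ∀ z ∈ I, G z = 0 := by
    intro z hz
    have hle : I ≤ RingHom.ker (G : MvPolynomial (Fin 2) S →+* H) := by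
      rw [Ideal.span_le]
      rintro _ rfl
      change G (MvPolynomial.X 0 * MvPolynomial.X 1 - 1) = 0
      simp [G]
    exact hle hz
  let g : MvPolynomial (Fin 2) S ⧸ I →ₐ[S] H := Ideal.Quotient.liftₐ I G hG
  obtain ⟨E, i1, i2, i3, a, β, hβ⟩ := exists_factor_etale hH (MvPolynomial (Fin 2) S ⧸ I) g
  let ξ : Fin 2 → MvPolynomial (Fin 2) S ⧸ I := fun j => Ideal.Quotient.mk I (MvPolynomial.X j)
  have hξ : ξ 0 * ξ 1 = 1 := by
    have h1 : Ideal.Quotient.mk I (MvPolynomial.X 0 * MvPolynomial.X 1 - 1) = 0 :=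
      Ideal.Quotient.eq_zero_iff_mem.mpr (Ideal.subset_span rfl)
    rw [map_sub, map_mul, map_one, sub_eq_zero] at h1
    exact h1
  let x' : Eˣ := ⟨a (ξ 0), a (ξ 1), by rw [← map_mul, hξ, map_one],
    by rw [← map_mul, mul_comm, hξ, map_one]⟩
  obtain ⟨E₂, j1, j2, j3, j4, y, hy⟩ := hsq E x'
  obtain ⟨β₂, hβ₂⟩ := exists_section_etale H E (β : E →+* H) E₂
  refine ⟨β₂ y, ?_⟩
  rw [← map_mul, hy]
  have h1 : β₂ (algebraMap E E₂ ↑x') = β ↑x' := congrArg (fun m => m ↑x') hβ₂
  rw [h1]
  change β (a (ξ 0)) = x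
  have h2 : β (a (ξ 0)) = g (ξ 0) := congrArg (fun m => m (ξ 0)) hβ
  rw [h2]
  change G (MvPolynomial.X 0) = x
  simp [G]

end squares

end Groth.Agent.Lib.Helper15.FRInv5
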