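import Mathlib
import Groth.Prelude.Def_AzInv
import Groth.Prelude.Def_W4c2azumayainvolQEt
import Groth.Agent.Lib.Helper15.FRInv3
import Groth.Agent.Lib.Helper15.FRInv4
import Groth.Agent.Lib.Helper15.FRInv5

/-!
# Involutions of the neutral type: the unramified case and the case of odd degree
-/

set_option autoImplicit false
set_option linter.style.haveILetI false
universe u v w

open scoped TensorProduct
open IsLocalRing

namespace Groth.Agent.Lib.Helper15.FRInv6

open Groth.Agent.Lib.Helper15.FRDescent Groth.Agent.Lib.Helper15.FRInv2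
  Groth.Agent.Lib.Helper15.FRInv3 Groth.Agent.Lib.Helper15.FRInv4
  Groth.Agent.Lib.Helper15.FRInv5 Groth.Agent.Lib.Helper15.FRMatUnits AzInv

section local_claim

variable (S : Type u) (R : Type v) [CommRing S] [CommRing R] [Algebra S R]
  (lam : R ≃ₐ[S] R) (hlam : ∀ r, lam (lam r) = r) (hfix : RInv.IsFixedRing S R lam.toRingEquiv)
  (hsq : ∀ (S₁ : Type u) [CommRing S₁] [Algebra S S₁] [Algebra.Etale S S₁] (x : S₁ˣ),
      ∃ (S₂ : Type u) (_ : CommRing S₂) (_ : Algebra S₁ S₂) (_ : Algebra.Etale S₁ S₂)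
        (_ : Module.FaithfullyFlat S₁ S₂) (y : S₂), y * y = algebraMap S₁ S₂ ↑x)
  (A : Type w) [Ring A] [Algebra S A] [Algebra R A] [IsScalarTower S R A]
  (n : ℕ) (hn : 0 < n) (hA : AzInv.IsAzumayaDeg R A n) (t : AzInv.LamInv R A lam)
  (hcase : RInv.IsQuadEtale S R ∨ Odd n)

include hlam hfix hsq hn hA hcase

open Groth.Agent.Lib.Helper4.Hzs Groth.Agent.Lib.Helper4.IndEt in
theorem exists_etale_kunits_at (p : PrimeSpectrum S) :
    ∃ (E : Type u) (_ : CommRing E) (_ : Algebra S E) (_ : Algebra.Etale S E),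
      HasKUnits S lam t (kap (1 : Matrix (Fin n) (Fin n) R) 1) E ∧
        p ∈ Set.range (PrimeSpectrum.comap (algebraMap S E)) := by
  classical
  let L := Localization.AtPrime p.asIdeal
  let H := Hs L
  letI algSH : Algebra S H := ((algebraMap L H).comp (algebraMap S L)).toAlgebra
  haveI : IsScalarTower S L H := IsScalarTower.of_algebraMap_eq (fun _ => rfl)
  haveI : Module.Flat S L := IsLocalization.flat L p.asIdeal.primeCompl
  haveI : Module.Flat S H := Module.Flat.trans S L H
  haveI : IsSepClosed (ResidueField H) := (Hs.isSepClosure L).sep_closed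
  have hind : EtPBC.IsIndEtale S H := by
    have h1 : EtPBC.IsIndEtale S L :=
      isIndEtale_of_ind S _ (ind_atPrime (R := S) (E := S) (q := p.asIdeal))
    have h2 : EtPBC.IsIndEtale L H := isIndEtale_of_ind L H (Hs.ind L)
    exact Groth.Agent.S0734.result S L H h1 h2
  have hsqH : ∀ x : Hˣ, ∃ y : H, y * y = x := units_sq_of_hsq S hsq H hind
  obtain ⟨e, he, hrel⟩ := hasKUnits_strictHensel S R lam hlam hfix A n hn hA t H hsqH hcase
  obtain ⟨E, i1, i2, i3, β, hE⟩ := exists_etale_kunits hind e he hrel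
  refine ⟨E, i1, i2, i3, hE, ⟨⟨(maximalIdeal H).comap β.toRingHom, inferInstance⟩, ?_⟩⟩
  apply PrimeSpectrum.ext
  change ((maximalIdeal H).comap β.toRingHom).comap (algebraMap S E) = p.asIdeal
  rw [Ideal.comap_comap]
  have h1 : β.toRingHom.comp (algebraMap S E) = algebraMap S H := by
    ext s
    exact β.commutes s
  rw [h1, IsScalarTower.algebraMap_eq S L H, ← Ideal.comap_comap]
  have h2 : (maximalIdeal H).comap (algebraMap L H) = maximalIdeal L :=
    ((local_hom_TFAE (algebraMap L H)).out 0 4).mp (Hs.isLocalHom_algebraMap L)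
  rw [h2]
  exact Localization.AtPrime.under_maximalIdeal

/-- étale-local matrix units on which the involution acts as the transpose -/
theorem exists_cover_kunits :
    ∃ (S' : Type u) (_ : CommRing S') (_ : Algebra S S') (_ : Algebra.Etale S S')
      (_ : Module.FaithfullyFlat S S'),
      HasKUnits S lam t (kap (1 : Matrix (Fin n) (Fin n) R) 1) S' := by
  apply Groth.Agent.Lib.Helper15.FKLocal.exists_cover_of_points
    (fun (T : Type u) [CommRing T] [Algebra S T] =>
      HasKUnits S lam t (kap (1 : Matrix (Fin n) (Fin n) R) 1) T)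
  · intro p
    obtain ⟨E, i1, i2, i3, h1, h2⟩ :=
      exists_etale_kunits_at S R lam hlam hfix hsq A n hn hA t hcase p
    exact ⟨E, i1, i2, i3, h1, h2⟩
  · intro ι _ _ T _ _ h
    exact HasKUnits.pi T h

end local_claim

section matrixSide

variable (S : Type u) (R : Type v) [CommRing S] [CommRing R] [Algebra S R]
  (lam : R ≃ₐ[S] R) (hlam : ∀ r, lam (lam r) = r) (n : ℕ)

/-- the matrix algebra is Azumaya of degree `n` -/
theorem isAzumayaDeg_matrix (hn : 0 < n) : AzInv.IsAzumayaDeg R (Matrix (Fin n) (Fin n) R) n := by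
  haveI : Nonempty (Fin n) := Fin.pos_iff_nonempty.mp hn
  refine ⟨IsAzumaya.matrix R (Fin n), fun p => ?_⟩
  haveI : Nontrivial R := by
    by_contra h
    rw [not_nontrivial_iff_subsingleton] at h
    exact p.isPrime.ne_top (Subsingleton.elim _ _)
  rw [Module.rankAtStalk_eq_finrank_of_free, Pi.natCast_def, Module.finrank_matrix]
  simp [sq]

/-- the standard matrix units of `T ⊗ Mₙ(R)` -/
theorem hasKUnits_matrix (T : Type u) [CommRing T] [Algebra S T] :
    HasKUnits S lam ((LamInv.self lam hlam).matrix (Fin n))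
      (kap (1 : Matrix (Fin n) (Fin n) R) 1) T := by
  classical
  refine ⟨fun i j => (1 : T) ⊗ₜ[S] (Matrix.single i j (1 : R) : Matrix (Fin n) (Fin n) R),
    (isUnits_single (C := R) (n := n)).map
      (Algebra.TensorProduct.includeRight : Matrix (Fin n) (Fin n) R →ₐ[S]
        T ⊗[S] Matrix (Fin n) (Fin n) R), fun i j => ?_⟩
  rw [AzInv.LamInv.bc_tmul]
  have h1 : (LamInv.self lam hlam).matrix (Fin n) (Matrix.single i j (1 : R)) =
      Matrix.single j i (1 : R) := by
    ext a b
    rw [LamInv.matrix_apply, LamInv.self_apply, Matrix.single_apply, Matrix.single_apply]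
    by_cases h : i = b ∧ j = a
    · rw [if_pos h, if_pos ⟨h.2, h.1⟩, map_one]
    · rw [if_neg h, if_neg (fun h' => h ⟨h'.2, h'.1⟩), map_zero]
  rw [h1, Finset.sum_eq_single j]
  · rw [Finset.sum_eq_single i]
    · simp only [kap, Matrix.one_apply_eq, mul_one, map_one]
      rw [Algebra.TensorProduct.tmul_mul_tmul, one_mul, one_mul]
    · intro l _ hl
      simp only [kap, Matrix.one_apply_ne (Ne.symm hl), mul_zero, map_zero, TensorProduct.tmul_zero,
        zero_mul]
    · intro h; exact absurd (Finset.mem_univ _) h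
  · intro k _ hk
    apply Finset.sum_eq_zero
    intro l _
    simp only [kap, Matrix.one_apply_ne hk, zero_mul, map_zero, TensorProduct.tmul_zero]
  · intro h; exact absurd (Finset.mem_univ _) h

end matrixSide

section oneByOne

variable (R : Type v) [CommRing R] (A : Type w) [Ring A] [Algebra R A] (n : ℕ)

/-- `M₁(A)` is Azumaya of degree `n` when `A` is -/
theorem isAzumayaDeg_one (hA : AzInv.IsAzumayaDeg R A n) :
    AzInv.IsAzumayaDeg R (Matrix (Fin 1) (Fin 1) A) n := by
  haveI := hA.1
  let e : Matrix (Fin 1) (Fin 1) A ≃ₐ[R] A :=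
    { toFun := fun b => b 0 0
      invFun := fun a => Matrix.of fun _ _ => a
      left_inv := fun b => by
        ext i j
        rw [Subsingleton.elim i 0, Subsingleton.elim j 0]
        rfl
      right_inv := fun a => rfl
      map_mul' := fun b c => by simp [Matrix.mul_apply]
      map_add' := fun b c => rfl
      commutes' := fun r => by simp [Matrix.algebraMap_matrix_apply] }
  refine ⟨IsAzumaya.of_AlgEquiv R A _ e.symm, fun p => ?_⟩
  rw [Module.rankAtStalk_eq_of_equiv e.toLinearEquiv, hA.2]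

end oneByOne

section main

variable (S : Type u) (R : Type v) [CommRing S] [CommRing R] [Algebra S R]
  (lam : R ≃ₐ[S] R) (hlam : ∀ r, lam (lam r) = r) (hfix : RInv.IsFixedRing S R lam.toRingEquiv)
  (hsq : ∀ (S₁ : Type u) [CommRing S₁] [Algebra S S₁] [Algebra.Etale S S₁] (x : S₁ˣ),
      ∃ (S₂ : Type u) (_ : CommRing S₂) (_ : Algebra S₁ S₂) (_ : Algebra.Etale S₁ S₂)
        (_ : Module.FaithfullyFlat S₁ S₂) (y : S₂), y * y = algebraMap S₁ S₂ ↑x)
  (A : Type w) [Ring A] [Algebra S A] [Algebra R A] [IsScalarTower S R A]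
  (n : ℕ) (hn : 0 < n) (hA : AzInv.IsAzumayaDeg R A n) (t : AzInv.LamInv R A lam)
  (hcase : RInv.IsQuadEtale S R ∨ Odd n)

include hfix hsq hn hA hcase in
/-- `S17354` and `S17353` -/
theorem sameType_self : AzInv.SameType S lam t (AzInv.LamInv.self lam hlam) := by
  refine ⟨1, n, one_pos, hn, ?_⟩
  have hA₁ := isAzumayaDeg_one R A n hA
  obtain ⟨S', i1, i2, i3, i4, hU⟩ := exists_cover_kunits S R lam hlam hfix hsq
    (Matrix (Fin 1) (Fin 1) A) n hn hA₁ (t.matrix (Fin 1)) hcase
  have hU' := hasKUnits_matrix S R lam hlam n S'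
  obtain ⟨f, hf1, hf2⟩ := exists_iso_of_kunits S R lam hlam (Matrix (Fin 1) (Fin 1) A) n hn hA₁
    (t.matrix (Fin 1)) _ (Matrix (Fin n) (Fin n) R) (isAzumayaDeg_matrix R n hn)
    ((LamInv.self lam hlam).matrix (Fin n)) S' hU hU'
  exact ⟨S', i1, i2, i3, i4, f, hf1, hf2⟩

end main

end Groth.Agent.Lib.Helper15.FRInv6
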