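import Mathlib
import Groth.Prelude.Def_AzInv
import Groth.Prelude.Def_W4c2azumayainvolQEt
import Groth.Agent.Lib.Helper15.AzInvInner

/-!
# A hermitian and a skew-hermitian involution are not isomorphic over a ramified base
-/

set_option autoImplicit false
set_option linter.style.haveILetI false

open scoped TensorProduct

namespace Groth.Agent.Lib.Helper15.FRInvScalar

open AzInv IsLocalRing

variable {H : Type*} {C : Type*} [CommRing H] [IsLocalRing H] [CommRing C] [Algebra H C]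
  (lamC : C ≃ₐ[H] C) (hlamC : ∀ c, lamC (lamC c) = c)
  (hfix : RInv.IsFixedRing H C lamC.toRingEquiv)

include hlamC hfix in
/-- automorphisms of the matrix algebra are inner -/
theorem exists_inner (n : ℕ) (hn : 0 < n)
    (σ : Matrix (Fin n) (Fin n) C ≃ₐ[C] Matrix (Fin n) (Fin n) C) :
    ∃ g g' : Matrix (Fin n) (Fin n) C, g * g' = 1 ∧ g' * g = 1 ∧ ∀ X, σ X = g * X * g' := by
  classical
  haveI : Nonempty (Fin n) := Fin.pos_iff_nonempty.mp hn
  haveI : IsAzumaya C (Matrix (Fin n) (Fin n) C) := IsAzumaya.matrix C (Fin n)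
  obtain ⟨f, hf, hT⟩ := Groth.Agent.Lib.Helper15.AzInvInner.exists_local_inner lamC hlamC hfix σ
    (maximalIdeal H)
  have hfu : IsUnit f := by
    by_contra h
    exact hf ((mem_maximalIdeal f).mpr h)
  obtain ⟨u, hu⟩ := hT H (by simpa using hfu)
  let L := Algebra.TensorProduct.lid H (Matrix (Fin n) (Fin n) C)
  refine ⟨L ↑u, L ↑u⁻¹, by rw [← map_mul, Units.mul_inv, map_one],
    by rw [← map_mul, Units.inv_mul, map_one], fun X => ?_⟩
  have h1 := congrArg L (hu ((1 : H) ⊗ₜ[H] X))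
  rw [Algebra.TensorProduct.congr_apply, Algebra.TensorProduct.map_tmul, map_mul, map_mul] at h1
  simp only [L, Algebra.TensorProduct.lid_tmul, one_smul] at h1
  simpa [L] using h1

include hfix in
/-- over a ramified base with `2` invertible, no isomorphism carries a hermitian Gram matrix to a
skew-hermitian one -/
theorem no_iso_herm_skew (hid : ∀ a : C, lamC a - a ∈ Ring.jacobson C) (h2C : IsUnit (2 : C))
    [Nontrivial C] (N : ℕ) (hN : 0 < N)
    (G₁ G₁' G₂ G₂' : Matrix (Fin N) (Fin N) C) (h11 : G₁ * G₁' = 1) (h22 : G₂ * G₂' = 1)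
    (hG₁ : LamInv.transpose lamC (Fin N) hlamC G₁ = G₁)
    (hG₂ : LamInv.transpose lamC (Fin N) hlamC G₂ = -G₂)
    (ψ : Matrix (Fin N) (Fin N) C ≃ₐ[C] Matrix (Fin N) (Fin N) C)
    (hψ : ∀ X, ψ (G₁ * LamInv.transpose lamC (Fin N) hlamC X * G₁') =
      G₂ * LamInv.transpose lamC (Fin N) hlamC (ψ X) * G₂') : False := by
  classical
  set T0 := LamInv.transpose lamC (Fin N) hlamC with hT0
  have h11' : G₁' * G₁ = 1 := mul_eq_one_comm.mp h11
  have h22' : G₂' * G₂ = 1 := mul_eq_one_comm.mp h22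
  obtain ⟨v, v', hvv', hv'v, hconj⟩ := exists_inner lamC hlamC hfix N hN ψ
  have hstar : T0 v * T0 v' = 1 := by rw [← T0.map_mul, hv'v, T0.map_one]
  have hG₁' : T0 G₁' = G₁' := by
    have h1 : T0 G₁' * G₁ = 1 := by
      have := congrArg T0 h11
      rwa [T0.map_mul, hG₁, T0.map_one] at this
    calc T0 G₁' = T0 G₁' * (G₁ * G₁') := by rw [h11, mul_one]
      _ = G₁' := by rw [← mul_assoc, h1, one_mul]
  have hG₂' : T0 G₂' = -G₂' := by
    have h1 : T0 G₂' * G₂ = -1 := by
      have := congrArg T0 h22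
      rw [T0.map_mul, hG₂, T0.map_one, Matrix.mul_neg] at this
      exact neg_eq_iff_eq_neg.mp this
    calc T0 G₂' = T0 G₂' * (G₂ * G₂') := by rw [h22, mul_one]
      _ = -G₂' := by rw [← mul_assoc, h1, Matrix.neg_mul, one_mul]
  -- the central element
  set z := T0 v * G₂' * v * G₁ with hz
  have hcomm : ∀ Y, z * Y = Y * z := by
    intro Y
    have h1 := hψ (T0 Y)
    rw [T0.invol, hconj, hconj, T0.map_mul, T0.map_mul, T0.invol] at h1
    -- h1 : v * (G₁ * Y * G₁') * v' = G₂ * (T0 v' * (T0 Y ... 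
    have h2 : T0 v * G₂' * (v * (G₁ * Y * G₁') * v') * v * G₁ =
        T0 v * G₂' * (G₂ * (T0 v' * (Y * T0 v)) * G₂') * v * G₁ := by rw [h1]
    calc z * Y = T0 v * G₂' * (v * (G₁ * Y * G₁') * v') * v * G₁ := by
          rw [hz]
          calc T0 v * G₂' * v * G₁ * Y
              = T0 v * G₂' * v * G₁ * Y * (G₁' * G₁) := by rw [h11', mul_one]
            _ = T0 v * G₂' * (v * (G₁ * Y * G₁') * (v' * v)) * G₁ := by
              rw [hv'v]; simp only [mul_assoc, mul_one]
            _ = _ := by simp only [mul_assoc]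
      _ = T0 v * G₂' * (G₂ * (T0 v' * (Y * T0 v)) * G₂') * v * G₁ := h2
      _ = T0 v * (G₂' * G₂) * T0 v' * Y * (T0 v * G₂' * v * G₁) := by simp only [mul_assoc]
      _ = Y * z := by rw [h22', mul_one, hstar, one_mul]
  obtain ⟨c, hc⟩ := Matrix.mem_range_scalar_of_commute_single (M := z)
    (fun i j _ => (hcomm _).symm)
  have i0 : Fin N := ⟨0, hN⟩
  -- `c` is a unit
  have hzu : IsUnit z := by
    have hv : IsUnit v := ⟨⟨v, v', hvv', hv'v⟩, rfl⟩
    have hTv : IsUnit (T0 v) := ⟨⟨T0 v, T0 v', hstar, by rw [← T0.map_mul, hvv', T0.map_one]⟩, rfl⟩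
    have hg1 : IsUnit G₁ := ⟨⟨G₁, G₁', h11, h11'⟩, rfl⟩
    have hg2 : IsUnit G₂' := ⟨⟨G₂', G₂, h22', h22⟩, rfl⟩
    exact ((hTv.mul hg2).mul hv).mul hg1
  have hcu : IsUnit c := by
    have h1 : IsUnit z.det := (Matrix.isUnit_iff_isUnit_det _).mp hzu
    rw [← hc, Matrix.scalar_apply, Matrix.det_diagonal, Finset.prod_const] at h1
    exact (isUnit_pow_iff (by simpa using hN.ne')).mp h1
  -- the symmetry
  have hzG : T0 v * G₂' * v = c • G₁' := by
    have h1 : T0 v * G₂' * v = z * G₁' := by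
      rw [hz, mul_assoc (T0 v * G₂' * v) G₁ G₁', h11, mul_one]
    rw [h1, ← hc, Matrix.scalar_apply, ← Matrix.smul_eq_diagonal_mul]
  have h3 : lamC c • G₁' = -(c • G₁') := by
    have h4 := congrArg T0 hzG
    rw [T0.map_mul, T0.map_mul, T0.invol, hG₂', T0.map_smul, hG₁'] at h4
    rw [← h4, ← hzG]
    simp only [Matrix.neg_mul, Matrix.mul_neg, mul_assoc]
  have h5 : lamC c + c = 0 := by
    have h6 : (lamC c + c) • (G₁' * G₁) = 0 := by
      rw [← Matrix.smul_mul, add_smul, h3, neg_add_cancel, Matrix.zero_mul]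
    rw [h11'] at h6
    have h7 := congrFun (congrFun h6 i0) i0
    simpa using h7
  -- contradiction
  have h8 : (2 : C) * c ∈ Ring.jacobson C := by
    have h9 : (2 : C) * c = -(lamC c - c) := by linear_combination h5
    rw [h9]
    exact Ideal.neg_mem_iff _ |>.mpr (hid c)
  have h10 : Ring.jacobson C = ⊤ := Ideal.eq_top_of_isUnit_mem _ h8 (h2C.mul hcu)
  rw [← Ideal.jacobson_bot, Ideal.jacobson_eq_top_iff] at h10
  exact bot_ne_top h10

end Groth.Agent.Lib.Helper15.FRInvScalar
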