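import Groth.Agent.Lib.Helper15.HermDiag

set_option linter.style.haveILetI false
set_option autoImplicit false

open Matrix

namespace Groth.Agent.Lib.Helper15.SkewBlocks

open Groth.Agent.Lib.Helper15.HermDiag

section symp

variable {A : Type*} [CommRing A] [IsLocalRing A] {lam : A ≃+* A} (hlam : Function.Involutive lam)
  {n : ℕ} {h : Matrix (Fin n) (Fin n) A}
  (herm : (-1 : A) • (h.map lam).transpose = h)
  (hqM : ∀ w : Fin n → A, frm lam h w w ∈ IsLocalRing.maximalIdeal A)

variable (lam h) in
structure Pairs {m : ℕ} (y z : Fin m → Fin n → A) : Prop where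
  yz : ∀ a b, frm lam h (y a) (z b) = if a = b then 1 else 0
  yy : ∀ a b, a ≠ b → frm lam h (y a) (y b) = 0
  zz : ∀ a b, a ≠ b → frm lam h (z a) (z b) = 0

include hlam herm in
theorem frm_swap (x y : Fin n → A) : frm lam h y x = -lam (frm lam h x y) := by
  rw [frm_herm hlam (Or.inr rfl) herm x y]; ring

include hlam herm in
theorem Pairs.zy {m : ℕ} {y z : Fin m → Fin n → A} (hp : Pairs lam h y z) (a b : Fin m) :
    frm lam h (z b) (y a) = if a = b then -1 else 0 := by
  rw [frm_swap hlam herm (y a) (z b), hp.yz a b]
  split_ifs <;> simp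

/-- the flat family indexed by `Fin 2 × Fin m` -/
def flat {m : ℕ} (y z : Fin m → Fin n → A) : Fin 2 × Fin m → Fin n → A :=
  fun p => if p.1 = 0 then y p.2 else z p.2

include hlam herm hqM in
theorem gram_flat {m : ℕ} {y z : Fin m → Fin n → A} (hp : Pairs lam h y z) :
    (Matrix.of fun i j => frm lam h (flat y z i) (flat y z j)) =
      Matrix.blockDiagonal (fun a : Fin m =>
        (Matrix.of fun b b' : Fin 2 => frm lam h (flat y z (b, a)) (flat y z (b', a)))) := by
  ext ⟨b, a⟩ ⟨b', a'⟩
  rw [Matrix.blockDiagonal_apply', Matrix.of_apply]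
  by_cases haa : a = a'
  · subst haa
    rw [if_pos rfl, Matrix.of_apply]
  · rw [if_neg haa]
    fin_cases b <;> fin_cases b'
    · simpa [flat] using hp.yy a a' haa
    · simpa [flat, haa] using hp.yz a a'
    · simpa [flat, Ne.symm haa] using hp.zy hlam herm a' a
    · simpa [flat] using hp.zz a a' haa

include hlam herm hqM in
theorem isUnit_det_gram_flat {m : ℕ} {y z : Fin m → Fin n → A} (hp : Pairs lam h y z) :
    IsUnit (Matrix.of fun i j => frm lam h (flat y z i) (flat y z j)).det := by
  rw [gram_flat hlam herm hqM hp, Matrix.det_blockDiagonal, IsUnit.prod_univ_iff]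
  intro a
  rw [Matrix.det_fin_two]
  simp only [Matrix.of_apply, flat, if_true, Fin.isValue, one_ne_zero, if_false]
  rw [hp.yz a a, if_pos rfl, hp.zy hlam herm a a, if_pos rfl]
  rw [← IsLocalRing.notMem_maximalIdeal]
  intro hc
  have h1 : (1 : A) = (frm lam h (y a) (y a) * frm lam h (z a) (z a) - 1 * -1) -
      frm lam h (y a) (y a) * frm lam h (z a) (z a) := by ring
  apply (IsLocalRing.maximalIdeal.isMaximal A).ne_top
  rw [Ideal.eq_top_iff_one, h1]
  exact Ideal.sub_mem _ hc (Ideal.mul_mem_right _ _ (hqM _))

include hlam herm hqM in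
theorem exists_pairs (hh : IsUnit h) :
    ∀ m, 2 * m ≤ n → ∃ y z : Fin m → Fin n → A, Pairs lam h y z := by
  intro m
  induction m with
  | zero =>
    intro _
    exact ⟨Fin.elim0, Fin.elim0, ⟨fun a => a.elim0, fun a => a.elim0, fun a => a.elim0⟩⟩
  | succ m ih =>
    intro hm
    obtain ⟨y, z, hp⟩ := ih (by omega)
    have hcard : Fintype.card (Fin 2 × Fin m) < n := by
      rw [Fintype.card_prod, Fintype.card_fin, Fintype.card_fin]; omega
    obtain ⟨u, v, hu, hv, ht⟩ := exists_pair_gram hlam (Or.inr rfl) herm
      (IsLocalRing.maximalIdeal A) hh hcard (flat y z) (isUnit_det_gram_flat hlam herm hqM hp)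
    have huy : ∀ a, frm lam h (y a) u = 0 := fun a => by simpa [flat] using hu (0, a)
    have huz : ∀ a, frm lam h (z a) u = 0 := fun a => by simpa [flat] using hu (1, a)
    have hvy : ∀ a, frm lam h (y a) v = 0 := fun a => by simpa [flat] using hv (0, a)
    have hvz : ∀ a, frm lam h (z a) v = 0 := fun a => by simpa [flat] using hv (1, a)
    have htu : IsUnit (frm lam h u v) := IsLocalRing.notMem_maximalIdeal.1 ht
    obtain ⟨ti, hti⟩ := htu.exists_right_inv
    set v' : Fin n → A := ti • v with hv'
    have huv' : frm lam h u v' = 1 := by rw [hv', frm_smul_right, mul_comm, hti]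
    have hv'y : ∀ a, frm lam h (y a) v' = 0 := fun a => by rw [hv', frm_smul_right, hvy, mul_zero]
    have hv'z : ∀ a, frm lam h (z a) v' = 0 := fun a => by rw [hv', frm_smul_right, hvz, mul_zero]
    have sw0 : ∀ p q : Fin n → A, frm lam h p q = 0 → frm lam h q p = 0 := by
      intro p q hpq
      rw [frm_swap hlam herm p q, hpq, map_zero, neg_zero]
    refine ⟨Fin.snoc (α := fun _ => Fin n → A) y u, Fin.snoc (α := fun _ => Fin n → A) z v', ?_, ?_, ?_⟩
    · intro a b
      induction a using Fin.lastCases with
      | last =>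
        induction b using Fin.lastCases with
        | last => rw [Fin.snoc_last, Fin.snoc_last, if_pos rfl]; exact huv'
        | cast b =>
          rw [Fin.snoc_last, Fin.snoc_castSucc, if_neg (Fin.castSucc_lt_last b).ne']
          exact sw0 _ _ (huz b)
      | cast a =>
        induction b using Fin.lastCases with
        | last =>
          rw [Fin.snoc_last, Fin.snoc_castSucc, if_neg (Fin.castSucc_lt_last a).ne]
          exact hv'y a
        | cast b =>
          rw [Fin.snoc_castSucc, Fin.snoc_castSucc, hp.yz a b]
          simp only [Fin.castSucc_inj]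
    · intro a b hab
      induction a using Fin.lastCases with
      | last =>
        induction b using Fin.lastCases with
        | last => exact absurd rfl hab
        | cast b => rw [Fin.snoc_last, Fin.snoc_castSucc]; exact sw0 _ _ (huy b)
      | cast a =>
        induction b using Fin.lastCases with
        | last => rw [Fin.snoc_last, Fin.snoc_castSucc]; exact huy a
        | cast b =>
          rw [Fin.snoc_castSucc, Fin.snoc_castSucc]
          exact hp.yy a b (fun hc => hab (by rw [hc]))
    · intro a b hab
      induction a using Fin.lastCases with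
      | last =>
        induction b using Fin.lastCases with
        | last => exact absurd rfl hab
        | cast b => rw [Fin.snoc_last, Fin.snoc_castSucc]; exact sw0 _ _ (hv'z b)
      | cast a =>
        induction b using Fin.lastCases with
        | last => rw [Fin.snoc_last, Fin.snoc_castSucc]; exact hv'z a
        | cast b =>
          rw [Fin.snoc_castSucc, Fin.snoc_castSucc]
          exact hp.zz a b (fun hc => hab (by rw [hc]))

end symp

section final

/-- the index equivalence `(b, a) ↦ 2 a + b` -/
def eqv (m n : ℕ) (hn : n = 2 * m) : Fin 2 × Fin m ≃ Fin n where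
  toFun p := ⟨2 * p.2.val + p.1.val, by have := p.1.isLt; have := p.2.isLt; omega⟩
  invFun i := (⟨i.val % 2, by omega⟩, ⟨i.val / 2, by have := i.isLt; omega⟩)
  left_inv := by
    rintro ⟨b, a⟩
    have := b.isLt
    ext
    · simp only; omega
    · simp only; omega
  right_inv := by
    intro i
    ext
    simp only
    omega

variable {A : Type*} [CommRing A] [IsLocalRing A] {lam : A ≃+* A} (hlam : Function.Involutive lam)
  {n : ℕ} {h : Matrix (Fin n) (Fin n) A}

include hlam in
theorem main (hid : ∀ a : A, lam a - a ∈ Ring.jacobson A) (h2 : IsUnit (2 : A))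
    (hh : IsUnit h) (herm : -(h.map lam).transpose = h) :
    Even n ∧ ∃ v : Matrix (Fin n) (Fin n) A, IsUnit v ∧
      ∀ i j : Fin n,
        (i.val / 2 ≠ j.val / 2 → ((v.map lam).transpose * h * v) i j = 0) ∧
        (i.val / 2 = j.val / 2 → (Even i.val ↔ Even j.val) →
          ((v.map lam).transpose * h * v) i j ∈ Ring.jacobson A) ∧
        (i.val / 2 = j.val / 2 → Even i.val → ¬ Even j.val →
          ((v.map lam).transpose * h * v) i j - 1 ∈ Ring.jacobson A) ∧
        (i.val / 2 = j.val / 2 → ¬ Even i.val → Even j.val →
          ((v.map lam).transpose * h * v) i j + 1 ∈ Ring.jacobson A) := by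
  classical
  have hJ : Ring.jacobson A = IsLocalRing.maximalIdeal A := by
    rw [← Ideal.jacobson_bot]
    exact IsLocalRing.jacobson_eq_maximalIdeal ⊥ bot_ne_top
  have herm' : (-1 : A) • (h.map lam).transpose = h := by rw [neg_one_smul]; exact herm
  have hε : ((-1 : A) = 1 ∨ (-1 : A) = -1) := Or.inr rfl
  obtain ⟨half, hhalf⟩ := h2.exists_right_inv
  have hqM : ∀ w : Fin n → A, frm lam h w w ∈ IsLocalRing.maximalIdeal A := by
    intro w
    have h1 := lam_q hlam hε herm' w
    have h3 := hid (frm lam h w w)
    rw [h1, hJ] at h3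
    have : frm lam h w w = (-half) * (-1 * frm lam h w w - frm lam h w w) := by
      linear_combination (-(frm lam h w w)) * hhalf
    rw [this]
    exact Ideal.mul_mem_left _ _ h3
  have hent : ∀ i j, h i j = -lam (h j i) := by
    intro i j
    have := congrFun (congrFun herm i) j
    simp only [Matrix.neg_apply, Matrix.transpose_apply, Matrix.map_apply] at this
    exact this.symm
  have heven : Even n := by
    by_contra hne
    have hodd : Odd n := Nat.not_even_iff_odd.1 hne
    have hdet : (h.map (Ideal.Quotient.mk (IsLocalRing.maximalIdeal A))).det = 0 := by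
      apply det_eq_zero_of_alternating_odd hodd
      · intro i
        rw [Matrix.map_apply, Ideal.Quotient.eq_zero_iff_mem,
          ← frm_single_single (lam := lam) (h := h) i i]
        exact hqM _
      · intro i j
        rw [Matrix.map_apply, Matrix.map_apply, ← map_neg, Ideal.Quotient.eq, hent j i]
        have : -lam (h i j) - -h i j = -(lam (h i j) - h i j) := by ring
        rw [this, ← hJ]
        exact (Ring.jacobson A).neg_mem (hid _)
    have hd : IsUnit h.det := (Matrix.isUnit_iff_isUnit_det h).1 hh
    rw [← RingHom.mapMatrix_apply, ← RingHom.map_det, Ideal.Quotient.eq_zero_iff_mem] at hdet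
    exact (IsLocalRing.maximalIdeal.isMaximal A).ne_top (Ideal.eq_top_of_isUnit_mem _ hdet hd)
  refine ⟨heven, ?_⟩
  obtain ⟨m, hm⟩ := heven
  have hn : n = 2 * m := by omega
  obtain ⟨y, z, hp⟩ := exists_pairs hlam herm' hqM hh m (by omega)
  set e := eqv m n hn with he
  set x : Fin n → Fin n → A := fun j => flat y z (e.symm j) with hx
  set v : Matrix (Fin n) (Fin n) A := Matrix.of fun a j => x j a with hv
  have hG : ∀ i j, ((v.map lam).transpose * h * v) i j = frm lam h (x i) (x j) := by
    intro i j
    simp only [Matrix.mul_apply, Matrix.transpose_apply, Matrix.map_apply, hv, Matrix.of_apply,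
      frm, Finset.sum_mul]
    exact Finset.sum_comm
  have hsymm1 : ∀ i : Fin n, ((e.symm i).1 : ℕ) = i.val % 2 := fun i => rfl
  have hsymm2 : ∀ i : Fin n, ((e.symm i).2 : ℕ) = i.val / 2 := fun i => rfl
  refine ⟨v, ?_, ?_⟩
  · rw [Matrix.isUnit_iff_isUnit_det]
    have hgram : (v.map lam).transpose * h * v =
        (Matrix.of fun i j => frm lam h (flat y z i) (flat y z j)).submatrix e.symm e.symm := by
      ext i j
      rw [hG, Matrix.submatrix_apply, Matrix.of_apply]
    have hdet := congrArg Matrix.det hgram
    rw [Matrix.det_mul, Matrix.det_mul, Matrix.det_submatrix_equiv_self] at hdet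
    have hu := isUnit_det_gram_flat hlam herm' hqM hp
    rw [← hdet] at hu
    exact isUnit_of_mul_isUnit_right hu
  · intro i j
    rw [hG]
    have hxi : ∀ i : Fin n, x i = if i.val % 2 = 0 then y (e.symm i).2 else z (e.symm i).2 := by
      intro i
      simp only [hx, flat]
      by_cases hi : i.val % 2 = 0
      · rw [if_pos hi, if_pos]
        exact Fin.ext (by rw [hsymm1, hi]; rfl)
      · rw [if_neg hi, if_neg]
        intro hc
        apply hi
        have := congrArg Fin.val hc
        rw [hsymm1] at this
        exact this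
    refine ⟨fun hij => ?_, fun hij hpar => ?_, fun hij hi hj => ?_, fun hij hi hj => ?_⟩
    · have hne : (e.symm i).2 ≠ (e.symm j).2 := by
        intro hc
        apply hij
        have := congrArg Fin.val hc
        rwa [hsymm2, hsymm2] at this
      have := congrFun (congrFun (gram_flat hlam herm' hqM hp) (e.symm i)) (e.symm j)
      rw [Matrix.of_apply, Matrix.blockDiagonal_apply, if_neg hne] at this
      exact this
    · have hij' : i = j := by
        apply Fin.ext
        rw [Nat.even_iff, Nat.even_iff] at hpar
        omega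
      rw [hij', hJ]
      exact hqM _
    · have hi0 : i.val % 2 = 0 := Nat.even_iff.1 hi
      have hj1 : ¬ (j.val % 2 = 0) := fun hc => hj (Nat.even_iff.2 hc)
      have hab : (e.symm i).2 = (e.symm j).2 := Fin.ext (by rw [hsymm2, hsymm2]; exact hij)
      rw [hxi i, hxi j, if_pos hi0, if_neg hj1, hab, hp.yz, if_pos rfl, sub_self]
      exact Ideal.zero_mem _
    · have hj0 : j.val % 2 = 0 := Nat.even_iff.1 hj
      have hi1 : ¬ (i.val % 2 = 0) := fun hc => hi (Nat.even_iff.2 hc)
      have hab : (e.symm i).2 = (e.symm j).2 := Fin.ext (by rw [hsymm2, hsymm2]; exact hij)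
      rw [hxi i, hxi j, if_neg hi1, if_pos hj0, hab, hp.zy hlam herm', if_pos rfl, neg_add_cancel]
      exact Ideal.zero_mem _

end final

end Groth.Agent.Lib.Helper15.SkewBlocks
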