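import Mathlib

set_option linter.style.haveILetI false
set_option autoImplicit false

open TensorProduct

namespace Groth.Agent.Lib.Helper15.SkewHerm2

section abstract

variable {T : Type*} [CommRing T] (L : T →+* T)

/-- the skew-hermitian form with Gram matrix `[[a, b], [-L b, d]]`. -/
def form (a b d : T) (p q : T × T) : T :=
  L p.1 * (a * q.1 + b * q.2) + L p.2 * (-(L b) * q.1 + d * q.2)

variable {L}

theorem form_add_smul_right (a b d : T) (p q r : T × T) (k : T) :
    form L a b d p (q.1 + k * r.1, q.2 + k * r.2) = form L a b d p q + k * form L a b d p r := by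
  unfold form; ring

theorem form_add_smul_left (a b d : T) (p q r : T × T) (k : T) :
    form L a b d (q.1 + k * r.1, q.2 + k * r.2) p = form L a b d q p + L k * form L a b d r p := by
  unfold form; simp only [map_add, map_mul]; ring

theorem gram_eq (a b d : T) (x y : T × T) :
    ((Matrix.of ![![x.1, y.1], ![x.2, y.2]]).map L).transpose * Matrix.of ![![a, b], ![-(L b), d]] *
      Matrix.of ![![x.1, y.1], ![x.2, y.2]] =
    Matrix.of ![![form L a b d x x, form L a b d x y], ![form L a b d y x, form L a b d y y]] := by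
  ext i j
  fin_cases i <;> fin_cases j <;>
    simp [Matrix.mul_apply, Fin.sum_univ_two, form] <;> ring

theorem main (hLL : ∀ t, L (L t) = t) (a b d bi X Xi u half e : T)
    (ha : L a = -a) (hd : L d = -d) (hX : L X = X) (hXi : L Xi = Xi) (hu : L u = u)
    (hhalf : L half = half) (he : L e = e) (hee : e * e = 1)
    (hb : b * bi = 1) (hXXi : X * Xi = 1) (h2 : 2 * half = 1)
    (hXX : X * X = 1 + a * d * bi * L bi) (hue : u * (1 + e * X) = 1) :
    ∃ v : Matrix (Fin 2) (Fin 2) T, IsUnit v.det ∧
      (v.map L).transpose * Matrix.of ![![a, b], ![-(L b), d]] * v =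
        Matrix.of ![![(0 : T), 1], ![-1, 0]] := by
  have hLb : L b * L bi = 1 := by rw [← map_mul, hb, map_one]
  set c : T := -(a * bi * u) with hc
  have hLc : L c = a * L bi * u := by
    rw [hc, map_neg, map_mul, map_mul, ha, hu]; ring
  set g : T := e * bi * Xi with hg
  set x : T × T := (1, c) with hx
  set y₀ : T × T := (0, g) with hy₀
  -- key identity `(X² - 1) u = e X - 1`
  have hkey : (X * X - 1) * u = e * X - 1 := by
    have : (X * X - 1) = (e * X - 1) * (1 + e * X) := by
      linear_combination (-(X * X)) * hee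
    rw [this, mul_assoc, mul_comm (1 + e * X) u, hue, mul_one]
  have hxx : form L a b d x x = 0 := by
    simp only [form, hx, map_one, hLc]
    have h1 : a * L bi * u * (d * c) = -(a * u) * ((X * X - 1) * u) := by
      rw [hc]; linear_combination (a * u * u) * hXX
    have h2' : a * L bi * u * (-(L b) * 1) = -(a * u) := by
      linear_combination (-(a * u)) * hLb
    have : 1 * (a * 1 + b * c) + a * L bi * u * (-L b * 1 + d * c)
        = a + b * c + a * L bi * u * (-(L b) * 1) + a * L bi * u * (d * c) := by ring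
    rw [this, h1, h2', hkey, hc]
    have hbc : b * -(a * bi * u) = -(a * u) := by linear_combination (-(a * u)) * hb
    rw [hbc]
    -- a - 2 a u - a u (e X - 1) = a (1 - u (1 + e X)) = 0
    linear_combination (-a) * hue
  have hxe : form L a b d x (0, 1) = e * X * b := by
    simp only [form, hx, map_one, hLc]
    have h1 : a * L bi * u * d = (X * X - 1) * u * b := by
      linear_combination (-(u * b)) * hXX - (a * L bi * u * d) * hb
    have : 1 * (a * 0 + b * 1) + a * L bi * u * (-L b * 0 + d * 1) = b + a * L bi * u * d := by ring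
    rw [this, h1, hkey]; ring
  have hxy₀ : form L a b d x y₀ = 1 := by
    have := form_add_smul_right (L := L) a b d x (0, 0) (0, 1) g
    simp only [zero_add, mul_zero, mul_one] at this
    rw [hy₀, this, hxe]
    have h0 : form L a b d x (0, 0) = 0 := by simp [form]
    rw [h0, hg, zero_add]
    linear_combination (X * Xi) * hee * (b * bi) + hXXi * (b * bi) + hb
  -- skew-hermitian symmetry
  have hskew : ∀ p q : T × T, form L a b d q p = -L (form L a b d p q) := by
    intro p q
    simp only [form, map_add, map_mul, map_neg, hLL, ha, hd]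
    ring
  have hy₀x : form L a b d y₀ x = -1 := by rw [hskew x y₀, hxy₀, map_one]
  set d₀ : T := form L a b d y₀ y₀ with hd₀
  have hLd₀ : L d₀ = -d₀ := by
    have := hskew y₀ y₀
    rw [← hd₀] at this
    linear_combination this
  set k : T := half * d₀ with hk
  have hLk : L k = -k := by rw [hk, map_mul, hhalf, hLd₀]; ring
  set y : T × T := (y₀.1 + k * x.1, y₀.2 + k * x.2) with hy
  have hxy : form L a b d x y = 1 := by
    rw [hy, form_add_smul_right, hxy₀, hxx]; ring
  have hyx : form L a b d y x = -1 := by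
    rw [hskew x y, hxy, map_one]
  have hyy : form L a b d y y = 0 := by
    rw [hy, form_add_smul_left, form_add_smul_right, form_add_smul_right, ← hd₀, hxy₀, hy₀x, hxx,
      hLk, hk]
    linear_combination (-d₀) * h2
  refine ⟨Matrix.of ![![x.1, y.1], ![x.2, y.2]], ?_, ?_⟩
  · rw [Matrix.det_fin_two]
    simp only [Matrix.of_apply, Matrix.cons_val_zero, Matrix.cons_val_one,
      Matrix.cons_val', Matrix.cons_val_fin_one]
    have : x.1 * y.2 - y.1 * x.2 = g := by
      simp only [hx, hy, hy₀]; ring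
    rw [this]
    refine IsUnit.of_mul_eq_one (e * b * X) ?_
    rw [hg]
    linear_combination (X * Xi) * hee * (b * bi) + hXXi * (b * bi) + hb
  · rw [gram_eq, hxx, hxy, hyx, hyy]

end abstract

section inst

universe u v w

variable {B : Type u} {A : Type v} [CommRing B] [CommRing A] [Algebra B A]
  (lam : A ≃ₐ[B] A) (hlam : ∀ a, lam (lam a) = a)

include hlam in
theorem over_C (C : Type w) [CommRing C] [Algebra B C] (h : Matrix (Fin 2) (Fin 2) A)
    (herm : -(h.map lam).transpose = h) (bi : A) (hb : h 0 1 * bi = 1)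
    (half0 s0 s0i : B) (h2 : 2 * half0 = 1) (hs : s0 * s0i = 1)
    (hsA : algebraMap B A s0 = 1 + h 0 0 * h 1 1 * bi * lam bi)
    (Xc uc e : C) (hXc : Xc * Xc = algebraMap B C s0) (hee : e * e = 1)
    (hue : uc * (1 + e * Xc) = 1) :
    ∃ v : Matrix (Fin 2) (Fin 2) (C ⊗[B] A), IsUnit v ∧
      (v.map (Algebra.TensorProduct.congr (AlgEquiv.refl : C ≃ₐ[C] C) lam)).transpose *
        h.map (Algebra.TensorProduct.includeRight : A →ₐ[B] C ⊗[B] A) * v
        = (Matrix.of ![![(0 : A), 1], ![-1, 0]]).map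
          (Algebra.TensorProduct.includeRight : A →ₐ[B] C ⊗[B] A) := by
  set L' : (C ⊗[B] A) ≃ₐ[C] (C ⊗[B] A) :=
    Algebra.TensorProduct.congr (AlgEquiv.refl : C ≃ₐ[C] C) lam with hL'
  set L : (C ⊗[B] A) →+* (C ⊗[B] A) := (L' : (C ⊗[B] A) →+* (C ⊗[B] A)) with hL
  set ι : A →ₐ[B] C ⊗[B] A := Algebra.TensorProduct.includeRight with hι
  have hLι : ∀ z : A, L (ι z) = ι (lam z) := by
    intro z
    simp [hL, hL', hι]
  have hLC : ∀ c : C, L (c ⊗ₜ[B] (1 : A)) = c ⊗ₜ[B] (1 : A) := by
    intro c
    simp [hL, hL']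
  have hLL : ∀ t, L (L t) = t := by
    intro t
    induction t using TensorProduct.induction_on with
    | zero => simp
    | tmul x y => simp [hL, hL', hlam]
    | add x y hx hy => rw [map_add, map_add, hx, hy]
  have e00 : lam (h 0 0) = -h 0 0 := by
    have := congrFun (congrFun herm 0) 0
    simp only [Matrix.neg_apply, Matrix.transpose_apply, Matrix.map_apply] at this
    linear_combination -this
  have e11 : lam (h 1 1) = -h 1 1 := by
    have := congrFun (congrFun herm 1) 1
    simp only [Matrix.neg_apply, Matrix.transpose_apply, Matrix.map_apply] at this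
    linear_combination -this
  have e10 : h 1 0 = -lam (h 0 1) := by
    have := congrFun (congrFun herm 1) 0
    simp only [Matrix.neg_apply, Matrix.transpose_apply, Matrix.map_apply] at this
    exact this.symm
  have hsT : (algebraMap B C s0) ⊗ₜ[B] (1 : A) = ι (algebraMap B A s0) := by
    rw [hι, Algebra.TensorProduct.includeRight_apply, Algebra.algebraMap_eq_smul_one,
      Algebra.algebraMap_eq_smul_one, TensorProduct.smul_tmul]
  obtain ⟨v, hv, hgram⟩ := main (L := L) hLL (ι (h 0 0)) (ι (h 0 1)) (ι (h 1 1)) (ι bi)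
    (Xc ⊗ₜ[B] (1 : A)) ((Xc * algebraMap B C s0i) ⊗ₜ[B] (1 : A)) (uc ⊗ₜ[B] (1 : A))
    (ι (algebraMap B A half0)) (e ⊗ₜ[B] (1 : A))
    (by rw [hLι, e00, map_neg]) (by rw [hLι, e11, map_neg]) (hLC _) (hLC _) (hLC _)
    (by rw [hLι, AlgEquiv.commutes]) (hLC _)
    (by rw [Algebra.TensorProduct.tmul_mul_tmul, hee, mul_one]; rfl)
    (by rw [← map_mul, hb, map_one])
    (by
      rw [Algebra.TensorProduct.tmul_mul_tmul, mul_one,
        show Xc * (Xc * algebraMap B C s0i) = (Xc * Xc) * algebraMap B C s0i by ring, hXc,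
        ← map_mul, hs, map_one]; rfl)
    (by
      rw [show (2 : C ⊗[B] A) = ι 2 by rw [map_ofNat], ← map_mul, ← map_ofNat (algebraMap B A) 2,
        ← map_mul, h2, map_one, map_one])
    (by
      rw [Algebra.TensorProduct.tmul_mul_tmul, mul_one, hXc, hsT, hsA, hLι]
      simp only [map_add, map_mul, map_one])
    (by
      have : (1 : C ⊗[B] A) + e ⊗ₜ[B] (1 : A) * Xc ⊗ₜ[B] (1 : A) = (1 + e * Xc) ⊗ₜ[B] (1 : A) := by
        rw [Algebra.TensorProduct.tmul_mul_tmul, mul_one, TensorProduct.add_tmul]; rfl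
      rw [this, Algebra.TensorProduct.tmul_mul_tmul, mul_one, hue]; rfl)
  refine ⟨v, (Matrix.isUnit_iff_isUnit_det v).2 hv, ?_⟩
  have hH : h.map ι = Matrix.of ![![ι (h 0 0), ι (h 0 1)], ![-(L (ι (h 0 1))), ι (h 1 1)]] := by
    ext i j
    fin_cases i <;> fin_cases j <;> simp [hLι, e10]
  have hJ : (Matrix.of ![![(0 : A), 1], ![-1, 0]]).map ι =
      Matrix.of ![![(0 : C ⊗[B] A), 1], ![-1, 0]] := by
    ext i j
    fin_cases i <;> fin_cases j <;> simp
  rw [hH, hJ]
  exact hgram

end inst

section final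

universe u v

theorem isUnit_of_sub_one_mem_jacobson {A : Type*} [CommRing A] (x : A)
    (hx : x - 1 ∈ Ring.jacobson A) : IsUnit x := by
  rw [← Ideal.jacobson_bot, Ideal.mem_jacobson_iff] at hx
  obtain ⟨z, hz⟩ := hx 1
  rw [Ideal.mem_bot] at hz
  exact IsUnit.of_mul_eq_one z (by linear_combination hz)

theorem final (B : Type u) (A : Type v) [CommRing B] [CommRing A]
    [Algebra B A] (lam : A ≃ₐ[B] A) (hlam : ∀ a, lam (lam a) = a)
    (hinj : Function.Injective (algebraMap B A))
    (hfix : ∀ r : A, lam r = r → r ∈ Set.range (algebraMap B A))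
    (h2 : IsUnit (2 : A))
    (h : Matrix (Fin 2) (Fin 2) A) (herm : -(h.map lam).transpose = h)
    (hJ : ∀ i j : Fin 2, h i j - Matrix.of ![![(0 : A), 1], ![-1, 0]] i j ∈ Ring.jacobson A) :
    ∃ (s t : Bˣ) (r : ℕ) (f : Fin r → (MvPolynomial (Fin 2) B ⧸ Ideal.span ({MvPolynomial.X 0 ^ 2 - MvPolynomial.C (s : B), MvPolynomial.X 1 ^ 2 - MvPolynomial.C (t : B)} : Set (MvPolynomial (Fin 2) B)))),
      Ideal.span (Set.range f) = ⊤ ∧
      ∀ i : Fin r, ∃ v : Matrix (Fin 2) (Fin 2) (Localization.Away (f i) ⊗[B] A), IsUnit v ∧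
        (v.map (Algebra.TensorProduct.congr (AlgEquiv.refl : Localization.Away (f i) ≃ₐ[Localization.Away (f i)] Localization.Away (f i)) lam)).transpose * h.map (Algebra.TensorProduct.includeRight : A →ₐ[B] Localization.Away (f i) ⊗[B] A) * v
          = (Matrix.of ![![(0 : A), 1], ![-1, 0]]).map (Algebra.TensorProduct.includeRight : A →ₐ[B] Localization.Away (f i) ⊗[B] A) := by
  -- inverses fixed by `lam` come from `B`
  have hinvfix : ∀ x y : A, lam x = x → x * y = 1 → lam y = y := by
    intro x y hx hxy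
    have h1 : x * lam y = 1 := by rw [← hx, ← map_mul, hxy, map_one]
    calc lam y = (x * y) * lam y := by rw [hxy, one_mul]
      _ = y * (x * lam y) := by ring
      _ = y := by rw [h1, mul_one]
  -- the entry `b = h 0 1` is a unit
  have hbu : IsUnit (h 0 1) := by
    apply isUnit_of_sub_one_mem_jacobson
    simpa using hJ 0 1
  obtain ⟨bi, hb⟩ := hbu.exists_right_inv
  have ha : h 0 0 ∈ Ring.jacobson A := by simpa using hJ 0 0
  have e00 : lam (h 0 0) = -h 0 0 := by
    have := congrFun (congrFun herm 0) 0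
    simp only [Matrix.neg_apply, Matrix.transpose_apply, Matrix.map_apply] at this
    linear_combination -this
  have e11 : lam (h 1 1) = -h 1 1 := by
    have := congrFun (congrFun herm 1) 1
    simp only [Matrix.neg_apply, Matrix.transpose_apply, Matrix.map_apply] at this
    linear_combination -this
  -- the element `s`
  set sA : A := 1 + h 0 0 * h 1 1 * bi * lam bi with hsA
  have hsfix : lam sA = sA := by
    rw [hsA, map_add, map_one, map_mul, map_mul, map_mul, e00, e11, hlam]; ring
  have hsu : IsUnit sA := by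
    apply isUnit_of_sub_one_mem_jacobson
    have : sA - 1 = (h 1 1 * bi * lam bi) * h 0 0 := by rw [hsA]; ring
    rw [this]
    exact Ideal.mul_mem_left _ _ ha
  obtain ⟨siA, hsi⟩ := hsu.exists_right_inv
  obtain ⟨s0, hs0⟩ := hfix sA hsfix
  obtain ⟨s0i, hs0i⟩ := hfix siA (hinvfix sA siA hsfix hsi)
  have hss : s0 * s0i = 1 := by
    apply hinj
    rw [map_mul, hs0, hs0i, hsi, map_one]
  -- one half
  obtain ⟨halfA, hhalfA⟩ := h2.exists_right_inv
  obtain ⟨half0, hhalf0⟩ := hfix halfA (hinvfix 2 halfA (by rw [map_ofNat]) hhalfA)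
  have h2' : 2 * half0 = 1 := by
    apply hinj
    rw [map_mul, hhalf0, map_ofNat, hhalfA, map_one]
  refine ⟨Units.mkOfMulEqOne s0 s0i hss, 1, 2, ?_⟩
  set I : Ideal (MvPolynomial (Fin 2) B) := Ideal.span ({MvPolynomial.X 0 ^ 2 -
    MvPolynomial.C ((Units.mkOfMulEqOne s0 s0i hss : Bˣ) : B), MvPolynomial.X 1 ^ 2 -
    MvPolynomial.C (((1 : Bˣ) : Bˣ) : B)} : Set (MvPolynomial (Fin 2) B)) with hI
  set Xq : MvPolynomial (Fin 2) B ⧸ I := Ideal.Quotient.mk I (MvPolynomial.X 0) with hXq
  have hXq2 : Xq * Xq = algebraMap B (MvPolynomial (Fin 2) B ⧸ I) s0 := by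
    have hmem : (MvPolynomial.X 0 ^ 2 - MvPolynomial.C s0 : MvPolynomial (Fin 2) B) ∈ I := by
      apply Ideal.subset_span
      left
      rfl
    have := (Ideal.Quotient.eq (I := I)).2 hmem
    rw [hXq, ← map_mul, ← pow_two, this]
    rfl
  refine ⟨![1 + Xq, 1 - Xq], ?_, ?_⟩
  · rw [Ideal.eq_top_iff_one]
    have h1 : (1 + Xq) ∈ Ideal.span (Set.range ![1 + Xq, 1 - Xq]) :=
      Ideal.subset_span ⟨0, rfl⟩
    have h2'' : (1 - Xq) ∈ Ideal.span (Set.range ![1 + Xq, 1 - Xq]) :=
      Ideal.subset_span ⟨1, rfl⟩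
    have : (1 : MvPolynomial (Fin 2) B ⧸ I) =
        algebraMap B _ half0 * ((1 + Xq) + (1 - Xq)) := by
      have h3 : (1 + Xq) + (1 - Xq) = algebraMap B (MvPolynomial (Fin 2) B ⧸ I) 2 := by
        rw [map_ofNat]; ring
      rw [h3, ← map_mul, mul_comm, h2', map_one]
    have hmem := Ideal.mul_mem_left _ (algebraMap B (MvPolynomial (Fin 2) B ⧸ I) half0)
      (Ideal.add_mem _ h1 h2'')
    rw [← this] at hmem
    exact hmem
  · intro i
    have hXc : ∀ C : Type u, ∀ [CommRing C], ∀ [Algebra (MvPolynomial (Fin 2) B ⧸ I) C],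
        ∀ [Algebra B C], ∀ [IsScalarTower B (MvPolynomial (Fin 2) B ⧸ I) C],
        algebraMap (MvPolynomial (Fin 2) B ⧸ I) C Xq * algebraMap (MvPolynomial (Fin 2) B ⧸ I) C Xq
          = algebraMap B C s0 := by
      intro C _ _ _ _
      rw [← map_mul, hXq2, ← IsScalarTower.algebraMap_apply]
    fin_cases i
    · refine over_C lam hlam (Localization.Away (![1 + Xq, 1 - Xq] 0)) h herm bi hb half0 s0 s0i
        h2' hss hs0 (algebraMap _ _ Xq)
        (IsLocalization.Away.invSelf (![1 + Xq, 1 - Xq] 0)) 1 (hXc _) (by ring) ?_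
      have := IsLocalization.Away.mul_invSelf (S := Localization.Away (![1 + Xq, 1 - Xq] 0))
        (![1 + Xq, 1 - Xq] 0)
      have e : algebraMap (MvPolynomial (Fin 2) B ⧸ I) (Localization.Away (![1 + Xq, 1 - Xq] 0))
          (![1 + Xq, 1 - Xq] 0) = 1 + algebraMap _ _ Xq := by
        show algebraMap (MvPolynomial (Fin 2) B ⧸ I) (Localization.Away (![1 + Xq, 1 - Xq] 0))
          (1 + Xq) = _
        rw [map_add, map_one]
      rw [e] at this
      linear_combination this
    · refine over_C lam hlam (Localization.Away (![1 + Xq, 1 - Xq] 1)) h herm bi hb half0 s0 s0i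
        h2' hss hs0 (algebraMap _ _ Xq)
        (IsLocalization.Away.invSelf (![1 + Xq, 1 - Xq] 1)) (-1) (hXc _) (by ring) ?_
      have := IsLocalization.Away.mul_invSelf (S := Localization.Away (![1 + Xq, 1 - Xq] 1))
        (![1 + Xq, 1 - Xq] 1)
      have e : algebraMap (MvPolynomial (Fin 2) B ⧸ I) (Localization.Away (![1 + Xq, 1 - Xq] 1))
          (![1 + Xq, 1 - Xq] 1) = 1 - algebraMap _ _ Xq := by
        show algebraMap (MvPolynomial (Fin 2) B ⧸ I) (Localization.Away (![1 + Xq, 1 - Xq] 1))
          (1 - Xq) = _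
        rw [map_sub, map_one]
      rw [e] at this
      linear_combination this

end final

end Groth.Agent.Lib.Helper15.SkewHerm2
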