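import Mathlib
import Groth.Prelude.Def_AzInv
import Groth.Prelude.Def_W4c2azumayainvolQEt
import Groth.Agent.Lib.Helper15.SkewHerm2
import Groth.Agent.Lib.Helper15.SkewBlocks
import Groth.Agent.Lib27.RInvL
import Groth.Agent.S15584
import Groth.Agent.S15577
import Groth.Agent.Lib.Helper15.FRInvNF

/-!
# Skew-hermitian forms over a ramified local ring with involution: the standard form
-/

set_option autoImplicit false
set_option linter.style.haveILetI false

namespace Groth.Agent.Lib.Helper15.FRInvSkew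

open AzInv IsLocalRing Groth.Agent.Lib.Helper15.SkewBlocks

/-- the standard alternating `2 × 2` matrix -/
def J2 (C : Type*) [CommRing C] : Matrix (Fin 2) (Fin 2) C := Matrix.of ![![(0 : C), 1], ![-1, 0]]

/-- the standard alternating matrix of size `n = 2 m` -/
def Jn (C : Type*) [CommRing C] (m n : ℕ) (hn : n = 2 * m) : Matrix (Fin n) (Fin n) C :=
  (Matrix.blockDiagonal fun _ : Fin m => J2 C).submatrix (eqv m n hn).symm (eqv m n hn).symm

section Jlemmas

variable {C : Type*} [CommRing C] {D : Type*} [CommRing D]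

theorem J2_map (f : C →+* D) : (J2 C).map f = J2 D := by
  ext i j
  fin_cases i <;> fin_cases j <;> simp [J2]

theorem J2_transpose : (J2 C).transpose = -J2 C := by
  ext i j
  fin_cases i <;> fin_cases j <;> simp [J2]

theorem J2_mul_neg : J2 C * (-J2 C) = 1 := by
  ext i j
  fin_cases i <;> fin_cases j <;> simp [J2, Matrix.mul_apply, Fin.sum_univ_two]

theorem submatrix_neg' {l o p q : Type*} (A : Matrix l o C) (f : p → l) (g : q → o) :
    (-A).submatrix f g = -(A.submatrix f g) := rfl

variable (m n : ℕ) (hn : n = 2 * m)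

theorem Jn_map (f : C →+* D) : (Jn C m n hn).map f = Jn D m n hn := by
  unfold Jn
  rw [← Matrix.submatrix_map, Matrix.blockDiagonal_map _ _ (map_zero f)]
  simp only [J2_map]

theorem Jn_transpose : (Jn C m n hn).transpose = -Jn C m n hn := by
  unfold Jn
  rw [Matrix.transpose_submatrix, Matrix.blockDiagonal_transpose]
  simp only [J2_transpose]
  rw [← submatrix_neg']
  congr 1
  ext ⟨a, k⟩ ⟨b, l⟩
  simp only [Matrix.blockDiagonal_apply, Matrix.neg_apply]
  split_ifs <;> simp

theorem Jn_mul_neg : Jn C m n hn * (-Jn C m n hn) = 1 := by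
  unfold Jn
  rw [← submatrix_neg', Matrix.submatrix_mul_equiv]
  have h1 : (-Matrix.blockDiagonal fun _ : Fin m => J2 C) =
      Matrix.blockDiagonal fun _ : Fin m => -J2 C := by
    ext ⟨a, k⟩ ⟨b, l⟩
    simp only [Matrix.blockDiagonal_apply, Matrix.neg_apply]
    split_ifs <;> simp
  rw [h1, ← Matrix.blockDiagonal_mul]
  simp only [J2_mul_neg]
  have h2 : (Matrix.blockDiagonal fun _ : Fin m => (1 : Matrix (Fin 2) (Fin 2) C)) = 1 :=
    Matrix.blockDiagonal_one
  rw [h2, Matrix.submatrix_one_equiv]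

theorem neg_Jn_mul : (-Jn C m n hn) * Jn C m n hn = 1 :=
  mul_eq_one_comm.mp (Jn_mul_neg m n hn)

end Jlemmas

section block

variable {H : Type*} {C : Type*} [CommRing H] [IsLocalRing H] [CommRing C] [Algebra H C]
  (lam : C ≃+* C) (hlam : ∀ c, lam (lam c) = c) (hfix : RInv.IsFixedRing H C lam)
  (hsqH : ∀ x : Hˣ, ∃ y : H, y * y = x) (h2 : IsUnit (2 : H))

include hlam hfix hsqH h2 in
/-- normalising a `2 × 2` skew-hermitian block close to the standard one -/
theorem block_normalize (a b d : C) (ha : lam a = -a) (hd : lam d = -d)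
    (haJ : a ∈ Ring.jacobson C) (hbJ : b - 1 ∈ Ring.jacobson C) :
    ∃ w : Matrix (Fin 2) (Fin 2) C, IsUnit w.det ∧
      (w.map lam).transpose * Matrix.of ![![a, b], ![-(lam b), d]] * w = J2 C := by
  obtain ⟨bu, hbu⟩ := SkewHerm2.isUnit_of_sub_one_mem_jacobson b hbJ
  set bi : C := ↑bu⁻¹ with hbi
  have hb : b * bi = 1 := by rw [← hbu, hbi, Units.mul_inv]
  -- the element `s`
  have hsfix : lam (1 + a * d * bi * lam bi) = 1 + a * d * bi * lam bi := by
    rw [map_add, map_one, map_mul, map_mul, map_mul, ha, hd, hlam]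
    ring
  obtain ⟨s₀, hs₀⟩ := (hfix.2 _).mp hsfix
  have hs₀m : s₀ - 1 ∈ maximalIdeal H := by
    apply Groth.Agent.Lib27.RInvL.mem_maximalIdeal_of_algebraMap_mem_jacobson hfix.1
    rw [map_sub, hs₀, map_one, add_sub_cancel_left, mul_assoc, mul_assoc]
    exact Ideal.mul_mem_right _ _ haJ
  have hs₀u : IsUnit s₀ := by
    by_contra hcon
    have h1 : s₀ ∈ maximalIdeal H := (mem_maximalIdeal s₀).mpr hcon
    have h3 : (1 : H) ∈ maximalIdeal H := by
      have := Ideal.sub_mem _ h1 hs₀m
      rwa [sub_sub_cancel] at this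
    exact (maximalIdeal.isMaximal H).ne_top ((Ideal.eq_top_iff_one _).mpr h3)
  obtain ⟨X₀, hX₀⟩ := hsqH hs₀u.unit
  rw [IsUnit.unit_spec] at hX₀
  -- choose the sign of the square root
  have hX₁ : ∃ X₁ : H, X₁ * X₁ = s₀ ∧ X₁ - 1 ∈ maximalIdeal H := by
    have h1 : (X₀ - 1) * (X₀ + 1) ∈ maximalIdeal H := by
      have : (X₀ - 1) * (X₀ + 1) = s₀ - 1 := by rw [← hX₀]; ring
      rw [this]
      exact hs₀m
    rcases (maximalIdeal.isMaximal H).isPrime.mem_or_mem h1 with h | h
    · exact ⟨X₀, hX₀, h⟩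
    · refine ⟨-X₀, by rw [neg_mul_neg, hX₀], ?_⟩
      have : -X₀ - 1 = -(X₀ + 1) := by ring
      rw [this]
      exact Ideal.neg_mem_iff _ |>.mpr h
  obtain ⟨X₁, hX₁s, hX₁m⟩ := hX₁
  have h2m : (2 : H) ∉ maximalIdeal H := fun h => (mem_maximalIdeal _).mp h h2
  have hX₁u : IsUnit X₁ := by
    by_contra hcon
    have h1 : X₁ ∈ maximalIdeal H := (mem_maximalIdeal X₁).mpr hcon
    have h3 : (1 : H) ∈ maximalIdeal H := by
      have := Ideal.sub_mem _ h1 hX₁m
      rwa [sub_sub_cancel] at this
    exact (maximalIdeal.isMaximal H).ne_top ((Ideal.eq_top_iff_one _).mpr h3)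
  have hU : IsUnit (1 + X₁) := by
    by_contra hcon
    have h1 : 1 + X₁ ∈ maximalIdeal H := (mem_maximalIdeal _).mpr hcon
    apply h2m
    have := Ideal.sub_mem _ h1 hX₁m
    have h4 : 1 + X₁ - (X₁ - 1) = 2 := by ring
    rwa [h4] at this
  obtain ⟨Xu, hXu⟩ := hX₁u
  obtain ⟨Uu, hUu⟩ := hU
  obtain ⟨tu, htu⟩ := h2
  have hfixH : ∀ x : H, lam (algebraMap H C x) = algebraMap H C x := fun x =>
    (hfix.2 _).mpr ⟨x, rfl⟩
  have key := SkewHerm2.main (L := (lam : C →+* C)) (fun t => hlam t) a b d bi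
    (algebraMap H C X₁) (algebraMap H C ↑Xu⁻¹) (algebraMap H C ↑Uu⁻¹) (algebraMap H C ↑tu⁻¹) 1
    ha hd (hfixH _) (hfixH _) (hfixH _) (hfixH _) (map_one _) (one_mul 1) hb
    (by rw [← map_mul, ← hXu, Units.mul_inv, map_one])
    (by
      have : (2 : C) = algebraMap H C 2 := by rw [map_ofNat]
      rw [this, ← map_mul, ← htu, Units.mul_inv, map_one])
    (by
      rw [← map_mul, hX₁s, hs₀]
      rfl)
    (by
      rw [one_mul, ← map_one (algebraMap H C), ← map_add, ← map_mul, ← hUu, Units.inv_mul,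
        map_one])
  exact key

end block

section skew

variable {H : Type*} {C : Type*} [CommRing H] [IsLocalRing H] [CommRing C] [Algebra H C]
  (lam : C ≃+* C) (hlam : ∀ c, lam (lam c) = c) (hfix : RInv.IsFixedRing H C lam)
  (hsqH : ∀ x : Hˣ, ∃ y : H, y * y = x) (h2 : IsUnit (2 : H))

include hfix hsqH h2 in
/-- a skew-hermitian invertible matrix over a ramified ring is `u J u†` -/
theorem skew_eq_J (hid : ∀ a : C, lam a - a ∈ Ring.jacobson C) (n : ℕ)
    (h h' : Matrix (Fin n) (Fin n) C) (hh' : h * h' = 1)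
    (hskew : LamInv.transpose lam (Fin n) hlam h = -h) :
    ∃ (m : ℕ) (hn : n = 2 * m) (u u' : Matrix (Fin n) (Fin n) C), u * u' = 1 ∧ u' * u = 1 ∧
      h = u * Jn C m n hn * LamInv.transpose lam (Fin n) hlam u := by
  classical
  set T0 := LamInv.transpose lam (Fin n) hlam with hT0
  have hhu : IsUnit h := ⟨⟨h, h', hh', mul_eq_one_comm.mp hh'⟩, rfl⟩
  have h2C : IsUnit (2 : C) := by
    have := h2.map (algebraMap H C)
    rwa [map_ofNat] at this
  have hskew' : -(h.map lam).transpose = h := by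
    have : (h.map lam).transpose = -h := hskew
    rw [this, neg_neg]
  obtain ⟨hev, v, hv, hM⟩ := Groth.Agent.S15584.result H C lam (fun c => hlam c) hfix n hid h2C h
    hhu hskew'
  obtain ⟨m, hm⟩ := hev
  have hn : n = 2 * m := by omega
  have hTv : (v.map lam).transpose = T0 v := rfl
  rw [hTv] at hM
  set M := T0 v * h * v with hMdef
  have hMskew : T0 M = -M := by
    rw [hMdef, T0.map_mul, T0.map_mul, T0.invol, hskew]
    simp only [Matrix.neg_mul, Matrix.mul_neg, mul_assoc]
  have hent : ∀ i j, lam (M j i) = -M i j := fun i j => by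
    have := congrFun (congrFun hMskew i) j
    rw [hT0, LamInv.transpose_apply] at this
    exact this
  set e := eqv m n hn with he
  have hval : ∀ (x : Fin 2) (k : Fin m), (e (x, k)).val = 2 * k.val + x.val := fun x k => rfl
  -- the blocks
  let a : Fin m → C := fun k => M (e (0, k)) (e (0, k))
  let b : Fin m → C := fun k => M (e (0, k)) (e (1, k))
  let d : Fin m → C := fun k => M (e (1, k)) (e (1, k))
  have hblock : M.submatrix e e =
      Matrix.blockDiagonal fun k => Matrix.of ![![a k, b k], ![-(lam (b k)), d k]] := by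
    ext ⟨x, k⟩ ⟨y, l⟩
    rw [Matrix.submatrix_apply, Matrix.blockDiagonal_apply]
    by_cases hkl : k = l
    · subst hkl
      rw [if_pos rfl]
      fin_cases x <;> fin_cases y
      · rfl
      · rfl
      · change M (e (1, k)) (e (0, k)) = -(lam (b k))
        rw [hent (e (1, k)) (e (0, k)), neg_neg]
      · rfl
    · rw [if_neg hkl]
      apply (hM (e (x, k)) (e (y, l))).1
      rw [hval, hval]
      have := x.isLt
      have := y.isLt
      intro hc
      apply hkl
      ext
      omega
  have hblk : ∀ k : Fin m, ∃ w : Matrix (Fin 2) (Fin 2) C, IsUnit w.det ∧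
      (w.map lam).transpose * Matrix.of ![![a k, b k], ![-(lam (b k)), d k]] * w = J2 C := by
    intro k
    have hsame : ∀ x y : Fin 2, (e (x, k)).val / 2 = (e (y, k)).val / 2 := by
      intro x y
      rw [hval, hval]
      have := x.isLt
      have := y.isLt
      omega
    have hev0 : Even (e ((0 : Fin 2), k)).val := ⟨k.val, by rw [hval]; simp; omega⟩
    have hod1 : ¬ Even (e ((1 : Fin 2), k)).val := by
      rintro ⟨r, hr⟩
      rw [hval] at hr
      simp at hr
      omega
    apply block_normalize lam hlam hfix hsqH h2 (a k) (b k) (d k)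
    · have := hent (e (0, k)) (e (0, k))
      exact this
    · have := hent (e (1, k)) (e (1, k))
      exact this
    · exact (hM (e (0, k)) (e (0, k))).2.1 rfl Iff.rfl
    · exact (hM (e (0, k)) (e (1, k))).2.2.1 (hsame 0 1) hev0 hod1
  choose w hwdet hw using hblk
  set W' := Matrix.blockDiagonal w with hW'
  have hprod : (W'.map lam).transpose *
      (Matrix.blockDiagonal fun k => Matrix.of ![![a k, b k], ![-(lam (b k)), d k]]) * W' =
      Matrix.blockDiagonal fun _ : Fin m => J2 C := by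
    rw [hW', Matrix.blockDiagonal_map _ _ (map_zero lam), Matrix.blockDiagonal_transpose,
      ← Matrix.blockDiagonal_mul, ← Matrix.blockDiagonal_mul]
    congr 1
    funext k
    exact hw k
  set W := W'.submatrix e.symm e.symm with hW
  have hWdet : IsUnit W.det := by
    rw [hW, Matrix.det_submatrix_equiv_self, hW', Matrix.det_blockDiagonal, IsUnit.prod_univ_iff]
    exact fun k => hwdet k
  have hWM : T0 W * M * W = Jn C m n hn := by
    have h3 : M = (M.submatrix e e).submatrix e.symm e.symm := by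
      rw [Matrix.submatrix_submatrix, Equiv.self_comp_symm, Matrix.submatrix_id_id]
    have h4 : T0 W = ((W'.map lam).transpose).submatrix e.symm e.symm := rfl
    rw [h4, h3, hW, Matrix.submatrix_mul_equiv, Matrix.submatrix_mul_equiv, hblock, hprod]
    rfl
  -- conclusion
  have hWu : IsUnit W := (Matrix.isUnit_iff_isUnit_det _).mpr hWdet
  obtain ⟨Pu, hPu⟩ := hv.mul hWu
  obtain ⟨P, hPdef⟩ : ∃ P : Matrix (Fin n) (Fin n) C, P = v * W := ⟨_, rfl⟩
  obtain ⟨P', hP'def⟩ : ∃ P' : Matrix (Fin n) (Fin n) C,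
    P' = ((Pu⁻¹ : (Matrix (Fin n) (Fin n) C)ˣ) : Matrix (Fin n) (Fin n) C) := ⟨_, rfl⟩
  have hPP' : P * P' = 1 := by rw [hPdef, hP'def, ← hPu]; exact Units.mul_inv Pu
  have hP'P : P' * P = 1 := by rw [hPdef, hP'def, ← hPu]; exact Units.inv_mul Pu
  have hPh : T0 P * h * P = Jn C m n hn := by
    rw [hPdef, T0.map_mul, ← hWM, hMdef]
    simp only [mul_assoc]
  refine ⟨m, hn, T0 P', T0 P, by rw [← T0.map_mul, hPP', T0.map_one],
    by rw [← T0.map_mul, hP'P, T0.map_one], ?_⟩
  rw [T0.invol, ← hPh]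
  calc h = T0 (P * P') * h * (P * P') := by rw [hPP', T0.map_one, one_mul, mul_one]
    _ = _ := by rw [T0.map_mul]; simp only [mul_assoc]

end skew

section normalForm

open Groth.Agent.Lib.Helper15.FRInvNF

variable {H : Type*} {C : Type*} [CommRing H] [IsLocalRing H] [CommRing C] [Algebra H C]
  (lamC : C ≃ₐ[H] C) (hlamC : ∀ c, lamC (lamC c) = c)
  (hfix : RInv.IsFixedRing H C lamC.toRingEquiv)
  (hsqH : ∀ x : Hˣ, ∃ y : H, y * y = x) (h2 : IsUnit (2 : H))

include hfix hsqH h2 in
/-- with `2` invertible, every `lam`-involution of the matrix algebra is conjugate to the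
`lam`-transpose or to the standard symplectic involution -/
theorem normalForm_two (n : ℕ) (hn : 0 < n)
    (τ : LamInv C (Matrix (Fin n) (Fin n) C) lamC) :
    ∃ u u' : Matrix (Fin n) (Fin n) C, u * u' = 1 ∧ u' * u = 1 ∧
      ((∀ X, τ X * (u * LamInv.transpose lamC (Fin n) hlamC u) =
        (u * LamInv.transpose lamC (Fin n) hlamC u) * LamInv.transpose lamC (Fin n) hlamC X) ∨
      ((∀ a : C, lamC a - a ∈ Ring.jacobson C) ∧ ∃ (m : ℕ) (hm : n = 2 * m),
        ∀ X, τ X * (u * Jn C m n hm * LamInv.transpose lamC (Fin n) hlamC u) =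
          (u * Jn C m n hm * LamInv.transpose lamC (Fin n) hlamC u) *
            LamInv.transpose lamC (Fin n) hlamC X)) := by
  classical
  by_cases hq : ∃ a : C, lamC a - a ∉ Ring.jacobson C
  · obtain ⟨u, u', h1, h2', h3⟩ := normalForm_one lamC hlamC hfix hsqH n hn (Or.inl hq) τ
    exact ⟨u, u', h1, h2', Or.inl h3⟩
  push Not at hq
  set T0 := LamInv.transpose lamC (Fin n) hlamC with hT0
  have hloc : IsLocalRing C :=
    (Groth.Agent.S15577.result H C lamC.toRingEquiv (fun c => hlamC c) hfix hq).1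
  have hjac : Ring.jacobson C = maximalIdeal C := by
    rw [← Ideal.jacobson_bot]
    exact IsLocalRing.jacobson_eq_maximalIdeal _ bot_ne_top
  have h2C : IsUnit (2 : C) := by
    have := h2.map (algebraMap H C)
    rwa [map_ofNat] at this
  have h2m : (2 : C) ∉ maximalIdeal C := fun h => (mem_maximalIdeal _).mp h h2C
  obtain ⟨g, g', e, hgg', hg'g, he, hgT, hτ⟩ := exists_gram lamC hlamC hfix n hn τ
  have hem : (e - 1) * (e + 1) ∈ maximalIdeal C := by
    have h1 : (e - 1) * (e + 1) = -(e * (lamC e - e)) := by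
      have : e * lamC e = 1 := by rw [mul_comm]; exact he
      linear_combination this
    rw [h1, ← hjac]
    exact Ideal.neg_mem_iff _ |>.mpr (Ideal.mul_mem_left _ _ (hq e))
  rcases (maximalIdeal.isMaximal C).isPrime.mem_or_mem hem with hem1 | hem1
  · -- the hermitian case
    have hcu : IsUnit (1 + e) := by
      by_contra hcon
      have h1 : 1 + e ∈ maximalIdeal C := (mem_maximalIdeal _).mpr hcon
      apply h2m
      have := Ideal.sub_mem _ h1 hem1
      have h4 : 1 + e - (e - 1) = 2 := by ring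
      rwa [h4] at this
    obtain ⟨cu, hcu'⟩ := hcu
    have hce : lamC (1 + e) * e = 1 + e := by
      rw [map_add, map_one, add_mul, he, one_mul, add_comm]
    have herm : T0 ((1 + e) • g) = (1 + e) • g := by
      rw [T0.map_smul, hgT, smul_smul, hce]
    have hcase' : (∃ a : C, lamC.toRingEquiv a - a ∉ Ring.jacobson C) ∨
        (1 : C) + 1 ∉ Ring.jacobson C ∨ Odd n := by
      refine Or.inr (Or.inl ?_)
      rw [hjac, one_add_one_eq_two]
      exact h2m
    obtain ⟨u, u', huu', hu'u, hmain⟩ := herm_eq_mul_lamTr lamC.toRingEquiv (fun c => hlamC c)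
      hfix hsqH n ((1 + e) • g) ((↑cu⁻¹ : C) • g')
      (by rw [smul_mul_smul_comm, ← hcu', Units.mul_inv, hgg', one_smul]) herm hcase'
    refine ⟨u, u', huu', hu'u, Or.inl fun X => ?_⟩
    have hmain' : u * T0 u = (1 + e) • g := hmain.symm
    rw [hmain', Matrix.mul_smul, hτ, Matrix.smul_mul]
  · -- the skew-hermitian case
    have hcu : IsUnit (1 - e) := by
      by_contra hcon
      have h1 : 1 - e ∈ maximalIdeal C := (mem_maximalIdeal _).mpr hcon
      apply h2m
      have := Ideal.add_mem _ h1 hem1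
      have h4 : 1 - e + (e + 1) = 2 := by ring
      rwa [h4] at this
    obtain ⟨cu, hcu'⟩ := hcu
    have hce : lamC (1 - e) * e = -(1 - e) := by
      rw [map_sub, map_one]
      linear_combination -he
    have hskew : T0 ((1 - e) • g) = -((1 - e) • g) := by
      rw [T0.map_smul, hgT, smul_smul, hce, neg_smul]
    obtain ⟨m, hm, u, u', huu', hu'u, hmain⟩ := skew_eq_J lamC.toRingEquiv (fun c => hlamC c)
      hfix hsqH h2 hq n ((1 - e) • g) ((↑cu⁻¹ : C) • g')
      (by rw [smul_mul_smul_comm, ← hcu', Units.mul_inv, hgg', one_smul]) hskew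
    refine ⟨u, u', huu', hu'u, Or.inr ⟨hq, m, hm, fun X => ?_⟩⟩
    have hmain' : u * Jn C m n hm * T0 u = (1 - e) • g := hmain.symm
    rw [hmain', Matrix.mul_smul, hτ, Matrix.smul_mul]

end normalForm

end Groth.Agent.Lib.Helper15.FRInvSkew
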