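import Mathlib
import Groth.Prelude.Def_AzInv
import Groth.Prelude.Def_W4c2azumayainvolQEt
import Groth.Agent.Lib.Helper15.FRInv3
import Groth.Agent.Lib.Helper15.FRInv4
import Groth.Agent.Lib.Helper15.FRInv5
import Groth.Agent.Lib.Helper15.FRInvSkew
import Groth.Agent.Lib.Helper15.FRInvScalar
import Groth.Agent.Lib.Helper3.TensorPrime
import Groth.Agent.S15587

/-!
# Local analysis of an involution at a strictly henselian point of the fixed ring
-/

set_option autoImplicit false
set_option linter.style.haveILetI false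
universe u v w w'

open scoped TensorProduct
open IsLocalRing

namespace Groth.Agent.Lib.Helper15.FRInv7

open Groth.Agent.Lib.Helper15.FRDescent Groth.Agent.Lib.Helper15.FRTheta
  Groth.Agent.Lib.Helper15.FRInvAbs Groth.Agent.Lib.Helper15.FRInv1
  Groth.Agent.Lib.Helper15.FRInv2 Groth.Agent.Lib.Helper15.FRInv3
  Groth.Agent.Lib.Helper15.FRInv4 Groth.Agent.Lib.Helper15.FRMain
  Groth.Agent.Lib.Helper15.FRInvNF Groth.Agent.Lib.Helper15.FRInvSkew
  Groth.Agent.Lib.Helper15.FRInvScalar AzInv

attribute [local instance] Algebra.TensorProduct.rightAlgebra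

section point

variable (S : Type u) [CommRing S]

open Groth.Agent.Lib.Helper4.Hzs Groth.Agent.Lib.Helper4.IndEt in
/-- a strictly henselian, flat, ind-étale local `S`-algebra centred at a given prime -/
theorem exists_strictHensel_at (p : PrimeSpectrum S) :
    ∃ (H : Type u) (_ : CommRing H) (_ : Algebra S H) (_ : HenselianLocalRing H)
      (_ : IsSepClosed (ResidueField H)) (_ : Module.Flat S H),
      EtPBC.IsIndEtale S H ∧ (maximalIdeal H).comap (algebraMap S H) = p.asIdeal := by
  classical
  let L := Localization.AtPrime p.asIdeal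
  let H := Hs L
  letI algSH : Algebra S H := ((algebraMap L H).comp (algebraMap S L)).toAlgebra
  haveI : IsScalarTower S L H := IsScalarTower.of_algebraMap_eq (fun _ => rfl)
  haveI : Module.Flat S L := IsLocalization.flat L p.asIdeal.primeCompl
  haveI hflat : Module.Flat S H := Module.Flat.trans S L H
  haveI hsc : IsSepClosed (ResidueField H) := (Hs.isSepClosure L).sep_closed
  have hind : EtPBC.IsIndEtale S H := by
    have h1 : EtPBC.IsIndEtale S L :=
      isIndEtale_of_ind S _ (ind_atPrime (R := S) (E := S) (q := p.asIdeal))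
    have h2 : EtPBC.IsIndEtale L H := isIndEtale_of_ind L H (Hs.ind L)
    exact Groth.Agent.S0734.result S L H h1 h2
  refine ⟨H, inferInstance, algSH, inferInstance, hsc, hflat, hind, ?_⟩
  rw [IsScalarTower.algebraMap_eq S L H, ← Ideal.comap_comap]
  have h2 : (maximalIdeal H).comap (algebraMap L H) = maximalIdeal L :=
    ((local_hom_TFAE (algebraMap L H)).out 0 4).mp (Hs.isLocalHom_algebraMap L)
  rw [h2]
  exact Localization.AtPrime.under_maximalIdeal

/-- an étale algebra hitting the centre of a strictly henselian local algebra maps to it -/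
theorem exists_algHom_of_mem_range (H : Type u) [CommRing H] [Algebra S H] [HenselianLocalRing H]
    [IsSepClosed (ResidueField H)] (p : PrimeSpectrum S)
    (hp : (maximalIdeal H).comap (algebraMap S H) = p.asIdeal)
    (E : Type u) [CommRing E] [Algebra S E] [Algebra.Etale S E]
    (hE : p ∈ Set.range (PrimeSpectrum.comap (algebraMap S E))) : Nonempty (E →ₐ[S] H) := by
  obtain ⟨q', hq'⟩ := hE
  have hq'' : q'.asIdeal.comap (algebraMap S E) = p.asIdeal := congrArg PrimeSpectrum.asIdeal hq'
  obtain ⟨r, hr, hr1, -⟩ := Groth.Agent.Lib.Helper3.TensorPrime.exists_prime_tensor (R := S)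
    (S := H) (T := E) (maximalIdeal H) q'.asIdeal (by rw [hp, hq''])
  obtain ⟨σ, -⟩ := Groth.Agent.Lib.Helper4.HensSection.exists_residue_point H (H ⊗[S] E) r hr1
  let uT : H →ₐ[H] ResidueField H := Algebra.ofId H (ResidueField H)
  have huT : Function.Surjective uT := IsLocalRing.residue_surjective
  have hk : RingHom.ker uT.toRingHom = maximalIdeal H := IsLocalRing.ker_residue
  obtain ⟨w, -, -⟩ := Groth.Agent.Lib.Helper4.IndEt.existsUnique_lift_etale uT huT hk
    (H ⊗[S] E) σ
  exact ⟨(w.restrictScalars S).comp (Algebra.TensorProduct.includeRight : E →ₐ[S] H ⊗[S] E)⟩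

end point

section ramified

variable (S : Type u) (R : Type v) [CommRing S] [CommRing R] [Algebra S R]
  (lam : R ≃ₐ[S] R) (hlam : ∀ r, lam (lam r) = r) (hfix : RInv.IsFixedRing S R lam.toRingEquiv)

theorem incl_algebraMap (H : Type*) [CommRing H] [Algebra S H] (s : S) :
    incl S R H (algebraMap S R s) = algebraMap H (H ⊗[S] R) (algebraMap S H s) := by
  rw [incl_apply, Algebra.TensorProduct.algebraMap_apply, Algebra.algebraMap_self,
    RingHom.id_apply, Algebra.algebraMap_eq_smul_one, Algebra.algebraMap_eq_smul_one,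
    TensorProduct.smul_tmul]

include hlam hfix in
/-- at a branch point the base-changed involution is the identity modulo the radical -/
theorem lam_sub_mem_jacobson (H : Type*) [CommRing H] [IsLocalRing H] [Algebra S H]
    [Module.Flat S H] (p : PrimeSpectrum S)
    (hp : (maximalIdeal H).comap (algebraMap S H) = p.asIdeal)
    (hram : ¬ RInv.IsQuadEtale (Localization.AtPrime p.asIdeal)
      (Localization.AtPrime p.asIdeal ⊗[S] R)) (c : H ⊗[S] R) :
    lamT S lam H c - c ∈ Ring.jacobson (H ⊗[S] R) := by
  obtain ⟨q, hq, huniq, hlamq⟩ := (Groth.Agent.S15587.result S R lam.toRingEquiv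
    (fun r => hlam r) hfix p).mp hram
  have hfixH := isFixedRing_lamT S R lam hlam hfix H
  haveI : Algebra.IsIntegral H (H ⊗[S] R) :=
    Groth.Agent.Lib.Helper15.FRSemiLocal.isIntegral (lamT S lam H).toRingEquiv
      (fun c => lamT_lamT S lam hlam H c) hfixH
  rw [← Ideal.jacobson_bot]
  apply Ideal.mem_sInf.mpr
  rintro Q ⟨-, hQ⟩
  haveI := hQ
  have hQH : Q.comap (algebraMap H (H ⊗[S] R)) = maximalIdeal H :=
    eq_maximalIdeal (Ideal.isMaximal_comap_of_isIntegral_of_isMaximal Q)
  have hQq : Q.comap (incl S R H) = q.asIdeal := by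
    have h1 : (Q.comap (incl S R H)).comap (algebraMap S R) = p.asIdeal := by
      rw [Ideal.comap_comap]
      have h2 : (incl S R H).comp (algebraMap S R) =
          (algebraMap H (H ⊗[S] R)).comp (algebraMap S H) := by
        ext s
        exact incl_algebraMap S R H s
      rw [h2, ← Ideal.comap_comap, hQH, hp]
    have h3 := huniq ⟨Q.comap (incl S R H), inferInstance⟩ h1
    exact congrArg PrimeSpectrum.asIdeal h3
  induction c using TensorProduct.induction_on with
  | zero => simp
  | tmul h r =>
    have h1 : lamT S lam H (h ⊗ₜ r) - h ⊗ₜ r = (h ⊗ₜ[S] (1 : R)) * incl S R H (lam r - r) := by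
      rw [lamT_tmul, incl_apply, Algebra.TensorProduct.tmul_mul_tmul, mul_one, one_mul,
        TensorProduct.tmul_sub]
    rw [h1]
    apply Ideal.mul_mem_left
    have h2 : lam r - r ∈ Q.comap (incl S R H) := by
      rw [hQq]
      exact hlamq r
    exact h2
  | add x y hx hy =>
    have h1 : lamT S lam H (x + y) - (x + y) =
        (lamT S lam H x - x) + (lamT S lam H y - y) := by
      rw [map_add]; ring
    rw [h1]
    exact Ideal.add_mem _ hx hy

end ramified

section formula

variable (S : Type u) (R : Type v) [CommRing S] [CommRing R] [Algebra S R]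
  (lam : R ≃ₐ[S] R) (hlam : ∀ r, lam (lam r) = r)

theorem lamTr_map_incl (T : Type*) [CommRing T] [Algebra S T] {n : ℕ}
    (G : Matrix (Fin n) (Fin n) R) :
    LamInv.transpose (lamT S lam T) (Fin n) (lamT_lamT S lam hlam T) (G.map (incl S R T)) =
      (LamInv.transpose lam (Fin n) hlam G).map (incl S R T) := by
  ext i j
  rw [LamInv.transpose_apply, Matrix.map_apply, Matrix.map_apply, LamInv.transpose_apply,
    incl_apply, incl_apply, lamT_tmul]

theorem formula_eq (T : Type*) [CommRing T] [Algebra S T] {n : ℕ}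
    (G G' : Matrix (Fin n) (Fin n) R) (Y : Matrix (Fin n) (Fin n) (T ⊗[S] R)) :
    (Matrix.of fun k l => ∑ i, ∑ j, lamT S lam T (Y i j) * ((1 : T) ⊗ₜ[S] kap G G' i j k l)) =
      G.map (incl S R T) * LamInv.transpose (lamT S lam T) (Fin n) (lamT_lamT S lam hlam T) Y *
        G'.map (incl S R T) := by
  ext k l
  rw [Matrix.of_apply, Matrix.mul_apply]
  simp only [Matrix.mul_apply, Finset.sum_mul]
  refine Finset.sum_congr rfl fun i _ => Finset.sum_congr rfl fun j _ => ?_
  rw [LamInv.transpose_apply, Matrix.map_apply, Matrix.map_apply, incl_apply, incl_apply]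
  simp only [kap]
  have h1 : ((1 : T) ⊗ₜ[S] (G k j * G' i l) : T ⊗[S] R) =
      ((1 : T) ⊗ₜ[S] G k j) * ((1 : T) ⊗ₜ[S] G' i l) := by
    rw [Algebra.TensorProduct.tmul_mul_tmul, one_mul]
  rw [h1]
  ring

end formula

end Groth.Agent.Lib.Helper15.FRInv7
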