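import Mathlib
import Groth.Prelude.Def_AzInv
import Groth.Prelude.Def_W4c2azumayainvolQEt
import Groth.Agent.Lib.Helper15.FRInv7

/-!
# Classification of an involution at a strictly henselian point (`2` invertible)
-/

set_option autoImplicit false
set_option linter.style.haveILetI false
universe u v w w'

open scoped TensorProduct
open IsLocalRing

namespace Groth.Agent.Lib.Helper15.FRInv8

open Groth.Agent.Lib.Helper15.FRDescent Groth.Agent.Lib.Helper15.FRTheta
  Groth.Agent.Lib.Helper15.FRInvAbs Groth.Agent.Lib.Helper15.FRInv1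
  Groth.Agent.Lib.Helper15.FRInv2 Groth.Agent.Lib.Helper15.FRInv3
  Groth.Agent.Lib.Helper15.FRInv4 Groth.Agent.Lib.Helper15.FRMain
  Groth.Agent.Lib.Helper15.FRInvNF Groth.Agent.Lib.Helper15.FRInvSkew
  Groth.Agent.Lib.Helper15.FRInvScalar Groth.Agent.Lib.Helper15.FRInv7 AzInv

attribute [local instance] Algebra.TensorProduct.rightAlgebra

section classify

variable (S : Type u) (R : Type v) [CommRing S] [CommRing R] [Algebra S R]
  (lam : R ≃ₐ[S] R) (hlam : ∀ r, lam (lam r) = r) (hfix : RInv.IsFixedRing S R lam.toRingEquiv)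
  (A : Type w) [Ring A] [Algebra S A] [Algebra R A] [IsScalarTower S R A]
  (n : ℕ) (hn : 0 < n) (hA : AzInv.IsAzumayaDeg R A n) (t : AzInv.LamInv R A lam)

include hlam hfix hn hA in
/-- orthogonal or symplectic at a strictly henselian point -/
theorem classify_two (H : Type u) [CommRing H] [Algebra S H] [HenselianLocalRing H]
    [IsSepClosed (ResidueField H)] [Module.Flat S H]
    (hsqH : ∀ x : Hˣ, ∃ y : H, y * y = x) (h2 : IsUnit (2 : H)) :
    HasKUnits S lam t (kap (1 : Matrix (Fin n) (Fin n) R) 1) H ∨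
      ((∀ c : H ⊗[S] R, lamT S lam H c - c ∈ Ring.jacobson (H ⊗[S] R)) ∧
        ∃ (m : ℕ) (hm : n = 2 * m),
          HasKUnits S lam t (kap (Jn R m n hm) (-Jn R m n hm)) H) := by
  classical
  have hfixH := isFixedRing_lamT S R lam hlam hfix H
  obtain ⟨τ, hτ⟩ := hasKUnits_of_normalForm S R lam hlam A n hn hA t H
    (hasUnits_strictHensel S R lam hlam hfix A n hA H)
  obtain ⟨u, u', huu', hu'u, hNF⟩ := normalForm_two (lamT S lam H) (lamT_lamT S lam hlam H)
    hfixH hsqH h2 n hn τ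
  rcases hNF with h | ⟨hid, m, hm, h⟩
  · left
    refine hτ 1 1 (one_mul 1) u u' huu' hu'u fun X => ?_
    rw [Matrix.map_one _ (map_zero _) (map_one _), mul_one]
    exact h X
  · right
    refine ⟨hid, m, hm, hτ (Jn R m n hm) (-Jn R m n hm) (Jn_mul_neg m n hm) u u' huu' hu'u
      fun X => ?_⟩
    rw [Jn_map]
    exact h X

end classify

section noiso

variable (S : Type u) (R : Type v) [CommRing S] [CommRing R] [Algebra S R]
  (lam : R ≃ₐ[S] R) (hlam : ∀ r, lam (lam r) = r) (hfix : RInv.IsFixedRing S R lam.toRingEquiv)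
  (A : Type w) [Ring A] [Algebra S A] [Algebra R A] [IsScalarTower S R A]
  (A' : Type w') [Ring A'] [Algebra S A'] [Algebra R A'] [IsScalarTower S R A']
  (N : ℕ) (hN : 0 < N) (hA : AzInv.IsAzumayaDeg R A N) (hA' : AzInv.IsAzumayaDeg R A' N)
  (t : AzInv.LamInv R A lam) (t' : AzInv.LamInv R A' lam)

include hlam hfix hN hA hA' in
/-- a hermitian and a skew-hermitian algebra with involution are not isomorphic at a ramified
point -/
theorem no_iso_of_kunits (H : Type u) [CommRing H] [Algebra S H] [IsLocalRing H]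
    [Module.Flat S H]
    (hid : ∀ c : H ⊗[S] R, lamT S lam H c - c ∈ Ring.jacobson (H ⊗[S] R)) (h2 : IsUnit (2 : H))
    (G₁ G₁' G₂ G₂' : Matrix (Fin N) (Fin N) R) (h11 : G₁ * G₁' = 1) (h22 : G₂ * G₂' = 1)
    (hG₁ : LamInv.transpose lam (Fin N) hlam G₁ = G₁)
    (hG₂ : LamInv.transpose lam (Fin N) hlam G₂ = -G₂)
    (h₁ : HasKUnits S lam t (kap G₁ G₁') H) (h₂ : HasKUnits S lam t' (kap G₂ G₂') H)
    (f : H ⊗[S] A ≃ₐ[H] H ⊗[S] A')
    (hf1 : ∀ (r : R) (x : H ⊗[S] A),
        f (((1 : H) ⊗ₜ[S] algebraMap R A r) * x) = ((1 : H) ⊗ₜ[S] algebraMap R A' r) * f x)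
    (hf2 : ∀ x : H ⊗[S] A, f (t.bc S lam H x) = t'.bc S lam H (f x)) : False := by
  classical
  have hfixH := isFixedRing_lamT S R lam hlam hfix H
  haveI : Nontrivial (H ⊗[S] R) := hfixH.1.nontrivial
  obtain ⟨F, hF, hform⟩ := exists_split_formula S R lam hlam A N hN hA t _ H h₁
  obtain ⟨F', hF', hform'⟩ := exists_split_formula S R lam hlam A' N hN hA' t' _ H h₂
  -- `f` is compatible with the centre
  have hfι : ∀ (c : H ⊗[S] R) (x : H ⊗[S] A),
      f (iota S R A H c * x) = iota S R A' H c * f x := by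
    intro c x
    induction c using TensorProduct.induction_on with
    | zero => simp
    | tmul h r =>
      have h1 : iota S R A H (h ⊗ₜ[S] r) = h • ((1 : H) ⊗ₜ[S] algebraMap R A r) := by
        rw [iota_tmul, TensorProduct.smul_tmul', smul_eq_mul, mul_one]
      have h1' : iota S R A' H (h ⊗ₜ[S] r) = h • ((1 : H) ⊗ₜ[S] algebraMap R A' r) := by
        rw [iota_tmul, TensorProduct.smul_tmul', smul_eq_mul, mul_one]
      rw [h1, h1', smul_mul_assoc, map_smul, hf1, smul_mul_assoc]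
    | add c d hc hd => rw [map_add, add_mul, map_add, hc, hd, map_add, add_mul]
  -- the automorphism of the matrix algebra
  let ψ₀ : Matrix (Fin N) (Fin N) (H ⊗[S] R) ≃+* Matrix (Fin N) (Fin N) (H ⊗[S] R) :=
    (F.symm.toRingEquiv.trans f.toRingEquiv).trans F'.toRingEquiv
  have hψ₀ : ∀ X, ψ₀ X = F' (f (F.symm X)) := fun X => rfl
  have hFsymm : ∀ (c : H ⊗[S] R) (X : Matrix (Fin N) (Fin N) (H ⊗[S] R)),
      F.symm (c • X) = iota S R A H c * F.symm X := by
    intro c X
    rw [AlgEquiv.symm_apply_eq, hF, AlgEquiv.apply_symm_apply]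
  let ψ : Matrix (Fin N) (Fin N) (H ⊗[S] R) ≃ₐ[H ⊗[S] R] Matrix (Fin N) (Fin N) (H ⊗[S] R) :=
    AlgEquiv.ofRingEquiv (f := ψ₀) (fun c => by
      rw [hψ₀, Algebra.algebraMap_eq_smul_one, hFsymm, hfι, hF', map_one, map_one, map_one])
  have hψ : ∀ X, ψ X = F' (f (F.symm X)) := fun X => rfl
  refine no_iso_herm_skew (lamT S lam H) (lamT_lamT S lam hlam H) hfixH hid
    (by have := h2.map (algebraMap H (H ⊗[S] R)); rwa [map_ofNat] at this) N hN
    (G₁.map (incl S R H)) (G₁'.map (incl S R H)) (G₂.map (incl S R H)) (G₂'.map (incl S R H))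
    (by rw [← Matrix.map_mul, h11, Matrix.map_one _ (map_zero _) (map_one _)])
    (by rw [← Matrix.map_mul, h22, Matrix.map_one _ (map_zero _) (map_one _)])
    (by rw [lamTr_map_incl S R lam hlam H G₁, hG₁])
    (by rw [lamTr_map_incl S R lam hlam H G₂, hG₂]; ext i j; simp)
    ψ (fun X => ?_)
  rw [hψ, hψ, ← formula_eq S R lam hlam H G₁ G₁' X, ← formula_eq S R lam hlam H G₂ G₂']
  have h1 := hform (F.symm X)
  rw [AlgEquiv.apply_symm_apply] at h1
  rw [← h1, AlgEquiv.symm_apply_apply, hf2, hform']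

end noiso

section congr

variable {S : Type u} {R : Type v} [CommRing S] [CommRing R] [Algebra S R] {lam : R ≃ₐ[S] R}
  {A : Type w} [Ring A] [Algebra S A] [Algebra R A] [IsScalarTower S R A]
  {t : AzInv.LamInv R A lam} {n : ℕ}

theorem HasKUnits.congr {T : Type u} [CommRing T] [Algebra S T]
    {κ κ' : Fin n → Fin n → Fin n → Fin n → R}
    (h : ∀ i j k l, ((1 : T) ⊗ₜ[S] algebraMap R A (κ i j k l) : T ⊗[S] A) =
      (1 : T) ⊗ₜ[S] algebraMap R A (κ' i j k l))
    (hK : HasKUnits S lam t κ T) : HasKUnits S lam t κ' T := by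
  obtain ⟨e, he, hrel⟩ := hK
  refine ⟨e, he, fun i j => ?_⟩
  rw [hrel]
  refine Finset.sum_congr rfl fun k _ => Finset.sum_congr rfl fun l _ => ?_
  rw [h]

theorem one_tmul_algebraMap_mul (T : Type*) [CommRing T] [Algebra S T] (s : S) (x : R) :
    ((1 : T) ⊗ₜ[S] algebraMap R A (algebraMap S R s * x) : T ⊗[S] A) =
      algebraMap S T s • ((1 : T) ⊗ₜ[S] algebraMap R A x) := by
  rw [map_mul, ← IsScalarTower.algebraMap_apply, ← Algebra.smul_def, ← TensorProduct.smul_tmul,
    TensorProduct.smul_tmul', Algebra.smul_def, mul_one, smul_eq_mul, mul_one]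
  

end congr

end Groth.Agent.Lib.Helper15.FRInv8
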