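import Mathlib
import Groth.Prelude.Def_AzInv
import Groth.Prelude.Def_W4c2azumayainvolQEt
import Groth.Agent.Lib.Helper15.FRInv6
import Groth.Agent.Lib.Helper15.FRInv8

/-!
# Ordinary involutions: the everywhere ramified case with `2` invertible
-/

set_option autoImplicit false
set_option linter.style.haveILetI false
universe u v w

open scoped TensorProduct
open IsLocalRing

namespace Groth.Agent.Lib.Helper15.FRInv9

open Groth.Agent.Lib.Helper15.FRDescent Groth.Agent.Lib.Helper15.FRInv2
  Groth.Agent.Lib.Helper15.FRInv3 Groth.Agent.Lib.Helper15.FRInv4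
  Groth.Agent.Lib.Helper15.FRInv5 Groth.Agent.Lib.Helper15.FRInv7
  Groth.Agent.Lib.Helper15.FRInv8 Groth.Agent.Lib.Helper15.FRInvSkew
  Groth.Agent.Lib.Helper15.FRMatUnits AzInv

section loc

variable (S : Type u) {R : Type v} [CommRing S] [CommRing R] [Algebra S R]
  (lam : R ≃ₐ[S] R) {A : Type w} [Ring A] [Algebra S A] [Algebra R A] [IsScalarTower S R A]
  (t : AzInv.LamInv R A lam) {n : ℕ} (κ : Fin n → Fin n → Fin n → Fin n → R)

/-- adapted units exist on an étale neighbourhood of `p` -/
def Loc (p : PrimeSpectrum S) : Prop :=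
  ∃ (E : Type u) (_ : CommRing E) (_ : Algebra S E) (_ : Algebra.Etale S E),
    HasKUnits S lam t κ E ∧ p ∈ Set.range (PrimeSpectrum.comap (algebraMap S E))

theorem isOpen_loc : IsOpen {p : PrimeSpectrum S | Loc S lam t κ p} :=
  Groth.Agent.Lib.Helper15.FKLocal.isOpen_locus
    (fun (T : Type u) [CommRing T] [Algebra S T] => HasKUnits S lam t κ T)

variable {S lam t κ}

theorem loc_of_hensel (p : PrimeSpectrum S) (H : Type u) [CommRing H] [Algebra S H]
    [IsLocalRing H] [Module.Flat S H] (hind : EtPBC.IsIndEtale S H)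
    (hp : (maximalIdeal H).comap (algebraMap S H) = p.asIdeal)
    (h : HasKUnits S lam t κ H) : Loc S lam t κ p := by
  obtain ⟨e, he, hrel⟩ := h
  obtain ⟨E, i1, i2, i3, β, hE⟩ := exists_etale_kunits hind e he hrel
  refine ⟨E, i1, i2, i3, hE, ⟨⟨(maximalIdeal H).comap β.toRingHom, inferInstance⟩, ?_⟩⟩
  apply PrimeSpectrum.ext
  change ((maximalIdeal H).comap β.toRingHom).comap (algebraMap S E) = p.asIdeal
  rw [Ideal.comap_comap]
  have h1 : β.toRingHom.comp (algebraMap S E) = algebraMap S H := by
    ext s
    exact β.commutes s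
  rw [h1, hp]

theorem hensel_of_loc (p : PrimeSpectrum S) (H : Type u) [CommRing H] [Algebra S H]
    [HenselianLocalRing H] [IsSepClosed (ResidueField H)]
    (hp : (maximalIdeal H).comap (algebraMap S H) = p.asIdeal)
    (h : Loc S lam t κ p) : HasKUnits S lam t κ H := by
  obtain ⟨E, i1, i2, i3, hE, hpE⟩ := h
  obtain ⟨φ⟩ := exists_algHom_of_mem_range S H p hp E hpE
  exact hE.baseChange φ

theorem exists_cover_of_loc (h : ∀ p, Loc S lam t κ p) :
    ∃ (S' : Type u) (_ : CommRing S') (_ : Algebra S S') (_ : Algebra.Etale S S')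
      (_ : Module.FaithfullyFlat S S'), HasKUnits S lam t κ S' := by
  apply Groth.Agent.Lib.Helper15.FKLocal.exists_cover_of_points
    (fun (T : Type u) [CommRing T] [Algebra S T] => HasKUnits S lam t κ T)
  · intro p
    exact h p
  · intro ι _ _ T _ _ h
    exact HasKUnits.pi T h

end loc

section idem

variable {S : Type*} [CommRing S] (H : Type*) [CommRing H] [IsLocalRing H] [Algebra S H]

theorem algebraMap_idem_eq_one (e f : S) (hef : e * f = 0) (hadd : e + f = 1)
    (he : algebraMap S H e ∉ maximalIdeal H) : algebraMap S H e = 1 ∧ algebraMap S H f = 0 := by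
  have hu : IsUnit (algebraMap S H e) := by
    by_contra hc
    exact he ((mem_maximalIdeal _).mpr hc)
  have h0 : algebraMap S H f = 0 := by
    have h1 : algebraMap S H e * algebraMap S H f = 0 := by rw [← map_mul, hef, map_zero]
    exact (hu.mul_right_eq_zero).mp h1
  refine ⟨?_, h0⟩
  have h2 : algebraMap S H e + algebraMap S H f = 1 := by rw [← map_add, hadd, map_one]
  rw [h0, add_zero] at h2
  exact h2

end idem

section gram

variable {R : Type*} [CommRing R] {n : ℕ} (a b : R) (hab : a * b = 0) (hadd : a + b = 1)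
  (J J' : Matrix (Fin n) (Fin n) R)

include hab hadd in
theorem idem_facts : a * a = a ∧ b * b = b := by
  constructor
  · have : a * a = a * (a + b) - a * b := by ring
    rw [this, hadd, hab, mul_one, sub_zero]
  · have : b * b = (a + b) * b - a * b := by ring
    rw [this, hadd, hab, one_mul, sub_zero]

include hab hadd in
theorem gram_mul (hJJ' : J * J' = 1) : (a • (1 : Matrix (Fin n) (Fin n) R) + b • J) *
    (a • (1 : Matrix (Fin n) (Fin n) R) + b • J') = 1 := by
  obtain ⟨haa, hbb⟩ := idem_facts a b hab hadd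
  have hba : b * a = 0 := by rw [mul_comm, hab]
  rw [add_mul, mul_add, mul_add, smul_mul_smul_comm, smul_mul_smul_comm, smul_mul_smul_comm,
    smul_mul_smul_comm, haa, hab, hba, hbb, zero_smul, zero_smul, add_zero, zero_add, mul_one,
    hJJ', ← add_smul, hadd, one_smul]

include hab hadd in
theorem kap_gram (i j k l : Fin n) :
    kap (a • (1 : Matrix (Fin n) (Fin n) R) + b • J) (a • (1 : Matrix (Fin n) (Fin n) R) + b • J')
      i j k l = a * kap (1 : Matrix (Fin n) (Fin n) R) 1 i j k l + b * kap J J' i j k l := by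
  obtain ⟨haa, hbb⟩ := idem_facts a b hab hadd
  simp only [kap, Matrix.add_apply, Matrix.smul_apply, smul_eq_mul]
  linear_combination ((1 : Matrix (Fin n) (Fin n) R) k j * (1 : Matrix (Fin n) (Fin n) R) i l) * haa +
    ((1 : Matrix (Fin n) (Fin n) R) k j * J' i l + J k j * (1 : Matrix (Fin n) (Fin n) R) i l) * hab +
    (J k j * J' i l) * hbb

end gram

section main

variable (S : Type u) (R : Type v) [CommRing S] [CommRing R] [Algebra S R]
  (lam : R ≃ₐ[S] R) (hlam : ∀ r, lam (lam r) = r) (hfix : RInv.IsFixedRing S R lam.toRingEquiv)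
  (hsq : ∀ (S₁ : Type u) [CommRing S₁] [Algebra S S₁] [Algebra.Etale S S₁] (x : S₁ˣ),
      ∃ (S₂ : Type u) (_ : CommRing S₂) (_ : Algebra S₁ S₂) (_ : Algebra.Etale S₁ S₂)
        (_ : Module.FaithfullyFlat S₁ S₂) (y : S₂), y * y = algebraMap S₁ S₂ ↑x)
  (A : Type w) [Ring A] [Algebra S A] [Algebra R A] [IsScalarTower S R A]
  (n : ℕ) (hn : 0 < n) (hA : AzInv.IsAzumayaDeg R A n) (t : AzInv.LamInv R A lam)

theorem lamTr_Jn (m : ℕ) (hm : n = 2 * m) :
    LamInv.transpose lam (Fin n) hlam (Jn R m n hm) = -Jn R m n hm := by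
  have h1 : LamInv.transpose lam (Fin n) hlam (Jn R m n hm) =
      ((Jn R m n hm).map (lam : R →+* R)).transpose := rfl
  rw [h1, Jn_map, Jn_transpose]

include hlam hfix hsq hn hA in
/-- in the everywhere ramified case with `2` invertible and even degree, there are a global
idempotent decomposition and étale-local matrix units adapted to the corresponding mixed Gram
matrix -/
theorem exists_idem_cover (h2 : IsUnit (2 : S))
    (hram : ∀ p : PrimeSpectrum S, ¬ RInv.IsQuadEtale (Localization.AtPrime p.asIdeal)
      (Localization.AtPrime p.asIdeal ⊗[S] R)) (m : ℕ) (hm : n = 2 * m) :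
    ∃ e f : S, e * f = 0 ∧ e + f = 1 ∧
      ∃ (S' : Type u) (_ : CommRing S') (_ : Algebra S S') (_ : Algebra.Etale S S')
        (_ : Module.FaithfullyFlat S S'),
        HasKUnits S lam t
          (kap (algebraMap S R e • (1 : Matrix (Fin n) (Fin n) R) + algebraMap S R f • Jn R m n hm)
            (algebraMap S R e • (1 : Matrix (Fin n) (Fin n) R) +
              algebraMap S R f • (-Jn R m n hm))) S' := by
  classical
  set κp := kap (1 : Matrix (Fin n) (Fin n) R) 1 with hκp
  set κm := kap (Jn R m n hm) (-Jn R m n hm) with hκm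
  -- (i) one of the two types at every point
  have hor : ∀ p, Loc S lam t κp p ∨ Loc S lam t κm p := by
    intro p
    obtain ⟨H, _, _, _, _, _, hind, hp⟩ := exists_strictHensel_at S p
    have hsqH : ∀ x : Hˣ, ∃ y : H, y * y = x := units_sq_of_hsq S hsq H hind
    have h2H : IsUnit (2 : H) := by
      have := h2.map (algebraMap S H)
      rwa [map_ofNat] at this
    rcases classify_two S R lam hlam hfix A n hn hA t H hsqH h2H with h | ⟨-, m', hm', h⟩
    · exact Or.inl (loc_of_hensel p H hind hp h)
    · obtain rfl : m' = m := by omega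
      exact Or.inr (loc_of_hensel p H hind hp h)
  -- (ii) not both
  have hnot : ∀ p, ¬ (Loc S lam t κp p ∧ Loc S lam t κm p) := by
    rintro p ⟨hp1, hp2⟩
    obtain ⟨H, _, _, _, _, _, hind, hp⟩ := exists_strictHensel_at S p
    have h2H : IsUnit (2 : H) := by
      have := h2.map (algebraMap S H)
      rwa [map_ofNat] at this
    have hid := lam_sub_mem_jacobson S R lam hlam hfix H p hp (hram p)
    exact no_iso_of_kunits S R lam hlam hfix A A n hn hA hA t t H hid h2H 1 1 (Jn R m n hm)
      (-Jn R m n hm) (one_mul 1) (Jn_mul_neg m n hm)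
      ((LamInv.transpose lam (Fin n) hlam).map_one) (lamTr_Jn S R lam hlam n m hm)
      (hensel_of_loc p H hp hp1) (hensel_of_loc p H hp hp2) AlgEquiv.refl
      (fun r x => rfl) (fun x => rfl)
  -- (iii) the clopen decomposition
  have hclopen : IsClopen {p : PrimeSpectrum S | Loc S lam t κp p} := by
    refine ⟨?_, isOpen_loc S lam t κp⟩
    have hcompl : {p : PrimeSpectrum S | Loc S lam t κp p}ᶜ =
        {p : PrimeSpectrum S | Loc S lam t κm p} := by
      ext p
      simp only [Set.mem_compl_iff, Set.mem_ofPred_eq]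
      constructor
      · intro h
        exact (hor p).resolve_left h
      · intro h h'
        exact hnot p ⟨h', h⟩
    rw [← isOpen_compl_iff, hcompl]
    exact isOpen_loc S lam t κm
  obtain ⟨e, f, hef, hadd, hU⟩ := PrimeSpectrum.isClopen_iff_mul_add.mp hclopen
  refine ⟨e, f, hef, hadd, ?_⟩
  apply exists_cover_of_loc
  intro p
  obtain ⟨H, _, _, _, _, _, hind, hp⟩ := exists_strictHensel_at S p
  have hab : algebraMap S R e * algebraMap S R f = 0 := by rw [← map_mul, hef, map_zero]
  have habadd : algebraMap S R e + algebraMap S R f = 1 := by rw [← map_add, hadd, map_one]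
  apply loc_of_hensel p H hind hp
  by_cases hpe : e ∈ p.asIdeal
  · -- the symplectic part
    have hpm : Loc S lam t κm p := by
      refine (hor p).resolve_left fun h => ?_
      have h1 : p ∈ {p : PrimeSpectrum S | Loc S lam t κp p} := h
      rw [hU] at h1
      exact h1 hpe
    have hK := hensel_of_loc p H hp hpm
    have hf : f ∉ p.asIdeal := by
      intro hf
      have : (1 : S) ∈ p.asIdeal := by rw [← hadd]; exact Ideal.add_mem _ hpe hf
      exact p.isPrime.ne_top ((Ideal.eq_top_iff_one _).mpr this)
    have hfH : algebraMap S H f ∉ maximalIdeal H := by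
      intro hc
      apply hf
      rw [← hp]
      exact hc
    obtain ⟨hf1, he0⟩ := algebraMap_idem_eq_one H f e (by rw [mul_comm, hef])
      (by rw [add_comm, hadd]) hfH
    refine HasKUnits.congr (fun i j k l => ?_) hK
    rw [kap_gram _ _ hab habadd, map_add, TensorProduct.tmul_add, one_tmul_algebraMap_mul,
      one_tmul_algebraMap_mul, he0, hf1, zero_smul, one_smul, zero_add]
  · -- the orthogonal part
    have hpp : Loc S lam t κp p := by
      have h1 : p ∈ {p : PrimeSpectrum S | Loc S lam t κp p} := by
        rw [hU]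
        exact hpe
      exact h1
    have hK := hensel_of_loc p H hp hpp
    have heH : algebraMap S H e ∉ maximalIdeal H := by
      intro hc
      apply hpe
      rw [← hp]
      exact hc
    obtain ⟨he1, hf0⟩ := algebraMap_idem_eq_one H e f hef hadd heH
    refine HasKUnits.congr (fun i j k l => ?_) hK
    rw [kap_gram _ _ hab habadd, map_add, TensorProduct.tmul_add, one_tmul_algebraMap_mul,
      one_tmul_algebraMap_mul, he1, hf0, zero_smul, one_smul, add_zero]

end main

end Groth.Agent.Lib.Helper15.FRInv9
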