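import Mathlib
import Groth.Prelude.Def_AzInv
import Groth.Prelude.Def_W4c2azumayainvolQEt
import Groth.Agent.Lib.Helper15.FRInv9

/-!
# Ordinary involutions (`S17358`)
-/

set_option autoImplicit false
set_option linter.style.haveILetI false
universe u v w

open scoped TensorProduct
open IsLocalRing

namespace Groth.Agent.Lib.Helper15.FRInv10

open Groth.Agent.Lib.Helper15.FRDescent Groth.Agent.Lib.Helper15.FRInv2
  Groth.Agent.Lib.Helper15.FRInv3 Groth.Agent.Lib.Helper15.FRInv4
  Groth.Agent.Lib.Helper15.FRInv6 Groth.Agent.Lib.Helper15.FRInv9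
  Groth.Agent.Lib.Helper15.FRInvAbs Groth.Agent.Lib.Helper15.FRInvSkew
  Groth.Agent.Lib.Helper15.FRMatUnits AzInv

section matrixSide

variable (S : Type u) (R : Type v) [CommRing S] [CommRing R] [Algebra S R]
  (lam : R ≃ₐ[S] R) (hlam : ∀ r, lam (lam r) = r) (n : ℕ)

/-- the standard matrix units of `T ⊗ Mₙ(R)` for a twisted transpose -/
theorem hasKUnits_matrix_conj (w : (Matrix (Fin n) (Fin n) R)ˣ) (e : R)
    (hw : LamInv.transpose lam (Fin n) hlam (↑w : Matrix (Fin n) (Fin n) R) =
      e • (↑w : Matrix (Fin n) (Fin n) R)) (he : lam e * e = 1)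
    (T : Type u) [CommRing T] [Algebra S T] :
    HasKUnits S lam ((LamInv.transpose lam (Fin n) hlam).conj w e hw he)
      (kap (↑w : Matrix (Fin n) (Fin n) R)
        ((w⁻¹ : (Matrix (Fin n) (Fin n) R)ˣ) : Matrix (Fin n) (Fin n) R)) T := by
  classical
  refine ⟨fun i j => (1 : T) ⊗ₜ[S] (Matrix.single i j (1 : R) : Matrix (Fin n) (Fin n) R),
    (isUnits_single (C := R) (n := n)).map
      (Algebra.TensorProduct.includeRight : Matrix (Fin n) (Fin n) R →ₐ[S]
        T ⊗[S] Matrix (Fin n) (Fin n) R), fun i j => ?_⟩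
  rw [AzInv.LamInv.bc_tmul, LamInv.conj_apply]
  have h1 : LamInv.transpose lam (Fin n) hlam (Matrix.single i j (1 : R)) =
      Matrix.single j i (1 : R) := by
    have := lamTr_single (lamC := lam.toRingEquiv) (n := n) (fun c => hlam c) i j (1 : R)
    rw [map_one] at this
    exact this
  rw [h1, mul_single_mul, TensorProduct.tmul_sum]
  refine Finset.sum_congr rfl fun k _ => ?_
  rw [TensorProduct.tmul_sum]
  refine Finset.sum_congr rfl fun l _ => ?_
  rw [Algebra.TensorProduct.tmul_mul_tmul, one_mul, ← Algebra.smul_def]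
  rfl

end matrixSide

section main

variable (S : Type u) (R : Type v) [CommRing S] [CommRing R] [Algebra S R]
  (lam : R ≃ₐ[S] R) (hlam : ∀ r, lam (lam r) = r) (hfix : RInv.IsFixedRing S R lam.toRingEquiv)
  (hsq : ∀ (S₁ : Type u) [CommRing S₁] [Algebra S S₁] [Algebra.Etale S S₁] (x : S₁ˣ),
      ∃ (S₂ : Type u) (_ : CommRing S₂) (_ : Algebra S₁ S₂) (_ : Algebra.Etale S₁ S₂)
        (_ : Module.FaithfullyFlat S₁ S₂) (y : S₂), y * y = algebraMap S₁ S₂ ↑x)
  (A : Type w) [Ring A] [Algebra S A] [Algebra R A] [IsScalarTower S R A]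
  (n : ℕ) (hn : 0 < n) (hA : AzInv.IsAzumayaDeg R A n) (t : AzInv.LamInv R A lam)

include hn hA in
/-- adapted units for the Gram matrix `w` give the local isomorphism -/
theorem locIsoEt_conj (w : (Matrix (Fin n) (Fin n) R)ˣ) (e : R)
    (hw : LamInv.transpose lam (Fin n) hlam (↑w : Matrix (Fin n) (Fin n) R) =
      e • (↑w : Matrix (Fin n) (Fin n) R)) (he : lam e * e = 1)
    (h : ∃ (S' : Type u) (_ : CommRing S') (_ : Algebra S S') (_ : Algebra.Etale S S')
      (_ : Module.FaithfullyFlat S S'),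
      HasKUnits S lam t (kap (↑w : Matrix (Fin n) (Fin n) R)
        ((w⁻¹ : (Matrix (Fin n) (Fin n) R)ˣ) : Matrix (Fin n) (Fin n) R)) S') :
    AzInv.LocIsoEt S lam t ((LamInv.transpose lam (Fin n) hlam).conj w e hw he) := by
  obtain ⟨S', i1, i2, i3, i4, hU⟩ := h
  have hU' := hasKUnits_matrix_conj S R lam hlam n w e hw he S'
  obtain ⟨f, hf1, hf2⟩ := exists_iso_of_kunits S R lam hlam A n hn hA t _
    (Matrix (Fin n) (Fin n) R) (isAzumayaDeg_matrix R n hn)
    ((LamInv.transpose lam (Fin n) hlam).conj w e hw he) S' hU hU'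
  exact ⟨S', i1, i2, i3, i4, f, hf1, hf2⟩

include hfix hsq hn hA in
/-- `S17358` -/
theorem ordinary
    (hram : (IsUnit (2 : S) ∧ ∀ p : PrimeSpectrum S,
        ¬ RInv.IsQuadEtale (Localization.AtPrime p.asIdeal)
          (Localization.AtPrime p.asIdeal ⊗[S] R)) ∨ RInv.IsQuadEtale S R) :
    ∃ (w : (Matrix (Fin n) (Fin n) R)ˣ) (e : R)
      (hw : AzInv.LamInv.transpose lam (Fin n) hlam (↑w : Matrix (Fin n) (Fin n) R) =
        e • (↑w : Matrix (Fin n) (Fin n) R))
      (he : lam e * e = 1),
      AzInv.LocIsoEt S lam t ((AzInv.LamInv.transpose lam (Fin n) hlam).conj w e hw he) := by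
  classical
  -- the neutral case
  have hneutral : (RInv.IsQuadEtale S R ∨ Odd n) →
      ∃ (w : (Matrix (Fin n) (Fin n) R)ˣ) (e : R)
      (hw : AzInv.LamInv.transpose lam (Fin n) hlam (↑w : Matrix (Fin n) (Fin n) R) =
        e • (↑w : Matrix (Fin n) (Fin n) R))
      (he : lam e * e = 1),
      AzInv.LocIsoEt S lam t ((AzInv.LamInv.transpose lam (Fin n) hlam).conj w e hw he) := by
    intro hcase
    refine ⟨1, 1, by rw [Units.val_one, (LamInv.transpose lam (Fin n) hlam).map_one, one_smul],
      by rw [map_one, mul_one], ?_⟩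
    apply locIsoEt_conj S R lam hlam A n hn hA t
    have := exists_cover_kunits S R lam hlam hfix hsq A n hn hA t hcase
    simpa using this
  rcases hram with ⟨h2, hr⟩ | hq
  · rcases Nat.even_or_odd n with hev | hodd
    · obtain ⟨m, hm'⟩ := hev
      have hm : n = 2 * m := by omega
      obtain ⟨e₀, f₀, hef, hadd, hcov⟩ := exists_idem_cover S R lam hlam hfix hsq A n hn hA t h2
        hr m hm
      set a := algebraMap S R e₀ with ha
      set b := algebraMap S R f₀ with hb
      have hab : a * b = 0 := by rw [ha, hb, ← map_mul, hef, map_zero]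
      have habadd : a + b = 1 := by rw [ha, hb, ← map_add, hadd, map_one]
      obtain ⟨haa, hbb⟩ := idem_facts a b hab habadd
      have hba : b * a = 0 := by rw [mul_comm, hab]
      have hla : lam a = a := lam.commutes e₀
      have hlb : lam b = b := lam.commutes f₀
      have hWW' := gram_mul a b hab habadd (Jn R m n hm) (-Jn R m n hm) (Jn_mul_neg m n hm)
      let w : (Matrix (Fin n) (Fin n) R)ˣ :=
        ⟨a • (1 : Matrix (Fin n) (Fin n) R) + b • Jn R m n hm,
          a • (1 : Matrix (Fin n) (Fin n) R) + b • (-Jn R m n hm), hWW',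
          mul_eq_one_comm.mp hWW'⟩
      refine ⟨w, a - b, ?_, ?_, ?_⟩
      · change LamInv.transpose lam (Fin n) hlam
          (a • (1 : Matrix (Fin n) (Fin n) R) + b • Jn R m n hm) =
            (a - b) • (a • (1 : Matrix (Fin n) (Fin n) R) + b • Jn R m n hm)
        rw [(LamInv.transpose lam (Fin n) hlam).map_add,
          (LamInv.transpose lam (Fin n) hlam).map_smul,
          (LamInv.transpose lam (Fin n) hlam).map_smul,
          (LamInv.transpose lam (Fin n) hlam).map_one, lamTr_Jn S R lam hlam n m hm, hla, hlb,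
          smul_add, smul_smul, smul_smul, sub_mul, sub_mul, haa, hba, hab, hbb, sub_zero,
          zero_sub, neg_smul, smul_neg]
      · rw [map_sub, hla, hlb]
        have : (a - b) * (a - b) = a * a - a * b - b * a + b * b := by ring
        rw [this, haa, hab, hba, hbb, sub_zero, sub_zero, habadd]
      · apply locIsoEt_conj S R lam hlam A n hn hA t
        exact hcov
    · exact hneutral (Or.inr hodd)
  · exact hneutral (Or.inl hq)

end main

end Groth.Agent.Lib.Helper15.FRInv10
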