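import Mathlib
import Groth.Prelude.Def_AzInv
import Groth.Prelude.Def_W4c2azumayainvolQEt
import Groth.Agent.Lib.Helper15.FRInv9
import Groth.Agent.Lib.Helper15.AzumayaTensor

/-!
# Isomorphisms of algebras with involution after base change: base change, products, gluing
-/

set_option autoImplicit false
set_option linter.style.haveILetI false
universe u v w w'

open scoped TensorProduct

namespace Groth.Agent.Lib.Helper15.FRInvIso

open Groth.Agent.Lib.Helper15.FRDescent Groth.Agent.Lib.Helper15.FRInv2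
  Groth.Agent.Lib.Helper15.FRInv3 Groth.Agent.Lib.Helper15.FRInv9
  Groth.Agent.Lib.Helper15.Azumaya AzInv

section defs

variable (S : Type u) {R : Type v} [CommRing S] [CommRing R] [Algebra S R] (lam : R ≃ₐ[S] R)
  {A : Type w} [Ring A] [Algebra S A] [Algebra R A] [IsScalarTower S R A]
  {A' : Type w'} [Ring A'] [Algebra S A'] [Algebra R A'] [IsScalarTower S R A']
  (t : AzInv.LamInv R A lam) (t' : AzInv.LamInv R A' lam)

/-- the two algebras with involution become isomorphic over `T` -/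
def IsoProp (T : Type u) [CommRing T] [Algebra S T] : Prop :=
  ∃ f : T ⊗[S] A ≃ₐ[T] T ⊗[S] A',
    (∀ (r : R) (x : T ⊗[S] A),
      f (((1 : T) ⊗ₜ[S] algebraMap R A r) * x) = ((1 : T) ⊗ₜ[S] algebraMap R A' r) * f x) ∧
    ∀ x : T ⊗[S] A, f (t.bc S lam T x) = t'.bc S lam T (f x)

variable {S lam t t'}

theorem IsoProp.symm {T : Type u} [CommRing T] [Algebra S T] (h : IsoProp S lam t t' T) :
    IsoProp S lam t' t T := by
  obtain ⟨f, hf1, hf2⟩ := h
  refine ⟨f.symm, fun r x => ?_, fun x => ?_⟩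
  · rw [AlgEquiv.symm_apply_eq, hf1, AlgEquiv.apply_symm_apply]
  · rw [AlgEquiv.symm_apply_eq, hf2, AlgEquiv.apply_symm_apply]

/-- base change of an isomorphism -/
theorem IsoProp.baseChange {T T' : Type u} [CommRing T] [Algebra S T] [CommRing T']
    [Algebra S T'] (a : T →ₐ[S] T') (h : IsoProp S lam t t' T) : IsoProp S lam t t' T' := by
  obtain ⟨f, hf1, hf2⟩ := h
  letI : Algebra T T' := a.toRingHom.toAlgebra
  haveI : IsScalarTower S T T' := IsScalarTower.of_algebraMap_eq (fun s => (a.commutes s).symm)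
  let cA : T' ⊗[T] (T ⊗[S] A) ≃ₐ[T'] T' ⊗[S] A := cancelBaseChangeRing S T A T' T'
  let cA' : T' ⊗[T] (T ⊗[S] A') ≃ₐ[T'] T' ⊗[S] A' := cancelBaseChangeRing S T A' T' T'
  have hcA : ∀ (x' : T') (x : T) (u : A), cA (x' ⊗ₜ[T] (x ⊗ₜ[S] u)) = (x • x') ⊗ₜ[S] u :=
    fun x' x u => TensorProduct.AlgebraTensorModule.cancelBaseChange_tmul S T T' x' u x
  have hcA' : ∀ (x' : T') (x : T) (u : A'), cA' (x' ⊗ₜ[T] (x ⊗ₜ[S] u)) = (x • x') ⊗ₜ[S] u :=
    fun x' x u => TensorProduct.AlgebraTensorModule.cancelBaseChange_tmul S T T' x' u x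
  let g : T' ⊗[T] (T ⊗[S] A) ≃ₐ[T'] T' ⊗[T] (T ⊗[S] A') :=
    Algebra.TensorProduct.congr (AlgEquiv.refl : T' ≃ₐ[T'] T') f
  have hg : ∀ (x' : T') (w : T ⊗[S] A), g (x' ⊗ₜ[T] w) = x' ⊗ₜ[T] f w := fun x' w => by
    simp [g]
  refine ⟨cA.symm.trans (g.trans cA'), fun r y => ?_, fun y => ?_⟩
  · change cA' (g (cA.symm (((1 : T') ⊗ₜ[S] algebraMap R A r) * y))) =
      ((1 : T') ⊗ₜ[S] algebraMap R A' r) * cA' (g (cA.symm y))
    have h1 : cA.symm ((1 : T') ⊗ₜ[S] algebraMap R A r) =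
        (1 : T') ⊗ₜ[T] ((1 : T) ⊗ₜ[S] algebraMap R A r) := by
      rw [AlgEquiv.symm_apply_eq, hcA, one_smul]
    have h2 : f ((1 : T) ⊗ₜ[S] algebraMap R A r) = (1 : T) ⊗ₜ[S] algebraMap R A' r := by
      have := hf1 r 1
      rwa [mul_one, map_one, mul_one] at this
    rw [map_mul, h1, map_mul, hg, h2, map_mul, hcA', one_smul]
  · change cA' (g (cA.symm (t.bc S lam T' y))) = t'.bc S lam T' (cA' (g (cA.symm y)))
    obtain ⟨z, rfl⟩ := cA.surjective y
    rw [AlgEquiv.symm_apply_apply]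
    induction z using TensorProduct.induction_on with
    | zero => simp
    | tmul x' w =>
      have key : ∀ w : T ⊗[S] A, cA.symm (t.bc S lam T' (cA (x' ⊗ₜ[T] w))) =
          x' ⊗ₜ[T] t.bc S lam T w := by
        intro w
        induction w using TensorProduct.induction_on with
        | zero => simp
        | tmul x u =>
          rw [hcA, LamInv.bc_tmul, LamInv.bc_tmul, AlgEquiv.symm_apply_eq, hcA]
        | add w₁ w₂ h₁ h₂ =>
          rw [TensorProduct.tmul_add, map_add, map_add, map_add, h₁, h₂, map_add,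
            TensorProduct.tmul_add]
      have key' : ∀ w' : T ⊗[S] A', t'.bc S lam T' (cA' (x' ⊗ₜ[T] w')) =
          cA' (x' ⊗ₜ[T] t'.bc S lam T w') := by
        intro w'
        induction w' using TensorProduct.induction_on with
        | zero => simp
        | tmul x u => rw [hcA', LamInv.bc_tmul, LamInv.bc_tmul, hcA']
        | add w₁ w₂ h₁ h₂ =>
          rw [TensorProduct.tmul_add, map_add, map_add, h₁, h₂, map_add, TensorProduct.tmul_add,
            map_add]
      rw [key, hg, hg, hf2, key']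
    | add z₁ z₂ h₁ h₂ =>
      simp only [map_add] at h₁ h₂ ⊢
      rw [h₁, h₂]

/-- finite products of isomorphisms -/
theorem IsoProp.pi {ι : Type u} [Fintype ι] [DecidableEq ι] (T : ι → Type u)
    [∀ i, CommRing (T i)] [∀ i, Algebra S (T i)] (h : ∀ i, IsoProp S lam t t' (T i)) :
    IsoProp S lam t t' (Π i, T i) := by
  choose f hf1 hf2 using h
  let pA := AzInvInner.piTensor (S := S) (A := A) T
  let pA' := AzInvInner.piTensor (S := S) (A := A') T
  let F₀ : (Π i, T i) ⊗[S] A ≃+* (Π i, T i) ⊗[S] A' :=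
    (pA.toRingEquiv.trans (RingEquiv.piCongrRight fun i => (f i).toRingEquiv)).trans
      pA'.symm.toRingEquiv
  have hF₀ : ∀ (y : (Π i, T i) ⊗[S] A) (i : ι), pA' (F₀ y) i = f i (pA y i) := by
    intro y i
    change pA' (pA'.symm _) i = _
    rw [AlgEquiv.apply_symm_apply]
    rfl
  let F : (Π i, T i) ⊗[S] A ≃ₐ[Π i, T i] (Π i, T i) ⊗[S] A' :=
    AlgEquiv.ofRingEquiv (f := F₀) (fun c => by
      apply pA'.injective
      funext i
      rw [hF₀]
      change f i (pA (c ⊗ₜ[S] (1 : A)) i) = pA' (c ⊗ₜ[S] (1 : A')) i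
      rw [AzInvInner.piTensor_tmul, AzInvInner.piTensor_tmul]
      exact (f i).commutes (c i))
  have hF : ∀ (y : (Π i, T i) ⊗[S] A) (i : ι), pA' (F y) i = f i (pA y i) := hF₀
  refine ⟨F, fun r y => ?_, fun y => ?_⟩
  · apply pA'.injective
    funext i
    rw [hF, map_mul, map_mul, Pi.mul_apply, Pi.mul_apply, AzInvInner.piTensor_tmul,
      AzInvInner.piTensor_tmul, hF]
    exact hf1 i r _
  · apply pA'.injective
    funext i
    have h1 : pA (t.bc S lam (Π i, T i) y) i = t.bc S lam (T i) (pA y i) :=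
      AzInvInner.piTensor_baseChange T (t.linS S lam) y i
    have h2 : pA' (t'.bc S lam (Π i, T i) (F y)) i = t'.bc S lam (T i) (pA' (F y) i) :=
      AzInvInner.piTensor_baseChange T (t'.linS S lam) (F y) i
    rw [hF, h1, h2, hF]
    exact hf2 i _

end defs

section glue

variable (S : Type u) (R : Type v) [CommRing S] [CommRing R] [Algebra S R]
  (lam : R ≃ₐ[S] R) (hlam : ∀ r, lam (lam r) = r)
  (A : Type w) [Ring A] [Algebra S A] [Algebra R A] [IsScalarTower S R A]
  (A' : Type w') [Ring A'] [Algebra S A'] [Algebra R A'] [IsScalarTower S R A']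
  (n : ℕ) (hn : 0 < n) (hA : AzInv.IsAzumayaDeg R A n) (hA' : AzInv.IsAzumayaDeg R A' n)
  (t : AzInv.LamInv R A lam) (t' : AzInv.LamInv R A' lam)

include hlam hn hA hA' in
/-- if at every point both algebras have adapted matrix units for the same constants, they are
locally isomorphic -/
theorem locIsoEt_of_forall_loc
    (h : ∀ p : PrimeSpectrum S, ∃ κ : Fin n → Fin n → Fin n → Fin n → R,
      Loc S lam t κ p ∧ Loc S lam t' κ p) : AzInv.LocIsoEt S lam t t' := by
  have key : ∃ (S' : Type u) (_ : CommRing S') (_ : Algebra S S') (_ : Algebra.Etale S S')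
      (_ : Module.FaithfullyFlat S S'), IsoProp S lam t t' S' := by
    apply Groth.Agent.Lib.Helper15.FKLocal.exists_cover_of_points
      (fun (T : Type u) [CommRing T] [Algebra S T] => IsoProp S lam t t' T)
    · intro p
      obtain ⟨κ, ⟨E₁, _, _, _, hK₁, q₁, hq₁⟩, ⟨E₂, _, _, _, hK₂, q₂, hq₂⟩⟩ := h p
      haveI : Algebra.Etale S (E₁ ⊗[S] E₂) := Algebra.Etale.comp S E₁ (E₁ ⊗[S] E₂)
      refine ⟨E₁ ⊗[S] E₂, inferInstance, inferInstance, inferInstance, ?_, ?_⟩
      · have h1 := hK₁.baseChange (Algebra.TensorProduct.includeLeft : E₁ →ₐ[S] E₁ ⊗[S] E₂)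
        have h2 := hK₂.baseChange (Algebra.TensorProduct.includeRight : E₂ →ₐ[S] E₁ ⊗[S] E₂)
        obtain ⟨f, hf1, hf2⟩ := exists_iso_of_kunits S R lam hlam A n hn hA t κ A' hA' t'
          (E₁ ⊗[S] E₂) h1 h2
        exact ⟨f, hf1, hf2⟩
      · have hq₁' : q₁.asIdeal.comap (algebraMap S E₁) = p.asIdeal :=
          congrArg PrimeSpectrum.asIdeal hq₁
        have hq₂' : q₂.asIdeal.comap (algebraMap S E₂) = p.asIdeal :=
          congrArg PrimeSpectrum.asIdeal hq₂
        obtain ⟨r, hr, hr1, -⟩ := Groth.Agent.Lib.Helper3.TensorPrime.exists_prime_tensor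
          (R := S) (S := E₁) (T := E₂) q₁.asIdeal q₂.asIdeal (by rw [hq₁', hq₂'])
        refine ⟨⟨r, hr⟩, ?_⟩
        apply PrimeSpectrum.ext
        change r.comap (algebraMap S (E₁ ⊗[S] E₂)) = p.asIdeal
        rw [← hq₁', ← hr1, Ideal.comap_comap]
        rfl
    · intro ι _ _ T _ _ h
      exact IsoProp.pi T h
  obtain ⟨S', i1, i2, i3, i4, f, hf1, hf2⟩ := key
  exact ⟨S', i1, i2, i3, i4, f, hf1, hf2⟩

end glue

end Groth.Agent.Lib.Helper15.FRInvIso
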