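import Mathlib
import Groth.Prelude.Def_AzInv
import Groth.Prelude.Def_W4c2azumayainvolQEt
import Groth.Agent.Lib.Helper15.FRInv4
import Groth.Agent.Lib.Helper15.AzumayaTensor

/-!
# Matrix algebras over an algebra with involution: degree and adapted matrix units
-/

set_option autoImplicit false
set_option linter.style.haveILetI false
universe u v w

open scoped TensorProduct

namespace Groth.Agent.Lib.Helper15.FRInvMat

open Groth.Agent.Lib.Helper15.FRDescent Groth.Agent.Lib.Helper15.FRInv1
  Groth.Agent.Lib.Helper15.FRInv2 Groth.Agent.Lib.Helper15.FRInv4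
  Groth.Agent.Lib.Helper15.Azumaya AzInv

section degree

variable (R : Type v) [CommRing R] (A : Type w) [Ring A] [Algebra R A] (n : ℕ)

/-- `Mₘ(A)` is Azumaya of degree `m n` -/
theorem isAzumayaDeg_matrixAlg (hA : AzInv.IsAzumayaDeg R A n) (m : ℕ) (hm : 0 < m) :
    AzInv.IsAzumayaDeg R (Matrix (Fin m) (Fin m) A) (m * n) := by
  haveI := hA.1
  haveI : Nonempty (Fin m) := Fin.pos_iff_nonempty.mp hm
  haveI : IsAzumaya R (Matrix (Fin m) (Fin m) R) := IsAzumaya.matrix R (Fin m)
  haveI : IsAzumaya R (A ⊗[R] Matrix (Fin m) (Fin m) R) := isAzumaya_tensorProduct R A _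
  let e : Matrix (Fin m) (Fin m) A ≃ₐ[R] A ⊗[R] Matrix (Fin m) (Fin m) R :=
    matrixEquivTensor (Fin m) R A
  refine ⟨IsAzumaya.of_AlgEquiv R _ _ e.symm, fun p => ?_⟩
  haveI : Nontrivial R := by
    by_contra h
    rw [not_nontrivial_iff_subsingleton] at h
    exact p.isPrime.ne_top (Subsingleton.elim _ _)
  rw [Module.rankAtStalk_eq_of_equiv e.toLinearEquiv, Module.rankAtStalk_tensorProduct,
    Pi.mul_apply, hA.2, Module.rankAtStalk_eq_finrank_of_free, Pi.natCast_def,
    Module.finrank_matrix]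
  simp only [Fintype.card_fin, Module.finrank_self, mul_one, Nat.cast_id]
  ring

end degree

section blockG

variable {R : Type*} [CommRing R] {m n N : ℕ} (e : Fin n × Fin m ≃ Fin N)

/-- the block diagonal Gram matrix `1ₘ ⊗ G`, with indices transported along `e` -/
def blockG (G : Matrix (Fin n) (Fin n) R) : Matrix (Fin N) (Fin N) R :=
  (Matrix.blockDiagonal fun _ : Fin m => G).submatrix e.symm e.symm

theorem blockG_apply (G : Matrix (Fin n) (Fin n) R) (i j : Fin n) (a b : Fin m) :
    blockG e G (e (i, a)) (e (j, b)) = if a = b then G i j else 0 := by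
  rw [blockG, Matrix.submatrix_apply, e.symm_apply_apply, e.symm_apply_apply,
    Matrix.blockDiagonal_apply]

theorem blockG_mul (G G' : Matrix (Fin n) (Fin n) R) :
    blockG e (G * G') = blockG e G * blockG e G' := by
  rw [blockG, blockG, blockG, Matrix.submatrix_mul_equiv, ← Matrix.blockDiagonal_mul]

theorem blockG_one : blockG e (1 : Matrix (Fin n) (Fin n) R) = 1 := by
  rw [blockG]
  have h2 : (Matrix.blockDiagonal fun _ : Fin m => (1 : Matrix (Fin n) (Fin n) R)) = 1 :=
    Matrix.blockDiagonal_one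
  rw [h2, Matrix.submatrix_one_equiv]

theorem blockG_neg (G : Matrix (Fin n) (Fin n) R) : blockG e (-G) = -blockG e G := by
  ext x y
  obtain ⟨⟨i, a⟩, rfl⟩ := e.surjective x
  obtain ⟨⟨j, b⟩, rfl⟩ := e.surjective y
  rw [Matrix.neg_apply, blockG_apply, blockG_apply]
  split_ifs <;> simp

theorem blockG_lamTr {F : Type*} [FunLike F R R] [RingHomClass F R R] (lam : F)
    (hlam : ∀ r, lam (lam r) = r) (G : Matrix (Fin n) (Fin n) R) :
    LamInv.transpose lam (Fin N) hlam (blockG e G) =
      blockG e (LamInv.transpose lam (Fin n) hlam G) := by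
  ext x y
  obtain ⟨⟨i, a⟩, rfl⟩ := e.surjective x
  obtain ⟨⟨j, b⟩, rfl⟩ := e.surjective y
  rw [LamInv.transpose_apply, blockG_apply, blockG_apply, LamInv.transpose_apply]
  by_cases hab : a = b
  · rw [if_pos hab, if_pos hab.symm]
  · rw [if_neg hab, if_neg (Ne.symm hab), map_zero]

end blockG

section units

variable {S : Type u} {R : Type v} [CommRing S] [CommRing R] [Algebra S R] {lam : R ≃ₐ[S] R}
  {A : Type w} [Ring A] [Algebra S A] [Algebra R A] [IsScalarTower S R A]
  (t : AzInv.LamInv R A lam) {n : ℕ}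

theorem isUnits_single' (m : ℕ) :
    IsUnits m (fun a b => (Matrix.single a b (1 : A) : Matrix (Fin m) (Fin m) A)) := by
  classical
  refine ⟨fun i j k l => ?_, ?_⟩
  · by_cases h : j = k
    · subst h
      rw [if_pos rfl, Matrix.single_mul_single_same, mul_one]
    · rw [if_neg h, Matrix.single_mul_single_of_ne _ _ _ _ h]
  · ext a b
    rw [Matrix.sum_apply, Matrix.one_apply]
    simp only [Matrix.single_apply]
    by_cases hab : a = b
    · subst hab
      simp
    · rw [if_neg hab]
      apply Finset.sum_eq_zero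
      intro i _
      rw [if_neg]
      rintro ⟨rfl, rfl⟩
      exact hab rfl

/-- adapted matrix units of `T ⊗ A` give adapted matrix units of `T ⊗ Mₘ(A)` -/
theorem hasKUnits_matrixAlg (m : ℕ) {N : ℕ} (e : Fin n × Fin m ≃ Fin N)
    (G G' : Matrix (Fin n) (Fin n) R) (T : Type u) [CommRing T] [Algebra S T]
    (h : HasKUnits S lam t (kap G G') T) :
    HasKUnits S lam (t.matrix (Fin m)) (kap (blockG e G) (blockG e G')) T := by
  classical
  obtain ⟨e₀, he₀, hrel⟩ := h
  -- the diagonal embedding
  let φ : T ⊗[S] A →ₐ[S] T ⊗[S] Matrix (Fin m) (Fin m) A :=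
    Algebra.TensorProduct.map (AlgHom.id S T) (Matrix.scalarAlgHom (Fin m) S)
  have hφ : ∀ (x : T) (u : A), φ (x ⊗ₜ u) = x ⊗ₜ Matrix.scalar (Fin m) u := fun x u => by
    simp [φ]
  let ε : Fin m → Fin m → T ⊗[S] Matrix (Fin m) (Fin m) A :=
    fun a b => (1 : T) ⊗ₜ[S] (Matrix.single a b (1 : A) : Matrix (Fin m) (Fin m) A)
  have hε : IsUnits m ε := (isUnits_single' (A := A) m).map
    (Algebra.TensorProduct.includeRight : Matrix (Fin m) (Fin m) A →ₐ[S]
      T ⊗[S] Matrix (Fin m) (Fin m) A)
  -- single matrices commute with scalar matrices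
  have hss : ∀ (a b : Fin m) (u : A),
      (Matrix.single a b (1 : A) : Matrix (Fin m) (Fin m) A) * Matrix.scalar (Fin m) u =
        Matrix.scalar (Fin m) u * Matrix.single a b (1 : A) := by
    intro a b u
    ext i j
    rw [Matrix.scalar_apply, Matrix.mul_diagonal, Matrix.diagonal_mul, Matrix.single_apply]
    split_ifs <;> simp
  have hcomm : ∀ (a b : Fin m) (x : T ⊗[S] A), ε a b * φ x = φ x * ε a b := by
    intro a b x
    induction x using TensorProduct.induction_on with
    | zero => simp
    | tmul s u =>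
      rw [hφ, Algebra.TensorProduct.tmul_mul_tmul, Algebra.TensorProduct.tmul_mul_tmul, hss,
        mul_comm]
    | add x y hx hy => rw [map_add, mul_add, add_mul, hx, hy]
  have hF3 : ∀ x : T ⊗[S] A, (t.matrix (Fin m)).bc S lam T (φ x) = φ (t.bc S lam T x) := by
    intro x
    induction x using TensorProduct.induction_on with
    | zero => simp
    | tmul s u =>
      rw [hφ, LamInv.bc_tmul, LamInv.bc_tmul, hφ]
      congr 1
      ext i j
      rw [LamInv.matrix_apply, Matrix.scalar_apply, Matrix.scalar_apply, Matrix.diagonal_apply,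
        Matrix.diagonal_apply]
      by_cases hij : i = j
      · rw [if_pos hij, if_pos hij.symm]
      · rw [if_neg hij, if_neg (Ne.symm hij), t.map_zero]
    | add x y hx hy => rw [map_add, map_add, hx, hy, map_add, map_add]
  have hF4 : ∀ a b, (t.matrix (Fin m)).bc S lam T (ε a b) = ε b a := by
    intro a b
    change (t.matrix (Fin m)).bc S lam T ((1 : T) ⊗ₜ[S] _) = (1 : T) ⊗ₜ[S] _
    rw [LamInv.bc_tmul]
    congr 1
    ext i j
    rw [LamInv.matrix_apply, Matrix.single_apply, Matrix.single_apply]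
    by_cases hh : a = j ∧ b = i
    · rw [if_pos hh, if_pos ⟨hh.2, hh.1⟩, t.map_one]
    · rw [if_neg hh, if_neg (fun h' => hh ⟨h'.2, h'.1⟩), t.map_zero]
  have hF5 : ∀ r : R, ((1 : T) ⊗ₜ[S] algebraMap R (Matrix (Fin m) (Fin m) A) r :
      T ⊗[S] Matrix (Fin m) (Fin m) A) = φ ((1 : T) ⊗ₜ[S] algebraMap R A r) := by
    intro r
    rw [hφ]
    rfl
  -- the new units
  let E' : Fin N → Fin N → T ⊗[S] Matrix (Fin m) (Fin m) A := fun x y =>
    ε (e.symm x).2 (e.symm y).2 * φ (e₀ (e.symm x).1 (e.symm y).1)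
  have hE' : ∀ (i j : Fin n) (a b : Fin m), E' (e (i, a)) (e (j, b)) = ε a b * φ (e₀ i j) := by
    intro i j a b
    simp only [E', e.symm_apply_apply]
  refine ⟨E', ⟨?_, ?_⟩, ?_⟩
  · intro x y z w
    obtain ⟨⟨i, a⟩, rfl⟩ := e.surjective x
    obtain ⟨⟨j, b⟩, rfl⟩ := e.surjective y
    obtain ⟨⟨k, c⟩, rfl⟩ := e.surjective z
    obtain ⟨⟨l, d⟩, rfl⟩ := e.surjective w
    rw [hE', hE', hE']
    have h1 : ε a b * φ (e₀ i j) * (ε c d * φ (e₀ k l)) =
        (ε a b * ε c d) * φ (e₀ i j * e₀ k l) := by
      rw [map_mul, mul_assoc, ← mul_assoc (φ (e₀ i j)), ← hcomm c d, mul_assoc, ← mul_assoc]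
    rw [h1, hε.1, he₀.1]
    by_cases hjk : j = k
    · by_cases hbc : b = c
      · subst hjk; subst hbc
        rw [if_pos rfl, if_pos rfl, if_pos rfl]
      · rw [if_neg hbc, zero_mul, if_neg]
        intro h
        have := e.injective h
        exact hbc (Prod.ext_iff.mp this).2
    · rw [if_neg hjk, map_zero, mul_zero, if_neg]
      intro h
      have := e.injective h
      exact hjk (Prod.ext_iff.mp this).1
  · rw [← Equiv.sum_comp e, Fintype.sum_prod_type]
    simp only [hE']
    rw [Finset.sum_comm]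
    have h1 : ∀ a : Fin m, ∑ i, ε a a * φ (e₀ i i) = ε a a := by
      intro a
      rw [← Finset.mul_sum, ← map_sum, he₀.2, map_one, mul_one]
    simp only [h1]
    exact hε.2
  · intro x y
    obtain ⟨⟨i, a⟩, rfl⟩ := e.surjective x
    obtain ⟨⟨j, b⟩, rfl⟩ := e.surjective y
    rw [hE', bc_mul, hF3, hF4, hrel, ← hcomm, map_sum, Finset.mul_sum]
    rw [← Equiv.sum_comp e, Fintype.sum_prod_type]
    refine Finset.sum_congr rfl fun k _ => ?_
    rw [Finset.sum_eq_single b]
    · rw [map_sum, Finset.mul_sum, ← Equiv.sum_comp e, Fintype.sum_prod_type]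
      refine Finset.sum_congr rfl fun l _ => ?_
      rw [Finset.sum_eq_single a]
      · rw [hE', map_mul, ← hF5]
        simp only [kap]
        rw [blockG_apply, blockG_apply, if_pos rfl, if_pos rfl, ← mul_assoc, ← mul_assoc]
        congr 1
        rw [hF5, hcomm]
      · intro d _ hd
        simp only [kap]
        rw [blockG_apply e G' i l a d, if_neg (Ne.symm hd), mul_zero, map_zero,
          TensorProduct.tmul_zero, zero_mul]
      · intro h; exact absurd (Finset.mem_univ _) h
    · intro c _ hc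
      rw [← Equiv.sum_comp e, Fintype.sum_prod_type]
      apply Finset.sum_eq_zero
      intro l _
      apply Finset.sum_eq_zero
      intro d _
      simp only [kap]
      rw [blockG_apply e G k j c b, if_neg hc, zero_mul, map_zero, TensorProduct.tmul_zero,
        zero_mul]
    · intro h; exact absurd (Finset.mem_univ _) h

end units

end Groth.Agent.Lib.Helper15.FRInvMat
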