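import Mathlib
import Groth.Prelude.Def_AzInv
import Groth.Prelude.Def_W4c2azumayainvolQEt
import Groth.Agent.Lib.Helper15.FRInvIso
import Groth.Agent.Lib.Helper15.FRInvMat
import Groth.Agent.Lib.Helper15.FRInv6

/-!
# Involutions of the same type on algebras of the same degree are locally isomorphic (`S17352`)
-/

set_option autoImplicit false
set_option linter.style.haveILetI false
universe u v w w'

open scoped TensorProduct
open IsLocalRing

namespace Groth.Agent.Lib.Helper15.FRInv11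

open Groth.Agent.Lib.Helper15.FRDescent Groth.Agent.Lib.Helper15.FRTheta
  Groth.Agent.Lib.Helper15.FRInv1 Groth.Agent.Lib.Helper15.FRInv2
  Groth.Agent.Lib.Helper15.FRInv3 Groth.Agent.Lib.Helper15.FRInv4
  Groth.Agent.Lib.Helper15.FRInv5 Groth.Agent.Lib.Helper15.FRInv6
  Groth.Agent.Lib.Helper15.FRInv7 Groth.Agent.Lib.Helper15.FRInv8
  Groth.Agent.Lib.Helper15.FRInv9 Groth.Agent.Lib.Helper15.FRInvSkew
  Groth.Agent.Lib.Helper15.FRInvIso Groth.Agent.Lib.Helper15.FRInvMat AzInv

attribute [local instance] Algebra.TensorProduct.rightAlgebra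

section rank

variable (S : Type u) (R : Type v) [CommRing S] [CommRing R] [Algebra S R]
  (lam : R ≃ₐ[S] R) (hlam : ∀ r, lam (lam r) = r)
  (A : Type w) [Ring A] [Algebra S A] [Algebra R A] [IsScalarTower S R A]
  (A' : Type w') [Ring A'] [Algebra S A'] [Algebra R A'] [IsScalarTower S R A']
  (t : AzInv.LamInv R A lam) (t' : AzInv.LamInv R A' lam)

/-- an isomorphism compatible with `R` is compatible with `T ⊗ R` -/
theorem iso_iota (T : Type u) [CommRing T] [Algebra S T] (f : T ⊗[S] A ≃ₐ[T] T ⊗[S] A')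
    (hf1 : ∀ (r : R) (x : T ⊗[S] A),
      f (((1 : T) ⊗ₜ[S] algebraMap R A r) * x) = ((1 : T) ⊗ₜ[S] algebraMap R A' r) * f x)
    (c : T ⊗[S] R) (x : T ⊗[S] A) : f (iota S R A T c * x) = iota S R A' T c * f x := by
  induction c using TensorProduct.induction_on with
  | zero => simp
  | tmul h r =>
    have h1 : iota S R A T (h ⊗ₜ[S] r) = h • ((1 : T) ⊗ₜ[S] algebraMap R A r) := by
      rw [iota_tmul, TensorProduct.smul_tmul', smul_eq_mul, mul_one]
    have h1' : iota S R A' T (h ⊗ₜ[S] r) = h • ((1 : T) ⊗ₜ[S] algebraMap R A' r) := by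
      rw [iota_tmul, TensorProduct.smul_tmul', smul_eq_mul, mul_one]
    rw [h1, h1', smul_mul_assoc, map_smul, hf1, smul_mul_assoc]
  | add c d hc hd => rw [map_add, add_mul, map_add, hc, hd, map_add, add_mul]

include hlam in
/-- isomorphic algebras with adapted units have the same degree -/
theorem degree_eq_of_iso (T : Type u) [CommRing T] [Algebra S T] [Nontrivial (T ⊗[S] R)]
    (N N' : ℕ) (hN : 0 < N) (hN' : 0 < N')
    (hA : AzInv.IsAzumayaDeg R A N) (hA' : AzInv.IsAzumayaDeg R A' N')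
    (κ : Fin N → Fin N → Fin N → Fin N → R) (κ' : Fin N' → Fin N' → Fin N' → Fin N' → R)
    (h : HasKUnits S lam t κ T) (h' : HasKUnits S lam t' κ' T)
    (hiso : IsoProp S lam t t' T) : N = N' := by
  obtain ⟨f, hf1, -⟩ := hiso
  obtain ⟨F, hF, -⟩ := exists_split_formula S R lam hlam A N hN hA t κ T h
  obtain ⟨F', hF', -⟩ := exists_split_formula S R lam hlam A' N' hN' hA' t' κ' T h'
  have hfι := iso_iota S R A A' T f hf1
  have hFsymm : ∀ (c : T ⊗[S] R) (X : Matrix (Fin N) (Fin N) (T ⊗[S] R)),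
      F.symm (c • X) = iota S R A T c * F.symm X := by
    intro c X
    rw [AlgEquiv.symm_apply_eq, hF, AlgEquiv.apply_symm_apply]
  let ψ : Matrix (Fin N) (Fin N) (T ⊗[S] R) ≃ₗ[T ⊗[S] R] Matrix (Fin N') (Fin N') (T ⊗[S] R) :=
    { toFun := fun X => F' (f (F.symm X))
      invFun := fun Y => F (f.symm (F'.symm Y))
      map_add' := fun X Y => by rw [map_add, map_add, map_add]
      map_smul' := fun c X => by rw [hFsymm, hfι, hF', RingHom.id_apply]
      left_inv := fun X => by
        simp only [AlgEquiv.symm_apply_apply, AlgEquiv.apply_symm_apply]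
      right_inv := fun Y => by
        simp only [AlgEquiv.symm_apply_apply, AlgEquiv.apply_symm_apply] }
  have h1 := ψ.finrank_eq
  rw [Module.finrank_matrix, Module.finrank_matrix] at h1
  simp only [Fintype.card_fin, Module.finrank_self, mul_one] at h1
  exact Nat.mul_self_inj.mp h1

end rank

section mixed

variable (S : Type u) (R : Type v) [CommRing S] [CommRing R] [Algebra S R]
  (lam : R ≃ₐ[S] R) (hlam : ∀ r, lam (lam r) = r) (hfix : RInv.IsFixedRing S R lam.toRingEquiv)
  (A : Type w) [Ring A] [Algebra S A] [Algebra R A] [IsScalarTower S R A]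
  (A' : Type w') [Ring A'] [Algebra S A'] [Algebra R A'] [IsScalarTower S R A']
  (n : ℕ) (hn : 0 < n) (hA : AzInv.IsAzumayaDeg R A n) (hA' : AzInv.IsAzumayaDeg R A' n)
  (t : AzInv.LamInv R A lam) (t' : AzInv.LamInv R A' lam)

include hlam hfix hn hA hA' in
/-- at a ramified point an orthogonal and a symplectic involution do not have the same type -/
theorem mixed_false (H : Type u) [CommRing H] [Algebra S H] [IsLocalRing H] [Module.Flat S H]
    (hid : ∀ c : H ⊗[S] R, lamT S lam H c - c ∈ Ring.jacobson (H ⊗[S] R)) (h2 : IsUnit (2 : H))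
    (m : ℕ) (hm : n = 2 * m)
    (hp : HasKUnits S lam t (kap (1 : Matrix (Fin n) (Fin n) R) 1) H)
    (hm' : HasKUnits S lam t' (kap (Jn R m n hm) (-Jn R m n hm)) H)
    (k k' : ℕ) (hk : 0 < k) (hk' : 0 < k')
    (hiso : IsoProp S lam (t.matrix (Fin k)) (t'.matrix (Fin k')) H) : False := by
  classical
  have hfixH := isFixedRing_lamT S R lam hlam hfix H
  haveI : Nontrivial (H ⊗[S] R) := hfixH.1.nontrivial
  let e : ∀ k : ℕ, Fin n × Fin k ≃ Fin (k * n) := fun k =>
    finProdFinEquiv.trans (finCongr (Nat.mul_comm n k))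
  have hU := hasKUnits_matrixAlg t k (e k) 1 1 H hp
  have hU' := hasKUnits_matrixAlg t' k' (e k') (Jn R m n hm) (-Jn R m n hm) H hm'
  have hAk := isAzumayaDeg_matrixAlg R A n hA k hk
  have hAk' := isAzumayaDeg_matrixAlg R A' n hA' k' hk'
  have hkk : k * n = k' * n := degree_eq_of_iso S R lam hlam _ _ (t.matrix (Fin k))
    (t'.matrix (Fin k')) H (k * n) (k' * n) (Nat.mul_pos hk hn) (Nat.mul_pos hk' hn) hAk hAk'
    _ _ hU hU' hiso
  obtain rfl : k = k' := Nat.eq_of_mul_eq_mul_right hn hkk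
  obtain ⟨f, hf1, hf2⟩ := hiso
  refine no_iso_of_kunits S R lam hlam hfix _ _ (k * n) (Nat.mul_pos hk hn) hAk hAk'
    (t.matrix (Fin k)) (t'.matrix (Fin k)) H hid h2
    (blockG (e k) 1) (blockG (e k) 1) (blockG (e k) (Jn R m n hm)) (blockG (e k) (-Jn R m n hm))
    (by rw [← blockG_mul, one_mul, blockG_one])
    (by rw [← blockG_mul, Jn_mul_neg, blockG_one])
    (by rw [blockG_lamTr, (LamInv.transpose lam (Fin n) hlam).map_one])
    (by rw [blockG_lamTr, lamTr_Jn S R lam hlam n m hm, blockG_neg])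
    hU hU' f hf1 hf2

end mixed

section main

variable (S : Type u) (R : Type v) [CommRing S] [CommRing R] [Algebra S R]
  (lam : R ≃ₐ[S] R) (hlam : ∀ r, lam (lam r) = r) (hfix : RInv.IsFixedRing S R lam.toRingEquiv)
  (hsq : ∀ (S₁ : Type u) [CommRing S₁] [Algebra S S₁] [Algebra.Etale S S₁] (x : S₁ˣ),
      ∃ (S₂ : Type u) (_ : CommRing S₂) (_ : Algebra S₁ S₂) (_ : Algebra.Etale S₁ S₂)
        (_ : Module.FaithfullyFlat S₁ S₂) (y : S₂), y * y = algebraMap S₁ S₂ ↑x)
  (n : ℕ) (hn : 0 < n) (hcond : IsUnit (2 : S) ∨ RInv.IsQuadEtale S R ∨ Odd n)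
  (A : Type w) [Ring A] [Algebra S A] [Algebra R A] [IsScalarTower S R A]
  (A' : Type w') [Ring A'] [Algebra S A'] [Algebra R A'] [IsScalarTower S R A']
  (hA : AzInv.IsAzumayaDeg R A n) (hA' : AzInv.IsAzumayaDeg R A' n)
  (t : AzInv.LamInv R A lam) (t' : AzInv.LamInv R A' lam)

/-- the isomorphism given by `SameType`, transported to a strictly henselian point -/
theorem isoProp_of_sameType (h : AzInv.SameType S lam t t') (H : Type u) [CommRing H]
    [Algebra S H] [HenselianLocalRing H] [IsSepClosed (ResidueField H)] :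
    ∃ k k' : ℕ, 0 < k ∧ 0 < k' ∧ IsoProp S lam (t.matrix (Fin k)) (t'.matrix (Fin k')) H := by
  obtain ⟨k, k', hk, hk', S'', _, _, _, _, f, hf1, hf2⟩ := h
  obtain ⟨β₂, hβ₂⟩ := exists_section_etale H S (algebraMap S H) S''
  let φ : S'' →ₐ[S] H :=
    { toRingHom := β₂
      commutes' := fun s => congrArg (fun g => g s) hβ₂ }
  exact ⟨k, k', hk, hk', IsoProp.baseChange φ ⟨f, hf1, hf2⟩⟩

include hlam hfix hsq hn hcond hA hA' in
/-- `S17352` -/
theorem locIsoEt_of_sameType (h : AzInv.SameType S lam t t') : AzInv.LocIsoEt S lam t t' := by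
  classical
  apply locIsoEt_of_forall_loc S R lam hlam A A' n hn hA hA' t t'
  intro p
  have hneutral : (RInv.IsQuadEtale S R ∨ Odd n) →
      ∃ κ : Fin n → Fin n → Fin n → Fin n → R, Loc S lam t κ p ∧ Loc S lam t' κ p := by
    intro hcase
    exact ⟨kap (1 : Matrix (Fin n) (Fin n) R) 1,
      exists_etale_kunits_at S R lam hlam hfix hsq A n hn hA t hcase p,
      exists_etale_kunits_at S R lam hlam hfix hsq A' n hn hA' t' hcase p⟩
  rcases hcond with h2 | hq | hodd
  · obtain ⟨H, _, _, _, _, _, hind, hp⟩ := exists_strictHensel_at S p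
    have hsqH : ∀ x : Hˣ, ∃ y : H, y * y = x := units_sq_of_hsq S hsq H hind
    have h2H : IsUnit (2 : H) := by
      have := h2.map (algebraMap S H)
      rwa [map_ofNat] at this
    obtain ⟨k, k', hk, hk', hiso⟩ := isoProp_of_sameType S R lam A A' t t' h H
    rcases classify_two S R lam hlam hfix A n hn hA t H hsqH h2H with h₁ | ⟨hid, m₁, hm₁, h₁⟩ <;>
    rcases classify_two S R lam hlam hfix A' n hn hA' t' H hsqH h2H with
      h₂ | ⟨hid', m₂, hm₂, h₂⟩
    · exact ⟨_, loc_of_hensel p H hind hp h₁, loc_of_hensel p H hind hp h₂⟩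
    · exact (mixed_false S R lam hlam hfix A A' n hn hA hA' t t' H hid' h2H m₂ hm₂ h₁ h₂ k k'
        hk hk' hiso).elim
    · exact (mixed_false S R lam hlam hfix A' A n hn hA' hA t' t H hid h2H m₁ hm₁ h₂ h₁ k' k
        hk' hk hiso.symm).elim
    · obtain rfl : m₁ = m₂ := by omega
      exact ⟨_, loc_of_hensel p H hind hp h₁, loc_of_hensel p H hind hp h₂⟩
  · exact hneutral (Or.inl hq)
  · exact hneutral (Or.inr hodd)

end main

end Groth.Agent.Lib.Helper15.FRInv11
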