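import Mathlib

/-!
# Primes of a tensor product lying over a compatible pair of primes
-/

set_option autoImplicit false
set_option linter.style.haveILetI false

namespace Groth.Agent.Lib.Helper15.FRPrimeTensor

open TensorProduct

universe u v w

/-- If a prime `P` of `S` contracts to the kernel of `R → Ω` (`Ω` a field), then
`S ⊗[R] Ω ≠ 0` (typeclass form). -/
theorem nontrivial_tensor {R : Type u} {S : Type v} {Ω : Type w} [CommRing R] [CommRing S] [Field Ω]
    [Algebra R S] [Algebra R Ω] (P : Ideal S) [P.IsPrime]
    (h : P.comap (algebraMap R S) = RingHom.ker (algebraMap R Ω)) :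
    Nontrivial (S ⊗[R] Ω) := by
  let g : R →+* S := algebraMap R S
  let φ : R →+* Ω := algebraMap R Ω
  letI : Algebra (P.comap g).ResidueField P.ResidueField :=
    (Ideal.ResidueField.map (P.comap g) P g rfl).toAlgebra
  have hunits : (P.comap g).primeCompl ≤ (IsUnit.submonoid Ω).comap φ := by
    intro r hr
    change IsUnit (φ r)
    rw [isUnit_iff_ne_zero]
    intro h0
    apply hr
    change r ∈ P.comap g
    rw [h]
    exact h0
  letI : Algebra (P.comap g).ResidueField Ω :=
    (Ideal.ResidueField.lift (P.comap g) φ (by rw [h]) hunits).toAlgebra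
  have hT : Nontrivial (P.ResidueField ⊗[(P.comap g).ResidueField] Ω) := inferInstance
  -- the balanced biadditive map
  let F : S ⊗[R] Ω →+ P.ResidueField ⊗[(P.comap g).ResidueField] Ω :=
    TensorProduct.liftAddHom
      { toFun := fun s =>
          { toFun := fun ω => (algebraMap S P.ResidueField s) ⊗ₜ[(P.comap g).ResidueField] ω
            map_zero' := by simp
            map_add' := fun a b => by simp [tmul_add] }
        map_zero' := by ext ω; simp
        map_add' := fun a b => by ext ω; simp [add_tmul] }
      (by
        intro r s ω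
        change (algebraMap S P.ResidueField (r • s)) ⊗ₜ[(P.comap g).ResidueField] ω =
          (algebraMap S P.ResidueField s) ⊗ₜ[(P.comap g).ResidueField] (r • ω)
        have h1 : algebraMap S P.ResidueField (r • s) =
            (algebraMap R (P.comap g).ResidueField r) • algebraMap S P.ResidueField s := by
          rw [Algebra.smul_def, Algebra.smul_def, map_mul]
          congr 1
          rw [RingHom.algebraMap_toAlgebra]
          exact (Ideal.ResidueField.map_algebraMap (P.comap g) P g rfl r).symm
        have h2 : r • ω = (algebraMap R (P.comap g).ResidueField r) • ω := by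
          rw [Algebra.smul_def, Algebra.smul_def, RingHom.algebraMap_toAlgebra,
            Ideal.ResidueField.lift_algebraMap]
        rw [h1, h2, TensorProduct.smul_tmul])
  refine ⟨⟨(1 : S) ⊗ₜ[R] (1 : Ω), 0, ?_⟩⟩
  intro h0
  have h3 := congrArg F h0
  rw [map_zero] at h3
  change (algebraMap S P.ResidueField 1) ⊗ₜ[(P.comap g).ResidueField] (1 : Ω) = 0 at h3
  rw [map_one] at h3
  exact one_ne_zero h3

/-- Given primes `P` of `S` and `Q` of `T` with the same contraction to `R`, there is a prime of
`S ⊗[R] T` contracting to `P` and to `Q`. -/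
theorem exists_prime_tensor {R : Type u} {S : Type v} {T : Type w} [CommRing R] [CommRing S] [CommRing T]
    [Algebra R S] [Algebra R T] (P : Ideal S) [P.IsPrime] (Q : Ideal T) [Q.IsPrime]
    (h : P.comap (algebraMap R S) = Q.comap (algebraMap R T)) :
    ∃ r : Ideal (S ⊗[R] T), r.IsPrime ∧
      r.comap (Algebra.TensorProduct.includeLeft : S →ₐ[R] S ⊗[R] T).toRingHom = P ∧
      r.comap (Algebra.TensorProduct.includeRight : T →ₐ[R] S ⊗[R] T).toRingHom = Q := by
  have hker : (⊥ : Ideal P.ResidueField).comap (algebraMap R P.ResidueField) =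
      RingHom.ker (algebraMap R Q.ResidueField) := by
    rw [IsScalarTower.algebraMap_eq R S P.ResidueField, IsScalarTower.algebraMap_eq R T Q.ResidueField,
      ← Ideal.comap_comap, ← RingHom.ker_eq_comap_bot, Ideal.ker_algebraMap_residueField,
      ← RingHom.comap_ker, Ideal.ker_algebraMap_residueField]
    exact h
  haveI : Nontrivial (P.ResidueField ⊗[R] Q.ResidueField) := nontrivial_tensor ⊥ hker
  obtain ⟨m, hm⟩ := Ideal.exists_maximal (P.ResidueField ⊗[R] Q.ResidueField)
  haveI := hm.isPrime
  let ψ : S ⊗[R] T →ₐ[R] P.ResidueField ⊗[R] Q.ResidueField :=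
    Algebra.TensorProduct.map (IsScalarTower.toAlgHom R S P.ResidueField)
      (IsScalarTower.toAlgHom R T Q.ResidueField)
  refine ⟨m.comap ψ.toRingHom, inferInstance, ?_, ?_⟩
  · have h1 : (m.comap ψ.toRingHom).comap
        (Algebra.TensorProduct.includeLeft : S →ₐ[R] S ⊗[R] T).toRingHom =
        (m.comap (Algebra.TensorProduct.includeLeft :
          P.ResidueField →ₐ[R] P.ResidueField ⊗[R] Q.ResidueField).toRingHom).comap
          (algebraMap S P.ResidueField) := by
      rw [Ideal.comap_comap, Ideal.comap_comap]
      congr 1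
      ext s
      simp [ψ]
    have h2 : m.comap (Algebra.TensorProduct.includeLeft :
          P.ResidueField →ₐ[R] P.ResidueField ⊗[R] Q.ResidueField).toRingHom = ⊥ :=
      Ideal.eq_bot_of_prime _
    rw [h1, h2, ← RingHom.ker_eq_comap_bot, Ideal.ker_algebraMap_residueField]
  · have h1 : (m.comap ψ.toRingHom).comap
        (Algebra.TensorProduct.includeRight : T →ₐ[R] S ⊗[R] T).toRingHom =
        (m.comap (Algebra.TensorProduct.includeRight :
          Q.ResidueField →ₐ[R] P.ResidueField ⊗[R] Q.ResidueField).toRingHom).comap
          (algebraMap T Q.ResidueField) := by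
      rw [Ideal.comap_comap, Ideal.comap_comap]
      congr 1
      ext s
      simp [ψ]
    have h2 : m.comap (Algebra.TensorProduct.includeRight :
          Q.ResidueField →ₐ[R] P.ResidueField ⊗[R] Q.ResidueField).toRingHom = ⊥ :=
      Ideal.eq_bot_of_prime _
    rw [h1, h2, ← RingHom.ker_eq_comap_bot, Ideal.ker_algebraMap_residueField]

end Groth.Agent.Lib.Helper15.FRPrimeTensor
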