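import Mathlib

/-!
# Local constancy of the dimension of the span of symmetric elements on the ramification locus
(helper15)
-/

set_option linter.style.haveILetI false
set_option autoImplicit false

universe u v

open scoped TensorProduct

namespace Groth.Agent.Lib.Helper15.SymRank

section span

variable {R : Type*} [CommRing R] {A : Type*} [AddCommGroup A] [Module R A]

/-- the span of the images of `G` in the fibre at `p` is everything iff `p` is outside the support of
the quotient -/
theorem baseChange_eq_top_iff [Module.Finite R A] (N' : Submodule R A) (p : PrimeSpectrum R) :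
    N'.baseChange p.asIdeal.ResidueField = ⊤ ↔ p ∉ Module.support R (A ⧸ N') := by
  rw [Module.mem_support_iff_nontrivial_residueField_tensorProduct, not_nontrivial_iff_subsingleton]
  have e := TensorProduct.tensorQuotientEquiv p.asIdeal.ResidueField N'
  rw [e.subsingleton_congr, Submodule.Quotient.subsingleton_iff]
  constructor
  · intro h
    rw [eq_top_iff]
    intro x _
    have hx : x ∈ N'.baseChange p.asIdeal.ResidueField := by rw [h]; trivial
    obtain ⟨y, hy⟩ := hx
    exact ⟨y, hy⟩
  · intro h
    rw [eq_top_iff]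
    intro x _
    have hx : x ∈ LinearMap.range (TensorProduct.map (LinearMap.id : p.asIdeal.ResidueField →ₗ[R] _)
        N'.subtype) := by rw [h]; trivial
    obtain ⟨y, hy⟩ := hx
    exact ⟨y, hy⟩

end span

section main

variable {R : Type u} [CommRing R] {A : Type v} [AddCommGroup A] [Module R A] [Module.Finite R A]
  (lam : R → R) (t : A →+ A) (ht : ∀ (r : R) (a : A), t (r • a) = lam r • t a)
  (htt : ∀ a, t (t a) = a) (h : R) (hh : 2 * h = 1) (hlamh : lam h = h)

/-- the span of the images of the `ε`-symmetric elements in the fibre at `p` -/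
noncomputable def Vspan (ε : R) (p : PrimeSpectrum R) : Submodule p.asIdeal.ResidueField
    (p.asIdeal.ResidueField ⊗[R] A) :=
  Submodule.span p.asIdeal.ResidueField
    (Set.range fun a : {a : A // t a = ε • a} => (1 : p.asIdeal.ResidueField) ⊗ₜ[R] (a : A))

include ht htt hh hlamh in
theorem sup_eq_top (p : PrimeSpectrum R) : Vspan t 1 p ⊔ Vspan t (-1) p = ⊤ := by
  rw [eq_top_iff]
  intro x hxtop
  clear hxtop
  induction x using TensorProduct.induction_on with
  | zero => exact zero_mem _
  | add x y hx hy => exact add_mem hx hy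
  | tmul c a =>
    have hsym : t (h • (a + t a)) = (1 : R) • (h • (a + t a)) := by
      rw [ht, hlamh, map_add, htt, one_smul, add_comm]
    have hskew : t (h • (a - t a)) = (-1 : R) • (h • (a - t a)) := by
      rw [ht, hlamh, map_sub, htt, neg_one_smul, ← smul_neg, neg_sub]
    have ha : a = h • (a + t a) + h • (a - t a) := by
      rw [← smul_add, add_add_sub_cancel, ← two_smul R a, smul_smul, mul_comm, hh, one_smul]
    have h1 : (1 : p.asIdeal.ResidueField) ⊗ₜ[R] (h • (a + t a)) ∈ Vspan t 1 p :=
      Submodule.subset_span ⟨⟨_, hsym⟩, rfl⟩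
    have h2 : (1 : p.asIdeal.ResidueField) ⊗ₜ[R] (h • (a - t a)) ∈ Vspan t (-1) p :=
      Submodule.subset_span ⟨⟨_, hskew⟩, rfl⟩
    have : c ⊗ₜ[R] a = c • ((1 : p.asIdeal.ResidueField) ⊗ₜ[R] (h • (a + t a))) +
        c • ((1 : p.asIdeal.ResidueField) ⊗ₜ[R] (h • (a - t a))) := by
      rw [← smul_add, ← TensorProduct.tmul_add, ← ha, TensorProduct.smul_tmul', smul_eq_mul, mul_one]
    rw [this]
    exact Submodule.add_mem _ (Submodule.mem_sup_left (Submodule.smul_mem _ c h1))
      (Submodule.mem_sup_right (Submodule.smul_mem _ c h2))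

/-- the induced involution on the fibre at a ramified prime -/
noncomputable def fibreInv (p : PrimeSpectrum R) (hp : ∀ r : R, lam r - r ∈ p.asIdeal) :
    p.asIdeal.ResidueField ⊗[R] A →ₗ[p.asIdeal.ResidueField] p.asIdeal.ResidueField ⊗[R] A :=
  TensorProduct.AlgebraTensorModule.lift
    { toFun := fun c =>
        { toFun := fun a => c ⊗ₜ[R] t a
          map_add' := fun a b => by rw [map_add, TensorProduct.tmul_add]
          map_smul' := fun r a => by
            have : algebraMap R p.asIdeal.ResidueField (lam r) =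
                algebraMap R p.asIdeal.ResidueField r := by
              rw [← sub_eq_zero, ← map_sub]
              exact Ideal.algebraMap_residueField_eq_zero.mpr (hp r)
            rw [ht, RingHom.id_apply, ← TensorProduct.smul_tmul, Algebra.smul_def, this,
              ← Algebra.smul_def, TensorProduct.smul_tmul'] }
      map_add' := fun c d => by
        ext a
        exact TensorProduct.add_tmul c d (t a)
      map_smul' := fun c d => by
        ext a
        simp [TensorProduct.smul_tmul'] }

theorem fibreInv_tmul (p : PrimeSpectrum R) (hp : ∀ r : R, lam r - r ∈ p.asIdeal)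
    (c : p.asIdeal.ResidueField) (a : A) :
    fibreInv lam t ht p hp (c ⊗ₜ[R] a) = c ⊗ₜ[R] t a := rfl

include ht hh in
theorem inf_eq_bot (p : PrimeSpectrum R) (hp : ∀ r : R, lam r - r ∈ p.asIdeal) :
    Vspan t 1 p ⊓ Vspan t (-1) p = ⊥ := by
  set T := fibreInv lam t ht p hp with hT
  have h1 : Vspan t 1 p ≤ LinearMap.ker (T - LinearMap.id) := by
    rw [Vspan, Submodule.span_le]
    rintro _ ⟨a, rfl⟩
    rw [SetLike.mem_coe, LinearMap.mem_ker, LinearMap.sub_apply, LinearMap.id_apply, hT,
      fibreInv_tmul, a.2, one_smul, sub_self]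
  have h2 : Vspan t (-1) p ≤ LinearMap.ker (T + LinearMap.id) := by
    rw [Vspan, Submodule.span_le]
    rintro _ ⟨a, rfl⟩
    rw [SetLike.mem_coe, LinearMap.mem_ker, LinearMap.add_apply, LinearMap.id_apply, hT,
      fibreInv_tmul, a.2, neg_one_smul, TensorProduct.tmul_neg, neg_add_cancel]
  rw [eq_bot_iff]
  intro x hx
  have e1 := h1 hx.1
  have e2 := h2 hx.2
  rw [LinearMap.mem_ker, LinearMap.sub_apply, LinearMap.id_apply, sub_eq_zero] at e1
  rw [LinearMap.mem_ker, LinearMap.add_apply, LinearMap.id_apply, e1] at e2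
  have h3 : (2 : p.asIdeal.ResidueField) • x = 0 := by rw [two_smul]; exact e2
  have h4 : (algebraMap R p.asIdeal.ResidueField h) * 2 = 1 := by
    rw [← map_ofNat (algebraMap R p.asIdeal.ResidueField) 2, ← map_mul, mul_comm, hh, map_one]
  rw [Submodule.mem_bot]
  calc x = ((algebraMap R p.asIdeal.ResidueField h) * 2) • x := by rw [h4, one_smul]
    _ = 0 := by rw [mul_smul, h3, smul_zero]

include ht htt hh hlamh in
theorem finrank_add (p : PrimeSpectrum R) (hp : ∀ r : R, lam r - r ∈ p.asIdeal) :
    Module.finrank p.asIdeal.ResidueField (Vspan t 1 p) +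
      Module.finrank p.asIdeal.ResidueField (Vspan t (-1) p) =
      Module.finrank p.asIdeal.ResidueField (p.asIdeal.ResidueField ⊗[R] A) := by
  have := Submodule.finrank_sup_add_finrank_inf_eq (Vspan t 1 p) (Vspan t (-1) p)
  rw [sup_eq_top lam t ht htt h hh hlamh, inf_eq_bot lam t ht h hh p hp, finrank_top,
    finrank_bot, add_zero] at this
  exact this.symm

/-- a finite family of `ε`-symmetric elements whose images form a basis of `Vspan` -/
theorem exists_family (ε : R) (p : PrimeSpectrum R) :
    ∃ (ι : Type (max u v)) (_ : Fintype ι) (f : ι → A), (∀ i, t (f i) = ε • f i) ∧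
      Fintype.card ι = Module.finrank p.asIdeal.ResidueField (Vspan t ε p) ∧
      Vspan t ε p ≤ Submodule.span p.asIdeal.ResidueField
        (Set.range fun i => (1 : p.asIdeal.ResidueField) ⊗ₜ[R] f i) := by
  classical
  obtain ⟨b, hbsub, hbspan, hbli⟩ := exists_linearIndependent p.asIdeal.ResidueField
    (Set.range fun a : {a : A // t a = ε • a} => (1 : p.asIdeal.ResidueField) ⊗ₜ[R] (a : A))
  haveI : Fintype b := hbli.setFinite.fintype
  choose sb hsb using fun x : b => hbsub x.2
  refine ⟨b, inferInstance, fun x => (sb x : A), fun x => (sb x).2, ?_, ?_⟩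
  · have := finrank_span_eq_card hbli
    rw [Subtype.range_coe, hbspan] at this
    exact this.symm
  · rw [Vspan, ← hbspan]
    apply Submodule.span_mono
    intro x hx
    exact ⟨⟨x, hx⟩, hsb ⟨x, hx⟩⟩

include ht htt hh hlamh in
/-- local constancy of the dimension of the span of symmetric elements on the ramification locus -/
theorem main (d : ℕ)
    (hrank : ∀ p : PrimeSpectrum R,
      Module.finrank p.asIdeal.ResidueField (p.asIdeal.ResidueField ⊗[R] A) = d)
    (q : PrimeSpectrum R) (hq : ∀ r : R, lam r - r ∈ q.asIdeal) :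
    ∃ f : R, f ∉ q.asIdeal ∧ ∀ q' : PrimeSpectrum R, (∀ r : R, lam r - r ∈ q'.asIdeal) →
      f ∉ q'.asIdeal →
      Module.finrank q'.asIdeal.ResidueField (Vspan t 1 q') =
        Module.finrank q.asIdeal.ResidueField (Vspan t 1 q) := by
  classical
  obtain ⟨ι₁, _, f₁, hf₁, hc₁, hs₁⟩ := exists_family t 1 q
  obtain ⟨ι₂, _, f₂, hf₂, hc₂, hs₂⟩ := exists_family t (-1) q
  set N' : Submodule R A := Submodule.span R (Set.range f₁ ∪ Set.range f₂) with hN'
  have hbc : ∀ p : PrimeSpectrum R, N'.baseChange p.asIdeal.ResidueField =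
      Submodule.span p.asIdeal.ResidueField
        (Set.range fun i => (1 : p.asIdeal.ResidueField) ⊗ₜ[R] f₁ i) ⊔
      Submodule.span p.asIdeal.ResidueField
        (Set.range fun i => (1 : p.asIdeal.ResidueField) ⊗ₜ[R] f₂ i) := by
    intro p
    rw [hN', Submodule.baseChange_span, Set.image_union, Submodule.span_union, ← Set.range_comp,
      ← Set.range_comp]
    rfl
  have hqtop : N'.baseChange q.asIdeal.ResidueField = ⊤ := by
    rw [eq_top_iff, ← sup_eq_top lam t ht htt h hh hlamh q, hbc]
    exact sup_le_sup hs₁ hs₂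
  have hqsupp : q ∈ (Module.support R (A ⧸ N'))ᶜ := (baseChange_eq_top_iff N' q).mp hqtop
  have hopen : IsOpen (Module.support R (A ⧸ N'))ᶜ := by
    rw [isOpen_compl_iff, Module.support_eq_zeroLocus]
    exact PrimeSpectrum.isClosed_zeroLocus _
  obtain ⟨U, ⟨f, rfl⟩, hqU, hUsub⟩ :=
    PrimeSpectrum.isTopologicalBasis_basic_opens.exists_subset_of_mem_open hqsupp hopen
  refine ⟨f, hqU, fun q' hq' hfq' => ?_⟩
  have hq'top : N'.baseChange q'.asIdeal.ResidueField = ⊤ :=
    (baseChange_eq_top_iff N' q').mpr (hUsub hfq')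
  rw [hbc] at hq'top
  set V₁ := Submodule.span q'.asIdeal.ResidueField
    (Set.range fun i => (1 : q'.asIdeal.ResidueField) ⊗ₜ[R] f₁ i) with hV₁
  set V₂ := Submodule.span q'.asIdeal.ResidueField
    (Set.range fun i => (1 : q'.asIdeal.ResidueField) ⊗ₜ[R] f₂ i) with hV₂
  have hle₁ : V₁ ≤ Vspan t 1 q' := Submodule.span_mono (by
    rintro _ ⟨i, rfl⟩
    exact ⟨⟨f₁ i, hf₁ i⟩, rfl⟩)
  have hle₂ : V₂ ≤ Vspan t (-1) q' := Submodule.span_mono (by
    rintro _ ⟨i, rfl⟩
    exact ⟨⟨f₂ i, hf₂ i⟩, rfl⟩)
  have hcard₁ : Module.finrank q'.asIdeal.ResidueField V₁ ≤ Fintype.card ι₁ :=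
    finrank_range_le_card _
  have hcard₂ : Module.finrank q'.asIdeal.ResidueField V₂ ≤ Fintype.card ι₂ :=
    finrank_range_le_card _
  have hsum := Submodule.finrank_add_le_finrank_add_finrank V₁ V₂
  rw [hq'top, finrank_top, hrank q'] at hsum
  have hm₁ := Submodule.finrank_mono hle₁
  have hm₂ := Submodule.finrank_mono hle₂
  have ha := finrank_add lam t ht htt h hh hlamh q hq
  have ha' := finrank_add lam t ht htt h hh hlamh q' hq'
  rw [hrank] at ha ha'
  omega

end main

end Groth.Agent.Lib.Helper15.SymRank
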