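import Mathlib
import Groth.Agent.Lib.Helper15.SymRank

/-!
# Dimension of the span of symmetric elements at a ramified point, via a matrix model (helper15)
-/

set_option linter.style.haveILetI false
set_option autoImplicit false

universe u v w w'

open scoped TensorProduct
open Matrix IsLocalRing Polynomial

namespace Groth.Agent.Lib.Helper15.FRSym1

open Groth.Agent.Lib.Helper15.SymRank

section squares

/-- in a strictly henselian local ring in which `2` is invertible every unit is a square -/
theorem units_sq_of_two (H : Type u) [CommRing H] [HenselianLocalRing H]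
    [IsSepClosed (ResidueField H)] (h2 : IsUnit (2 : H)) (x : Hˣ) : ∃ y : H, y * y = x := by
  classical
  set k := ResidueField H
  have hx0 : residue H (x : H) ≠ 0 := by
    intro h
    have : (x : H) ∈ maximalIdeal H := (residue_eq_zero_iff _).mp h
    exact (mem_maximalIdeal _).mp this x.isUnit
  have h20 : (2 : k) ≠ 0 := by
    have : IsUnit (residue H (2 : H)) := h2.map (residue H)
    rw [map_ofNat] at this
    exact this.ne_zero
  let g : k[X] := X ^ 2 - C (residue H (x : H))
  have hgdeg : g.degree ≠ 0 := by
    have : g.degree = 2 := by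
      simp only [g]
      rw [degree_X_pow_sub_C (by norm_num)]
      rfl
    rw [this]; norm_num
  have hgsep : g.Separable := by
    simp only [g]
    exact separable_X_pow_sub_C (residue H (x : H)) (by exact_mod_cast h20) hx0
  obtain ⟨ybar, hy⟩ := IsSepClosed.exists_root g hgdeg hgsep
  obtain ⟨y₀, rfl⟩ := residue_surjective ybar
  have hy' : residue H y₀ ^ 2 = residue H (x : H) := by
    simpa [g, sub_eq_zero] using hy
  have hy0 : residue H y₀ ≠ 0 := by
    intro h
    rw [h] at hy'
    exact hx0 (by rw [← hy']; ring)
  have hy0u : IsUnit y₀ := by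
    by_contra hnu
    exact hy0 ((residue_eq_zero_iff _).mpr ((mem_maximalIdeal _).mpr hnu))
  let f : H[X] := X ^ 2 - C (x : H)
  have hfm : f.Monic := monic_X_pow_sub_C _ (by norm_num)
  have hf1 : f.eval y₀ ∈ maximalIdeal H := by
    rw [← residue_eq_zero_iff]
    simp only [f, eval_sub, eval_pow, eval_X, eval_C, map_sub, map_pow]
    rw [hy', sub_self]
  have hf2 : IsUnit (f.derivative.eval y₀) := by
    simp only [f, derivative_sub, derivative_X_pow, derivative_C, sub_zero, eval_mul, eval_C,
      eval_pow, eval_X]
    simpa using h2.mul hy0u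
  obtain ⟨a, ha, -⟩ := HenselianLocalRing.is_henselian f hfm y₀ hf1 hf2
  refine ⟨a, ?_⟩
  simp only [f, IsRoot.def, eval_sub, eval_pow, eval_X, eval_C, sub_eq_zero] at ha
  rw [← ha, sq]

end squares

section matrices

variable (K : Type u) [Field K] (n : ℕ)

/-- the subspace of `ε`-symmetric matrices -/
def epsSub (ε : K) : Submodule K (Matrix (Fin n) (Fin n) K) where
  carrier := {Y | Yᵀ = ε • Y}
  add_mem' := by
    intro a b ha hb
    change _ = _ at ha hb
    change _ = _
    rw [transpose_add, ha, hb, smul_add]
  zero_mem' := by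
    change _ = _
    simp
  smul_mem' := by
    intro c a ha
    change _ = _ at ha
    change _ = _
    rw [transpose_smul, ha, smul_comm]

theorem mem_epsSub (ε : K) (Y : Matrix (Fin n) (Fin n) K) : Y ∈ epsSub K n ε ↔ Yᵀ = ε • Y :=
  Iff.rfl

/-- symmetric matrices are functions on unordered pairs -/
noncomputable def symEquiv : epsSub K n 1 ≃ₗ[K] (Sym2 (Fin n) → K) where
  toFun Y := Sym2.lift ⟨fun i j => (Y : Matrix (Fin n) (Fin n) K) i j, fun i j => by
    have := Y.2
    rw [mem_epsSub, one_smul] at this
    have h2 := congrFun (congrFun this i) j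
    rw [transpose_apply] at h2
    exact h2.symm⟩
  map_add' Y Z := by
    ext s
    induction s using Sym2.ind with
    | _ i j => simp
  map_smul' c Y := by
    ext s
    induction s using Sym2.ind with
    | _ i j => simp
  invFun f := ⟨Matrix.of fun i j => f s(i, j), by
    rw [mem_epsSub, one_smul]
    ext i j
    simp [Sym2.eq_swap]⟩
  left_inv Y := by
    ext i j
    simp
  right_inv f := by
    ext s
    induction s using Sym2.ind with
    | _ i j => simp

theorem finrank_sym : Module.finrank K (epsSub K n 1) = (n + 1).choose 2 := by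
  rw [(symEquiv K n).finrank_eq, Module.finrank_fintype_fun_eq_card, Sym2.card, Fintype.card_fin]

theorem choose_add (n : ℕ) : (n + 1).choose 2 + n.choose 2 = n ^ 2 := by
  induction n with
  | zero => simp
  | succ k ih =>
    have h1 : (k + 1 + 1).choose 2 = (k + 1).choose 1 + (k + 1).choose 2 := Nat.choose_succ_succ _ _
    have h2 : (k + 1).choose 2 = k.choose 1 + k.choose 2 := Nat.choose_succ_succ _ _
    rw [Nat.choose_one_right] at h1 h2
    rw [h2] at ih
    rw [h1]
    nlinarith [ih]

theorem finrank_skew (h2 : (2 : K) ≠ 0) : Module.finrank K (epsSub K n (-1)) = n.choose 2 := by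
  have hsup : epsSub K n 1 ⊔ epsSub K n (-1) = ⊤ := by
    rw [eq_top_iff]
    intro Y _
    have h1 : (2 : K)⁻¹ • (Y + Yᵀ) ∈ epsSub K n 1 := by
      rw [mem_epsSub, one_smul, transpose_smul, transpose_add, transpose_transpose, add_comm]
    have h3 : (2 : K)⁻¹ • (Y - Yᵀ) ∈ epsSub K n (-1) := by
      rw [mem_epsSub, transpose_smul, transpose_sub, transpose_transpose, neg_one_smul,
        ← smul_neg, neg_sub]
    have : Y = (2 : K)⁻¹ • (Y + Yᵀ) + (2 : K)⁻¹ • (Y - Yᵀ) := by
      rw [← smul_add, add_add_sub_cancel, ← two_smul K Y, smul_smul, inv_mul_cancel₀ h2, one_smul]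
    rw [this]
    exact Submodule.add_mem _ (Submodule.mem_sup_left h1) (Submodule.mem_sup_right h3)
  have hinf : epsSub K n 1 ⊓ epsSub K n (-1) = ⊥ := by
    rw [eq_bot_iff]
    intro Y hY
    have e1 := (mem_epsSub K n 1 Y).mp hY.1
    have e2 := (mem_epsSub K n (-1) Y).mp hY.2
    rw [e1, one_smul, neg_one_smul] at e2
    have h3 : (2 : K) • Y = 0 := by
      rw [two_smul]
      nth_rewrite 1 [e2]
      exact neg_add_cancel Y
    rw [Submodule.mem_bot]
    rcases smul_eq_zero.mp h3 with h | h
    · exact absurd h h2
    · exact h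
  have := Submodule.finrank_sup_add_finrank_inf_eq (epsSub K n 1) (epsSub K n (-1))
  rw [hsup, hinf, finrank_top, finrank_bot, add_zero, Module.finrank_matrix, finrank_sym] at this
  simp only [Fintype.card_fin, Module.finrank_self, mul_one] at this
  have h4 := choose_add n
  nlinarith [this, h4]

variable {K n}

/-- the symmetric elements of the adjoint involution of an `ε`-symmetric form -/
def adjSub (G G' : Matrix (Fin n) (Fin n) K) : Submodule K (Matrix (Fin n) (Fin n) K) where
  carrier := {Y | G * Yᵀ * G' = Y}
  add_mem' := by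
    intro a b ha hb
    change _ = _ at ha hb
    change _ = _
    rw [transpose_add, Matrix.mul_add, Matrix.add_mul, ha, hb]
  zero_mem' := by
    change _ = _
    simp
  smul_mem' := by
    intro c a ha
    change _ = _ at ha
    change _ = _
    rw [transpose_smul, Matrix.mul_smul, Matrix.smul_mul, ha]

theorem mem_adjSub (G G' Y : Matrix (Fin n) (Fin n) K) : Y ∈ adjSub G G' ↔ G * Yᵀ * G' = Y :=
  Iff.rfl

theorem finrank_adjSub (G G' : Matrix (Fin n) (Fin n) K) (hGG' : G * G' = 1) (ε : K)
    (hε : ε * ε = 1) (hG : Gᵀ = ε • G) :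
    Module.finrank K (adjSub G G') = Module.finrank K (epsSub K n ε) := by
  have hG'G : G' * G = 1 := mul_eq_one_comm.mp hGG'
  have hG't : G'ᵀ = ε • G' := by
    have h1 : G'ᵀ * Gᵀ = 1 := by rw [← transpose_mul, hGG', transpose_one]
    have h2 : G'ᵀ * (ε • G) = 1 := by rw [← hG]; exact h1
    calc G'ᵀ = G'ᵀ * (G * G') := by rw [hGG', Matrix.mul_one]
      _ = ε • (ε • (G'ᵀ * G * G')) := by rw [smul_smul, hε, one_smul, Matrix.mul_assoc]
      _ = ε • ((G'ᵀ * (ε • G)) * G') := by rw [Matrix.mul_smul, Matrix.smul_mul]
      _ = ε • G' := by rw [h2, Matrix.one_mul]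
  let e : adjSub G G' ≃ₗ[K] epsSub K n ε :=
    { toFun := fun Y => ⟨(Y : Matrix (Fin n) (Fin n) K) * G, by
        have hY := (mem_adjSub G G' _).mp Y.2
        rw [mem_epsSub, transpose_mul, hG, Matrix.smul_mul]
        congr 1
        nth_rewrite 2 [← hY]
        rw [Matrix.mul_assoc, hG'G, Matrix.mul_one]⟩
      map_add' := fun Y Z => by
        ext1
        exact Matrix.add_mul _ _ _
      map_smul' := fun c Y => by
        ext1
        exact Matrix.smul_mul _ _ _
      invFun := fun Z => ⟨(Z : Matrix (Fin n) (Fin n) K) * G', by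
        have hZ := (mem_epsSub K n ε _).mp Z.2
        rw [mem_adjSub, transpose_mul, hZ, hG't]
        simp only [Matrix.smul_mul, Matrix.mul_smul, smul_smul, hε, one_smul]
        rw [← Matrix.mul_assoc, hGG', Matrix.one_mul]⟩
      left_inv := fun Y => by
        ext1
        change (Y : Matrix (Fin n) (Fin n) K) * G * G' = Y
        rw [Matrix.mul_assoc, hGG', Matrix.mul_one]
      right_inv := fun Z => by
        ext1
        change (Z : Matrix (Fin n) (Fin n) K) * G' * G = Z
        rw [Matrix.mul_assoc, hG'G, Matrix.mul_one] }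
  exact e.finrank_eq

end matrices


section abstract

variable {R : Type u} [CommRing R] {A : Type v} [AddCommGroup A] [Module R A] [Module.Finite R A]
  (lam : R → R) (t : A →+ A) (ht : ∀ (r : R) (a : A), t (r • a) = lam r • t a)
  (htt : ∀ a, t (t a) = a) (h : R) (hh : 2 * h = 1) (hlamh : lam h = h)

/-- the image of the span of `ε`-symmetric elements under a semilinear map to a vector space over
an extension of the residue field has at most the same dimension -/
theorem finrank_image_le (ε : R) (q : PrimeSpectrum R)
    (K : Type w) [Field K] [Algebra R K] (hker : RingHom.ker (algebraMap R K) = q.asIdeal)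
    (W : Type w') [AddCommGroup W] [Module K W] [Module R W] [IsScalarTower R K W]
    [FiniteDimensional K W] (ρ : A →ₗ[R] W) :
    Module.finrank K (Submodule.span K (ρ '' {a | t a = ε • a})) ≤
      Module.finrank q.asIdeal.ResidueField (Vspan t ε q) := by
  classical
  have hunits : q.asIdeal.primeCompl ≤ (IsUnit.submonoid K).comap (algebraMap R K) := by
    intro r hr
    change IsUnit (algebraMap R K r)
    rw [isUnit_iff_ne_zero]
    intro h0
    apply hr
    change r ∈ q.asIdeal
    rw [← hker]
    exact h0
  let ι : q.asIdeal.ResidueField →+* K :=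
    Ideal.ResidueField.lift q.asIdeal (algebraMap R K) (by rw [hker]) hunits
  have hι : ∀ r : R, ι (algebraMap R q.asIdeal.ResidueField r) = algebraMap R K r := fun r =>
    Ideal.ResidueField.lift_algebraMap q.asIdeal (algebraMap R K) (by rw [hker]) hunits r
  letI : Module q.asIdeal.ResidueField W := Module.compHom W ι
  have hsm : ∀ (c : q.asIdeal.ResidueField) (w : W), c • w = ι c • w := fun c w => rfl
  haveI : IsScalarTower R q.asIdeal.ResidueField W := ⟨fun r c w => by
    rw [hsm, hsm, Algebra.smul_def, map_mul, hι, mul_smul, algebraMap_smul]⟩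
  let φ : q.asIdeal.ResidueField ⊗[R] A →ₗ[q.asIdeal.ResidueField] W :=
    ρ.liftBaseChange q.asIdeal.ResidueField
  have hφ : ∀ (c : q.asIdeal.ResidueField) (a : A), φ (c ⊗ₜ[R] a) = ι c • ρ a := fun c a => rfl
  obtain ⟨ι₁, _, f, hf, hcard, hspan⟩ := exists_family t ε q
  have hφspan : ∀ x ∈ Submodule.span q.asIdeal.ResidueField
      (Set.range fun i => (1 : q.asIdeal.ResidueField) ⊗ₜ[R] f i),
      φ x ∈ Submodule.span K (Set.range fun i => ρ (f i)) := by
    intro x hx
    induction hx using Submodule.span_induction with
    | mem x hx =>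
      obtain ⟨i, rfl⟩ := hx
      rw [hφ, map_one, one_smul]
      exact Submodule.subset_span ⟨i, rfl⟩
    | zero => rw [map_zero]; exact zero_mem _
    | add x y _ _ hx hy => rw [map_add]; exact add_mem hx hy
    | smul c x _ hx =>
      rw [map_smul, hsm]
      exact Submodule.smul_mem _ _ hx
  have hle : Submodule.span K (ρ '' {a | t a = ε • a}) ≤
      Submodule.span K (Set.range fun i => ρ (f i)) := by
    rw [Submodule.span_le]
    rintro _ ⟨a, ha, rfl⟩
    have h1 : (1 : q.asIdeal.ResidueField) ⊗ₜ[R] a ∈ Vspan t ε q :=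
      Submodule.subset_span ⟨⟨a, ha⟩, rfl⟩
    have h2 := hφspan _ (hspan h1)
    rw [hφ, map_one, one_smul] at h2
    exact h2
  calc Module.finrank K (Submodule.span K (ρ '' {a | t a = ε • a}))
      ≤ Module.finrank K (Submodule.span K (Set.range fun i => ρ (f i))) :=
        Submodule.finrank_mono hle
    _ ≤ Fintype.card ι₁ := finrank_range_le_card _
    _ = _ := hcard

include ht htt hh hlamh in
/-- the dimension of the span of the symmetric elements at a ramified prime can be computed in a
matrix model over an extension of the residue field -/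
theorem finrank_Vspan_eq (q : PrimeSpectrum R) (hq : ∀ r : R, lam r - r ∈ q.asIdeal)
    (K : Type w) [Field K] [Algebra R K] (hker : RingHom.ker (algebraMap R K) = q.asIdeal)
    (W : Type w') [AddCommGroup W] [Module K W] [Module R W] [IsScalarTower R K W]
    [FiniteDimensional K W] (ρ : A →ₗ[R] W) (hρ : Submodule.span K (Set.range ρ) = ⊤)
    (hdim : Module.finrank q.asIdeal.ResidueField (q.asIdeal.ResidueField ⊗[R] A) =
      Module.finrank K W) :
    Module.finrank q.asIdeal.ResidueField (Vspan t 1 q) =
      Module.finrank K (Submodule.span K (ρ '' {a | t a = (1 : R) • a})) := by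
  classical
  have h1 := finrank_image_le t 1 q K hker W ρ
  have h2 := finrank_image_le t (-1) q K hker W ρ
  have h3 := finrank_add lam t ht htt h hh hlamh q hq
  have hsup : Submodule.span K (ρ '' {a | t a = (1 : R) • a}) ⊔
      Submodule.span K (ρ '' {a | t a = (-1 : R) • a}) = ⊤ := by
    rw [eq_top_iff, ← hρ, Submodule.span_le]
    rintro _ ⟨a, rfl⟩
    have hsym : t (h • (a + t a)) = (1 : R) • (h • (a + t a)) := by
      rw [ht, hlamh, map_add, htt, one_smul, add_comm]
    have hskew : t (h • (a - t a)) = (-1 : R) • (h • (a - t a)) := by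
      rw [ht, hlamh, map_sub, htt, neg_one_smul, ← smul_neg, neg_sub]
    have ha : a = h • (a + t a) + h • (a - t a) := by
      rw [← smul_add, add_add_sub_cancel, ← two_smul R a, smul_smul, mul_comm, hh, one_smul]
    rw [ha, map_add]
    exact Submodule.add_mem _
      (Submodule.mem_sup_left (Submodule.subset_span ⟨_, hsym, rfl⟩))
      (Submodule.mem_sup_right (Submodule.subset_span ⟨_, hskew, rfl⟩))
  have h4 := Submodule.finrank_add_le_finrank_add_finrank
    (Submodule.span K (ρ '' {a | t a = (1 : R) • a}))
    (Submodule.span K (ρ '' {a | t a = (-1 : R) • a}))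
  rw [hsup, finrank_top] at h4
  omega

include ht htt hh hlamh in
/-- the span of the images of the symmetric elements is the space of symmetric elements of the
model -/
theorem span_image_eq (K : Type w) [Field K] [Algebra R K]
    (W : Type w') [AddCommGroup W] [Module K W] [Module R W] [IsScalarTower R K W]
    (ρ : A →ₗ[R] W) (hρ : Submodule.span K (Set.range ρ) = ⊤)
    (σ : W →ₗ[K] W) (hσ : ∀ a, σ (ρ a) = ρ (t a)) :
    Submodule.span K (ρ '' {a | t a = (1 : R) • a}) = LinearMap.eqLocus σ LinearMap.id := by
  apply le_antisymm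
  · rw [Submodule.span_le]
    rintro _ ⟨a, ha, rfl⟩
    change t a = _ at ha
    rw [SetLike.mem_coe, LinearMap.mem_eqLocus, hσ, ha, one_smul, LinearMap.id_apply]
  · intro Y hY
    rw [LinearMap.mem_eqLocus, LinearMap.id_apply] at hY
    let P : W →ₗ[K] W := (algebraMap R K h) • (LinearMap.id + σ)
    have hP : ∀ Z ∈ Submodule.span K (Set.range ρ),
        P Z ∈ Submodule.span K (ρ '' {a | t a = (1 : R) • a}) := by
      intro Z hZ
      induction hZ using Submodule.span_induction with
      | mem x hx =>
        obtain ⟨a, rfl⟩ := hx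
        have hsym : t (h • (a + t a)) = (1 : R) • (h • (a + t a)) := by
          rw [ht, hlamh, map_add, htt, one_smul, add_comm]
        have : P (ρ a) = ρ (h • (a + t a)) := by
          change (algebraMap R K h) • (ρ a + σ (ρ a)) = _
          rw [hσ, ← map_add, algebraMap_smul, ← map_smul]
        rw [this]
        exact Submodule.subset_span ⟨_, hsym, rfl⟩
      | zero => rw [map_zero]; exact zero_mem _
      | add x y _ _ hx hy => rw [map_add]; exact add_mem hx hy
      | smul c x _ hx => rw [map_smul]; exact Submodule.smul_mem _ _ hx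
    have hPY : P Y = Y := by
      change (algebraMap R K h) • (Y + σ Y) = Y
      rw [hY, ← two_smul K Y, smul_smul, ← map_ofNat (algebraMap R K) 2, ← map_mul, mul_comm, hh,
        map_one, one_smul]
    rw [← hPY]
    exact hP Y (by rw [hρ]; trivial)

end abstract

end Groth.Agent.Lib.Helper15.FRSym1
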