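import Mathlib
import Groth.Prelude.Def_AzInv
import Groth.Prelude.Def_W4c2azumayainvolQEt
import Groth.Agent.Lib.Helper15.FRInv3
import Groth.Agent.Lib.Helper15.FRInv4
import Groth.Agent.Lib.Helper15.FRInvSkew
import Groth.Agent.Lib.Helper15.FRSym1

/-!
# The sign of an involution at a ramified prime read off from adapted matrix units (helper15)
-/

set_option autoImplicit false
set_option linter.style.haveILetI false
universe u v w

open scoped TensorProduct
open IsLocalRing Matrix

namespace Groth.Agent.Lib.Helper15.FRSym2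

open Groth.Agent.Lib.Helper15.FRDescent Groth.Agent.Lib.Helper15.FRTheta
  Groth.Agent.Lib.Helper15.FRInv1 Groth.Agent.Lib.Helper15.FRInv2
  Groth.Agent.Lib.Helper15.FRInv3 Groth.Agent.Lib.Helper15.FRInv4
  Groth.Agent.Lib.Helper15.FRInvSkew Groth.Agent.Lib.Helper15.FRSym1
  Groth.Agent.Lib.Helper15.SymRank AzInv

attribute [local instance] Algebra.TensorProduct.rightAlgebra

section beta

variable (S : Type u) (R : Type v) [CommRing S] [CommRing R] [Algebra S R]
  (lam : R ≃ₐ[S] R) (hlam : ∀ r, lam (lam r) = r) (h2 : IsUnit (2 : S))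
  (A : Type w) [Ring A] [Algebra S A] [Algebra R A] [IsScalarTower S R A]
  (n : ℕ) (hn : 0 < n) (hA : AzInv.IsAzumayaDeg R A n) (t : AzInv.LamInv R A lam)

/-- the span in the statement is the `Vspan` of the library -/
theorem vspan_eq (p : PrimeSpectrum R) :
    Vspan (R := R) t.toAddMonoidHom 1 p =
      Submodule.span p.asIdeal.ResidueField
        (Set.range fun a : {a : A // t a = a} => (1 : p.asIdeal.ResidueField) ⊗ₜ[R] (a : A)) := by
  unfold Vspan
  congr 1
  ext x
  constructor
  · rintro ⟨⟨a, ha⟩, rfl⟩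
    exact ⟨⟨a, by simpa using ha⟩, rfl⟩
  · rintro ⟨⟨a, ha⟩, rfl⟩
    exact ⟨⟨a, by simpa using ha⟩, rfl⟩

include hlam h2 hn hA in
/-- the dimension of the span of the symmetric elements at a ramified prime is the dimension of
the space of symmetric matrices for the adjoint involution of the Gram matrix -/
theorem finrank_sym_of_kunits (H : Type u) [CommRing H] [Algebra S H]
    (G G' : Matrix (Fin n) (Fin n) R) (hk : HasKUnits S lam t (kap G G') H)
    (q : PrimeSpectrum R) (hq : ∀ r : R, lam r - r ∈ q.asIdeal)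
    (Q : Ideal (H ⊗[S] R)) [Q.IsPrime] (hQ : Q.comap (incl S R H) = q.asIdeal) :
    Module.finrank q.asIdeal.ResidueField
      (Submodule.span q.asIdeal.ResidueField
        (Set.range fun a : {a : A // t a = a} => (1 : q.asIdeal.ResidueField) ⊗ₜ[R] (a : A))) =
    Module.finrank Q.ResidueField
      (adjSub (G.map ((algebraMap (H ⊗[S] R) Q.ResidueField).comp (incl S R H)))
        (G'.map ((algebraMap (H ⊗[S] R) Q.ResidueField).comp (incl S R H)))) := by
  classical
  obtain ⟨h₀, hh₀⟩ := h2.exists_right_inv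
  have hh : (2 : R) * algebraMap S R h₀ = 1 := by
    rw [← map_ofNat (algebraMap S R) 2, ← map_mul, hh₀, map_one]
  haveI : IsAzumaya R A := hA.1
  have hrank : Module.finrank q.asIdeal.ResidueField (q.asIdeal.ResidueField ⊗[R] A) = n ^ 2 := by
    rw [← hA.2 q, Module.rankAtStalk_eq]
  let g : R →+* Q.ResidueField := (algebraMap (H ⊗[S] R) Q.ResidueField).comp (incl S R H)
  have hgdef : ∀ r : R, algebraMap R Q.ResidueField r =
      algebraMap (H ⊗[S] R) Q.ResidueField (incl S R H r) := by
    intro r
    rw [IsScalarTower.algebraMap_apply R (H ⊗[S] R) Q.ResidueField]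
    rfl
  have hgg : ∀ r : R, g r = algebraMap (H ⊗[S] R) Q.ResidueField (incl S R H r) := fun r => rfl
  have hker : RingHom.ker (algebraMap R Q.ResidueField) = q.asIdeal := by
    rw [← hQ]
    have h1 : algebraMap R Q.ResidueField = g := RingHom.ext hgdef
    rw [h1]
    change RingHom.ker ((algebraMap (H ⊗[S] R) Q.ResidueField).comp (incl S R H)) = _
    rw [← RingHom.comap_ker, Ideal.ker_algebraMap_residueField]
  obtain ⟨F, hF, hform⟩ := exists_split_formula S R lam hlam A n hn hA t _ H hk
  have hlamQ : ∀ c : H ⊗[S] R, algebraMap (H ⊗[S] R) Q.ResidueField (lamT S lam H c) =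
      algebraMap (H ⊗[S] R) Q.ResidueField c := by
    intro c
    rw [← sub_eq_zero, ← map_sub, ← RingHom.mem_ker, Ideal.ker_algebraMap_residueField]
    induction c using TensorProduct.induction_on with
    | zero => simp
    | tmul x r =>
      rw [lamT_tmul, ← TensorProduct.tmul_sub]
      have h1 : x ⊗ₜ[S] (lam r - r) = (x ⊗ₜ[S] (1 : R)) * incl S R H (lam r - r) := by
        rw [incl_apply, Algebra.TensorProduct.tmul_mul_tmul, mul_one, one_mul]
      rw [h1]
      refine Q.mul_mem_left _ ?_
      rw [← Ideal.mem_comap, hQ]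
      exact hq r
    | add x y hx hy =>
      rw [map_add, add_sub_add_comm]
      exact Q.add_mem hx hy
  -- the representation
  have hone : ∀ (r : R) (a : A), (1 : H) ⊗ₜ[S] (r • a) =
      iota S R A H (incl S R H r) * ((1 : H) ⊗ₜ[S] a) := by
    intro r a
    rw [incl_apply, iota_tmul, Algebra.TensorProduct.tmul_mul_tmul, one_mul, Algebra.smul_def]
  let ρ : A →ₗ[R] Matrix (Fin n) (Fin n) Q.ResidueField :=
    { toFun := fun a => (F ((1 : H) ⊗ₜ[S] a)).map (algebraMap (H ⊗[S] R) Q.ResidueField)
      map_add' := fun a b => by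
        rw [TensorProduct.tmul_add, map_add, Matrix.map_add _ (map_add _)]
      map_smul' := fun r a => by
        rw [hone, hF, RingHom.id_apply]
        ext i j
        rw [Matrix.map_apply, Matrix.smul_apply, smul_eq_mul, map_mul, Matrix.smul_apply,
          Matrix.map_apply, Algebra.smul_def, hgdef] }
  have hρdef : ∀ a, ρ a = (F ((1 : H) ⊗ₜ[S] a)).map (algebraMap (H ⊗[S] R) Q.ResidueField) :=
    fun a => rfl
  have hρall : ∀ x : H ⊗[S] A, (F x).map (algebraMap (H ⊗[S] R) Q.ResidueField) ∈
      Submodule.span Q.ResidueField (Set.range ρ) := by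
    intro x
    induction x using TensorProduct.induction_on with
    | zero =>
      rw [map_zero, Matrix.map_zero _ (map_zero _)]
      exact zero_mem _
    | tmul x a =>
      have h1 : x ⊗ₜ[S] a = iota S R A H (x ⊗ₜ[S] (1 : R)) * ((1 : H) ⊗ₜ[S] a) := by
        rw [iota_tmul, Algebra.TensorProduct.tmul_mul_tmul, mul_one, map_one, one_mul]
      have h3 : (F (x ⊗ₜ[S] a)).map (algebraMap (H ⊗[S] R) Q.ResidueField) =
          algebraMap (H ⊗[S] R) Q.ResidueField (x ⊗ₜ[S] (1 : R)) • ρ a := by
        rw [h1, hF, hρdef]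
        ext i j
        rw [Matrix.map_apply, Matrix.smul_apply, smul_eq_mul, map_mul, Matrix.smul_apply,
          Matrix.map_apply, smul_eq_mul]
      rw [h3]
      exact Submodule.smul_mem _ _ (Submodule.subset_span ⟨a, rfl⟩)
    | add x y hx hy =>
      rw [map_add, Matrix.map_add _ (map_add _)]
      exact add_mem hx hy
  have hρ : Submodule.span Q.ResidueField (Set.range ρ) = ⊤ := by
    rw [eq_top_iff]
    intro Y _
    rw [Matrix.matrix_eq_sum_single Y]
    refine Submodule.sum_mem _ fun i _ => Submodule.sum_mem _ fun j _ => ?_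
    have h1 : Matrix.single i j (Y i j) = Y i j • Matrix.single i j (1 : Q.ResidueField) := by
      rw [Matrix.smul_single, smul_eq_mul, mul_one]
    have h3 : Matrix.single i j (1 : Q.ResidueField) =
        (F (F.symm (Matrix.single i j 1))).map (algebraMap (H ⊗[S] R) Q.ResidueField) := by
      rw [AlgEquiv.apply_symm_apply]
      ext k l
      rw [Matrix.map_apply, Matrix.single_apply, Matrix.single_apply]
      split_ifs
      · rw [map_one]
      · rw [map_zero]
    rw [h1, h3]
    exact Submodule.smul_mem _ _ (hρall _)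
  have hdim : Module.finrank q.asIdeal.ResidueField (q.asIdeal.ResidueField ⊗[R] A) =
      Module.finrank Q.ResidueField (Matrix (Fin n) (Fin n) Q.ResidueField) := by
    rw [hrank, Module.finrank_matrix]
    simp only [Fintype.card_fin, Module.finrank_self, mul_one]
    ring
  -- the involution of the model
  let σ : Matrix (Fin n) (Fin n) Q.ResidueField →ₗ[Q.ResidueField]
      Matrix (Fin n) (Fin n) Q.ResidueField :=
    { toFun := fun Y => G.map g * Yᵀ * G'.map g
      map_add' := fun Y Z => by rw [transpose_add, Matrix.mul_add, Matrix.add_mul]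
      map_smul' := fun c Y => by
        rw [transpose_smul, Matrix.mul_smul, Matrix.smul_mul, RingHom.id_apply] }
  have hσdef : ∀ Y, σ Y = G.map g * Yᵀ * G'.map g := fun Y => rfl
  have hσ : ∀ a, σ (ρ a) = ρ (t.toAddMonoidHom a) := by
    intro a
    have h1 : (1 : H) ⊗ₜ[S] t a = t.bc S lam H ((1 : H) ⊗ₜ[S] a) := by
      rw [LamInv.bc_tmul]
    change σ (ρ a) = ρ (t a)
    rw [hσdef, hρdef, hρdef, h1, hform]
    ext k l
    rw [Matrix.map_apply, Matrix.of_apply, map_sum, Matrix.mul_apply]
    simp only [Matrix.mul_apply, Matrix.transpose_apply, Matrix.map_apply, Finset.sum_mul]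
    refine Finset.sum_congr rfl fun i _ => ?_
    rw [map_sum]
    refine Finset.sum_congr rfl fun j _ => ?_
    rw [map_mul, hlamQ, kap, ← incl_apply S R H, map_mul, map_mul, hgg, hgg]
    ring
  have hmain := finrank_Vspan_eq (R := R) (A := A) (⇑lam) t.toAddMonoidHom
    (fun r a => by simpa using t.map_smul r a) (fun a => by simpa using t.invol a)
    (algebraMap S R h₀) hh (lam.commutes h₀) q hq Q.ResidueField hker
    (Matrix (Fin n) (Fin n) Q.ResidueField) ρ hρ hdim
  have hspan := span_image_eq (R := R) (A := A) (⇑lam) t.toAddMonoidHom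
    (fun r a => by simpa using t.map_smul r a) (fun a => by simpa using t.invol a)
    (algebraMap S R h₀) hh (lam.commutes h₀) Q.ResidueField
    (Matrix (Fin n) (Fin n) Q.ResidueField) ρ hρ σ hσ
  rw [← vspan_eq, hmain, hspan]
  rfl


include hlam h2 hn hA in
/-- orthogonal type: the span of the symmetric elements has dimension `n (n + 1) / 2` -/
theorem finrank_plus (H : Type u) [CommRing H] [Algebra S H]
    (hk : HasKUnits S lam t (kap (1 : Matrix (Fin n) (Fin n) R) 1) H)
    (q : PrimeSpectrum R) (hq : ∀ r : R, lam r - r ∈ q.asIdeal)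
    (Q : Ideal (H ⊗[S] R)) [Q.IsPrime] (hQ : Q.comap (incl S R H) = q.asIdeal) :
    Module.finrank q.asIdeal.ResidueField
      (Submodule.span q.asIdeal.ResidueField
        (Set.range fun a : {a : A // t a = a} => (1 : q.asIdeal.ResidueField) ⊗ₜ[R] (a : A))) =
    (n + 1).choose 2 := by
  rw [finrank_sym_of_kunits S R lam hlam h2 A n hn hA t H 1 1 hk q hq Q hQ,
    Matrix.map_one _ (map_zero _) (map_one _),
    finrank_adjSub 1 1 (one_mul 1) 1 (one_mul 1) (by rw [transpose_one, one_smul]), finrank_sym]

include hlam h2 hn hA in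
/-- symplectic type: the span of the symmetric elements has dimension `n (n - 1) / 2` -/
theorem finrank_minus (H : Type u) [CommRing H] [Algebra S H] (m : ℕ) (hm : n = 2 * m)
    (hk : HasKUnits S lam t (kap (Jn R m n hm) (-Jn R m n hm)) H)
    (q : PrimeSpectrum R) (hq : ∀ r : R, lam r - r ∈ q.asIdeal)
    (Q : Ideal (H ⊗[S] R)) [Q.IsPrime] (hQ : Q.comap (incl S R H) = q.asIdeal) :
    Module.finrank q.asIdeal.ResidueField
      (Submodule.span q.asIdeal.ResidueField
        (Set.range fun a : {a : A // t a = a} => (1 : q.asIdeal.ResidueField) ⊗ₜ[R] (a : A))) =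
    n.choose 2 := by
  have h2K : (2 : Q.ResidueField) ≠ 0 := by
    have h1 : IsUnit ((algebraMap R Q.ResidueField) ((algebraMap S R) 2)) :=
      (h2.map (algebraMap S R)).map (algebraMap R Q.ResidueField)
    rw [map_ofNat, map_ofNat] at h1
    exact h1.ne_zero
  have hneg : (-Jn R m n hm).map ((algebraMap (H ⊗[S] R) Q.ResidueField).comp (incl S R H)) =
      -Jn Q.ResidueField m n hm := by
    rw [← Jn_map m n hm ((algebraMap (H ⊗[S] R) Q.ResidueField).comp (incl S R H))]
    ext i j
    simp
  rw [finrank_sym_of_kunits S R lam hlam h2 A n hn hA t H _ _ hk q hq Q hQ, Jn_map, hneg,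
    finrank_adjSub _ _ (Jn_mul_neg m n hm) (-1) (by ring)
      (by rw [Jn_transpose, neg_one_smul]), finrank_skew _ _ h2K]

theorem choose_ne (n : ℕ) (hn : 0 < n) : n.choose 2 ≠ (n + 1).choose 2 := by
  have h1 : (n + 1).choose 2 = n.choose 1 + n.choose 2 := Nat.choose_succ_succ _ _
  rw [Nat.choose_one_right] at h1
  omega

end beta

end Groth.Agent.Lib.Helper15.FRSym2
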