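import Mathlib
import Groth.Prelude.Def_AzInv
import Groth.Prelude.Def_W4c2azumayainvolQEt
import Groth.Agent.Lib.Helper15.FRInv11
import Groth.Agent.Lib.Helper15.FRSym2
import Groth.Agent.Lib.Helper15.FRPrimeTensor

/-!
# Same type iff same signs on the ramification locus (`S17361`, helper15)
-/

set_option autoImplicit false
set_option linter.style.haveILetI false
universe u v w w'

open scoped TensorProduct
open IsLocalRing

namespace Groth.Agent.Lib.Helper15.FRSym3

open Groth.Agent.Lib.Helper15.FRDescent Groth.Agent.Lib.Helper15.FRTheta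
  Groth.Agent.Lib.Helper15.FRInv1 Groth.Agent.Lib.Helper15.FRInv2
  Groth.Agent.Lib.Helper15.FRInv3 Groth.Agent.Lib.Helper15.FRInv4
  Groth.Agent.Lib.Helper15.FRInv5 Groth.Agent.Lib.Helper15.FRInv6
  Groth.Agent.Lib.Helper15.FRInv7 Groth.Agent.Lib.Helper15.FRInv8
  Groth.Agent.Lib.Helper15.FRInv9 Groth.Agent.Lib.Helper15.FRInvSkew
  Groth.Agent.Lib.Helper15.FRInvIso Groth.Agent.Lib.Helper15.FRInvMat
  Groth.Agent.Lib.Helper15.FRInv11 Groth.Agent.Lib.Helper15.FRSym1
  Groth.Agent.Lib.Helper15.FRSym2 AzInv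

attribute [local instance] Algebra.TensorProduct.rightAlgebra

section signs

variable (S : Type u) {R : Type v} [CommRing S] [CommRing R] [Algebra S R]
  (lam : R ≃ₐ[S] R) {A : Type w} [Ring A] [Algebra S A] [Algebra R A] [IsScalarTower S R A]

/-- orthogonal type over `H` -/
def Plus (n : ℕ) (t : AzInv.LamInv R A lam) (H : Type u) [CommRing H] [Algebra S H] : Prop :=
  HasKUnits S lam t (kap (1 : Matrix (Fin n) (Fin n) R) 1) H

/-- symplectic type over `H` -/
def Minus (n : ℕ) (t : AzInv.LamInv R A lam) (H : Type u) [CommRing H] [Algebra S H] : Prop :=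
  ∃ (m : ℕ) (hm : n = 2 * m), HasKUnits S lam t (kap (Jn R m n hm) (-Jn R m n hm)) H

end signs

section calculus

variable (S : Type u) (R : Type v) [CommRing S] [CommRing R] [Algebra S R]
  (lam : R ≃ₐ[S] R) (hlam : ∀ r, lam (lam r) = r) (hfix : RInv.IsFixedRing S R lam.toRingEquiv)
  (A : Type w) [Ring A] [Algebra S A] [Algebra R A] [IsScalarTower S R A]
  (n : ℕ) (hn : 0 < n) (hA : AzInv.IsAzumayaDeg R A n) (t : AzInv.LamInv R A lam)

include hlam hfix hn hA in
/-- an involution is not both orthogonal and symplectic at a ramified point -/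
theorem plus_minus_false (H : Type u) [CommRing H] [Algebra S H] [IsLocalRing H]
    [Module.Flat S H]
    (hid : ∀ c : H ⊗[S] R, lamT S lam H c - c ∈ Ring.jacobson (H ⊗[S] R)) (h2 : IsUnit (2 : H))
    (hp : Plus S lam n t H) (hm : Minus S lam n t H) : False := by
  obtain ⟨m, hm, hM⟩ := hm
  exact no_iso_of_kunits S R lam hlam hfix A A n hn hA hA t t H hid h2 1 1
    (Jn R m n hm) (-Jn R m n hm) (one_mul 1) (Jn_mul_neg m n hm)
    ((LamInv.transpose lam (Fin n) hlam).map_one) (lamTr_Jn S R lam hlam n m hm) hp hM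
    AlgEquiv.refl (fun r x => rfl) (fun x => rfl)

/-- orthogonal type passes to matrix algebras -/
theorem plus_matrix (H : Type u) [CommRing H] [Algebra S H] (hp : Plus S lam n t H)
    (k N : ℕ) (e : Fin n × Fin k ≃ Fin N) : Plus S lam N (t.matrix (Fin k)) H := by
  have h := hasKUnits_matrixAlg t k e 1 1 H hp
  rw [blockG_one] at h
  exact h

include hlam hfix hn hA in
/-- symplectic type passes to matrix algebras -/
theorem minus_matrix (H : Type u) [CommRing H] [Algebra S H] [HenselianLocalRing H]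
    [IsSepClosed (ResidueField H)] [Module.Flat S H]
    (hsqH : ∀ x : Hˣ, ∃ y : H, y * y = x) (h2 : IsUnit (2 : H))
    (hid : ∀ c : H ⊗[S] R, lamT S lam H c - c ∈ Ring.jacobson (H ⊗[S] R))
    (hm : Minus S lam n t H) (k : ℕ) (hk : 0 < k) (e : Fin n × Fin k ≃ Fin (k * n)) :
    Minus S lam (k * n) (t.matrix (Fin k)) H := by
  obtain ⟨m, hm, hM⟩ := hm
  have hAk := isAzumayaDeg_matrixAlg R A n hA k hk
  have hU := hasKUnits_matrixAlg t k e (Jn R m n hm) (-Jn R m n hm) H hM
  rcases classify_two S R lam hlam hfix _ (k * n) (Nat.mul_pos hk hn) hAk (t.matrix (Fin k)) H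
    hsqH h2 with hP | ⟨-, hM'⟩
  · exfalso
    exact no_iso_of_kunits S R lam hlam hfix _ _ (k * n) (Nat.mul_pos hk hn) hAk hAk
      (t.matrix (Fin k)) (t.matrix (Fin k)) H hid h2 1 1
      (blockG e (Jn R m n hm)) (blockG e (-Jn R m n hm)) (one_mul 1)
      (by rw [← blockG_mul, Jn_mul_neg, blockG_one])
      ((LamInv.transpose lam (Fin (k * n)) hlam).map_one)
      (by rw [blockG_lamTr, lamTr_Jn S R lam hlam n m hm, blockG_neg]) hP hU
      AlgEquiv.refl (fun r x => rfl) (fun x => rfl)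
  · exact hM'

variable (A' : Type w') [Ring A'] [Algebra S A'] [Algebra R A'] [IsScalarTower S R A']
  (n' : ℕ) (hn' : 0 < n') (hA' : AzInv.IsAzumayaDeg R A' n') (t' : AzInv.LamInv R A' lam)

include hlam hfix hn hA hn' hA' in
/-- at a ramified point an orthogonal involution is not isomorphic to a symplectic one -/
theorem plus_minus_iso_false (H : Type u) [CommRing H] [Algebra S H] [IsLocalRing H]
    [Module.Flat S H]
    (hid : ∀ c : H ⊗[S] R, lamT S lam H c - c ∈ Ring.jacobson (H ⊗[S] R)) (h2 : IsUnit (2 : H))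
    (hp : Plus S lam n t H) (hm : Minus S lam n' t' H) (hiso : IsoProp S lam t t' H) : False := by
  have hfixH := isFixedRing_lamT S R lam hlam hfix H
  haveI : Nontrivial (H ⊗[S] R) := hfixH.1.nontrivial
  obtain ⟨m, hm, hM⟩ := hm
  obtain rfl : n = n' := degree_eq_of_iso S R lam hlam A A' t t' H n n' hn hn' hA hA' _ _ hp hM hiso
  obtain ⟨f, hf1, hf2⟩ := hiso
  exact no_iso_of_kunits S R lam hlam hfix A A' n hn hA hA' t t' H hid h2 1 1
    (Jn R m n hm) (-Jn R m n hm) (one_mul 1) (Jn_mul_neg m n hm)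
    ((LamInv.transpose lam (Fin n) hlam).map_one) (lamTr_Jn S R lam hlam n m hm) hp hM
    f hf1 hf2

end calculus


section main

variable (S : Type u) (R : Type v) [CommRing S] [CommRing R] [Algebra S R]
  (lam : R ≃ₐ[S] R) (hlam : ∀ r, lam (lam r) = r) (hfix : RInv.IsFixedRing S R lam.toRingEquiv)
  (h2 : IsUnit (2 : S))
  (A : Type w) [Ring A] [Algebra S A] [Algebra R A] [IsScalarTower S R A]
  (A' : Type w') [Ring A'] [Algebra S A'] [Algebra R A'] [IsScalarTower S R A']
  (n n' : ℕ) (hn : 0 < n) (hn' : 0 < n') (hA : AzInv.IsAzumayaDeg R A n)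
  (hA' : AzInv.IsAzumayaDeg R A' n')
  (t : AzInv.LamInv R A lam) (t' : AzInv.LamInv R A' lam)

include hlam hfix h2 hn hn' hA hA' in
theorem sameType_imp (hST : AzInv.SameType S lam t t') (q : PrimeSpectrum R)
    (hq : ∀ r : R, lam r - r ∈ q.asIdeal) :
    (Module.finrank q.asIdeal.ResidueField
        (Submodule.span q.asIdeal.ResidueField
          (Set.range fun a : {a : A // t a = a} =>
            (1 : q.asIdeal.ResidueField) ⊗ₜ[R] (a : A))) = Nat.choose (n + 1) 2 ↔
      Module.finrank q.asIdeal.ResidueField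
        (Submodule.span q.asIdeal.ResidueField
          (Set.range fun a : {a : A' // t' a = a} =>
            (1 : q.asIdeal.ResidueField) ⊗ₜ[R] (a : A'))) = Nat.choose (n' + 1) 2) := by
  classical
  let p : PrimeSpectrum S := ⟨q.asIdeal.comap (algebraMap S R), inferInstance⟩
  obtain ⟨H, _, _, _, _, _, hind, hp⟩ := exists_strictHensel_at S p
  have h2H : IsUnit (2 : H) := by
    have := h2.map (algebraMap S H)
    rwa [map_ofNat] at this
  have hsqH := units_sq_of_two H h2H
  obtain ⟨Q, hQprime, -, hQ⟩ := Groth.Agent.Lib.Helper15.FRPrimeTensor.exists_prime_tensor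
    (R := S) (S := H) (T := R) (maximalIdeal H) q.asIdeal (by rw [hp])
  haveI := hQprime
  have hQ' : Q.comap (incl S R H) = q.asIdeal := hQ
  obtain ⟨k, k', hk, hk', hiso⟩ := isoProp_of_sameType S R lam A A' t t' hST H
  let e : Fin n × Fin k ≃ Fin (k * n) := finProdFinEquiv.trans (finCongr (Nat.mul_comm n k))
  let e' : Fin n' × Fin k' ≃ Fin (k' * n') := finProdFinEquiv.trans (finCongr (Nat.mul_comm n' k'))
  have hAk := isAzumayaDeg_matrixAlg R A n hA k hk
  have hAk' := isAzumayaDeg_matrixAlg R A' n' hA' k' hk'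
  rcases classify_two S R lam hlam hfix A n hn hA t H hsqH h2H with hP | ⟨hid, hM⟩ <;>
  rcases classify_two S R lam hlam hfix A' n' hn' hA' t' H hsqH h2H with hP' | ⟨hid', hM'⟩
  · rw [finrank_plus S R lam hlam h2 A n hn hA t H hP q hq Q hQ',
      finrank_plus S R lam hlam h2 A' n' hn' hA' t' H hP' q hq Q hQ']
    exact iff_of_true rfl rfl
  · exfalso
    exact plus_minus_iso_false S R lam hlam hfix _ (k * n) (Nat.mul_pos hk hn) hAk
      (t.matrix (Fin k)) _ (k' * n') (Nat.mul_pos hk' hn') hAk' (t'.matrix (Fin k')) H hid' h2H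
      (plus_matrix S R lam A n t H hP k _ e)
      (minus_matrix S R lam hlam hfix A' n' hn' hA' t' H hsqH h2H hid' hM' k' hk' e') hiso
  · exfalso
    exact plus_minus_iso_false S R lam hlam hfix _ (k' * n') (Nat.mul_pos hk' hn') hAk'
      (t'.matrix (Fin k')) _ (k * n) (Nat.mul_pos hk hn) hAk (t.matrix (Fin k)) H hid h2H
      (plus_matrix S R lam A' n' t' H hP' k' _ e')
      (minus_matrix S R lam hlam hfix A n hn hA t H hsqH h2H hid hM k hk e) hiso.symm
  · obtain ⟨m, hm, hM⟩ := hM
    obtain ⟨m', hm', hM'⟩ := hM'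
    rw [finrank_minus S R lam hlam h2 A n hn hA t H m hm hM q hq Q hQ',
      finrank_minus S R lam hlam h2 A' n' hn' hA' t' H m' hm' hM' q hq Q hQ']
    exact iff_of_false (choose_ne n hn) (choose_ne n' hn')

include hlam hfix h2 hn hn' hA hA' in
theorem sameType_of (hsign : ∀ q : PrimeSpectrum R, (∀ r : R, lam r - r ∈ q.asIdeal) →
    (Module.finrank q.asIdeal.ResidueField
        (Submodule.span q.asIdeal.ResidueField
          (Set.range fun a : {a : A // t a = a} =>
            (1 : q.asIdeal.ResidueField) ⊗ₜ[R] (a : A))) = Nat.choose (n + 1) 2 ↔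
      Module.finrank q.asIdeal.ResidueField
        (Submodule.span q.asIdeal.ResidueField
          (Set.range fun a : {a : A' // t' a = a} =>
            (1 : q.asIdeal.ResidueField) ⊗ₜ[R] (a : A'))) = Nat.choose (n' + 1) 2)) :
    AzInv.SameType S lam t t' := by
  classical
  refine ⟨n', n, hn', hn, ?_⟩
  have hA₁ : AzInv.IsAzumayaDeg R (Matrix (Fin n') (Fin n') A) (n' * n) :=
    isAzumayaDeg_matrixAlg R A n hA n' hn'
  have hA₂ : AzInv.IsAzumayaDeg R (Matrix (Fin n) (Fin n) A') (n' * n) := by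
    have := isAzumayaDeg_matrixAlg R A' n' hA' n hn
    rwa [Nat.mul_comm] at this
  apply locIsoEt_of_forall_loc S R lam hlam _ _ (n' * n) (Nat.mul_pos hn' hn) hA₁ hA₂
  intro p
  obtain ⟨H, _, _, _, _, _, hind, hp⟩ := exists_strictHensel_at S p
  have h2H : IsUnit (2 : H) := by
    have := h2.map (algebraMap S H)
    rwa [map_ofNat] at this
  have hsqH := units_sq_of_two H h2H
  let e₁ : Fin n × Fin n' ≃ Fin (n' * n) := finProdFinEquiv.trans (finCongr (Nat.mul_comm n n'))
  let e₂ : Fin n' × Fin n ≃ Fin (n' * n) := finProdFinEquiv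
  let e₂' : Fin n' × Fin n ≃ Fin (n * n') := finProdFinEquiv.trans (finCongr (Nat.mul_comm n' n))
  have hfixH := isFixedRing_lamT S R lam hlam hfix H
  haveI : Nontrivial (H ⊗[S] R) := hfixH.1.nontrivial
  -- a ramified prime above `p` when the involution is the identity modulo the radical
  have hram : (∀ c : H ⊗[S] R, lamT S lam H c - c ∈ Ring.jacobson (H ⊗[S] R)) →
      ∃ (q : PrimeSpectrum R) (Q : Ideal (H ⊗[S] R)) (_ : Q.IsPrime),
        Q.comap (incl S R H) = q.asIdeal ∧ ∀ r : R, lam r - r ∈ q.asIdeal := by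
    intro hid
    obtain ⟨Q, hQ⟩ := Ideal.exists_maximal (H ⊗[S] R)
    haveI := hQ.isPrime
    refine ⟨⟨Q.comap (incl S R H), inferInstance⟩, Q, hQ.isPrime, rfl, fun r => ?_⟩
    change incl S R H (lam r - r) ∈ Q
    have h1 : incl S R H (lam r - r) = lamT S lam H (incl S R H r) - incl S R H r := by
      rw [map_sub, incl_apply, incl_apply, lamT_tmul]
    rw [h1]
    have h3 := hid (incl S R H r)
    rw [← Ideal.jacobson_bot] at h3
    exact (Ideal.mem_sInf.mp h3) ⟨bot_le, hQ⟩
  rcases classify_two S R lam hlam hfix A n hn hA t H hsqH h2H with hP | ⟨hid, hM⟩ <;>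
  rcases classify_two S R lam hlam hfix A' n' hn' hA' t' H hsqH h2H with hP' | ⟨hid', hM'⟩
  · exact ⟨kap 1 1, loc_of_hensel p H hind hp (plus_matrix S R lam A n t H hP n' _ e₁),
      loc_of_hensel p H hind hp (plus_matrix S R lam A' n' t' H hP' n _ e₂)⟩
  · exfalso
    obtain ⟨q, Q, hQprime, hQ, hq⟩ := hram hid'
    haveI := hQprime
    obtain ⟨m', hm', hM'⟩ := hM'
    have h1 := hsign q hq
    rw [finrank_plus S R lam hlam h2 A n hn hA t H hP q hq Q hQ,
      finrank_minus S R lam hlam h2 A' n' hn' hA' t' H m' hm' hM' q hq Q hQ] at h1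
    exact choose_ne n' hn' (h1.mp rfl)
  · exfalso
    obtain ⟨q, Q, hQprime, hQ, hq⟩ := hram hid
    haveI := hQprime
    obtain ⟨m, hm, hM⟩ := hM
    have h1 := hsign q hq
    rw [finrank_minus S R lam hlam h2 A n hn hA t H m hm hM q hq Q hQ,
      finrank_plus S R lam hlam h2 A' n' hn' hA' t' H hP' q hq Q hQ] at h1
    exact choose_ne n hn (h1.mpr rfl)
  · obtain ⟨m₁, hm₁, h₁⟩ := minus_matrix S R lam hlam hfix A n hn hA t H hsqH h2H hid hM n' hn' e₁
    have hM₂ := minus_matrix S R lam hlam hfix A' n' hn' hA' t' H hsqH h2H hid hM' n hn e₂'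
    obtain ⟨m₂, hm₂, h₂⟩ : Minus S lam (n' * n) (t'.matrix (Fin n)) H := by
      have hc : n * n' = n' * n := Nat.mul_comm n n'
      rw [← hc]
      exact hM₂
    obtain rfl : m₁ = m₂ := by omega
    exact ⟨kap (Jn R m₁ (n' * n) hm₁) (-Jn R m₁ (n' * n) hm₁),
      loc_of_hensel p H hind hp h₁, loc_of_hensel p H hind hp h₂⟩

end main

end Groth.Agent.Lib.Helper15.FRSym3
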