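import Mathlib
import Groth.Agent.Lib.Helper15.TSFlat
import Groth.Agent.Lib.Helper15.TSNoether
import Groth.Agent.Lib.Helper15.LawLocal

/-!
# Multiplicative laws `K → k` for a finite field extension, part 1 (helper15)

* `mkMulLaw`: multiplicativity and homogeneity of a law can be checked over ring test algebras
* `exists_extension`: an algebra map `TS^d_k(K) → k` extends to `T^d_k(K) → Ω`
* `exists_poly`: the polynomials `∏ i, (X - σ i x)` have coefficients in `k`
-/

set_option autoImplicit false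
universe u
open scoped TensorProduct
open Polynomial

namespace Groth.Agent.Lib.Helper15.FieldLaw1

open Groth.Agent.Lib.Helper15.TSLaw

section mk

variable {A : Type u} [CommRing A] {B : Type u} [CommRing B] [Algebra A B]
  {C : Type u} [CommRing C] [Algebra A C]

theorem rTensor_smul' {S S' : Type u} [CommSemiring S] [Algebra A S] [CommSemiring S']
    [Algebra A S'] (φ : S →ₐ[A] S') (s : S) (x : S ⊗[A] B) :
    φ.toLinearMap.rTensor B (s • x) = φ s • φ.toLinearMap.rTensor B x := by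
  induction x using TensorProduct.induction_on with
  | zero => simp
  | tmul t b =>
    rw [TensorProduct.smul_tmul', LinearMap.rTensor_tmul, LinearMap.rTensor_tmul,
      TensorProduct.smul_tmul', AlgHom.toLinearMap_apply, AlgHom.toLinearMap_apply, smul_eq_mul,
      smul_eq_mul, map_mul]
  | add x y hx hy => rw [smul_add, map_add, map_add, smul_add, hx, hy]

theorem rTensor_mul' {S S' : Type u} [CommSemiring S] [Algebra A S] [CommSemiring S']
    [Algebra A S'] (φ : S →ₐ[A] S') (x y : S ⊗[A] B) :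
    φ.toLinearMap.rTensor B (x * y) = φ.toLinearMap.rTensor B x * φ.toLinearMap.rTensor B y := by
  simp only [PolLaw.rTensor_algHom_apply, map_mul]

theorem rTensor_one' {S S' : Type u} [CommSemiring S] [Algebra A S] [CommSemiring S']
    [Algebra A S'] (φ : S →ₐ[A] S') :
    φ.toLinearMap.rTensor B (1 : S ⊗[A] B) = 1 := by
  simp only [PolLaw.rTensor_algHom_apply, map_one]

/-- multiplicativity and homogeneity can be checked over ring test algebras -/
noncomputable def mkMulLaw (F : B →ₚₗ[A] C) (d : ℕ)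
    (hm : ∀ (S : Type u) [CommRing S] [Algebra A S], F.toFun' S 1 = 1 ∧
      ∀ x y : S ⊗[A] B, F.toFun' S (x * y) = F.toFun' S x * F.toFun' S y)
    (hh : ∀ (S : Type u) [CommRing S] [Algebra A S] (a : S) (z : S ⊗[A] B),
      F.toFun' S (a • z) = a ^ d • F.toFun' S z) :
    PolLaw.MulLaw A B C d where
  law := F
  homog S _ _ s x := by
    rw [LawLocal.eq_of_ring F S (s • x), LawLocal.eq_of_ring F S x, rTensor_smul', hh,
      rTensor_smul', map_pow]
    congr 2
    exact (Algebra.TensorProduct.lid A S).apply_symm_apply s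
  mult S _ _ := by
    refine ⟨?_, fun x y => ?_⟩
    · rw [LawLocal.eq_of_ring F S 1, rTensor_one', (hm _).1, rTensor_one']
    · rw [LawLocal.eq_of_ring F S (x * y), LawLocal.eq_of_ring F S x, LawLocal.eq_of_ring F S y,
        rTensor_mul', (hm _).2, rTensor_mul']

end mk

section ext

variable {k : Type u} [Field k] {K : Type u} [Field K] [Algebra k K] [FiniteDimensional k K]
  (d : ℕ) (Ω : Type u) [Field Ω] [Algebra k Ω] [IsAlgClosed Ω]

/-- an algebra map `TS^d_k(K) → k` extends to `T^d_k(K) → Ω` -/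
theorem exists_extension (φ : SymTen.TS k K d →ₐ[k] k) :
    ∃ ψ : (⨂[k] _ : Fin d, K) →ₐ[k] Ω, ∀ t : SymTen.TS k K d, ψ t.1 = algebraMap k Ω (φ t) := by
  haveI := TSNoether.isIntegral k K d
  have hsurj : Function.Surjective (φ : SymTen.TS k K d →+* k) := fun c =>
    ⟨algebraMap k _ c, by simp⟩
  haveI hmax : (RingHom.ker (φ : SymTen.TS k K d →+* k)).IsMaximal :=
    RingHom.ker_isMaximal_of_surjective _ hsurj
  obtain ⟨Q, hQ, hcomap⟩ := Ideal.exists_ideal_over_maximal_of_isIntegral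
    (S := ⨂[k] _ : Fin d, K) (RingHom.ker (φ : SymTen.TS k K d →+* k)) (by
      have : RingHom.ker (algebraMap (SymTen.TS k K d) (⨂[k] _ : Fin d, K)) = ⊥ :=
        (RingHom.injective_iff_ker_eq_bot _).1 Subtype.val_injective
      rw [this]
      exact bot_le)
  haveI := hQ
  letI : Field ((⨂[k] _ : Fin d, K) ⧸ Q) := Ideal.Quotient.field Q
  haveI : Module.Finite k ((⨂[k] _ : Fin d, K) ⧸ Q) :=
    Module.Finite.of_surjective (Ideal.Quotient.mkₐ k Q).toLinearMap
      (Ideal.Quotient.mkₐ_surjective k Q)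
  haveI : Algebra.IsAlgebraic k ((⨂[k] _ : Fin d, K) ⧸ Q) := Algebra.IsAlgebraic.of_finite k _
  let l : ((⨂[k] _ : Fin d, K) ⧸ Q) →ₐ[k] Ω := IsAlgClosed.lift
  refine ⟨l.comp (Ideal.Quotient.mkₐ k Q), fun t => ?_⟩
  have h1 : t - algebraMap k _ (φ t) ∈ RingHom.ker (φ : SymTen.TS k K d →+* k) := by
    rw [RingHom.mem_ker]
    simp
  rw [← hcomap, Ideal.mem_comap] at h1
  have h2 : Ideal.Quotient.mk Q (t.1 - algebraMap k _ (φ t)) = 0 :=
    Ideal.Quotient.eq_zero_iff_mem.2 h1
  rw [map_sub, sub_eq_zero] at h2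
  show l (Ideal.Quotient.mk Q t.1) = _
  rw [h2]
  have : Ideal.Quotient.mk Q (algebraMap k (⨂[k] _ : Fin d, K) (φ t)) =
      algebraMap k ((⨂[k] _ : Fin d, K) ⧸ Q) (φ t) := rfl
  rw [this, AlgHom.commutes]

/-- the polynomials `∏ i, (X - σ i x)` have coefficients in `k` -/
theorem exists_poly (φ : SymTen.TS k K d →ₐ[k] k) (ψ : (⨂[k] _ : Fin d, K) →ₐ[k] Ω)
    (hψ : ∀ t : SymTen.TS k K d, ψ t.1 = algebraMap k Ω (φ t)) (x : K) :
    ∃ P : k[X], P.map (algebraMap k Ω) = ∏ i : Fin d, (X - C (ψ (sg K d i x))) := by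
  set c : (⨂[k] _ : Fin d, K)[X] := ∏ i : Fin d, (X - C (sg K d i x)) with hc
  have hinv : ∀ τ : Equiv.Perm (Fin d),
      c.map (SymTen.perm k K d τ : (⨂[k] _ : Fin d, K) →+* (⨂[k] _ : Fin d, K)) = c := by
    intro τ
    rw [hc, Polynomial.map_prod]
    simp only [Polynomial.map_sub, Polynomial.map_X, Polynomial.map_C, RingHom.coe_coe, perm_sg]
    exact Equiv.prod_comp τ (fun i => X - C (sg K d i x))
  have hcoeff : ∀ n, c.coeff n ∈ SymTen.TS k K d := by
    intro n τ
    rw [← SymTen.perm_apply]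
    have := congrArg (fun p => p.coeff n) (hinv τ)
    simpa [Polynomial.coeff_map] using this
  have hlift : c ∈ Polynomial.lifts (algebraMap (SymTen.TS k K d) (⨂[k] _ : Fin d, K)) := by
    rw [Polynomial.lifts_iff_coeff_lifts]
    intro n
    exact ⟨⟨c.coeff n, hcoeff n⟩, rfl⟩
  obtain ⟨c₀, hc₀⟩ := hlift
  refine ⟨c₀.map (φ : SymTen.TS k K d →+* k), ?_⟩
  rw [Polynomial.map_map]
  have hcomp : (algebraMap k Ω).comp (φ : SymTen.TS k K d →+* k) =
      (ψ : (⨂[k] _ : Fin d, K) →+* Ω).comp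
        (algebraMap (SymTen.TS k K d) (⨂[k] _ : Fin d, K)) := by
    ext t
    exact (hψ t).symm
  have hc₀' : c₀.map (algebraMap (SymTen.TS k K d) (⨂[k] _ : Fin d, K)) = c := hc₀
  rw [hcomp, ← Polynomial.map_map, hc₀', hc, Polynomial.map_prod]
  simp only [Polynomial.map_sub, Polynomial.map_X, Polynomial.map_C, RingHom.coe_coe]

end ext

end Groth.Agent.Lib.Helper15.FieldLaw1
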