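import Mathlib
import Groth.Agent.Lib.Helper15.FieldLaw1

set_option autoImplicit false
universe u
open scoped TensorProduct
open Polynomial

namespace Groth.Agent.Lib.Helper15.FieldLaw2

open Groth.Agent.Lib.Helper15.TSLaw Groth.Agent.Lib.Helper15.FieldLaw1

section balanced

variable {k : Type u} [Field k] {K : Type u} [Field K] [Algebra k K] [FiniteDimensional k K]
  (Ω : Type u) [Field Ω] [Algebra k Ω] [IsAlgClosed Ω]

/-- a separable element of `K` detecting embeddings -/
theorem exists_detecting :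
    ∃ x : K, x ∈ separableClosure k K ∧ ∀ ρ ρ' : K →ₐ[k] Ω, ρ x = ρ' x → ρ = ρ' := by
  obtain ⟨α, hα⟩ := Field.exists_primitive_element k (separableClosure k K)
  have hinj := (Field.primitive_element_iff_algHom_eq_of_eval' k Ω
    (fun x => IsAlgClosed.splits _) α).1 hα
  refine ⟨α.1, α.2, fun ρ ρ' h => ?_⟩
  have h1 : ρ.comp (separableClosure k K).val = ρ'.comp (separableClosure k K).val := hinj h
  exact IsPurelyInseparable.injective_restrictDomain (separableClosure k K) K k Ω h1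

open Classical in
theorem card_filter_eq_rootMultiplicity {d : ℕ} (σ : Fin d → (K →ₐ[k] Ω)) (x : K)
    (hx : ∀ ρ ρ' : K →ₐ[k] Ω, ρ x = ρ' x → ρ = ρ') (ρ : K →ₐ[k] Ω) :
    (Finset.univ.filter (fun i => σ i = ρ)).card =
      rootMultiplicity (ρ x) (∏ i, (X - C (σ i x))) := by
  classical
  rw [← Polynomial.count_roots]
  have h1 : (∏ i, (X - C (σ i x)) : Polynomial Ω) =
      ((Finset.univ.val.map (fun i => σ i x)).map (fun a => X - C a)).prod := by
    rw [Multiset.map_map]
    rfl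
  rw [h1, Polynomial.roots_multiset_prod_X_sub_C, Multiset.count_map]
  show _ = (Finset.univ.filter (fun i => ρ x = σ i x)).card
  congr 1
  ext i
  simp only [Finset.mem_filter, Finset.mem_univ, true_and]
  exact ⟨fun h => by rw [h], fun h => (hx _ _ h).symm⟩

variable [Algebra.IsAlgebraic k Ω]

open Classical in
/-- **the multiset of embeddings attached to a multiplicative law is balanced** -/
theorem card_fiber_eq {d : ℕ} (σ : Fin d → (K →ₐ[k] Ω))
    (hA : ∀ x : K, ∃ P : k[X], P.map (algebraMap k Ω) = ∏ i, (X - C (σ i x)))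
    (ρ ρ' : K →ₐ[k] Ω) :
    (Finset.univ.filter (fun i => σ i = ρ)).card =
      (Finset.univ.filter (fun i => σ i = ρ')).card := by
  classical
  obtain ⟨x, -, hx⟩ := exists_detecting (k := k) (K := K) Ω
  obtain ⟨P, hP⟩ := hA x
  rw [card_filter_eq_rootMultiplicity Ω σ x hx, card_filter_eq_rootMultiplicity Ω σ x hx, ← hP]
  -- an endomorphism of `Ω` moving `ρ` to `ρ'`
  letI : Algebra K Ω := ρ.toRingHom.toAlgebra
  haveI : IsScalarTower k K Ω := IsScalarTower.of_algebraMap_eq (fun c => (ρ.commutes c).symm)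
  haveI : Algebra.IsAlgebraic K Ω := Algebra.IsAlgebraic.tower_top K (K := k)
  obtain ⟨τ, hτ⟩ := IsAlgClosed.surjective_domRestrict_of_isAlgebraic (K := k) (L := K) (M := Ω)
    (E := Ω) ρ'
  have hτ' : τ (ρ x) = ρ' x := by
    have := congrArg (fun f : K →ₐ[k] Ω => f x) hτ
    exact this
  rw [Polynomial.eq_rootMultiplicity_map (f := (τ : Ω →+* Ω)) τ.injective (ρ x),
    Polynomial.map_map]
  have hcomp : (τ : Ω →+* Ω).comp (algebraMap k Ω) = algebraMap k Ω := by
    ext c
    exact τ.commutes c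
  rw [hcomp]
  show rootMultiplicity (τ (ρ x)) _ = _
  rw [hτ']

end balanced

section perm

/-- two functions with the same fibre cardinalities differ by a permutation -/
theorem exists_perm {ι E : Type*} [Fintype ι] [DecidableEq E] (σ σ' : ι → E)
    (h : ∀ ρ, (Finset.univ.filter (fun i => σ i = ρ)).card =
      (Finset.univ.filter (fun i => σ' i = ρ)).card) :
    ∃ τ : Equiv.Perm ι, ∀ i, σ' i = σ (τ i) := by
  classical
  have hcard : ∀ ρ, Fintype.card {i // σ' i = ρ} = Fintype.card {i // σ i = ρ} := by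
    intro ρ
    rw [Fintype.card_subtype, Fintype.card_subtype, h]
  let e : ∀ ρ, {i // σ' i = ρ} ≃ {i // σ i = ρ} := fun ρ => Fintype.equivOfCardEq (hcard ρ)
  refine ⟨(Equiv.sigmaFiberEquiv σ').symm.trans
    ((Equiv.sigmaCongrRight e).trans (Equiv.sigmaFiberEquiv σ)), fun i => ?_⟩
  exact ((e (σ' i)) ⟨i, rfl⟩).2.symm

end perm

section unique

variable {k : Type u} [Field k] {K : Type u} [Field K] [Algebra k K] [FiniteDimensional k K]
  (Ω : Type u) [Field Ω] [Algebra k Ω] [IsAlgClosed Ω] [Algebra.IsAlgebraic k Ω]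

open Classical in
/-- the common fibre cardinality -/
theorem card_mul_eq {d : ℕ} (σ : Fin d → (K →ₐ[k] Ω))
    (hA : ∀ x : K, ∃ P : k[X], P.map (algebraMap k Ω) = ∏ i, (X - C (σ i x)))
    (ρ : K →ₐ[k] Ω) :
    Fintype.card (K →ₐ[k] Ω) * (Finset.univ.filter (fun i => σ i = ρ)).card = d := by
  have h1 : (Finset.univ : Finset (Fin d)).card =
      ∑ ρ' : K →ₐ[k] Ω, (Finset.univ.filter (fun i => σ i = ρ')).card :=
    Finset.card_eq_sum_card_fiberwise (f := σ) (fun i _ => Finset.mem_univ _)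
  rw [Finset.card_univ, Fintype.card_fin] at h1
  rw [Finset.sum_congr rfl (fun ρ' _ => card_fiber_eq Ω σ hA ρ' ρ), Finset.sum_const,
    Finset.card_univ, smul_eq_mul] at h1
  exact h1.symm

end unique

section unique'

variable {k : Type u} [Field k] {K : Type u} [Field K] [Algebra k K] [FiniteDimensional k K]
  (d : ℕ)

/-- **there is at most one algebra map `TS^d_k(K) → k`** -/
theorem phi_unique (φ φ' : SymTen.TS k K d →ₐ[k] k) : φ = φ' := by
  classical
  obtain ⟨Ω, _, _, _, _⟩ : ∃ (Ω : Type u) (_ : Field Ω) (_ : Algebra k Ω) (_ : IsAlgClosed Ω),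
      Algebra.IsAlgebraic k Ω :=
    ⟨AlgebraicClosure k, inferInstance, inferInstance, inferInstance, inferInstance⟩
  obtain ⟨ψ, hψ⟩ := exists_extension d Ω φ
  obtain ⟨ψ', hψ'⟩ := exists_extension d Ω φ'
  set σ : Fin d → (K →ₐ[k] Ω) := fun i => ψ.comp (sg K d i) with hσ
  set σ' : Fin d → (K →ₐ[k] Ω) := fun i => ψ'.comp (sg K d i) with hσ'
  have hA : ∀ x : K, ∃ P : k[X], P.map (algebraMap k Ω) = ∏ i, (X - C (σ i x)) :=
    fun x => exists_poly d Ω φ ψ hψ x
  have hA' : ∀ x : K, ∃ P : k[X], P.map (algebraMap k Ω) = ∏ i, (X - C (σ' i x)) :=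
    fun x => exists_poly d Ω φ' ψ' hψ' x
  have hfib : ∀ ρ, (Finset.univ.filter (fun i => σ i = ρ)).card =
      (Finset.univ.filter (fun i => σ' i = ρ)).card := by
    intro ρ
    have h1 := card_mul_eq Ω σ hA ρ
    have h2 := card_mul_eq Ω σ' hA' ρ
    have hpos : 0 < Fintype.card (K →ₐ[k] Ω) := Fintype.card_pos_iff.2 ⟨ρ⟩
    exact Nat.eq_of_mul_eq_mul_left hpos (h1.trans h2.symm)
  obtain ⟨τ, hτ⟩ := exists_perm σ σ' hfib
  have hψψ' : ψ' = ψ.comp (SymTen.perm k K d τ) := by
    apply PiTensorProduct.algHom_ext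
    intro i
    apply AlgHom.ext
    intro x
    show ψ' (sg K d i x) = ψ (SymTen.perm k K d τ (sg K d i x))
    rw [perm_sg]
    exact congrArg (fun f : K →ₐ[k] Ω => f x) (hτ i)
  apply AlgHom.ext
  intro t
  apply (algebraMap k Ω).injective
  rw [← hψ, ← hψ', hψψ', AlgHom.comp_apply, SymTen.perm_apply, t.2 τ]

end unique'

end Groth.Agent.Lib.Helper15.FieldLaw2
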