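import Mathlib
import Groth.Agent.Lib.Helper15.FieldLaw2

/-!
# Multiplicative laws `K → k` for a finite field extension, part 3 (helper15)
-/

set_option autoImplicit false
universe u
open scoped TensorProduct
open Polynomial

namespace Groth.Agent.Lib.Helper15.FieldLaw3

open Groth.Agent.Lib.Helper15.TSLaw Groth.Agent.Lib.Helper15.FieldLaw1
  Groth.Agent.Lib.Helper15.FieldLaw2

section regroup

variable {k : Type u} [Field k] {K : Type u} [Field K] [Algebra k K] [FiniteDimensional k K]
  (Ω : Type u) [Field Ω] [Algebra k Ω] [IsAlgClosed Ω]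

open Classical in
/-- regrouping the product by fibres -/
theorem prod_eq {d : ℕ} (σ : Fin d → (K →ₐ[k] Ω)) (m : ℕ)
    (hm : ∀ ρ, (Finset.univ.filter (fun i => σ i = ρ)).card = m) (x : K) :
    ∏ i, (X - C (σ i x)) = (∏ ρ : K →ₐ[k] Ω, (X - C (ρ x))) ^ m := by
  rw [← Finset.prod_fiberwise Finset.univ σ (fun i => X - C (σ i x)), ← Finset.prod_pow]
  refine Finset.prod_congr rfl fun ρ _ => ?_
  rw [← hm ρ, ← Finset.prod_const]
  refine Finset.prod_congr rfl fun i hi => ?_
  rw [(Finset.mem_filter.1 hi).2]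

/-- the sum of the conjugates of a `p^a`-th power lies in `k` -/
theorem tr_mem (p : ℕ) [hp : Fact p.Prime] [CharP k p] (a n' : ℕ) (hn' : ¬ p ∣ n') (hn'0 : 0 < n')
    (ρ₀ : K →ₐ[k] Ω)
    (x : K) (P : k[X])
    (hP : P.map (algebraMap k Ω) = (∏ ρ : K →ₐ[k] Ω, (X - C (ρ x))) ^ (p ^ a * n')) :
    ∑ ρ : K →ₐ[k] Ω, ρ (x ^ p ^ a) ∈ (algebraMap k Ω).range := by
  haveI : CharP Ω p := charP_of_injective_algebraMap (algebraMap k Ω).injective p
  haveI : ExpChar Ω p := ExpChar.prime hp.out
  set Q : Polynomial Ω := ∏ ρ : K →ₐ[k] Ω, (X - C (ρ (x ^ p ^ a))) with hQ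
  have h1 : (∏ ρ : K →ₐ[k] Ω, (X - C (ρ x))) ^ p ^ a = expand Ω (p ^ a) Q := by
    rw [← Finset.prod_pow, hQ, map_prod]
    refine Finset.prod_congr rfl fun ρ _ => ?_
    rw [sub_pow_expChar_pow, map_sub, expand_X, expand_C, ← C_pow, ← map_pow ρ]
  have h2 : P.map (algebraMap k Ω) = expand Ω (p ^ a) (Q ^ n') := by
    rw [hP, pow_mul, h1, map_pow]
  have hpa : 0 < p ^ a := pow_pos hp.out.pos a
  have hcoeff : ∀ j, (Q ^ n').coeff j ∈ (algebraMap k Ω).range := by
    intro j
    rw [← coeff_expand_mul hpa, ← h2, coeff_map]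
    exact ⟨_, rfl⟩
  have hQm : Q.Monic := monic_prod_X_sub_C _ _
  have hdeg : (Q ^ n').natDegree ≠ 0 := by
    rw [hQm.natDegree_pow, hQ, natDegree_finsetProd_X_sub_C_eq_card, Finset.card_univ]
    have : 0 < Fintype.card (K →ₐ[k] Ω) := Fintype.card_pos_iff.2 ⟨ρ₀⟩
    exact (Nat.mul_pos hn'0 this).ne'
  have hnext : (Q ^ n').nextCoeff = n' • (-∑ ρ : K →ₐ[k] Ω, ρ (x ^ p ^ a)) := by
    rw [hQm.nextCoeff_pow, hQ, prod_X_sub_C_nextCoeff]
  have h3 : (Q ^ n').nextCoeff ∈ (algebraMap k Ω).range := by
    rw [nextCoeff, if_neg hdeg]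
    exact hcoeff _
  rw [hnext] at h3
  obtain ⟨c, hc⟩ := h3
  have hn'k : (n' : k) ≠ 0 := by
    intro h
    exact hn' ((CharP.cast_eq_zero_iff k p n').1 h)
  refine ⟨-(c / (n' : k)), ?_⟩
  rw [map_neg, map_div₀, hc, map_natCast, nsmul_eq_mul, neg_eq_iff_eq_neg, mul_comm,
    mul_div_assoc, div_self, mul_one]
  rw [← map_natCast (algebraMap k Ω)]
  exact (_root_.map_ne_zero _).2 hn'k

end regroup

section trace

variable {k : Type u} [Field k] {K : Type u} [Field K] [Algebra k K] [FiniteDimensional k K]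
  (Ω : Type u) [Field Ω] [Algebra k Ω] [IsAlgClosed Ω]

/-- an element all of whose `K_s`-multiples have "trace" in `k` is separable -/
theorem mem_sep_of_tr (y : K)
    (hy : ∀ c : separableClosure k K,
      ∑ ρ : K →ₐ[k] Ω, ρ (c.1 * y) ∈ (algebraMap k Ω).range) :
    y ∈ separableClosure k K := by
  classical
  choose f hf using hy
  let lam : separableClosure k K →ₗ[k] k :=
    { toFun := f
      map_add' := fun c c' => by
        apply (algebraMap k Ω).injective
        rw [map_add, hf, hf, hf, ← Finset.sum_add_distrib]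
        refine Finset.sum_congr rfl fun ρ _ => ?_
        rw [← map_add]
        congr 1
        show (c.1 + c'.1) * y = _
        ring
      map_smul' := fun r c => by
        apply (algebraMap k Ω).injective
        rw [hf, RingHom.id_apply, smul_eq_mul, map_mul, hf, Finset.mul_sum]
        refine Finset.sum_congr rfl fun ρ _ => ?_
        have : (r • c).1 * y = r • (c.1 * y) := by
          show (r • c.1) * y = _
          rw [smul_mul_assoc]
        rw [this, map_smul, Algebra.smul_def] }
  have hnd := traceForm_nondegenerate k (separableClosure k K)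
  obtain ⟨b, hb⟩ : ∃ b : separableClosure k K,
      ∀ c : separableClosure k K, Algebra.trace k (separableClosure k K) (b * c) = f c := by
    refine ⟨((Algebra.traceForm k (separableClosure k K)).toDual hnd).symm lam, fun c => ?_⟩
    have := LinearMap.BilinForm.apply_toDual_symm_apply
      (B := Algebra.traceForm k (separableClosure k K)) (hB := hnd) lam c
    rwa [Algebra.traceForm_apply] at this
  have hbij := IsPurelyInseparable.bijective_restrictDomain (separableClosure k K) K k Ω
  have hsum : ∀ c : separableClosure k K,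
      ∑ ρ : K →ₐ[k] Ω, ρ (c.1 * y) = ∑ ρ : K →ₐ[k] Ω, ρ (b.1 * c.1) := by
    intro c
    rw [← hf c, ← hb c, trace_eq_sum_embeddings Ω]
    exact (Fintype.sum_bijective _ hbij _ _ (fun ρ => rfl)).symm
  have hli : LinearIndependent Ω
      (fun ρ : K →ₐ[k] Ω => (fun c : separableClosure k K => ρ c.1)) := by
    have h0 := linearIndependent_monoidHom (separableClosure k K) Ω
    have hinj : Function.Injective (fun ρ : K →ₐ[k] Ω =>
        (((ρ.domRestrict (separableClosure k K) : separableClosure k K →ₐ[k] Ω) :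
          separableClosure k K →+* Ω) : separableClosure k K →* Ω)) := by
      intro ρ ρ' h
      apply hbij.1
      apply AlgHom.ext
      intro c
      exact congrArg (fun g : separableClosure k K →* Ω => g c) h
    exact h0.comp _ hinj
  have hzero : ∑ ρ : K →ₐ[k] Ω,
      (ρ y - ρ b.1) • (fun c : separableClosure k K => ρ c.1) = 0 := by
    funext c
    rw [Finset.sum_apply]
    simp only [Pi.smul_apply, smul_eq_mul, Pi.zero_apply, sub_mul]
    rw [Finset.sum_sub_distrib, sub_eq_zero]
    have h := hsum c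
    simp only [map_mul] at h
    rw [Finset.sum_congr rfl (fun ρ _ => mul_comm (ρ y) (ρ c.1)), h]
  let ρ₀ : K →ₐ[k] Ω := IsAlgClosed.lift
  have h1 := Fintype.linearIndependent_iff.1 hli _ hzero ρ₀
  rw [sub_eq_zero] at h1
  have h2 : y = b.1 := ρ₀.injective h1
  rw [h2]
  exact b.2

end trace

section ppow

variable {k : Type u} [Field k] {K : Type u} [Field K] [Algebra k K] [FiniteDimensional k K]

/-- the exponent of a finite extension is a power of the characteristic -/
theorem exists_pow_eq (p : ℕ) [hp : Fact p.Prime] [CharP k p] (e : ℕ) (he : 0 < e)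
    (hexp : ∀ x : K, x ^ e ∈ separableClosure k K)
    (hmin : ∀ n : ℕ, 0 < n → (∀ x : K, x ^ n ∈ separableClosure k K) → e ≤ n) :
    ∃ j, e = p ^ j := by
  obtain ⟨j, n', hn', rfl⟩ := Nat.exists_eq_pow_mul_and_not_dvd he.ne' p hp.out.ne_one
  have hn'0 : 0 < n' := Nat.pos_of_ne_zero (fun h => by rw [h] at hn'; exact hn' (dvd_zero _))
  have hall : ∀ x : K, x ^ p ^ j ∈ separableClosure k K := by
    intro x
    set y := x ^ p ^ j with hy
    have hyn : y ^ n' ∈ separableClosure k K := by
      rw [hy, ← pow_mul]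
      exact hexp x
    by_cases hy0 : y = 0
    · rw [hy0]
      exact zero_mem _
    haveI : CharP (separableClosure k K) p :=
      charP_of_injective_algebraMap (algebraMap k (separableClosure k K)).injective p
    let c : separableClosure k K := ⟨y ^ n', hyn⟩
    have hc0 : c ≠ 0 := by
      intro h
      have : y ^ n' = 0 := congrArg Subtype.val h
      exact hy0 (pow_eq_zero_iff hn'0.ne' |>.1 this)
    have hn'L : ((n' : ℕ) : separableClosure k K) ≠ 0 := by
      intro h
      exact hn' ((CharP.cast_eq_zero_iff (separableClosure k K) p n').1 h)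
    have hsep : (X ^ n' - C c : (separableClosure k K)[X]).Separable :=
      separable_X_pow_sub_C c hn'L hc0
    have hroot : aeval y (X ^ n' - C c : (separableClosure k K)[X]) = 0 := by
      rw [map_sub, map_pow, aeval_X, aeval_C]
      exact sub_self _
    have hysep : IsSeparable (separableClosure k K) y :=
      hsep.of_dvd (minpoly.dvd _ _ hroot)
    obtain ⟨c', hc'⟩ := IsPurelyInseparable.inseparable (separableClosure k K) y hysep
    rw [← hc']
    exact c'.2
  have h1 := hmin (p ^ j) (pow_pos hp.out.pos j) hall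
  have h2 : n' ≤ 1 := by
    by_contra h
    push Not at h
    have : p ^ j * 1 < p ^ j * n' := Nat.mul_lt_mul_of_pos_left h (pow_pos hp.out.pos j)
    omega
  have h3 : n' = 1 := le_antisymm h2 hn'0
  exact ⟨j, by rw [h3, mul_one]⟩

end ppow

section dvd

variable {k : Type u} [Field k] {K : Type u} [Field K] [Algebra k K] [FiniteDimensional k K]

/-- **if an algebra map `TS^d_k(K) → k` exists then the quasi-degree divides `d`** -/
theorem dvd_of_phi (d e : ℕ) (he : 0 < e) (hexp : ∀ x : K, x ^ e ∈ separableClosure k K)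
    (hmin : ∀ n : ℕ, 0 < n → (∀ x : K, x ^ n ∈ separableClosure k K) → e ≤ n)
    (φ : SymTen.TS k K d →ₐ[k] k) : Field.finSepDegree k K * e ∣ d := by
  classical
  obtain ⟨Ω, _, _, _, _⟩ : ∃ (Ω : Type u) (_ : Field Ω) (_ : Algebra k Ω) (_ : IsAlgClosed Ω),
      Algebra.IsAlgebraic k Ω :=
    ⟨AlgebraicClosure k, inferInstance, inferInstance, inferInstance, inferInstance⟩
  obtain ⟨ψ, hψ⟩ := exists_extension d Ω φ
  set σ : Fin d → (K →ₐ[k] Ω) := fun i => ψ.comp (sg K d i) with hσ
  have hA : ∀ x : K, ∃ P : k[X], P.map (algebraMap k Ω) = ∏ i, (X - C (σ i x)) :=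
    fun x => exists_poly d Ω φ ψ hψ x
  let ρ₀ : K →ₐ[k] Ω := IsAlgClosed.lift
  set m := (Finset.univ.filter (fun i => σ i = ρ₀)).card with hm
  have hfib : ∀ ρ, (Finset.univ.filter (fun i => σ i = ρ)).card = m :=
    fun ρ => card_fiber_eq Ω σ hA ρ ρ₀
  have hcard : Fintype.card (K →ₐ[k] Ω) * m = d := card_mul_eq Ω σ hA ρ₀
  have hsd : Field.finSepDegree k K = Fintype.card (K →ₐ[k] Ω) := by
    rw [Field.finSepDegree_eq_of_isAlgClosed k K Ω, Nat.card_eq_fintype_card]
  suffices hem : e ∣ m by
    rw [hsd, ← hcard]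
    exact Nat.mul_dvd_mul_left _ hem
  obtain ⟨p, hp⟩ := ExpChar.exists k
  rcases hp with _ | ⟨hprime⟩
  · -- characteristic zero
    haveI : Algebra.IsSeparable k K := Algebra.IsAlgebraic.isSeparable_of_perfectField
    have htop : separableClosure k K = ⊤ := (separableClosure.eq_top_iff k K).2 inferInstance
    have h1 : e ≤ 1 := hmin 1 one_pos (fun x => by rw [htop]; exact IntermediateField.mem_top)
    have : e = 1 := le_antisymm h1 he
    rw [this]
    exact one_dvd _
  · haveI : Fact p.Prime := ⟨hprime⟩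
    obtain ⟨j, rfl⟩ := exists_pow_eq p e he hexp hmin
    by_cases hm0 : m = 0
    · rw [hm0]
      exact dvd_zero _
    obtain ⟨a, n', hn', hmn⟩ := Nat.exists_eq_pow_mul_and_not_dvd hm0 p hprime.ne_one
    have hn'0 : 0 < n' := Nat.pos_of_ne_zero (fun h => by rw [h] at hn'; exact hn' (dvd_zero _))
    have htr : ∀ x : K, ∑ ρ : K →ₐ[k] Ω, ρ (x ^ p ^ a) ∈ (algebraMap k Ω).range := by
      intro x
      obtain ⟨P, hP⟩ := hA x
      rw [prod_eq Ω σ m hfib x, hmn] at hP
      exact tr_mem Ω p a n' hn' hn'0 ρ₀ x P hP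
    have hall : ∀ x : K, x ^ p ^ a ∈ separableClosure k K := by
      intro x
      apply mem_sep_of_tr Ω
      let Λ : separableClosure k K →ₗ[k] Ω :=
        ∑ ρ : K →ₐ[k] Ω, (ρ.toLinearMap ∘ₗ (LinearMap.mulRight k (x ^ p ^ a)) ∘ₗ
          (separableClosure k K).val.toLinearMap)
      have hΛ : ∀ c : separableClosure k K, Λ c = ∑ ρ : K →ₐ[k] Ω, ρ (c.1 * x ^ p ^ a) := by
        intro c
        simp only [Λ, LinearMap.sum_apply, LinearMap.comp_apply, LinearMap.mulRight_apply,
          AlgHom.toLinearMap_apply]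
        rfl
      let V : Submodule k (separableClosure k K) :=
        Submodule.comap Λ (LinearMap.range (Algebra.linearMap k Ω))
      haveI : ExpChar k p := ExpChar.prime hprime
      have hspan : Submodule.span k (Set.range (fun c : separableClosure k K => c ^ p ^ a)) = ⊤ :=
        Field.span_map_pow_expChar_pow_eq_top_of_isSeparable (F := k)
          (E := separableClosure k K) p a (v := id)
          (by rw [Set.range_id]; exact Submodule.span_univ)
      have hle : Submodule.span k (Set.range (fun c : separableClosure k K => c ^ p ^ a)) ≤ V := by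
        rw [Submodule.span_le]
        rintro _ ⟨c', rfl⟩
        show Λ (c' ^ p ^ a) ∈ LinearMap.range (Algebra.linearMap k Ω)
        rw [hΛ]
        have h1 : ((c' ^ p ^ a : separableClosure k K) : K) * x ^ p ^ a = (c'.1 * x) ^ p ^ a := by
          rw [mul_pow]
          rfl
        rw [Finset.sum_congr rfl (fun ρ _ => by rw [h1])]
        obtain ⟨r, hr⟩ := htr (c'.1 * x)
        exact ⟨r, hr⟩
      intro c
      have hc : c ∈ V := hle (by rw [hspan]; trivial)
      obtain ⟨r, hr⟩ := hc
      rw [← hΛ]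
      exact ⟨r, hr⟩
    have h1 := hmin (p ^ a) (pow_pos hprime.pos a) hall
    have h2 : j ≤ a := (Nat.pow_le_pow_iff_right hprime.one_lt).1 h1
    rw [hmn]
    exact Dvd.dvd.mul_right (pow_dvd_pow p h2) n'

end dvd

end Groth.Agent.Lib.Helper15.FieldLaw3
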