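import Mathlib
import Groth.Prelude.Def_PolLaw2
import Groth.Agent.Lib.Helper15.FieldLaw3

/-!
# Multiplicative laws `K → k` for a finite field extension, part 4: existence (helper15)
-/

set_option autoImplicit false
universe u
open scoped TensorProduct
open Polynomial

namespace Groth.Agent.Lib.Helper15.FieldLaw4

section exist

variable {k : Type u} [Field k] {K : Type u} [Field K] [Algebra k K] [FiniteDimensional k K]
  (e : ℕ) (he : 0 < e) (hexp : ∀ x : K, x ^ e ∈ separableClosure k K)
  (hadd : ∀ (R : Type u) [CommSemiring R] [Algebra k R] (x y : R), (x + y) ^ e = x ^ e + y ^ e)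
  (r : K →ₗ[k] separableClosure k K) (hr : ∀ c : separableClosure k K, r c.1 = c)

/-- the Frobenius-type law `x ↦ x ^ e` from `K` to its separable closure -/
noncomputable def G : K →ₚₗ[k] separableClosure k K :=
  PolLaw.postcomp r (PolLaw.powLaw e)

variable (S : Type u) [CommSemiring S] [Algebra k S]

theorem G_apply (z : S ⊗[k] K) : (G e r).toFun' S z = r.lTensor S (z ^ e) := rfl

include hr in
theorem inc_injective :
    Function.Injective ((separableClosure k K).val.toLinearMap.lTensor S) := by
  have h : r ∘ₗ (separableClosure k K).val.toLinearMap = LinearMap.id := by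
    apply LinearMap.ext
    intro c
    exact hr c
  intro x y hxy
  have := congrArg (r.lTensor S) hxy
  rwa [← LinearMap.comp_apply, ← LinearMap.comp_apply, ← LinearMap.lTensor_comp, h,
    LinearMap.lTensor_id, LinearMap.id_apply, LinearMap.id_apply] at this

include he hexp hadd hr in
theorem inc_G (z : S ⊗[k] K) :
    (separableClosure k K).val.toLinearMap.lTensor S ((G e r).toFun' S z) = z ^ e := by
  rw [G_apply]
  induction z using TensorProduct.induction_on with
  | zero => rw [zero_pow he.ne', map_zero, map_zero]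
  | tmul s x =>
    rw [Algebra.TensorProduct.tmul_pow, LinearMap.lTensor_tmul, LinearMap.lTensor_tmul]
    congr 1
    have : r (x ^ e) = ⟨x ^ e, hexp x⟩ := hr ⟨x ^ e, hexp x⟩
    rw [this]
    rfl
  | add z z' hz hz' => rw [hadd, map_add, map_add, hz, hz']

include hr in
theorem G_one : (G e r).toFun' S 1 = 1 := by
  rw [G_apply, one_pow, Algebra.TensorProduct.one_def, LinearMap.lTensor_tmul]
  congr 1
  exact hr 1

include he hexp hadd hr in
theorem G_mul (z z' : S ⊗[k] K) :
    (G e r).toFun' S (z * z') = (G e r).toFun' S z * (G e r).toFun' S z' := by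
  apply inc_injective r hr S
  rw [PolLaw.lTensor_algHom_apply _ S ((G e r).toFun' S z * (G e r).toFun' S z'), map_mul,
    ← PolLaw.lTensor_algHom_apply, ← PolLaw.lTensor_algHom_apply,
    inc_G e he hexp hadd r hr, inc_G e he hexp hadd r hr, inc_G e he hexp hadd r hr, mul_pow]

theorem G_smul (a : S) (z : S ⊗[k] K) :
    (G e r).toFun' S (a • z) = a ^ e • (G e r).toFun' S z := by
  rw [G_apply, G_apply, _root_.smul_pow, LinearMap.smul_lTensor]

variable (dS : ℕ) (hd : Module.finrank k (separableClosure k K) = dS) (m : ℕ)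

/-- the law `x ↦ N_{K_s/k}(x ^ e) ^ m` -/
noncomputable def F : K →ₚₗ[k] k :=
  (PolLaw.powLaw m).comp ((PolLaw.normLaw k (separableClosure k K) dS hd).law.comp (G e r))

theorem F_apply (z : S ⊗[k] K) :
    (F e r dS hd m).toFun' S z =
      ((PolLaw.normLaw k (separableClosure k K) dS hd).law.toFun' S ((G e r).toFun' S z)) ^ m :=
  rfl

include hr in
theorem F_one : (F e r dS hd m).toFun' S 1 = 1 := by
  rw [F_apply, G_one e r hr, ((PolLaw.normLaw k (separableClosure k K) dS hd).mult S).1, one_pow]

include he hexp hadd hr in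
theorem F_mul (z z' : S ⊗[k] K) :
    (F e r dS hd m).toFun' S (z * z') = (F e r dS hd m).toFun' S z * (F e r dS hd m).toFun' S z' := by
  rw [F_apply, F_apply, F_apply, G_mul e he hexp hadd r hr,
    ((PolLaw.normLaw k (separableClosure k K) dS hd).mult S).2, mul_pow]

theorem F_smul (a : S) (z : S ⊗[k] K) :
    (F e r dS hd m).toFun' S (a • z) = a ^ (dS * e * m) • (F e r dS hd m).toFun' S z := by
  rw [F_apply, F_apply, G_smul, (PolLaw.normLaw k (separableClosure k K) dS hd).homog S, _root_.smul_pow,
    ← pow_mul, ← pow_mul]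
  congr 2
  ring

end exist

section addpow

variable {k : Type u} [Field k]

theorem add_pow_of_charP (p : ℕ) [hp : Fact p.Prime] [CharP k p] (j : ℕ) (R : Type u)
    [CommSemiring R] [Algebra k R] (x y : R) :
    (x + y) ^ p ^ j = x ^ p ^ j + y ^ p ^ j := by
  have hpR : (p : R) = 0 := by
    rw [← map_natCast (algebraMap k R), CharP.cast_eq_zero, map_zero]
  induction j with
  | zero => simp
  | succ j ih =>
    rw [pow_succ, pow_mul, pow_mul, pow_mul, ih]
    obtain ⟨r, hr⟩ := exists_add_pow_prime_eq hp.out (x ^ p ^ j) (y ^ p ^ j)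
    rw [hr, hpR, zero_mul, zero_mul, zero_mul, add_zero]

/-- additivity of `x ↦ x ^ e` when `e` is the exponent of a finite extension -/
theorem add_pow_exponent {K : Type u} [Field K] [Algebra k K] [FiniteDimensional k K]
    (e : ℕ) (he : 0 < e) (hexp : ∀ x : K, x ^ e ∈ separableClosure k K)
    (hmin : ∀ n : ℕ, 0 < n → (∀ x : K, x ^ n ∈ separableClosure k K) → e ≤ n)
    (R : Type u) [CommSemiring R] [Algebra k R] (x y : R) : (x + y) ^ e = x ^ e + y ^ e := by
  obtain ⟨p, hp⟩ := ExpChar.exists k
  rcases hp with _ | ⟨hprime⟩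
  · haveI : Algebra.IsSeparable k K := Algebra.IsAlgebraic.isSeparable_of_perfectField
    have htop : separableClosure k K = ⊤ := (separableClosure.eq_top_iff k K).2 inferInstance
    have h1 : e ≤ 1 := hmin 1 one_pos (fun x => by rw [htop]; exact IntermediateField.mem_top)
    have : e = 1 := le_antisymm h1 he
    rw [this, pow_one, pow_one, pow_one]
  · haveI : Fact p.Prime := ⟨hprime⟩
    obtain ⟨j, rfl⟩ := FieldLaw3.exists_pow_eq p e he hexp hmin
    exact add_pow_of_charP (k := k) p j R x y

end addpow

end Groth.Agent.Lib.Helper15.FieldLaw4
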