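import Mathlib
import Groth.Prelude.Def_PolLaw
import Groth.Prelude.Def_FrobAlg

/-!
# The Frobenius law `A^{1/p} → A`, `a ↦ a ^ p` (helper15)
-/

set_option autoImplicit false
universe u
open scoped TensorProduct

namespace Groth.Agent.Lib.Helper15.FrobLaw

section law

variable (p : ℕ) [Fact p.Prime] (A : Type u) [CommRing A] [CharP A p]

section test

variable (S : Type u) [CommSemiring S] [Algebra A S]

include A in
theorem natCast_eq_zero : (p : S) = 0 := by
  rw [← map_natCast (algebraMap A S), CharP.cast_eq_zero, map_zero]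

include A in
theorem add_pow_p (s t : S) : (s + t) ^ p = s ^ p + t ^ p := by
  obtain ⟨r, hr⟩ := exists_add_pow_prime_eq (Fact.out : p.Prime) s t
  rw [hr, natCast_eq_zero p A S, zero_mul, zero_mul, zero_mul, add_zero]

omit [CharP A p] [Algebra A S] in
theorem p_ne_zero : p ≠ 0 := (Fact.out : p.Prime).ne_zero

/-- the biadditive map `(s, a) ↦ s ^ p ⊗ a` -/
noncomputable def bi : S →+ FrobAlg.Twist p A →+ S ⊗[A] A where
  toFun s :=
    { toFun := fun a => (s ^ p) ⊗ₜ[A] ((FrobAlg.toTwist p A).symm a)
      map_zero' := by rw [map_zero, TensorProduct.tmul_zero]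
      map_add' := fun a b => by rw [map_add, TensorProduct.tmul_add] }
  map_zero' := by
    ext a
    show ((0 : S) ^ p) ⊗ₜ[A] _ = 0
    rw [zero_pow (p_ne_zero p), TensorProduct.zero_tmul]
  map_add' s t := by
    ext a
    show ((s + t) ^ p) ⊗ₜ[A] _ = (s ^ p) ⊗ₜ[A] _ + (t ^ p) ⊗ₜ[A] _
    rw [add_pow_p p A S, TensorProduct.add_tmul]

theorem bi_apply (s : S) (a : FrobAlg.Twist p A) :
    bi p A S s a = (s ^ p) ⊗ₜ[A] ((FrobAlg.toTwist p A).symm a) := rfl

theorem bi_balanced (c : A) (s : S) (a : FrobAlg.Twist p A) :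
    bi p A S (c • s) a = bi p A S s (c • a) := by
  rw [bi_apply, bi_apply, Algebra.smul_def c a, FrobAlg.algebraMap_twist, map_mul,
    RingEquiv.symm_apply_apply, smul_pow, TensorProduct.smul_tmul, smul_eq_mul]

/-- the member of the Frobenius law over `S` -/
noncomputable def fr : S ⊗[A] FrobAlg.Twist p A →+ S ⊗[A] A :=
  TensorProduct.liftAddHom (bi p A S) (bi_balanced p A S)

theorem fr_tmul (s : S) (a : FrobAlg.Twist p A) :
    fr p A S (s ⊗ₜ[A] a) = (s ^ p) ⊗ₜ[A] ((FrobAlg.toTwist p A).symm a) := rfl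

theorem fr_one : fr p A S 1 = 1 := by
  rw [Algebra.TensorProduct.one_def, fr_tmul, one_pow, map_one, Algebra.TensorProduct.one_def]

theorem fr_mul (x y : S ⊗[A] FrobAlg.Twist p A) : fr p A S (x * y) = fr p A S x * fr p A S y := by
  induction x using TensorProduct.induction_on with
  | zero => rw [zero_mul, map_zero, zero_mul]
  | add x x' hx hx' => rw [add_mul, map_add, map_add, add_mul, hx, hx']
  | tmul s a =>
    induction y using TensorProduct.induction_on with
    | zero => rw [mul_zero, map_zero, mul_zero]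
    | add y y' hy hy' => rw [mul_add, map_add, map_add, mul_add, hy, hy']
    | tmul t b =>
      rw [Algebra.TensorProduct.tmul_mul_tmul, fr_tmul, fr_tmul, fr_tmul,
        Algebra.TensorProduct.tmul_mul_tmul, mul_pow, map_mul]

theorem fr_smul (s : S) (x : S ⊗[A] FrobAlg.Twist p A) :
    fr p A S (s • x) = s ^ p • fr p A S x := by
  induction x using TensorProduct.induction_on with
  | zero => rw [smul_zero, map_zero, smul_zero]
  | add x x' hx hx' => rw [smul_add, map_add, map_add, smul_add, hx, hx']
  | tmul t a =>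
    rw [TensorProduct.smul_tmul', fr_tmul, fr_tmul, TensorProduct.smul_tmul', smul_eq_mul,
      smul_eq_mul, mul_pow]

end test

/-- the Frobenius law -/
noncomputable def frobLaw : FrobAlg.Twist p A →ₚₗ[A] A where
  toFun' S _ _ := fun x => fr p A S x
  isCompat' {S} _ _ {S'} _ _ φ := by
    funext x
    simp only [Function.comp_apply]
    induction x using TensorProduct.induction_on with
    | zero => rw [map_zero, map_zero, map_zero, map_zero]
    | add x y hx hy => rw [map_add, map_add, map_add, map_add, hx, hy]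
    | tmul s a =>
      rw [fr_tmul, LinearMap.rTensor_tmul, LinearMap.rTensor_tmul, fr_tmul]
      simp

/-- the Frobenius law as a multiplicative law of degree `p` -/
noncomputable def frobMulLaw : PolLaw.MulLaw A (FrobAlg.Twist p A) A p where
  law := frobLaw p A
  homog S _ _ s x := fr_smul p A S s x
  mult S _ _ := ⟨fr_one p A S, fr_mul p A S⟩

theorem frobMulLaw_tmul (S : Type u) [CommSemiring S] [Algebra A S] (s : S)
    (a : FrobAlg.Twist p A) :
    (frobMulLaw p A).law.toFun' S (s ⊗ₜ[A] a) = (s ^ p) ⊗ₜ[A] ((FrobAlg.toTwist p A).symm a) :=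
  rfl

/-- any law with the Frobenius values on pure tensors has zero kernel -/
theorem ker_eq_bot (F : FrobAlg.Twist p A →ₚₗ[A] A)
    (hF : ∀ (s : A) (a : FrobAlg.Twist p A),
      F.toFun' A (s ⊗ₜ[A] a) = (s ^ p) ⊗ₜ[A] ((FrobAlg.toTwist p A).symm a)) :
    PolLaw.ker F = ⊥ := by
  rw [eq_bot_iff]
  intro b hb
  have h1 := hb A 0 1
  rw [zero_add, one_mul] at h1
  have h0 : F.toFun' A 0 = 0 := by
    have := hF 0 0
    rw [TensorProduct.zero_tmul, zero_pow (p_ne_zero p), TensorProduct.zero_tmul] at this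
    exact this
  rw [h0, hF, one_pow] at h1
  have h2 := congrArg (TensorProduct.lid A A) h1
  rw [TensorProduct.lid_tmul, one_smul, map_zero] at h2
  have h3 : b = 0 := by
    have := congrArg (FrobAlg.toTwist p A) h2
    rwa [RingEquiv.apply_symm_apply, map_zero] at this
  rw [h3]
  exact Ideal.zero_mem _

end law

section notFinite

open MvPolynomial

variable (p : ℕ) [Fact p.Prime]

theorem poly_indep (s : Finset ℕ) (f : ℕ → MvPolynomial ℕ (ZMod p))
    (h : ∑ i ∈ s, f i ^ p * X i = 0) : ∀ j ∈ s, f j = 0 := by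
  classical
  have hp : p ≠ 0 := (Fact.out : p.Prime).ne_zero
  intro j hj
  ext ν
  rw [coeff_zero]
  have h1 := congrArg (coeff (p • ν + Finsupp.single j 1)) h
  rw [coeff_sum, coeff_zero, Finset.sum_eq_single j] at h1
  · rw [coeff_mul_X, ← expand_zmod, coeff_expand_smul _ hp] at h1
    exact h1
  · intro i _ hij
    rw [← expand_zmod, coeff_mul_X']
    split_ifs with hsupp
    · apply coeff_expand_of_not_dvd (i := j)
      have : ((p • ν + Finsupp.single j 1 - Finsupp.single i 1 : ℕ →₀ ℕ)) j = p * ν j + 1 := by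
        simp [Finsupp.single_apply, hij]
      rw [this]
      intro hdvd
      have h2 : p ∣ 1 := (Nat.dvd_add_right (Dvd.intro _ rfl)).mp hdvd
      exact (Fact.out : p.Prime).one_lt.ne' (Nat.dvd_one.mp h2)
    · rfl
  · intro hj'
    exact absurd hj hj'

end notFinite

end Groth.Agent.Lib.Helper15.FrobLaw
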