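import Mathlib
import Groth.Prelude.Def_GLin

/-!
# The numerical function `μ(v, λ)` for a linear coaction (helper15)
-/

set_option autoImplicit false
set_option linter.style.haveILetI false
universe u v w

namespace Groth.Agent.Lib.Helper15.GITMu

open LaurentPolynomial TensorProduct

section laurent

variable {k : Type u} [CommRing k]

lemma coeff_T_mul (m j : ℤ) (p : k[T;T⁻¹]) : (T m * p).coeff (m + j) = p.coeff j := by
  have := AddMonoidAlgebra.coeff_single_mul_add p (1 : k) m j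
  rw [one_mul] at this
  exact this

lemma coeff_T_mul' (m j : ℤ) (p : k[T;T⁻¹]) : (T m * p).coeff j = p.coeff (j - m) := by
  have := coeff_T_mul m (j - m) p
  rwa [add_sub_cancel] at this

lemma coeff_mul_T (n j : ℤ) (p : k[T;T⁻¹]) : (p * T n).coeff (j + n) = p.coeff j := by
  have := AddMonoidAlgebra.coeff_mul_single_add p (1 : k) n j
  rw [mul_one] at this
  exact this

lemma coeff_toLaurent_natCast (q : Polynomial k) (n : ℕ) :
    (Polynomial.toLaurent q).coeff (n : ℤ) = q.coeff n := by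
  rw [coeff_toLaurent]
  exact Finsupp.mapDomain_apply Nat.castEmbedding.injective _ n

lemma coeff_toLaurent_neg (q : Polynomial k) (j : ℤ) (hj : j < 0) :
    (Polynomial.toLaurent q).coeff j = 0 := by
  rw [coeff_toLaurent]
  apply Finsupp.mapDomain_notin_range
  rintro ⟨n, hn⟩
  have : (n : ℤ) = j := hn
  omega

lemma exists_toLaurent_eq_iff (p : k[T;T⁻¹]) :
    (∃ q : Polynomial k, Polynomial.toLaurent q = p) ↔ ∀ j : ℤ, j < 0 → p.coeff j = 0 := by
  constructor
  · rintro ⟨q, rfl⟩ j hj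
    exact coeff_toLaurent_neg q j hj
  · intro h
    obtain ⟨n, f', hf'⟩ := exists_T_pow p
    have hdiv : (Polynomial.X : Polynomial k) ^ n ∣ f' := by
      rw [Polynomial.X_pow_dvd_iff]
      intro d hd
      rw [← coeff_toLaurent_natCast, hf']
      have h1 : ((d : ℤ)) = ((d : ℤ) - n) + n := by ring
      rw [h1, coeff_mul_T]
      apply h
      omega
    obtain ⟨g, rfl⟩ := hdiv
    refine ⟨g, ?_⟩
    rw [map_mul, Polynomial.toLaurent_X_pow, mul_comm] at hf'
    have h2 := congrArg (fun z => z * T (-(n : ℤ))) hf'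
    simp only [mul_T_assoc, add_neg_cancel, T_zero, mul_one] at h2
    exact h2

end laurent

section family

variable {k : Type u} [CommRing k] {ι : Type w}

/-- all coefficients below `n` vanish -/
def Below (wt : ι → k[T;T⁻¹]) (n : ℤ) : Prop := ∀ i, ∀ j : ℤ, j < n → (wt i).coeff j = 0

lemma below_succ (wt : ι → k[T;T⁻¹]) (n : ℤ) :
    Below wt (n + 1) ↔ Below wt n ∧ ∀ i, (wt i).coeff n = 0 := by
  constructor
  · intro h
    exact ⟨fun i j hj => h i j (by omega), fun i => h i n (by omega)⟩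
  · rintro ⟨h1, h2⟩ i j hj
    rcases lt_or_eq_of_le (show j ≤ n by omega) with h | h
    · exact h1 i j h
    · rw [h]; exact h2 i

lemma below_shift (wt : ι → k[T;T⁻¹]) (m n : ℤ) :
    Below (fun i => T m * wt i) n ↔ Below wt (n - m) := by
  constructor
  · intro h i j hj
    have := h i (m + j) (by omega)
    rwa [coeff_T_mul] at this
  · intro h i j hj
    show (T m * wt i).coeff j = 0
    rw [coeff_T_mul']
    exact h i _ (by omega)

lemma exists_hom_iff (ut : ι → k[T;T⁻¹]) :
    (∃ h : MvPolynomial ι k →ₐ[k] Polynomial k,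
      (Polynomial.toLaurentAlg (R := k)).comp h = MvPolynomial.aeval ut) ↔ Below ut 0 := by
  constructor
  · rintro ⟨h, hh⟩ i j hj
    have h1 : ut i = Polynomial.toLaurent (h (MvPolynomial.X i)) := by
      have := congrArg (fun φ => φ (MvPolynomial.X i)) hh
      simp only [AlgHom.comp_apply, MvPolynomial.aeval_X, Polynomial.toLaurentAlg_apply] at this
      exact this.symm
    rw [h1]
    exact coeff_toLaurent_neg _ j hj
  · intro h
    have hq : ∀ i, ∃ q : Polynomial k, Polynomial.toLaurent q = ut i :=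
      fun i => (exists_toLaurent_eq_iff (ut i)).mpr (h i)
    choose q hq using hq
    refine ⟨MvPolynomial.aeval q, ?_⟩
    apply MvPolynomial.algHom_ext
    intro i
    simp only [AlgHom.comp_apply, MvPolynomial.aeval_X, Polynomial.toLaurentAlg_apply]
    exact hq i

lemma hom_eval_zero (ut : ι → k[T;T⁻¹]) (h : MvPolynomial ι k →ₐ[k] Polynomial k)
    (hh : (Polynomial.toLaurentAlg (R := k)).comp h = MvPolynomial.aeval ut) :
    (Polynomial.aeval (0 : k)).comp h = MvPolynomial.aeval (fun i => (ut i).coeff 0) := by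
  apply MvPolynomial.algHom_ext
  intro i
  have h1 : ut i = Polynomial.toLaurent (h (MvPolynomial.X i)) := by
    have := congrArg (fun φ => φ (MvPolynomial.X i)) hh
    simp only [AlgHom.comp_apply, MvPolynomial.aeval_X, Polynomial.toLaurentAlg_apply] at this
    exact this.symm
  simp only [AlgHom.comp_apply, MvPolynomial.aeval_X]
  rw [← Polynomial.coeff_zero_eq_aeval_zero, h1]
  exact (coeff_toLaurent_natCast _ 0).symm

lemma aeval_eq_iff (c c' : ι → k) :
    (MvPolynomial.aeval c : MvPolynomial ι k →ₐ[k] k) = MvPolynomial.aeval c' ↔ c = c' := by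
  constructor
  · intro h
    ext i
    have := congrArg (fun φ => φ (MvPolynomial.X i)) h
    simpa using this
  · rintro rfl; rfl

/-- existence of an extension with nonzero value at `0` -/
lemma exists_hom_ne_iff (ut : ι → k[T;T⁻¹]) :
    (∃ h : MvPolynomial ι k →ₐ[k] Polynomial k,
      (Polynomial.toLaurentAlg (R := k)).comp h = MvPolynomial.aeval ut ∧
        (Polynomial.aeval (0 : k)).comp h ≠ MvPolynomial.aeval (fun _ : ι => (0 : k))) ↔
    Below ut 0 ∧ ¬ Below ut 1 := by
  constructor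
  · rintro ⟨h, hh, hne⟩
    have hb := (exists_hom_iff ut).mp ⟨h, hh⟩
    refine ⟨hb, fun h1 => hne ?_⟩
    rw [hom_eval_zero ut h hh, aeval_eq_iff]
    ext i
    exact h1 i 0 (by omega)
  · rintro ⟨hb, h1⟩
    obtain ⟨h, hh⟩ := (exists_hom_iff ut).mpr hb
    refine ⟨h, hh, fun he => h1 ?_⟩
    rw [hom_eval_zero ut h hh, aeval_eq_iff] at he
    have := (below_succ ut 0).mpr ⟨hb, fun i => congrFun he i⟩
    simpa using this

/-- existence of an extension with zero value at `0` -/
lemma exists_hom_eq_iff (ut : ι → k[T;T⁻¹]) :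
    (∃ h : MvPolynomial ι k →ₐ[k] Polynomial k,
      (Polynomial.toLaurentAlg (R := k)).comp h = MvPolynomial.aeval ut ∧
        (Polynomial.aeval (0 : k)).comp h = MvPolynomial.aeval (fun _ : ι => (0 : k))) ↔
    Below ut 1 := by
  constructor
  · rintro ⟨h, hh, he⟩
    have hb := (exists_hom_iff ut).mp ⟨h, hh⟩
    rw [hom_eval_zero ut h hh, aeval_eq_iff] at he
    have := (below_succ ut 0).mpr ⟨hb, fun i => congrFun he i⟩
    simpa using this
  · intro h1
    have h1' : Below ut (0 + 1) := by simpa using h1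
    obtain ⟨hb, h0⟩ := (below_succ ut 0).mp h1'
    obtain ⟨h, hh⟩ := (exists_hom_iff ut).mpr hb
    refine ⟨h, hh, ?_⟩
    rw [hom_eval_zero ut h hh, aeval_eq_iff]
    ext i
    exact h0 i

/-- the threshold -/
lemma exists_threshold [Fintype ι] (wt : ι → k[T;T⁻¹]) (hw : ∃ i, wt i ≠ 0) :
    ∃ n₀ : ℤ, ∀ n, Below wt n ↔ n ≤ n₀ := by
  classical
  let S : Finset ℤ := Finset.univ.biUnion (fun i => (wt i).coeff.support)
  have hS : S.Nonempty := by
    obtain ⟨i, hi⟩ := hw
    have : (wt i).coeff ≠ 0 := by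
      intro h
      apply hi
      apply LaurentPolynomial.ext
      intro a
      rw [h]; rfl
    obtain ⟨j, hj⟩ := Finsupp.support_nonempty_iff.mpr this
    exact ⟨j, Finset.mem_biUnion.mpr ⟨i, Finset.mem_univ _, hj⟩⟩
  refine ⟨S.min' hS, fun n => ?_⟩
  rw [Finset.le_min'_iff]
  constructor
  · intro h j hj
    obtain ⟨i, -, hij⟩ := Finset.mem_biUnion.mp hj
    by_contra hlt
    exact (Finsupp.mem_support_iff.mp hij) (h i j (by omega))
  · intro h i j hj
    by_contra hne
    have : j ∈ S := Finset.mem_biUnion.mpr ⟨i, Finset.mem_univ _, Finsupp.mem_support_iff.mpr hne⟩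
    have := h j this
    omega

end family

section glin

variable {k : Type u} [Field k] {A : Type u} [CommRing A] [Bialgebra k A]
  {ι : Type u} [Fintype ι] [HopfRep.Comod k A (MvPolynomial ι k)]
  [GLin.IsCoactAlg k A (MvPolynomial ι k)]

/-- the coordinates of the orbit -/
noncomputable def wt (lam : A →ₐc[k] k[T;T⁻¹]) (v : ι → k) (i : ι) : k[T;T⁻¹] :=
  GLin.lamOrbit k A lam (GLin.vecPt k ι v) (MvPolynomial.X i)

lemma lamOrbit_eq (lam : A →ₐc[k] k[T;T⁻¹]) (v : ι → k) :
    GLin.lamOrbit k A lam (GLin.vecPt k ι v) = MvPolynomial.aeval (wt lam v) := by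
  apply MvPolynomial.algHom_ext
  intro i
  rw [MvPolynomial.aeval_X]
  rfl

lemma shiftedOrbit_eq (lam : A →ₐc[k] k[T;T⁻¹]) (v : ι → k) (m : ℤ) :
    GLin.shiftedOrbit k A lam v m = MvPolynomial.aeval (fun i => T m * wt lam v i) := rfl

lemma counit_orbit_aux (x : MvPolynomial ι k →ₐ[k] k) (z : MvPolynomial ι k ⊗[k] A) :
    CoalgebraStruct.counit (R := k) ((Algebra.TensorProduct.lid k A)
      (Algebra.TensorProduct.map x (AlgHom.id k A) z)) =
    x ((TensorProduct.rid k (MvPolynomial ι k))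
      ((CoalgebraStruct.counit (R := k) (A := A)).lTensor (MvPolynomial ι k) z)) := by
  induction z using TensorProduct.induction_on with
  | zero => simp
  | tmul r a =>
    simp only [Algebra.TensorProduct.map_tmul, AlgHom.id_apply, Algebra.TensorProduct.lid_tmul,
      LinearMap.lTensor_tmul, TensorProduct.rid_tmul, map_smul, smul_eq_mul]
    ring
  | add y z hy hz => simp only [map_add, hy, hz]

lemma counit_wt (lam : A →ₐc[k] k[T;T⁻¹]) (v : ι → k) (i : ι) :
    CoalgebraStruct.counit (R := k) (wt lam v i) = v i := by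
  have h1 : CoalgebraStruct.counit (R := k) (wt lam v i) =
      CoalgebraStruct.counit (R := k) (GLin.orbitHom k A (GLin.vecPt k ι v) (MvPolynomial.X i)) :=
    CoalgHomClass.counit_comp_apply lam _
  rw [h1]
  have h2 : GLin.orbitHom k A (GLin.vecPt k ι v) (MvPolynomial.X i) =
      (Algebra.TensorProduct.lid k A) (Algebra.TensorProduct.map (GLin.vecPt k ι v) (AlgHom.id k A)
        (HopfRep.Comod.coact (k := k) (A := A) (MvPolynomial.X i : MvPolynomial ι k))) := rfl
  rw [h2, counit_orbit_aux]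
  have h3 := congrArg (fun F => F (MvPolynomial.X i : MvPolynomial ι k))
    (HopfRep.Comod.counit_comp (k := k) (A := A) (V := MvPolynomial ι k))
  simp only [LinearMap.comp_apply, LinearMap.flip_apply, TensorProduct.mk_apply] at h3
  rw [h3, TensorProduct.rid_tmul, one_smul]
  simp

lemma wt_ne_zero (lam : A →ₐc[k] k[T;T⁻¹]) (v : ι → k) (hv : v ≠ 0) : ∃ i, wt lam v i ≠ 0 := by
  by_contra h
  push_neg at h
  apply hv
  ext i
  rw [← counit_wt lam v i, h i, map_zero]
  rfl

lemma isMu_iff (lam : A →ₐc[k] k[T;T⁻¹]) (v : ι → k) (m : ℤ) :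
    GLin.IsMu k A lam v m ↔ Below (wt lam v) (-m) ∧ ¬ Below (wt lam v) (-m + 1) := by
  unfold GLin.IsMu
  rw [shiftedOrbit_eq, exists_hom_ne_iff, below_shift, below_shift]
  have h1 : (0 : ℤ) - m = -m := by ring
  have h2 : (1 : ℤ) - m = -m + 1 := by ring
  rw [h1, h2]

lemma hasLimit_iff (lam : A →ₐc[k] k[T;T⁻¹]) (v : ι → k) :
    GLin.HasLimit k A lam (GLin.vecPt k ι v) ↔ Below (wt lam v) 0 := by
  unfold GLin.HasLimit
  rw [lamOrbit_eq, exists_hom_iff]

lemma isLimit_zero_iff (lam : A →ₐc[k] k[T;T⁻¹]) (v : ι → k) :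
    GLin.IsLimit k A lam (GLin.vecPt k ι v) (GLin.vecPt k ι (fun _ => (0 : k))) ↔
      Below (wt lam v) 1 := by
  unfold GLin.IsLimit
  rw [lamOrbit_eq]
  exact exists_hom_eq_iff (wt lam v)

theorem existsUnique_isMu (lam : A →ₐc[k] k[T;T⁻¹]) (v : ι → k) (hv : v ≠ 0) :
    ∃! m : ℤ, GLin.IsMu k A lam v m := by
  obtain ⟨n₀, hn₀⟩ := exists_threshold (wt lam v) (wt_ne_zero lam v hv)
  refine ⟨-n₀, ?_, ?_⟩
  · show GLin.IsMu k A lam v (-n₀)
    rw [isMu_iff, hn₀, hn₀]
    omega
  · intro m hm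
    rw [isMu_iff, hn₀, hn₀] at hm
    omega

theorem trichotomy (lam : A →ₐc[k] k[T;T⁻¹]) (v : ι → k) (hv : v ≠ 0) :
    (¬ GLin.HasLimit k A lam (GLin.vecPt k ι v) ↔ ∃ m : ℤ, GLin.IsMu k A lam v m ∧ 0 < m) ∧
      ((GLin.HasLimit k A lam (GLin.vecPt k ι v) ∧
          ¬ GLin.IsLimit k A lam (GLin.vecPt k ι v) (GLin.vecPt k ι (fun _ => (0 : k)))) ↔
        GLin.IsMu k A lam v 0) ∧
      (GLin.IsLimit k A lam (GLin.vecPt k ι v) (GLin.vecPt k ι (fun _ => (0 : k))) ↔
        ∃ m : ℤ, GLin.IsMu k A lam v m ∧ m < 0) := by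
  obtain ⟨n₀, hn₀⟩ := exists_threshold (wt lam v) (wt_ne_zero lam v hv)
  simp only [isMu_iff, hasLimit_iff, isLimit_zero_iff, hn₀]
  refine ⟨⟨fun h => ⟨-n₀, by omega⟩, fun ⟨m, hm⟩ => by omega⟩, by omega,
    ⟨fun h => ⟨-n₀, by omega⟩, fun ⟨m, hm⟩ => by omega⟩⟩

end glin

end Groth.Agent.Lib.Helper15.GITMu
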