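import Mathlib
import Groth.Prelude.Def_GLin
import Groth.Prelude.Def_HopfRep
import Groth.Agent.Lib.Helper15.GITMu

/-!
# The numerical function for a diagonalizable group is a maximum of linear functionals (helper15)
-/

set_option autoImplicit false
set_option linter.style.haveILetI false
universe u

namespace Groth.Agent.Lib.Helper15.GITMuDiag

open LaurentPolynomial TensorProduct Groth.Agent.Lib.Helper15.GITMu

section basis

variable {k : Type u} [Field k] {A : Type u} [CommRing A] [Bialgebra k A]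

/-- the type of group-like elements -/
abbrev Gk (k : Type u) [Field k] (A : Type u) [CommRing A] [Bialgebra k A] : Type u :=
  ↥{a : A | IsGroupLikeElem k a}

/-- the basis of group-like elements of a diagonalizable Hopf algebra -/
noncomputable def glBasis (hdiag : HopfRep.IsDiagonalizable k A) : Module.Basis (Gk k A) k A :=
  Module.Basis.mk (v := fun g : Gk k A => (g : A))
    (linearIndepOn_isGroupLikeElem (R := k) (A := A))
    (by
      have : Set.range (fun g : Gk k A => (g : A)) = {a : A | IsGroupLikeElem k a} :=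
        Subtype.range_coe
      rw [this]
      exact hdiag.ge)

@[simp] lemma glBasis_apply (hdiag : HopfRep.IsDiagonalizable k A) (g : Gk k A) :
    glBasis hdiag g = (g : A) := by
  simp [glBasis]

/-- the coefficients of the comultiplication in the tensor basis -/
lemma repr_comul (hdiag : HopfRep.IsDiagonalizable k A) (x : A) (g g' : Gk k A) :
    (g = g' → ((glBasis hdiag).tensorProduct (glBasis hdiag)).repr
      (CoalgebraStruct.comul (R := k) x) (g, g') = (glBasis hdiag).repr x g) ∧
    (g ≠ g' → ((glBasis hdiag).tensorProduct (glBasis hdiag)).repr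
      (CoalgebraStruct.comul (R := k) x) (g, g') = 0) := by
  classical
  set B := glBasis hdiag
  let Ψ : A →ₗ[k] (Gk k A × Gk k A →₀ k) :=
    (B.tensorProduct B).repr.toLinearMap ∘ₗ (CoalgebraStruct.comul (R := k) (A := A))
  let Ψ' : A →ₗ[k] (Gk k A × Gk k A →₀ k) :=
    (Finsupp.lmapDomain k k (fun g : Gk k A => (g, g))) ∘ₗ B.repr.toLinearMap
  have hΨ : Ψ = Ψ' := by
    apply B.ext
    intro g
    simp only [Ψ, Ψ', LinearMap.comp_apply, LinearEquiv.coe_coe, Module.Basis.repr_self,
      Finsupp.lmapDomain_apply, Finsupp.mapDomain_single]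
    rw [glBasis_apply, g.2.comul_eq_tmul_self]
    have : (g : A) ⊗ₜ[k] (g : A) = (B.tensorProduct B) (g, g) := by
      rw [Module.Basis.tensorProduct_apply, glBasis_apply]
    rw [this, Module.Basis.repr_self]
  have h1 : ((glBasis hdiag).tensorProduct (glBasis hdiag)).repr
      (CoalgebraStruct.comul (R := k) x) = Ψ x := rfl
  rw [h1, hΨ]
  simp only [Ψ', LinearMap.comp_apply, LinearEquiv.coe_coe, Finsupp.lmapDomain_apply]
  have hinj : Function.Injective (fun g : Gk k A => (g, g)) := fun a b h => (Prod.ext_iff.mp h).1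
  refine ⟨fun h => ?_, fun h => ?_⟩
  · subst h
    exact Finsupp.mapDomain_apply hinj _ g
  · apply Finsupp.mapDomain_notin_range
    rintro ⟨a, ha⟩
    apply h
    have := Prod.ext_iff.mp ha
    exact this.1.symm.trans this.2

/-- the counit in terms of coefficients -/
lemma counit_eq_sum (hdiag : HopfRep.IsDiagonalizable k A) (x : A) :
    CoalgebraStruct.counit (R := k) x = ((glBasis hdiag).repr x).sum (fun _ c => c) := by
  set B := glBasis hdiag
  conv_lhs => rw [← B.linearCombination_repr x]
  rw [Finsupp.linearCombination_apply, Finsupp.sum, map_sum, Finsupp.sum]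
  refine Finset.sum_congr rfl fun g _ => ?_
  rw [map_smul, glBasis_apply, g.2.counit_eq_one, smul_eq_mul, mul_one]

end basis

section abstract

variable {k : Type u} [Field k] {ι : Type u} [Fintype ι] [DecidableEq ι]

lemma below_iff_of_idem {N : ℕ} (Cn : Fin N → Matrix ι ι k)
    (hC : ∀ n n', Cn n' * Cn n = if n = n' then Cn n else 0) (v : ι → k) (e : Fin N → ℤ)
    (wt : ι → k[T;T⁻¹])
    (hwt : ∀ i d, (wt i).coeff d = ∑ n, if e n = d then (Cn n).mulVec v i else 0) (t : ℤ) :
    Below wt t ↔ ∀ n, (Cn n).mulVec v ≠ 0 → t ≤ e n := by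
  constructor
  · intro h n₀ hn₀
    by_contra hlt
    apply hn₀
    have hu : (∑ n, if e n = e n₀ then (Cn n).mulVec v else 0) = 0 := by
      ext i
      rw [Finset.sum_apply]
      have := h i (e n₀) (by omega)
      rw [hwt] at this
      rw [Pi.zero_apply, ← this]
      refine Finset.sum_congr rfl fun n _ => ?_
      split_ifs <;> rfl
    have h2 := congrArg (fun u => (Cn n₀).mulVec u) hu
    simp only [Matrix.mulVec_zero, Matrix.mulVec_sum] at h2
    rw [← h2]
    symm
    rw [Finset.sum_eq_single n₀]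
    · rw [if_pos rfl, Matrix.mulVec_mulVec, hC n₀ n₀, if_pos rfl]
    · intro n _ hn
      split_ifs
      · rw [Matrix.mulVec_mulVec, hC n n₀, if_neg hn, Matrix.zero_mulVec]
      · rw [Matrix.mulVec_zero]
    · intro h; exact absurd (Finset.mem_univ _) h
  · intro h i d hd
    rw [hwt]
    apply Finset.sum_eq_zero
    intro n _
    split_ifs with hn
    · by_contra hne
      have : (Cn n).mulVec v ≠ 0 := fun h0 => hne (by rw [h0]; rfl)
      have := h n this
      omega
    · rfl

lemma exists_ne_of_sum_one {N : ℕ} (Cn : Fin N → Matrix ι ι k) (hsum : ∑ n, Cn n = 1) (v : ι → k)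
    (hv : v ≠ 0) : ∃ n, (Cn n).mulVec v ≠ 0 := by
  by_contra h
  push Not at h
  apply hv
  have : (∑ n, Cn n).mulVec v = 0 := by
    rw [Matrix.sum_mulVec]
    exact Finset.sum_eq_zero fun n _ => h n
  rwa [hsum, Matrix.one_mulVec] at this

end abstract

section comod

variable {k : Type u} [Field k] {A : Type u} [CommRing A] [Bialgebra k A]
  {ι : Type u} [Fintype ι] [DecidableEq ι] [HopfRep.Comod k A (MvPolynomial ι k)]

/-- coefficient extraction -/
noncomputable def ev (N : Type*) [AddCommGroup N] [Module k N] (l : ι) :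
    MvPolynomial ι k ⊗[k] N →ₗ[k] N :=
  (TensorProduct.lid k N).toLinearMap ∘ₗ (MvPolynomial.lcoeff k (Finsupp.single l 1)).rTensor N

lemma ev_X_tmul (N : Type*) [AddCommGroup N] [Module k N] (l j : ι) (z : N) :
    ev N l ((MvPolynomial.X j : MvPolynomial ι k) ⊗ₜ[k] z) = if j = l then z else 0 := by
  simp only [ev, LinearMap.comp_apply, LinearMap.rTensor_tmul, MvPolynomial.lcoeff_apply,
    LinearEquiv.coe_coe, TensorProduct.lid_tmul, MvPolynomial.coeff_X']
  by_cases h : j = l
  · subst h; simp
  · rw [if_neg h, if_neg, zero_smul]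
    intro h'
    exact h ((Finsupp.single_left_inj one_ne_zero).mp h')

variable (M : ι → ι → A)
  (hM : ∀ i, HopfRep.Comod.coact (k := k) (A := A) (MvPolynomial.X i : MvPolynomial ι k) =
    ∑ j, (MvPolynomial.X j : MvPolynomial ι k) ⊗ₜ[k] M i j)

include hM in
lemma comul_M (i l : ι) :
    CoalgebraStruct.comul (R := k) (M i l) = ∑ j, M j l ⊗ₜ[k] M i j := by
  have h := congrArg (fun F => F (MvPolynomial.X i : MvPolynomial ι k))
    (HopfRep.Comod.coassoc (k := k) (A := A) (V := MvPolynomial ι k))
  simp only [LinearMap.comp_apply, LinearEquiv.coe_coe] at h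
  rw [hM i] at h
  simp only [map_sum, LinearMap.rTensor_tmul, LinearMap.lTensor_tmul, hM, TensorProduct.sum_tmul,
    TensorProduct.assoc_tmul] at h
  have h2 := congrArg (ev (A ⊗[k] A) l) h
  simp only [map_sum, ev_X_tmul, Finset.sum_ite_eq', Finset.mem_univ, if_true] at h2
  exact h2.symm

include hM in
lemma counit_M (i l : ι) :
    CoalgebraStruct.counit (R := k) (M i l) = if i = l then 1 else 0 := by
  have h := congrArg (fun F => F (MvPolynomial.X i : MvPolynomial ι k))
    (HopfRep.Comod.counit_comp (k := k) (A := A) (V := MvPolynomial ι k))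
  simp only [LinearMap.comp_apply, LinearMap.flip_apply, TensorProduct.mk_apply] at h
  rw [hM i] at h
  simp only [map_sum, LinearMap.lTensor_tmul] at h
  have h2 := congrArg (ev k l) h
  simp only [map_sum, ev_X_tmul, Finset.sum_ite_eq', Finset.mem_univ, if_true] at h2
  exact h2

/-- matrix of `g`-coefficients -/
noncomputable def Cmat (hdiag : HopfRep.IsDiagonalizable k A) (g : Gk k A) : Matrix ι ι k :=
  fun i j => (glBasis hdiag).repr (M i j) g

include hM in
lemma Cmat_mul (hdiag : HopfRep.IsDiagonalizable k A) (g g' : Gk k A) :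
    (g = g' → Cmat M hdiag g' * Cmat M hdiag g = Cmat M hdiag g) ∧
    (g ≠ g' → Cmat M hdiag g' * Cmat M hdiag g = 0) := by
  have key : ∀ i l, ((glBasis hdiag).tensorProduct (glBasis hdiag)).repr
      (CoalgebraStruct.comul (R := k) (M i l)) (g, g') = (Cmat M hdiag g' * Cmat M hdiag g) i l := by
    intro i l
    rw [comul_M M hM i l, map_sum, Finsupp.finset_sum_apply, Matrix.mul_apply]
    refine Finset.sum_congr rfl fun j _ => ?_
    rw [Module.Basis.tensorProduct_repr_tmul_apply, smul_eq_mul]
    rfl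
  refine ⟨fun h => ?_, fun h => ?_⟩
  · ext i l
    rw [← key, (repr_comul hdiag (M i l) g g').1 h]
    rfl
  · ext i l
    rw [← key, (repr_comul hdiag (M i l) g g').2 h]
    rfl

open scoped Classical in
/-- the finite set of group-likes occurring -/
noncomputable def supp (hdiag : HopfRep.IsDiagonalizable k A) : Finset (Gk k A) :=
  Finset.univ.biUnion fun i : ι => Finset.univ.biUnion fun j : ι =>
    ((glBasis hdiag).repr (M i j)).support

lemma Cmat_eq_zero (hdiag : HopfRep.IsDiagonalizable k A) (g : Gk k A) (hg : g ∉ supp M hdiag)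
    (i j : ι) : Cmat M hdiag g i j = 0 := by
  classical
  by_contra h
  apply hg
  exact Finset.mem_biUnion.mpr ⟨i, Finset.mem_univ _, Finset.mem_biUnion.mpr
    ⟨j, Finset.mem_univ _, Finsupp.mem_support_iff.mpr h⟩⟩

lemma M_eq_sum (hdiag : HopfRep.IsDiagonalizable k A) (i j : ι) :
    M i j = ∑ g ∈ supp M hdiag, Cmat M hdiag g i j • (g : A) := by
  classical
  conv_lhs => rw [← (glBasis hdiag).linearCombination_repr (M i j)]
  rw [Finsupp.linearCombination_apply, Finsupp.sum]
  rw [Finset.sum_subset (s₂ := supp M hdiag)]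
  · refine Finset.sum_congr rfl fun g _ => ?_
    rw [glBasis_apply]
    rfl
  · intro g hg
    exact Finset.mem_biUnion.mpr ⟨i, Finset.mem_univ _, Finset.mem_biUnion.mpr
      ⟨j, Finset.mem_univ _, hg⟩⟩
  · intro g _ hg
    rw [Finsupp.notMem_support_iff.mp hg, zero_smul]

include hM in
lemma Cmat_sum (hdiag : HopfRep.IsDiagonalizable k A) :
    ∑ g ∈ supp M hdiag, Cmat M hdiag g = 1 := by
  ext i j
  rw [Matrix.sum_apply, Matrix.one_apply, ← counit_M M hM i j]
  conv_rhs => rw [M_eq_sum M hdiag i j]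
  rw [map_sum]
  refine Finset.sum_congr rfl fun g _ => ?_
  rw [map_smul, g.2.counit_eq_one, smul_eq_mul, mul_one]

end comod

section final

variable {k : Type u} [Field k] {A : Type u} [CommRing A] [Bialgebra k A]
  {ι : Type u} [Fintype ι] [HopfRep.Comod k A (MvPolynomial ι k)]
  [GLin.IsCoactAlg k A (MvPolynomial ι k)]

lemma orbit_X (M : ι → ι → A)
    (hM : ∀ i, HopfRep.Comod.coact (k := k) (A := A) (MvPolynomial.X i : MvPolynomial ι k) =
      ∑ j, (MvPolynomial.X j : MvPolynomial ι k) ⊗ₜ[k] M i j) (v : ι → k) (i : ι) :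
    GLin.orbitHom k A (GLin.vecPt k ι v) (MvPolynomial.X i) = ∑ j, v j • M i j := by
  have h2 : GLin.orbitHom k A (GLin.vecPt k ι v) (MvPolynomial.X i) =
      (Algebra.TensorProduct.lid k A) (Algebra.TensorProduct.map (GLin.vecPt k ι v) (AlgHom.id k A)
        (HopfRep.Comod.coact (k := k) (A := A) (MvPolynomial.X i : MvPolynomial ι k))) := rfl
  rw [h2, hM, map_sum, map_sum]
  refine Finset.sum_congr rfl fun j _ => ?_
  rw [Algebra.TensorProduct.map_tmul, Algebra.TensorProduct.lid_tmul, AlgHom.id_apply]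
  simp

theorem main (hdiag : HopfRep.IsDiagonalizable k A) (hlin : GLin.IsLinear k A ι) :
    ∃ (N : ℕ) (χ : Fin N → A), (∀ j, IsGroupLikeElem k (χ j)) ∧
      ∀ v : ι → k, v ≠ 0 → ∃ I : Finset (Fin N), I.Nonempty ∧
        ∀ (lam : A →ₐc[k] k[T;T⁻¹]) (e : Fin N → ℤ), (∀ j, lam (χ j) = LaurentPolynomial.T (e j)) →
          ∀ m : ℤ, GLin.IsMu k A lam v m ↔ ((∀ j ∈ I, -e j ≤ m) ∧ ∃ j ∈ I, m = -e j) := by
  classical
  choose M hM using hlin
  set S := supp M hdiag with hS
  let en : S ≃ Fin S.card := S.equivFin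
  let Cn : Fin S.card → Matrix ι ι k := fun n => Cmat M hdiag (en.symm n).val
  have hC : ∀ n n', Cn n' * Cn n = if n = n' then Cn n else 0 := by
    intro n n'
    split_ifs with h
    · subst h
      exact (Cmat_mul M hM hdiag _ _).1 rfl
    · apply (Cmat_mul M hM hdiag _ _).2
      intro h'
      exact h (en.symm.injective (Subtype.ext h'))
  have hsum : ∑ n, Cn n = 1 := by
    rw [← Cmat_sum M hM hdiag, ← Finset.sum_coe_sort (supp M hdiag)]
    exact Equiv.sum_comp en.symm (fun g : S => Cmat M hdiag g.val)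
  refine ⟨S.card, fun n => ((en.symm n).val : Gk k A).val, fun n => (en.symm n).val.2, ?_⟩
  intro v hv
  refine ⟨Finset.univ.filter (fun n => (Cn n).mulVec v ≠ 0), ?_, ?_⟩
  · obtain ⟨n, hn⟩ := exists_ne_of_sum_one Cn hsum v hv
    exact ⟨n, Finset.mem_filter.mpr ⟨Finset.mem_univ _, hn⟩⟩
  intro lam e hlam m
  have hwt : ∀ i d, (wt lam v i).coeff d = ∑ n, if e n = d then (Cn n).mulVec v i else 0 := by
    intro i d
    have h1 : wt lam v i = lam (GLin.orbitHom k A (GLin.vecPt k ι v) (MvPolynomial.X i)) := rfl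
    rw [h1, orbit_X M hM v i, map_sum]
    have h2 : ∀ j, lam (v j • M i j) = ∑ n, (v j * Cn n i j) • (T (e n) : k[T;T⁻¹]) := by
      intro j
      rw [M_eq_sum M hdiag i j, Finset.smul_sum, map_sum, ← Finset.sum_coe_sort (supp M hdiag)]
      rw [← Equiv.sum_comp en.symm]
      refine Finset.sum_congr rfl fun n _ => ?_
      rw [smul_smul, map_smul, hlam n]
    simp_rw [h2]
    rw [Finset.sum_comm, AddMonoidAlgebra.coeff_sum, Finsupp.finset_sum_apply]
    refine Finset.sum_congr rfl fun n _ => ?_
    rw [← Finset.sum_smul, AddMonoidAlgebra.coeff_smul_apply, T_apply, Matrix.mulVec,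
      dotProduct]
    split_ifs
    · rw [smul_eq_mul, mul_one]
      refine Finset.sum_congr rfl fun j _ => ?_
      ring
    · rw [smul_zero]
  have hb := below_iff_of_idem Cn hC v e (wt lam v) hwt
  rw [isMu_iff, hb, hb]
  constructor
  · rintro ⟨h1, h2⟩
    push Not at h2
    obtain ⟨n, hn, hlt⟩ := h2
    refine ⟨fun j hj => ?_, n, Finset.mem_filter.mpr ⟨Finset.mem_univ _, hn⟩, ?_⟩
    · have := h1 j (Finset.mem_filter.mp hj).2
      omega
    · have := h1 n hn
      omega
  · rintro ⟨h1, n, hn, rfl⟩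
    refine ⟨fun j hj => ?_, fun h2 => ?_⟩
    · have := h1 j (Finset.mem_filter.mpr ⟨Finset.mem_univ _, hj⟩)
      omega
    · have := h2 n (Finset.mem_filter.mp hn).2
      omega

end final

end Groth.Agent.Lib.Helper15.GITMuDiag
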