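import Mathlib

set_option autoImplicit false
set_option linter.style.haveILetI false
open Matrix

namespace Groth.Agent.Lib.Helper15.GL2Fp

section basics
variable {F : Type*} [Field F]

abbrev M2 (F : Type*) [Field F] := Matrix (Fin 2) (Fin 2) F

noncomputable def U (t : F) : GL (Fin 2) F :=
  ⟨!![1, t; 0, 1], !![1, -t; 0, 1], by
    ext i j; fin_cases i <;> fin_cases j <;> simp [Matrix.mul_apply, Fin.sum_univ_two], by
    ext i j; fin_cases i <;> fin_cases j <;> simp [Matrix.mul_apply, Fin.sum_univ_two]⟩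

noncomputable def Lo (t : F) : GL (Fin 2) F :=
  ⟨!![1, 0; t, 1], !![1, 0; -t, 1], by
    ext i j; fin_cases i <;> fin_cases j <;> simp [Matrix.mul_apply, Fin.sum_univ_two], by
    ext i j; fin_cases i <;> fin_cases j <;> simp [Matrix.mul_apply, Fin.sum_univ_two]⟩

theorem coe_U (t : F) : ((U t : GL (Fin 2) F) : M2 F) = !![1, t; 0, 1] := rfl
theorem coe_Lo (t : F) : ((Lo t : GL (Fin 2) F) : M2 F) = !![1, 0; t, 1] := rfl

theorem U_mul (s t : F) : U s * U t = U (s + t) := by
  apply Units.ext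
  show (!![1, s; 0, 1] : M2 F) * !![1, t; 0, 1] = !![1, s + t; 0, 1]
  ext i j; fin_cases i <;> fin_cases j <;> simp [Matrix.mul_apply, Fin.sum_univ_two, add_comm]

theorem Lo_mul (s t : F) : Lo s * Lo t = Lo (s + t) := by
  apply Units.ext
  show (!![1, 0; s, 1] : M2 F) * !![1, 0; t, 1] = !![1, 0; s + t, 1]
  ext i j; fin_cases i <;> fin_cases j <;> simp [Matrix.mul_apply, Fin.sum_univ_two]

theorem U_zero : U (0 : F) = 1 := by
  apply Units.ext
  show (!![1, 0; 0, 1] : M2 F) = 1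
  ext i j; fin_cases i <;> fin_cases j <;> simp

theorem Lo_zero : Lo (0 : F) = 1 := by
  apply Units.ext
  show (!![1, 0; 0, 1] : M2 F) = 1
  ext i j; fin_cases i <;> fin_cases j <;> simp

theorem U_pow (x : F) (k : ℕ) : U x ^ k = U (k * x) := by
  induction k with
  | zero => simp [U_zero]
  | succ k ih => rw [pow_succ, ih, U_mul]; congr 1; push_cast; ring

theorem Lo_pow (x : F) (k : ℕ) : Lo x ^ k = Lo (k * x) := by
  induction k with
  | zero => simp [Lo_zero]
  | succ k ih => rw [pow_succ, ih, Lo_mul]; congr 1; push_cast; ring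

theorem sl2_decomp_mat (m : M2 F) (hdet : m.det = 1) (hc : m 1 0 ≠ 0) :
    m = (!![1, (m 0 0 - 1) / m 1 0; 0, 1] : M2 F) * !![1, 0; m 1 0, 1] *
    !![1, (m 1 1 - 1) / m 1 0; 0, 1] := by
  rw [Matrix.det_fin_two] at hdet
  ext i j; fin_cases i <;> fin_cases j
  · simp [Matrix.mul_apply, Fin.sum_univ_two]; field_simp; ring
  · simp [Matrix.mul_apply, Fin.sum_univ_two]; field_simp; linear_combination (-1 : F) * hdet
  · simp [Matrix.mul_apply, Fin.sum_univ_two]
  · simp [Matrix.mul_apply, Fin.sum_univ_two]; field_simp; ring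

theorem mem_of_det_eq_one (H : Subgroup (GL (Fin 2) F)) (hU : ∀ t : F, U t ∈ H)
    (hL : ∀ t : F, Lo t ∈ H) (g : GL (Fin 2) F) (hdet : (g : M2 F).det = 1) : g ∈ H := by
  have key : ∀ g : GL (Fin 2) F, (g : M2 F).det = 1 → (g : M2 F) 1 0 ≠ 0 → g ∈ H := by
    intro g hdet hc
    have : g = U (((g : M2 F) 0 0 - 1) / (g : M2 F) 1 0) * Lo ((g : M2 F) 1 0) *
        U (((g : M2 F) 1 1 - 1) / (g : M2 F) 1 0) := by
      apply Units.ext
      exact sl2_decomp_mat _ hdet hc
    rw [this]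
    exact H.mul_mem (H.mul_mem (hU _) (hL _)) (hU _)
  by_cases hc : (g : M2 F) 1 0 = 0
  · -- multiply by Lo 1
    have hdet' := hdet
    rw [Matrix.det_fin_two, hc, mul_zero, sub_zero] at hdet'
    have ha : (g : M2 F) 0 0 ≠ 0 := by
      intro h0; rw [h0, zero_mul] at hdet'; exact zero_ne_one hdet'
    have h1 : Lo 1 * g ∈ H := by
      apply key
      · rw [Units.val_mul, Matrix.det_mul, hdet, coe_Lo, Matrix.det_fin_two]; simp
      · rw [Units.val_mul, coe_Lo, Matrix.mul_apply, Fin.sum_univ_two]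
        simp [hc, ha]
    have : g = (Lo 1)⁻¹ * (Lo 1 * g) := by rw [inv_mul_cancel_left]
    rw [this]
    exact H.mul_mem (H.inv_mem (hL 1)) h1
  · exact key g hdet hc

theorem sq_eq (N : M2 F) : N * N = N.trace • N - N.det • (1 : M2 F) := by
  ext i j; fin_cases i <;> fin_cases j <;>
    simp [Matrix.mul_apply, Fin.sum_univ_two, Matrix.det_fin_two, Matrix.trace_fin_two] <;> ring

theorem sq_eq_zero_of_pow_eq_zero (N : M2 F) (k : ℕ) (hk : N ^ k = 0) : N * N = 0 := by
  by_cases hN : N = 0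
  · rw [hN, mul_zero]
  have hk0 : k ≠ 0 := by
    rintro rfl
    rw [pow_zero] at hk
    exact one_ne_zero hk
  have hdet : N.det = 0 := by
    have := congrArg Matrix.det hk
    rw [Matrix.det_pow, Matrix.det_zero] at this
    exact pow_eq_zero_iff hk0 |>.1 this
  have hsq : N * N = N.trace • N := by rw [sq_eq, hdet, zero_smul, sub_zero]
  have hpow : ∀ j : ℕ, N ^ (j + 1) = N.trace ^ j • N := by
    intro j
    induction j with
    | zero => simp
    | succ j ih => rw [pow_succ, ih, smul_mul_assoc, hsq, smul_smul, pow_succ]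
  obtain ⟨j, rfl⟩ := Nat.exists_eq_succ_of_ne_zero hk0
  rw [hpow] at hk
  rcases smul_eq_zero.1 hk with h | h
  · by_cases hj : j = 0
    · subst hj
      rw [pow_zero] at h
      exact absurd h one_ne_zero
    · rw [hsq, pow_eq_zero_iff hj |>.1 h, zero_smul]
  · exact absurd h hN

theorem shape_upper (N : M2 F) (hsq : N * N = 0) (hN : N ≠ 0) (hv : N *ᵥ ![1, 0] = 0) :
    ∃ x : F, x ≠ 0 ∧ N = !![0, x; 0, 0] := by
  have h00 : N 0 0 = 0 := by
    have := congrFun hv 0
    simpa [Matrix.mulVec, dotProduct, Fin.sum_univ_two] using this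
  have h10 : N 1 0 = 0 := by
    have := congrFun hv 1
    simpa [Matrix.mulVec, dotProduct, Fin.sum_univ_two] using this
  have h11 : N 1 1 = 0 := by
    have := congrFun (congrFun hsq 1) 1
    simp [Matrix.mul_apply, Fin.sum_univ_two, h10] at this
    exact this
  have hshape : N = !![0, N 0 1; 0, 0] := by
    ext i j; fin_cases i <;> fin_cases j <;> simp [h00, h10, h11]
  refine ⟨N 0 1, ?_, hshape⟩
  intro h
  apply hN
  rw [hshape, h]
  ext i j; fin_cases i <;> fin_cases j <;> simp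

theorem shape_lower (N : M2 F) (hsq : N * N = 0) (hN : N ≠ 0) (hv : N *ᵥ ![0, 1] = 0) :
    ∃ x : F, x ≠ 0 ∧ N = !![0, 0; x, 0] := by
  have h01 : N 0 1 = 0 := by
    have := congrFun hv 0
    simpa [Matrix.mulVec, dotProduct, Fin.sum_univ_two] using this
  have h11 : N 1 1 = 0 := by
    have := congrFun hv 1
    simpa [Matrix.mulVec, dotProduct, Fin.sum_univ_two] using this
  have h00 : N 0 0 = 0 := by
    have := congrFun (congrFun hsq 0) 0
    simp [Matrix.mul_apply, Fin.sum_univ_two, h01] at this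
    exact this
  have hshape : N = !![0, 0; N 1 0, 0] := by
    ext i j; fin_cases i <;> fin_cases j <;> simp [h00, h01, h11]
  refine ⟨N 1 0, ?_, hshape⟩
  intro h
  apply hN
  rw [hshape, h]
  ext i j; fin_cases i <;> fin_cases j <;> simp

end basics

section cartan
variable {F : Type*} [Field F] (E : Subring (M2 F)) (hE : IsField E)
include hE

theorem E_comm {m m' : M2 F} (hm : m ∈ E) (hm' : m' ∈ E) : m * m' = m' * m :=
  congrArg Subtype.val (hE.mul_comm ⟨m, hm⟩ ⟨m', hm'⟩)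

theorem E_inv {m : M2 F} (hm : m ∈ E) (h0 : m ≠ 0) : ∃ m' ∈ E, m' * m = 1 ∧ m * m' = 1 := by
  have hne : (⟨m, hm⟩ : E) ≠ 0 := fun h => h0 (congrArg Subtype.val h)
  obtain ⟨b, hb⟩ := hE.mul_inv_cancel hne
  have h1 : m * (b : M2 F) = 1 := congrArg Subtype.val hb
  exact ⟨b, b.2, by rw [E_comm E hE b.2 hm, h1], h1⟩

theorem E_nzd {m m' : M2 F} (hm : m ∈ E) (hm' : m' ∈ E) (h : m * m' = 0) : m = 0 ∨ m' = 0 := by
  by_cases h0 : m = 0
  · exact Or.inl h0
  · right
    obtain ⟨n, _, hn, _⟩ := E_inv E hE hm h0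
    calc m' = (n * m) * m' := by rw [hn, one_mul]
      _ = n * (m * m') := by rw [mul_assoc]
      _ = 0 := by rw [h, mul_zero]

theorem E_transitive [Finite F] (hcard : Nat.card E = Nat.card F ^ 2) (v : Fin 2 → F) (hv : v ≠ 0)
    (w : Fin 2 → F) : ∃ m ∈ E, m *ᵥ v = w := by
  let f : E → (Fin 2 → F) := fun e => (e : M2 F) *ᵥ v
  have hinj : Function.Injective f := by
    intro a b hab
    by_contra hne
    have hd : (a : M2 F) - (b : M2 F) ≠ 0 := fun h => hne (Subtype.ext (sub_eq_zero.1 h))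
    obtain ⟨n, _, hn, _⟩ := E_inv E hE (E.sub_mem a.2 b.2) hd
    have h1 : ((a : M2 F) - (b : M2 F)) *ᵥ v = 0 := by
      rw [Matrix.sub_mulVec]; exact sub_eq_zero.2 hab
    have : v = 0 := by
      calc v = (n * ((a : M2 F) - (b : M2 F))) *ᵥ v := by rw [hn, Matrix.one_mulVec]
        _ = n *ᵥ (((a : M2 F) - (b : M2 F)) *ᵥ v) := by rw [Matrix.mulVec_mulVec]
        _ = 0 := by rw [h1, Matrix.mulVec_zero]
    exact hv this
  have hc : Nat.card (Fin 2 → F) ≤ Nat.card E := by
    rw [hcard, Nat.card_fun, Nat.card_fin]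
  obtain ⟨e, he⟩ := (hinj.bijective_of_nat_card_le hc).2 w
  exact ⟨e, e.2, he⟩

theorem trace_fiber {m₁ m₂ : M2 F} (h₁ : m₁ ∈ E) (h₂ : m₂ ∈ E) (d₁ : m₁.det = 1) (d₂ : m₂.det = 1)
    (ht : m₂.trace = m₁.trace) : m₂ = m₁ ∨ m₂ = m₁.trace • (1 : M2 F) - m₁ := by
  by_cases hne : m₂ = m₁
  · exact Or.inl hne
  right
  have hd : m₁ - m₂ ≠ 0 := fun h => hne (sub_eq_zero.1 h).symm
  obtain ⟨n, _, hn, _⟩ := E_inv E hE (E.sub_mem h₁ h₂) hd
  have s₁ := sq_eq m₁
  have s₂ := sq_eq m₂
  rw [d₁, one_smul] at s₁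
  rw [d₂, one_smul, ht] at s₂
  have hc := E_comm E hE h₁ h₂
  have hprod : (m₁ - m₂) * (m₁ + m₂ - m₁.trace • (1 : M2 F)) = 0 := by
    have : (m₁ - m₂) * (m₁ + m₂ - m₁.trace • (1 : M2 F)) =
        m₁ * m₁ - m₂ * m₂ + (m₁ * m₂ - m₂ * m₁) - m₁.trace • (m₁ - m₂) := by
      simp only [mul_sub, sub_mul, mul_add, add_mul, smul_sub, Matrix.mul_smul, mul_one]
      abel
    rw [this, s₁, s₂, hc, sub_self, add_zero, smul_sub]
    abel
  have hX : m₁ + m₂ - m₁.trace • (1 : M2 F) = 0 := by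
    calc m₁ + m₂ - m₁.trace • (1 : M2 F)
        = (n * (m₁ - m₂)) * (m₁ + m₂ - m₁.trace • (1 : M2 F)) := by rw [hn, one_mul]
      _ = n * ((m₁ - m₂) * (m₁ + m₂ - m₁.trace • (1 : M2 F))) := by rw [mul_assoc]
      _ = 0 := by rw [hprod, mul_zero]
  have : m₂ = m₁.trace • (1 : M2 F) - m₁ := by
    have := sub_eq_zero.1 hX
    rw [← this]; abel
  exact this

theorem ker_bound [Fintype F] [DecidableEq F] (S : Finset (M2 F))
    (hS : ∀ m ∈ S, m ∈ E ∧ m.det = 1) : S.card ≤ 2 * Fintype.card F := by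
  classical
  have h1 := Finset.card_le_mul_card_image (f := Matrix.trace) S 2 (by
    intro t ht
    rw [Finset.mem_image] at ht
    obtain ⟨m₁, hm₁, rfl⟩ := ht
    have hsub : S.filter (fun a => a.trace = m₁.trace) ⊆
        {m₁, m₁.trace • (1 : M2 F) - m₁} := by
      intro m₂ hm₂
      rw [Finset.mem_filter] at hm₂
      rw [Finset.mem_insert, Finset.mem_singleton]
      exact trace_fiber E hE (hS m₁ hm₁).1 (hS m₂ hm₂.1).1 (hS m₁ hm₁).2 (hS m₂ hm₂.1).2 hm₂.2
    exact (Finset.card_le_card hsub).trans Finset.card_le_two)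
  have h2 : (S.image Matrix.trace).card ≤ Fintype.card F := Finset.card_le_univ _
  calc S.card ≤ 2 * (S.image Matrix.trace).card := h1
    _ ≤ 2 * Fintype.card F := Nat.mul_le_mul_left _ h2

theorem card_C [Finite F] (C : Subgroup (GL (Fin 2) F))
    (hEC : (E : Set (M2 F)) = insert 0 ((fun g : GL (Fin 2) F => (g : M2 F)) '' (C : Set _))) :
    Nat.card C + 1 = Nat.card E := by
  have h0 : (0 : M2 F) ∉ (fun g : GL (Fin 2) F => (g : M2 F)) '' (C : Set _) := by
    rintro ⟨g, _, hg⟩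
    exact g.ne_zero hg
  have hinj : Function.Injective (fun g : GL (Fin 2) F => (g : M2 F)) := Units.val_injective
  have h1 : Nat.card E = (E : Set (M2 F)).ncard := (Nat.card_coe_set_eq _)
  rw [h1, hEC, Set.ncard_insert_of_notMem h0 (Set.toFinite _), Set.ncard_image_of_injective _ hinj]
  rw [← Nat.card_coe_set_eq]
  rfl

omit hE in
theorem val_det (g : GL (Fin 2) F) : ((Matrix.GeneralLinearGroup.det g : Fˣ) : F) = (g : M2 F).det :=
  rfl

theorem det_surj [Fintype F] [DecidableEq F] (C : Subgroup (GL (Fin 2) F))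
    (hEC : (E : Set (M2 F)) = insert 0 ((fun g : GL (Fin 2) F => (g : M2 F)) '' (C : Set _)))
    (hcard : Nat.card E = Fintype.card F ^ 2) (δ : Fˣ) :
    ∃ c ∈ C, Matrix.GeneralLinearGroup.det c = δ := by
  classical
  set q := Fintype.card F with hq
  have hq2 : 2 ≤ q := Fintype.one_lt_card
  have hC : Nat.card C + 1 = q ^ 2 := by rw [card_C E hE C hEC, hcard]
  let ψ : C →* Fˣ := Matrix.GeneralLinearGroup.det.comp C.subtype
  let S : Finset (M2 F) := Finset.univ.filter (fun m => m ∈ E ∧ m.det = 1)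
  have hS : ∀ m ∈ S, m ∈ E ∧ m.det = 1 := fun m hm => (Finset.mem_filter.1 hm).2
  have hSb := ker_bound E hE S hS
  have hker : Nat.card ψ.ker ≤ S.card := by
    let f : ψ.ker → S := fun k => ⟨(((k : C) : GL (Fin 2) F) : M2 F), by
      rw [Finset.mem_filter]
      refine ⟨Finset.mem_univ _, ?_, ?_⟩
      · have : (((k : C) : GL (Fin 2) F) : M2 F) ∈ (E : Set (M2 F)) := by
          rw [hEC]
          exact Set.mem_insert_of_mem _ ⟨_, (k : C).2, rfl⟩
        exact this
      · have hk : ψ (k : C) = 1 := k.2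
        have := congrArg Units.val hk
        exact this⟩
    have hf : Function.Injective f := by
      intro a b hab
      have h1 : (((a : C) : GL (Fin 2) F) : M2 F) = (((b : C) : GL (Fin 2) F) : M2 F) :=
        congrArg Subtype.val hab
      exact Subtype.ext (Subtype.ext (Units.ext h1))
    have := Nat.card_le_card_of_injective f hf
    rwa [Nat.card_eq_finsetCard] at this
  have hlag : Nat.card ψ.ker * Nat.card ψ.range = Nat.card C := by
    rw [← Subgroup.index_ker]; exact Subgroup.card_mul_index _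
  have hdvd : Nat.card ψ.range ∣ q - 1 := by
    have := Subgroup.card_subgroup_dvd_card ψ.range
    rwa [Nat.card_units, Nat.card_eq_fintype_card (α := F)] at this
  have hr : Nat.card ψ.range = q - 1 := by
    obtain ⟨k, hk⟩ := hdvd
    set r := Nat.card ψ.range with hrdef
    have hkpos : k ≠ 0 := by
      rintro rfl
      rw [mul_zero] at hk
      omega
    by_cases hk1 : k = 1
    · rw [hk1, mul_one] at hk; exact hk.symm
    · exfalso
      have hk2 : 2 ≤ k := by omega
      have h2r : 2 * r ≤ q - 1 := by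
        rw [hk, mul_comm]; exact Nat.mul_le_mul_left r hk2
      have h3 : q ^ 2 - 1 ≤ 2 * q * r := by
        have : Nat.card C = q ^ 2 - 1 := by omega
        rw [← this, ← hlag]
        exact Nat.mul_le_mul_right r (hker.trans hSb)
      have h4 : 2 * q * r ≤ q * (q - 1) := by
        calc 2 * q * r = q * (2 * r) := by ring
          _ ≤ q * (q - 1) := Nat.mul_le_mul_left q h2r
      have h5 : q ^ 2 - 1 ≤ q * (q - 1) := h3.trans h4
      have h6 : q * (q - 1) = q ^ 2 - q := by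
        rw [Nat.mul_sub, mul_one, sq]
      rw [h6] at h5
      have h7 : q ≤ q ^ 2 := by nlinarith
      omega
  have htop : ψ.range = ⊤ := by
    apply Subgroup.eq_top_of_card_eq
    rw [hr, Nat.card_units, Nat.card_eq_fintype_card (α := F)]
  have : δ ∈ ψ.range := by rw [htop]; trivial
  obtain ⟨c, hc⟩ := this
  exact ⟨c, c.2, hc⟩

end cartan

section main
variable (p : ℕ) [Fact p.Prime]

theorem exists_mulVec_ne_zero {F : Type*} [Field F] (N : M2 F) (hN : N ≠ 0) :
    ∃ v : Fin 2 → F, N *ᵥ v ≠ 0 := by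
  by_contra hcon
  push_neg at hcon
  apply hN
  ext i j
  have := congrFun (hcon (Pi.single j 1)) i
  simpa [Matrix.mulVec_single_one] using this

theorem backward (H C : Subgroup (GL (Fin 2) (ZMod p))) (E : Subring (M2 (ZMod p)))
    (hCH : C ≤ H) (hE : IsField E) (hcard : Nat.card E = p ^ 2)
    (hEC : (E : Set (M2 (ZMod p))) =
      insert 0 ((fun g : GL (Fin 2) (ZMod p) => (g : M2 (ZMod p))) '' (C : Set _)))
    (hp : p ∣ Nat.card H) : H = ⊤ := by
  classical
  have hcardF : Nat.card (ZMod p) = p := by rw [Nat.card_eq_fintype_card, ZMod.card]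
  have hcard' : Nat.card E = Nat.card (ZMod p) ^ 2 := by rw [hcardF, hcard]
  -- Cauchy
  obtain ⟨g, hg⟩ := exists_prime_orderOf_dvd_card' (G := H) p hp
  set g₀ : GL (Fin 2) (ZMod p) := (g : GL (Fin 2) (ZMod p)) with hg₀
  have hg₀H : g₀ ∈ H := g.2
  have hgp : g₀ ^ p = 1 := by
    have : g ^ p = 1 := by
      have h := pow_orderOf_eq_one g
      rwa [hg] at h
    have := congrArg (fun x : H => (x : GL (Fin 2) (ZMod p))) this
    simpa using this
  have hg1 : g₀ ≠ 1 := by
    intro h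
    have : g = 1 := Subtype.ext h
    rw [this, orderOf_one] at hg
    exact (Fact.out : p.Prime).one_lt.ne hg
  set N : M2 (ZMod p) := (g₀ : M2 (ZMod p)) - 1 with hN
  have hN0 : N ≠ 0 := by
    intro h
    apply hg1
    apply Units.ext
    rw [Units.val_one]
    exact sub_eq_zero.1 h
  have hNp : N ^ p = 0 := by
    rw [hN, sub_pow_char_of_commute p (Commute.one_right _), one_pow, ← Units.val_pow_eq_pow_val,
      hgp, Units.val_one, sub_self]
  have hsq : N * N = 0 := sq_eq_zero_of_pow_eq_zero N p hNp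
  obtain ⟨v, hv⟩ := exists_mulVec_ne_zero N hN0
  set w := N *ᵥ v with hw
  have hNw : N *ᵥ w = 0 := by rw [hw, Matrix.mulVec_mulVec, hsq, Matrix.zero_mulVec]
  -- conjugation
  have key : ∀ u : Fin 2 → ZMod p, u ≠ 0 → ∃ c ∈ C,
      (((c * g₀ * c⁻¹ : GL (Fin 2) (ZMod p)) : M2 (ZMod p)) - 1) *
        (((c * g₀ * c⁻¹ : GL (Fin 2) (ZMod p)) : M2 (ZMod p)) - 1) = 0 ∧
      (((c * g₀ * c⁻¹ : GL (Fin 2) (ZMod p)) : M2 (ZMod p)) - 1) ≠ 0 ∧
      (((c * g₀ * c⁻¹ : GL (Fin 2) (ZMod p)) : M2 (ZMod p)) - 1) *ᵥ u = 0 := by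
    intro u hu
    obtain ⟨m, hmE, hmw⟩ := E_transitive E hE hcard' w hv u
    have hm0 : m ≠ 0 := by
      rintro rfl
      rw [Matrix.zero_mulVec] at hmw
      exact hu hmw.symm
    have hmC : m ∈ (fun g : GL (Fin 2) (ZMod p) => (g : M2 (ZMod p))) '' (C : Set _) := by
      have : m ∈ (E : Set (M2 (ZMod p))) := hmE
      rw [hEC] at this
      exact (Set.mem_insert_iff.1 this).resolve_left hm0
    obtain ⟨c, hcC, rfl⟩ := hmC
    refine ⟨c, hcC, ?_⟩
    have hconj : ((c * g₀ * c⁻¹ : GL (Fin 2) (ZMod p)) : M2 (ZMod p)) - 1 =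
        (c : M2 (ZMod p)) * N * ((c⁻¹ : GL (Fin 2) (ZMod p)) : M2 (ZMod p)) := by
      rw [hN, Units.val_mul, Units.val_mul, mul_sub, sub_mul, mul_one, Units.mul_inv]
    have hci : ((c⁻¹ : GL (Fin 2) (ZMod p)) : M2 (ZMod p)) * (c : M2 (ZMod p)) = 1 :=
      Units.inv_mul c
    rw [hconj]
    refine ⟨?_, ?_, ?_⟩
    · calc (c : M2 (ZMod p)) * N * ((c⁻¹ : GL (Fin 2) (ZMod p)) : M2 (ZMod p)) *
            ((c : M2 (ZMod p)) * N * ((c⁻¹ : GL (Fin 2) (ZMod p)) : M2 (ZMod p)))
          = (c : M2 (ZMod p)) * N * (((c⁻¹ : GL (Fin 2) (ZMod p)) : M2 (ZMod p)) *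
              (c : M2 (ZMod p))) * N * ((c⁻¹ : GL (Fin 2) (ZMod p)) : M2 (ZMod p)) := by
            simp only [mul_assoc]
        _ = (c : M2 (ZMod p)) * (N * N) * ((c⁻¹ : GL (Fin 2) (ZMod p)) : M2 (ZMod p)) := by
            rw [hci, mul_one, mul_assoc (c : M2 (ZMod p)) N N]
        _ = 0 := by rw [hsq, mul_zero, zero_mul]
    · intro h0
      apply hN0
      calc N = (((c⁻¹ : GL (Fin 2) (ZMod p)) : M2 (ZMod p)) * (c : M2 (ZMod p))) * N *
            (((c⁻¹ : GL (Fin 2) (ZMod p)) : M2 (ZMod p)) * (c : M2 (ZMod p))) := by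
            rw [hci, one_mul, mul_one]
        _ = ((c⁻¹ : GL (Fin 2) (ZMod p)) : M2 (ZMod p)) * ((c : M2 (ZMod p)) * N *
            ((c⁻¹ : GL (Fin 2) (ZMod p)) : M2 (ZMod p))) * (c : M2 (ZMod p)) := by
            simp only [mul_assoc]
        _ = 0 := by rw [h0, mul_zero, zero_mul]
    · rw [← hmw, Matrix.mulVec_mulVec, mul_assoc, mul_assoc, hci, mul_one, ← Matrix.mulVec_mulVec,
        hNw, Matrix.mulVec_zero]
  -- upper unipotents
  have hU : ∀ t : ZMod p, U t ∈ H := by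
    obtain ⟨c, hcC, h1, h2, h3⟩ := key ![1, 0] (by
      intro h; have := congrFun h 0; simp at this)
    obtain ⟨x, hx0, hx⟩ := shape_upper _ h1 h2 h3
    have hmem : c * g₀ * c⁻¹ ∈ H := H.mul_mem (H.mul_mem (hCH hcC) hg₀H) (H.inv_mem (hCH hcC))
    have hUx : c * g₀ * c⁻¹ = U x := by
      apply Units.ext
      rw [coe_U]
      have := sub_eq_iff_eq_add.1 hx
      rw [this]
      ext i j; fin_cases i <;> fin_cases j <;> simp
    intro t
    have : U t = (U x) ^ (t / x).val := by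
      rw [U_pow, ZMod.natCast_zmod_val, div_mul_cancel₀ _ hx0]
    rw [this, ← hUx]
    exact H.pow_mem hmem _
  have hL : ∀ t : ZMod p, Lo t ∈ H := by
    obtain ⟨c, hcC, h1, h2, h3⟩ := key ![0, 1] (by
      intro h; have := congrFun h 1; simp at this)
    obtain ⟨x, hx0, hx⟩ := shape_lower _ h1 h2 h3
    have hmem : c * g₀ * c⁻¹ ∈ H := H.mul_mem (H.mul_mem (hCH hcC) hg₀H) (H.inv_mem (hCH hcC))
    have hLx : c * g₀ * c⁻¹ = Lo x := by
      apply Units.ext
      rw [coe_Lo]
      have := sub_eq_iff_eq_add.1 hx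
      rw [this]
      ext i j; fin_cases i <;> fin_cases j <;> simp
    intro t
    have : Lo t = (Lo x) ^ (t / x).val := by
      rw [Lo_pow, ZMod.natCast_zmod_val, div_mul_cancel₀ _ hx0]
    rw [this, ← hLx]
    exact H.pow_mem hmem _
  -- conclusion
  rw [eq_top_iff]
  intro g _
  have hcardq : Nat.card E = Fintype.card (ZMod p) ^ 2 := by rw [ZMod.card, hcard]
  obtain ⟨c, hcC, hc⟩ := det_surj E hE C hEC hcardq (Matrix.GeneralLinearGroup.det g)
  have h1 : c⁻¹ * g ∈ H := by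
    apply mem_of_det_eq_one H hU hL
    have : Matrix.GeneralLinearGroup.det (c⁻¹ * g) = 1 := by
      rw [map_mul, map_inv, hc, inv_mul_cancel]
    exact congrArg Units.val this
  have : g = c * (c⁻¹ * g) := by rw [mul_inv_cancel_left]
  rw [this]
  exact H.mul_mem (hCH hcC) h1

theorem forward : ∃ (C : Subgroup (GL (Fin 2) (ZMod p))) (E : Subring (M2 (ZMod p))),
    IsField E ∧ Nat.card E = p ^ 2 ∧
      (E : Set (M2 (ZMod p))) =
        insert 0 ((fun g : GL (Fin 2) (ZMod p) => (g : M2 (ZMod p))) '' (C : Set _)) := by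
  classical
  let K := GaloisField p 2
  have hfr : Module.finrank (ZMod p) K = 2 := GaloisField.finrank p (by norm_num)
  haveI : Module.Finite (ZMod p) K := Module.finite_of_finrank_pos (by rw [hfr]; norm_num)
  let b : Module.Basis (Fin 2) (ZMod p) K := Module.finBasisOfFinrankEq (ZMod p) K hfr
  let φ : K →ₐ[ZMod p] M2 (ZMod p) := Algebra.leftMulMatrix b
  have hφ : Function.Injective φ := Algebra.leftMulMatrix_injective b
  let E : Subring (M2 (ZMod p)) := φ.toRingHom.range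
  have hmemE : ∀ m, m ∈ E ↔ ∃ x : K, φ x = m := fun m => Iff.rfl
  let e : K ≃+* E := RingEquiv.ofBijective φ.toRingHom.rangeRestrict
    ⟨fun x y h => hφ (congrArg Subtype.val h), φ.toRingHom.rangeRestrict_surjective⟩
  have hEf : IsField E := e.symm.toMulEquiv.isField (Field.toIsField K)
  have hEc : Nat.card E = p ^ 2 := by
    rw [← Nat.card_congr e.toEquiv]
    exact GaloisField.card p 2 (by norm_num)
  let C : Subgroup (GL (Fin 2) (ZMod p)) :=
    { carrier := {g | (g : M2 (ZMod p)) ∈ E}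
      one_mem' := E.one_mem
      mul_mem' := fun {a b} ha hb => by
        show ((a * b : GL (Fin 2) (ZMod p)) : M2 (ZMod p)) ∈ E
        rw [Units.val_mul]; exact E.mul_mem ha hb
      inv_mem' := fun {g} hg => by
        show ((g⁻¹ : GL (Fin 2) (ZMod p)) : M2 (ZMod p)) ∈ E
        obtain ⟨x, hx⟩ := (hmemE _).1 hg
        have hx0 : x ≠ 0 := by
          rintro rfl
          rw [map_zero] at hx
          exact g.ne_zero hx.symm
        have h1 : (g : M2 (ZMod p)) * φ x⁻¹ = 1 := by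
          rw [← hx, ← map_mul, mul_inv_cancel₀ hx0, map_one]
        rw [← Units.eq_inv_of_mul_eq_one_left h1]
        exact (hmemE _).2 ⟨x⁻¹, rfl⟩ }
  refine ⟨C, E, hEf, hEc, ?_⟩
  ext m
  constructor
  · intro hm
    obtain ⟨x, rfl⟩ := (hmemE _).1 hm
    by_cases hx0 : x = 0
    · rw [hx0, map_zero]; exact Set.mem_insert _ _
    · refine Set.mem_insert_of_mem _ ⟨⟨φ x, φ x⁻¹, ?_, ?_⟩, ?_, rfl⟩
      · rw [← map_mul, mul_inv_cancel₀ hx0, map_one]
      · rw [← map_mul, inv_mul_cancel₀ hx0, map_one]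
      · exact (hmemE _).2 ⟨x, rfl⟩
  · intro hm
    rcases Set.mem_insert_iff.1 hm with rfl | ⟨g, hg, rfl⟩
    · exact E.zero_mem
    · exact hg

theorem card_dvd : p ∣ Nat.card (GL (Fin 2) (ZMod p)) := by
  rw [Matrix.card_GL_field, Fin.prod_univ_two, ZMod.card]
  refine Dvd.dvd.mul_left ?_ _
  simp only [Fin.val_one, pow_one]
  have : p ^ 2 - p = p * (p - 1) := by rw [Nat.mul_sub, mul_one, sq]
  rw [this]
  exact dvd_mul_right _ _

theorem main (H : Subgroup (GL (Fin 2) (ZMod p))) :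
    H = ⊤ ↔
      (∃ (C : Subgroup (GL (Fin 2) (ZMod p))) (E : Subring (Matrix (Fin 2) (Fin 2) (ZMod p))),
          C ≤ H ∧ IsField E ∧ Nat.card E = p ^ 2 ∧
            (E : Set (Matrix (Fin 2) (Fin 2) (ZMod p))) =
              insert 0 ((fun g : GL (Fin 2) (ZMod p) => (g : Matrix (Fin 2) (Fin 2) (ZMod p))) ''
                (C : Set (GL (Fin 2) (ZMod p))))) ∧
        p ∣ Nat.card H := by
  constructor
  · rintro rfl
    obtain ⟨C, E, h1, h2, h3⟩ := forward p
    refine ⟨⟨C, E, le_top, h1, h2, h3⟩, ?_⟩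
    rw [Subgroup.card_top]
    exact card_dvd p
  · rintro ⟨⟨C, E, hCH, hE, hcard, hEC⟩, hp⟩
    exact backward p H C E hCH hE hcard hEC hp

end main

end Groth.Agent.Lib.Helper15.GL2Fp
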