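import Mathlib
import Groth.Agent.Lib.Helper15.GLChar

/-!
# `SL_n ∩ H` lies in the commutator subgroup of `GL_n` when there is a unit `u` with `u - 1` a unit
(helper15)
-/

set_option autoImplicit false
set_option linter.style.haveILetI false
universe u

namespace Groth.Agent.Lib.Helper15.GLComm

open Matrix Groth.Agent.Lib.Helper15.GLGen Groth.Agent.Lib.Helper15.GLChar

variable {ι : Type} [Fintype ι] [DecidableEq ι] {B : Type u} [CommRing B]
  {Γ : Type*} [CommGroup Γ] (χ : (Matrix ι ι B)ˣ →* Γ)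

lemma chi_rowU_of_unit (u : Bˣ) (i : ι) (c : ι → B) : χ (rowU i (((u : B) - 1) • c)) = 1 := by
  have h1 : ((u : B) - 1) • c = (u : B) • c + (-c) := by rw [sub_smul, one_smul, sub_eq_add_neg]
  rw [h1, rowU_add, map_mul, rowU_neg, map_inv]
  have h2 := congrArg χ (diag_mul_rowU i u c)
  rw [map_mul, map_mul, mul_comm] at h2
  have h3 := mul_right_cancel h2
  rw [← h3, mul_inv_cancel]

lemma chi_colU_of_unit (u : Bˣ) (i : ι) (c : ι → B) : χ (colU i (((u : B) - 1) • c)) = 1 := by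
  have h1 : ((u : B) - 1) • c = (u : B) • c + (-c) := by rw [sub_smul, one_smul, sub_eq_add_neg]
  rw [h1, colU_add, map_mul, colU_neg, map_inv]
  have h2 := congrArg χ (colU_mul_diag i u c)
  rw [map_mul, map_mul, mul_comm (χ (diagU _))] at h2
  have h3 := mul_right_cancel h2
  rw [← h3, mul_inv_cancel]

lemma chi_rowU (u : Bˣ) (hu : IsUnit ((u : B) - 1)) (i : ι) (c : ι → B) : χ (rowU i c) = 1 := by
  obtain ⟨v, hv⟩ := hu
  have := chi_rowU_of_unit χ u i ((↑v⁻¹ : B) • c)
  rwa [smul_smul, ← hv, Units.mul_inv, one_smul] at this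

lemma chi_colU (u : Bˣ) (hu : IsUnit ((u : B) - 1)) (i : ι) (c : ι → B) : χ (colU i c) = 1 := by
  obtain ⟨v, hv⟩ := hu
  have := chi_colU_of_unit χ u i ((↑v⁻¹ : B) • c)
  rwa [smul_smul, ← hv, Units.mul_inv, one_smul] at this

lemma chi_torus_swap (j j' : ι) (b : Bˣ) :
    χ (diagU (Pi.mulSingle j b)) = χ (diagU (Pi.mulSingle j' b)) := by
  have h : (Pi.mulSingle j' b : ι → Bˣ) = (Pi.mulSingle j b : ι → Bˣ) ∘ Equiv.swap j j' := by
    ext a : 1
    rw [Function.comp_apply, Pi.mulSingle_apply, Pi.mulSingle_apply]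
    by_cases ha : a = j'
    · subst ha; simp
    · rw [if_neg ha, if_neg]
      intro h
      apply ha
      rw [Equiv.swap_apply_eq_iff] at h
      rw [h]; simp
  rw [h, ← swap_conj, map_mul, map_mul, mul_comm, ← mul_assoc, ← map_mul]
  have : Matrix.GeneralLinearGroup.swap B j j' * Matrix.GeneralLinearGroup.swap B j j' = 1 := by
    apply Units.ext
    exact Matrix.swap_mul_self j j'
  rw [this, map_one, one_mul]

lemma chi_diagU (j₀ : ι) (d : ι → Bˣ) :
    χ (diagU d) = χ (diagU (Pi.mulSingle j₀ (∏ j, d j))) := by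
  have h1 : d = ∏ j, Pi.mulSingle j (d j) := (Finset.univ_prod_mulSingle d).symm
  have h2 : χ (diagU d) = (χ.comp diagHom) d := rfl
  have h3 : χ (diagU (Pi.mulSingle j₀ (∏ j, d j))) =
      (χ.comp (diagHom.comp (MonoidHom.mulSingle (fun _ : ι => Bˣ) j₀))) (∏ j, d j) := rfl
  rw [h2, h3]
  conv_lhs => rw [h1]
  rw [map_prod, map_prod]
  refine Finset.prod_congr rfl fun j _ => ?_
  exact chi_torus_swap χ j j₀ (d j)

theorem chi_eq_of_mem_H (u : Bˣ) (hu : IsUnit ((u : B) - 1)) (j₀ : ι) (g : (Matrix ι ι B)ˣ)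
    (hg : g ∈ H ι B) :
    χ g = χ (diagU (Pi.mulSingle j₀ (Matrix.GeneralLinearGroup.det g))) := by
  have hEq : Set.EqOn χ ((χ.comp (diagHom.comp (MonoidHom.mulSingle (fun _ : ι => Bˣ) j₀))).comp
      Matrix.GeneralLinearGroup.det) (Subgroup.closure (gens ι B)) := by
    apply MonoidHom.eqOn_closure
    rintro x (⟨i, c, rfl⟩ | ⟨i, c, rfl⟩ | ⟨d, rfl⟩)
    · show χ (rowU i c) = χ (diagU (Pi.mulSingle j₀ (Matrix.GeneralLinearGroup.det (rowU i c))))
      rw [chi_rowU χ u hu, det_rowU, Pi.mulSingle_one, diagU_one, map_one]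
    · show χ (colU i c) = χ (diagU (Pi.mulSingle j₀ (Matrix.GeneralLinearGroup.det (colU i c))))
      rw [chi_colU χ u hu, det_colU, Pi.mulSingle_one, diagU_one, map_one]
    · show χ (diagU d) = χ (diagU (Pi.mulSingle j₀ (Matrix.GeneralLinearGroup.det (diagU d))))
      rw [det_diagU]
      exact chi_diagU χ j₀ d
  exact hEq hg

theorem mem_commutator_of_mem_H (u : Bˣ) (hu : IsUnit ((u : B) - 1)) (g : (Matrix ι ι B)ˣ)
    (hg : g ∈ H ι B) (hdet : Matrix.GeneralLinearGroup.det g = 1) :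
    g ∈ commutator ((Matrix ι ι B)ˣ) := by
  rcases isEmpty_or_nonempty ι with hι | ⟨⟨j₀⟩⟩
  · have : g = 1 := Subsingleton.elim _ _
    rw [this]
    exact Subgroup.one_mem _
  · rw [← Abelianization.ker_of, MonoidHom.mem_ker]
    rw [chi_eq_of_mem_H Abelianization.of u hu j₀ g hg, hdet, Pi.mulSingle_one, diagU_one, map_one]

end Groth.Agent.Lib.Helper15.GLComm
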