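import Mathlib

/-!
# An étale neighbourhood of a prime with a unit `u` such that `u - 1` is a unit (helper15)
-/

set_option autoImplicit false
set_option linter.style.haveILetI false
universe u

namespace Groth.Agent.Lib.Helper15.GLEt

open Polynomial

section pair

variable (A : Type u) [CommRing A]

/-- the polynomial `X^2 - (X - 1)` -/
noncomputable def cpoly : Polynomial A := X ^ 2 - (X - 1)

lemma cpoly_monic : (cpoly A).Monic := by
  rcases subsingleton_or_nontrivial A with h | h
  · exact Subsingleton.elim _ _
  · apply Polynomial.monic_X_pow_sub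
    calc (X - 1 : A[X]).degree ≤ max (X : A[X]).degree (1 : A[X]).degree := degree_sub_le _ _
      _ ≤ 1 := max_le degree_X_le (degree_one_le.trans (by norm_num))
      _ < (2 : ℕ) := by norm_num

/-- the standard étale pair `(X^2 - X + 1, 3)` -/
noncomputable def pair : StandardEtalePair A where
  f := cpoly A
  monic_f := cpoly_monic A
  g := C 3
  cond := by
    refine ⟨-(C 2 * X - 1), 4, 1, ?_⟩
    have hd : derivative (cpoly A) = C 2 * X - 1 := by
      have h2 : (C 2 : A[X]) = 2 := map_ofNat C 2
      simp [cpoly, h2]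
      ring
    rw [hd, cpoly, pow_one]
    have h3 : (C 3 : A[X]) = 3 := map_ofNat C 3
    have h2 : (C 2 : A[X]) = 2 := map_ofNat C 2
    rw [h3, h2]
    ring

lemma pair_rel : (pair A).X * (1 - (pair A).X) = 1 := by
  have h := ((pair A).hasMap_X).1
  have hf : (pair A).f = X ^ 2 - (X - 1) := rfl
  rw [hf] at h
  simp only [map_sub, map_pow, aeval_X, map_one] at h
  linear_combination -h

end pair

theorem exists_etale_unit (A : Type u) [CommRing A] (q : PrimeSpectrum A) :
    ∃ (A' : Type u) (_ : CommRing A') (_ : Algebra A A'), Algebra.Etale A A' ∧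
      (∃ Q : PrimeSpectrum A', Q.asIdeal.comap (algebraMap A A') = q.asIdeal) ∧
      ∃ u : A'ˣ, IsUnit ((u : A') - 1) := by
  by_cases h2 : (2 : A) ∈ q.asIdeal
  · -- `3 ∉ q`
    have h3 : (3 : A) ∉ q.asIdeal := by
      intro h3
      have h1 : (1 : A) ∈ q.asIdeal := by
        have : (1 : A) = 3 - 2 := by norm_num
        rw [this]
        exact Ideal.sub_mem _ h3 h2
      exact q.isPrime.ne_top ((Ideal.eq_top_iff_one _).mpr h1)
    let K := AlgebraicClosure q.asIdeal.ResidueField
    have hker : RingHom.ker (algebraMap A K) = q.asIdeal := by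
      rw [IsScalarTower.algebraMap_eq A q.asIdeal.ResidueField K, ← RingHom.comap_ker,
        (RingHom.injective_iff_ker_eq_bot _).mp (algebraMap q.asIdeal.ResidueField K).injective,
        ← RingHom.ker_eq_comap_bot, Ideal.ker_algebraMap_residueField]
    obtain ⟨x, hx⟩ : ∃ x : K, x ^ 2 - (x - 1) = 0 := by
      have hdeg : (X ^ 2 - (X - 1) : K[X]).degree ≠ 0 := by
        have : (X ^ 2 - (X - 1) : K[X]).degree = 2 := by compute_degree!
        rw [this]; norm_num
      obtain ⟨x, hx⟩ := IsAlgClosed.exists_root _ hdeg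
      refine ⟨x, ?_⟩
      simpa [IsRoot] using hx
    have hmap : (pair A).HasMap x := by
      refine ⟨?_, ?_⟩
      · have hf : (pair A).f = X ^ 2 - (X - 1) := rfl
        rw [hf]
        simpa using hx
      · have hg : (pair A).g = C 3 := rfl
        rw [hg, aeval_C]
        apply IsUnit.mk0
        intro h0
        apply h3
        rw [← hker]
        exact h0
    let ψ : (pair A).Ring →ₐ[A] K := (pair A).lift x hmap
    refine ⟨(pair A).Ring, inferInstance, inferInstance, inferInstance,
      ⟨⟨RingHom.ker ψ.toRingHom, RingHom.ker_isPrime _⟩, ?_⟩, ?_⟩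
    · show (RingHom.ker ψ.toRingHom).comap (algebraMap A (pair A).Ring) = q.asIdeal
      rw [RingHom.comap_ker]
      refine Eq.trans ?_ hker
      congr 1
      exact ψ.comp_algebraMap
    · refine ⟨⟨(pair A).X, 1 - (pair A).X, pair_rel A, by rw [mul_comm]; exact pair_rel A⟩, ?_⟩
      show IsUnit ((pair A).X - 1)
      have : (pair A).X - 1 = -(1 - (pair A).X) := by ring
      rw [this, IsUnit.neg_iff]
      exact IsUnit.of_mul_eq_one _ (by rw [mul_comm]; exact pair_rel A)
  · -- `2 ∉ q`
    have hd : Disjoint (Submonoid.powers (2 : A) : Set A) q.asIdeal :=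
      (Ideal.disjoint_powers_iff_notMem_of_isPrime 2).mpr h2
    refine ⟨Localization.Away (2 : A), inferInstance, inferInstance, inferInstance,
      ⟨⟨Ideal.map (algebraMap A (Localization.Away (2 : A))) q.asIdeal,
        IsLocalization.isPrime_of_isPrime_disjoint (Submonoid.powers 2) _ _ q.isPrime hd⟩, ?_⟩, ?_⟩
    · exact IsLocalization.under_map_of_isPrime_disjoint (Submonoid.powers 2) _ q.isPrime hd
    · have hu : IsUnit (algebraMap A (Localization.Away (2 : A)) 2) :=
        IsLocalization.Away.algebraMap_isUnit 2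
      obtain ⟨u, hu⟩ := hu
      refine ⟨u, ?_⟩
      rw [hu, map_ofNat]
      norm_num

end Groth.Agent.Lib.Helper15.GLEt
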