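import Mathlib
import Groth.Agent.Lib.Helper15.GLChar

/-!
# Gaussian elimination after étale (Zariski) localization (helper15)
-/

set_option autoImplicit false
set_option linter.style.haveILetI false
universe u

namespace Groth.Agent.Lib.Helper15.GLLoc

open Matrix Groth.Agent.Lib.Helper15.GLGen Groth.Agent.Lib.Helper15.GLChar

variable {ι : Type} [Fintype ι] [DecidableEq ι]

section alg

variable {B : Type*} [CommRing B]

lemma step_alg (S : Finset ι) (g₁ : (Matrix ι ι B)ˣ) (hred₁ : Red S g₁.val) (i₀ : ι)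
    (hi₀ : i₀ ∉ S) (u : Bˣ) (hu : (u : B) = g₁.val i₀ i₀) :
    ∃ c₂ c₃ : ι → B, Red (insert i₀ S) (colU i₀ c₃ * (g₁ * rowU i₀ c₂)).val := by
  -- step 2: clear row `i₀`
  set c₂ : ι → B := fun b => -(↑u⁻¹ : B) * g₁.val i₀ b with hc₂
  set g₂ := g₁ * rowU i₀ c₂ with hg₂
  have hg₂app : ∀ a b, g₂.val a b = g₁.val a b + if b ≠ i₀ then g₁.val a i₀ * c₂ b else 0 := by
    intro a b
    rw [hg₂, Units.val_mul, mul_rowU_apply]
  have hg₂row : ∀ b, b ≠ i₀ → g₂.val i₀ b = 0 := by
    intro b hb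
    rw [hg₂app, if_pos hb, hc₂, ← hu]
    simp only
    rw [← mul_assoc, mul_neg, Units.mul_inv, neg_one_mul, add_neg_cancel]
  have hg₂diag : g₂.val i₀ i₀ = u := by
    rw [hg₂app, if_neg (not_not.mpr rfl), add_zero, hu]
  have hred₂ : Red S g₂.val := by
    intro i hi j hji
    have hii₀ : i ≠ i₀ := fun h => hi₀ (h ▸ hi)
    refine ⟨?_, ?_⟩
    · rw [hg₂app, (hred₁ i hi j hji).1, (hred₁ i hi i₀ (Ne.symm hii₀)).1]
      simp
    · rw [hg₂app, (hred₁ i hi j hji).2, if_pos hii₀, hc₂]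
      simp only
      rw [(hred₁ i hi i₀ (Ne.symm hii₀)).2]
      simp
  -- step 3: clear column `i₀`
  set c₃ : ι → B := fun a => -(↑u⁻¹ : B) * g₂.val a i₀ with hc₃
  set g₃ := colU i₀ c₃ * g₂ with hg₃
  have hg₃app : ∀ a b, g₃.val a b = g₂.val a b + if a ≠ i₀ then c₃ a * g₂.val i₀ b else 0 := by
    intro a b
    rw [hg₃, Units.val_mul, colU_mul_apply]
  refine ⟨c₂, c₃, ?_⟩
  intro i hi j hji
  rcases Finset.mem_insert.mp hi with rfl | hiS
  · refine ⟨?_, ?_⟩
    · rw [hg₃app, if_neg (not_not.mpr rfl), add_zero]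
      exact hg₂row j hji
    · rw [hg₃app, if_pos hji, hc₃, hg₂diag]
      simp only
      rw [mul_comm (-(↑u⁻¹ : B)), mul_assoc, neg_mul, Units.inv_mul, mul_neg, mul_one,
        add_neg_cancel]
  · have hii₀ : i ≠ i₀ := fun h => hi₀ (h ▸ hiS)
    refine ⟨?_, ?_⟩
    · rw [hg₃app, (hred₂ i hiS j hji).1, if_pos hii₀, hc₃]
      simp only
      rw [(hred₂ i hiS i₀ (Ne.symm hii₀)).1]
      simp
    · rw [hg₃app, (hred₂ i hiS j hji).2, hg₂row i hii₀]
      simp

lemma step1 (P : Ideal B) [P.IsPrime] (S : Finset ι) (g : (Matrix ι ι B)ˣ) (hred : Red S g.val)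
    (i₀ : ι) (hi₀ : i₀ ∉ S) :
    ∃ h₁ ∈ H ι B, Red S (g * h₁).val ∧ (g * h₁).val i₀ i₀ ∉ P := by
  have hrow : ∑ k ∈ Finset.univ, g.val i₀ k * g.inv k i₀ = 1 := by
    have h1 : (g.val * g.inv) i₀ i₀ = 1 := by rw [g.val_inv]; simp
    rwa [Matrix.mul_apply] at h1
  obtain ⟨j₀, hj₀⟩ : ∃ j₀, g.val i₀ j₀ ∉ P := by
    by_contra hcon
    push Not at hcon
    have hmem : ∑ k ∈ Finset.univ, g.val i₀ k * g.inv k i₀ ∈ P :=
      Ideal.sum_mem _ fun k _ => Ideal.mul_mem_right _ _ (hcon k)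
    rw [hrow] at hmem
    exact (Ideal.IsPrime.ne_top ‹_›) ((Ideal.eq_top_iff_one _).mpr hmem)
  have hj₀S : j₀ ∉ S := by
    intro hj
    have hne : i₀ ≠ j₀ := fun h => hi₀ (h ▸ hj)
    have := (hred j₀ hj i₀ hne).2
    rw [this] at hj₀
    exact hj₀ (Ideal.zero_mem _)
  by_cases hu : g.val i₀ i₀ ∉ P
  · exact ⟨1, Subgroup.one_mem _, by rwa [mul_one], by rwa [mul_one]⟩
  · rw [not_not] at hu
    have hij : j₀ ≠ i₀ := fun h => hj₀ (h ▸ hu)
    refine ⟨rowU j₀ (Pi.single i₀ 1), rowU_mem _ _, ?_, ?_⟩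
    · intro i hi j hji
      have hii₀ : i ≠ i₀ := fun h => hi₀ (h ▸ hi)
      have hij₀ : i ≠ j₀ := fun h => hj₀S (h ▸ hi)
      rw [Units.val_mul, mul_rowU_apply, mul_rowU_apply]
      refine ⟨?_, ?_⟩
      · rw [(hred i hi j hji).1, (hred i hi j₀ (Ne.symm hij₀)).1]
        simp
      · rw [(hred i hi j hji).2, Pi.single_eq_of_ne hii₀]
        simp
    · rw [Units.val_mul, mul_rowU_apply, if_pos (Ne.symm hij), Pi.single_eq_same, mul_one]
      intro hmem
      apply hj₀
      have h2 : g.val i₀ j₀ = (g.val i₀ i₀ + g.val i₀ j₀) - (g.val i₀ i₀) := by ring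
      rw [h2]
      exact Ideal.sub_mem _ hmem hu

lemma diag_of_red (g : (Matrix ι ι B)ˣ) (hred : Red Finset.univ g.val) : g ∈ H ι B := by
  have hall : ∀ i : ι, i ∈ (Finset.univ : Finset ι) := Finset.mem_univ
  have hdiag : g.val = Matrix.diagonal fun i => g.val i i := by
    ext a b
    by_cases hab : a = b
    · subst hab; simp
    · rw [Matrix.diagonal_apply_ne _ hab]
      exact (hred a (hall a) b (Ne.symm hab)).1
  have hunit : ∀ i, IsUnit (g.val i i) := by
    intro i
    have h1 : (g.val * g.inv) i i = 1 := by rw [g.val_inv]; simp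
    rw [Matrix.mul_apply, Finset.sum_eq_single i] at h1
    · exact IsUnit.of_mul_eq_one _ h1
    · intro k _ hk
      rw [(hred i (hall i) k hk).1, zero_mul]
    · intro h; exact absurd (Finset.mem_univ i) h
  have : g = diagU fun i => (hunit i).unit := by
    apply Units.ext
    exact hdiag.trans rfl
  rw [this]
  exact diagU_mem _

variable {C : Type*} [CommRing C]

lemma map_mem_H (φ : B →+* C) (g : (Matrix ι ι B)ˣ) (hg : g ∈ H ι B) :
    Matrix.GeneralLinearGroup.map φ g ∈ H ι C := by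
  have : H ι B ≤ (H ι C).comap (Matrix.GeneralLinearGroup.map φ) := by
    rw [H, Subgroup.closure_le]
    rintro x (⟨i, c, rfl⟩ | ⟨i, c, rfl⟩ | ⟨d, rfl⟩)
    · show Matrix.GeneralLinearGroup.map φ (rowU i c) ∈ H ι C
      rw [map_rowU]; exact rowU_mem _ _
    · show Matrix.GeneralLinearGroup.map φ (colU i c) ∈ H ι C
      rw [map_colU]; exact colU_mem _ _
    · show Matrix.GeneralLinearGroup.map φ (diagU d) ∈ H ι C
      rw [map_diagU]; exact diagU_mem _
  exact this hg

lemma map_red (φ : B →+* C) (S : Finset ι) (g : (Matrix ι ι B)ˣ) (hred : Red S g.val) :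
    Red S (Matrix.GeneralLinearGroup.map φ g).val := by
  intro i hi j hji
  refine ⟨?_, ?_⟩
  · show φ (g.val i j) = 0
    rw [(hred i hi j hji).1, map_zero]
  · show φ (g.val j i) = 0
    rw [(hred i hi j hji).2, map_zero]

end alg

lemma exists_prime_away {B : Type u} [CommRing B] (P : PrimeSpectrum B) (x : B)
    (hx : x ∉ P.asIdeal) :
    ∃ Q : PrimeSpectrum (Localization.Away x),
      Q.asIdeal.comap (algebraMap B (Localization.Away x)) = P.asIdeal := by
  have hd : Disjoint (Submonoid.powers x : Set B) P.asIdeal :=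
    (Ideal.disjoint_powers_iff_notMem_of_isPrime x).mpr hx
  refine ⟨⟨Ideal.map (algebraMap B (Localization.Away x)) P.asIdeal,
    IsLocalization.isPrime_of_isPrime_disjoint (Submonoid.powers x) _ _ P.isPrime hd⟩, ?_⟩
  exact IsLocalization.under_map_of_isPrime_disjoint (Submonoid.powers x) _ P.isPrime hd

theorem loc_ind : ∀ (n : ℕ) (B : Type u) [CommRing B] (P : PrimeSpectrum B) (S : Finset ι)
    (g : (Matrix ι ι B)ˣ), Sᶜ.card = n → Red S g.val →
    ∃ (B' : Type u) (_ : CommRing B') (_ : Algebra B B'), Algebra.Etale B B' ∧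
      (∃ Q : PrimeSpectrum B', Q.asIdeal.comap (algebraMap B B') = P.asIdeal) ∧
      Matrix.GeneralLinearGroup.map (algebraMap B B') g ∈ H ι B' := by
  intro n
  induction n with
  | zero =>
    intro B _ P S g hS hred
    have hall : S = Finset.univ := by
      rw [← Finset.compl_eq_empty_iff]
      exact Finset.card_eq_zero.mp hS
    subst hall
    refine ⟨B, inferInstance, inferInstance, inferInstance, ⟨P, ?_⟩, ?_⟩
    · rw [Algebra.algebraMap_self]; exact Ideal.comap_id _
    · rw [Algebra.algebraMap_self, Matrix.GeneralLinearGroup.map_id]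
      exact diag_of_red g hred
  | succ n ih =>
    intro B _ P S g hS hred
    have hne : Sᶜ.Nonempty := by
      rw [← Finset.card_pos, hS]; exact Nat.succ_pos n
    obtain ⟨i₀, hi₀'⟩ := hne
    have hi₀ : i₀ ∉ S := Finset.mem_compl.mp hi₀'
    obtain ⟨h₁, hh₁, hred₁, hx⟩ := step1 P.asIdeal S g hred i₀ hi₀
    set g₁ := g * h₁ with hg₁
    set x := g₁.val i₀ i₀ with hxdef
    obtain ⟨P₁, hP₁⟩ := exists_prime_away P x hx
    let φ : B →+* Localization.Away x := algebraMap B (Localization.Away x)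
    have hux : IsUnit (φ x) := IsLocalization.Away.algebraMap_isUnit x
    obtain ⟨u, hu⟩ := hux
    have hred₁' := map_red φ S g₁ hred₁
    obtain ⟨c₂, c₃, hred₃⟩ := step_alg S (Matrix.GeneralLinearGroup.map φ g₁) hred₁' i₀ hi₀ u hu
    have hcard : (insert i₀ S)ᶜ.card = n := by
      have h1 : (insert i₀ S)ᶜ = Sᶜ.erase i₀ := by
        ext x
        simp only [Finset.mem_compl, Finset.mem_insert, Finset.mem_erase, not_or]
      rw [h1, Finset.card_erase_of_mem hi₀', hS, Nat.add_sub_cancel]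
    obtain ⟨B', _, _, hEt, ⟨Q, hQ⟩, hmem⟩ := ih (Localization.Away x) P₁ (insert i₀ S) _ hcard hred₃
    letI : Algebra B B' := ((algebraMap (Localization.Away x) B').comp φ).toAlgebra
    haveI : IsScalarTower B (Localization.Away x) B' := IsScalarTower.of_algebraMap_eq (fun _ => rfl)
    refine ⟨B', inferInstance, inferInstance, ?_, ⟨Q, ?_⟩, ?_⟩
    · exact Algebra.Etale.comp B (Localization.Away x) B'
    · rw [IsScalarTower.algebraMap_eq B (Localization.Away x) B', ← Ideal.comap_comap, hQ, hP₁]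
    · have hcomp : Matrix.GeneralLinearGroup.map (algebraMap B B') g =
          Matrix.GeneralLinearGroup.map (algebraMap (Localization.Away x) B')
            (Matrix.GeneralLinearGroup.map φ g) := by
        rw [← Matrix.GeneralLinearGroup.map_comp_apply]
        rfl
      rw [hcomp]
      have hgeq : Matrix.GeneralLinearGroup.map φ g =
          (colU i₀ c₃)⁻¹ * (colU i₀ c₃ * (Matrix.GeneralLinearGroup.map φ g₁ * rowU i₀ c₂)) *
            (rowU i₀ c₂)⁻¹ * (Matrix.GeneralLinearGroup.map φ h₁)⁻¹ := by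
        rw [hg₁, map_mul]
        group
      rw [hgeq, map_mul, map_mul, map_mul]
      refine Subgroup.mul_mem _ (Subgroup.mul_mem _ (Subgroup.mul_mem _ ?_ hmem) ?_) ?_
      · apply map_mem_H
        exact Subgroup.inv_mem _ (colU_mem _ _)
      · apply map_mem_H
        exact Subgroup.inv_mem _ (rowU_mem _ _)
      · apply map_mem_H
        exact Subgroup.inv_mem _ (map_mem_H φ h₁ hh₁)

theorem exists_etale_mem_H (B : Type u) [CommRing B] (P : PrimeSpectrum B) (g : (Matrix ι ι B)ˣ) :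
    ∃ (B' : Type u) (_ : CommRing B') (_ : Algebra B B'), Algebra.Etale B B' ∧
      (∃ Q : PrimeSpectrum B', Q.asIdeal.comap (algebraMap B B') = P.asIdeal) ∧
      Matrix.GeneralLinearGroup.map (algebraMap B B') g ∈ H ι B' :=
  loc_ind _ B P ∅ g rfl (fun i hi => absurd hi (Finset.notMem_empty i))

end Groth.Agent.Lib.Helper15.GLLoc
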