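import Mathlib
import Groth.Agent.Lib.Helper15.DetIrr

/-!
# Divisors of powers of the generic determinant (helper15)

Over a reduced ring `A` with only trivial idempotents, a polynomial `f` with `f * g = det ^ m`
is `a • det ^ e` for a unit `a` of `A`.
-/

set_option autoImplicit false
universe u v

open MvPolynomial

namespace Groth.Agent.Lib.Helper15.GLUnits

/-- the generic determinant over any commutative ring -/
noncomputable abbrev gdet (A : Type*) [CommRing A] (n : ℕ) : MvPolynomial (Fin n × Fin n) A :=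
  (Matrix.mvPolynomialX (Fin n) (Fin n) A).det

lemma map_gdet {A B : Type*} [CommRing A] [CommRing B] (φ : A →+* B) (n : ℕ) :
    MvPolynomial.map φ (gdet A n) = gdet B n := by
  unfold gdet
  rw [RingHom.map_det]
  congr 1
  ext i j : 1
  simp [Matrix.mvPolynomialX_apply]

/-- evaluation at the scalar matrix `t • 1` -/
noncomputable def scalarEval (A : Type*) [CommRing A] (n : ℕ) :
    MvPolynomial (Fin n × Fin n) A →+* Polynomial A :=
  MvPolynomial.eval₂Hom Polynomial.C (fun p : Fin n × Fin n => if p.1 = p.2 then Polynomial.X else 0)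

lemma scalarEval_gdet (A : Type*) [CommRing A] (n : ℕ) :
    scalarEval A n (gdet A n) = Polynomial.X ^ n := by
  unfold gdet
  rw [RingHom.map_det]
  have : (scalarEval A n).mapMatrix (Matrix.mvPolynomialX (Fin n) (Fin n) A) =
      Matrix.diagonal (fun _ => (Polynomial.X : Polynomial A)) := by
    ext i j : 1
    simp [scalarEval, Matrix.mvPolynomialX_apply, Matrix.diagonal_apply]
  rw [this, Matrix.det_diagonal, Finset.prod_const, Finset.card_univ, Fintype.card_fin]

lemma scalarEval_C (A : Type*) [CommRing A] (n : ℕ) (a : A) :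
    scalarEval A n (C a) = Polynomial.C a := by
  simp [scalarEval]

lemma scalarEval_map {A B : Type*} [CommRing A] [CommRing B] (φ : A →+* B) (n : ℕ)
    (f : MvPolynomial (Fin n × Fin n) A) :
    Polynomial.map φ (scalarEval A n f) = scalarEval B n (MvPolynomial.map φ f) := by
  have : (Polynomial.mapRingHom φ).comp (scalarEval A n) =
      (scalarEval B n).comp (MvPolynomial.map φ) := by
    apply MvPolynomial.ringHom_ext
    · intro a
      simp [scalarEval]
    · intro p
      simp only [scalarEval, RingHom.comp_apply, MvPolynomial.coe_eval₂Hom, MvPolynomial.eval₂_X,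
        MvPolynomial.map_X]
      split_ifs <;> simp
  exact RingHom.congr_fun this f

/-- over a field: divisors of `det ^ m` -/
theorem field_case (K : Type u) [Field K] (n : ℕ) (hn : 0 < n)
    (f g : MvPolynomial (Fin n × Fin n) K) (m : ℕ) (h : f * g = gdet K n ^ m) :
    ∃ (a : K) (e : ℕ), a ≠ 0 ∧ f = C a * gdet K n ^ e := by
  have hirr := Groth.Agent.Lib.Helper15.DetIrr.irreducible_gdet K n hn
  have hprime : Prime (gdet K n) := hirr.prime
  have hdvd : f ∣ gdet K n ^ m := ⟨g, h.symm⟩
  obtain ⟨e, -, he⟩ := (dvd_prime_pow hprime m).mp hdvd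
  obtain ⟨w, hw⟩ := he.symm
  have hwu : IsUnit (w : MvPolynomial (Fin n × Fin n) K) := w.isUnit
  rw [MvPolynomial.isUnit_iff_eq_C_of_isReduced] at hwu
  obtain ⟨a, ha, haw⟩ := hwu
  refine ⟨a, e, ha.ne_zero, ?_⟩
  rw [← hw, haw, mul_comm]

/-- the fibrewise shape of a divisor of `det ^ m` -/
theorem prime_case (A : Type u) [CommRing A] (n : ℕ) (hn : 0 < n)
    (f g : MvPolynomial (Fin n × Fin n) A) (m : ℕ) (h : f * g = gdet A n ^ m)
    (𝔭 : Ideal A) [𝔭.IsPrime] :
    ∃ e : ℕ, (∀ d, d ≠ n * e → (scalarEval A n f).coeff d ∈ 𝔭) ∧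
      (scalarEval A n f).coeff (n * e) ∉ 𝔭 ∧
      MvPolynomial.map (algebraMap A 𝔭.ResidueField) f =
        C (algebraMap A 𝔭.ResidueField ((scalarEval A n f).coeff (n * e))) *
          gdet 𝔭.ResidueField n ^ e := by
  set φ := algebraMap A 𝔭.ResidueField with hφ
  have hmap : MvPolynomial.map φ f * MvPolynomial.map φ g = gdet 𝔭.ResidueField n ^ m := by
    rw [← map_mul, h, map_pow, map_gdet]
  obtain ⟨a, e, ha, hfa⟩ := field_case 𝔭.ResidueField n hn _ _ m hmap
  have hF : Polynomial.map φ (scalarEval A n f) = Polynomial.C a * Polynomial.X ^ (n * e) := by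
    rw [scalarEval_map, hfa, map_mul, map_pow, scalarEval_C, scalarEval_gdet, ← pow_mul]
  have hcoeff : ∀ d, φ ((scalarEval A n f).coeff d) = if d = n * e then a else 0 := by
    intro d
    rw [← Polynomial.coeff_map, hF, Polynomial.coeff_C_mul_X_pow]
  refine ⟨e, fun d hd => ?_, ?_, ?_⟩
  · rw [← Ideal.algebraMap_residueField_eq_zero, ← hφ, hcoeff, if_neg hd]
  · rw [← Ideal.algebraMap_residueField_eq_zero, ← hφ, hcoeff, if_pos rfl]
    exact ha
  · rw [hcoeff, if_pos rfl]
    exact hfa

/-- a family of elements of a reduced ring with trivial idempotents such that modulo each prime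
exactly one member survives has exactly one nonzero member, which is a unit. -/
theorem exists_unique_unit (A : Type u) [CommRing A] [Nontrivial A] [IsReduced A]
    (hconn : ∀ e : A, IsIdempotentElem e → e = 0 ∨ e = 1) (c : ℕ → A)
    (hP : ∀ (𝔭 : Ideal A), 𝔭.IsPrime → ∃ d, (∀ d', d' ≠ d → c d' ∈ 𝔭) ∧ c d ∉ 𝔭) :
    ∃ d₀, IsUnit (c d₀) ∧ ∀ d, d ≠ d₀ → c d = 0 := by
  classical
  have horth : ∀ d d', d ≠ d' → c d * c d' = 0 := by
    intro d d' hdd'
    apply IsReduced.eq_zero
    rw [nilpotent_iff_mem_prime]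
    intro 𝔭 h𝔭
    obtain ⟨d₁, h1, -⟩ := hP 𝔭 h𝔭
    by_cases hd : d = d₁
    · exact Ideal.mul_mem_left _ _ (h1 d' (by rw [← hd]; exact hdd'.symm))
    · exact Ideal.mul_mem_right _ _ (h1 d hd)
  have hspan : Ideal.span (Set.range c) = ⊤ := by
    by_contra hne
    obtain ⟨𝔪, h𝔪, hle⟩ := Ideal.exists_le_maximal _ hne
    obtain ⟨d, -, hd⟩ := hP 𝔪 h𝔪.isPrime
    exact hd (hle (Ideal.subset_span ⟨d, rfl⟩))
  have h1 : (1 : A) ∈ Ideal.span (Set.range c) := by rw [hspan]; trivial
  rw [Ideal.span, Finsupp.mem_span_range_iff_exists_finsupp] at h1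
  obtain ⟨r, hr⟩ := h1
  have hsum : ∑ d ∈ r.support, r d * c d = 1 := by
    rw [← hr, Finsupp.sum]
    rfl
  have hidem : ∀ d ∈ r.support, IsIdempotentElem (r d * c d) := by
    intro d hd
    unfold IsIdempotentElem
    calc r d * c d * (r d * c d) = r d * c d * ∑ d' ∈ r.support, r d' * c d' := by
          rw [Finset.mul_sum, Finset.sum_eq_single d]
          · intro d' _ hd'
            have := horth d d' hd'.symm
            calc r d * c d * (r d' * c d') = r d * r d' * (c d * c d') := by ring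
              _ = 0 := by rw [this, mul_zero]
          · intro h; exact absurd hd h
      _ = r d * c d := by rw [hsum, mul_one]
  have hex : ∃ d₀ ∈ r.support, r d₀ * c d₀ = 1 := by
    by_contra hcon
    push Not at hcon
    have : ∑ d ∈ r.support, r d * c d = 0 := by
      apply Finset.sum_eq_zero
      intro d hd
      exact (hconn _ (hidem d hd)).resolve_right (hcon d hd)
    rw [this] at hsum
    exact zero_ne_one hsum
  obtain ⟨d₀, -, hd₀⟩ := hex
  refine ⟨d₀, IsUnit.of_mul_eq_one (r d₀) (by rw [mul_comm]; exact hd₀), fun d hd => ?_⟩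
  calc c d = c d * (r d₀ * c d₀) := by rw [hd₀, mul_one]
    _ = r d₀ * (c d * c d₀) := by ring
    _ = 0 := by rw [horth d d₀ hd, mul_zero]

/-- divisors of powers of the generic determinant over a reduced connected ring -/
theorem key (A : Type u) [CommRing A] [Nontrivial A] [IsReduced A]
    (hconn : ∀ e : A, IsIdempotentElem e → e = 0 ∨ e = 1) (n : ℕ) (hn : 0 < n)
    (f g : MvPolynomial (Fin n × Fin n) A) (m : ℕ) (h : f * g = gdet A n ^ m) :
    ∃ (a : A) (e : ℕ), IsUnit a ∧ f = C a * gdet A n ^ e := by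
  obtain ⟨d₀, hu, hz⟩ := exists_unique_unit A hconn (fun d => (scalarEval A n f).coeff d)
    (fun 𝔭 h𝔭 => by
      obtain ⟨e, h1, h2, -⟩ := prime_case A n hn f g m h 𝔭
      exact ⟨n * e, h1, h2⟩)
  refine ⟨(scalarEval A n f).coeff d₀, d₀ / n, hu, ?_⟩
  rw [← sub_eq_zero]
  ext mon
  rw [coeff_zero]
  apply IsReduced.eq_zero
  rw [nilpotent_iff_mem_prime]
  intro 𝔭 h𝔭
  obtain ⟨e, h1, h2, h3⟩ := prime_case A n hn f g m h 𝔭
  have hd : n * e = d₀ := by
    by_contra hne
    apply h2
    have := hz (n * e) hne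
    rw [this]
    exact zero_mem _
  have he : d₀ / n = e := by rw [← hd, Nat.mul_div_cancel_left _ hn]
  have hmap : MvPolynomial.map (algebraMap A 𝔭.ResidueField)
      (f - C ((scalarEval A n f).coeff d₀) * gdet A n ^ (d₀ / n)) = 0 := by
    rw [map_sub, h3, map_mul, map_C, map_pow, map_gdet, hd, he, sub_self]
  have := congrArg (MvPolynomial.coeff mon) hmap
  rw [MvPolynomial.coeff_map, coeff_zero, Ideal.algebraMap_residueField_eq_zero] at this
  exact this

end Groth.Agent.Lib.Helper15.GLUnits
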