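import Mathlib
import Groth.Prelude.Def_GalDesc

/-!
# Galois descent for vector spaces (helper15)

`K/k` finite Galois with group `Γ`.
* `smul_baseChange`: base-changed maps commute with the action of `Γ` through the left factor.
* `exists_eq_one_tmul_of_fixed`: `(K ⊗ W)^Γ = 1 ⊗ W`.
* `span_fixed_eq_top`: a `K`-vector space with a semilinear action of `Γ` is spanned by its fixed
  vectors.
* `descentEquiv`: `K ⊗ M^Γ ≃ M`.
-/

set_option autoImplicit false
universe u v w x y

open scoped TensorProduct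

namespace Groth.Agent.Lib.Helper15.GalDescent

section equivariance

variable {k : Type u} {K : Type v} [Field k] [Field K] [Algebra k K]
  {W : Type w} [AddCommGroup W] [Module k W] {W' : Type x} [AddCommGroup W'] [Module k W']

/-- The action on a pure tensor. -/
theorem smul_tmul (σ : K ≃ₐ[k] K) (c : K) (w : W) : σ • (c ⊗ₜ[k] w) = (σ c) ⊗ₜ[k] w := rfl

/-- Base-changed linear maps commute with the Galois action. -/
theorem smul_baseChange (f : W →ₗ[k] W') (σ : K ≃ₐ[k] K) (z : K ⊗[k] W) :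
    f.baseChange K (σ • z) = σ • f.baseChange K z := by
  induction z using TensorProduct.induction_on with
  | zero => rw [smul_zero, map_zero, smul_zero]
  | tmul c w => rw [smul_tmul, LinearMap.baseChange_tmul, LinearMap.baseChange_tmul, smul_tmul]
  | add z z' hz hz' => rw [smul_add, map_add, hz, hz', map_add, smul_add]

theorem smul_baseChange_equiv (e : W ≃ₗ[k] W') (σ : K ≃ₐ[k] K) (z : K ⊗[k] W) :
    e.baseChange k K W W' (σ • z) = σ • e.baseChange k K W W' z :=
  smul_baseChange (e : W →ₗ[k] W') σ z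

/-- The action of `Γ` on `K ⊗ W` is semilinear. -/
theorem smul_smul_tensor (σ : K ≃ₐ[k] K) (c : K) (z : K ⊗[k] W) :
    σ • (c • z) = σ c • σ • z :=
  smul_distrib_smul σ c z

end equivariance

section fixed

variable {k : Type u} {K : Type v} [Field k] [Field K] [Algebra k K]
  {W : Type w} [AddCommGroup W] [Module k W]

/-- `w ↦ 1 ⊗ w` is injective. -/
theorem one_tmul_injective : Function.Injective (fun w : W => (1 : K) ⊗ₜ[k] w) := by
  classical
  intro w w' h
  let b := Module.Free.chooseBasis k W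
  apply b.repr.injective
  ext i
  have h1 := congrArg (fun z => (b.baseChange K).repr z i) h
  simp only [Module.Basis.baseChange_repr_tmul] at h1
  rw [Algebra.smul_def, Algebra.smul_def, mul_one, mul_one] at h1
  exact (algebraMap k K).injective h1

variable [FiniteDimensional k K] [IsGalois k K]

/-- The fixed vectors of `K ⊗ W` are the `1 ⊗ w`. -/
theorem exists_eq_one_tmul_of_fixed (z : K ⊗[k] W) (hz : ∀ σ : K ≃ₐ[k] K, σ • z = z) :
    ∃ w : W, z = (1 : K) ⊗ₜ[k] w := by
  classical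
  let b := Module.Free.chooseBasis k W
  have hrepr : ∀ (σ : K ≃ₐ[k] K) (z : K ⊗[k] W) i,
      (b.baseChange K).repr (σ • z) i = σ ((b.baseChange K).repr z i) := by
    intro σ z i
    induction z using TensorProduct.induction_on with
    | zero => simp
    | tmul c w =>
      rw [smul_tmul, Module.Basis.baseChange_repr_tmul, Module.Basis.baseChange_repr_tmul,
        map_smul]
    | add z z' hz hz' =>
      rw [smul_add, map_add, Finsupp.add_apply, hz, hz', map_add, Finsupp.add_apply, map_add]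
  have hfix : ∀ i (σ : K ≃ₐ[k] K), σ ((b.baseChange K).repr z i) = (b.baseChange K).repr z i :=
    fun i σ => by rw [← hrepr, hz]
  have hmem : ∀ i, ∃ r : k, algebraMap k K r = (b.baseChange K).repr z i := by
    intro i
    have := (IsGalois.mem_bot_iff_fixed ((b.baseChange K).repr z i)).mpr (hfix i)
    exact IntermediateField.mem_bot.mp this
  choose r hr using hmem
  refine ⟨∑ i ∈ ((b.baseChange K).repr z).support, r i • b i, ?_⟩
  rw [TensorProduct.tmul_sum]
  conv_lhs => rw [← (b.baseChange K).linearCombination_repr z, Finsupp.linearCombination_apply,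
    Finsupp.sum]
  refine Finset.sum_congr rfl fun i _ => ?_
  rw [Module.Basis.baseChange_apply, ← hr i, TensorProduct.tmul_smul, algebraMap_smul]

end fixed

section descendEquiv

variable {k : Type u} {K : Type v} [Field k] [Field K] [Algebra k K]
  [FiniteDimensional k K] [IsGalois k K]
  {W : Type w} [AddCommGroup W] [Module k W] {W' : Type x} [AddCommGroup W'] [Module k W']

/-- An equivariant `K`-linear isomorphism `K ⊗ W ≃ K ⊗ W'` descends to `W ≃ W'`. -/
theorem exists_descend_equiv (h : K ⊗[k] W ≃ₗ[K] K ⊗[k] W')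
    (hh : ∀ (σ : K ≃ₐ[k] K) z, h (σ • z) = σ • h z) :
    ∃ e : W ≃ₗ[k] W', ∀ w, h ((1 : K) ⊗ₜ[k] w) = (1 : K) ⊗ₜ[k] e w := by
  have hh' : ∀ (σ : K ≃ₐ[k] K) z, h.symm (σ • z) = σ • h.symm z := by
    intro σ z
    apply h.injective
    rw [h.apply_symm_apply, hh, h.apply_symm_apply]
  have hone : ∀ (σ : K ≃ₐ[k] K), σ (1 : K) = 1 := fun σ => map_one σ
  have h1 : ∀ w : W, ∃ w' : W', h ((1 : K) ⊗ₜ[k] w) = (1 : K) ⊗ₜ[k] w' := fun w =>
    exists_eq_one_tmul_of_fixed _ fun σ => by rw [← hh, smul_tmul, hone]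
  have h2 : ∀ w' : W', ∃ w : W, h.symm ((1 : K) ⊗ₜ[k] w') = (1 : K) ⊗ₜ[k] w := fun w' =>
    exists_eq_one_tmul_of_fixed _ fun σ => by rw [← hh', smul_tmul, hone]
  choose f hf using h1
  choose f' hf' using h2
  have hinj := one_tmul_injective (k := k) (K := K) (W := W)
  have hinj' := one_tmul_injective (k := k) (K := K) (W := W')
  refine ⟨
    { toFun := f
      invFun := f'
      map_add' := fun w₁ w₂ => hinj' (by
        change (1 : K) ⊗ₜ[k] f (w₁ + w₂) = (1 : K) ⊗ₜ[k] (f w₁ + f w₂)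
        rw [← hf, TensorProduct.tmul_add, map_add, hf, hf, TensorProduct.tmul_add])
      map_smul' := fun r w => hinj' (by
        change (1 : K) ⊗ₜ[k] f (r • w) = (1 : K) ⊗ₜ[k] (r • f w)
        rw [← hf, TensorProduct.tmul_smul, ← algebraMap_smul K r ((1 : K) ⊗ₜ[k] w), map_smul, hf,
          algebraMap_smul, TensorProduct.tmul_smul])
      left_inv := fun w => hinj (by
        change (1 : K) ⊗ₜ[k] f' (f w) = (1 : K) ⊗ₜ[k] w
        rw [← hf', ← hf, h.symm_apply_apply])
      right_inv := fun w' => hinj' (by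
        change (1 : K) ⊗ₜ[k] f (f' w') = (1 : K) ⊗ₜ[k] w'
        rw [← hf, ← hf', h.apply_symm_apply]) }, fun w => hf w⟩

end descendEquiv

section descendAlg

variable {k : Type u} {K : Type v} [Field k] [Field K] [Algebra k K]
  [FiniteDimensional k K] [IsGalois k K]
  {A : Type w} [Ring A] [Algebra k A] {A' : Type x} [Ring A'] [Algebra k A']

/-- An equivariant `K`-algebra isomorphism `K ⊗ A ≃ K ⊗ A'` descends to `A ≃ A'`. -/
theorem exists_descend_algEquiv (H : K ⊗[k] A ≃ₐ[K] K ⊗[k] A')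
    (hH : ∀ (σ : K ≃ₐ[k] K) z, H (σ • z) = σ • H z) :
    ∃ e : A ≃ₐ[k] A', ∀ a, H ((1 : K) ⊗ₜ[k] a) = (1 : K) ⊗ₜ[k] e a := by
  obtain ⟨e, he⟩ := exists_descend_equiv H.toLinearEquiv hH
  have he' : ∀ a : A, H ((1 : K) ⊗ₜ[k] a) = (1 : K) ⊗ₜ[k] e a := he
  have hinj := one_tmul_injective (k := k) (K := K) (W := A')
  refine ⟨AlgEquiv.ofLinearEquiv e (hinj ?_) (fun a b => hinj ?_), he'⟩
  · change (1 : K) ⊗ₜ[k] e 1 = (1 : K) ⊗ₜ[k] (1 : A')
    rw [← he', ← Algebra.TensorProduct.one_def, map_one, Algebra.TensorProduct.one_def]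
  · change (1 : K) ⊗ₜ[k] e (a * b) = (1 : K) ⊗ₜ[k] (e a * e b)
    rw [← he']
    have : (1 : K) ⊗ₜ[k] (a * b) = ((1 : K) ⊗ₜ[k] a) * ((1 : K) ⊗ₜ[k] b) := by
      rw [Algebra.TensorProduct.tmul_mul_tmul, one_mul]
    rw [this, map_mul, he', he', Algebra.TensorProduct.tmul_mul_tmul, one_mul]

end descendAlg

section span

variable {k : Type u} {K : Type v} [Field k] [Field K] [Algebra k K] [FiniteDimensional k K]
  {M : Type w} [AddCommGroup M] [Module K M]

/-- A `K`-vector space with a semilinear action of the Galois group is spanned by its fixed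
vectors. -/
theorem span_fixed_eq_top (ρ : (K ≃ₐ[k] K) → M → M)
    (hadd : ∀ σ x y, ρ σ (x + y) = ρ σ x + ρ σ y)
    (hsmul : ∀ (σ : K ≃ₐ[k] K) (c : K) x, ρ σ (c • x) = σ c • ρ σ x)
    (hone : ∀ x, ρ 1 x = x) (hmul : ∀ σ τ x, ρ (σ * τ) x = ρ σ (ρ τ x)) :
    Submodule.span K {x : M | ∀ σ, ρ σ x = x} = ⊤ := by
  classical
  by_contra hne
  obtain ⟨u, hu0, hu⟩ := Submodule.exists_le_ker_of_lt_top _ (lt_top_iff_ne_top.2 hne)
  apply hu0
  refine LinearMap.ext fun x => ?_
  let ρ' : (K ≃ₐ[k] K) → M →+ M := fun σ => AddMonoidHom.mk' (ρ σ) (hadd σ)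
  have hρ' : ∀ σ x, ρ' σ x = ρ σ x := fun _ _ => rfl
  have hli : LinearIndependent K (fun (f : K ≃ₐ[k] K) => (f : K → K)) :=
    LinearIndependent.comp (ι' := (K ≃ₐ[k] K))
      (linearIndependent_monoidHom K K) (fun f => f)
      (fun x y h => by ext; exact DFunLike.ext_iff.1 h _)
  have hT : ∀ c : K, (∑ τ : K ≃ₐ[k] K, ρ τ (c • x)) ∈ {x : M | ∀ σ, ρ σ x = x} := by
    intro c σ
    rw [← hρ', map_sum]
    simp only [hρ', ← hmul]
    exact Fintype.sum_bijective (fun τ => σ * τ) (Group.mulLeft_bijective σ) _ _ (fun _ => rfl)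
  have key : ∑ τ : K ≃ₐ[k] K, u (ρ τ x) • (τ : K → K) = 0 := by
    funext c
    have hmem : (∑ τ : K ≃ₐ[k] K, ρ τ (c • x)) ∈ LinearMap.ker u :=
      hu (Submodule.subset_span (hT c))
    rw [LinearMap.mem_ker, map_sum] at hmem
    rw [Finset.sum_apply, Pi.zero_apply, ← hmem]
    refine Finset.sum_congr rfl fun τ _ => ?_
    rw [hsmul, map_smul, Pi.smul_apply, smul_eq_mul, smul_eq_mul, mul_comm]
  have := Fintype.linearIndependent_iff.1 hli _ key 1
  rw [hone] at this
  rw [this, LinearMap.zero_apply]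

end span

section descent

variable {k : Type u} {K : Type v} [Field k] [Field K] [Algebra k K]
  {M : Type w} [AddCommGroup M] [Module K M] [Module k M] [IsScalarTower k K M]
  {W : Type x} [AddCommGroup W] [Module k W]
  (ρ : (K ≃ₐ[k] K) → M → M)
  (hadd : ∀ σ x y, ρ σ (x + y) = ρ σ x + ρ σ y)
  (hsmul : ∀ (σ : K ≃ₐ[k] K) (c : K) x, ρ σ (c • x) = σ c • ρ σ x)
  (hone : ∀ x, ρ 1 x = x) (hmul : ∀ σ τ x, ρ (σ * τ) x = ρ σ (ρ τ x))
  (ι : W →ₗ[k] M) (hW : ∀ x, x ∈ LinearMap.range ι ↔ ∀ σ, ρ σ x = x)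

include hadd in
theorem rho_zero (σ : K ≃ₐ[k] K) : ρ σ 0 = 0 := by
  have := hadd σ 0 0
  rw [add_zero] at this
  exact left_eq_add.mp this

include hadd hsmul hW in
/-- The comparison map `K ⊗ W → M` is equivariant. -/
theorem liftBaseChange_smul (σ : K ≃ₐ[k] K) (z : K ⊗[k] W) :
    ι.liftBaseChange K (σ • z) = ρ σ (ι.liftBaseChange K z) := by
  induction z using TensorProduct.induction_on with
  | zero => rw [smul_zero, map_zero, rho_zero ρ hadd]
  | tmul c w =>
    rw [smul_tmul, LinearMap.liftBaseChange_tmul, LinearMap.liftBaseChange_tmul, hsmul,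
      (hW (ι w)).mp ⟨w, rfl⟩ σ]
  | add z z' hz hz' => rw [smul_add, map_add, hz, hz', map_add, hadd]

variable [FiniteDimensional k K]

include hadd hsmul hone hmul hW in
theorem liftBaseChange_surjective : Function.Surjective (ι.liftBaseChange K) := by
  rw [← LinearMap.range_eq_top, LinearMap.range_liftBaseChange, eq_top_iff,
    ← span_fixed_eq_top ρ hadd hsmul hone hmul]
  apply Submodule.span_mono
  intro x hx
  exact (hW x).mpr hx

variable [IsGalois k K]

include hadd hsmul hone hmul hW in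
theorem liftBaseChange_injective (hι : Function.Injective ι) :
    Function.Injective (ι.liftBaseChange K) := by
  rw [← LinearMap.ker_eq_bot]
  have hker : ∀ (σ : K ≃ₐ[k] K) (n : LinearMap.ker (ι.liftBaseChange K)),
      σ • (n : K ⊗[k] W) ∈ LinearMap.ker (ι.liftBaseChange K) := by
    intro σ n
    have h0 : ι.liftBaseChange K (n : K ⊗[k] W) = 0 := LinearMap.mem_ker.mp n.2
    rw [LinearMap.mem_ker, liftBaseChange_smul ρ hadd hsmul ι hW σ (n : K ⊗[k] W), h0,
      rho_zero ρ hadd]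
  let ρN : (K ≃ₐ[k] K) → LinearMap.ker (ι.liftBaseChange K) → LinearMap.ker (ι.liftBaseChange K) :=
    fun σ n => ⟨σ • n.1, hker σ n⟩
  have hspan := span_fixed_eq_top (k := k) (K := K) ρN
    (fun σ x y => Subtype.ext (smul_add σ x.1 y.1))
    (fun σ c x => Subtype.ext (smul_distrib_smul σ c x.1))
    (fun x => Subtype.ext (one_smul _ x.1))
    (fun σ τ x => Subtype.ext (mul_smul σ τ x.1))
  have hzero : {n : LinearMap.ker (ι.liftBaseChange K) | ∀ σ, ρN σ n = n} ⊆ {0} := by
    intro n hn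
    have hfix : ∀ σ : K ≃ₐ[k] K, σ • (n : K ⊗[k] W) = n := fun σ => congrArg Subtype.val (hn σ)
    obtain ⟨w, hw⟩ := exists_eq_one_tmul_of_fixed (n : K ⊗[k] W) hfix
    have h0 : ι.liftBaseChange K (n : K ⊗[k] W) = 0 := LinearMap.mem_ker.mp n.2
    rw [hw, LinearMap.liftBaseChange_tmul, one_smul] at h0
    have hw0 : w = 0 := hι (by rw [h0, map_zero])
    rw [hw0, TensorProduct.tmul_zero] at hw
    exact Subtype.ext hw
  have hbot : (⊤ : Submodule K (LinearMap.ker (ι.liftBaseChange K))) = ⊥ := by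
    rw [← hspan, eq_bot_iff]
    exact (Submodule.span_mono hzero).trans (by rw [Submodule.span_singleton_eq_bot.mpr rfl])
  rw [eq_bot_iff]
  intro z hz
  have h1 : (⟨z, hz⟩ : LinearMap.ker (ι.liftBaseChange K)) ∈
      (⊤ : Submodule K (LinearMap.ker (ι.liftBaseChange K))) := Submodule.mem_top
  rw [hbot, Submodule.mem_bot] at h1
  exact congrArg Subtype.val h1

/-- The descent isomorphism `K ⊗ W ≃ M`. -/
noncomputable def descentEquiv (hι : Function.Injective ι) : K ⊗[k] W ≃ₗ[K] M :=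
  LinearEquiv.ofBijective (ι.liftBaseChange K)
    ⟨liftBaseChange_injective ρ hadd hsmul hone hmul ι hW hι,
      liftBaseChange_surjective ρ hadd hsmul hone hmul ι hW⟩

theorem descentEquiv_tmul (hι : Function.Injective ι) (c : K) (w : W) :
    descentEquiv ρ hadd hsmul hone hmul ι hW hι (c ⊗ₜ[k] w) = c • ι w := rfl

theorem descentEquiv_smul (hι : Function.Injective ι) (σ : K ≃ₐ[k] K) (z : K ⊗[k] W) :
    descentEquiv ρ hadd hsmul hone hmul ι hW hι (σ • z) =
      ρ σ (descentEquiv ρ hadd hsmul hone hmul ι hW hι z) :=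
  liftBaseChange_smul ρ hadd hsmul ι hW σ z

end descent

section cocycle

variable {k : Type u} {K : Type v} [Field k] [Field K] [Algebra k K]
  {M : Type w} [AddCommGroup M] [Module K M] [Module k M] [IsScalarTower k K M]
  [DistribMulAction (K ≃ₐ[k] K) M] [SMulDistribClass (K ≃ₐ[k] K) K M]
  {W : Type x} [AddCommGroup W] [Module k W]
  (a : GpH1.OneCocycle (K ≃ₐ[k] K) (M ≃ₗ[K] M))

/-- The twisted action attached to a cocycle. -/
def tw (σ : K ≃ₐ[k] K) (x : M) : M := a σ (σ • x)

theorem tw_add (σ : K ≃ₐ[k] K) (x y : M) : tw a σ (x + y) = tw a σ x + tw a σ y := by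
  unfold tw; rw [smul_add, map_add]

theorem tw_smul (σ : K ≃ₐ[k] K) (c : K) (x : M) : tw a σ (c • x) = σ c • tw a σ x := by
  unfold tw; rw [smul_distrib_smul, map_smul]; rfl

theorem cocycle_one : a 1 = 1 := by
  have h := a.2 1 1
  rw [mul_one, one_smul] at h
  have h' : a 1 * a 1 = a 1 * 1 := by rw [mul_one]; exact h.symm
  exact mul_left_cancel h'

theorem tw_one (x : M) : tw a 1 x = x := by
  unfold tw; rw [cocycle_one, one_smul]; rfl

theorem tw_mul (σ τ : K ≃ₐ[k] K) (x : M) : tw a (σ * τ) x = tw a σ (tw a τ x) := by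
  unfold tw
  rw [a.2 σ τ, mul_smul]
  change a σ ((σ • a τ) (σ • τ • x)) = _
  rw [GalDesc.conj_smul_apply, inv_smul_smul]

theorem mem_fixedSub_iff (x : M) : x ∈ GalDesc.fixedSub a ↔ ∀ σ, tw a σ x = x := Iff.rfl

variable [FiniteDimensional k K] [IsGalois k K]
  (ι : W →ₗ[k] M) (hι : Function.Injective ι) (hW : LinearMap.range ι = GalDesc.fixedSub a)

/-- Galois descent: `K ⊗ W ≃ M` when `W` is (identified with) the fixed space of the action
twisted by `a`. -/
noncomputable def twDescent : K ⊗[k] W ≃ₗ[K] M :=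
  descentEquiv (tw a) (tw_add a) (tw_smul a) (tw_one a) (tw_mul a) ι
    (fun x => by rw [hW]; exact mem_fixedSub_iff a x) hι

theorem twDescent_tmul (c : K) (w : W) : twDescent a ι hι hW (c ⊗ₜ[k] w) = c • ι w := rfl

theorem twDescent_smul (σ : K ≃ₐ[k] K) (z : K ⊗[k] W) :
    twDescent a ι hι hW (σ • z) = a σ (σ • twDescent a ι hι hW z) :=
  descentEquiv_smul (tw a) (tw_add a) (tw_smul a) (tw_one a) (tw_mul a) ι _ hι σ z

/-- The cocycle of the inverse of the descent isomorphism is `a`. -/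
theorem cocycle_twDescent_symm :
    GalDesc.cocycle k (twDescent a ι hι hW).symm = a := by
  refine GpH1.OneCocycle.ext fun σ => LinearEquiv.ext fun x => ?_
  rw [GalDesc.cocycle_apply, LinearEquiv.symm_symm, twDescent_smul, LinearEquiv.apply_symm_apply,
    smul_inv_smul]

end cocycle

end Groth.Agent.Lib.Helper15.GalDescent
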