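import Mathlib
import Groth.Agent.Lib.Helper15.TSFlat
import Groth.Agent.Lib.Helper15.GammaSurj
import Groth.Agent.Lib.Helper15.LawCHKer

/-!
# The kernel of `Γ^d(P) → Γ^d(P/I)` for a free algebra `P` is generated by orbit sums (helper15)
-/

set_option autoImplicit false
universe u
open scoped TensorProduct
open MvPolynomial

namespace Groth.Agent.Lib.Helper15.GammaFP1

open Groth.Agent.Lib.Helper15.LawFree Groth.Agent.Lib.Helper15.TSLaw
  Groth.Agent.Lib.Helper15.TSFree Groth.Agent.Lib.Helper15.TSplit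
  Groth.Agent.Lib.Helper15.TSFlat Groth.Agent.Lib.Helper15.GammaSurj

variable {A : Type u} [CommRing A]

section general

theorem tcoeff_ext {I : Type u} {N : Type u} [AddCommGroup N] [Module A N]
    (g g' : MvPolynomial I A ⊗[A] N) (h : ∀ α, tcoeff α g = tcoeff α g') : g = g' := by
  obtain ⟨f, hf, hg⟩ := exists_repr_tcoeff g
  obtain ⟨f', hf', hg'⟩ := exists_repr_tcoeff g'
  have : f = f' := by
    ext α
    rw [hf, hf', h]
  rw [hg, hg', this]

variable {B : Type u} [CommRing B] [Algebra A B] {C : Type u} [CommRing C] [Algebra A C]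

theorem add_eq (F : B →ₚₗ[A] C) (K : Submodule A B) (hK : ∀ b ∈ K, b ∈ PolLaw.ker F)
    (S : Type u) [CommSemiring S] [Algebra A S] (x : S ⊗[A] B) (κ : S ⊗[A] K) :
    F.toFun' S (x + K.subtype.lTensor S κ) = F.toFun' S x := by
  induction κ using TensorProduct.induction_on generalizing x with
  | zero => rw [map_zero, add_zero]
  | tmul s b =>
    rw [LinearMap.lTensor_tmul]
    have h1 : s ⊗ₜ[A] (K.subtype b) = (s ⊗ₜ[A] (1 : B)) * ((1 : S) ⊗ₜ[A] (b : B)) := by
      rw [Algebra.TensorProduct.tmul_mul_tmul, mul_one, one_mul]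
      rfl
    rw [h1]
    exact hK b b.2 S x _
  | add κ₁ κ₂ h₁ h₂ =>
    rw [map_add, ← add_assoc, h₂, h₁]

variable {B' : Type u} [CommRing B'] [Algebra A B'] (F : B →ₚₗ[A] C) (π : B →ₐ[A] B')
  (hπ : Function.Surjective π) (hker : RingHom.ker (π : B →+* B') ≤ PolLaw.ker F)

include hπ hker in
theorem wd_ring (S : Type u) [CommRing S] [Algebra A S] (x x' : S ⊗[A] B)
    (h : π.toLinearMap.lTensor S x = π.toLinearMap.lTensor S x') :
    F.toFun' S x = F.toFun' S x' := by
  let Kπ : Submodule A B := LinearMap.ker π.toLinearMap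
  have hex : Function.Exact (Kπ.subtype.lTensor S) (π.toLinearMap.lTensor S) :=
    lTensor_exact S (LinearMap.exact_subtype_ker_map π.toLinearMap)
      (show Function.Surjective π.toLinearMap from hπ)
  have h0 : π.toLinearMap.lTensor S (x' - x) = 0 := by rw [map_sub, h, sub_self]
  obtain ⟨κ, hκ⟩ := (hex (x' - x)).mp h0
  have h1 : x' = x + Kπ.subtype.lTensor S κ := by
    rw [hκ]
    abel
  rw [h1, add_eq F Kπ (fun b hb => hker (by
    rw [RingHom.mem_ker]
    exact hb))]

include hπ hker in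
theorem wd (S : Type u) [CommSemiring S] [Algebra A S] (x x' : S ⊗[A] B)
    (h : π.toLinearMap.lTensor S x = π.toLinearMap.lTensor S x') :
    F.toFun' S x = F.toFun' S x' := by
  let e : S →ₐ[A] A ⊗[A] S := (Algebra.TensorProduct.lid A S).symm.toAlgHom
  let e' : A ⊗[A] S →ₐ[A] S := (Algebra.TensorProduct.lid A S).toAlgHom
  have hee : ∀ (M : Type u) [AddCommGroup M] [Module A M] (z : S ⊗[A] M),
      e'.toLinearMap.rTensor M (e.toLinearMap.rTensor M z) = z := by
    intro M _ _ z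
    rw [← LinearMap.comp_apply, ← LinearMap.rTensor_comp]
    have : e'.toLinearMap ∘ₗ e.toLinearMap = LinearMap.id := by
      apply LinearMap.ext
      intro s
      exact (Algebra.TensorProduct.lid A S).apply_symm_apply s
    rw [this, LinearMap.rTensor_id, LinearMap.id_apply]
  have h1 : π.toLinearMap.lTensor (A ⊗[A] S) (e.toLinearMap.rTensor B x) =
      π.toLinearMap.lTensor (A ⊗[A] S) (e.toLinearMap.rTensor B x') := by
    rw [← rTensor_lTensor, ← rTensor_lTensor, h]
  have h2 := wd_ring F π hπ hker (A ⊗[A] S) _ _ h1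
  have h3 := congrArg (e'.toLinearMap.rTensor _) h2
  rw [PolynomialLaw.isCompat_apply' (f := F), PolynomialLaw.isCompat_apply' (f := F),
    hee, hee] at h3
  exact h3

end general

section orbit

open scoped Classical

variable {B : Type u} [CommRing B] [Algebra A B] (d : ℕ) {κ : Type u}

theorem orbF_mem_TS (b : κ → B) (α : κ →₀ ℕ) : orbF d b α ∈ SymTen.TS A B d := by
  obtain ⟨c, -, hc⟩ := orbF_mem (A := A) d b α
  rw [← hc]
  exact c.2

/-- orbit sums as symmetric tensors -/
noncomputable def orbS (b : κ → B) (α : κ →₀ ℕ) : SymTen.TS A B d :=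
  ⟨orbF d b α, orbF_mem_TS d b α⟩

theorem tcoeff_tl_el (b : κ → B) (J : Finset κ) (m : κ →₀ ℕ) :
    tcoeff m ((tl B d).law.toFun' (MvPolynomial κ A)
      (∑ k ∈ J, (X k : MvPolynomial κ A) ⊗ₜ[A] b k)) =
      if m.support ⊆ J then orbF d b m else 0 := by
  rw [tl_sum_finset, map_sum]
  simp only [tcoeff_tmul, prod_X_eq, coeff_monomial]
  split_ifs with hJ
  · unfold orbF
    have hV : V (d := d) m = (Fintype.piFinset (fun _ : Fin d => J)).filter (fun v => mult v = m) := by
      ext v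
      rw [mem_V, Finset.mem_filter, Fintype.mem_piFinset]
      refine ⟨fun h => ⟨fun i => hJ ?_, h⟩, fun h => h.2⟩
      have hv := (mem_V m v).2 h
      unfold V at hv
      exact Fintype.mem_piFinset.1 (Finset.mem_filter.1 hv).1 i
    rw [hV, Finset.sum_filter]
    refine Finset.sum_congr rfl fun v _ => ?_
    split_ifs <;> simp
  · apply Finset.sum_eq_zero
    intro v hv
    rw [Fintype.mem_piFinset] at hv
    have hne : mult v ≠ m := by
      intro h
      apply hJ
      intro k hk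
      rw [Finsupp.mem_support_iff, ← h, mult_apply] at hk
      have : Nonempty {j // v j = k} := by
        by_contra hemp
        rw [not_nonempty_iff] at hemp
        exact hk Fintype.card_eq_zero
      obtain ⟨⟨j, hj⟩⟩ := this
      rw [← hj]
      exact hv j
    rw [if_neg hne, zero_smul]

theorem val_tcoeff_ts {σ : Type u} (m : σ →₀ ℕ) (z : MvPolynomial σ A ⊗[A] B) :
    ((tcoeff m ((ts B d).law.toFun' (MvPolynomial σ A) z) : SymTen.TS A B d) :
      ⨂[A] _ : Fin d, B) = tcoeff m ((tl B d).law.toFun' (MvPolynomial σ A) z) := by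
  rw [← val_ts]
  exact (GammaSpan.ext_lTensor (lcoeff A m) (SymTen.TS A B d).val.toLinearMap _).symm

end orbit

section generic

open scoped Classical

variable {P : Type u} [CommRing P] [Algebra A P] {ι : Type u} (e : Module.Basis ι A P)

/-- the family `e β`, `e β * g` -/
noncomputable def bfam (g : P) : ι ⊕ ι → P := Sum.elim e (fun β => e β * g)

/-- generic element -/
noncomputable def xg (J : Finset ι) : MvPolynomial (ι ⊕ ι) A ⊗[A] P :=
  ∑ β ∈ J, (X (Sum.inl β) : MvPolynomial (ι ⊕ ι) A) ⊗ₜ[A] e β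

/-- generic multiplier -/
noncomputable def wg (J : Finset ι) : MvPolynomial (ι ⊕ ι) A ⊗[A] P :=
  ∑ β ∈ J, (X (Sum.inr β) : MvPolynomial (ι ⊕ ι) A) ⊗ₜ[A] e β

theorem xg_eq (g : P) (J : Finset ι) :
    xg e J = ∑ k ∈ J.map Function.Embedding.inl,
      (X k : MvPolynomial (ι ⊕ ι) A) ⊗ₜ[A] bfam e g k := by
  rw [Finset.sum_map]
  rfl

theorem xg_add_eq (g : P) (J : Finset ι) :
    xg e J + wg e J * ((1 : MvPolynomial (ι ⊕ ι) A) ⊗ₜ[A] g) =
      ∑ k ∈ J.disjSum J, (X k : MvPolynomial (ι ⊕ ι) A) ⊗ₜ[A] bfam e g k := by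
  rw [Finset.sum_disjSum]
  unfold xg wg bfam
  rw [Finset.sum_mul]
  congr 1
  refine Finset.sum_congr rfl fun β _ => ?_
  rw [Algebra.TensorProduct.tmul_mul_tmul, mul_one]
  rfl

theorem mem_ker_of_generic {Q : Type u} [CommRing Q] [Algebra A Q] (F : P →ₚₗ[A] Q) (c : P)
    (h : ∀ J : Finset ι, F.toFun' (MvPolynomial (ι ⊕ ι) A)
      (xg e J + wg e J * ((1 : MvPolynomial (ι ⊕ ι) A) ⊗ₜ[A] c)) =
        F.toFun' (MvPolynomial (ι ⊕ ι) A) (xg e J)) : c ∈ PolLaw.ker F := by
  apply LawCHKer.mem_ker_of_ring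
  intro R _ _ x w
  obtain ⟨J₁, s₁, rfl⟩ := exists_el e R x
  obtain ⟨J₂, s₂, rfl⟩ := exists_el e R w
  let J := J₁ ∪ J₂
  let t₁ : ι → R := fun i => if i ∈ J₁ then s₁ i else 0
  let t₂ : ι → R := fun i => if i ∈ J₂ then s₂ i else 0
  have hx : el e J₁ s₁ = ∑ i ∈ J, t₁ i ⊗ₜ[A] e i := by
    unfold el
    rw [← Finset.sum_subset (Finset.subset_union_left (s₁ := J₁) (s₂ := J₂))]
    · refine Finset.sum_congr rfl fun i hi => ?_
      simp only [t₁, if_pos hi]
    · intro i _ hi
      simp only [t₁, if_neg hi, TensorProduct.zero_tmul]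
  have hw : el e J₂ s₂ = ∑ i ∈ J, t₂ i ⊗ₜ[A] e i := by
    unfold el
    rw [← Finset.sum_subset (Finset.subset_union_right (s₁ := J₁) (s₂ := J₂))]
    · refine Finset.sum_congr rfl fun i hi => ?_
      simp only [t₂, if_pos hi]
    · intro i _ hi
      simp only [t₂, if_neg hi, TensorProduct.zero_tmul]
  let φ : MvPolynomial (ι ⊕ ι) A →ₐ[A] R := aeval (Sum.elim t₁ t₂)
  have h1 : Algebra.TensorProduct.map φ (AlgHom.id A P) (xg e J) = el e J₁ s₁ := by
    rw [hx]
    unfold xg
    rw [map_sum]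
    refine Finset.sum_congr rfl fun i _ => ?_
    rw [Algebra.TensorProduct.map_tmul, AlgHom.id_apply]
    congr 1
    simp [φ]
  have h2 : Algebra.TensorProduct.map φ (AlgHom.id A P) (wg e J) = el e J₂ s₂ := by
    rw [hw]
    unfold wg
    rw [map_sum]
    refine Finset.sum_congr rfl fun i _ => ?_
    rw [Algebra.TensorProduct.map_tmul, AlgHom.id_apply]
    congr 1
    simp [φ]
  have h3 := congrArg (φ.toLinearMap.rTensor Q) (h J)
  rw [PolynomialLaw.isCompat_apply' (f := F), PolynomialLaw.isCompat_apply' (f := F),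
    PolLaw.rTensor_algHom_apply, PolLaw.rTensor_algHom_apply, map_add, map_mul, h1, h2,
    Algebra.TensorProduct.map_tmul, map_one, AlgHom.id_apply] at h3
  exact h3

end generic

section ker

open scoped Classical

variable {P : Type u} [CommRing P] [Algebra A P] {ι : Type u} (e : Module.Basis ι A P) (d : ℕ)

theorem diff_eq (g : P) (J : Finset ι) (m : (ι ⊕ ι) →₀ ℕ) :
    tcoeff m ((ts P d).law.toFun' (MvPolynomial (ι ⊕ ι) A)
        (xg e J + wg e J * ((1 : MvPolynomial (ι ⊕ ι) A) ⊗ₜ[A] g))) -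
      tcoeff m ((ts P d).law.toFun' (MvPolynomial (ι ⊕ ι) A) (xg e J)) =
      if (∃ β, m (Sum.inr β) ≠ 0) ∧ m.support ⊆ J.disjSum J then orbS d (bfam e g) m else 0 := by
  apply Subtype.ext
  rw [AddSubgroupClass.coe_sub, val_tcoeff_ts, val_tcoeff_ts, xg_add_eq e g, xg_eq e g,
    tcoeff_tl_el, tcoeff_tl_el]
  by_cases hβ : ∃ β, m (Sum.inr β) ≠ 0
  · obtain ⟨β, hβ'⟩ := hβ
    have hn : ¬ m.support ⊆ J.map Function.Embedding.inl := by
      intro hsub
      have h1 := hsub (Finsupp.mem_support_iff.2 hβ')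
      rw [Finset.mem_map] at h1
      obtain ⟨a, -, ha⟩ := h1
      exact Sum.inl_ne_inr ha
    rw [if_neg hn, sub_zero]
    by_cases hs : m.support ⊆ J.disjSum J
    · rw [if_pos hs, if_pos ⟨⟨β, hβ'⟩, hs⟩]
      rfl
    · rw [if_neg hs, if_neg (fun h => hs h.2)]
      rfl
  · rw [if_neg (show ¬((∃ β, m (Sum.inr β) ≠ 0) ∧ m.support ⊆ J.disjSum J) from
      fun h => hβ h.1)]
    have hiff : m.support ⊆ J.disjSum J ↔ m.support ⊆ J.map Function.Embedding.inl := by
      constructor
      · intro h k hk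
        have h1 := h hk
        rcases k with β | β
        · rw [Finset.inl_mem_disjSum] at h1
          exact Finset.mem_map.2 ⟨β, h1, rfl⟩
        · exact absurd ⟨β, Finsupp.mem_support_iff.1 hk⟩ hβ
      · intro h k hk
        have h1 := h hk
        rw [Finset.mem_map] at h1
        obtain ⟨β, hβJ, rfl⟩ := h1
        exact Finset.inl_mem_disjSum.2 hβJ
    by_cases hs : m.support ⊆ J.disjSum J
    · rw [if_pos hs, if_pos (hiff.1 hs), sub_self]
      rfl
    · rw [if_neg hs, if_neg (fun h => hs (hiff.2 h)), sub_self]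
      rfl

variable [Module.Flat A P]
  {B : Type u} [CommRing B] [Algebra A B] {C : Type u} [CommRing C] [Algebra A C]
  (π : P →ₐ[A] B) (hπ : Function.Surjective π) {κ : Type*} (f : κ → P)
  (hI : RingHom.ker (π : P →+* B) = Ideal.span (Set.range f))
  (γ : PolLaw.MulLaw A B C d) (hγ : PolLaw.IsGammaD γ)
  (q : SymTen.TS A P d →ₐ[A] C)
  (hq : PolLaw.postcomp q.toLinearMap (ts P d).law = (γ.precomp π).law)

/-- the generators of the kernel -/
def gens : Set (SymTen.TS A P d) :=
  {t | ∃ (j : κ) (m : (ι ⊕ ι) →₀ ℕ), (∃ β, m (Sum.inr β) ≠ 0) ∧ t = orbS d (bfam e (f j)) m}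

omit [Module.Flat A P] in
include hI hq in
theorem gens_le_ker : gens e d f ⊆ (RingHom.ker (q : SymTen.TS A P d →+* C) : Set _) := by
  rintro t ⟨j, m, hβ, rfl⟩
  let J : Finset ι := m.support.image (Sum.elim id id)
  have hs : m.support ⊆ J.disjSum J := by
    intro k hk
    rcases k with β | β
    · exact Finset.inl_mem_disjSum.2 (Finset.mem_image.2 ⟨Sum.inl β, hk, rfl⟩)
    · exact Finset.inr_mem_disjSum.2 (Finset.mem_image.2 ⟨Sum.inr β, hk, rfl⟩)
  have h1 := diff_eq e d (f j) J m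
  rw [if_pos ⟨hβ, hs⟩] at h1
  rw [SetLike.mem_coe, RingHom.mem_ker, ← h1, map_sub, sub_eq_zero]
  show q.toLinearMap _ = q.toLinearMap _
  unfold tcoeff
  rw [← GammaSpan.ext_lTensor, ← GammaSpan.ext_lTensor, hφ_apply (ts P d) γ π q hq,
    hφ_apply (ts P d) γ π q hq]
  congr 2
  rw [map_add, PolLaw.lTensor_algHom_apply (π) _ (wg e J * _), map_mul,
    Algebra.TensorProduct.map_tmul]
  have hf : π (f j) = 0 := by
    have : f j ∈ RingHom.ker (π : P →+* B) := by
      rw [hI]
      exact Ideal.subset_span ⟨j, rfl⟩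
    exact this
  rw [hf, TensorProduct.tmul_zero, mul_zero, add_zero]

theorem postcomp_toFun' {B' C' C'' : Type u} [CommRing B'] [Algebra A B'] [CommRing C']
    [Algebra A C'] [CommRing C''] [Algebra A C''] {d' : ℕ} (F : PolLaw.MulLaw A B' C' d')
    (g : C' →ₐ[A] C'') (S : Type u) [CommSemiring S] [Algebra A S] (x : S ⊗[A] B') :
    (F.postcomp g).law.toFun' S x = g.toLinearMap.lTensor S (F.law.toFun' S x) := rfl

/-- the ideal generated by the orbit sums -/
noncomputable def K₁ : Ideal (SymTen.TS A P d) := Ideal.span (gens e d f)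

/-- the quotient map -/
noncomputable def mk₁ : SymTen.TS A P d →ₐ[A] (SymTen.TS A P d ⧸ K₁ e d f) :=
  Ideal.Quotient.mkₐ A (K₁ e d f)

/-- the law into the quotient -/
noncomputable def F₁ : PolLaw.MulLaw A P (SymTen.TS A P d ⧸ K₁ e d f) d :=
  (ts P d).postcomp (mk₁ e d f)

omit [Module.Flat A P] in
theorem mem_ker_F₁ (j : κ) : f j ∈ PolLaw.ker (F₁ e d f).law := by
  apply mem_ker_of_generic e
  intro J
  unfold F₁
  rw [postcomp_toFun', postcomp_toFun']
  apply tcoeff_ext
  intro m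
  unfold tcoeff
  rw [GammaSpan.ext_lTensor, GammaSpan.ext_lTensor]
  show Ideal.Quotient.mk (K₁ e d f) _ = Ideal.Quotient.mk (K₁ e d f) _
  rw [Ideal.Quotient.eq]
  have h1 := diff_eq e d (f j) J m
  unfold tcoeff at h1
  rw [h1]
  split_ifs with hc
  · exact Ideal.subset_span ⟨j, m, hc.1, rfl⟩
  · exact Ideal.zero_mem _

include hπ hI hγ hq in
theorem ker_le : RingHom.ker (q : SymTen.TS A P d →+* C) ≤ Ideal.span (gens e d f) := by
  have hker : RingHom.ker (π : P →+* B) ≤ PolLaw.ker (F₁ e d f).law := by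
    rw [hI, Ideal.span_le]
    rintro _ ⟨j, rfl⟩
    exact mem_ker_F₁ e d f j
  have WD : ∀ (S : Type u) [CommSemiring S] [Algebra A S] (x x' : S ⊗[A] P),
      π.toLinearMap.lTensor S x = π.toLinearMap.lTensor S x' →
        (mk₁ e d f).toLinearMap.lTensor S ((ts P d).law.toFun' S x) =
          (mk₁ e d f).toLinearMap.lTensor S ((ts P d).law.toFun' S x') :=
    fun S _ _ x x' h => by
      have h1 := wd (F₁ e d f).law π hπ hker S x x' h
      unfold F₁ at h1
      rw [postcomp_toFun', postcomp_toFun'] at h1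
      exact h1
  obtain ⟨γ'', hγ''⟩ : ∃ γ'' : PolLaw.MulLaw A B (SymTen.TS A P d ⧸ K₁ e d f) d,
      γ'' = descLaw (C'' := SymTen.TS A P d ⧸ K₁ e d f) (ts P d) π hπ (mk₁ e d f)
        (by exact WD) := ⟨_, rfl⟩
  obtain ⟨fC, hfC, -⟩ := hγ (SymTen.TS A P d ⧸ K₁ e d f) γ''
  have hfC_apply : ∀ (S : Type u) [CommSemiring S] [Algebra A S] (z' : S ⊗[A] B),
      fC.toLinearMap.lTensor S (γ.law.toFun' S z') = γ''.law.toFun' S z' := by
    intro S _ _ z'
    have := congrArg (fun L : B →ₚₗ[A] _ => L.toFun' S z') hfC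
    exact this
  have hcomp : fC.comp q = mk₁ e d f := by
    obtain ⟨g, -, hguniq⟩ := (isGammaD_ts_of_flat (A := A) (B := P) d) _ (F₁ e d f)
    have e1 : PolLaw.postcomp (fC.comp q).toLinearMap (ts P d).law = (F₁ e d f).law := by
      ext S _ _ x
      show (fC.comp q).toLinearMap.lTensor S ((ts P d).law.toFun' S x) =
        (mk₁ e d f).toLinearMap.lTensor S ((ts P d).law.toFun' S x)
      have : (fC.comp q).toLinearMap = fC.toLinearMap ∘ₗ q.toLinearMap := rfl
      rw [this, LinearMap.lTensor_comp, LinearMap.comp_apply, hφ_apply (ts P d) γ π q hq,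
        hfC_apply, hγ'', descLaw_apply]
    have e2 : PolLaw.postcomp (mk₁ e d f).toLinearMap (ts P d).law = (F₁ e d f).law := rfl
    exact (hguniq _ e1).trans (hguniq _ e2).symm
  intro x hx
  rw [RingHom.mem_ker] at hx
  have h1 : mk₁ e d f x = 0 := by
    rw [← hcomp, AlgHom.comp_apply]
    have : q x = 0 := hx
    rw [this, map_zero]
  exact Ideal.Quotient.eq_zero_iff_mem.mp h1

include hπ hI hγ hq in
/-- **the kernel of `TS^d(P) → Γ^d(P/I)` is generated by orbit sums** -/
theorem ker_eq : RingHom.ker (q : SymTen.TS A P d →+* C) = Ideal.span (gens e d f) :=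
  le_antisymm (ker_le e d π hπ f hI γ hγ q hq)
    (Ideal.span_le.2 (gens_le_ker e d π f hI γ q hq))

end ker

end Groth.Agent.Lib.Helper15.GammaFP1
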