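import Mathlib
import Groth.Agent.Lib.Helper15.TSNoether
import Groth.Agent.Lib.Helper15.TSFree

/-!
# Symmetric tensors of a polynomial ring form a finite type algebra over any base (helper15)
-/

set_option autoImplicit false
universe u
open scoped TensorProduct
open MvPolynomial

namespace Groth.Agent.Lib.Helper15.TSPolyFT

open Groth.Agent.Lib.Helper15.TSFree Groth.Agent.Lib.Helper15.TSNoether

section general

variable (Z : Type u) [CommRing Z] (A : Type u) [CommRing A] [Algebra Z A] (σ : Type u) (d : ℕ)

/-- the multilinear map underlying `Θ` -/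
noncomputable def thetaML : MultilinearMap Z (fun _ : Fin d => MvPolynomial σ Z)
    (⨂[A] _ : Fin d, MvPolynomial σ A) :=
  ((PiTensorProduct.tprod A).restrictScalars Z).compLinearMap
    (fun _ => (MvPolynomial.mapAlgHom (Algebra.ofId Z A)).toLinearMap)

theorem thetaML_apply (p : Fin d → MvPolynomial σ Z) :
    thetaML Z A σ d p = PiTensorProduct.tprod A (fun i => MvPolynomial.map (algebraMap Z A) (p i)) :=
  rfl

/-- the base change ring homomorphism `T^d_Z(Z[x]) → T^d_A(A[x])` -/
noncomputable def theta : (⨂[Z] _ : Fin d, MvPolynomial σ Z) →ₐ[Z]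
    (⨂[A] _ : Fin d, MvPolynomial σ A) :=
  PiTensorProduct.liftAlgHom (thetaML Z A σ d)
    (by
      rw [thetaML_apply]
      simp only [Pi.one_apply, map_one]
      rfl)
    (by
      intro x y
      rw [thetaML_apply, thetaML_apply, thetaML_apply, PiTensorProduct.tprod_mul_tprod]
      congr 1
      funext i
      simp)

theorem theta_tprod (p : Fin d → MvPolynomial σ Z) :
    theta Z A σ d (PiTensorProduct.tprod Z p) =
      PiTensorProduct.tprod A (fun i => MvPolynomial.map (algebraMap Z A) (p i)) := by
  unfold theta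
  rw [PiTensorProduct.liftAlgHom_apply, PiTensorProduct.lift.tprod, thetaML_apply]

theorem theta_bT (v : Fin d → (σ →₀ ℕ)) :
    theta Z A σ d (bT (MvPolynomial.basisMonomials σ Z) d v) =
      bT (MvPolynomial.basisMonomials σ A) d v := by
  rw [bT_apply, bT_apply, theta_tprod]
  congr 1
  funext i
  simp [MvPolynomial.coe_basisMonomials]

theorem theta_orb (α : (σ →₀ ℕ) →₀ ℕ) :
    theta Z A σ d (orb (MvPolynomial.basisMonomials σ Z) d α) =
      orb (MvPolynomial.basisMonomials σ A) d α := by
  unfold orb
  rw [map_sum]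
  exact Finset.sum_congr rfl fun v _ => theta_bT Z A σ d v

theorem theta_reindex (τ : Equiv.Perm (Fin d)) (t : ⨂[Z] _ : Fin d, MvPolynomial σ Z) :
    theta Z A σ d (PiTensorProduct.reindex Z (fun _ : Fin d => MvPolynomial σ Z) τ t) =
      PiTensorProduct.reindex A (fun _ : Fin d => MvPolynomial σ A) τ (theta Z A σ d t) := by
  induction t using PiTensorProduct.induction_on with
  | smul_tprod r p =>
    have h1 : ∀ t, theta Z A σ d (r • t) = r • theta Z A σ d t := fun t => map_smul _ _ _
    have h2 : ∀ t : ⨂[A] _ : Fin d, MvPolynomial σ A,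
        PiTensorProduct.reindex A (fun _ : Fin d => MvPolynomial σ A) τ (r • t) =
          r • PiTensorProduct.reindex A (fun _ : Fin d => MvPolynomial σ A) τ t := by
      intro t
      rw [algebra_compatible_smul A r, map_smul, ← algebra_compatible_smul A r]
    rw [map_smul, h1, h1, h2, PiTensorProduct.reindex_tprod, theta_tprod, theta_tprod,
      PiTensorProduct.reindex_tprod]
  | add x y hx hy => rw [map_add, map_add, map_add, map_add, hx, hy]

/-- **`TS^d_A(A[σ])` is a finitely generated `A`-algebra** for an algebra `A` over a noetherian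
ring `Z` -/
theorem fg_TS_of_noetherian [IsNoetherianRing Z] [Finite σ] :
    (SymTen.TS A (MvPolynomial σ A) d).FG := by
  classical
  haveI : Algebra.FiniteType Z (SymTen.TS Z (MvPolynomial σ Z) d) :=
    finiteType_TS Z (MvPolynomial σ Z) d
  obtain ⟨gens, hgens⟩ := (Algebra.FiniteType.out :
    (⊤ : Subalgebra Z (SymTen.TS Z (MvPolynomial σ Z) d)).FG)
  let Θ' : SymTen.TS Z (MvPolynomial σ Z) d →ₐ[Z] (⨂[A] _ : Fin d, MvPolynomial σ A) :=
    (theta Z A σ d).comp (SymTen.TS Z (MvPolynomial σ Z) d).val
  refine ⟨gens.image Θ', le_antisymm ?_ ?_⟩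
  · rw [Algebra.adjoin_le_iff]
    intro x hx
    rw [Finset.coe_image] at hx
    obtain ⟨g, -, rfl⟩ := hx
    intro τ
    show PiTensorProduct.reindex A _ τ (theta Z A σ d g.1) = theta Z A σ d g.1
    rw [← theta_reindex, g.2 τ]
  · intro u hu
    have hmem := mem_span_orb (MvPolynomial.basisMonomials σ A) d u hu
    have hle : Submodule.span A (Set.range (orb (MvPolynomial.basisMonomials σ A) d)) ≤
        Subalgebra.toSubmodule (Algebra.adjoin A ((gens.image Θ' : Finset _) : Set _)) := by
      rw [Submodule.span_le]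
      rintro _ ⟨α, rfl⟩
      rw [← theta_orb Z]
      have hsym : orb (MvPolynomial.basisMonomials σ Z) d α ∈
          SymTen.TS Z (MvPolynomial σ Z) d := fun τ => reindex_orb _ d τ α
      have h1 : (⟨_, hsym⟩ : SymTen.TS Z (MvPolynomial σ Z) d) ∈
          Algebra.adjoin Z (gens : Set _) := by rw [hgens]; trivial
      have h2 : Θ' ⟨_, hsym⟩ ∈ (Algebra.adjoin Z (gens : Set _)).map Θ' := ⟨_, h1, rfl⟩
      rw [AlgHom.map_adjoin] at h2
      have h3 : Algebra.adjoin Z (Θ' '' (gens : Set _)) ≤
          (Algebra.adjoin A (Θ' '' (gens : Set _))).restrictScalars Z := by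
        rw [Algebra.adjoin_le_iff]
        exact Algebra.subset_adjoin
      have h4 := h3 h2
      rw [Finset.coe_image]
      exact h4
    exact hle hmem

end general

/-- **`TS^d_A(A[σ])` is a finitely generated `A`-algebra** over any base ring -/
theorem fg_TS (A : Type u) [CommRing A] (σ : Type u) [Finite σ] (d : ℕ) :
    (SymTen.TS A (MvPolynomial σ A) d).FG := by
  letI : Algebra (ULift.{u} ℤ) A := ULift.algebra' ℤ A
  haveI : IsNoetherianRing (ULift.{u} ℤ) :=
    isNoetherianRing_of_ringEquiv ℤ (ULift.ringEquiv (R := ℤ)).symm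
  exact fg_TS_of_noetherian (ULift.{u} ℤ) A σ d

end Groth.Agent.Lib.Helper15.TSPolyFT
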