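import Mathlib
import Groth.Agent.Lib.Helper15.SymLift
import Groth.Agent.Lib.Helper15.TSFree

/-!
# Symmetric tensors of a flat module are flat (helper15)
-/

set_option autoImplicit false
universe u
open scoped TensorProduct

namespace Groth.Agent.Lib.Helper15.TSModFlat

open Groth.Agent.Lib.Helper15.FlatKill Groth.Agent.Lib.Helper15.SymLift
  Groth.Agent.Lib.Helper15.TSFree

variable {A : Type u} [CommRing A]

/-- the submodule of symmetric tensors -/
noncomputable def TSm (M : Type u) [AddCommGroup M] [Module A M] (d : ℕ) :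
    Submodule A (⨂[A] _ : Fin d, M) :=
  ⨅ σ : Equiv.Perm (Fin d),
    LinearMap.eqLocus (PiTensorProduct.reindex A (fun _ : Fin d => M) σ).toLinearMap LinearMap.id

theorem mem_TSm {M : Type u} [AddCommGroup M] [Module A M] {d : ℕ} (t : ⨂[A] _ : Fin d, M) :
    t ∈ TSm (A := A) M d ↔
      ∀ σ : Equiv.Perm (Fin d), PiTensorProduct.reindex A (fun _ : Fin d => M) σ t = t := by
  unfold TSm
  rw [Submodule.mem_iInf]
  rfl

section lift

variable {M : Type u} [AddCommGroup M] [Module A M] [Module.Flat A M] (d : ℕ)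

/-- simultaneous symmetric lift of a finite family satisfying a linear relation -/
theorem exists_sym_lift_family {l : ℕ} (t : Fin l → ⨂[A] _ : Fin d, M)
    (ht : ∀ i, t i ∈ TSm (A := A) M d) (f : Fin l → A) (hf : ∑ i, f i • t i = 0) :
    ∃ (I : Type u) (y : (I →₀ A) →ₗ[A] M) (w : Fin l → ⨂[A] _ : Fin d, (I →₀ A)),
      (∀ i, w i ∈ TSm (A := A) (I →₀ A) d) ∧
      (∀ i, PiTensorProduct.map (fun _ => y) (w i) = t i) ∧ ∑ i, f i • w i = 0 := by
  classical
  let π : (M →₀ A) →ₗ[A] M := Finsupp.linearCombination A id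
  have hπ : Function.Surjective π := fun m => ⟨Finsupp.single m 1, by simp [π]⟩
  choose t' ht' using fun i => map_surjective (ι := Fin d) π hπ (t i)
  let l₁ : List (⨂[A] _ : Fin d, (M →₀ A)) :=
    (Finset.univ : Finset (Fin l × Equiv.Perm (Fin d))).toList.map
      (fun p => PiTensorProduct.reindex A (fun _ : Fin d => (M →₀ A)) p.2 (t' p.1) - t' p.1)
  obtain ⟨I, a, y, hy, ha⟩ := exists_factor (ι := Fin d) M π ((∑ i, f i • t' i) :: l₁) (by
    intro s hs
    rcases List.mem_cons.mp hs with rfl | hs
    · rw [map_sum]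
      simp only [map_smul, ht']
      exact hf
    · rw [List.mem_map] at hs
      obtain ⟨p, -, rfl⟩ := hs
      rw [map_sub, sub_eq_zero]
      have h := PiTensorProduct.map_reindex (R := A) (fun _ : Fin d => π) p.2 (t' p.1)
      rw [ht', (mem_TSm _).mp (ht p.1) p.2] at h
      rw [ht']
      exact h)
  refine ⟨I, y, fun i => PiTensorProduct.map (fun _ => a) (t' i), ?_, ?_, ?_⟩
  · intro i
    rw [mem_TSm]
    intro σ
    have h := PiTensorProduct.map_reindex (R := A) (fun _ : Fin d => a) σ (t' i)
    rw [← h]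
    have h2 := ha (PiTensorProduct.reindex A (fun _ : Fin d => (M →₀ A)) σ (t' i) - t' i)
      (List.mem_cons_of_mem _ (List.mem_map_of_mem (a := (i, σ))
        (Finset.mem_toList.mpr (Finset.mem_univ _))))
    rw [map_sub, sub_eq_zero] at h2
    exact h2
  · intro i
    rw [map_map_apply, ← hy, ht']
  · have h := ha (∑ i, f i • t' i) List.mem_cons_self
    rw [map_sum] at h
    simp only [map_smul] at h
    exact h

end lift

section free

variable {L : Type u} [AddCommGroup L] [Module A L] {I : Type u} (e : Module.Basis I A L) (d : ℕ)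

include e in
/-- the symmetric tensors of a free module form a flat module -/
theorem flat_TSm_of_basis : Module.Flat A (TSm (A := A) L d) := by
  haveI : Module.Free A (⨂[A] _ : Fin d, L) := Module.Free.of_basis (bT e d)
  let r : (⨂[A] _ : Fin d, L) →ₗ[A] TSm (A := A) L d :=
    (pr e d).codRestrict (TSm (A := A) L d) (fun t => (mem_TSm _).mpr (fun σ => reindex_pr e d σ t))
  refine Module.Flat.of_retract (TSm (A := A) L d).subtype r ?_
  ext t
  exact pr_eq_self e d t.1 ((mem_TSm _).mp t.2)

end free

/-- **the symmetric tensors of a flat module form a flat module** -/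
theorem flat_TSm (M : Type u) [AddCommGroup M] [Module A M] [Module.Flat A M] (d : ℕ) :
    Module.Flat A (TSm (A := A) M d) := by
  apply Module.Flat.of_forall_isTrivialRelation
  intro l f x hx
  have hx' : ∑ i, f i • (x i : ⨂[A] _ : Fin d, M) = 0 := by
    have := congrArg Subtype.val hx
    simpa using this
  obtain ⟨I, y, w, hw, hyw, hfw⟩ :=
    exists_sym_lift_family d (fun i => (x i : ⨂[A] _ : Fin d, M)) (fun i => (x i).2) f hx'
  haveI := flat_TSm_of_basis (Finsupp.basisSingleOne (R := A) (ι := I)) d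
  letI : AddCommGroup ↥(TSm (A := A) (I →₀ A) d) := Module.addCommMonoidToAddCommGroup A
  have hrel : ∑ i, f i • (⟨w i, hw i⟩ : TSm (A := A) (I →₀ A) d) = 0 := by
    apply Subtype.ext
    simpa using hfw
  obtain ⟨k, a, y', hy', ha⟩ := Module.Flat.isTrivialRelation_of_sum_smul_eq_zero (R := A)
    (M := TSm (A := A) (I →₀ A) d) (f := f)
    (x := fun i => (⟨w i, hw i⟩ : TSm (A := A) (I →₀ A) d)) hrel
  refine ⟨k, a, fun j => ⟨PiTensorProduct.map (fun _ => y) (y' j).1, ?_⟩, ?_, ha⟩
  · rw [mem_TSm]
    intro σ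
    have h := PiTensorProduct.map_reindex (R := A) (fun _ : Fin d => y) σ (y' j).1
    rw [← h, (mem_TSm _).mp (y' j).2 σ]
  · intro i
    apply Subtype.ext
    have h := congrArg (fun z : TSm (A := A) (I →₀ A) d =>
      PiTensorProduct.map (fun _ : Fin d => y) z.1) (hy' i)
    simp only at h
    rw [hyw i] at h
    rw [h]
    simp [map_sum]

end Groth.Agent.Lib.Helper15.TSModFlat
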