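import Mathlib
import Groth.Agent.Lib.Helper15.TSModFlat

/-!
# Tensor powers of flat modules are flat; symmetric tensors form a pure submodule (helper15)
-/

set_option autoImplicit false
universe u
open scoped TensorProduct

namespace Groth.Agent.Lib.Helper15.TSPure

open Groth.Agent.Lib.Helper15.FlatKill Groth.Agent.Lib.Helper15.SymLift
  Groth.Agent.Lib.Helper15.TSFree Groth.Agent.Lib.Helper15.TSModFlat

variable {A : Type u} [CommRing A]

/-- **the tensor powers of a flat module are flat** -/
theorem flat_tpow (M : Type u) [AddCommGroup M] [Module A M] [Module.Flat A M] (d : ℕ) :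
    Module.Flat A (⨂[A] _ : Fin d, M) := by
  classical
  apply Module.Flat.of_forall_isTrivialRelation
  intro l f x hx
  let π : (M →₀ A) →ₗ[A] M := Finsupp.linearCombination A id
  have hπ : Function.Surjective π := fun m => ⟨Finsupp.single m 1, by simp [π]⟩
  choose x' hx' using fun i => map_surjective (ι := Fin d) π hπ (x i)
  obtain ⟨I, a, y, hy, ha⟩ := exists_factor (ι := Fin d) M π [∑ i, f i • x' i] (by
    intro s hs
    rw [List.mem_singleton] at hs
    rw [hs, map_sum]
    simp only [map_smul, hx']
    exact hx)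
  haveI : Module.Free A (⨂[A] _ : Fin d, (I →₀ A)) :=
    Module.Free.of_basis (bT (Finsupp.basisSingleOne (R := A) (ι := I)) d)
  have hrel : ∑ i, f i • PiTensorProduct.map (fun _ : Fin d => a) (x' i) = 0 := by
    have h := ha (∑ i, f i • x' i) (List.mem_singleton.mpr rfl)
    rw [map_sum] at h
    simp only [map_smul] at h
    exact h
  obtain ⟨k, c, z, hz, hc⟩ := Module.Flat.isTrivialRelation_of_sum_smul_eq_zero (R := A)
    (M := ⨂[A] _ : Fin d, (I →₀ A)) (f := f)
    (x := fun i => PiTensorProduct.map (fun _ : Fin d => a) (x' i)) hrel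
  refine ⟨k, c, fun j => PiTensorProduct.map (fun _ : Fin d => y) (z j), ?_, hc⟩
  intro i
  have h := congrArg (PiTensorProduct.map (fun _ : Fin d => y)) (hz i)
  rw [map_map_apply, ← hy, hx'] at h
  rw [h, map_sum]
  simp only [map_smul]

/-- **purity of the symmetric tensors**: for a flat module `M` the inclusion
`TS^d(M) ⊆ T^d(M)` stays injective after tensoring with any module -/
theorem lTensor_TSm_injective (M : Type u) [AddCommGroup M] [Module A M] [Module.Flat A M]
    (d : ℕ) (N : Type u) [AddCommGroup N] [Module A N] :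
    Function.Injective ((TSm (A := A) M d).subtype.lTensor N) := by
  classical
  haveI := flat_tpow (A := A) M d
  rw [injective_iff_map_eq_zero]
  intro x hx
  obtain ⟨s, rfl⟩ := TensorProduct.exists_finset x
  -- index by `Fin l`
  let e := (Fintype.equivFin s).symm
  have hsum : ∑ p ∈ s, p.1 ⊗ₜ[A] p.2 = ∑ i, (e i).1.1 ⊗ₜ[A] (e i).1.2 := by
    rw [← Finset.sum_coe_sort, ← e.sum_comp]
  rw [hsum] at hx ⊢
  set n : Fin (Fintype.card s) → N := fun i => (e i).1.1 with hn
  set u : Fin (Fintype.card s) → TSm (A := A) M d := fun i => (e i).1.2 with hu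
  have hx' : ∑ i, n i ⊗ₜ[A] ((u i : TSm (A := A) M d) : ⨂[A] _ : Fin d, M) = 0 := by
    rw [map_sum] at hx
    simpa using hx
  -- the relation is trivial in `N ⊗ T^d(M)`
  obtain ⟨k, c, t, ht, hc⟩ :=
    TensorProduct.vanishesTrivially_of_sum_tmul_eq_zero_of_rTensor_injective A
      (m := n) (n := fun i => ((u i : TSm (A := A) M d) : ⨂[A] _ : Fin d, M))
      (Module.Flat.rTensor_preserves_injective_linearMap _ (Submodule.injective_subtype _)) hx'
  -- lift to a free module
  let π : (M →₀ A) →ₗ[A] M := Finsupp.linearCombination A id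
  have hπ : Function.Surjective π := fun m => ⟨Finsupp.single m 1, by simp [π]⟩
  choose u' hu' using fun i => map_surjective (ι := Fin d) π hπ (u i : ⨂[A] _ : Fin d, M)
  choose t' ht' using fun j => map_surjective (ι := Fin d) π hπ (t j)
  let l₁ : List (⨂[A] _ : Fin d, (M →₀ A)) :=
    (Finset.univ : Finset (Fin (Fintype.card s) × Equiv.Perm (Fin d))).toList.map
      (fun p => PiTensorProduct.reindex A (fun _ : Fin d => (M →₀ A)) p.2 (u' p.1) - u' p.1)
  let l₂ : List (⨂[A] _ : Fin d, (M →₀ A)) :=
    (Finset.univ : Finset (Fin (Fintype.card s))).toList.map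
      (fun i => u' i - ∑ j, c i j • t' j)
  obtain ⟨I, a, y, hy, ha⟩ := exists_factor (ι := Fin d) M π (l₁ ++ l₂) (by
    intro r hr
    rcases List.mem_append.mp hr with hr | hr
    · rw [List.mem_map] at hr
      obtain ⟨p, -, rfl⟩ := hr
      rw [map_sub, sub_eq_zero]
      have h := PiTensorProduct.map_reindex (R := A) (fun _ : Fin d => π) p.2 (u' p.1)
      rw [hu', (mem_TSm _).mp (u p.1).2 p.2] at h
      rw [hu']
      exact h
    · rw [List.mem_map] at hr
      obtain ⟨i, -, rfl⟩ := hr
      rw [map_sub, map_sum, sub_eq_zero, hu']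
      simp only [map_smul, ht']
      exact ht i)
  let eI := Finsupp.basisSingleOne (R := A) (ι := I)
  have hw : ∀ i σ, PiTensorProduct.reindex A (fun _ : Fin d => (I →₀ A)) σ
      (PiTensorProduct.map (fun _ : Fin d => a) (u' i)) =
      PiTensorProduct.map (fun _ : Fin d => a) (u' i) := by
    intro i σ
    have h := PiTensorProduct.map_reindex (R := A) (fun _ : Fin d => a) σ (u' i)
    rw [← h]
    have h2 := ha (PiTensorProduct.reindex A (fun _ : Fin d => (M →₀ A)) σ (u' i) - u' i)
      (List.mem_append_left _ (List.mem_map_of_mem (a := (i, σ))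
        (Finset.mem_toList.mpr (Finset.mem_univ _))))
    rw [map_sub, sub_eq_zero] at h2
    exact h2
  have hrel : ∀ i, PiTensorProduct.map (fun _ : Fin d => a) (u' i) =
      ∑ j, c i j • PiTensorProduct.map (fun _ : Fin d => a) (t' j) := by
    intro i
    have h2 := ha (u' i - ∑ j, c i j • t' j)
      (List.mem_append_right _ (List.mem_map_of_mem (a := i)
        (Finset.mem_toList.mpr (Finset.mem_univ _))))
    rw [map_sub, sub_eq_zero, map_sum] at h2
    simp only [map_smul] at h2
    exact h2
  -- the symmetrised `t`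
  have hsym : ∀ j, PiTensorProduct.map (fun _ : Fin d => y)
      (pr eI d (PiTensorProduct.map (fun _ : Fin d => a) (t' j))) ∈ TSm (A := A) M d := by
    intro j
    rw [mem_TSm]
    intro σ
    have h := PiTensorProduct.map_reindex (R := A) (fun _ : Fin d => y) σ
      (pr eI d (PiTensorProduct.map (fun _ : Fin d => a) (t' j)))
    rw [← h, reindex_pr]
  have hexp : ∀ i, u i = ∑ j, c i j •
      (⟨_, hsym j⟩ : TSm (A := A) M d) := by
    intro i
    apply Subtype.ext
    have h1 : ((u i : TSm (A := A) M d) : ⨂[A] _ : Fin d, M) =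
        PiTensorProduct.map (fun _ : Fin d => y)
          (PiTensorProduct.map (fun _ : Fin d => a) (u' i)) := by
      rw [map_map_apply, ← hy, hu']
    rw [h1, ← pr_eq_self eI d _ (hw i), hrel i, map_sum, map_sum]
    simp only [map_smul]
    rw [Submodule.coe_sum]
    rfl
  exact TensorProduct.sum_tmul_eq_zero_of_vanishesTrivially A
    ⟨k, c, fun j => (⟨_, hsym j⟩ : TSm (A := A) M d), hexp, hc⟩

end Groth.Agent.Lib.Helper15.TSPure
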