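import Mathlib
import Groth.Agent.Lib.Helper15.GammaFP1
import Groth.Agent.Lib.Helper15.TSPolyFT
import Groth.Agent.Lib.Helper15.TSPure

/-!
# `Γ^d_A(B)` is of finite presentation when `B` is (helper15)
-/

set_option autoImplicit false
universe u
open scoped TensorProduct
open MvPolynomial

namespace Groth.Agent.Lib.Helper15.GammaFP2

open Groth.Agent.Lib.Helper15.LawFree Groth.Agent.Lib.Helper15.TSLaw
  Groth.Agent.Lib.Helper15.TSFree Groth.Agent.Lib.Helper15.TSplit
  Groth.Agent.Lib.Helper15.TSFlat Groth.Agent.Lib.Helper15.GammaSurj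
  Groth.Agent.Lib.Helper15.GammaFP1 Groth.Agent.Lib.Helper15.TSPolyFT

variable (Z : Type u) [CommRing Z] (A : Type u) [CommRing A] [Algebra Z A] (σ : Type u) (d : ℕ)

/-- the base change map on symmetric tensors -/
noncomputable def thetaS : SymTen.TS Z (MvPolynomial σ Z) d →ₐ[Z] SymTen.TS A (MvPolynomial σ A) d :=
  ((theta Z A σ d).comp (SymTen.TS Z (MvPolynomial σ Z) d).val).codRestrict
    ((SymTen.TS A (MvPolynomial σ A) d).restrictScalars Z) (fun t τ => by
      show PiTensorProduct.reindex A _ τ (theta Z A σ d t.1) = theta Z A σ d t.1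
      rw [← theta_reindex, t.2 τ])

theorem val_thetaS (t : SymTen.TS Z (MvPolynomial σ Z) d) :
    ((thetaS Z A σ d t : SymTen.TS A (MvPolynomial σ A) d) : ⨂[A] _ : Fin d, MvPolynomial σ A) =
      theta Z A σ d t.1 := rfl

section gens

variable {κ : Type u}

theorem theta_orbF (b : κ → MvPolynomial σ Z) (m : κ →₀ ℕ) :
    theta Z A σ d (orbF d b m) = orbF d (fun k => MvPolynomial.map (algebraMap Z A) (b k)) m := by
  unfold orbF
  rw [map_sum]
  refine Finset.sum_congr rfl fun v _ => ?_
  rw [theta_tprod]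

theorem map_bfam (F : MvPolynomial σ Z) (k : (σ →₀ ℕ) ⊕ (σ →₀ ℕ)) :
    MvPolynomial.map (algebraMap Z A) (bfam (MvPolynomial.basisMonomials σ Z) F k) =
      bfam (MvPolynomial.basisMonomials σ A) (MvPolynomial.map (algebraMap Z A) F) k := by
  rcases k with β | β
  · simp [bfam, MvPolynomial.coe_basisMonomials]
  · simp [bfam, MvPolynomial.coe_basisMonomials]

theorem thetaS_orbS (F : MvPolynomial σ Z) (m : ((σ →₀ ℕ) ⊕ (σ →₀ ℕ)) →₀ ℕ) :
    thetaS Z A σ d (orbS d (bfam (MvPolynomial.basisMonomials σ Z) F) m) =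
      orbS d (bfam (MvPolynomial.basisMonomials σ A) (MvPolynomial.map (algebraMap Z A) F)) m := by
  apply Subtype.ext
  rw [val_thetaS]
  show theta Z A σ d (orbF d _ m) = orbF d _ m
  rw [theta_orbF]
  congr 1
  funext k
  exact map_bfam Z A σ F k

variable {κ' : Type*} (Fz : κ' → MvPolynomial σ Z)

theorem image_gens :
    (thetaS Z A σ d) '' (gens (MvPolynomial.basisMonomials σ Z) d Fz) =
      gens (MvPolynomial.basisMonomials σ A) d
        (fun j => MvPolynomial.map (algebraMap Z A) (Fz j)) := by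
  ext t
  constructor
  · rintro ⟨t₀, ⟨j, m, hβ, rfl⟩, rfl⟩
    exact ⟨j, m, hβ, thetaS_orbS Z A σ d (Fz j) m⟩
  · rintro ⟨j, m, hβ, rfl⟩
    exact ⟨_, ⟨j, m, hβ, rfl⟩, thetaS_orbS Z A σ d (Fz j) m⟩

theorem fg_span_gens [IsNoetherianRing Z] [Finite σ] :
    (Ideal.span (gens (MvPolynomial.basisMonomials σ A) d
      (fun j => MvPolynomial.map (algebraMap Z A) (Fz j)))).FG := by
  haveI : Algebra.FiniteType Z (SymTen.TS Z (MvPolynomial σ Z) d) :=
    TSNoether.finiteType_TS Z (MvPolynomial σ Z) d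
  haveI : IsNoetherianRing (SymTen.TS Z (MvPolynomial σ Z) d) :=
    Algebra.FiniteType.isNoetherianRing Z _
  have h1 : (Ideal.span (gens (MvPolynomial.basisMonomials σ Z) d Fz)).FG :=
    IsNoetherian.noetherian _
  have h2 := Ideal.FG.map h1 (thetaS Z A σ d : _ →+* SymTen.TS A (MvPolynomial σ A) d)
  rw [Ideal.map_span] at h2
  rw [← image_gens]
  exact h2

end gens

section fp

/-- the comparison map -/
noncomputable def Phi : A ⊗[Z] SymTen.TS Z (MvPolynomial σ Z) d →ₐ[A]
    SymTen.TS A (MvPolynomial σ A) d :=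
  Algebra.TensorProduct.lift (Algebra.ofId A _) (thetaS Z A σ d) (fun _ _ => Commute.all _ _)

theorem Phi_tmul (a : A) (t : SymTen.TS Z (MvPolynomial σ Z) d) :
    Phi Z A σ d (a ⊗ₜ t) = a • thetaS Z A σ d t := by
  unfold Phi
  rw [Algebra.TensorProduct.lift_tmul, Algebra.ofId_apply, Algebra.smul_def]

/-- the linear comparison map on full tensor powers -/
noncomputable def Theta : A ⊗[Z] (⨂[Z] _ : Fin d, MvPolynomial σ Z) →ₗ[A]
    (⨂[A] _ : Fin d, MvPolynomial σ A) :=
  LinearMap.liftBaseChange A (theta Z A σ d).toLinearMap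

theorem Theta_tmul (a : A) (t : ⨂[Z] _ : Fin d, MvPolynomial σ Z) :
    Theta Z A σ d (a ⊗ₜ t) = a • theta Z A σ d t := by
  unfold Theta
  rw [LinearMap.liftBaseChange_tmul]
  rfl

theorem Theta_eq :
    Theta Z A σ d = (((bT (MvPolynomial.basisMonomials σ Z) d).baseChange A).equiv
      (bT (MvPolynomial.basisMonomials σ A) d) (Equiv.refl _)).toLinearMap := by
  apply ((bT (MvPolynomial.basisMonomials σ Z) d).baseChange A).ext
  intro v
  rw [LinearEquiv.coe_coe, Module.Basis.equiv_apply, Module.Basis.baseChange_apply, Theta_tmul,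
    one_smul, theta_bT]
  rfl

theorem Theta_injective : Function.Injective (Theta Z A σ d) := by
  rw [Theta_eq]
  exact LinearEquiv.injective _

theorem val_Phi (x : A ⊗[Z] SymTen.TS Z (MvPolynomial σ Z) d) :
    ((Phi Z A σ d x : SymTen.TS A (MvPolynomial σ A) d) : ⨂[A] _ : Fin d, MvPolynomial σ A) =
      Theta Z A σ d
        ((Subalgebra.toSubmodule (SymTen.TS Z (MvPolynomial σ Z) d)).subtype.lTensor A x) := by
  induction x using TensorProduct.induction_on with
  | zero => simp
  | tmul a t =>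
    rw [Phi_tmul, LinearMap.lTensor_tmul, Theta_tmul]
    rfl
  | add x y hx hy =>
    rw [map_add, map_add, map_add, ← hx, ← hy]
    rfl

theorem Phi_injective : Function.Injective (Phi Z A σ d) := by
  have hEq : Subalgebra.toSubmodule (SymTen.TS Z (MvPolynomial σ Z) d) =
      Groth.Agent.Lib.Helper15.TSModFlat.TSm (A := Z) (MvPolynomial σ Z) d := by
    ext t
    rw [Groth.Agent.Lib.Helper15.TSModFlat.mem_TSm]
    rfl
  let e1 : Subalgebra.toSubmodule (SymTen.TS Z (MvPolynomial σ Z) d) ≃ₗ[Z]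
      Groth.Agent.Lib.Helper15.TSModFlat.TSm (A := Z) (MvPolynomial σ Z) d :=
    LinearEquiv.ofEq _ _ hEq
  have hι : (Subalgebra.toSubmodule (SymTen.TS Z (MvPolynomial σ Z) d)).subtype =
      (Groth.Agent.Lib.Helper15.TSModFlat.TSm (A := Z) (MvPolynomial σ Z) d).subtype ∘ₗ
        e1.toLinearMap := by
    ext c
    rfl
  intro x y hxy
  have h1 := congrArg Subtype.val hxy
  rw [val_Phi, val_Phi] at h1
  have h2 := Theta_injective Z A σ d h1
  rw [hι, LinearMap.lTensor_comp, LinearMap.comp_apply, LinearMap.comp_apply] at h2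
  have h3 := Groth.Agent.Lib.Helper15.TSPure.lTensor_TSm_injective (A := Z)
    (MvPolynomial σ Z) d A h2
  exact (LinearEquiv.lTensor A e1).injective h3

theorem Phi_surjective : Function.Surjective (Phi Z A σ d) := by
  intro u
  have hmem := mem_span_orb (MvPolynomial.basisMonomials σ A) d u.1 u.2
  have hle : Submodule.span A (Set.range (orb (MvPolynomial.basisMonomials σ A) d)) ≤
      Submodule.map (Subalgebra.toSubmodule (SymTen.TS A (MvPolynomial σ A) d)).subtype
        (LinearMap.range (Phi Z A σ d).toLinearMap) := by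
    rw [Submodule.span_le]
    rintro _ ⟨α, rfl⟩
    have hsym : orb (MvPolynomial.basisMonomials σ Z) d α ∈
        SymTen.TS Z (MvPolynomial σ Z) d := fun τ => reindex_orb _ d τ α
    refine ⟨Phi Z A σ d (1 ⊗ₜ ⟨_, hsym⟩), ⟨1 ⊗ₜ ⟨_, hsym⟩, rfl⟩, ?_⟩
    rw [Phi_tmul, one_smul]
    show theta Z A σ d (orb (MvPolynomial.basisMonomials σ Z) d α) = _
    rw [theta_orb]
  obtain ⟨y, ⟨x, rfl⟩, hy⟩ := hle hmem
  exact ⟨x, Subtype.ext hy⟩

/-- **`TS^d_A(A[σ])` is of finite presentation over `A`**, if `A` is an algebra over a noetherian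
ring `Z` -/
theorem finitePresentation_TS_of_noetherian [IsNoetherianRing Z] [Finite σ] :
    Algebra.FinitePresentation A (SymTen.TS A (MvPolynomial σ A) d) := by
  haveI : Algebra.FiniteType Z (SymTen.TS Z (MvPolynomial σ Z) d) :=
    TSNoether.finiteType_TS Z (MvPolynomial σ Z) d
  haveI : Algebra.FinitePresentation Z (SymTen.TS Z (MvPolynomial σ Z) d) :=
    Algebra.FinitePresentation.of_finiteType.mp inferInstance
  haveI : Algebra.FinitePresentation A (A ⊗[Z] SymTen.TS Z (MvPolynomial σ Z) d) :=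
    inferInstance
  exact Algebra.FinitePresentation.equiv
    (AlgEquiv.ofBijective (Phi Z A σ d) ⟨Phi_injective Z A σ d, Phi_surjective Z A σ d⟩)

end fp

/-- **`Γ^d_A(B)` is of finite presentation when `B` is** -/
theorem finitePresentation_of_isGammaD {A : Type u} [CommRing A] {B : Type u} [CommRing B]
    [Algebra A B] {C : Type u} [CommRing C] [Algebra A C] {d : ℕ}
    (γ : PolLaw.MulLaw A B C d) (hγ : PolLaw.IsGammaD γ) [Algebra.FinitePresentation A B] :
    Algebra.FinitePresentation A C := by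
  classical
  obtain ⟨n, f0, hf0, hker0⟩ := Algebra.FinitePresentation.out (R := A) (A := B)
  let σ : Type u := ULift.{u} (Fin n)
  let eσ : MvPolynomial σ A ≃ₐ[A] MvPolynomial (Fin n) A :=
    MvPolynomial.renameEquiv A (Equiv.ulift : ULift.{u} (Fin n) ≃ Fin n)
  let π : MvPolynomial σ A →ₐ[A] B := f0.comp eσ.toAlgHom
  have hπ : Function.Surjective π := hf0.comp eσ.surjective
  have hkerπ : (RingHom.ker (π : MvPolynomial σ A →+* B)).FG := by
    have h0 : (RingHom.ker (eσ : MvPolynomial σ A →+* MvPolynomial (Fin n) A)).FG := by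
      have : RingHom.ker (eσ : MvPolynomial σ A →+* MvPolynomial (Fin n) A) = ⊥ :=
        (RingHom.injective_iff_ker_eq_bot _).1 eσ.injective
      rw [this]
      exact Submodule.fg_bot
    exact Ideal.fg_ker_comp (eσ : MvPolynomial σ A →+* MvPolynomial (Fin n) A)
      (f0 : MvPolynomial (Fin n) A →+* B) h0 hker0 eσ.surjective
  obtain ⟨s, hs⟩ := hkerπ
  -- the noetherian subring
  let Z : Subalgebra ℤ A := Algebra.adjoin ℤ (⋃ p ∈ s, (p.coeffs : Set A))
  haveI : Algebra.FiniteType ℤ Z := by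
    apply Algebra.FiniteType.adjoin_of_finite
    exact Set.Finite.biUnion s.finite_toSet fun p _ => Finset.finite_toSet _
  haveI : IsNoetherianRing Z := Algebra.FiniteType.isNoetherianRing ℤ Z
  have hlift : ∀ p : {p : MvPolynomial σ A // p ∈ s}, ∃ Fp : MvPolynomial σ Z,
      MvPolynomial.map (algebraMap Z A) Fp = p.1 := by
    intro p
    have : p.1 ∈ Set.range (MvPolynomial.map (algebraMap Z A)) := by
      rw [MvPolynomial.mem_range_map_iff_coeffs_subset, Subalgebra.setRange_algebraMap]
      intro c hc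
      exact Algebra.subset_adjoin (Set.mem_biUnion (Finset.mem_coe.2 p.2) hc)
    exact this
  choose Fz hFz using hlift
  let f : {p : MvPolynomial σ A // p ∈ s} → MvPolynomial σ A := fun p => p.1
  have hI : RingHom.ker (π : MvPolynomial σ A →+* B) = Ideal.span (Set.range f) := by
    rw [← hs]
    congr 1
    exact (Subtype.range_coe (s := (s : Set (MvPolynomial σ A)))).symm
  obtain ⟨q, hq, -⟩ := (isGammaD_ts_of_flat (A := A) (B := MvPolynomial σ A) d) C (γ.precomp π)
  have hq_surj : Function.Surjective q :=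
    surjective_of_compat (ts (MvPolynomial σ A) d) γ π hπ q hq
      (isGammaD_ts_of_flat (A := A) (B := MvPolynomial σ A) d) hγ
  have hker : RingHom.ker (q : SymTen.TS A (MvPolynomial σ A) d →+* C) =
      Ideal.span (gens (MvPolynomial.basisMonomials σ A) d f) :=
    ker_eq (MvPolynomial.basisMonomials σ A) d π hπ f hI γ hγ q hq
  have hfg : (RingHom.ker q.toRingHom).FG := by
    have h1 := fg_span_gens Z A σ d Fz
    have h2 : (fun j => MvPolynomial.map (algebraMap Z A) (Fz j)) = f := funext hFz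
    rw [h2] at h1
    rw [← hker] at h1
    exact h1
  haveI : Algebra.FinitePresentation A (SymTen.TS A (MvPolynomial σ A) d) :=
    finitePresentation_TS_of_noetherian Z A σ d
  exact Algebra.FinitePresentation.of_surjective (f := q) hq_surj hfg

end Groth.Agent.Lib.Helper15.GammaFP2
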