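import Mathlib
import Groth.Agent.Lib.Helper15.GammaFinite

/-!
# `Γ^d(B)` is integral when `B` is (helper15)
-/

set_option autoImplicit false
universe u
open scoped TensorProduct
open MvPolynomial

namespace Groth.Agent.Lib.Helper15.GammaIntegral

open Groth.Agent.Lib.Helper15.PolLawGeneric Groth.Agent.Lib.Helper15.Corestrict
  Groth.Agent.Lib.Helper15.GammaFinite

variable {A : Type u} [CommRing A] {B : Type u} [CommRing B] [Algebra A B]
  {C : Type u} [CommRing C] [Algebra A C] {d : ℕ} (γ : PolLaw.MulLaw A B C d)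

/-- every element of `S ⊗ B` comes from `S ⊗ B'` for a finitely generated subalgebra `B'` -/
theorem exists_fg_subalgebra (S : Type u) [CommSemiring S] [Algebra A S] (z : S ⊗[A] B) :
    ∃ B' : Subalgebra A B, B'.FG ∧ z ∈ LinearMap.range (B'.val.toLinearMap.lTensor S) := by
  have mono : ∀ (B₁ B₂ : Subalgebra A B), B₁ ≤ B₂ →
      LinearMap.range (B₁.val.toLinearMap.lTensor S) ≤
        LinearMap.range (B₂.val.toLinearMap.lTensor S) := by
    intro B₁ B₂ h
    rintro _ ⟨y, rfl⟩
    refine ⟨(Subalgebra.inclusion h).toLinearMap.lTensor S y, ?_⟩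
    rw [← LinearMap.comp_apply, ← LinearMap.lTensor_comp]
    rfl
  induction z using TensorProduct.induction_on with
  | zero => exact ⟨⊥, Subalgebra.fg_bot, Submodule.zero_mem _⟩
  | tmul s b' =>
    classical
    refine ⟨Algebra.adjoin A (({b'} : Finset B) : Set B), Subalgebra.fg_adjoin_finset _,
      ⟨s ⊗ₜ[A] ⟨b', Algebra.subset_adjoin (by simp)⟩, ?_⟩⟩
    rw [LinearMap.lTensor_tmul]
    rfl
  | add x y hx hy =>
    obtain ⟨B₁, h₁, hx⟩ := hx
    obtain ⟨B₂, h₂, hy⟩ := hy
    exact ⟨B₁ ⊔ B₂, h₁.sup h₂,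
      Submodule.add_mem _ (mono _ _ le_sup_left hx) (mono _ _ le_sup_right hy)⟩

theorem integral_of_isGammaD [Algebra.IsIntegral A B] (hγ : PolLaw.IsGammaD γ) :
    Algebra.IsIntegral A C := by
  have H : ∀ (σ : Type u) (z : MvPolynomial σ A ⊗[A] B),
      γ.law.toFun' (MvPolynomial σ A) z ∈
        LinearMap.range (inc (integralClosure A C) (MvPolynomial σ A)) := by
    intro σ z
    obtain ⟨B', hB', z', rfl⟩ := exists_fg_subalgebra (MvPolynomial σ A) z
    haveI : Algebra.FiniteType A B' := (Subalgebra.fg_iff_finiteType B').mp hB'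
    haveI : Algebra.IsIntegral A B' :=
      Algebra.IsIntegral.of_injective B'.val Subtype.val_injective
    haveI : Module.Finite A B' := Algebra.IsIntegral.finite
    obtain ⟨n, b', hb'⟩ := Module.Finite.exists_fin (R := A) (M := B')
    set γ' : PolLaw.MulLaw A B' C d := γ.precomp B'.val with hγ'
    have hval : ∀ (S : Type u) [CommSemiring S] [Algebra A S] (w : S ⊗[A] B'),
        γ'.law.toFun' S w = γ.law.toFun' S (B'.val.toLinearMap.lTensor S w) := by
      intro S _ _ w
      rfl
    obtain ⟨s, rfl⟩ := exists_coords b' hb' _ z'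
    rw [← hval, law_coords]
    have hint : ∀ α, gc γ' b' α ∈ integralClosure A C := by
      intro α
      exact IsIntegral.of_mem_of_fg (GammaFinite.C₀ γ' b' hb') (N_fg γ' b') _ (gc_mem γ' b' α)
    refine ⟨∑ α ∈ (gc γ' b').support, mon s α ⊗ₜ[A]
      (⟨gc γ' b' α, hint α⟩ : integralClosure A C), ?_⟩
    rw [map_sum]
    refine Finset.sum_congr rfl fun α _ => ?_
    unfold inc
    rw [LinearMap.lTensor_tmul]
    rfl
  have h1 := eq_top_of_isGammaD γ (integralClosure A C) H hγ
  constructor
  intro c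
  have : c ∈ integralClosure A C := by rw [h1]; trivial
  exact this

end Groth.Agent.Lib.Helper15.GammaIntegral
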