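import Mathlib

/-!
# Products of `1 + c i * X` with square-zero `c i` (helper15)

The coefficients behave like divided powers of `∑ c i`.
-/

set_option autoImplicit false
universe u v
open Polynomial

namespace Groth.Agent.Lib.Helper15.SqZeroProd

variable {R : Type u} [CommRing R] {ι : Type v}

/-- the generating polynomial -/
noncomputable def E (s : Finset ι) (c : ι → R) : R[X] := ∏ i ∈ s, (1 + C (c i) * X)

theorem coeff_zero (s : Finset ι) (c : ι → R) : (E s c).coeff 0 = 1 := by
  unfold E
  rw [Polynomial.coeff_zero_eq_eval_zero, Polynomial.eval_prod]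
  simp

theorem natDegree_le (s : Finset ι) (c : ι → R) : (E s c).natDegree ≤ s.card := by
  unfold E
  refine (Polynomial.natDegree_prod_le _ _).trans ?_
  have h : ∀ i ∈ s, (1 + C (c i) * X : R[X]).natDegree ≤ 1 := by
    intro i _
    refine (Polynomial.natDegree_add_le _ _).trans ?_
    rw [Polynomial.natDegree_one]
    exact max_le (Nat.zero_le _) ((Polynomial.natDegree_C_mul_le _ _).trans Polynomial.natDegree_X_le)
  calc ∑ i ∈ s, (1 + C (c i) * X : R[X]).natDegree ≤ ∑ _i ∈ s, 1 := Finset.sum_le_sum h
    _ = s.card := by simp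

theorem coeff_of_card_lt (s : Finset ι) (c : ι → R) {n : ℕ} (h : s.card < n) :
    (E s c).coeff n = 0 :=
  Polynomial.coeff_eq_zero_of_natDegree_lt ((natDegree_le s c).trans_lt h)

theorem coeff_card (s : Finset ι) (c : ι → R) : (E s c).coeff s.card = ∏ i ∈ s, c i := by
  unfold E
  have h := Polynomial.coeff_prod_of_natDegree_le (s := s) (fun i => (1 + C (c i) * X : R[X])) 1
    (by
      intro i _
      refine (Polynomial.natDegree_add_le _ _).trans ?_
      rw [Polynomial.natDegree_one]
      exact max_le (Nat.zero_le _) ((Polynomial.natDegree_C_mul_le _ _).trans Polynomial.natDegree_X_le))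
  rw [mul_one] at h
  rw [h]
  refine Finset.prod_congr rfl fun i _ => ?_
  simp [Polynomial.coeff_one]

theorem coeff_smul (s : Finset ι) (c : ι → R) (r : R) (n : ℕ) :
    (E s (fun i => r * c i)).coeff n = r ^ n * (E s c).coeff n := by
  have h : E s (fun i => r * c i) = (E s c).comp (C r * X) := by
    unfold E
    rw [Polynomial.prod_comp]
    refine Finset.prod_congr rfl fun i _ => ?_
    simp only [Polynomial.add_comp, Polynomial.one_comp, Polynomial.mul_comp, Polynomial.C_comp,
      Polynomial.X_comp, map_mul]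
    ring
  rw [h, Polynomial.comp_C_mul_X_coeff, mul_comm]

theorem E_add (s : Finset ι) (c c' : ι → R) (h : ∀ i ∈ s, c i * c' i = 0) :
    E s (fun i => c i + c' i) = E s c * E s c' := by
  unfold E
  rw [← Finset.prod_mul_distrib]
  refine Finset.prod_congr rfl fun i hi => ?_
  have : (1 + C (c i) * X) * (1 + C (c' i) * X) =
      (1 + C (c i + c' i) * X + C (c i * c' i) * X ^ 2 : R[X]) := by
    simp only [map_add, map_mul]
    ring
  rw [this, h i hi, map_zero, zero_mul, add_zero]

theorem coeff_add (s : Finset ι) (c c' : ι → R) (h : ∀ i ∈ s, c i * c' i = 0) (n : ℕ) :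
    (E s (fun i => c i + c' i)).coeff n =
      ∑ x ∈ Finset.HasAntidiagonal.antidiagonal n, (E s c).coeff x.1 * (E s c').coeff x.2 := by
  rw [E_add s c c' h, Polynomial.coeff_mul]

theorem E_insert [DecidableEq ι] (s : Finset ι) (c : ι → R) (j : ι) (hj : j ∉ s) :
    E (insert j s) c = (1 + C (c j) * X) * E s c := by
  unfold E
  rw [Finset.prod_insert hj]

theorem coeff_insert_succ [DecidableEq ι] (s : Finset ι) (c : ι → R) (j : ι) (hj : j ∉ s) (n : ℕ) :
    (E (insert j s) c).coeff (n + 1) = (E s c).coeff (n + 1) + c j * (E s c).coeff n := by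
  rw [E_insert s c j hj, add_mul, one_mul, Polynomial.coeff_add, mul_assoc, Polynomial.coeff_C_mul,
    Polynomial.coeff_X_mul]

theorem coeff_insert_zero [DecidableEq ι] (s : Finset ι) (c : ι → R) (j : ι) :
    (E (insert j s) c).coeff 0 = (E s c).coeff 0 := by
  rw [coeff_zero, coeff_zero]

/-- the divided power relation -/
theorem coeff_mul_coeff (s : Finset ι) (c : ι → R) (hc : ∀ i ∈ s, c i * c i = 0) (n p : ℕ) :
    (E s c).coeff n * (E s c).coeff p = (n + p).choose n • (E s c).coeff (n + p) := by
  classical
  induction s using Finset.induction_on generalizing n p with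
  | empty =>
    have h1 : E (∅ : Finset ι) c = 1 := by unfold E; simp
    rw [h1]
    simp only [Polynomial.coeff_one]
    by_cases hn : n = 0
    · subst hn
      by_cases hp : p = 0
      · subst hp; simp
      · simp [hp]
    · have : n + p ≠ 0 := by omega
      simp [hn, this]
  | insert j s hj ih =>
    have hc' : ∀ i ∈ s, c i * c i = 0 := fun i hi => hc i (Finset.mem_insert_of_mem hi)
    have hjj : c j * c j = 0 := hc j (Finset.mem_insert_self j s)
    have IH := fun n p => ih hc' n p
    rcases Nat.eq_zero_or_eq_succ_pred n with hn | hn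
    · rw [hn, coeff_zero]
      simp
    rcases Nat.eq_zero_or_eq_succ_pred p with hp | hp
    · rw [hp, coeff_zero]
      simp
    obtain ⟨n', rfl⟩ : ∃ n', n = n' + 1 := ⟨n - 1, hn⟩
    obtain ⟨p', rfl⟩ : ∃ p', p = p' + 1 := ⟨p - 1, hp⟩
    have e : n' + 1 + (p' + 1) = (n' + p' + 1) + 1 := by ring
    rw [e, coeff_insert_succ s c j hj, coeff_insert_succ s c j hj, coeff_insert_succ s c j hj]
    have h1 := IH (n' + 1) (p' + 1)
    have h2 := IH n' (p' + 1)
    have h3 := IH (n' + 1) p'
    rw [e] at h1
    have e2 : n' + (p' + 1) = n' + p' + 1 := by ring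
    have e3 : n' + 1 + p' = n' + p' + 1 := by ring
    rw [e2] at h2
    rw [e3] at h3
    have hch : (n' + p' + 1 + 1).choose (n' + 1) = (n' + p' + 1).choose n' + (n' + p' + 1).choose (n' + 1) :=
      Nat.choose_succ_succ _ _
    calc ((E s c).coeff (n' + 1) + c j * (E s c).coeff n') *
          ((E s c).coeff (p' + 1) + c j * (E s c).coeff p')
        = (E s c).coeff (n' + 1) * (E s c).coeff (p' + 1) +
          c j * ((E s c).coeff n' * (E s c).coeff (p' + 1) +
            (E s c).coeff (n' + 1) * (E s c).coeff p') +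
          (c j * c j) * ((E s c).coeff n' * (E s c).coeff p') := by ring
      _ = (n' + p' + 1 + 1).choose (n' + 1) •
          ((E s c).coeff (n' + p' + 1 + 1) + c j * (E s c).coeff (n' + p' + 1)) := by
        rw [h1, h2, h3, hjj, hch]
        simp only [nsmul_eq_mul, Nat.cast_add]
        ring

end Groth.Agent.Lib.Helper15.SqZeroProd
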