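import Mathlib
import Groth.Prelude.Def_PolLaw
import Groth.Agent.Lib.Helper15.SqZeroProd

/-!
# Linear functionals on the divided power algebra via square-zero variables (helper15)

`Theta L : Γ_A(M) → κ[ε_1, …, ε_d]/(ε_i²)` sends `γ_n(m)` to the `n`-th elementary symmetric
polynomial in the `L i m • ε_i`.  Its top coefficient is the polarisation functional.
-/

set_option autoImplicit false
universe u
open MvPolynomial

namespace Groth.Agent.Lib.Helper15.GammaLower

section ring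

variable (κ : Type u) [Field κ] (d : ℕ)

noncomputable def sqIdeal : Ideal (MvPolynomial (Fin d) κ) :=
  Ideal.span (Set.range fun i : Fin d => (X i : MvPolynomial (Fin d) κ) ^ 2)

theorem coeff_of_mem (p : MvPolynomial (Fin d) κ) (hp : p ∈ sqIdeal κ d) (μ : Fin d →₀ ℕ)
    (hμ : ∀ i, μ i ≤ 1) : coeff μ p = 0 := by
  classical
  unfold sqIdeal at hp
  obtain ⟨c, rfl⟩ := (Ideal.mem_span_range_iff_exists_fun).mp hp
  rw [coeff_sum]
  refine Finset.sum_eq_zero fun i _ => ?_
  have : (X i : MvPolynomial (Fin d) κ) ^ 2 = monomial (Finsupp.single i 2) 1 := by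
    rw [X_pow_eq_monomial]
  rw [this, coeff_mul_monomial', if_neg]
  intro hle
  have := hle i
  rw [Finsupp.single_eq_same] at this
  have := hμ i
  omega

/-- the ring `κ[ε_1, …, ε_d]/(ε_i²)` -/
abbrev RR : Type u := MvPolynomial (Fin d) κ ⧸ sqIdeal κ d

noncomputable def eps (i : Fin d) : RR κ d := Ideal.Quotient.mk _ (X i)

theorem eps_sq (i : Fin d) : eps κ d i * eps κ d i = 0 := by
  unfold eps
  rw [← map_mul, ← pow_two]
  exact Ideal.Quotient.eq_zero_iff_mem.mpr (Ideal.subset_span ⟨i, rfl⟩)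

/-- the exponent of `ε_1 ⋯ ε_d` -/
noncomputable def top : Fin d →₀ ℕ := ∑ i : Fin d, Finsupp.single i 1

theorem top_apply (i : Fin d) : top d i = 1 := by
  classical
  unfold top
  rw [Finsupp.finset_sum_apply]
  simp [Finsupp.single_apply]

theorem prod_eps : ∏ i, eps κ d i = Ideal.Quotient.mk _ (monomial (top d) 1) := by
  unfold eps top
  rw [← map_prod, monomial_sum_one]
  rfl

/-- the top coefficient -/
noncomputable def ctop : RR κ d →ₗ[κ] κ :=
  ((sqIdeal κ d).restrictScalars κ).liftQ (lcoeff κ (top d)) (fun p hp => by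
    rw [LinearMap.mem_ker]
    exact coeff_of_mem κ d p hp (top d) (fun i => (top_apply d i).le)) ∘ₗ
    (Submodule.Quotient.restrictScalarsEquiv κ (sqIdeal κ d)).symm.toLinearMap

theorem ctop_mk (p : MvPolynomial (Fin d) κ) :
    ctop κ d (Ideal.Quotient.mk _ p) = coeff (top d) p := rfl

theorem ctop_prod_eps (a : κ) : ctop κ d (algebraMap κ (RR κ d) a * ∏ i, eps κ d i) = a := by
  rw [← Algebra.smul_def, map_smul, prod_eps, ctop_mk, coeff_monomial, if_pos rfl, smul_eq_mul,
    mul_one]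

end ring

section theta

variable {A M : Type u} [CommRing A] [AddCommGroup M] [Module A M]
variable (κ : Type u) [Field κ] [Algebra A κ] (d : ℕ) (L : Fin d → (M →ₗ[A] κ))

/-- the square-zero elements `L i m • ε_i` -/
noncomputable def cc (m : M) (i : Fin d) : RR κ d := algebraMap κ (RR κ d) (L i m) * eps κ d i

theorem cc_mul (m m' : M) (i : Fin d) : cc κ d L m i * cc κ d L m' i = 0 := by
  unfold cc
  rw [mul_mul_mul_comm, eps_sq, mul_zero]

theorem cc_add (m m' : M) : cc κ d L (m + m') = fun i => cc κ d L m i + cc κ d L m' i := by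
  funext i
  unfold cc
  rw [map_add, map_add, add_mul]

theorem cc_smul (r : A) (m : M) :
    cc κ d L (r • m) = fun i => algebraMap A (RR κ d) r * cc κ d L m i := by
  funext i
  unfold cc
  rw [map_smul, Algebra.smul_def, map_mul, ← IsScalarTower.algebraMap_apply A κ (RR κ d), mul_assoc]

noncomputable def ff (nm : ℕ × M) : RR κ d :=
  (SqZeroProd.E Finset.univ (cc κ d L nm.2)).coeff nm.1

/-- the algebra map `Γ_A(M) → κ[ε]/(ε²)` -/
noncomputable def Theta : DividedPowerAlgebra A M →ₐ[A] RR κ d :=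
  DividedPowerAlgebra.lift' (f := ff κ d L)
    (fun m => SqZeroProd.coeff_zero _ _)
    (fun n r m => by
      show (SqZeroProd.E Finset.univ (cc κ d L (r • m))).coeff n =
        r ^ n • (SqZeroProd.E Finset.univ (cc κ d L m)).coeff n
      rw [cc_smul, SqZeroProd.coeff_smul, ← map_pow]
      exact (Algebra.smul_def (r ^ n) _).symm)
    (fun n p m => SqZeroProd.coeff_mul_coeff _ _ (fun i _ => cc_mul κ d L m m i) n p)
    (fun n u v => by
      show (SqZeroProd.E Finset.univ (cc κ d L (u + v))).coeff n = _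
      rw [cc_add, SqZeroProd.coeff_add _ _ _ (fun i _ => cc_mul κ d L u v i)]
      exact Finset.sum_congr rfl (fun ⟨k, l⟩ _ => rfl))

theorem Theta_dp (n : ℕ) (m : M) :
    Theta κ d L (DividedPowerAlgebra.dp A n m) =
      (SqZeroProd.E Finset.univ (cc κ d L m)).coeff n := by
  unfold Theta
  rw [DividedPowerAlgebra.lift'_apply_dp]
  rfl

/-- the polarisation functional -/
noncomputable def Lam : DividedPowerAlgebra A M →ₗ[A] κ :=
  (ctop κ d).restrictScalars A ∘ₗ (Theta κ d L).toLinearMap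

theorem Lam_apply (x : DividedPowerAlgebra A M) : Lam κ d L x = ctop κ d (Theta κ d L x) := rfl

theorem Lam_dp (m : M) : Lam κ d L (DividedPowerAlgebra.dp A d m) = ∏ i, L i m := by
  rw [Lam_apply, Theta_dp]
  have h := SqZeroProd.coeff_card (Finset.univ : Finset (Fin d)) (cc κ d L m)
  rw [Finset.card_univ, Fintype.card_fin] at h
  rw [h]
  unfold cc
  rw [Finset.prod_mul_distrib, ← map_prod, ctop_prod_eps]

end theta

section core

variable {A M : Type u} [CommRing A] [AddCommGroup M] [Module A M]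
variable (κ : Type u) [Field κ] [Algebra A κ] (d : ℕ) (ℓ₁ ℓ₂ : M →ₗ[A] κ)

/-- the family `ℓ₁, …, ℓ₁, ℓ₂, …, ℓ₂` with `r` copies of `ℓ₁` -/
noncomputable def fam (r : ℕ) : Fin d → (M →ₗ[A] κ) := fun i => if i.val < r then ℓ₁ else ℓ₂

theorem card_lt (r : ℕ) (hr : r ≤ d) :
    (Finset.univ.filter fun i : Fin d => i.val < r).card = r := by
  rw [Fin.card_filter_val_lt, min_eq_right hr]

theorem card_not_lt (r : ℕ) (hr : r ≤ d) :
    (Finset.univ.filter fun i : Fin d => ¬ i.val < r).card = d - r := by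
  have h := Finset.card_filter_add_card_filter_not (s := (Finset.univ : Finset (Fin d)))
    (fun i : Fin d => i.val < r)
  rw [card_lt d r hr, Finset.card_univ, Fintype.card_fin] at h
  omega

theorem prod_fam (r : ℕ) (hr : r ≤ d) (m : M) :
    ∏ i, fam κ d ℓ₁ ℓ₂ r i m = ℓ₁ m ^ r * ℓ₂ m ^ (d - r) := by
  unfold fam
  have : ∀ i : Fin d, (if i.val < r then ℓ₁ else ℓ₂) m = if i.val < r then ℓ₁ m else ℓ₂ m := by
    intro i; split_ifs <;> rfl
  rw [Finset.prod_congr rfl fun i _ => this i, Finset.prod_ite, Finset.prod_const,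
    Finset.prod_const, card_lt d r hr, card_not_lt d r hr]

variable (m₁ m₂ : M) (h11 : ℓ₁ m₁ = 1) (h12 : ℓ₁ m₂ = 0) (h21 : ℓ₂ m₁ = 0) (h22 : ℓ₂ m₂ = 1)

include h11 h21 in
theorem E_m₁ (r : ℕ) : SqZeroProd.E Finset.univ (cc κ d (fam κ d ℓ₁ ℓ₂ r) m₁) =
    SqZeroProd.E (Finset.univ.filter fun i : Fin d => i.val < r) (eps κ d) := by
  unfold SqZeroProd.E
  rw [Finset.prod_filter]
  refine Finset.prod_congr rfl fun i _ => ?_
  unfold cc fam
  by_cases h : i.val < r
  · rw [if_pos h, if_pos h, h11, map_one, one_mul]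
  · rw [if_neg h, if_neg h, h21, map_zero, zero_mul, map_zero, zero_mul, add_zero]

include h12 h22 in
theorem E_m₂ (r : ℕ) : SqZeroProd.E Finset.univ (cc κ d (fam κ d ℓ₁ ℓ₂ r) m₂) =
    SqZeroProd.E (Finset.univ.filter fun i : Fin d => ¬ i.val < r) (eps κ d) := by
  unfold SqZeroProd.E
  rw [Finset.prod_filter]
  refine Finset.prod_congr rfl fun i _ => ?_
  unfold cc fam
  by_cases h : i.val < r
  · rw [if_pos h, if_neg (not_not.mpr h), h12, map_zero, zero_mul, map_zero, zero_mul, add_zero]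
  · rw [if_neg h, if_pos h, h22, map_one, one_mul]

include h11 h12 h21 h22 in
theorem Lam_same (r : ℕ) (hr : r ≤ d) :
    Lam κ d (fam κ d ℓ₁ ℓ₂ r)
      (DividedPowerAlgebra.dp A r m₁ * DividedPowerAlgebra.dp A (d - r) m₂) = 1 := by
  rw [Lam_apply, map_mul, Theta_dp, Theta_dp, E_m₁ κ d ℓ₁ ℓ₂ m₁ h11 h21, E_m₂ κ d ℓ₁ ℓ₂ m₂ h12 h22]
  have h1 := SqZeroProd.coeff_card (Finset.univ.filter fun i : Fin d => i.val < r) (eps κ d)
  have h2 := SqZeroProd.coeff_card (Finset.univ.filter fun i : Fin d => ¬ i.val < r) (eps κ d)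
  rw [card_lt d r hr] at h1
  rw [card_not_lt d r hr] at h2
  rw [h1, h2, Finset.prod_filter_mul_prod_filter_not]
  have := ctop_prod_eps κ d 1
  rwa [map_one, one_mul] at this

include h11 h21 in
theorem Lam_other (r a b : ℕ) (hr : r ≤ d) (hra : r < a) :
    Lam κ d (fam κ d ℓ₁ ℓ₂ r)
      (DividedPowerAlgebra.dp A a m₁ * DividedPowerAlgebra.dp A b m₂) = 0 := by
  rw [Lam_apply, map_mul, Theta_dp, Theta_dp, E_m₁ κ d ℓ₁ ℓ₂ m₁ h11 h21,
    SqZeroProd.coeff_of_card_lt _ _ (by rw [card_lt d r hr]; exact hra), zero_mul, map_zero]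

include h11 h12 h21 h22 in
/-- over a small finite field the divided powers `γ_d(m)` do not span `Γ^d` -/
theorem span_dp_ne [Fintype κ] (hq : Fintype.card κ < d) :
    Submodule.span A (Set.range (DividedPowerAlgebra.dp A d : M → DividedPowerAlgebra A M)) ≠
      PolLaw.gammaPiece A M d := by
  intro hspan
  set q := Fintype.card κ with hqdef
  have hq2 : 1 < q := Fintype.one_lt_card
  have hq1 : 1 ≤ d := by omega
  -- the functional
  let lam : DividedPowerAlgebra A M →ₗ[A] κ :=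
    Lam κ d (fam κ d ℓ₁ ℓ₂ q) - Lam κ d (fam κ d ℓ₁ ℓ₂ 1)
  have hvan : ∀ m : M, lam (DividedPowerAlgebra.dp A d m) = 0 := by
    intro m
    show Lam κ d (fam κ d ℓ₁ ℓ₂ q) _ - Lam κ d (fam κ d ℓ₁ ℓ₂ 1) _ = 0
    rw [Lam_dp, Lam_dp, prod_fam κ d ℓ₁ ℓ₂ q hq.le, prod_fam κ d ℓ₁ ℓ₂ 1 hq1, sub_eq_zero,
      FiniteField.pow_card, pow_one]
    congr 1
    by_cases hb : ℓ₂ m = 0
    · rw [hb, zero_pow (by omega), zero_pow (by omega)]
    · have h1 : d - 1 = (d - q) + (q - 1) := by omega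
      rw [h1, pow_add, FiniteField.pow_card_sub_one_eq_one _ hb, mul_one]
  have hle : Submodule.span A (Set.range (DividedPowerAlgebra.dp A d : M → DividedPowerAlgebra A M))
      ≤ LinearMap.ker lam := by
    rw [Submodule.span_le]
    rintro _ ⟨m, rfl⟩
    exact hvan m
  have hx : DividedPowerAlgebra.dp A q m₁ * DividedPowerAlgebra.dp A (d - q) m₂ ∈
      PolLaw.gammaPiece A M d := by
    refine Submodule.subset_span ⟨2, ![q, d - q], ![m₁, m₂], ?_, ?_⟩
    · rw [Fin.sum_univ_two]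
      simp only [Matrix.cons_val_zero, Matrix.cons_val_one]
      omega
    · rw [Fin.prod_univ_two]
      simp only [Matrix.cons_val_zero, Matrix.cons_val_one]
  rw [← hspan] at hx
  have h0 : lam (DividedPowerAlgebra.dp A q m₁ * DividedPowerAlgebra.dp A (d - q) m₂) = 0 :=
    hle hx
  have h1 : lam (DividedPowerAlgebra.dp A q m₁ * DividedPowerAlgebra.dp A (d - q) m₂) = 1 := by
    show Lam κ d (fam κ d ℓ₁ ℓ₂ q) _ - Lam κ d (fam κ d ℓ₁ ℓ₂ 1) _ = 1
    rw [Lam_same κ d ℓ₁ ℓ₂ m₁ m₂ h11 h12 h21 h22 q hq.le,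
      Lam_other κ d ℓ₁ ℓ₂ m₁ m₂ h11 h21 1 q (d - q) hq1 hq2, sub_zero]
  rw [h1] at h0
  exact one_ne_zero h0

end core

end Groth.Agent.Lib.Helper15.GammaLower
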