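import Mathlib
import Groth.Agent.Lib.Helper15.GammaLower

/-!
# A non-cyclic localisation gives two independent residue-field valued linear forms (helper15)
-/

set_option autoImplicit false
universe u
open scoped TensorProduct

namespace Groth.Agent.Lib.Helper15.GammaLower

variable {A M : Type u} [CommRing A] [AddCommGroup M] [Module A M] [Module.Finite A M]

theorem exists_forms (P : Ideal A) [P.IsPrime]
    (hcyc : ∀ x : LocalizedModule P.primeCompl M,
      Submodule.span (Localization.AtPrime P) {x} ≠ ⊤) :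
    ∃ (ℓ₁ ℓ₂ : M →ₗ[A] P.ResidueField) (m₁ m₂ : M),
      ℓ₁ m₁ = 1 ∧ ℓ₁ m₂ = 0 ∧ ℓ₂ m₁ = 0 ∧ ℓ₂ m₂ = 1 := by
  classical
  let R' := Localization.AtPrime P
  let Mp := LocalizedModule P.primeCompl M
  let κ := P.ResidueField
  have hsurj : Function.Surjective (TensorProduct.mk R' κ Mp 1) :=
    TensorProduct.mk_surjective R' Mp κ Ideal.Quotient.mk_surjective
  have hres : Function.Surjective (algebraMap R' κ) := Ideal.Quotient.mk_surjective
  -- `V` is not cyclic
  have hnc : ¬ ∃ v : κ ⊗[R'] Mp, ∀ w : κ ⊗[R'] Mp, ∃ c : κ, c • v = w := by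
    rintro ⟨v, hv⟩
    obtain ⟨x, rfl⟩ := hsurj v
    apply hcyc x
    rw [← IsLocalRing.map_tensorProduct_mk_eq_top (R := R') (M := Mp), eq_top_iff]
    rintro w -
    obtain ⟨c, rfl⟩ := hv w
    obtain ⟨r, rfl⟩ := hres c
    refine ⟨r • x, Submodule.smul_mem _ r (Submodule.mem_span_singleton_self x), ?_⟩
    rw [map_smul, ← algebraMap_smul κ r]
  have hrank : 2 ≤ Module.finrank κ (κ ⊗[R'] Mp) := by
    by_contra hlt
    push Not at hlt
    exact hnc ((finrank_le_one_iff (K := κ) (V := κ ⊗[R'] Mp)).mp (by omega))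
  let b := Module.finBasis κ (κ ⊗[R'] Mp)
  let i0 : Fin (Module.finrank κ (κ ⊗[R'] Mp)) := ⟨0, by omega⟩
  let i1 : Fin (Module.finrank κ (κ ⊗[R'] Mp)) := ⟨1, by omega⟩
  have h01 : i0 ≠ i1 := by
    intro h
    have := congrArg Fin.val h
    simp [i0, i1] at this
  -- the map `M → V`
  let g : M → κ ⊗[R'] Mp := fun m => (1 : κ) ⊗ₜ[R'] (LocalizedModule.mkLinearMap P.primeCompl M m)
  have hg_add : ∀ m m', g (m + m') = g m + g m' := by
    intro m m'
    show (1 : κ) ⊗ₜ[R'] _ = _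
    rw [map_add, TensorProduct.tmul_add]
  have hsm : ∀ (a : A) (y : Mp), (1 : κ) ⊗ₜ[R'] (a • y) = algebraMap A κ a • ((1 : κ) ⊗ₜ[R'] y) := by
    intro a y
    rw [← algebraMap_smul R' a, ← TensorProduct.smul_tmul, TensorProduct.smul_tmul',
      Algebra.smul_def (algebraMap A R' a) (1 : κ), mul_one,
      ← IsScalarTower.algebraMap_apply A R' κ, smul_eq_mul, mul_one]
  have hg_smul : ∀ (a : A) (m : M), g (a • m) = algebraMap A κ a • g m := by
    intro a m
    show (1 : κ) ⊗ₜ[R'] _ = _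
    rw [map_smul, hsm]
  -- lifts of the basis vectors
  have hlift : ∀ i, ∃ (m : M) (σ : κ), σ ≠ 0 ∧ g m = σ • b i := by
    intro i
    obtain ⟨x, hx⟩ := hsurj (b i)
    induction x using LocalizedModule.induction_on with
    | h m s =>
      refine ⟨m, algebraMap A κ (s : A), ?_, ?_⟩
      · intro h0
        rw [IsScalarTower.algebraMap_apply A R' κ] at h0
        have h1 : algebraMap A R' (s : A) ∈ IsLocalRing.maximalIdeal R' :=
          Ideal.Quotient.eq_zero_iff_mem.mp h0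
        exact h1 (IsLocalization.map_units R' s)
      · rw [← hx]
        show (1 : κ) ⊗ₜ[R'] _ = _ • ((1 : κ) ⊗ₜ[R'] _)
        rw [← hsm]
        congr 1
        show LocalizedModule.mk m 1 = (s : A) • LocalizedModule.mk m s
        rw [LocalizedModule.smul'_mk]
        exact (LocalizedModule.mk_cancel s m).symm
  obtain ⟨m₁, σ₁, hσ₁, hm₁⟩ := hlift i0
  obtain ⟨m₂, σ₂, hσ₂, hm₂⟩ := hlift i1
  let mk : (κ ⊗[R'] Mp →ₗ[κ] κ) → (M →ₗ[A] κ) := fun ψ =>
    { toFun := fun m => ψ (g m)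
      map_add' := fun m m' => by rw [hg_add, map_add]
      map_smul' := fun a m => by
        rw [hg_smul, map_smul, RingHom.id_apply, smul_eq_mul, Algebra.smul_def] }
  refine ⟨mk (σ₁⁻¹ • b.coord i0), mk (σ₂⁻¹ • b.coord i1), m₁, m₂, ?_, ?_, ?_, ?_⟩
  · show (σ₁⁻¹ • b.coord i0) (g m₁) = 1
    rw [hm₁, LinearMap.smul_apply, map_smul, Module.Basis.coord_apply, Module.Basis.repr_self,
      Finsupp.single_eq_same, smul_eq_mul, smul_eq_mul, mul_one, inv_mul_cancel₀ hσ₁]
  · show (σ₁⁻¹ • b.coord i0) (g m₂) = 0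
    rw [hm₂, LinearMap.smul_apply, map_smul, Module.Basis.coord_apply, Module.Basis.repr_self,
      Finsupp.single_eq_of_ne h01, smul_zero, smul_zero]
  · show (σ₂⁻¹ • b.coord i1) (g m₁) = 0
    rw [hm₁, LinearMap.smul_apply, map_smul, Module.Basis.coord_apply, Module.Basis.repr_self,
      Finsupp.single_eq_of_ne h01.symm, smul_zero, smul_zero]
  · show (σ₂⁻¹ • b.coord i1) (g m₂) = 1
    rw [hm₂, LinearMap.smul_apply, map_smul, Module.Basis.coord_apply, Module.Basis.repr_self,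
      Finsupp.single_eq_same, smul_eq_mul, smul_eq_mul, mul_one, inv_mul_cancel₀ hσ₂]

end Groth.Agent.Lib.Helper15.GammaLower
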