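import Mathlib
import Groth.Agent.Lib.Helper15.NormLaw
import Groth.Agent.Lib.Helper15.BCFactor
import Groth.Agent.Lib.Helper6.FTPoints

/-!
# `Spec TS^d(B) → Spec Γ^d(B)`: ring-level facts (helper15)
-/

set_option autoImplicit false
universe u
open scoped TensorProduct

namespace Groth.Agent.Lib.Helper15.GammaTSHomeo

open Groth.Agent.Lib.Helper15.TSLaw

variable {A B C : Type u} [CommRing A] [CommRing B] [Algebra A B] [CommRing C] [Algebra A C]
  {d : ℕ} (γ : PolLaw.MulLaw A B C d) (hγ : PolLaw.IsGammaD γ) (φ : C →ₐ[A] SymTen.TS A B d)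
  (hφ : ∀ (S : Type u) [CommSemiring S] [Algebra A S] (n : ℕ) (s : Fin n → S) (b : Fin n → B),
      ((SymTen.TS A B d).val.comp φ).toLinearMap.lTensor S (γ.law.toFun' S (∑ j, s j ⊗ₜ[A] b j)) =
        ∑ c : Fin d → Fin n, (∏ i, s (c i)) ⊗ₜ[A] PiTensorProduct.tprod A (fun i => b (c i)))

include hγ hφ in
/-- every field-valued point of `Γ^d(B)` lifts to `TS^d(B)` -/
theorem exists_lift_field (k : Type u) [Field k] [Algebra A k] (χ : C →ₐ[A] k) :
    ∃ ξ : SymTen.TS A B d →ₐ[A] k, ξ.comp φ = χ := by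
  let F : PolLaw.MulLaw A B k d := PolLaw.MulLaw.postcomp χ γ
  refine ⟨BCFactor.xi k d F, ?_⟩
  obtain ⟨g, -, huniq⟩ := hγ k F
  have e1 : PolLaw.postcomp ((BCFactor.xi k d F).comp φ).toLinearMap γ.law = F.law := by
    ext S _ _ z
    show ((BCFactor.xi k d F).comp φ).toLinearMap.lTensor S (γ.law.toFun' S z) = F.law.toFun' S z
    have h1 : ((BCFactor.xi k d F).comp φ).toLinearMap =
        (BCFactor.xi k d F).toLinearMap ∘ₗ φ.toLinearMap := rfl
    rw [h1, ← NormLaw.lTensor_comp_apply, NormLaw.φ_γ γ φ hφ, BCFactor.xi_ts]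
  have e2 : PolLaw.postcomp χ.toLinearMap γ.law = F.law := rfl
  exact (huniq _ e1).trans (huniq _ e2).symm

end Groth.Agent.Lib.Helper15.GammaTSHomeo
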