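import Mathlib
import Groth.Prelude.Def_PolLaw
import Groth.Prelude.Def_PolLaw2

/-!
# Uniqueness of the divided power algebra `Γ^d_A(B)` (helper15)
-/

set_option autoImplicit false
universe u
open scoped TensorProduct

namespace Groth.Agent.Lib.Helper15.GammaUnique

variable {A : Type u} [CommRing A] {B : Type u} [CommRing B] [Algebra A B]
  {C : Type u} [CommRing C] [Algebra A C] {T : Type u} [CommRing T] [Algebra A T] {d : ℕ}

theorem postcomp_comp {C'' : Type u} [CommRing C''] [Algebra A C'']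
    (γ : PolLaw.MulLaw A B C d) (f : C →ₐ[A] T) (g : T →ₐ[A] C'') :
    PolLaw.postcomp ((g.comp f).toLinearMap) γ.law =
      PolLaw.postcomp g.toLinearMap (PolLaw.postcomp f.toLinearMap γ.law) := by
  ext S _ _ z
  change (g.comp f).toLinearMap.lTensor S (γ.law.toFun' S z) =
    g.toLinearMap.lTensor S (f.toLinearMap.lTensor S (γ.law.toFun' S z))
  rw [← LinearMap.comp_apply, ← LinearMap.lTensor_comp]
  rfl

theorem postcomp_id (γ : PolLaw.MulLaw A B C d) :
    PolLaw.postcomp (AlgHom.id A C).toLinearMap γ.law = γ.law := by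
  ext S _ _ z
  change (AlgHom.id A C).toLinearMap.lTensor S (γ.law.toFun' S z) = _
  have : (AlgHom.id A C).toLinearMap = LinearMap.id := rfl
  rw [this, LinearMap.lTensor_id]
  rfl

/-- two universal pairs are uniquely isomorphic -/
theorem exists_algEquiv (γ : PolLaw.MulLaw A B C d) (hγ : PolLaw.IsGammaD γ)
    (τ : PolLaw.MulLaw A B T d) (hτ : PolLaw.IsGammaD τ) :
    ∃ φ : C ≃ₐ[A] T, PolLaw.postcomp φ.toAlgHom.toLinearMap γ.law = τ.law := by
  obtain ⟨f, hf, -⟩ := hγ T τ
  obtain ⟨g, hg, -⟩ := hτ C γ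
  obtain ⟨_, -, huγ⟩ := hγ C γ
  obtain ⟨_, -, huτ⟩ := hτ T τ
  have h1 : g.comp f = AlgHom.id A C := by
    refine (huγ _ ?_).trans (huγ _ (postcomp_id γ)).symm
    beta_reduce
    rw [postcomp_comp, hf, hg]
  have h2 : f.comp g = AlgHom.id A T := by
    refine (huτ _ ?_).trans (huτ _ (postcomp_id τ)).symm
    beta_reduce
    rw [postcomp_comp, hg, hf]
  exact ⟨AlgEquiv.ofAlgHom f g h2 h1, hf⟩

end Groth.Agent.Lib.Helper15.GammaUnique
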