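import Mathlib

set_option autoImplicit false
set_option linter.style.haveILetI false
universe u v w
open Polynomial

namespace Groth.Agent.Lib.Helper15.GenFP

/-- the localization of a quotient with `a`-power-torsion kernel is the localization of the
source -/
theorem isLocalization_away_of_surjective {A : Type u} {B : Type v} {B' : Type w}
    [CommRing A] [CommRing B] [CommRing B']
    [Algebra A B] [Algebra B B'] [Algebra A B'] [IsScalarTower A B B']
    (hsurj : Function.Surjective (algebraMap A B)) (a : A)
    [IsLocalization.Away (algebraMap A B a) B']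
    (hker : ∀ t, algebraMap A B t = 0 → ∃ k : ℕ, a ^ k * t = 0) :
    IsLocalization.Away a B' := by
  refine IsLocalization.Away.mk a ?_ ?_ ?_
  · rw [IsScalarTower.algebraMap_apply A B B']
    exact IsLocalization.Away.algebraMap_isUnit _
  · intro z
    obtain ⟨n, b, hb⟩ := IsLocalization.Away.surj (algebraMap A B a) z
    obtain ⟨t, rfl⟩ := hsurj b
    refine ⟨n, t, ?_⟩
    rw [IsScalarTower.algebraMap_apply A B B', IsScalarTower.algebraMap_apply A B B' t]
    exact hb
  · intro x y hxy
    rw [IsScalarTower.algebraMap_apply A B B', IsScalarTower.algebraMap_apply A B B' y] at hxy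
    obtain ⟨m, hm⟩ := IsLocalization.Away.exists_of_eq (algebraMap A B a) hxy
    have h0 : algebraMap A B (a ^ m * (x - y)) = 0 := by
      rw [mul_sub, map_sub, map_mul, map_mul, map_pow, hm, sub_self]
    obtain ⟨k, hk⟩ := hker _ h0
    refine ⟨k + m, ?_⟩
    have : a ^ (k + m) * x - a ^ (k + m) * y = a ^ k * (a ^ m * (x - y)) := by ring
    exact sub_eq_zero.1 (this.trans hk)

/-- pseudo-division: in a polynomial ideal `q` whose nonzero elements all have degree at least
`natDegree p`, every element is killed into `(p)` by a power of the leading coefficient. -/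
theorem exists_pow_mul_mem_span {R : Type u} [CommRing R] [IsDomain R] (q : Ideal R[X]) (p : R[X])
    (hp : p ∈ q) (hp0 : p ≠ 0)
    (hmin : ∀ u ∈ q, u ≠ 0 → p.natDegree ≤ u.natDegree) :
    ∀ u ∈ q, ∃ k : ℕ, C p.leadingCoeff ^ k * u ∈ Ideal.span {p} := by
  intro u
  induction h : u.natDegree using Nat.strong_induction_on generalizing u with
  | _ n ih =>
    intro hu
    by_cases hu0 : u = 0
    · exact ⟨0, by simp [hu0]⟩
    have hdeg := hmin u hu hu0
    set a := p.leadingCoeff with ha
    have ha0 : a ≠ 0 := leadingCoeff_ne_zero.2 hp0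
    set w : R[X] := C u.leadingCoeff * X ^ (u.natDegree - p.natDegree) * p with hw
    set u' : R[X] := C a * u - w with hu'
    have hu'q : u' ∈ q := q.sub_mem (q.mul_mem_left _ hu) (q.mul_mem_left _ hp)
    have hlcu : u.leadingCoeff ≠ 0 := leadingCoeff_ne_zero.2 hu0
    have hCau : C a * u ≠ 0 := mul_ne_zero (C_ne_zero.2 ha0) hu0
    have hdw : w.degree = (C a * u).degree := by
      rw [hw, degree_mul, degree_mul, degree_mul, degree_C ha0, degree_C hlcu, degree_X_pow,
        degree_eq_natDegree hp0, degree_eq_natDegree hu0, zero_add, zero_add]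
      norm_cast
      omega
    have hlcw : (C a * u).leadingCoeff = w.leadingCoeff := by
      rw [hw, leadingCoeff_mul, leadingCoeff_mul, leadingCoeff_mul, leadingCoeff_C,
        leadingCoeff_C, leadingCoeff_X_pow, mul_one, mul_comm]
    have hlt : u'.degree < (C a * u).degree := degree_sub_lt_left hdw.symm hCau hlcw
    have hCau_deg : (C a * u).natDegree = u.natDegree := by
      rw [natDegree_mul (C_ne_zero.2 ha0) hu0, natDegree_C, zero_add]
    by_cases hu'0 : u' = 0
    · refine ⟨1, ?_⟩
      rw [pow_one]
      have : C a * u = w := sub_eq_zero.1 hu'0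
      rw [this, hw]
      exact Ideal.mul_mem_left _ _ (Ideal.subset_span rfl)
    have hlt' : u'.natDegree < n := by
      have := natDegree_lt_natDegree hu'0 hlt
      rw [hCau_deg, h] at this
      exact this
    obtain ⟨k, hk⟩ := ih _ hlt' u' rfl hu'q
    refine ⟨k + 1, ?_⟩
    have : C a ^ (k + 1) * u = C a ^ k * u' + C a ^ k * w := by
      rw [hu']; ring
    rw [this]
    refine Ideal.add_mem _ hk (Ideal.mul_mem_left _ _ ?_)
    rw [hw]
    exact Ideal.mul_mem_left _ _ (Ideal.subset_span rfl)

/-- base case: one generator -/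
theorem one_gen {R : Type u} {R₁ : Type v} [CommRing R] [IsDomain R] [CommRing R₁] [IsDomain R₁]
    [Algebra R R₁] (hinj : Function.Injective (algebraMap R R₁)) (x : R₁)
    (hx : Algebra.adjoin R {x} = ⊤) :
    ∃ h : R₁, h ≠ 0 ∧ Algebra.FinitePresentation R (Localization.Away h) := by
  classical
  let φ : R[X] →ₐ[R] R₁ := aeval x
  have hφ : Function.Surjective φ := by
    rw [← AlgHom.range_eq_top, ← Algebra.adjoin_singleton_eq_range_aeval, hx]
  let q : Ideal R[X] := RingHom.ker φ
  by_cases hq : q = ⊥
  · -- polynomial ring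
    have hinjφ : Function.Injective φ := (RingHom.injective_iff_ker_eq_bot φ.toRingHom).2 hq
    have : Algebra.FinitePresentation R R₁ :=
      Algebra.FinitePresentation.equiv (AlgEquiv.ofBijective φ ⟨hinjφ, hφ⟩)
    exact ⟨1, one_ne_zero, inferInstance⟩
  · -- nonzero kernel
    have hne : ∃ p, p ∈ q ∧ p ≠ 0 := by
      by_contra hcon
      push_neg at hcon
      exact hq (eq_bot_iff.2 fun p hp => (Submodule.mem_bot _).2 (hcon p hp))
    have : ∃ n, ∃ p, p ∈ q ∧ p ≠ 0 ∧ p.natDegree = n := by
      obtain ⟨p, hp, hp0⟩ := hne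
      exact ⟨_, p, hp, hp0, rfl⟩
    obtain ⟨p, hp, hp0, hpn⟩ := Nat.find_spec this
    have hmin : ∀ u ∈ q, u ≠ 0 → p.natDegree ≤ u.natDegree := by
      intro u hu hu0
      rw [hpn]
      exact Nat.find_min' this ⟨u, hu, hu0, rfl⟩
    have hdiv := exists_pow_mul_mem_span q p hp hp0 hmin
    set a := p.leadingCoeff with ha
    have ha0 : a ≠ 0 := leadingCoeff_ne_zero.2 hp0
    let T := R[X] ⧸ Ideal.span {p}
    have hTfp : Algebra.FinitePresentation R T :=
      Algebra.FinitePresentation.quotient (Submodule.fg_span_singleton p)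
    let ψ : T →ₐ[R] R₁ := Ideal.Quotient.liftₐ (Ideal.span {p}) φ (by
      intro z hz
      have : Ideal.span {p} ≤ q := (Ideal.span_singleton_le_iff_mem _).2 hp
      exact this hz)
    have hψ : Function.Surjective ψ := by
      intro y
      obtain ⟨u, rfl⟩ := hφ y
      exact ⟨Ideal.Quotient.mk _ u, rfl⟩
    letI : Algebra T R₁ := ψ.toRingHom.toAlgebra
    have htower1 : IsScalarTower R T R₁ := IsScalarTower.of_algebraMap_eq fun r => by
      change algebraMap R R₁ r = ψ (algebraMap R T r)
      rw [AlgHom.commutes]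
    let h : R₁ := algebraMap R R₁ a
    have hh0 : h ≠ 0 := by
      intro h0
      exact ha0 (hinj (h0.trans (map_zero _).symm))
    refine ⟨h, hh0, ?_⟩
    have htower2 : IsScalarTower T R₁ (Localization.Away h) := inferInstance
    have htower3 : IsScalarTower R T (Localization.Away h) := inferInstance
    have hha : algebraMap T R₁ (algebraMap R T a) = h := by
      change ψ (algebraMap R T a) = h
      rw [AlgHom.commutes]
    haveI : IsLocalization.Away (algebraMap T R₁ (algebraMap R T a)) (Localization.Away h) := by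
      rw [hha]; infer_instance
    have hloc : IsLocalization.Away (algebraMap R T a) (Localization.Away h) := by
      apply isLocalization_away_of_surjective (B := R₁) hψ
      intro t ht
      obtain ⟨u, rfl⟩ := Ideal.Quotient.mk_surjective t
      have huq : u ∈ q := ht
      obtain ⟨k, hk⟩ := hdiv u huq
      refine ⟨k, ?_⟩
      have : algebraMap R T a = Ideal.Quotient.mk (Ideal.span {p}) (C a) := rfl
      rw [this, ← map_pow, ← map_mul]
      exact Ideal.Quotient.eq_zero_iff_mem.2 hk
    exact Algebra.FinitePresentation.of_isLocalizationAway (algebraMap R T a)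

theorem step {R : Type u} {R₁ : Type v} {S : Type w} [CommRing R] [CommRing R₁] [CommRing S]
    [Algebra R R₁] [Algebra R₁ S] [Algebra R S] [IsScalarTower R R₁ S] (g : S) (h : R₁)
    [hgfp : Algebra.FinitePresentation R₁ (Localization.Away g)]
    [hhfp : Algebra.FinitePresentation R (Localization.Away h)] :
    Algebra.FinitePresentation R (Localization.Away (g * algebraMap R₁ S h)) := by
  let B := Localization.Away g
  let hb : B := algebraMap S B (algebraMap R₁ S h)
  let D := Localization.Away hb
  let C := Localization.Away h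
  have hD1 : Algebra.FinitePresentation R₁ D :=
    Algebra.FinitePresentation.of_isLocalizationAway (S := B) hb
  have hunit : IsUnit (algebraMap R₁ D h) := by
    have : algebraMap R₁ D h = algebraMap B D hb := by
      rw [IsScalarTower.algebraMap_apply R₁ B D, IsScalarTower.algebraMap_apply R₁ S B]
    rw [this]
    exact IsLocalization.Away.algebraMap_isUnit hb
  letI : Algebra C D := (IsLocalization.Away.lift h hunit).toAlgebra
  have htower1 : IsScalarTower R₁ C D := IsScalarTower.of_algebraMap_eq fun r => by
    change _ = IsLocalization.Away.lift h hunit (algebraMap R₁ C r)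
    rw [IsLocalization.Away.lift_eq]
  have hD2 : Algebra.FinitePresentation C D :=
    Algebra.FinitePresentation.of_restrict_scalars_finitePresentation (R := R₁) (A := C) (B := D)
  have htower2 : IsScalarTower R C D := IsScalarTower.of_algebraMap_eq fun r => by
    rw [IsScalarTower.algebraMap_apply R R₁ C, ← IsScalarTower.algebraMap_apply R₁ C D,
      ← IsScalarTower.algebraMap_apply R R₁ D]
  have hD3 : Algebra.FinitePresentation R D := Algebra.FinitePresentation.trans R C D
  have hloc : IsLocalization.Away (g * algebraMap R₁ S h) D := inferInstance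
  let e : D ≃ₐ[S] Localization.Away (g * algebraMap R₁ S h) :=
    IsLocalization.algEquiv (Submonoid.powers (g * algebraMap R₁ S h)) D _
  exact Algebra.FinitePresentation.equiv (e.restrictScalars R)

theorem main_aux (n : ℕ) : ∀ (R S : Type u) [CommRing R] [IsDomain R] [CommRing S] [IsDomain S]
    [Algebra R S], Function.Injective (algebraMap R S) → ∀ (v : Fin n → S),
    Algebra.adjoin R (Set.range v) = ⊤ →
    ∃ g : S, g ≠ 0 ∧ Algebra.FinitePresentation R (Localization.Away g) := by
  induction n with
  | zero =>
    intro R S _ _ _ _ _ hinj v hv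
    have hsurj : Function.Surjective (algebraMap R S) := by
      have : Set.range v = ∅ := Set.range_eq_empty v
      rw [this, Algebra.adjoin_empty] at hv
      exact Algebra.surjective_algebraMap_iff.2 hv.symm
    have : Algebra.FinitePresentation R S :=
      Algebra.FinitePresentation.equiv (AlgEquiv.ofBijective (Algebra.ofId R S) ⟨hinj, hsurj⟩)
    exact ⟨1, one_ne_zero, inferInstance⟩
  | succ n ih =>
    intro R S _ _ _ _ _ hinj v hv
    obtain ⟨x, hx⟩ : ∃ x : S, x = v 0 := ⟨_, rfl⟩
    obtain ⟨R₁, hR₁⟩ : ∃ R₁ : Subalgebra R S, R₁ = Algebra.adjoin R {x} := ⟨_, rfl⟩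
    have hxR₁ : x ∈ R₁ := hR₁ ▸ Algebra.subset_adjoin rfl
    have hinj2 : Function.Injective (algebraMap R₁ S) := Subtype.val_injective
    have hinj1 : Function.Injective (algebraMap R R₁) := by
      intro a b hab
      apply hinj
      rw [IsScalarTower.algebraMap_apply R R₁ S, hab, ← IsScalarTower.algebraMap_apply R R₁ S]
    have hgen : Algebra.adjoin R₁ (Set.range (Fin.tail v)) = ⊤ := by
      rw [Fin.range_fin_succ, Set.insert_eq, Algebra.adjoin_union_eq_adjoin_adjoin, ← hx,
        ← hR₁] at hv
      rw [eq_top_iff]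
      intro y _
      have : y ∈ (Algebra.adjoin R₁ (Set.range (Fin.tail v))).restrictScalars R := by
        rw [hv]; trivial
      exact this
    obtain ⟨g, hg0, hgfp⟩ := ih R₁ S hinj2 (Fin.tail v) hgen
    have hx1 : Algebra.adjoin R {(⟨x, hxR₁⟩ : R₁)} = ⊤ := by
      rw [eq_top_iff]
      rintro ⟨y, hy⟩ _
      have hy' : y ∈ Algebra.adjoin R {x} := hR₁ ▸ hy
      rw [Algebra.adjoin_singleton_eq_range_aeval] at hy'
      obtain ⟨q, rfl⟩ := hy'
      rw [Algebra.adjoin_singleton_eq_range_aeval]
      refine ⟨q, Subtype.ext ?_⟩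
      change ((aeval (⟨x, hxR₁⟩ : R₁) q : R₁) : S) = aeval x q
      rw [← Subalgebra.coe_val, ← aeval_algHom_apply]
      rfl
    obtain ⟨h, hh0, hhfp⟩ := one_gen hinj1 (⟨x, hxR₁⟩ : R₁) hx1
    have hh0' : (h : S) ≠ 0 := fun h0 => hh0 (Subtype.ext h0)
    refine ⟨g * (h : S), mul_ne_zero hg0 hh0', ?_⟩
    exact step (R := R) (R₁ := R₁) (S := S) g h

theorem main {R S : Type u} [CommRing R] [IsDomain R] [CommRing S] [IsDomain S]
    [Algebra R S] [Algebra.FiniteType R S] (hinj : Function.Injective (algebraMap R S)) :
    ∃ g : S, g ≠ 0 ∧ Algebra.FinitePresentation R (Localization.Away g) := by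
  obtain ⟨s, hs⟩ := (Algebra.FiniteType.out : (⊤ : Subalgebra R S).FG)
  classical
  let e := s.equivFin
  refine main_aux s.card R S hinj (fun i => (e.symm i : S)) ?_
  rw [← hs]
  congr 1
  ext y
  constructor
  · rintro ⟨i, rfl⟩
    exact (e.symm i).2
  · intro hy
    exact ⟨e ⟨y, hy⟩, by simp⟩

end Groth.Agent.Lib.Helper15.GenFP
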