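import Mathlib
import Groth.Agent.Lib.Helper15.PolLawGeneric
import Groth.Agent.Lib.Helper15.AltSpanDet

/-!
# The generic norm identity (helper15)

For a free `R`-algebra `B` with basis `b` indexed by `Fin d`, and `p : Fin d → B`:
`∑_K (∏_j X_{K j}) · det(b_{K j} p_j) = N(∑ X_i ⊗ b_i) · det(p)` in `R[X_1..X_d]`.
-/

set_option autoImplicit false
universe u
open scoped TensorProduct
open MvPolynomial

namespace Groth.Agent.Lib.Helper15.GenericNorm

open Groth.Agent.Lib.Helper15.PolLawGeneric

variable {R : Type u} [CommRing R] {B : Type u} [CommRing B] [Algebra R B] {d : ℕ}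
  (b : Module.Basis (Fin d) R B)

/-- determinant of constant vectors in the base-changed basis -/
theorem basis_det_one_tmul (S : Type u) [CommRing S] [Algebra R S] (p : Fin d → B) :
    (Algebra.TensorProduct.basis S b).det (fun j => (1 : S) ⊗ₜ[R] p j) =
      algebraMap R S (b.det p) := by
  rw [Module.Basis.det_apply, Module.Basis.det_apply, RingHom.map_det]
  congr 1
  ext i j
  rw [Module.Basis.toMatrix_apply, RingHom.mapMatrix_apply, Matrix.map_apply,
    Module.Basis.toMatrix_apply, Algebra.TensorProduct.basis_repr_tmul]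
  simp [Algebra.smul_def]

theorem gen_mul_one_tmul (m : B) :
    gen b * ((1 : MvPolynomial (Fin d) R) ⊗ₜ[R] m) =
      ∑ i, (X i : MvPolynomial (Fin d) R) • ((1 : MvPolynomial (Fin d) R) ⊗ₜ[R] (b i * m)) := by
  unfold gen
  rw [Finset.sum_mul]
  refine Finset.sum_congr rfl fun i _ => ?_
  rw [Algebra.TensorProduct.tmul_mul_tmul, mul_one, TensorProduct.smul_tmul', smul_eq_mul, mul_one]

/-- **the generic norm identity** -/
theorem generic_norm_identity (p : Fin d → B) :
    ∑ K : Fin d → Fin d, (∏ j, (X (K j) : MvPolynomial (Fin d) R)) *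
        C (b.det (fun j => b (K j) * p j)) =
      Algebra.norm (MvPolynomial (Fin d) R) (gen b) * C (b.det p) := by
  classical
  set P := MvPolynomial (Fin d) R
  set bP := Algebra.TensorProduct.basis P b
  have h1 : bP.det (fun j => gen b * ((1 : P) ⊗ₜ[R] p j)) =
      Algebra.norm P (gen b) * C (b.det p) := by
    have : (fun j => gen b * ((1 : P) ⊗ₜ[R] p j)) =
        (Algebra.lmul P (P ⊗[R] B) (gen b)) ∘ (fun j => (1 : P) ⊗ₜ[R] p j) := by
      funext j; rfl
    rw [this, Module.Basis.det_comp, basis_det_one_tmul, Algebra.norm_apply]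
    rfl
  rw [← h1]
  have h2 : (fun j => gen b * ((1 : P) ⊗ₜ[R] p j)) =
      fun j => ∑ i, (X i : P) • ((1 : P) ⊗ₜ[R] (b i * p j)) := by
    funext j; exact gen_mul_one_tmul b (p j)
  rw [h2]
  have h3 := (bP.det.toMultilinearMap).map_sum
    (fun (j : Fin d) (i : Fin d) => (X i : P) • ((1 : P) ⊗ₜ[R] (b i * p j)))
  rw [AlternatingMap.coe_multilinearMap] at h3
  rw [h3]
  refine Finset.sum_congr rfl fun K _ => ?_
  have h4 := (bP.det.toMultilinearMap).map_smul_univ (fun j => (X (K j) : P))
    (fun j => ((1 : P) ⊗ₜ[R] (b (K j) * p j)))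
  rw [AlternatingMap.coe_multilinearMap] at h4
  rw [h4, smul_eq_mul, basis_det_one_tmul]
  rfl

end Groth.Agent.Lib.Helper15.GenericNorm
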