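import Mathlib
import Groth.Prelude.Def_FlatCA
import Groth.Agent.Lib.Helper26.FiberAss
import Groth.Agent.Lib.Helper15.UnivInjCompl

/-!
# A flat algebra with geometrically integral fibres is universally pure (affine form)
-/

set_option autoImplicit false
set_option linter.style.haveILetI false
set_option linter.unusedSectionVars false
set_option linter.style.longLine false
universe u

open TensorProduct

namespace Groth.Agent.Lib.Helper15.GeomIntPure

open Groth.Agent.Lib.Helper26 Groth.Agent.Lib.Helper15

attribute [local instance] Algebra.TensorProduct.rightAlgebra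

/-- the fibre rings of a base change of an algebra with geometrically integral fibres are domains -/
theorem isDomain_fiber {A B A' B' : Type u} [CommRing A] [CommRing B] [CommRing A'] [CommRing B']
    [Algebra A B] [Algebra A A'] [Algebra B B'] [Algebra A' B'] [Algebra A B']
    [IsScalarTower A B B'] [IsScalarTower A A' B'] (hpo : Algebra.IsPushout A B A' B')
    (h : FlatCA.GeomIntegralFibres A B) (t : Ideal A') [t.IsPrime] :
    IsDomain (t.Fiber B') := by
  haveI := UnivInjCompl.isDomain_tensor_of_geomIntegralFibres A B h t.ResidueField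
  haveI := hpo
  let e1 : B' ⊗[A'] t.ResidueField ≃ₐ[B] B ⊗[A] t.ResidueField :=
    Algebra.IsPushout.cancelBaseChangeAlg A B A' B' t.ResidueField
  let e2 : t.ResidueField ⊗[A'] B' ≃ₐ[A'] B' ⊗[A'] t.ResidueField :=
    Algebra.TensorProduct.comm A' t.ResidueField B'
  exact MulEquiv.isDomain (B ⊗[A] t.ResidueField) (e2.toRingEquiv.trans e1.toRingEquiv).toMulEquiv

theorem main1223 {A B : Type u} [CommRing A] [CommRing B] [Algebra A B] [Module.Flat A B]
    (h : FlatCA.GeomIntegralFibres A B) : FlatCA.IsUnivPure A B B := by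
  intro p _ A' B' N' _ _ _ _ _ _ _ _ _ _ _ _ _ _ f t' t _ _ P _ himp
  obtain ⟨hpo, hbc, hle, hlo, hPlo, hass, hcl⟩ := himp
  haveI hD' : IsDomain (t'.Fiber B') := isDomain_fiber hpo h t'
  haveI hD : IsDomain (t.Fiber B') := isDomain_fiber hpo h t
  haveI : Module.Flat A' B' :=
    Module.Flat.isBaseChange (R := A) (S := A') (M := B) (N := B') hpo.symm.out
  -- `N' ≃ B'`
  let e0 : N' ≃ₗ[B'] B' := hbc.equiv.symm ≪≫ₗ TensorProduct.AlgebraTensorModule.rid B B' B'
  let e : FlatCA.fiberMod t' B' N' ≃ₗ[t'.Fiber B'] t'.Fiber B' :=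
    (TensorProduct.AlgebraTensorModule.congr (LinearEquiv.refl (t'.Fiber B') (t'.Fiber B')) e0) ≪≫ₗ
      TensorProduct.AlgebraTensorModule.rid B' (t'.Fiber B') (t'.Fiber B')
  -- every element of `P` dies in the fibre over `t'`
  obtain ⟨hprime, m, hm⟩ := hass
  have hm0 : m ≠ 0 := by
    rintro rfl
    apply hprime.ne_top
    rw [hm, Ideal.radical_eq_top, Ideal.eq_top_iff_one, Submodule.mem_colon_singleton, smul_zero]
    exact Submodule.zero_mem _
  have hPzero : ∀ g ∈ P, (Algebra.TensorProduct.includeRight (R := A') (A := t'.ResidueField)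
      (B := B') g : t'.Fiber B') = 0 := by
    intro g hg
    have hgm : (Algebra.TensorProduct.includeRight (R := A') (A := t'.ResidueField) (B := B') g :
        t'.Fiber B') ∈ FlatCA.fiberIdeal t' P := Ideal.mem_map_of_mem _ hg
    rw [hm] at hgm
    obtain ⟨n, hn⟩ := Ideal.mem_radical_iff.1 hgm
    rw [Submodule.mem_colon_singleton, Submodule.mem_bot] at hn
    have h1 := congrArg e hn
    rw [map_smul, map_zero, smul_eq_mul] at h1
    have h2 : e m ≠ 0 := fun h => hm0 (e.injective (by rw [h, map_zero]))
    exact pow_eq_zero_iff (M₀ := t'.Fiber B') (n := n) (by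
      rintro rfl
      rw [pow_zero, one_mul] at h1
      exact h2 h1) |>.1 ((mul_eq_zero.1 h1).resolve_right h2)
  -- hence `P ⊆ t'B'`
  have hPle : P ≤ t'.map (algebraMap A' B') := by
    intro g hg
    have h1 := hPzero g hg
    have h2 : g ⊗ₜ[A'] (1 : t'.ResidueField) = 0 := by
      have := congrArg (TensorProduct.comm A' t'.ResidueField B') h1
      simpa using this
    obtain ⟨r, hr, hrg⟩ := (FiberAss.tmul_one_eq_zero_iff t' B' g).1 h2
    have h3 := FiberAss.mem_smul_top_of_smul_mem_of_flat t' hr g hrg
    rw [← FiberAss.mem_map_smul_top_iff (S := B') t' B' g] at h3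
    simpa using h3
  -- the generic point of the fibre over `t`
  let φ : B' →+* t.Fiber B' :=
    (Algebra.TensorProduct.includeRight (R := A') (A := t.ResidueField) (B := B')).toRingHom
  haveI hP' : (RingHom.ker φ).IsPrime := RingHom.ker_isPrime φ
  have hφt : ∀ a : A', φ (algebraMap A' B' a) = 0 ↔ a ∈ t := by
    intro a
    have h1 : φ (algebraMap A' B' a) =
        algebraMap t.ResidueField (t.Fiber B') (algebraMap A' t.ResidueField a) := by
      show (1 : t.ResidueField) ⊗ₜ[A'] (algebraMap A' B' a) = _
      rw [Algebra.TensorProduct.algebraMap_apply, Algebra.algebraMap_eq_smul_one,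
        Algebra.algebraMap_eq_smul_one (A := t.ResidueField), TensorProduct.tmul_smul,
        TensorProduct.smul_tmul']
      rw [Algebra.smul_def, mul_one, smul_eq_mul, mul_one]
    rw [h1, map_eq_zero_iff _ (algebraMap t.ResidueField (t.Fiber B')).injective,
      Ideal.algebraMap_residueField_eq_zero]
  have hle' : P ≤ RingHom.ker φ := fun g hg => by
    have h1 := Ideal.map_mono hle (hPle hg)
    exact (Ideal.map_le_iff_le_comap.2 (fun a ha => by
      rw [Ideal.mem_comap, RingHom.mem_ker]; exact (hφt a).2 ha)) h1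
  refine hcl (RingHom.ker φ) hle' ⟨?_⟩
  ext a
  rw [Ideal.under_def, Ideal.mem_comap, RingHom.mem_ker, hφt]

end Groth.Agent.Lib.Helper15.GeomIntPure
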