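import Mathlib
import Groth.Agent.Lib.Helper6.AlgClosedTensor
import Groth.Agent.Lib.Helper15.GeomIrrSep

set_option autoImplicit false
set_option linter.style.haveILetI false

open Polynomial TensorProduct

namespace Groth.Agent.Lib.Helper15.GeomIrrRatFunc

section core
variable {k K kt Kt L : Type*} [Field k] [Field K] [Algebra k K] [Field kt] [Field Kt]
  [Algebra k[X] kt] [IsFractionRing k[X] kt] [Algebra K[X] Kt] [IsFractionRing K[X] Kt]
  [Algebra kt Kt]
  [Field L] [Algebra kt L] [Algebra k L]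

/-- the element `t ⊗ 1` of `L ⊗[k] K`. -/
noncomputable def tA (k K kt L : Type*) [Field k] [Field K] [Algebra k K] [Field kt]
    [Algebra k[X] kt] [Field L] [Algebra kt L] [Algebra k L] : L ⊗[k] K :=
  (algebraMap kt L (algebraMap k[X] kt X)) ⊗ₜ[k] (1 : K)

/-- `K[X] → L ⊗[k] K`. -/
noncomputable def iota (k K kt L : Type*) [Field k] [Field K] [Algebra k K] [Field kt]
    [Algebra k[X] kt] [Field L] [Algebra kt L] [Algebra k L] : K[X] →+* L ⊗[k] K :=
  eval₂RingHom (Algebra.TensorProduct.includeRight : K →ₐ[k] L ⊗[k] K).toRingHom (tA k K kt L)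

theorem iota_C (c : K) : iota k K kt L (C c) = (1 : L) ⊗ₜ[k] c := by
  simp [iota]

theorem iota_X : iota k K kt L X = tA k K kt L := by
  simp [iota]

variable (hkL : ∀ c : k, algebraMap k L c = algebraMap kt L (algebraMap k[X] kt (C c)))

include hkL in
theorem iota_map (p : k[X]) :
    iota k K kt L (p.map (algebraMap k K)) = (algebraMap kt L (algebraMap k[X] kt p)) ⊗ₜ[k] (1 : K) := by
  have h : (iota k K kt L).comp (mapRingHom (algebraMap k K)) =
      (Algebra.TensorProduct.includeLeftRingHom : L →+* L ⊗[k] K).comp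
        ((algebraMap kt L).comp (algebraMap k[X] kt)) := by
    apply Polynomial.ringHom_ext
    · intro c
      simp only [RingHom.comp_apply, coe_mapRingHom, map_C, iota_C,
        Algebra.TensorProduct.includeLeftRingHom_apply, ← hkL]
      rw [Algebra.algebraMap_eq_smul_one, Algebra.algebraMap_eq_smul_one, TensorProduct.tmul_smul,
        TensorProduct.smul_tmul']
    · simp only [RingHom.comp_apply, coe_mapRingHom, map_X, iota_X,
        Algebra.TensorProduct.includeLeftRingHom_apply]
      rfl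
  exact RingHom.congr_fun h p

include hkL in
theorem iota_injective : Function.Injective (iota k K kt L) := by
  let jL : k[X] →ₐ[k] L :=
    { ((algebraMap kt L).comp (algebraMap k[X] kt)) with
      commutes' := fun c => (hkL c).symm }
  have hjL : Function.Injective jL := by
    show Function.Injective ((algebraMap kt L).comp (algebraMap k[X] kt))
    exact (algebraMap kt L).injective.comp (IsFractionRing.injective k[X] kt)
  have h1 : Function.Injective (Algebra.TensorProduct.map (AlgHom.id k K) jL) :=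
    Module.Flat.lTensor_preserves_injective_linearMap (M := K) jL.toLinearMap hjL
  let J : K ⊗[k] k[X] →ₐ[k] L ⊗[k] K :=
    (Algebra.TensorProduct.comm k K L).toAlgHom.comp (Algebra.TensorProduct.map (AlgHom.id k K) jL)
  have hJ : Function.Injective J := (Algebra.TensorProduct.comm k K L).injective.comp h1
  have h : iota k K kt L = (J : K ⊗[k] k[X] →+* L ⊗[k] K).comp
      (polyEquivTensor k K : K[X] →+* K ⊗[k] k[X]) := by
    apply Polynomial.ringHom_ext
    · intro c
      simp [iota_C, J]
    · simp [iota_X, J, jL, tA]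
  rw [h]
  exact hJ.comp (polyEquivTensor k K).injective

include hkL in
theorem core
    (hcompat : ∀ p : k[X], algebraMap kt Kt (algebraMap k[X] kt p) =
      algebraMap K[X] Kt (p.map (algebraMap k K)))
    (hirr : IrreducibleSpace (PrimeSpectrum (L ⊗[k] K))) :
    IrreducibleSpace (PrimeSpectrum (L ⊗[kt] Kt)) := by
  rw [PrimeSpectrum.irreducibleSpace_iff_isPrime_nilradical] at hirr
  set N := nilradical (L ⊗[k] K) with hN
  haveI : N.IsPrime := hirr
  let Abar := (L ⊗[k] K) ⧸ N
  let F := FractionRing Abar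
  let π : L ⊗[k] K →+* F := (algebraMap Abar F).comp (Ideal.Quotient.mk N)
  have hπ : ∀ a, π a = 0 ↔ IsNilpotent a := by
    intro a
    show algebraMap Abar F (Ideal.Quotient.mk N a) = 0 ↔ _
    rw [map_eq_zero_iff _ (IsFractionRing.injective Abar F), Ideal.Quotient.eq_zero_iff_mem, hN,
      mem_nilradical]
  let g : K[X] →+* F := π.comp (iota k K kt L)
  have hg : ∀ q : nonZeroDivisors K[X], IsUnit (g q) := by
    intro q
    rw [isUnit_iff_ne_zero]
    intro h0
    have h1 : IsNilpotent (iota k K kt L q) := (hπ _).mp h0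
    obtain ⟨n, hn⟩ := h1
    rw [← map_pow] at hn
    have h2 : (q : K[X]) ^ n = 0 :=
      iota_injective hkL (by rw [hn, map_zero])
    exact nonZeroDivisors.coe_ne_zero q (IsReduced.eq_zero _ ⟨n, h2⟩)
  let ψK : Kt →+* F := IsLocalization.lift (M := nonZeroDivisors K[X]) hg
  have hψK : ∀ p : K[X], ψK (algebraMap K[X] Kt p) = g p := fun p => IsLocalization.lift_eq hg p
  let ψL : L →+* F := π.comp Algebra.TensorProduct.includeLeftRingHom
  letI algF : Algebra kt F := (ψL.comp (algebraMap kt L)).toAlgebra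
  let ψL' : L →ₐ[kt] F := { ψL with commutes' := fun r => rfl }
  have hcomm : ∀ r : kt, ψK (algebraMap kt Kt r) = ψL (algebraMap kt L r) := by
    have h : ψK.comp (algebraMap kt Kt) = ψL.comp (algebraMap kt L) := by
      apply IsLocalization.ringHom_ext (nonZeroDivisors k[X])
      ext p
      · simp only [RingHom.comp_apply]
        rw [hcompat, hψK]
        show π (iota k K kt L _) = π _
        rw [iota_map hkL]
        rfl
      · simp only [RingHom.comp_apply]
        rw [hcompat, hψK]
        show π (iota k K kt L _) = π _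
        rw [iota_map hkL]
        rfl
    exact fun r => RingHom.congr_fun h r
  let ψK' : Kt →ₐ[kt] F := { ψK with commutes' := hcomm }
  let χ : L ⊗[kt] Kt →ₐ[kt] F := Algebra.TensorProduct.productMap ψL' ψK'
  letI algB : Algebra k (L ⊗[kt] Kt) :=
    ((Algebra.TensorProduct.includeLeftRingHom : L →+* L ⊗[kt] Kt).comp (algebraMap k L)).toAlgebra
  let fL : L →ₐ[k] L ⊗[kt] Kt :=
    { (Algebra.TensorProduct.includeLeftRingHom : L →+* L ⊗[kt] Kt) with commutes' := fun r => rfl }
  have hfKc : ∀ c : k, (1 : L) ⊗ₜ[kt] (algebraMap K[X] Kt (C (algebraMap k K c))) =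
      (algebraMap k L c) ⊗ₜ[kt] (1 : Kt) := by
    intro c
    rw [hkL, ← Polynomial.map_C, ← hcompat, Algebra.algebraMap_eq_smul_one,
      Algebra.algebraMap_eq_smul_one (A := L), TensorProduct.tmul_smul, TensorProduct.smul_tmul']
  let fK : K →ₐ[k] L ⊗[kt] Kt :=
    { ((Algebra.TensorProduct.includeRight : Kt →ₐ[kt] L ⊗[kt] Kt).toRingHom.comp
        ((algebraMap K[X] Kt).comp C)) with
      commutes' := fun c => hfKc c }
  let φ : L ⊗[k] K →ₐ[k] L ⊗[kt] Kt := Algebra.TensorProduct.productMap fL fK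
  have hφtmul : ∀ (l : L) (c : K), φ (l ⊗ₜ c) = l ⊗ₜ[kt] (algebraMap K[X] Kt (C c)) := by
    intro l c
    show Algebra.TensorProduct.productMap fL fK (l ⊗ₜ c) = _
    rw [Algebra.TensorProduct.productMap_apply_tmul]
    show (l ⊗ₜ[kt] (1 : Kt)) * ((1 : L) ⊗ₜ[kt] (algebraMap K[X] Kt (C c))) = _
    rw [Algebra.TensorProduct.tmul_mul_tmul, mul_one, one_mul]
  have hφι : ∀ p : K[X], φ (iota k K kt L p) = (1 : L) ⊗ₜ[kt] (algebraMap K[X] Kt p) := by
    have h : (φ : L ⊗[k] K →+* L ⊗[kt] Kt).comp (iota k K kt L) =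
        (Algebra.TensorProduct.includeRight : Kt →ₐ[kt] L ⊗[kt] Kt).toRingHom.comp
          (algebraMap K[X] Kt) := by
      apply Polynomial.ringHom_ext
      · intro c
        simp only [RingHom.comp_apply, iota_C]
        exact hφtmul 1 c
      · simp only [RingHom.comp_apply, iota_X]
        show φ ((algebraMap kt L (algebraMap k[X] kt X)) ⊗ₜ[k] (1 : K)) =
          (1 : L) ⊗ₜ[kt] (algebraMap K[X] Kt X)
        rw [hφtmul, map_one C, map_one (algebraMap K[X] Kt)]
        have := hcompat X
        rw [Polynomial.map_X] at this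
        rw [← this, Algebra.algebraMap_eq_smul_one (R := kt) (A := L),
          Algebra.algebraMap_eq_smul_one (R := kt) (A := Kt),
          TensorProduct.tmul_smul, TensorProduct.smul_tmul']
    exact fun p => RingHom.congr_fun h p
  have hχφ : ∀ a, χ (φ a) = π a := by
    intro a
    induction a using TensorProduct.induction_on with
    | zero => simp
    | tmul l c =>
      rw [hφtmul]
      show Algebra.TensorProduct.productMap ψL' ψK' _ = _
      rw [Algebra.TensorProduct.productMap_apply_tmul]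
      show ψL l * ψK (algebraMap K[X] Kt (C c)) = _
      rw [hψK]
      show π (l ⊗ₜ 1) * π (iota k K kt L (C c)) = _
      rw [iota_C, ← map_mul, Algebra.TensorProduct.tmul_mul_tmul, mul_one, one_mul]
    | add x y hx hy => rw [map_add, map_add, map_add, hx, hy]
  have hrep : ∀ b : L ⊗[kt] Kt, ∃ (a : L ⊗[k] K) (q : K[X]), q ≠ 0 ∧
      b * ((1 : L) ⊗ₜ[kt] (algebraMap K[X] Kt q)) = φ a := by
    intro b
    induction b using TensorProduct.induction_on with
    | zero => exact ⟨0, 1, one_ne_zero, by simp⟩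
    | tmul l y =>
      obtain ⟨p, q, hq, rfl⟩ := IsFractionRing.div_surjective (A := K[X]) y
      refine ⟨(l ⊗ₜ 1) * iota k K kt L p, q, nonZeroDivisors.ne_zero hq, ?_⟩
      have hφl : φ (l ⊗ₜ 1) = l ⊗ₜ[kt] (1 : Kt) := by rw [hφtmul, map_one, map_one]
      rw [map_mul φ, hφι, hφl, Algebra.TensorProduct.tmul_mul_tmul,
        Algebra.TensorProduct.tmul_mul_tmul, mul_one, one_mul,
        div_mul_cancel₀]
      exact (map_ne_zero_iff _ (IsFractionRing.injective K[X] Kt)).mpr
        (nonZeroDivisors.ne_zero hq)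
    | add x y hx hy =>
      obtain ⟨a₁, q₁, hq₁, h₁⟩ := hx
      obtain ⟨a₂, q₂, hq₂, h₂⟩ := hy
      refine ⟨a₁ * iota k K kt L q₂ + a₂ * iota k K kt L q₁, q₁ * q₂, mul_ne_zero hq₁ hq₂, ?_⟩
      have e1 : φ (a₁ * iota k K kt L q₂ + a₂ * iota k K kt L q₁) =
          φ a₁ * ((1 : L) ⊗ₜ[kt] algebraMap K[X] Kt q₂) +
            φ a₂ * ((1 : L) ⊗ₜ[kt] algebraMap K[X] Kt q₁) := by
        rw [map_add, map_mul φ, map_mul φ, hφι, hφι]
      rw [e1, ← h₁, ← h₂, map_mul (algebraMap K[X] Kt)]
      have : (1 : L) ⊗ₜ[kt] (algebraMap K[X] Kt q₁ * algebraMap K[X] Kt q₂) =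
          ((1 : L) ⊗ₜ[kt] algebraMap K[X] Kt q₁) * ((1 : L) ⊗ₜ[kt] algebraMap K[X] Kt q₂) := by
        rw [Algebra.TensorProduct.tmul_mul_tmul, one_mul]
      rw [this]
      ring
  apply Groth.Agent.Lib.Helper6.irreducibleSpace_of_surjective_of_ker_le_nilradical χ.toRingHom
  intro b hb
  have hb' : χ b = 0 := hb
  obtain ⟨a, q, hq, hbq⟩ := hrep b
  have h1 : π a = 0 := by rw [← hχφ, ← hbq, map_mul, hb', zero_mul]
  obtain ⟨n, hn⟩ := (hπ a).mp h1
  have hu : IsUnit ((1 : L) ⊗ₜ[kt] (algebraMap K[X] Kt q)) := by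
    have : IsUnit (algebraMap K[X] Kt q) :=
      isUnit_iff_ne_zero.mpr ((map_ne_zero_iff _ (IsFractionRing.injective K[X] Kt)).mpr hq)
    exact this.map (Algebra.TensorProduct.includeRight : Kt →ₐ[kt] L ⊗[kt] Kt)
  rw [mem_nilradical]
  refine ⟨n, ?_⟩
  have h2 : (b * ((1 : L) ⊗ₜ[kt] (algebraMap K[X] Kt q))) ^ n = 0 := by
    rw [hbq, ← map_pow, hn, map_zero]
  rw [mul_pow] at h2
  exact (hu.pow n).mul_left_eq_zero.mp h2

end core

section sep
variable {k K kt Kt : Type*} [Field k] [Field K] [Algebra k K] [Field kt] [Field Kt]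
  [Algebra k[X] kt] [IsFractionRing k[X] kt] [Algebra K[X] Kt] [IsFractionRing K[X] Kt]
  [Algebra kt Kt]

theorem sep_of_Kt
    (hcompat : ∀ p : k[X], algebraMap kt Kt (algebraMap k[X] kt p) =
      algebraMap K[X] Kt (p.map (algebraMap k K)))
    (H : ∀ β : Kt, IsSeparable kt β → β ∈ Set.range (algebraMap kt Kt))
    (α : K) (hα : IsSeparable k α) : α ∈ Set.range (algebraMap k K) := by
  let σ : k →+* kt := (algebraMap k[X] kt).comp C
  let τ : K →+* Kt := (algebraMap K[X] Kt).comp C
  have hστ : (algebraMap kt Kt).comp σ = τ.comp (algebraMap k K) := by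
    ext c
    show algebraMap kt Kt (algebraMap k[X] kt (C c)) = algebraMap K[X] Kt (C (algebraMap k K c))
    rw [hcompat, Polynomial.map_C]
  set f := minpoly k α with hf
  have hroot : aeval (τ α) (f.map σ) = 0 := by
    rw [aeval_def, eval₂_map, hστ, ← Polynomial.hom_eval₂, ← aeval_def, minpoly.aeval, map_zero]
  have hsep : IsSeparable kt (τ α) :=
    (Separable.map (f := σ) hα).of_dvd (minpoly.dvd kt (τ α) hroot)
  obtain ⟨r, hr⟩ := H _ hsep
  obtain ⟨p, q, hq, rfl⟩ := IsFractionRing.div_surjective (A := k[X]) r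
  have hq0 : q ≠ 0 := nonZeroDivisors.ne_zero hq
  have hq1 : algebraMap kt Kt (algebraMap k[X] kt q) ≠ 0 := by
    rw [Ne, map_eq_zero_iff _ (algebraMap kt Kt).injective,
      map_eq_zero_iff _ (IsFractionRing.injective k[X] kt)]
    exact hq0
  have h1 : algebraMap K[X] Kt (C α * q.map (algebraMap k K)) =
      algebraMap K[X] Kt (p.map (algebraMap k K)) := by
    rw [map_mul, ← hcompat, ← hcompat]
    have : τ α = algebraMap K[X] Kt (C α) := rfl
    rw [← this, ← hr, map_div₀, div_mul_cancel₀ _ hq1]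
  have h2 : C α * q.map (algebraMap k K) = p.map (algebraMap k K) :=
    IsFractionRing.injective K[X] Kt h1
  have h3 := congrArg Polynomial.leadingCoeff h2
  rw [leadingCoeff_mul, leadingCoeff_C, leadingCoeff_map, leadingCoeff_map] at h3
  have hlc : algebraMap k K q.leadingCoeff ≠ 0 := by
    rw [Ne, map_eq_zero_iff _ (algebraMap k K).injective, leadingCoeff_eq_zero]
    exact hq0
  refine ⟨p.leadingCoeff / q.leadingCoeff, ?_⟩
  rw [map_div₀, ← h3, mul_div_cancel_right₀ _ hlc]

end sep

section main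
universe u
variable {k K : Type u} [Field k] [Field K] [Algebra k K]

theorem main (kt Kt : Type u) [Field kt] [Field Kt] [Algebra (Polynomial k) kt]
    [IsFractionRing (Polynomial k) kt] [Algebra (Polynomial K) Kt]
    [IsFractionRing (Polynomial K) Kt] [Algebra kt Kt]
    (hcompat : ∀ p : Polynomial k, algebraMap kt Kt (algebraMap (Polynomial k) kt p) =
      algebraMap (Polynomial K) Kt (Polynomial.map (algebraMap k K) p)) :
    (∀ (k' : Type u) [Field k'] [Algebra k k'], IrreducibleSpace (PrimeSpectrum (k' ⊗[k] K))) ↔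
      ∀ (L : Type u) [Field L] [Algebra kt L], IrreducibleSpace (PrimeSpectrum (L ⊗[kt] Kt)) := by
  constructor
  · intro H L _ _
    letI : Algebra k L := ((algebraMap kt L).comp ((algebraMap k[X] kt).comp C)).toAlgebra
    exact core (fun c => rfl) hcompat (H L)
  · intro H
    have h1 := Groth.Agent.Lib.Helper15.GeomIrrSep.forward (k := kt) (K := Kt) H
    intro k' _ _
    exact Groth.Agent.Lib.Helper15.GeomIrrSep.backward
      (fun α hα => sep_of_Kt hcompat h1 α hα) k'

end main

end Groth.Agent.Lib.Helper15.GeomIrrRatFunc
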