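import Mathlib
import Groth.Agent.S5720
import Groth.Agent.Lib.Helper15.TPSplit

/-!
# A global faithfully flat splitting of an Azumaya algebra of constant rank (helper15)
-/

set_option autoImplicit false
universe u v w
open scoped TensorProduct
open Matrix

namespace Groth.Agent.Lib.Helper15.GlobalSplit

open Groth.Agent.Lib.Helper15.TPSplit

section loc

variable (R : Type u) [CommRing R] (A : Type u) [Ring A] [Algebra R A] [IsAzumaya R A] (n : ℕ)
  (hrk : ∀ p : PrimeSpectrum R, Module.rankAtStalk (R := R) A p = n ^ 2)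

include hrk in
/-- local splitting data near a prime -/
theorem exists_local_spanning (p : PrimeSpectrum R) :
    ∃ f : R, f ∉ p.asIdeal ∧ ∃ (S : Type u) (_ : CommRing S) (_ : Algebra R S),
      Module.Flat R S ∧
      (∀ q : PrimeSpectrum R, f ∉ q.asIdeal →
        ∃ Q : PrimeSpectrum S, PrimeSpectrum.comap (algebraMap R S) Q = q) ∧
      ∃ γ : A →ₐ[R] Matrix (Fin n) (Fin n) S, Spanning γ := by
  obtain ⟨f, hf, S, _, _, _, _, hfin, het, hff, r, hr, ⟨φ⟩⟩ :=
    Groth.Agent.S5720.result R A p.asIdeal
  have hlift : ∀ q : PrimeSpectrum R, f ∉ q.asIdeal →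
      ∃ Q : PrimeSpectrum S, PrimeSpectrum.comap (algebraMap R S) Q = q := by
    intro q hq
    have hd : Disjoint (Submonoid.powers f : Set R) (q.asIdeal : Set R) :=
      (Ideal.disjoint_powers_iff_notMem_of_isPrime f).mpr hq
    have hprime := IsLocalization.isPrime_of_isPrime_disjoint (Submonoid.powers f)
      (Localization.Away f) q.asIdeal q.isPrime hd
    have hunder := IsLocalization.under_map_of_isPrime_disjoint (Submonoid.powers f)
      (Localization.Away f) q.isPrime hd
    obtain ⟨Q, hQ⟩ := PrimeSpectrum.comap_surjective_of_faithfullyFlat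
      (A := Localization.Away f) (B := S) ⟨_, hprime⟩
    refine ⟨Q, ?_⟩
    apply PrimeSpectrum.ext
    rw [PrimeSpectrum.comap_asIdeal, IsScalarTower.algebraMap_eq R (Localization.Away f) S,
      ← Ideal.comap_comap, ← PrimeSpectrum.comap_asIdeal (algebraMap (Localization.Away f) S), hQ]
    exact hunder
  refine ⟨f, hf, S, inferInstance, inferInstance, ?_, hlift, ?_⟩
  · exact (Module.flat_iff_of_isLocalization (Localization.Away f) (Submonoid.powers f) S).mp
      inferInstance
  · -- `r = n`
    obtain ⟨Q, hQ⟩ := hlift p hf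
    haveI : Nontrivial S := ⟨⟨0, 1, fun h => Q.isPrime.ne_top
      ((Ideal.eq_top_iff_one _).mpr (h ▸ Q.asIdeal.zero_mem))⟩⟩
    have h1 : Module.rankAtStalk (R := S) (S ⊗[R] A) Q = n ^ 2 := by
      rw [Module.rankAtStalk_baseChange, hQ, hrk]
    have h2 : Module.rankAtStalk (R := S) (S ⊗[R] A) Q = r * r := by
      rw [Module.rankAtStalk_eq_of_equiv φ.toLinearEquiv, Module.rankAtStalk_eq_finrank_of_free,
        Pi.natCast_apply]
      simp [Module.finrank_matrix]
    have hrn : r = n := by
      have : r ^ 2 = n ^ 2 := by rw [sq, ← h2, h1]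
      exact Nat.pow_left_injective (by norm_num : 2 ≠ 0) this
    subst hrn
    exact ⟨_, spanning_of_algEquiv φ⟩

end loc

section glue

variable (R : Type u) [CommRing R] (A : Type u) [Ring A] [Algebra R A]
  {J : Type u} [Fintype J] [DecidableEq J] (S : J → Type u) [∀ j, CommRing (S j)]
  [∀ j, Algebra R (S j)] (n : ℕ)
  (γ : ∀ j, A →ₐ[R] Matrix (Fin n) (Fin n) (S j))

/-- the product of the `γ j` -/
noncomputable def piGamma : A →ₐ[R] Matrix (Fin n) (Fin n) (∀ j, S j) where
  toFun a := Matrix.of fun k l j => γ j a k l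
  map_one' := by
    ext k l j
    simp only [map_one, Matrix.of_apply, Matrix.one_apply]
    split_ifs <;> rfl
  map_mul' a b := by
    ext k l j
    simp [Matrix.mul_apply, Finset.sum_apply]
  map_zero' := by
    ext k l j
    simp
  map_add' a b := by
    ext k l j
    simp
  commutes' r := by
    ext k l j
    simp only [AlgHom.commutes, Matrix.of_apply, Matrix.algebraMap_matrix_apply]
    split_ifs <;> rfl

lemma piGamma_apply (a : A) (k l : Fin n) (j : J) :
    piGamma R A S n γ a k l j = γ j a k l := rfl

theorem piGamma_spanning (hγ : ∀ j, Spanning (γ j)) : Spanning (piGamma R A S n γ) := by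
  intro X
  let ι : ∀ j, Matrix (Fin n) (Fin n) (S j) → Matrix (Fin n) (Fin n) (∀ j, S j) :=
    fun j Y => Matrix.of fun k l => Pi.single j (Y k l)
  have hιapp : ∀ j (Y : Matrix (Fin n) (Fin n) (S j)) k l, ι j Y k l = Pi.single j (Y k l) :=
    fun j Y k l => rfl
  have hι : ∀ j (Y : Matrix (Fin n) (Fin n) (S j)),
      ι j Y ∈ Submodule.span (∀ j, S j) (Set.range (piGamma R A S n γ)) := by
    intro j Y
    have hY := hγ j Y
    induction hY using Submodule.span_induction with
    | mem Y hY =>
      obtain ⟨a, rfl⟩ := hY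
      have : ι j (γ j a) = (Pi.single j (1 : S j) : ∀ j, S j) • piGamma R A S n γ a := by
        ext k l j'
        rw [hιapp, Matrix.smul_apply, smul_eq_mul, Pi.mul_apply, piGamma_apply]
        by_cases h : j' = j
        · subst h
          simp
        · rw [Pi.single_eq_of_ne h, Pi.single_eq_of_ne h, zero_mul]
      rw [this]
      exact Submodule.smul_mem _ _ (Submodule.subset_span ⟨a, rfl⟩)
    | zero =>
      have : ι j 0 = 0 := by
        ext k l j'
        rw [hιapp]
        simp
      rw [this]
      exact Submodule.zero_mem _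
    | add Y Y' _ _ h h' =>
      have : ι j (Y + Y') = ι j Y + ι j Y' := by
        ext k l j'
        rw [Matrix.add_apply, hιapp, hιapp, hιapp, Matrix.add_apply, Pi.single_add]
      rw [this]
      exact Submodule.add_mem _ h h'
    | smul s Y _ h =>
      have : ι j (s • Y) = (Pi.single j s : ∀ j, S j) • ι j Y := by
        ext k l j'
        rw [Matrix.smul_apply, hιapp, hιapp, Matrix.smul_apply, smul_eq_mul, smul_eq_mul,
          Pi.mul_apply]
        by_cases h : j' = j
        · subst h
          simp
        · rw [Pi.single_eq_of_ne h, Pi.single_eq_of_ne h, zero_mul]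
      rw [this]
      exact Submodule.smul_mem _ _ h
  have hX : X = ∑ j, ι j (Matrix.of fun k l => X k l j) := by
    ext k l j'
    rw [Matrix.sum_apply, Finset.sum_apply]
    simp_rw [hιapp, Matrix.of_apply]
    rw [Finset.sum_eq_single j']
    · simp
    · intro b _ hb
      exact Pi.single_eq_of_ne hb.symm _
    · intro h
      exact absurd (Finset.mem_univ _) h
  rw [hX]
  exact Submodule.sum_mem _ fun j _ => hι j _

end glue

section global

variable (R : Type u) [CommRing R] (A : Type u) [Ring A] [Algebra R A] (n : ℕ)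

/-- bundled local splitting data -/
structure LocalSplit where
  f : R
  S : Type u
  [cr : CommRing S]
  [alg : Algebra R S]
  flat : Module.Flat R S
  lift : ∀ q : PrimeSpectrum R, f ∉ q.asIdeal →
    ∃ Q : PrimeSpectrum S, PrimeSpectrum.comap (algebraMap R S) Q = q
  γ : A →ₐ[R] Matrix (Fin n) (Fin n) S
  span : Spanning γ

attribute [instance] LocalSplit.cr LocalSplit.alg

variable {R A n}

theorem exists_ff_of_localSplit {J : Type u} [Fintype J] [DecidableEq J]
    (D : J → LocalSplit R A n)
    (hcover : ∀ q : PrimeSpectrum R, ∃ j, (D j).f ∉ q.asIdeal) :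
    ∃ (R' : Type u) (_ : CommRing R') (_ : Algebra R R') (_ : Module.FaithfullyFlat R R')
      (γ : A →ₐ[R] Matrix (Fin n) (Fin n) R'), Spanning γ := by
  refine ⟨∀ j, (D j).S, inferInstance, inferInstance, ?_,
    piGamma R A (fun j => (D j).S) n (fun j => (D j).γ),
    piGamma_spanning R A _ n _ (fun j => (D j).span)⟩
  haveI : ∀ j, Module.Flat R (D j).S := fun j => (D j).flat
  haveI : Module.Flat R (∀ j, (D j).S) :=
    Module.Flat.of_linearEquiv (DFinsupp.linearEquivFunOnFintype (R := R)
      (M := fun j => (D j).S)).symm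
  apply Module.FaithfullyFlat.of_comap_surjective
  intro q
  obtain ⟨j, hj⟩ := hcover q
  obtain ⟨Q, hQ⟩ := (D j).lift q hj
  refine ⟨PrimeSpectrum.comap (Pi.evalRingHom (fun j => (D j).S) j) Q, ?_⟩
  rw [← PrimeSpectrum.comap_comp_apply]
  exact hQ

end global

section final

variable (R : Type u) [CommRing R] (A : Type u) [Ring A] [Algebra R A] [IsAzumaya R A] (n : ℕ)
  (hrk : ∀ p : PrimeSpectrum R, Module.rankAtStalk (R := R) A p = n ^ 2)

include hrk in
/-- **Global faithfully flat splitting** of an Azumaya algebra of constant rank `n ^ 2`. -/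
theorem exists_ff_spanning :
    ∃ (R' : Type u) (_ : CommRing R') (_ : Algebra R R') (_ : Module.FaithfullyFlat R R')
      (γ : A →ₐ[R] Matrix (Fin n) (Fin n) R'), Spanning γ := by
  classical
  have hloc : ∀ p : PrimeSpectrum R, ∃ D : LocalSplit R A n, D.f ∉ p.asIdeal := by
    intro p
    obtain ⟨f, hf, S, _, _, hflat, hlift, γ, hγ⟩ := exists_local_spanning R A n hrk p
    exact ⟨⟨f, S, hflat, hlift, γ, hγ⟩, hf⟩
  choose D hD using hloc
  have htop : Ideal.span (Set.range fun p => (D p).f) = ⊤ := by
    by_contra h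
    obtain ⟨m, hm, hle⟩ := Ideal.exists_le_maximal _ h
    exact hD ⟨m, hm.isPrime⟩ (hle (Ideal.subset_span ⟨_, rfl⟩))
  have h1 : (1 : R) ∈ Ideal.span (Set.range fun p => (D p).f) := by rw [htop]; trivial
  obtain ⟨T, hT, h1T⟩ := Submodule.mem_span_finite_of_mem_span h1
  choose P hP using fun t : {t // t ∈ T} => hT t.2
  refine exists_ff_of_localSplit (J := {t // t ∈ T}) (fun t => D (P t)) ?_
  intro q
  by_contra hall
  push Not at hall
  have hle : Ideal.span (T : Set R) ≤ q.asIdeal := by
    rw [Ideal.span_le]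
    intro t ht
    have := hall ⟨t, ht⟩
    have h2 : (D (P ⟨t, ht⟩)).f = t := hP ⟨t, ht⟩
    rw [h2] at this
    exact this
  exact q.isPrime.ne_top ((Ideal.eq_top_iff_one _).mpr (hle h1T))

end final

end Groth.Agent.Lib.Helper15.GlobalSplit
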