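import Mathlib

/-!
# Graded prime avoidance, in predicate form (helper15)
-/

set_option autoImplicit false
universe u

namespace Groth.Agent.Lib.Helper15.GradedAvoid

variable {A B : Type u} [CommRing A] [CommRing B] [Algebra A B] (𝒜 : ℕ → Submodule A B)
  (hmul : ∀ (n n' : ℕ) (b b' : B), b ∈ 𝒜 n → b' ∈ 𝒜 n' → b * b' ∈ 𝒜 (n + n'))
  {J : Type} [DecidableEq J] (V : J → ℕ → B → Prop)
  (hadd : ∀ (j : J) (n : ℕ) (b b' : B), b ∈ 𝒜 n → b' ∈ 𝒜 n → V j n b → V j n (b + b') → V j n b')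
  (hVmul : ∀ (j : J) (n n' : ℕ) (b b' : B), b ∈ 𝒜 n → b' ∈ 𝒜 n' →
    (V j (n + n') (b * b') ↔ V j n b ∨ V j n' b'))

include hmul in
theorem pow_mem (n : ℕ) (b : B) (hb : b ∈ 𝒜 n) : ∀ a : ℕ, 0 < a → b ^ a ∈ 𝒜 (a * n) := by
  intro a ha
  induction a with
  | zero => exact absurd ha (lt_irrefl 0)
  | succ a ih =>
    rcases Nat.eq_zero_or_pos a with rfl | ha'
    · simpa using hb
    · rw [pow_succ, Nat.succ_mul]
      exact hmul _ _ _ _ (ih ha') hb

include hmul hVmul in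
theorem V_pow (j : J) (n : ℕ) (b : B) (hb : b ∈ 𝒜 n) :
    ∀ a : ℕ, 0 < a → (V j (a * n) (b ^ a) ↔ V j n b) := by
  intro a ha
  induction a with
  | zero => exact absurd ha (lt_irrefl 0)
  | succ a ih =>
    rcases Nat.eq_zero_or_pos a with rfl | ha'
    · simp
    · rw [pow_succ, Nat.succ_mul, hVmul j _ _ _ _ (pow_mem 𝒜 hmul n b hb a ha') hb, ih ha', or_self]

include hmul in
theorem prod_mem (s : Finset J) (hs : s.Nonempty) (n : J → ℕ) (z : J → B)
    (hz : ∀ j ∈ s, z j ∈ 𝒜 (n j)) : ∏ j ∈ s, z j ∈ 𝒜 (∑ j ∈ s, n j) := by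
  induction hs using Finset.Nonempty.cons_induction with
  | singleton j => simpa using hz j (Finset.mem_singleton_self j)
  | cons j s hj hs ih =>
    rw [Finset.prod_cons, Finset.sum_cons]
    exact hmul _ _ _ _ (hz j (Finset.mem_cons_self j s))
      (ih fun i hi => hz i (Finset.mem_cons.mpr (Or.inr hi)))

include hmul hVmul in
theorem V_prod (j₀ : J) (s : Finset J) (hs : s.Nonempty) (n : J → ℕ) (z : J → B)
    (hz : ∀ j ∈ s, z j ∈ 𝒜 (n j)) :
    V j₀ (∑ j ∈ s, n j) (∏ j ∈ s, z j) ↔ ∃ j ∈ s, V j₀ (n j) (z j) := by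
  induction hs using Finset.Nonempty.cons_induction with
  | singleton j => simp
  | cons j s hj hs ih =>
    have hz' : ∀ i ∈ s, z i ∈ 𝒜 (n i) := fun i hi => hz i (Finset.mem_cons.mpr (Or.inr hi))
    rw [Finset.prod_cons, Finset.sum_cons,
      hVmul j₀ _ _ _ _ (hz j (Finset.mem_cons_self j s)) (prod_mem 𝒜 hmul s hs n z hz'), ih hz']
    constructor
    · rintro (h | ⟨i, hi, h⟩)
      · exact ⟨j, Finset.mem_cons_self j s, h⟩
      · exact ⟨i, Finset.mem_cons.mpr (Or.inr hi), h⟩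
    · rintro ⟨i, hi, h⟩
      rcases Finset.mem_cons.mp hi with rfl | hi'
      · exact Or.inl h
      · exact Or.inr ⟨i, hi', h⟩

include hmul hadd hVmul in
/-- **graded prime avoidance** -/
theorem gpa (u : J → B) (hu : ∀ j, u j ∈ 𝒜 1) (hVu : ∀ j, ¬ V j 1 (u j)) (s : Finset J) :
    ∃ n : ℕ, 0 < n ∧ ∃ f : B, f ∈ 𝒜 n ∧ ∀ j ∈ s, ¬ V j n f := by
  induction s using Finset.strongInduction with
  | H s ih =>
    rcases s.eq_empty_or_nonempty with rfl | ⟨j₁, hj₁⟩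
    · exact ⟨1, Nat.one_pos, 0, Submodule.zero_mem _, fun j hj => absurd hj (Finset.notMem_empty j)⟩
    rcases (s.erase j₁).eq_empty_or_nonempty with hs1 | hs1
    · refine ⟨1, Nat.one_pos, u j₁, hu j₁, fun j hj => ?_⟩
      have : j = j₁ := by
        by_contra hne
        have : j ∈ s.erase j₁ := Finset.mem_erase.mpr ⟨hne, hj⟩
        rw [hs1] at this
        exact Finset.notMem_empty j this
      rw [this]
      exact hVu j₁
    have hex : ∀ j : J, ∃ n : ℕ, ∃ z : B, j ∈ s → (0 < n ∧ z ∈ 𝒜 n ∧ ∀ i ∈ s.erase j, ¬ V i n z) := by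
      intro j
      by_cases hj : j ∈ s
      · obtain ⟨n, hn, z, hz, hV⟩ := ih (s.erase j) (Finset.erase_ssubset hj)
        exact ⟨n, z, fun _ => ⟨hn, hz, hV⟩⟩
      · exact ⟨0, 0, fun h => absurd h hj⟩
    choose n z hnz using hex
    by_cases hgood : ∃ j ∈ s, ¬ V j (n j) (z j)
    · obtain ⟨j, hj, hVj⟩ := hgood
      refine ⟨n j, (hnz j hj).1, z j, (hnz j hj).2.1, fun i hi => ?_⟩
      by_cases hij : i = j
      · rw [hij]; exact hVj
      · exact (hnz j hj).2.2 i (Finset.mem_erase.mpr ⟨hij, hi⟩)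
    · push Not at hgood
      set s' := s.erase j₁ with hs'
      set N := ∑ j ∈ s', n j with hN
      set w := ∏ j ∈ s', z j with hw
      have hzs' : ∀ j ∈ s', z j ∈ 𝒜 (n j) := fun j hj => (hnz j (Finset.mem_of_mem_erase hj)).2.1
      have hwN : w ∈ 𝒜 N := prod_mem 𝒜 hmul s' hs1 n z hzs'
      have hNpos : 0 < N := by
        obtain ⟨i, hi⟩ := hs1
        have h1 : n i ≤ N := Finset.single_le_sum (fun _ _ => Nat.zero_le _) hi
        exact lt_of_lt_of_le (hnz i (Finset.mem_of_mem_erase hi)).1 h1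
      have hn₁ : 0 < n j₁ := (hnz j₁ hj₁).1
      have hz₁ : z j₁ ∈ 𝒜 (n j₁) := (hnz j₁ hj₁).2.1
      have h1 : z j₁ ^ N ∈ 𝒜 (N * n j₁) := pow_mem 𝒜 hmul _ _ hz₁ N hNpos
      have h2 : w ^ n j₁ ∈ 𝒜 (N * n j₁) := by
        rw [mul_comm]
        exact pow_mem 𝒜 hmul _ _ hwN (n j₁) hn₁
      refine ⟨N * n j₁, Nat.mul_pos hNpos hn₁, z j₁ ^ N + w ^ n j₁, Submodule.add_mem _ h1 h2,
        fun j hj hV => ?_⟩
      by_cases hjj : j = j₁
      · subst hjj
        have hb : V j (N * n j) (z j ^ N) :=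
          (V_pow 𝒜 hmul V hVmul j _ _ hz₁ N hNpos).mpr (hgood j hj)
        have hb' := hadd j _ _ _ h1 h2 hb hV
        rw [mul_comm] at hb'
        rw [V_pow 𝒜 hmul V hVmul j _ _ hwN (n j) hn₁,
          V_prod 𝒜 hmul V hVmul j s' hs1 n z hzs'] at hb'
        obtain ⟨i, hi, hVi⟩ := hb'
        have hi' := Finset.mem_erase.mp hi
        exact (hnz i hi'.2).2.2 j (Finset.mem_erase.mpr ⟨fun h => hi'.1 h.symm, hj⟩) hVi
      · have hjs' : j ∈ s' := Finset.mem_erase.mpr ⟨hjj, hj⟩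
        have hb : V j (N * n j₁) (w ^ n j₁) := by
          rw [mul_comm, V_pow 𝒜 hmul V hVmul j _ _ hwN (n j₁) hn₁,
            V_prod 𝒜 hmul V hVmul j s' hs1 n z hzs']
          exact ⟨j, hjs', hgood j hj⟩
        rw [add_comm] at hV
        have hb' := hadd j _ _ _ h2 h1 hb hV
        rw [V_pow 𝒜 hmul V hVmul j _ _ hz₁ N hNpos] at hb'
        exact (hnz j₁ hj₁).2.2 j hjs' hb'

end Groth.Agent.Lib.Helper15.GradedAvoid
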