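import Mathlib
import Groth.Prelude.Def_GSzH1
import Groth.Prelude.Def_GSzCSA
import Groth.Agent.Lib.Helper15.GalDescent
import Groth.Agent.Lib.Helper15.CountCyclic

set_option autoImplicit false
set_option linter.style.haveILetI false

universe u v w
open scoped TensorProduct
attribute [local instance] CSAGal.tensorAction GpH1.unitsAction

namespace Groth.Agent.Lib.Helper15.H1Units

open Groth.Agent.Lib.Helper15.GalDescent

section setup
variable {k : Type u} [Field k] {K : Type v} [Field K] [Algebra k K]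
  {A : Type w} [Ring A] [Algebra k A]
  (a : GpH1.OneCocycle (K ≃ₐ[k] K) (K ⊗[k] A)ˣ)

/-- the right-twisted action -/
noncomputable def rho (σ : K ≃ₐ[k] K) (x : K ⊗[k] A) : K ⊗[k] A :=
  (σ • x) * (((a σ)⁻¹ : (K ⊗[k] A)ˣ) : K ⊗[k] A)

theorem rho_add (σ : K ≃ₐ[k] K) (x y : K ⊗[k] A) : rho a σ (x + y) = rho a σ x + rho a σ y := by
  unfold rho; rw [smul_add, add_mul]

theorem rho_smul (σ : K ≃ₐ[k] K) (c : K) (x : K ⊗[k] A) :
    rho a σ (c • x) = σ c • rho a σ x := by
  unfold rho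
  rw [smul_smul_tensor, smul_mul_assoc]

theorem cocycle_one : a 1 = 1 := by
  have h := a.2 1 1
  rw [mul_one, one_smul] at h
  have h' : a 1 * a 1 = a 1 * 1 := by rw [mul_one]; exact h.symm
  exact mul_left_cancel h'

theorem rho_one (x : K ⊗[k] A) : rho a 1 x = x := by
  unfold rho; rw [cocycle_one, one_smul, inv_one, Units.val_one, mul_one]

theorem coe_smul_units (σ : K ≃ₐ[k] K) (u : (K ⊗[k] A)ˣ) :
    ((σ • u : (K ⊗[k] A)ˣ) : K ⊗[k] A) = σ • (u : K ⊗[k] A) := rfl

theorem coe_inv_smul_units (σ : K ≃ₐ[k] K) (u : (K ⊗[k] A)ˣ) :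
    (((σ • u)⁻¹ : (K ⊗[k] A)ˣ) : K ⊗[k] A) = σ • ((u⁻¹ : (K ⊗[k] A)ˣ) : K ⊗[k] A) := rfl

theorem rho_mul (σ τ : K ≃ₐ[k] K) (x : K ⊗[k] A) : rho a (σ * τ) x = rho a σ (rho a τ x) := by
  unfold rho
  rw [a.2 σ τ, mul_inv_rev, Units.val_mul, coe_inv_smul_units, mul_smul, smul_mul', mul_assoc]

/-- the twisted fixed points -/
noncomputable def fixedK : Submodule k (K ⊗[k] A) where
  carrier := {x | ∀ σ, rho a σ x = x}
  add_mem' := fun {x y} hx hy σ => by rw [rho_add, hx σ, hy σ]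
  zero_mem' := fun σ => by unfold rho; rw [smul_zero, zero_mul]
  smul_mem' := fun c x hx σ => by
    have : c • x = (algebraMap k K c) • x := (algebraMap_smul K c x).symm
    rw [this, rho_smul, hx σ, AlgEquiv.commutes]

theorem mem_fixedK (x : K ⊗[k] A) : x ∈ fixedK a ↔ ∀ σ, rho a σ x = x := Iff.rfl

theorem mul_mem_fixedK (y : A) (x : K ⊗[k] A) (hx : x ∈ fixedK a) :
    ((1 : K) ⊗ₜ[k] y) * x ∈ fixedK a := by
  intro σ
  unfold rho
  rw [smul_mul', mul_assoc]
  have h1 : σ • ((1 : K) ⊗ₜ[k] y) = (1 : K) ⊗ₜ[k] y := by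
    rw [GalDescent.smul_tmul, map_one]
  rw [h1]
  congr 1
  exact hx σ

/-- a unit among the twisted fixed points trivialises the cocycle -/
theorem cohomologous_trivial_of_unit (b : (K ⊗[k] A)ˣ) (hb : (b : K ⊗[k] A) ∈ fixedK a) :
    GpH1.Cohomologous a (GpH1.OneCocycle.trivial : GpH1.OneCocycle (K ≃ₐ[k] K) (K ⊗[k] A)ˣ) := by
  refine ⟨b, fun σ => ?_⟩
  apply Units.ext
  have h := hb σ
  unfold rho at h
  have h2 : σ • (b : K ⊗[k] A) = (b : K ⊗[k] A) * (a σ : K ⊗[k] A) := by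
    calc σ • (b : K ⊗[k] A)
        = σ • (b : K ⊗[k] A) * ((((a σ)⁻¹ : (K ⊗[k] A)ˣ) : K ⊗[k] A) * (a σ : K ⊗[k] A)) := by
          rw [Units.inv_mul, mul_one]
      _ = (σ • (b : K ⊗[k] A) * (((a σ)⁻¹ : (K ⊗[k] A)ˣ) : K ⊗[k] A)) * (a σ : K ⊗[k] A) := by
          rw [mul_assoc]
      _ = (b : K ⊗[k] A) * (a σ : K ⊗[k] A) := by rw [h]
  show ((a σ : (K ⊗[k] A)ˣ) : K ⊗[k] A) =
    ((b⁻¹ * (1 : (K ⊗[k] A)ˣ) * σ • b : (K ⊗[k] A)ˣ) : K ⊗[k] A)
  rw [mul_one, Units.val_mul, coe_smul_units, h2, ← mul_assoc, Units.inv_mul, one_mul]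

variable [FiniteDimensional k K] [IsGalois k K]

/-- Galois descent for the twisted fixed points -/
noncomputable def desc : K ⊗[k] (fixedK a) ≃ₗ[K] K ⊗[k] A :=
  descentEquiv (rho a) (rho_add a) (rho_smul a) (rho_one a) (rho_mul a) (fixedK a).subtype
    (fun x => by
      rw [Submodule.range_subtype]; exact mem_fixedK a x) (Submodule.subtype_injective _)

theorem desc_tmul (c : K) (x : fixedK a) : desc a (c ⊗ₜ[k] x) = c • (x : K ⊗[k] A) := rfl

end setup

section infinite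
variable {k : Type u} [Field k] {K : Type v} [Field K] [Algebra k K]
  {A : Type w} [Ring A] [Algebra k A]
  (a : GpH1.OneCocycle (K ≃ₐ[k] K) (K ⊗[k] A)ˣ)
  [FiniteDimensional k K] [IsGalois k K] [FiniteDimensional k A]

theorem isUnit_of_det_ne_zero (x : K ⊗[k] A)
    (hx : LinearMap.det (Algebra.lmul K (K ⊗[k] A) x) ≠ 0) : IsUnit x := by
  haveI : IsArtinianRing (K ⊗[k] A) := IsArtinianRing.of_finite K _
  have h1 : IsUnit (Algebra.lmul K (K ⊗[k] A) x) :=
    (LinearMap.isUnit_iff_isUnit_det _).mpr (isUnit_iff_ne_zero.mpr hx)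
  have h2 : Function.Surjective (Algebra.lmul K (K ⊗[k] A) x) :=
    ((Module.End.isUnit_iff _).mp h1).2
  obtain ⟨y, hy⟩ := h2 1
  exact IsUnit.of_mul_eq_one y hy

theorem exists_unit_infinite [Infinite k] :
    ∃ b : (K ⊗[k] A)ˣ, (b : K ⊗[k] A) ∈ fixedK a := by
  classical
  set d := Module.finrank k (fixedK a) with hd
  let β : Module.Basis (Fin d) k (fixedK a) := Module.finBasis k (fixedK a)
  let βK : Module.Basis (Fin d) K (K ⊗[k] A) := (Algebra.TensorProduct.basis K β).map (desc a)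
  have hβK : ∀ i, βK i = (β i : K ⊗[k] A) := by
    intro i
    rw [Module.Basis.map_apply, Algebra.TensorProduct.basis_apply, desc_tmul, one_smul]
  let m : Fin d → Matrix (Fin d) (Fin d) K := fun i =>
    LinearMap.toMatrix βK βK (Algebra.lmul K (K ⊗[k] A) (β i : K ⊗[k] A))
  let P : MvPolynomial (Fin d) K :=
    Matrix.det (Matrix.of fun r c => ∑ i, MvPolynomial.X i * MvPolynomial.C (m i r c))
  have heval : ∀ t : Fin d → K, MvPolynomial.eval t P =
      LinearMap.det (Algebra.lmul K (K ⊗[k] A) (∑ i, t i • (β i : K ⊗[k] A))) := by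
    intro t
    rw [← LinearMap.det_toMatrix βK]
    show (MvPolynomial.eval t) (Matrix.det _) = _
    rw [RingHom.map_det]
    congr 1
    ext r c
    rw [RingHom.mapMatrix_apply, Matrix.map_apply, Matrix.of_apply, map_sum, map_sum, map_sum,
      Matrix.sum_apply]
    refine Finset.sum_congr rfl (fun i _ => ?_)
    rw [map_mul, MvPolynomial.eval_X, MvPolynomial.eval_C, map_smul, map_smul, Matrix.smul_apply,
      smul_eq_mul]
  have hP : P ≠ 0 := by
    intro h0
    have h1 := heval (fun i => βK.repr 1 i)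
    have h2 : ∑ i, (βK.repr 1 i) • (β i : K ⊗[k] A) = 1 := by
      conv_rhs => rw [← βK.sum_repr 1]
      refine Finset.sum_congr rfl (fun i _ => ?_)
      rw [hβK]
    rw [h2, h0, map_zero, map_one, map_one] at h1
    exact zero_ne_one h1
  have hex : ∃ τ : Fin d → k, MvPolynomial.eval (fun i => algebraMap k K (τ i)) P ≠ 0 := by
    by_contra hne
    push Not at hne
    apply hP
    apply MvPolynomial.funext_set (fun _ => Set.range (algebraMap k K))
      (fun _ => Set.infinite_range_of_injective (algebraMap k K).injective)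
    intro t ht
    rw [map_zero]
    choose τ hτ using fun i => ht i (Set.mem_univ i)
    have : t = fun i => algebraMap k K (τ i) := funext fun i => (hτ i).symm
    rw [this]
    exact hne τ
  obtain ⟨τ, hτ⟩ := hex
  rw [heval] at hτ
  let x : fixedK a := ∑ i, τ i • β i
  have hx : (x : K ⊗[k] A) = ∑ i, (algebraMap k K (τ i)) • (β i : K ⊗[k] A) := by
    show ((∑ i, τ i • β i : fixedK a) : K ⊗[k] A) = _
    rw [Submodule.coe_sum]
    refine Finset.sum_congr rfl (fun i _ => ?_)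
    rw [Submodule.coe_smul, algebraMap_smul]
  rw [← hx] at hτ
  obtain ⟨b, hb⟩ := isUnit_of_det_ne_zero (x : K ⊗[k] A) hτ
  exact ⟨b, hb ▸ x.2⟩

end infinite

section finite
variable {k : Type u} [Field k] {K : Type v} [Field K] [Algebra k K]
  {A : Type w} [Ring A] [Algebra k A]
  (a : GpH1.OneCocycle (K ≃ₐ[k] K) (K ⊗[k] A)ˣ)

/-- `A` acts on `K ⊗ A` by left multiplication by `1 ⊗ y` -/
@[reducible] noncomputable def modA : Module A (K ⊗[k] A) :=
  Module.compHom (K ⊗[k] A) (Algebra.TensorProduct.includeRight : A →ₐ[k] K ⊗[k] A).toRingHom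

attribute [local instance] modA

theorem smulA_def (y : A) (x : K ⊗[k] A) : y • x = ((1 : K) ⊗ₜ[k] y) * x := rfl

/-- the twisted fixed points as an `A`-submodule -/
noncomputable def fixedA : Submodule A (K ⊗[k] A) where
  carrier := {x | x ∈ fixedK a}
  add_mem' := fun {x y} hx hy => (fixedK a).add_mem hx hy
  zero_mem' := (fixedK a).zero_mem
  smul_mem' := fun y x hx => mul_mem_fixedK a y x hx

theorem mem_fixedA (x : K ⊗[k] A) : x ∈ fixedA a ↔ x ∈ fixedK a := Iff.rfl

section cardhom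
variable {B : Type*} [Ring B] {P Q Y : Type*} [AddCommGroup P] [Module B P] [AddCommGroup Q]
  [Module B Q] [AddCommGroup Y] [Module B Y]

theorem card_hom_congr (e : P ≃ₗ[B] Q) : Nat.card (P →ₗ[B] Y) = Nat.card (Q →ₗ[B] Y) :=
  Nat.card_congr (LinearEquiv.congrLeft Y ℕ e).toEquiv

theorem card_hom_pi (n : ℕ) : Nat.card ((Fin n → P) →ₗ[B] Y) = Nat.card (P →ₗ[B] Y) ^ n := by
  have e : ((i : Fin n) → P →ₗ[B] Y) ≃ ((Fin n → P) →ₗ[B] Y) :=
    (LinearMap.lsum B (fun _ : Fin n => P) ℕ).toEquiv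
  rw [← Nat.card_congr e, Nat.card_pi, Finset.prod_const, Finset.card_univ, Fintype.card_fin]

theorem card_hom_eq_of_pi_equiv {R' : Type*} [AddCommGroup R'] [Module B R'] {n : ℕ} (hn : n ≠ 0)
    (e₁ : (Fin n → P) ≃ₗ[B] R') (e₂ : (Fin n → Q) ≃ₗ[B] R') :
    Nat.card (P →ₗ[B] Y) = Nat.card (Q →ₗ[B] Y) := by
  apply Nat.pow_left_injective hn
  show Nat.card (P →ₗ[B] Y) ^ n = Nat.card (Q →ₗ[B] Y) ^ n
  rw [← card_hom_pi, ← card_hom_pi, card_hom_congr e₁, card_hom_congr e₂]

end cardhom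

variable [FiniteDimensional k K] [IsGalois k K] [FiniteDimensional k A]

theorem sum_tmul_eq (N : Type*) [AddCommGroup N] [Module k N] {n : ℕ} (ω : Module.Basis (Fin n) k K)
    (x : Fin n → N) :
    (TensorProduct.equivFinsuppOfBasisLeft ω).symm (Finsupp.equivFunOnFinite.symm x) =
      ∑ i, ω i ⊗ₜ[k] x i := by
  rw [TensorProduct.equivFinsuppOfBasisLeft_symm_apply, Finsupp.sum_fintype _ _ (by simp)]
  rfl

/-- `fixedA^n ≃ K ⊗ A` -/
noncomputable def E₁ {n : ℕ} (ω : Module.Basis (Fin n) k K) :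
    (Fin n → fixedA a) →ₗ[A] K ⊗[k] A where
  toFun x := ∑ i, ω i • (x i : K ⊗[k] A)
  map_add' x y := by
    simp only [Pi.add_apply, Submodule.coe_add, smul_add, Finset.sum_add_distrib]
  map_smul' y x := by
    simp only [Pi.smul_apply, Submodule.coe_smul, RingHom.id_apply, Finset.smul_sum]
    refine Finset.sum_congr rfl (fun i _ => ?_)
    rw [smulA_def, smulA_def, mul_smul_comm]

theorem E₁_bijective {n : ℕ} (ω : Module.Basis (Fin n) k K) : Function.Bijective (E₁ a ω) := by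
  have key : ∀ x : Fin n → fixedK a,
      desc a ((TensorProduct.equivFinsuppOfBasisLeft ω).symm (Finsupp.equivFunOnFinite.symm x)) =
        ∑ i, ω i • (x i : K ⊗[k] A) := by
    intro x
    rw [sum_tmul_eq, map_sum]
    rfl
  constructor
  · intro x y hxy
    let x' : Fin n → fixedK a := fun i => ⟨(x i : K ⊗[k] A), (x i).2⟩
    let y' : Fin n → fixedK a := fun i => ⟨(y i : K ⊗[k] A), (y i).2⟩
    have h1 : desc a ((TensorProduct.equivFinsuppOfBasisLeft ω).symm
        (Finsupp.equivFunOnFinite.symm x')) =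
        desc a ((TensorProduct.equivFinsuppOfBasisLeft ω).symm
        (Finsupp.equivFunOnFinite.symm y')) := by
      rw [key, key]; exact hxy
    have h2 := Finsupp.equivFunOnFinite.symm.injective
      ((TensorProduct.equivFinsuppOfBasisLeft ω).symm.injective ((desc a).injective h1))
    funext i
    apply Subtype.ext
    exact congrArg (fun f : Fin n → fixedK a => ((f i : fixedK a) : K ⊗[k] A)) h2
  · intro z
    let g := Finsupp.equivFunOnFinite (TensorProduct.equivFinsuppOfBasisLeft ω ((desc a).symm z))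
    refine ⟨fun i => ⟨(g i : K ⊗[k] A), (g i).2⟩, ?_⟩
    have := key g
    rw [Equiv.symm_apply_apply, LinearEquiv.symm_apply_apply, LinearEquiv.apply_symm_apply] at this
    exact this.symm

/-- `A^n ≃ K ⊗ A` -/
noncomputable def E₂ {n : ℕ} (ω : Module.Basis (Fin n) k K) :
    (Fin n → A) →ₗ[A] K ⊗[k] A where
  toFun x := ∑ i, ω i ⊗ₜ[k] x i
  map_add' x y := by
    simp only [Pi.add_apply, TensorProduct.tmul_add, Finset.sum_add_distrib]
  map_smul' y x := by
    simp only [Pi.smul_apply, RingHom.id_apply, Finset.smul_sum]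
    refine Finset.sum_congr rfl (fun i _ => ?_)
    rw [smulA_def, Algebra.TensorProduct.tmul_mul_tmul, one_mul, smul_eq_mul]

theorem E₂_bijective {n : ℕ} (ω : Module.Basis (Fin n) k K) :
    Function.Bijective (E₂ (A := A) ω) := by
  have : ⇑(E₂ (A := A) ω) = (TensorProduct.equivFinsuppOfBasisLeft ω).symm ∘
      Finsupp.equivFunOnFinite.symm := by
    funext x
    exact (sum_tmul_eq A ω x).symm
  rw [this]
  exact (TensorProduct.equivFinsuppOfBasisLeft ω).symm.bijective.comp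
    Finsupp.equivFunOnFinite.symm.bijective

theorem exists_unit_finite [Finite k] :
    ∃ b : (K ⊗[k] A)ˣ, (b : K ⊗[k] A) ∈ fixedK a := by
  classical
  haveI : Finite (K ⊗[k] A) := Module.finite_of_finite k
  haveI : IsArtinianRing (K ⊗[k] A) := IsArtinianRing.of_finite K _
  set n := Module.finrank k K with hn
  have hn0 : n ≠ 0 := (Module.finrank_pos (R := k) (M := K)).ne'
  let ω : Module.Basis (Fin n) k K := Module.finBasis k K
  let e₁ : (Fin n → fixedA a) ≃ₗ[A] K ⊗[k] A := LinearEquiv.ofBijective (E₁ a ω) (E₁_bijective a ω)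
  let e₂ : (Fin n → A) ≃ₗ[A] K ⊗[k] A := LinearEquiv.ofBijective (E₂ ω) (E₂_bijective ω)
  have hcard : ∀ Y : Submodule A (fixedA a), Nat.card (fixedA a →ₗ[A] Y) = Nat.card Y := by
    intro Y
    have h2 : Nat.card (fixedA a →ₗ[A] Y) = Nat.card (A →ₗ[A] Y) :=
      card_hom_eq_of_pi_equiv (Y := Y) hn0 e₁ e₂
    rw [h2]
    exact Nat.card_congr (LinearMap.ringLmapEquivSelf A ℕ Y).toEquiv
  obtain ⟨f, hf⟩ := CountCyclic.exists_surjective_of_card_hom (A := A) (M := fixedA a) hcard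
  let b : fixedA a := f 1
  have hgen : ∀ x : fixedA a, ∃ y : A, ((1 : K) ⊗ₜ[k] y) * (b : K ⊗[k] A) = (x : K ⊗[k] A) := by
    intro x
    obtain ⟨y, hy⟩ := hf x
    refine ⟨y, ?_⟩
    have : y • b = x := by
      rw [← hy]
      show y • f 1 = f y
      rw [← map_smul, smul_eq_mul, mul_one]
    rw [← this]
    rfl
  obtain ⟨x, hx⟩ := (E₁_bijective a ω).2 1
  choose y hy using fun i => hgen (x i)
  have hz : (∑ i, ω i ⊗ₜ[k] y i) * (b : K ⊗[k] A) = 1 := by
    rw [← hx, Finset.sum_mul]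
    show _ = ∑ i, ω i • (x i : K ⊗[k] A)
    refine Finset.sum_congr rfl (fun i _ => ?_)
    rw [← hy i, ← smul_mul_assoc, TensorProduct.smul_tmul', smul_eq_mul, mul_one]
  obtain ⟨bu, hbu⟩ := (isUnit_iff_exists_inv' (a := (b : K ⊗[k] A))).mpr ⟨_, hz⟩
  exact ⟨bu, hbu ▸ b.2⟩

end finite

section main
variable (k : Type u) [Field k] (K : Type v) [Field K] [Algebra k K] [FiniteDimensional k K]
  [IsGalois k K] (A : Type w) [Ring A] [Algebra k A] [FiniteDimensional k A]

theorem main : GpH1.H1.IsTrivial (K ≃ₐ[k] K) (K ⊗[k] A)ˣ := by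
  intro x
  obtain ⟨a, rfl⟩ := GpH1.OneCocycle.cl_surjective x
  show a.cl = (GpH1.OneCocycle.trivial : GpH1.OneCocycle (K ≃ₐ[k] K) (K ⊗[k] A)ˣ).cl
  rw [GpH1.OneCocycle.cl_eq_cl_iff]
  rcases finite_or_infinite k with hfin | hinf
  · obtain ⟨b, hb⟩ := exists_unit_finite a
    exact cohomologous_trivial_of_unit a b hb
  · obtain ⟨b, hb⟩ := exists_unit_infinite a
    exact cohomologous_trivial_of_unit a b hb

end main

end Groth.Agent.Lib.Helper15.H1Units
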