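import Mathlib

set_option autoImplicit false

/-! Element chases (modules over a ring) for the 3×3 / sections bijection. -/

namespace Groth.Agent.Lib.Helper15.HA1

open Function

variable {R : Type*} [Ring R]
  {A₁ A₂ A₃ B₂ C₁ C₂ C₃ Z K : Type*}
  [AddCommGroup A₁] [Module R A₁] [AddCommGroup A₂] [Module R A₂] [AddCommGroup A₃] [Module R A₃]
  [AddCommGroup B₂] [Module R B₂] [AddCommGroup C₁] [Module R C₁] [AddCommGroup C₂] [Module R C₂]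
  [AddCommGroup C₃] [Module R C₃] [AddCommGroup Z] [Module R Z] [AddCommGroup K] [Module R K]

theorem X1 (i₁ : A₁ →ₗ[R] A₂) (p₁ : A₂ →ₗ[R] A₃) (i₂ : A₂ →ₗ[R] B₂) (π₂ : B₂ →ₗ[R] C₂)
    (j : C₁ →ₗ[R] C₂) (q : C₂ →ₗ[R] C₃)
    (ι : Z →ₗ[R] B₂) (t : A₁ →ₗ[R] Z) (π : Z →ₗ[R] K) (u : A₂ →ₗ[R] Z) (f : A₃ →ₗ[R] K)
    (g : K →ₗ[R] C₁)
    (hp₁ : Surjective p₁) (wA : ∀ a, p₁ (i₁ a) = 0)
    (hi₂ : Injective i₂) (hB : ∀ x, π₂ x = 0 → ∃ y, i₂ y = x) (hπ₂ : Surjective π₂)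
    (hj : Injective j) (wC : ∀ c, q (j c) = 0)
    (hι : Injective ι) (hZ : ∀ x, q (π₂ x) = 0 → ∃ z, ι z = x)
    (hπ : Surjective π) (hK : ∀ z, π z = 0 → ∃ a, t a = z)
    (H3 : ∀ a, ι (t a) = i₂ (i₁ a)) (H4 : ∀ x, ι (u x) = i₂ x) (H5 : ∀ x, f (p₁ x) = π (u x))
    (H6 : ∀ z, j (g (π z)) = π₂ (ι z)) :
    Injective f ∧ Surjective g ∧ ∀ k, g k = 0 → ∃ x, f x = k := by
  refine ⟨?_, ?_, ?_⟩
  · rw [injective_iff_map_eq_zero]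
    intro x₃ hx₃
    obtain ⟨x₂, rfl⟩ := hp₁ x₃
    rw [H5] at hx₃
    obtain ⟨a₁, ha₁⟩ := hK _ hx₃
    have h1 : i₂ x₂ = i₂ (i₁ a₁) := by rw [← H4, ← ha₁, H3]
    rw [hi₂ h1, wA]
  · intro c₁
    obtain ⟨b, hb⟩ := hπ₂ (j c₁)
    obtain ⟨z, hz⟩ := hZ b (by rw [hb, wC])
    refine ⟨π z, hj ?_⟩
    rw [H6, hz, hb]
  · intro k hk
    obtain ⟨z, rfl⟩ := hπ k
    have h1 : π₂ (ι z) = 0 := by rw [← H6, hk, map_zero]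
    obtain ⟨x₂, hx₂⟩ := hB _ h1
    have h2 : u x₂ = z := hι (by rw [H4, hx₂])
    exact ⟨p₁ x₂, by rw [H5, h2]⟩

variable {P Q E : Type*} [AddCommGroup P] [Module R P] [AddCommGroup Q] [Module R Q]
  [AddCommGroup E] [Module R E]

theorem X2 (p₁ : A₂ →ₗ[R] A₃) (i₂ : A₂ →ₗ[R] B₂) (π₂ : B₂ →ₗ[R] C₂) (q : C₂ →ₗ[R] C₃)
    (ι : Z →ₗ[R] B₂) (t : A₁ →ₗ[R] Z) (π : Z →ₗ[R] K) (u : A₂ →ₗ[R] Z) (f : A₃ →ₗ[R] K)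
    (g : K →ₗ[R] C₁) (s : C₁ →ₗ[R] K) (m : P →ₗ[R] Z) (n : P →ₗ[R] C₁) (a : A₁ →ₗ[R] P)
    (ρ : B₂ →ₗ[R] Q) (a' : A₃ →ₗ[R] Q) (c' : Q →ₗ[R] C₃)
    (hp₁ : Surjective p₁) (hι : Injective ι) (hZ : ∀ x, q (π₂ x) = 0 → ∃ z, ι z = x)
    (hK : ∀ z, π z = 0 → ∃ a, t a = z)
    (H4 : ∀ x, ι (u x) = i₂ x) (H5 : ∀ x, f (p₁ x) = π (u x))
    (hf : Injective f) (wfg : ∀ x, g (f x) = 0) (hfg : ∀ k, g k = 0 → ∃ x, f x = k)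
    (hs : ∀ c, g (s c) = c)
    (hn : Surjective n) (wan : ∀ a₁, n (a a₁) = 0)
    (ham : ∀ a₁, m (a a₁) = t a₁) (hmn : ∀ p, π (m p) = s (n p))
    (hρ : Surjective ρ) (hQ : ∀ b, ρ b = 0 → ∃ p, ι (m p) = b) (wρ : ∀ p, ρ (ι (m p)) = 0)
    (ha' : ∀ x, a' (p₁ x) = ρ (i₂ x)) (hc' : ∀ b, c' (ρ b) = q (π₂ b)) :
    Injective a' ∧ ∀ y, c' y = 0 → ∃ x, a' x = y := by
  refine ⟨?_, ?_⟩
  · rw [injective_iff_map_eq_zero]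
    intro x₃ hx₃
    obtain ⟨x₂, rfl⟩ := hp₁ x₃
    rw [ha'] at hx₃
    obtain ⟨p, hp⟩ := hQ _ hx₃
    have h1 : m p = u x₂ := hι (by rw [hp, H4])
    have h2 : f (p₁ x₂) = s (n p) := by rw [H5, ← h1, hmn]
    have h3 : n p = 0 := by
      have := congrArg g h2
      rw [hs, wfg] at this
      exact this.symm
    rw [h3, map_zero] at h2
    exact hf (by rw [h2, map_zero])
  · intro y hy
    obtain ⟨b, rfl⟩ := hρ y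
    rw [hc'] at hy
    obtain ⟨z, rfl⟩ := hZ b hy
    have h4 : g (π z - s (g (π z))) = 0 := by rw [map_sub, hs, sub_self]
    obtain ⟨x₃, hx₃⟩ := hfg _ h4
    obtain ⟨x₂, rfl⟩ := hp₁ x₃
    obtain ⟨p₀, hp₀⟩ := hn (g (π z))
    have h6 : π (z - u x₂ - m p₀) = 0 := by
      rw [map_sub, map_sub, ← H5, hx₃, hmn, hp₀]; abel
    obtain ⟨a₁, ha₁⟩ := hK _ h6
    have h7 : z = u x₂ + m (p₀ + a a₁) := by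
      rw [map_add, ham, ha₁]; abel
    refine ⟨p₁ x₂, ?_⟩
    rw [ha', h7, map_add, map_add, wρ, add_zero, H4]

theorem X3 (t : A₁ →ₗ[R] Z) (π : Z →ₗ[R] K) (b : P →ₗ[R] Z) (a : A₁ →ₗ[R] P) (c : P →ₗ[R] C₁)
    (s : C₁ →ₗ[R] K) (e : K →ₗ[R] E)
    (hK : ∀ z, π z = 0 → ∃ a, t a = z) (hc : Surjective c)
    (hab : ∀ a₁, b (a a₁) = t a₁) (hcs : ∀ p, s (c p) = π (b p))
    (hse : ∀ k, e k = 0 → ∃ c₁, s c₁ = k) :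
    ∀ z, e (π z) = 0 → ∃ p, b p = z := by
  intro z hz
  obtain ⟨c₁, hc₁⟩ := hse _ hz
  obtain ⟨p₀, hp₀⟩ := hc c₁
  have h1 : π (z - b p₀) = 0 := by rw [map_sub, ← hcs, hp₀, hc₁, sub_self]
  obtain ⟨a₁, ha₁⟩ := hK _ h1
  exact ⟨p₀ + a a₁, by rw [map_add, hab, ha₁]; abel⟩

end Groth.Agent.Lib.Helper15.HA1
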