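import Mathlib
import Groth.Agent.Lib.Helper15.HA1

set_option autoImplicit false

/-! Transfer of the element chases to an arbitrary abelian category via the Freyd–Mitchell
embedding. -/

namespace Groth.Agent.Lib.Helper15.HA2

universe v u w

open CategoryTheory CategoryTheory.Limits

section Transfer

variable {C : Type u} [Category.{v} C] [Abelian C] {R : Type w} [Ring R]
  (Φ : C ⥤ ModuleCat.{w} R) [Φ.Faithful] [PreservesFiniteLimits Φ] [PreservesFiniteColimits Φ]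

lemma inj_of_mono {X Y : C} (f : X ⟶ Y) [Mono f] : Function.Injective (Φ.map f).hom := by
  haveI : Mono (Φ.map f) := inferInstance
  exact (ModuleCat.mono_iff_injective (Φ.map f)).mp inferInstance

lemma surj_of_epi {X Y : C} (f : X ⟶ Y) [Epi f] : Function.Surjective (Φ.map f).hom := by
  haveI : Epi (Φ.map f) := inferInstance
  exact (ModuleCat.epi_iff_surjective (Φ.map f)).mp inferInstance

lemma mono_of_inj {X Y : C} (f : X ⟶ Y) (h : Function.Injective (Φ.map f).hom) : Mono f := by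
  haveI : Mono (Φ.map f) := (ModuleCat.mono_iff_injective _).mpr h
  exact Φ.mono_of_mono_map ‹_›

lemma epi_of_surj {X Y : C} (f : X ⟶ Y) (h : Function.Surjective (Φ.map f).hom) : Epi f := by
  haveI : Epi (Φ.map f) := (ModuleCat.epi_iff_surjective _).mpr h
  exact Φ.epi_of_epi_map ‹_›

lemma exact_elt (S : ShortComplex C) (hS : S.Exact) :
    ∀ x, (Φ.map S.g).hom x = 0 → ∃ y, (Φ.map S.f).hom y = x :=
  (ShortComplex.moduleCat_exact_iff (S.map Φ)).mp (hS.map Φ)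

lemma exact_of_elt (S : ShortComplex C)
    (h : ∀ x, (Φ.map S.g).hom x = 0 → ∃ y, (Φ.map S.f).hom y = x) : S.Exact :=
  (S.exact_map_iff_of_faithful Φ).mp ((ShortComplex.moduleCat_exact_iff (S.map Φ)).mpr h)

lemma elt_comp {X Y W : C} (f : X ⟶ Y) (g : Y ⟶ W) (x : Φ.obj X) :
    (Φ.map (f ≫ g)).hom x = (Φ.map g).hom ((Φ.map f).hom x) := by
  rw [Φ.map_comp]; rfl

lemma elt_zero {X Y : C} (x : Φ.obj X) : (Φ.map (0 : X ⟶ Y)).hom x = 0 := by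
  rw [Φ.map_zero]; rfl

lemma elt_id {X : C} (x : Φ.obj X) : (Φ.map (𝟙 X)).hom x = x := by
  rw [Φ.map_id]; rfl

end Transfer

variable {C : Type u} [Category.{v} C] [Abelian C] {A₁ A₂ A₃ B₂ C₁ C₂ C₃ Z K : C}

theorem X1 (i₁ : A₁ ⟶ A₂) (p₁ : A₂ ⟶ A₃) (wA : i₁ ≫ p₁ = 0)
    (hA : (ShortComplex.mk i₁ p₁ wA).ShortExact)
    (i₂ : A₂ ⟶ B₂) (π₂ : B₂ ⟶ C₂) (wB : i₂ ≫ π₂ = 0) (hB : (ShortComplex.mk i₂ π₂ wB).ShortExact)
    (j : C₁ ⟶ C₂) (q : C₂ ⟶ C₃) (wC : j ≫ q = 0) (hC : (ShortComplex.mk j q wC).ShortExact)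
    (ι : Z ⟶ B₂) (wι : ι ≫ π₂ ≫ q = 0) (hZ : (ShortComplex.mk ι (π₂ ≫ q) wι).ShortExact)
    (t : A₁ ⟶ Z) (π : Z ⟶ K) (wt : t ≫ π = 0) (hK : (ShortComplex.mk t π wt).ShortExact)
    (u : A₂ ⟶ Z) (f : A₃ ⟶ K) (g : K ⟶ C₁)
    (H3 : t ≫ ι = i₁ ≫ i₂) (H4 : u ≫ ι = i₂) (H5 : p₁ ≫ f = u ≫ π)
    (H6 : π ≫ g ≫ j = ι ≫ π₂) (wfg : f ≫ g = 0) :
    Mono f ∧ Epi g ∧ (ShortComplex.mk f g wfg).Exact := by
  obtain ⟨R, _, Φ, _, _, _, _⟩ := Abelian.freyd_mitchell C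
  haveI := hA.mono_f; haveI := hA.epi_g; haveI := hB.mono_f; haveI := hB.epi_g
  haveI := hC.mono_f; haveI := hC.epi_g; haveI := hZ.mono_f; haveI := hZ.epi_g
  haveI := hK.mono_f; haveI := hK.epi_g
  have key := HA1.X1 (Φ.map i₁).hom (Φ.map p₁).hom (Φ.map i₂).hom (Φ.map π₂).hom (Φ.map j).hom
    (Φ.map q).hom (Φ.map ι).hom (Φ.map t).hom (Φ.map π).hom (Φ.map u).hom (Φ.map f).hom
    (Φ.map g).hom
    (surj_of_epi Φ p₁)
    (fun a => by rw [← elt_comp, wA, elt_zero])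
    (inj_of_mono Φ i₂)
    (exact_elt Φ _ hB.exact)
    (surj_of_epi Φ π₂)
    (inj_of_mono Φ j)
    (fun c => by rw [← elt_comp, wC, elt_zero])
    (inj_of_mono Φ ι)
    (fun x hx => exact_elt Φ _ hZ.exact x (by
      show (Φ.map (π₂ ≫ q)).hom x = 0
      rw [elt_comp]; exact hx))
    (surj_of_epi Φ π)
    (exact_elt Φ _ hK.exact)
    (fun a => by rw [← elt_comp, H3, elt_comp])
    (fun x => by rw [← elt_comp, H4])
    (fun x => by rw [← elt_comp, H5, elt_comp])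
    (fun z => by rw [← elt_comp, ← elt_comp, H6, elt_comp])
  exact ⟨mono_of_inj Φ f key.1, epi_of_surj Φ g key.2.1, exact_of_elt Φ _ key.2.2⟩

theorem X2 {P Q : C} (p₁ : A₂ ⟶ A₃) [Epi p₁] (i₂ : A₂ ⟶ B₂) (π₂ : B₂ ⟶ C₂) (q : C₂ ⟶ C₃)
    (ι : Z ⟶ B₂) (wι : ι ≫ π₂ ≫ q = 0) (hZ : (ShortComplex.mk ι (π₂ ≫ q) wι).ShortExact)
    (t : A₁ ⟶ Z) (π : Z ⟶ K) (wt : t ≫ π = 0) (hK : (ShortComplex.mk t π wt).ShortExact)
    (u : A₂ ⟶ Z) (f : A₃ ⟶ K) (g : K ⟶ C₁) (H4 : u ≫ ι = i₂) (H5 : p₁ ≫ f = u ≫ π)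
    (wfg : f ≫ g = 0) [Mono f] (hfg : (ShortComplex.mk f g wfg).Exact)
    (s : C₁ ⟶ K) (hs : s ≫ g = 𝟙 C₁)
    (m : P ⟶ Z) (n : P ⟶ C₁) (a : A₁ ⟶ P) (wan : a ≫ n = 0)
    (han : (ShortComplex.mk a n wan).ShortExact)
    (ham : a ≫ m = t) (hmn : m ≫ π = n ≫ s)
    (ρ : B₂ ⟶ Q) (wρ : (m ≫ ι) ≫ ρ = 0) (hρ : (ShortComplex.mk (m ≫ ι) ρ wρ).ShortExact)
    (a' : A₃ ⟶ Q) (c' : Q ⟶ C₃) (ha' : p₁ ≫ a' = i₂ ≫ ρ) (hc' : ρ ≫ c' = π₂ ≫ q)
    (wac' : a' ≫ c' = 0) :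
    Mono a' ∧ (ShortComplex.mk a' c' wac').Exact := by
  obtain ⟨R, _, Φ, _, _, _, _⟩ := Abelian.freyd_mitchell C
  haveI := hZ.mono_f; haveI := hZ.epi_g
  haveI := hK.mono_f; haveI := hK.epi_g
  haveI := han.mono_f; haveI := han.epi_g
  haveI := hρ.mono_f; haveI := hρ.epi_g
  have w' : m ≫ ι ≫ ρ = 0 := by rw [← Category.assoc]; exact wρ
  have key := HA1.X2 (Φ.map p₁).hom (Φ.map i₂).hom (Φ.map π₂).hom (Φ.map q).hom (Φ.map ι).hom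
    (Φ.map t).hom (Φ.map π).hom (Φ.map u).hom (Φ.map f).hom (Φ.map g).hom (Φ.map s).hom
    (Φ.map m).hom (Φ.map n).hom (Φ.map a).hom (Φ.map ρ).hom (Φ.map a').hom (Φ.map c').hom
    (surj_of_epi Φ p₁)
    (inj_of_mono Φ ι)
    (fun x hx => exact_elt Φ _ hZ.exact x (by
      show (Φ.map (π₂ ≫ q)).hom x = 0
      rw [elt_comp]; exact hx))
    (exact_elt Φ _ hK.exact)
    (fun x => by rw [← elt_comp, H4])
    (fun x => by rw [← elt_comp, H5, elt_comp])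
    (inj_of_mono Φ f)
    (fun x => by rw [← elt_comp, wfg, elt_zero])
    (exact_elt Φ _ hfg)
    (fun c => by rw [← elt_comp, hs, elt_id])
    (surj_of_epi Φ n)
    (fun a₁ => by rw [← elt_comp, wan, elt_zero])
    (fun a₁ => by rw [← elt_comp, ham])
    (fun p => by rw [← elt_comp, hmn, elt_comp])
    (surj_of_epi Φ ρ)
    (fun b hb => by
      obtain ⟨p, hp⟩ := exact_elt Φ _ hρ.exact b hb
      exact ⟨p, by rw [← elt_comp]; exact hp⟩)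
    (fun p => by rw [← elt_comp, ← elt_comp, w', elt_zero])
    (fun x => by rw [← elt_comp, ha', elt_comp])
    (fun b => by rw [← elt_comp, hc', elt_comp])
  exact ⟨mono_of_inj Φ a' key.1, exact_of_elt Φ _ key.2⟩

theorem X3 {P E : C} (t : A₁ ⟶ Z) (π : Z ⟶ K) (wt : t ≫ π = 0)
    (hK : (ShortComplex.mk t π wt).ShortExact)
    (b : P ⟶ Z) (a : A₁ ⟶ P) (c : P ⟶ C₁) [Epi c] (s : C₁ ⟶ K) (e : K ⟶ E)
    (hab : a ≫ b = t) (hcs : c ≫ s = b ≫ π) (wse : s ≫ e = 0)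
    (hse : (ShortComplex.mk s e wse).Exact) (wbe : b ≫ π ≫ e = 0) :
    (ShortComplex.mk b (π ≫ e) wbe).Exact := by
  obtain ⟨R, _, Φ, _, _, _, _⟩ := Abelian.freyd_mitchell C
  haveI := hK.mono_f; haveI := hK.epi_g
  have key := HA1.X3 (Φ.map t).hom (Φ.map π).hom (Φ.map b).hom (Φ.map a).hom (Φ.map c).hom
    (Φ.map s).hom (Φ.map e).hom
    (exact_elt Φ _ hK.exact)
    (surj_of_epi Φ c)
    (fun a₁ => by rw [← elt_comp, hab])
    (fun p => by rw [← elt_comp, hcs, elt_comp])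
    (exact_elt Φ _ hse)
  apply exact_of_elt Φ
  intro x hx
  have hx' : (Φ.map (π ≫ e)).hom x = 0 := hx
  rw [elt_comp] at hx'
  exact key x hx'

end Groth.Agent.Lib.Helper15.HA2
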