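import Mathlib
import Groth.Agent.Lib.Helper15.HA2

set_option autoImplicit false

/-! Abstract assembly for the 3×3 / sections bijection. -/

namespace Groth.Agent.Lib.Helper15.HA3

universe v u

open CategoryTheory CategoryTheory.Limits

noncomputable section

variable {C : Type u} [Category.{v} C] [Abelian C] {A₁ A₂ A₃ B₂ C₁ C₂ C₃ : C}
  (i₁ : A₁ ⟶ A₂) (p₁ : A₂ ⟶ A₃) (wA : i₁ ≫ p₁ = 0) (hA : (ShortComplex.mk i₁ p₁ wA).ShortExact)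
  (i₂ : A₂ ⟶ B₂) (π₂ : B₂ ⟶ C₂) (wB : i₂ ≫ π₂ = 0) (hB : (ShortComplex.mk i₂ π₂ wB).ShortExact)
  (j : C₁ ⟶ C₂) (q : C₂ ⟶ C₃) (wC : j ≫ q = 0) (hC : (ShortComplex.mk j q wC).ShortExact)
  (w : (i₁ ≫ i₂) ≫ (π₂ ≫ q) = 0) (h₂ : i₂ ≫ (π₂ ≫ q) = 0) (h₃ : (i₁ ≫ i₂) ≫ π₂ = 0)

/-- the short complex `A₁ ⟶ B₂ ⟶ C₃` -/
abbrev SS : ShortComplex C := ShortComplex.mk (i₁ ≫ i₂) (π₂ ≫ q) w

include hB hC in
lemma hZ : (ShortComplex.mk (SS i₁ i₂ π₂ q w).iCycles (π₂ ≫ q)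
    (SS i₁ i₂ π₂ q w).iCycles_g).ShortExact := by
  haveI := hB.epi_g
  haveI := hC.epi_g
  exact
    { exact := ShortComplex.exact_of_f_is_kernel _ (SS i₁ i₂ π₂ q w).cyclesIsKernel
      mono_f := inferInstanceAs (Mono (SS i₁ i₂ π₂ q w).iCycles)
      epi_g := inferInstanceAs (Epi (π₂ ≫ q)) }

include hA hB in
lemma mono_toCycles : Mono (SS i₁ i₂ π₂ q w).toCycles := by
  haveI := hA.mono_f
  haveI := hB.mono_f
  haveI : Mono ((SS i₁ i₂ π₂ q w).toCycles ≫ (SS i₁ i₂ π₂ q w).iCycles) := by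
    rw [(SS i₁ i₂ π₂ q w).toCycles_i]
    exact inferInstanceAs (Mono (i₁ ≫ i₂))
  exact mono_of_mono (SS i₁ i₂ π₂ q w).toCycles (SS i₁ i₂ π₂ q w).iCycles

include hA hB in
lemma hK : (ShortComplex.mk (SS i₁ i₂ π₂ q w).toCycles (SS i₁ i₂ π₂ q w).homologyπ
    (SS i₁ i₂ π₂ q w).toCycles_comp_homologyπ).ShortExact :=
  { exact := ShortComplex.exact_of_g_is_cokernel _ (SS i₁ i₂ π₂ q w).homologyIsCokernel
    mono_f := mono_toCycles i₁ p₁ wA hA i₂ π₂ wB hB q w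
    epi_g := inferInstanceAs (Epi (SS i₁ i₂ π₂ q w).homologyπ) }

variable (f : A₃ ⟶ (SS i₁ i₂ π₂ q w).homology) (g : (SS i₁ i₂ π₂ q w).homology ⟶ C₁)
  (hf : p₁ ≫ f = (SS i₁ i₂ π₂ q w).liftCycles i₂ h₂ ≫ (SS i₁ i₂ π₂ q w).homologyπ)
  (hg : g ≫ j = (SS i₁ i₂ π₂ q w).homologyι ≫ (SS i₁ i₂ π₂ q w).descOpcycles π₂ h₃)

include hg in
lemma H6 : (SS i₁ i₂ π₂ q w).homologyπ ≫ g ≫ j = (SS i₁ i₂ π₂ q w).iCycles ≫ π₂ := by
  rw [hg, ← Category.assoc, (SS i₁ i₂ π₂ q w).homology_π_ι, Category.assoc,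
    (SS i₁ i₂ π₂ q w).p_descOpcycles]

include wB hA hC hf hg in
lemma wfg : f ≫ g = 0 := by
  haveI := hA.epi_g
  haveI := hC.mono_f
  rw [← cancel_epi p₁, ← cancel_mono j, comp_zero, zero_comp, Category.assoc, Category.assoc,
    ← Category.assoc p₁, hf, Category.assoc, H6 i₁ i₂ π₂ j q w h₃ g hg, ← Category.assoc,
    (SS i₁ i₂ π₂ q w).liftCycles_i, wB]

include hA hB hC hf hg in
lemma E3 : Mono f ∧ Epi g ∧ (ShortComplex.mk f g (wfg i₁ p₁ wA hA i₂ π₂ wB j q wC hC w h₂ h₃ f g hf hg)).Exact :=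
  HA2.X1 i₁ p₁ wA hA i₂ π₂ wB hB j q wC hC (SS i₁ i₂ π₂ q w).iCycles
    (SS i₁ i₂ π₂ q w).iCycles_g (hZ i₁ i₂ π₂ wB hB j q wC hC w)
    (SS i₁ i₂ π₂ q w).toCycles (SS i₁ i₂ π₂ q w).homologyπ
    (SS i₁ i₂ π₂ q w).toCycles_comp_homologyπ (hK i₁ p₁ wA hA i₂ π₂ wB hB q w)
    ((SS i₁ i₂ π₂ q w).liftCycles i₂ h₂) f g
    (SS i₁ i₂ π₂ q w).toCycles_i ((SS i₁ i₂ π₂ q w).liftCycles_i i₂ h₂) hf
    (H6 i₁ i₂ π₂ j q w h₃ g hg) _

include hA hB hC hg in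
theorem core_forward {P : C} (μ : P ⟶ B₂) [Mono μ] (a : A₁ ⟶ P) (c : P ⟶ C₁) (wac : a ≫ c = 0)
    (h1 : a ≫ μ = i₁ ≫ i₂) (h2 : c ≫ j = μ ≫ π₂) (hac : (ShortComplex.mk a c wac).ShortExact) :
    ∃ (s : C₁ ⟶ (SS i₁ i₂ π₂ q w).homology) (b : P ⟶ (SS i₁ i₂ π₂ q w).cycles),
      s ≫ g = 𝟙 C₁ ∧ b ≫ (SS i₁ i₂ π₂ q w).iCycles = μ ∧
        IsPullback c b s (SS i₁ i₂ π₂ q w).homologyπ := by
  haveI := hac.mono_f
  haveI : Epi c := hac.epi_g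
  haveI := hC.mono_f
  have hμβ : μ ≫ (π₂ ≫ q) = 0 := by
    rw [← Category.assoc, ← h2, Category.assoc, wC, comp_zero]
  let b : P ⟶ (SS i₁ i₂ π₂ q w).cycles := (SS i₁ i₂ π₂ q w).liftCycles μ hμβ
  have hb : b ≫ (SS i₁ i₂ π₂ q w).iCycles = μ := (SS i₁ i₂ π₂ q w).liftCycles_i μ hμβ
  have hab : a ≫ b = (SS i₁ i₂ π₂ q w).toCycles := by
    rw [← cancel_mono (SS i₁ i₂ π₂ q w).iCycles, Category.assoc, hb, h1,
      (SS i₁ i₂ π₂ q w).toCycles_i]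
  have hbπ : a ≫ (b ≫ (SS i₁ i₂ π₂ q w).homologyπ) = 0 := by
    rw [← Category.assoc, hab, (SS i₁ i₂ π₂ q w).toCycles_comp_homologyπ]
  let s : C₁ ⟶ (SS i₁ i₂ π₂ q w).homology :=
    hac.exact.desc (b ≫ (SS i₁ i₂ π₂ q w).homologyπ) hbπ
  have hcs : c ≫ s = b ≫ (SS i₁ i₂ π₂ q w).homologyπ := hac.exact.g_desc _ _
  have hH6 := H6 i₁ i₂ π₂ j q w h₃ g hg
  have hs : s ≫ g = 𝟙 C₁ := by
    rw [← cancel_epi c, ← cancel_mono j]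
    have e1 : (c ≫ s ≫ g) ≫ j = (c ≫ s) ≫ g ≫ j := by simp only [Category.assoc]
    rw [e1, hcs, Category.assoc, hH6, ← Category.assoc, hb, Category.comp_id, h2]
  refine ⟨s, b, hs, hb, ?_⟩
  haveI : Mono s := mono_of_mono_fac hs
  haveI : Mono b := mono_of_mono_fac hb
  let e := cokernel.π s
  have hse : (ShortComplex.mk s e (cokernel.condition s)).Exact := ShortComplex.exact_cokernel s
  have wbe : b ≫ (SS i₁ i₂ π₂ q w).homologyπ ≫ e = 0 := by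
    rw [← Category.assoc, ← hcs, Category.assoc, cokernel.condition, comp_zero]
  have hex := HA2.X3 (SS i₁ i₂ π₂ q w).toCycles (SS i₁ i₂ π₂ q w).homologyπ
    (SS i₁ i₂ π₂ q w).toCycles_comp_homologyπ (hK i₁ p₁ wA hA i₂ π₂ wB hB q w) b a c s e hab hcs
    (cokernel.condition s) hse wbe
  have hlift : ∀ T : PullbackCone s (SS i₁ i₂ π₂ q w).homologyπ,
      T.snd ≫ ((SS i₁ i₂ π₂ q w).homologyπ ≫ e) = 0 := by
    intro T
    rw [← Category.assoc, ← T.condition, Category.assoc, cokernel.condition, comp_zero]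
  refine ⟨⟨hcs⟩, ⟨PullbackCone.IsLimit.mk _ (fun T => hex.lift T.snd (hlift T)) ?_ ?_ ?_⟩⟩
  · intro T
    rw [← cancel_mono s, Category.assoc, hcs, ← Category.assoc]
    have := hex.lift_f T.snd (hlift T)
    rw [this, T.condition]
  · intro T
    exact hex.lift_f T.snd (hlift T)
  · intro T m' _ hm2
    rw [← cancel_mono b, hm2]
    exact (hex.lift_f T.snd (hlift T)).symm

include hA hB hC hf hg in
theorem core_backward (s : C₁ ⟶ (SS i₁ i₂ π₂ q w).homology) (hs : s ≫ g = 𝟙 C₁) {P : C}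
    (μ : P ⟶ B₂) [Mono μ] (m : P ⟶ (SS i₁ i₂ π₂ q w).cycles) (n : P ⟶ C₁)
    (hm : m ≫ (SS i₁ i₂ π₂ q w).iCycles = μ)
    (hpb : IsPullback n m s (SS i₁ i₂ π₂ q w).homologyπ) :
    ∃ (a : A₁ ⟶ P) (c : P ⟶ C₁) (wac : a ≫ c = 0) (a' : A₃ ⟶ cokernel μ)
      (c' : cokernel μ ⟶ C₃) (wac' : a' ≫ c' = 0),
      a ≫ μ = i₁ ≫ i₂ ∧ c ≫ j = μ ≫ π₂ ∧ (ShortComplex.mk a c wac).ShortExact ∧
      p₁ ≫ a' = i₂ ≫ cokernel.π μ ∧ cokernel.π μ ≫ c' = π₂ ≫ q ∧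
      (ShortComplex.mk a' c' wac').ShortExact := by
  subst hm
  obtain ⟨hfm, hge, hfgex⟩ := E3 i₁ p₁ wA hA i₂ π₂ wB hB j q wC hC w h₂ h₃ f g hf hg
  have hKK := hK i₁ p₁ wA hA i₂ π₂ wB hB q w
  have hZZ := hZ i₁ i₂ π₂ wB hB j q wC hC w
  haveI := hKK.mono_f
  haveI : Epi (SS i₁ i₂ π₂ q w).homologyπ := hKK.epi_g
  haveI : Epi p₁ := hA.epi_g
  haveI := hB.epi_g
  haveI := hC.epi_g
  have hH6 := H6 i₁ i₂ π₂ j q w h₃ g hg
  let a : A₁ ⟶ P := hpb.lift 0 (SS i₁ i₂ π₂ q w).toCycles (by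
    rw [zero_comp, (SS i₁ i₂ π₂ q w).toCycles_comp_homologyπ])
  have han : a ≫ n = 0 := hpb.lift_fst _ _ _
  have ham : a ≫ m = (SS i₁ i₂ π₂ q w).toCycles := hpb.lift_snd _ _ _
  have h1 : a ≫ m ≫ (SS i₁ i₂ π₂ q w).iCycles = i₁ ≫ i₂ := by
    rw [← Category.assoc, ham, (SS i₁ i₂ π₂ q w).toCycles_i]
  have h2 : n ≫ j = (m ≫ (SS i₁ i₂ π₂ q w).iCycles) ≫ π₂ := by
    rw [Category.assoc, ← hH6, ← Category.assoc, ← hpb.w, Category.assoc, ← Category.assoc s,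
      hs, Category.id_comp]
  haveI : Mono a := mono_of_mono_fac ham
  haveI : Epi n := Abelian.epi_fst_of_isLimit s (SS i₁ i₂ π₂ q w).homologyπ hpb.isLimit
  have hanex : (ShortComplex.mk a n han).Exact := by
    apply ShortComplex.exact_of_f_is_kernel
    apply KernelFork.IsLimit.ofι' a han
    intro T x hx
    have hx1 : (x ≫ m) ≫ (SS i₁ i₂ π₂ q w).homologyπ = 0 := by
      rw [Category.assoc, ← hpb.w, ← Category.assoc, hx, zero_comp]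
    refine ⟨hKK.exact.lift (x ≫ m) hx1, ?_⟩
    apply hpb.hom_ext
    · rw [Category.assoc, han, comp_zero, hx]
    · rw [Category.assoc, ham]
      exact hKK.exact.lift_f (x ≫ m) hx1
  have hanse : (ShortComplex.mk a n han).ShortExact :=
    { exact := hanex, mono_f := inferInstanceAs (Mono a), epi_g := inferInstanceAs (Epi n) }
  let μ := m ≫ (SS i₁ i₂ π₂ q w).iCycles
  let ρ := cokernel.π μ
  have hρ1 : i₁ ≫ (i₂ ≫ ρ) = 0 := by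
    have h0 : (a ≫ m ≫ (SS i₁ i₂ π₂ q w).iCycles) ≫ ρ = 0 := by
      have hc := cokernel.condition μ
      show (a ≫ μ) ≫ cokernel.π μ = 0
      rw [Category.assoc, hc, comp_zero]
    rw [← Category.assoc, ← h1]
    exact h0
  let a' : A₃ ⟶ cokernel μ := hA.exact.desc (i₂ ≫ ρ) hρ1
  have ha' : p₁ ≫ a' = i₂ ≫ ρ := hA.exact.g_desc _ _
  have hμβ : μ ≫ (π₂ ≫ q) = 0 := by
    show (m ≫ (SS i₁ i₂ π₂ q w).iCycles) ≫ (π₂ ≫ q) = 0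
    rw [Category.assoc, (SS i₁ i₂ π₂ q w).iCycles_g, comp_zero]
  let c' : cokernel μ ⟶ C₃ := cokernel.desc μ (π₂ ≫ q) hμβ
  have hc' : ρ ≫ c' = π₂ ≫ q := cokernel.π_desc _ _ _
  have wac' : a' ≫ c' = 0 := by
    rw [← cancel_epi p₁, comp_zero, ← Category.assoc, ha', Category.assoc, hc', h₂]
  have hρse : (ShortComplex.mk μ ρ (cokernel.condition μ)).ShortExact :=
    { exact := ShortComplex.exact_cokernel μ
      mono_f := inferInstanceAs (Mono μ)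
      epi_g := inferInstanceAs (Epi (cokernel.π μ)) }
  obtain ⟨hma', hexa'⟩ := HA2.X2 p₁ i₂ π₂ q (SS i₁ i₂ π₂ q w).iCycles
    (SS i₁ i₂ π₂ q w).iCycles_g hZZ (SS i₁ i₂ π₂ q w).toCycles (SS i₁ i₂ π₂ q w).homologyπ
    (SS i₁ i₂ π₂ q w).toCycles_comp_homologyπ hKK ((SS i₁ i₂ π₂ q w).liftCycles i₂ h₂) f g
    ((SS i₁ i₂ π₂ q w).liftCycles_i i₂ h₂) hf _ hfgex s hs m n a han hanse ham hpb.w.symm
    ρ (cokernel.condition μ) hρse a' c' ha' hc' wac'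
  haveI : Epi c' := epi_of_epi_fac hc'
  exact ⟨a, n, han, a', c', wac', h1, h2, hanse, ha', hc',
    { exact := hexa', mono_f := hma', epi_g := inferInstanceAs (Epi c') }⟩

end

end Groth.Agent.Lib.Helper15.HA3
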