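import Mathlib
import Groth.Agent.Lib.Helper15.HA3

set_option autoImplicit false

/-! Bridge between pullback squares and the subobject attached to a section. -/

namespace Groth.Agent.Lib.Helper15.HA4

universe v u

open CategoryTheory CategoryTheory.Limits

variable {C : Type u} [Category.{v} C] [Abelian C]

lemma sub_eq {Z K B₂ C₁ P : C} (ι : Z ⟶ B₂) [Mono ι] (π : Z ⟶ K) (s : C₁ ⟶ K) [Mono s]
    (n : P ⟶ C₁) (m : P ⟶ Z) [Mono m] (hpb : IsPullback n m s π) :
    (Subobject.map ι).obj ((Subobject.pullback π).obj (imageSubobject s)) =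
      Subobject.mk (m ≫ ι) := by
  rw [imageSubobject_mono, Subobject.pullback_obj_mk hpb, Subobject.map_mk]

/-- injectivity of the assignment section ↦ subobject -/
lemma section_ext {Z K B₂ C₁ : C} (ι : Z ⟶ B₂) [Mono ι] (π : Z ⟶ K) [Epi π] (g : K ⟶ C₁)
    (s s' : C₁ ⟶ K) (hs : s ≫ g = 𝟙 C₁) (hs' : s' ≫ g = 𝟙 C₁)
    (heq : (Subobject.map ι).obj ((Subobject.pullback π).obj (imageSubobject s)) =
      (Subobject.map ι).obj ((Subobject.pullback π).obj (imageSubobject s'))) : s = s' := by
  haveI : Mono s := mono_of_mono_fac hs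
  haveI : Mono s' := mono_of_mono_fac hs'
  rw [sub_eq ι π s _ _ (IsPullback.of_hasPullback s π),
    sub_eq ι π s' _ _ (IsPullback.of_hasPullback s' π)] at heq
  let θ := Subobject.isoOfMkEqMk _ _ heq
  have hθ : θ.hom ≫ (pullback.snd s' π ≫ ι) = pullback.snd s π ≫ ι :=
    Subobject.ofMkLEMk_comp heq.le
  have hθ' : θ.hom ≫ pullback.snd s' π = pullback.snd s π := by
    rw [← cancel_mono ι, Category.assoc]; exact hθ
  have e1 : pullback.fst s π ≫ s = θ.hom ≫ pullback.fst s' π ≫ s' := by
    rw [pullback.condition, ← hθ', Category.assoc, ← pullback.condition]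
  have e2 : pullback.fst s π = θ.hom ≫ pullback.fst s' π := by
    have h := congrArg (· ≫ g) e1
    simp only [Category.assoc, hs, hs', Category.comp_id] at h
    exact h
  haveI : Epi (pullback.fst s π) := Abelian.epi_pullback_of_epi_g s π
  rw [← cancel_epi (pullback.fst s π), e1, e2, Category.assoc]

end Groth.Agent.Lib.Helper15.HA4
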