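import Mathlib

set_option autoImplicit false
set_option linter.style.haveILetI false

namespace Groth.Agent.Lib.Helper15.HDP

universe u v

section Len

variable {k : Type*} {R : Type*} [Field k] [CommRing R] [Algebra k R]

/-- A simple module over a `k`-algebra all of whose residue fields are `k` has `k`-dimension one. -/
theorem finrank_simple_eq_one
    (h : ∀ 𝔪 : Ideal R, 𝔪.IsMaximal → Function.Surjective (algebraMap k (R ⧸ 𝔪)))
    (S : Type*) [AddCommGroup S] [Module R S] [Module k S]
    [IsScalarTower k R S] [IsSimpleModule R S] :
    Module.finrank k S = 1 := by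
  obtain ⟨I, hI, ⟨e⟩⟩ := isSimpleModule_iff_quot_maximal.mp (inferInstance : IsSimpleModule R S)
  let e' : S ≃ₗ[k] (R ⧸ I) := e.restrictScalars k
  rw [e'.finrank_eq]
  haveI : I.IsMaximal := hI
  letI : Field (R ⧸ I) := Ideal.Quotient.field I
  have hbij : Function.Bijective (algebraMap k (R ⧸ I)) :=
    ⟨(algebraMap k (R ⧸ I)).injective, h I hI⟩
  let eq : k ≃ₗ[k] (R ⧸ I) :=
    LinearEquiv.ofBijective (Algebra.linearMap k (R ⧸ I)) hbij
  rw [← eq.finrank_eq]
  exact Module.finrank_self k

theorem length_eq_finrank_aux
    (h : ∀ 𝔪 : Ideal R, 𝔪.IsMaximal → Function.Surjective (algebraMap k (R ⧸ 𝔪))) :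
    ∀ (n : ℕ) (M : Type v) [AddCommGroup M] [Module R M] [Module k M] [IsScalarTower k R M]
      [Module.Finite k M], Module.finrank k M = n → Module.length R M = n := by
  intro n
  induction n using Nat.strong_induction_on with
  | _ n ih =>
    intro M _ _ _ _ _ hn
    haveI hArt : IsArtinian R M := isArtinian_of_tower k inferInstance
    haveI hNoe : IsNoetherian R M := isNoetherian_of_tower k inferInstance
    by_cases hM : Subsingleton M
    · have h0 : Module.length R M = 0 := Module.length_eq_zero_iff.mpr hM
      rw [h0, ← hn, Module.finrank_zero_of_subsingleton]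
      simp
    · rw [not_subsingleton_iff_nontrivial] at hM
      obtain ⟨S, hS⟩ := IsAtomic.exists_atom (Submodule R M)
      haveI hSsimple : IsSimpleModule R S := isSimpleModule_iff_isAtom.mpr hS
      have hS1 : Module.finrank k S = 1 := finrank_simple_eq_one h S
      have e1 := Submodule.finrank_quotient_add_finrank (S.restrictScalars k)
      have e2 : Module.finrank k (M ⧸ S) = Module.finrank k (M ⧸ S.restrictScalars k) :=
        (LinearEquiv.finrank_eq (Submodule.Quotient.restrictScalarsEquiv k S)).symm
      have e3 : Module.finrank k (S.restrictScalars k) = Module.finrank k S := rfl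
      have hq : Module.finrank k (M ⧸ S) + 1 = n := by
        rw [e2, ← hS1, ← e3, e1, hn]
      have hlt : Module.finrank k (M ⧸ S) < n := by omega
      have hIH := ih _ hlt (M ⧸ S) rfl
      have hadd : Module.length R M = Module.length R S + Module.length R (M ⧸ S) :=
        Module.length_eq_add_of_exact S.subtype S.mkQ S.injective_subtype S.mkQ_surjective
          (LinearMap.exact_subtype_mkQ S)
      rw [hadd, hIH, Module.length_eq_one, ← hq]
      push_cast
      rw [add_comm]

/-- Over a `k`-algebra whose residue fields are all `k`, the length of a module which is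
finite-dimensional over `k` is its `k`-dimension. -/
theorem length_eq_finrank
    (h : ∀ 𝔪 : Ideal R, 𝔪.IsMaximal → Function.Surjective (algebraMap k (R ⧸ 𝔪)))
    (M : Type v) [AddCommGroup M] [Module R M] [Module k M] [IsScalarTower k R M]
    [Module.Finite k M] : Module.length R M = Module.finrank k M :=
  length_eq_finrank_aux h _ M rfl

/-- Comparison of lengths through two surjections from the same source. -/
theorem length_le_of_ker_le {V W U : Type*} [AddCommGroup V] [Module k V] [AddCommGroup W]
    [Module k W] [AddCommGroup U] [Module k U] (π : V →ₗ[k] W) (ρ : V →ₗ[k] U)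
    (hπ : Function.Surjective π) (hρ : Function.Surjective ρ)
    (hk : LinearMap.ker π ≤ LinearMap.ker ρ) : Module.length k U ≤ Module.length k W := by
  let e1 := π.quotKerEquivOfSurjective hπ
  let e2 := ρ.quotKerEquivOfSurjective hρ
  let q : (V ⧸ LinearMap.ker π) →ₗ[k] (V ⧸ LinearMap.ker ρ) :=
    Submodule.mapQ _ _ LinearMap.id (by simpa using hk)
  have hq : Function.Surjective q := by
    intro y
    obtain ⟨v, rfl⟩ := Submodule.Quotient.mk_surjective _ y
    exact ⟨Submodule.Quotient.mk v, rfl⟩
  calc Module.length k U = Module.length k (V ⧸ LinearMap.ker ρ) := e2.length_eq.symm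
    _ ≤ Module.length k (V ⧸ LinearMap.ker π) := Module.length_le_of_surjective q hq
    _ = Module.length k W := e1.length_eq

end Len

end Groth.Agent.Lib.Helper15.HDP
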