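import Mathlib
import Groth.Agent.Lib.Helper15.HDP1

set_option autoImplicit false
set_option linter.style.haveILetI false
set_option linter.unusedSectionVars false

namespace Groth.Agent.Lib.Helper15.HDP

open MvPowerSeries Finset

universe u

variable {k : Type u} [Field k]

/-- exponent vector `(a, i, j)` -/
noncomputable def ex (a i j : ℕ) : Fin 3 →₀ ℕ :=
  Finsupp.single 0 a + Finsupp.single 1 i + Finsupp.single 2 j

@[simp] lemma ex_zero' (a i j : ℕ) : ex a i j 0 = a := by simp [ex]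
@[simp] lemma ex_one' (a i j : ℕ) : ex a i j 1 = i := by simp [ex]
@[simp] lemma ex_two' (a i j : ℕ) : ex a i j 2 = j := by simp [ex]

lemma ex_eta (d : Fin 3 →₀ ℕ) : ex (d 0) (d 1) (d 2) = d := by
  ext t; fin_cases t <;> simp [ex]

lemma ex_add (a i j a' i' j' : ℕ) :
    ex a i j + ex a' i' j' = ex (a + a') (i + i') (j + j') := by
  ext t; fin_cases t <;> simp

lemma ex_inj {a i j a' i' j' : ℕ} : ex a i j = ex a' i' j' ↔ a = a' ∧ i = i' ∧ j = j' := by
  constructor
  · intro h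
    refine ⟨?_, ?_, ?_⟩
    · simpa using DFunLike.congr_fun h 0
    · simpa using DFunLike.congr_fun h 1
    · simpa using DFunLike.congr_fun h 2
  · rintro ⟨rfl, rfl, rfl⟩; rfl

lemma ex_le_iff {a i j : ℕ} {d : Fin 3 →₀ ℕ} :
    ex a i j ≤ d ↔ a ≤ d 0 ∧ i ≤ d 1 ∧ j ≤ d 2 := by
  constructor
  · intro h
    refine ⟨?_, ?_, ?_⟩
    · simpa using h 0
    · simpa using h 1
    · simpa using h 2
  · rintro ⟨h0, h1, h2⟩ t
    fin_cases t <;> simpa

lemma sub_ex (a i j : ℕ) (d : Fin 3 →₀ ℕ) :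
    d - ex a i j = ex (d 0 - a) (d 1 - i) (d 2 - j) := by
  ext t; fin_cases t <;> simp

/-- the monomial `x^a y^i t^j` -/
noncomputable def mon (a i j : ℕ) : MvPowerSeries (Fin 3) k := X 0 ^ a * X 1 ^ i * X 2 ^ j

lemma mon_eq (a i j : ℕ) : (mon a i j : MvPowerSeries (Fin 3) k) = monomial (ex a i j) 1 := by
  simp [mon, ex, X_pow_eq, monomial_mul_monomial]

/-- weight with `wt x = 3`, `wt y = 2`, `wt t = 1` -/
def wt (d : Fin 3 →₀ ℕ) : ℕ := 3 * d 0 + 2 * d 1 + d 2

lemma wt_add (d e : Fin 3 →₀ ℕ) : wt (d + e) = wt d + wt e := by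
  simp only [wt, Finsupp.add_apply]; ring

@[simp] lemma wt_ex (a i j : ℕ) : wt (ex a i j) = 3 * a + 2 * i + j := by simp [wt]

/-- The ideal of power series all of whose monomials have weight at least `w`. -/
def Fil (w : ℕ) : Ideal (MvPowerSeries (Fin 3) k) where
  carrier := {g | ∀ d, wt d < w → coeff d g = 0}
  zero_mem' := by intro d _; simp
  add_mem' := by
    intro a b ha hb d hd
    simp [ha d hd, hb d hd]
  smul_mem' := by
    intro c g hg d hd
    classical
    rw [smul_eq_mul, coeff_mul]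
    apply Finset.sum_eq_zero
    intro p hp
    rw [Finset.HasAntidiagonal.mem_antidiagonal] at hp
    have : wt p.2 < w := by rw [← hp, wt_add] at hd; omega
    rw [hg _ this, mul_zero]

lemma mem_Fil {w : ℕ} {g : MvPowerSeries (Fin 3) k} :
    g ∈ Fil w ↔ ∀ d, wt d < w → coeff d g = 0 := Iff.rfl

lemma Fil_mul {a b : ℕ} {g h : MvPowerSeries (Fin 3) k} (hg : g ∈ Fil a) (hh : h ∈ Fil b) :
    g * h ∈ Fil (a + b) := by
  classical
  intro d hd
  rw [coeff_mul]
  apply Finset.sum_eq_zero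
  intro p hp
  rw [Finset.HasAntidiagonal.mem_antidiagonal] at hp
  rw [← hp, wt_add] at hd
  by_cases h1 : wt p.1 < a
  · rw [hg _ h1, zero_mul]
  · have : wt p.2 < b := by omega
    rw [hh _ this, mul_zero]

lemma Fil_pow {w : ℕ} {J : Ideal (MvPowerSeries (Fin 3) k)} (hJ : J ≤ Fil w) (m : ℕ) :
    J ^ m ≤ Fil (m * w) := by
  induction m with
  | zero => intro g _ d hd; simp at hd
  | succ m ih =>
    rw [pow_succ, Ideal.mul_le]
    intro r hr s hs
    have := Fil_mul (ih hr) (hJ hs)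
    rwa [show m * w + w = (m + 1) * w by ring] at this

lemma mon_mem_Fil {w a i j : ℕ} (h : w ≤ 3 * a + 2 * i + j) :
    (mon a i j : MvPowerSeries (Fin 3) k) ∈ Fil w := by
  classical
  intro d hd
  rw [mon_eq, coeff_monomial]
  split_ifs with h1
  · subst h1; simp at hd; omega
  · rfl

/-- The reduction functional: coefficient of `x^ε y^i t^j` after replacing `x^2` by `y^n`. -/
noncomputable def psi (n : ℕ) : MvPowerSeries (Fin 3) k →ₗ[k] (ℕ × ℕ × ℕ → k) :=
  LinearMap.pi fun s => ∑ b ∈ range (s.2.1 + 1),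
    if n * b ≤ s.2.1 then coeff (ex (2 * b + s.1) (s.2.1 - n * b) s.2.2) else 0

lemma psi_apply (n : ℕ) (g : MvPowerSeries (Fin 3) k) (s : ℕ × ℕ × ℕ) :
    psi n g s = ∑ b ∈ range (s.2.1 + 1),
      if n * b ≤ s.2.1 then coeff (ex (2 * b + s.1) (s.2.1 - n * b) s.2.2) g else 0 := by
  simp only [psi, LinearMap.pi_apply, LinearMap.sum_apply]
  refine Finset.sum_congr rfl fun b _ => ?_
  split_ifs <;> simp

lemma psi_Fil {n w : ℕ} (hn : 3 ≤ n) {g : MvPowerSeries (Fin 3) k} (hg : g ∈ Fil w)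
    (s : ℕ × ℕ × ℕ) (hs : 3 * s.1 + 2 * s.2.1 + s.2.2 < w) : psi n g s = 0 := by
  rw [psi_apply]
  apply Finset.sum_eq_zero
  intro b _
  split_ifs with h1
  · apply hg
    rw [wt_ex]
    have : 3 * b ≤ n * b := Nat.mul_le_mul_right b hn
    omega
  · rfl

lemma psi_f_mul {n : ℕ} (hn : 1 ≤ n) (h : MvPowerSeries (Fin 3) k) (s : ℕ × ℕ × ℕ)
    (hs : s.1 ≤ 1) : psi n ((X 0 ^ 2 - X 1 ^ n) * h) s = 0 := by
  obtain ⟨ε, i, j⟩ := s
  simp only at hs
  rw [psi_apply]
  simp only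
  set G : ℕ → k := fun b => if 1 ≤ b ∧ n * b ≤ i then
    coeff (ex (2 * (b - 1) + ε) (i - n * b) j) h else 0 with hG
  have hterm : ∀ b ∈ range (i + 1),
      (if n * b ≤ i then coeff (ex (2 * b + ε) (i - n * b) j) ((X 0 ^ 2 - X 1 ^ n) * h) else 0)
        = G b - G (b + 1) := by
    intro b _
    have hx : (X 0 ^ 2 : MvPowerSeries (Fin 3) k) = monomial (ex 2 0 0) 1 := by
      rw [← mon_eq]; simp [mon]
    have hy : (X 1 ^ n : MvPowerSeries (Fin 3) k) = monomial (ex 0 n 0) 1 := by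
      rw [← mon_eq]; simp [mon]
    have hmul : n * (b + 1) = n * b + n := by ring
    split_ifs with h1
    · rw [sub_mul, map_sub, hx, hy, coeff_monomial_mul, coeff_monomial_mul]
      simp only [ex_le_iff, ex_zero', ex_one', ex_two', sub_ex, one_mul, zero_le, true_and,
        and_true, hG]
      have e1 : (2 ≤ 2 * b + ε) ↔ (1 ≤ b ∧ n * b ≤ i) := by omega
      have e2 : (n ≤ i - n * b) ↔ (1 ≤ b + 1 ∧ n * (b + 1) ≤ i) := by omega
      simp only [e1, e2]
      congr 1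
      · split_ifs with h2
        · congr 2
          rw [ex_inj]; omega
        · rfl
      · split_ifs with h2
        · congr 2
          rw [ex_inj]; omega
        · rfl
    · have e1 : ¬ (1 ≤ b ∧ n * b ≤ i) := by omega
      have e2 : ¬ (1 ≤ b + 1 ∧ n * (b + 1) ≤ i) := by omega
      simp only [hG, if_neg e1, if_neg e2, sub_zero]
  rw [Finset.sum_congr rfl hterm, Finset.sum_range_sub']
  have e1 : ¬ (1 ≤ 0 ∧ n * 0 ≤ i) := by omega
  have e2 : ¬ (1 ≤ i + 1 ∧ n * (i + 1) ≤ i) := by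
    have : 1 * (i + 1) ≤ n * (i + 1) := Nat.mul_le_mul_right _ hn
    omega
  simp only [hG, if_neg e1, if_neg e2, sub_zero]

end Groth.Agent.Lib.Helper15.HDP
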