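import Mathlib
import Groth.Agent.Lib.Helper15.HDP2

set_option autoImplicit false
set_option linter.style.haveILetI false
set_option linter.unusedSectionVars false

namespace Groth.Agent.Lib.Helper15.HDP

open MvPowerSeries Finset

universe u

variable (k : Type u) [Field k]

/-- the principal ideal `(x^2 - y^n)` -/
noncomputable abbrev fI (n : ℕ) : Ideal (MvPowerSeries (Fin 3) k) :=
  Ideal.span {(X 0 ^ 2 - X 1 ^ n : MvPowerSeries (Fin 3) k)}

/-- the ring `k[[x,y,t]]/(x^2 - y^n)` -/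
abbrev AA (n : ℕ) : Type u := MvPowerSeries (Fin 3) k ⧸ fI k n

variable {k}

/-- the projection `k[[x,y,t]] → A/J` -/
noncomputable def proj (n : ℕ) (J : Ideal (AA k n)) : MvPowerSeries (Fin 3) k →ₐ[k] (AA k n ⧸ J) :=
  (Ideal.Quotient.mkₐ k J).comp (Ideal.Quotient.mkₐ k (fI k n))

lemma proj_surjective (n : ℕ) (J : Ideal (AA k n)) : Function.Surjective (proj n J) := by
  intro y
  obtain ⟨a, rfl⟩ := Ideal.Quotient.mk_surjective y
  obtain ⟨g, rfl⟩ := Ideal.Quotient.mk_surjective a
  exact ⟨g, rfl⟩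

lemma proj_eq_zero_iff (n : ℕ) (J' : Ideal (MvPowerSeries (Fin 3) k))
    (g : MvPowerSeries (Fin 3) k) :
    proj n (J'.map (Ideal.Quotient.mk (fI k n))) g = 0 ↔ g ∈ J' ⊔ fI k n := by
  change Ideal.Quotient.mk _ (Ideal.Quotient.mk (fI k n) g) = 0 ↔ _
  rw [Ideal.Quotient.eq_zero_iff_mem, Ideal.mem_quotient_iff_mem_sup]

lemma proj_f (n : ℕ) (J : Ideal (AA k n)) : proj n J (X 0 ^ 2) = proj n J (X 1 ^ n) := by
  have h : proj n J (X 0 ^ 2 - X 1 ^ n) = 0 := by
    change Ideal.Quotient.mk _ (Ideal.Quotient.mk (fI k n) _) = 0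
    rw [Ideal.Quotient.eq_zero_iff_mem.mpr (Ideal.subset_span (Set.mem_singleton _)), map_zero]
  rwa [map_sub, sub_eq_zero] at h

/-- Lower bound: a finite set of reduced monomials of weight `< w` is independent modulo an
ideal contained in the weight filtration. -/
theorem lower {n : ℕ} (hn : 3 ≤ n) (J' : Ideal (MvPowerSeries (Fin 3) k)) (w : ℕ)
    (hJ : J' ≤ Fil w) (T : Finset (ℕ × ℕ × ℕ))
    (hT : ∀ s ∈ T, s.1 ≤ 1 ∧ 3 * s.1 + 2 * s.2.1 + s.2.2 < w) :
    (T.card : ℕ∞) ≤ Module.length k (AA k n ⧸ J'.map (Ideal.Quotient.mk (fI k n))) := by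
  classical
  set J := J'.map (Ideal.Quotient.mk (fI k n)) with hJdef
  let ρ : MvPowerSeries (Fin 3) k →ₗ[k] (T → k) :=
    (LinearMap.funLeft k k (Subtype.val : T → ℕ × ℕ × ℕ)).comp (psi n)
  have hρ : Function.Surjective ρ := by
    intro c
    let g : MvPowerSeries (Fin 3) k := fun d =>
      if h : (d 0, d 1, d 2) ∈ T then c ⟨_, h⟩ else 0
    have hg : ∀ d, coeff d g = if h : (d 0, d 1, d 2) ∈ T then c ⟨_, h⟩ else 0 := fun d => rfl
    refine ⟨g, ?_⟩
    funext s
    obtain ⟨⟨ε, i, j⟩, hs⟩ := s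
    change psi n g (ε, i, j) = c ⟨(ε, i, j), hs⟩
    rw [psi_apply]
    simp only
    rw [Finset.sum_eq_single 0]
    · simp only [mul_zero, zero_le, if_true, zero_add, tsub_zero, hg, ex_zero', ex_one', ex_two']
      rw [dif_pos hs]
    · intro b _ hb
      split_ifs with h1
      · rw [hg, dif_neg]
        intro hmem
        have := (hT _ hmem).1
        simp only [ex_zero'] at this
        omega
      · rfl
    · intro h; simp at h
  have hker : LinearMap.ker (proj n J).toLinearMap ≤ LinearMap.ker ρ := by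
    intro g hg
    rw [LinearMap.mem_ker] at hg ⊢
    have hg' : proj n J g = 0 := hg
    rw [hJdef, proj_eq_zero_iff, Submodule.mem_sup] at hg'
    obtain ⟨g', hg', y, hy, rfl⟩ := hg'
    obtain ⟨c, rfl⟩ := Ideal.mem_span_singleton'.mp hy
    funext s
    obtain ⟨⟨ε, i, j⟩, hs⟩ := s
    change psi n (g' + c * (X 0 ^ 2 - X 1 ^ n)) (ε, i, j) = 0
    rw [map_add, Pi.add_apply, mul_comm c, psi_f_mul (by omega) c _ (hT _ hs).1,
      psi_Fil hn (hJ hg') _ (hT _ hs).2, add_zero]
  have h1 := length_le_of_ker_le (proj n J).toLinearMap ρ (proj_surjective n J) hρ hker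
  have h2 : Module.length k (T → k) = (T.card : ℕ∞) := by
    rw [Module.length_eq_finrank, Module.finrank_fintype_fun_eq_card, Fintype.card_coe]
  rwa [h2] at h1

/-- splitting off the part of a power series divisible by `X s ^ N` -/
lemma split (s : Fin 3) (N : ℕ) (h : MvPowerSeries (Fin 3) k) :
    ∃ q r : MvPowerSeries (Fin 3) k, h = X s ^ N * q + r ∧
      (∀ d : Fin 3 →₀ ℕ, N ≤ d s → coeff d r = 0) ∧
      (∀ d : Fin 3 →₀ ℕ, d s < N → coeff d r = coeff d h) := by
  classical
  let r : MvPowerSeries (Fin 3) k := fun d => if d s < N then coeff d h else 0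
  have hr : ∀ d, coeff d r = if d s < N then coeff d h else 0 := fun d => rfl
  have hdvd : (X s : MvPowerSeries (Fin 3) k) ^ N ∣ h - r := by
    rw [X_pow_dvd_iff]
    intro d hd
    rw [map_sub, hr, if_pos hd, sub_self]
  obtain ⟨q, hq⟩ := hdvd
  refine ⟨q, r, ?_, ?_, ?_⟩
  · rw [← hq]; ring
  · intro d hd
    rw [hr, if_neg (by omega)]
  · intro d hd
    rw [hr, if_pos hd]

lemma eq_sum_of_support (g : MvPowerSeries (Fin 3) k) (S : Finset (Fin 3 →₀ ℕ))
    (h : ∀ d, d ∉ S → coeff d g = 0) : g = ∑ d ∈ S, coeff d g • monomial d (1 : k) := by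
  classical
  ext e
  rw [map_sum]
  simp only [map_smul, coeff_monomial, smul_eq_mul, mul_ite, mul_one, mul_zero]
  rw [Finset.sum_ite_eq]
  split_ifs with h1
  · rfl
  · exact h e h1

/-- Upper bound: if all reduced monomials outside a finite set `D` lie in `J'`, then `A/J'A`
is spanned by the monomials in `D`. -/
theorem upper {n : ℕ} (hn : 1 ≤ n) (J' : Ideal (MvPowerSeries (Fin 3) k))
    (D : Finset (ℕ × ℕ × ℕ)) (N : ℕ)
    (hD : ∀ ε i j : ℕ, ε ≤ 1 → (ε, i, j) ∉ D → (mon ε i j : MvPowerSeries (Fin 3) k) ∈ J')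
    (hN : ∀ s ∈ D, s.2.1 < N ∧ s.2.2 < N) :
    Module.Finite k (AA k n ⧸ J'.map (Ideal.Quotient.mk (fI k n))) ∧
      Module.finrank k (AA k n ⧸ J'.map (Ideal.Quotient.mk (fI k n))) ≤ D.card := by
  classical
  set J := J'.map (Ideal.Quotient.mk (fI k n)) with hJdef
  set π := proj n J with hπ
  let S : Finset (AA k n ⧸ J) := D.image (fun s => π (mon s.1 s.2.1 s.2.2))
  set W : Submodule k (AA k n ⧸ J) := Submodule.span k (S : Set (AA k n ⧸ J)) with hW
  have hzero : ∀ g ∈ J', π g = 0 := by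
    intro g hg
    rw [hπ, hJdef, proj_eq_zero_iff]
    exact Ideal.mem_sup_left hg
  have h1 : ∀ ε i j : ℕ, ε ≤ 1 → π (mon ε i j) ∈ W := by
    intro ε i j hε
    by_cases hmem : (ε, i, j) ∈ D
    · apply Submodule.subset_span
      rw [Finset.mem_coe, Finset.mem_image]
      exact ⟨_, hmem, rfl⟩
    · rw [hzero _ (hD ε i j hε hmem)]
      exact W.zero_mem
  have hred : ∀ a i j : ℕ, π (mon a i j) = π (mon (a % 2) (i + n * (a / 2)) j) := by
    intro a i j
    have ha : a = 2 * (a / 2) + a % 2 := (Nat.div_add_mod a 2).symm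
    have hf := proj_f n J
    rw [← hπ] at hf
    conv_lhs => rw [ha]
    simp only [mon, map_mul, map_pow, pow_add, pow_mul] at hf ⊢
    rw [hf]
    ring
  have h3 : ∀ a i j : ℕ, π (mon a i j) ∈ W := by
    intro a i j
    rw [hred]
    exact h1 _ _ _ (by omega)
  have hy : π (X 1 ^ N) = 0 := by
    have : (X 1 ^ N : MvPowerSeries (Fin 3) k) = mon 0 N 0 := by simp [mon]
    rw [this]
    apply hzero
    apply hD _ _ _ (by omega)
    intro hmem
    have := (hN _ hmem).1
    simp at this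
  have ht : π (X 2 ^ N) = 0 := by
    have : (X 2 ^ N : MvPowerSeries (Fin 3) k) = mon 0 0 N := by simp [mon]
    rw [this]
    apply hzero
    apply hD _ _ _ (by omega)
    intro hmem
    have := (hN _ hmem).2
    simp at this
  have hx : π (X 0 ^ (2 * N)) = 0 := by
    have : (X 0 ^ (2 * N) : MvPowerSeries (Fin 3) k) = mon (2 * N) 0 0 := by simp [mon]
    rw [this, hred]
    apply hzero
    apply hD _ _ _ (by omega)
    intro hmem
    have := (hN _ hmem).1
    simp only [Nat.mul_div_cancel_left N (by omega : 0 < 2), zero_add] at this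
    have h2 : 1 * N ≤ n * N := Nat.mul_le_mul_right _ hn
    omega
  have h5 : ∀ g : MvPowerSeries (Fin 3) k, π g ∈ W := by
    intro g
    obtain ⟨q0, r0, e0, a0, b0⟩ := split 0 (2 * N) g
    obtain ⟨q1, r1, e1, a1, b1⟩ := split 1 N r0
    obtain ⟨q2, r2, e2, a2, b2⟩ := split 2 N r1
    have hg : π g = π r2 := by
      rw [e0, e1, e2]
      simp only [map_add, map_mul, hx, hy, ht, zero_mul, zero_add]
    rw [hg]
    let B : Finset (Fin 3 →₀ ℕ) :=
      (Finset.range (2 * N) ×ˢ Finset.range N ×ˢ Finset.range N).image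
        (fun p => ex p.1 p.2.1 p.2.2)
    have hsupp : ∀ d, d ∉ B → coeff d r2 = 0 := by
      intro d hd
      by_cases c2 : N ≤ d 2
      · exact a2 d c2
      rw [b2 d (by omega)]
      by_cases c1 : N ≤ d 1
      · exact a1 d c1
      rw [b1 d (by omega)]
      by_cases c0 : 2 * N ≤ d 0
      · exact a0 d c0
      exfalso
      apply hd
      rw [Finset.mem_image]
      refine ⟨(d 0, d 1, d 2), ?_, ex_eta d⟩
      simp only [Finset.mem_product, Finset.mem_range]
      omega
    rw [eq_sum_of_support r2 B hsupp, map_sum]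
    apply Submodule.sum_mem
    intro d _
    rw [map_smul]
    apply Submodule.smul_mem
    rw [← ex_eta d, ← mon_eq]
    exact h3 _ _ _
  have htop : W = ⊤ := by
    rw [eq_top_iff]
    intro y _
    obtain ⟨g, rfl⟩ := proj_surjective n J y
    exact h5 g
  have hfin : Module.Finite k (AA k n ⧸ J) := by
    rw [Module.finite_def, ← htop]
    exact Submodule.fg_span (Finset.finite_toSet S)
  refine ⟨hfin, ?_⟩
  calc Module.finrank k (AA k n ⧸ J) = Module.finrank k (⊤ : Submodule k (AA k n ⧸ J)) :=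
        (finrank_top k _).symm
    _ = Module.finrank k W := by rw [htop]
    _ ≤ S.card := finrank_span_finset_le_card S
    _ ≤ D.card := Finset.card_image_le

end Groth.Agent.Lib.Helper15.HDP
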