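import Mathlib
import Groth.Agent.Lib.Helper15.HDP3

set_option autoImplicit false
set_option linter.style.haveILetI false
set_option linter.unusedSectionVars false

namespace Groth.Agent.Lib.Helper15.HDP

open MvPowerSeries Finset

universe u

variable {k : Type u} [Field k]

lemma mon_mul (a i j a' i' j' : ℕ) :
    (mon a i j * mon a' i' j' : MvPowerSeries (Fin 3) k) = mon (a + a') (i + i') (j + j') := by
  simp only [mon, pow_add]; ring

lemma mon_mem_of_le {J : Ideal (MvPowerSeries (Fin 3) k)} {a i j a' i' j' : ℕ}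
    (h : (mon a i j : MvPowerSeries (Fin 3) k) ∈ J) (ha : a ≤ a') (hi : i ≤ i') (hj : j ≤ j') :
    (mon a' i' j' : MvPowerSeries (Fin 3) k) ∈ J := by
  have : (mon a' i' j' : MvPowerSeries (Fin 3) k) = mon a i j * mon (a' - a) (i' - i) (j' - j) := by
    rw [mon_mul]; congr <;> omega
  rw [this]
  exact J.mul_mem_right _ h

variable (k) in
/-- the ideal `(x^2, xy, y^2, xt, yt^2, t^4)` of `k[[x,y,t]]` -/
noncomputable def Igen : Ideal (MvPowerSeries (Fin 3) k) :=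
  Ideal.span {(X 0 ^ 2 : MvPowerSeries (Fin 3) k), X 0 * X 1, X 1 ^ 2, X 0 * X 2,
    X 1 * X 2 ^ 2, X 2 ^ 4}

lemma gen_eq :
    (X 0 ^ 2 : MvPowerSeries (Fin 3) k) = mon 2 0 0 ∧
    (X 0 * X 1 : MvPowerSeries (Fin 3) k) = mon 1 1 0 ∧
    (X 1 ^ 2 : MvPowerSeries (Fin 3) k) = mon 0 2 0 ∧
    (X 0 * X 2 : MvPowerSeries (Fin 3) k) = mon 1 0 1 ∧
    (X 1 * X 2 ^ 2 : MvPowerSeries (Fin 3) k) = mon 0 1 2 ∧
    (X 2 ^ 4 : MvPowerSeries (Fin 3) k) = mon 0 0 4 := by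
  refine ⟨?_, ?_, ?_, ?_, ?_, ?_⟩ <;> simp [mon]

lemma Igen_le_Fil : Igen k ≤ Fil 4 := by
  rw [Igen, Ideal.span_le]
  intro g hg
  simp only [Set.mem_insert_iff, Set.mem_singleton_iff] at hg
  obtain ⟨e1, e2, e3, e4, e5, e6⟩ := gen_eq (k := k)
  rcases hg with rfl | rfl | rfl | rfl | rfl | rfl
  · rw [e1]; exact mon_mem_Fil (by norm_num)
  · rw [e2]; exact mon_mem_Fil (by norm_num)
  · rw [e3]; exact mon_mem_Fil (by norm_num)
  · rw [e4]; exact mon_mem_Fil (by norm_num)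
  · rw [e5]; exact mon_mem_Fil (by norm_num)
  · rw [e6]; exact mon_mem_Fil (by norm_num)

lemma gens_mem :
    (mon 2 0 0 : MvPowerSeries (Fin 3) k) ∈ Igen k ∧
    (mon 1 1 0 : MvPowerSeries (Fin 3) k) ∈ Igen k ∧
    (mon 0 2 0 : MvPowerSeries (Fin 3) k) ∈ Igen k ∧
    (mon 1 0 1 : MvPowerSeries (Fin 3) k) ∈ Igen k ∧
    (mon 0 1 2 : MvPowerSeries (Fin 3) k) ∈ Igen k ∧
    (mon 0 0 4 : MvPowerSeries (Fin 3) k) ∈ Igen k := by
  obtain ⟨e1, e2, e3, e4, e5, e6⟩ := gen_eq (k := k)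
  refine ⟨?_, ?_, ?_, ?_, ?_, ?_⟩
  · rw [← e1]; exact Ideal.subset_span (by simp)
  · rw [← e2]; exact Ideal.subset_span (by simp)
  · rw [← e3]; exact Ideal.subset_span (by simp)
  · rw [← e4]; exact Ideal.subset_span (by simp)
  · rw [← e5]; exact Ideal.subset_span (by simp)
  · rw [← e6]; exact Ideal.subset_span (by simp)

lemma mon_mem_Igen_pow (m : ℕ) : ∀ i j : ℕ, 4 * m ≤ 2 * i + j →
    (mon 0 i j : MvPowerSeries (Fin 3) k) ∈ Igen k ^ m := by
  obtain ⟨-, -, g3, -, g5, g6⟩ := gens_mem (k := k)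
  induction m with
  | zero => intro i j _; simp
  | succ m ih =>
    intro i j h
    rw [pow_succ']
    by_cases h2 : 2 ≤ i
    · have : (mon 0 i j : MvPowerSeries (Fin 3) k) = mon 0 2 0 * mon 0 (i - 2) j := by
        rw [mon_mul]; congr <;> omega
      rw [this]
      exact Ideal.mul_mem_mul g3 (ih _ _ (by omega))
    · by_cases h1 : i = 1
      · subst h1
        have : (mon 0 1 j : MvPowerSeries (Fin 3) k) = mon 0 1 2 * mon 0 0 (j - 2) := by
          rw [mon_mul]; congr; omega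
        rw [this]
        exact Ideal.mul_mem_mul g5 (ih _ _ (by omega))
      · have h0 : i = 0 := by omega
        subst h0
        have : (mon 0 0 j : MvPowerSeries (Fin 3) k) = mon 0 0 4 * mon 0 0 (j - 4) := by
          rw [mon_mul]; congr; omega
        rw [this]
        exact Ideal.mul_mem_mul g6 (ih _ _ (by omega))

lemma mon_mem_Igen_pow' (m ε i j : ℕ) (h : 4 * m ≤ 2 * i + j) :
    (mon ε i j : MvPowerSeries (Fin 3) k) ∈ Igen k ^ m :=
  mon_mem_of_le (mon_mem_Igen_pow m i j h) (Nat.zero_le _) le_rfl le_rfl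

/-- residue fields of `k[[x,y,t]]/(x^2-y^n)` are `k` -/
lemma residue_surjective (n : ℕ) (𝔪 : Ideal (AA k n)) (h𝔪 : 𝔪.IsMaximal) :
    Function.Surjective (Algebra.linearMap k (AA k n ⧸ 𝔪)) := by
  intro y
  obtain ⟨a, rfl⟩ := Ideal.Quotient.mk_surjective y
  obtain ⟨g, rfl⟩ := Ideal.Quotient.mk_surjective a
  refine ⟨constantCoeff g, ?_⟩
  have hmax : (𝔪.comap (Ideal.Quotient.mk (fI k n))).IsMaximal :=
    Ideal.comap_isMaximal_of_surjective _ Ideal.Quotient.mk_surjective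
  have heq : 𝔪.comap (Ideal.Quotient.mk (fI k n)) =
      IsLocalRing.maximalIdeal (MvPowerSeries (Fin 3) k) := IsLocalRing.eq_maximalIdeal hmax
  have hmem : g - C (constantCoeff g) ∈ 𝔪.comap (Ideal.Quotient.mk (fI k n)) := by
    rw [heq, IsLocalRing.mem_maximalIdeal, mem_nonunits_iff, isUnit_iff_constantCoeff]
    simp
  rw [Ideal.mem_comap] at hmem
  have h2 : Ideal.Quotient.mk 𝔪 (Ideal.Quotient.mk (fI k n) (g - C (constantCoeff g))) = 0 :=
    Ideal.Quotient.eq_zero_iff_mem.mpr hmem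
  rw [map_sub, map_sub, sub_eq_zero] at h2
  rw [h2]
  rfl

/-- triangles of exponents -/
def tri (ε r M : ℕ) : Finset (ℕ × ℕ × ℕ) :=
  ((Finset.range r).sigma (fun i => Finset.range (M - 2 * i))).image
    (fun p : (Σ _ : ℕ, ℕ) => (ε, p.1, p.2))

lemma mem_tri {ε r M : ℕ} {s : ℕ × ℕ × ℕ} :
    s ∈ tri ε r M ↔ s.1 = ε ∧ s.2.1 < r ∧ s.2.2 < M - 2 * s.2.1 := by
  obtain ⟨a, i, j⟩ := s
  simp only [tri, Finset.mem_image, Finset.mem_sigma, Finset.mem_range, Sigma.exists,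
    Prod.mk.injEq]
  constructor
  · rintro ⟨i', j', ⟨h1, h2⟩, rfl, rfl, rfl⟩
    exact ⟨rfl, h1, h2⟩
  · rintro ⟨rfl, h1, h2⟩
    exact ⟨i, j, ⟨h1, h2⟩, rfl, rfl, rfl⟩

lemma card_tri (ε r M : ℕ) : (tri ε r M).card = ∑ i ∈ Finset.range r, (M - 2 * i) := by
  rw [tri, Finset.card_image_of_injective, Finset.card_sigma]
  · simp
  · rintro ⟨i, j⟩ ⟨i', j'⟩ h
    simp only [Prod.mk.injEq, true_and] at h
    obtain ⟨rfl, rfl⟩ := h
    rfl

lemma sum_tri (r M : ℕ) (h : 2 * r ≤ M + 2) :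
    ∑ i ∈ Finset.range r, (M - 2 * i) + r * r = r * M + r := by
  induction r with
  | zero => simp
  | succ r ih =>
    have ih' := ih (by omega)
    rw [Finset.sum_range_succ]
    obtain ⟨c, rfl⟩ : ∃ c, M = 2 * r + c := ⟨M - 2 * r, by omega⟩
    rw [Nat.add_sub_cancel_left]
    nlinarith [ih']

lemma card_tri_even (ε m : ℕ) : (tri ε (2 * m) (4 * m)).card = 4 * m * m + 2 * m := by
  rw [card_tri]
  have := sum_tri (2 * m) (4 * m) (by omega)
  nlinarith [this]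

lemma card_tri_odd (ε m : ℕ) :
    (tri ε (2 * m + 1) (4 * m + 1)).card = (2 * m + 1) * (2 * m + 1) := by
  rw [card_tri]
  have := sum_tri (2 * m + 1) (4 * m + 1) (by omega)
  nlinarith [this]

lemma disjoint_tri (r M r' M' : ℕ) : Disjoint (tri 0 r M) (tri 1 r' M') := by
  rw [Finset.disjoint_left]
  intro s h0 h1
  rw [mem_tri] at h0 h1
  omega

end Groth.Agent.Lib.Helper15.HDP
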