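import Mathlib
import Groth.Agent.Lib.Helper15.HDP4

set_option autoImplicit false
set_option linter.style.haveILetI false
set_option linter.unusedSectionVars false

namespace Groth.Agent.Lib.Helper15.HDP

open MvPowerSeries Finset Filter

universe u

variable (k : Type u) [Field k]

/-- the ideal `I = (x^2, xy, y^2, xt, yt^2, t^4) A` -/
noncomputable abbrev II (n : ℕ) : Ideal (AA k n) := (Igen k).map (Ideal.Quotient.mk (fI k n))

theorem length_eq_finrank_AA (n : ℕ) (M : Type u) [AddCommGroup M] [Module (AA k n) M]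
    [Module k M] [IsScalarTower k (AA k n) M] [Module.Finite k M] :
    Module.length (AA k n) M = Module.finrank k M :=
  length_eq_finrank (fun 𝔪 h𝔪 => residue_surjective n 𝔪 h𝔪) M

theorem length_bounds (n : ℕ) (hn : 3 ≤ n) (m : ℕ) :
    ∃ ℓ : ℕ, Module.length (AA k n) (AA k n ⧸ (II k n) ^ (m + 1)) = ℓ ∧
      4 * (m + 1) * (m + 1) + 2 * (m + 1) + (2 * m + 1) * (2 * m + 1) ≤ ℓ ∧
      ℓ ≤ 2 * (4 * (m + 1) * (m + 1) + 2 * (m + 1)) := by
  classical
  have hpow : (II k n) ^ (m + 1) = (Igen k ^ (m + 1)).map (Ideal.Quotient.mk (fI k n)) := by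
    rw [Ideal.map_pow]
  rw [hpow]
  set J' := Igen k ^ (m + 1) with hJ'
  -- upper bound
  obtain ⟨hfin, hle⟩ := upper (n := n) (by omega) J'
    (tri 0 (2 * (m + 1)) (4 * (m + 1)) ∪ tri 1 (2 * (m + 1)) (4 * (m + 1))) (4 * (m + 1) + 1)
    (by
      intro ε i j hε hmem
      apply mon_mem_Igen_pow'
      by_contra hlt
      apply hmem
      rw [Finset.mem_union, mem_tri, mem_tri]
      simp only
      omega)
    (by
      intro s hs
      rw [Finset.mem_union, mem_tri, mem_tri] at hs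
      omega)
  -- lower bound
  have hlow := lower (n := n) hn J' ((m + 1) * 4) (Fil_pow Igen_le_Fil (m + 1))
    (tri 0 (2 * (m + 1)) (4 * (m + 1)) ∪ tri 1 (2 * m + 1) (4 * m + 1))
    (by
      intro s hs
      rw [Finset.mem_union, mem_tri, mem_tri] at hs
      omega)
  haveI := hfin
  rw [Module.length_eq_finrank, Nat.cast_le, Finset.card_union_of_disjoint (disjoint_tri _ _ _ _),
    card_tri_even, card_tri_odd] at hlow
  rw [Finset.card_union_of_disjoint (disjoint_tri _ _ _ _), card_tri_even, card_tri_even] at hle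
  refine ⟨_, length_eq_finrank_AA k n _, hlow, ?_⟩
  omega

theorem length_one (n : ℕ) (hn : 3 ≤ n) : Module.length (AA k n) (AA k n ⧸ II k n) = 7 := by
  classical
  obtain ⟨-, g2, g3, g4, g5, g6⟩ := gens_mem (k := k)
  obtain ⟨hfin, hle⟩ := upper (n := n) (by omega) (Igen k) (tri 0 2 4 ∪ tri 1 1 1) 5
    (by
      intro ε i j hε hmem
      rw [Finset.mem_union, mem_tri, mem_tri] at hmem
      simp only at hmem
      by_cases h0 : ε = 0
      · subst h0
        by_cases h2 : 2 ≤ i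
        · exact mon_mem_of_le g3 (by omega) h2 (by omega)
        · by_cases h1 : i = 1
          · subst h1
            exact mon_mem_of_le g5 (by omega) le_rfl (by omega)
          · have hi : i = 0 := by omega
            subst hi
            exact mon_mem_of_le g6 (by omega) le_rfl (by omega)
      · have h1 : ε = 1 := by omega
        subst h1
        by_cases hi : 1 ≤ i
        · exact mon_mem_of_le g2 le_rfl hi (by omega)
        · exact mon_mem_of_le g4 le_rfl (by omega) (by omega))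
    (by
      intro s hs
      rw [Finset.mem_union, mem_tri, mem_tri] at hs
      omega)
  have hlow := lower (n := n) hn (Igen k) 4 Igen_le_Fil (tri 0 2 4 ∪ tri 1 1 1)
    (by
      intro s hs
      rw [Finset.mem_union, mem_tri, mem_tri] at hs
      omega)
  haveI := hfin
  have hc : (tri 0 2 4 ∪ tri 1 1 1).card = 7 := by
    rw [Finset.card_union_of_disjoint (disjoint_tri _ _ _ _)]
    have h1 := card_tri_even 0 1
    have h2 := card_tri_odd 1 0
    simp only [mul_one, mul_zero, zero_add] at h1 h2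
    rw [h1, h2]
  rw [Module.length_eq_finrank, Nat.cast_le, hc] at hlow
  rw [hc] at hle
  rw [length_eq_finrank_AA k n]
  have : Module.finrank k (AA k n ⧸ II k n) = 7 := le_antisymm hle hlow
  rw [this]
  rfl

theorem tendsto_mult (n : ℕ) (hn : 3 ≤ n) :
    Tendsto (fun m : ℕ => (2 : ℝ) *
      ((Module.length (AA k n) (AA k n ⧸ (II k n) ^ m)).toNat : ℝ) / (m : ℝ) ^ 2)
      atTop (nhds 16) := by
  have hlo : Tendsto (fun m : ℕ => (16 : ℝ) - 4 / (m : ℝ)) atTop (nhds 16) := by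
    have := (tendsto_const_div_atTop_nhds_zero_nat (4 : ℝ)).const_sub (16 : ℝ)
    simpa using this
  have hhi : Tendsto (fun m : ℕ => (16 : ℝ) + 8 / (m : ℝ)) atTop (nhds 16) := by
    have := (tendsto_const_div_atTop_nhds_zero_nat (8 : ℝ)).const_add (16 : ℝ)
    simpa using this
  refine tendsto_of_tendsto_of_tendsto_of_le_of_le' hlo hhi ?_ ?_
  · filter_upwards [Filter.eventually_ge_atTop 1] with m hm
    obtain ⟨m', rfl⟩ : ∃ m', m = m' + 1 := ⟨m - 1, by omega⟩
    obtain ⟨ℓ, hℓ, h1, h2⟩ := length_bounds k n hn m'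
    rw [hℓ, ENat.toNat_natCast]
    have hpos : (0 : ℝ) < ((m' + 1 : ℕ) : ℝ) := by positivity
    rw [le_div_iff₀ (pow_pos hpos 2)]
    have h1' : ((4 * (m' + 1) * (m' + 1) + 2 * (m' + 1) + (2 * m' + 1) * (2 * m' + 1) : ℕ) : ℝ)
        ≤ (ℓ : ℝ) := by exact_mod_cast h1
    have e : ((16 : ℝ) - 4 / ((m' + 1 : ℕ) : ℝ)) * ((m' + 1 : ℕ) : ℝ) ^ 2 =
        16 * ((m' + 1 : ℕ) : ℝ) ^ 2 - 4 * ((m' + 1 : ℕ) : ℝ) := by
      field_simp
    rw [e]
    push_cast at h1' ⊢
    nlinarith [h1']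
  · filter_upwards [Filter.eventually_ge_atTop 1] with m hm
    obtain ⟨m', rfl⟩ : ∃ m', m = m' + 1 := ⟨m - 1, by omega⟩
    obtain ⟨ℓ, hℓ, h1, h2⟩ := length_bounds k n hn m'
    rw [hℓ, ENat.toNat_natCast]
    have hpos : (0 : ℝ) < ((m' + 1 : ℕ) : ℝ) := by positivity
    rw [div_le_iff₀ (pow_pos hpos 2)]
    have h2' : (ℓ : ℝ) ≤ ((2 * (4 * (m' + 1) * (m' + 1) + 2 * (m' + 1)) : ℕ) : ℝ) := by
      exact_mod_cast h2
    have e : ((16 : ℝ) + 8 / ((m' + 1 : ℕ) : ℝ)) * ((m' + 1 : ℕ) : ℝ) ^ 2 =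
        16 * ((m' + 1 : ℕ) : ℝ) ^ 2 + 8 * ((m' + 1 : ℕ) : ℝ) := by
      field_simp
    rw [e]
    push_cast at h2' ⊢
    nlinarith [h2']

end Groth.Agent.Lib.Helper15.HDP
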