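import Groth.Agent.Lib.Helper25.HypCoh1
import Groth.Agent.Lib.Lead.LinLES.Biprod
import Groth.Agent.Lib.Lead.SD.RegComplex
import Groth.Agent.Lib.Lead.SD.LowVanish
import Groth.Agent.Lib.Helper18.ZeroDim
import Groth.Agent.Lib.Helper17.PnReg
import Groth.Agent.Lib.Helper14.SchemeDim
import Groth.Agent.Lib.Helper21.FibDim5
import Groth.Agent.Lib.Helper21.RegularLocal
import Groth.Agent.Lib.Helper25.SuppTensor
import Groth.Agent.Lib.Helper29.TwistPn2
import Groth.Agent.Lib.Lead.Pn.HomogRank
import Groth.Agent.Lib.Lead.Pn.Finite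
import Groth.Agent.S0019
import Groth.Agent.S0844
import Groth.Agent.S0845

/-!
# HY1: top cohomology of `O_X(m)` vanishes for a proper closed subscheme `X` of `P^n_k`
-/

set_option autoImplicit false

universe u

open CategoryTheory CategoryTheory.Limits AlgebraicGeometry Opposite TopologicalSpace

namespace Groth.Agent.Lib.Helper15.HY1

open Groth.Agent.Lib.Helper29.QCoh Groth.Agent.Lib.Lead.LinLES Groth.Agent.Lib.Lead.Pn
open Groth.Agent.Lib.Lead.TwistExact Groth.Agent.Lib.Helper25.HypTwist

section General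

variable {X : Scheme.{u}}

theorem isZero_idealMod_bot : IsZero (ClSub.idealMod (⊥ : X.IdealSheafData)) := by
  rw [isZero_iff_stalk_subsingleton]
  intro x
  suffices key : ∀ t : (ClSub.idealMod (⊥ : X.IdealSheafData)).presheaf.stalk x, t = 0 from
    ⟨fun a b => (key a).trans (key b).symm⟩
  intro t
  obtain ⟨V, hVU, hxV, s, rfl⟩ :=
    (ClSub.idealMod (⊥ : X.IdealSheafData)).presheaf.exists_le_germ_eq t
      (V := (⊤ : X.Opens)) trivial
  obtain ⟨W, hW, hxW, hWV⟩ := exists_isAffineOpen_mem_and_subset (x := x) (U := V) hxV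
  rw [← germ_res _ hWV x hxW s]
  have h0 : res (ClSub.idealMod (⊥ : X.IdealSheafData)) hWV s = 0 := by
    apply ifun_injective
    have h1 := ifun_mem (⊥ : X.IdealSheafData) ⟨W, hW⟩ (res _ hWV s)
    have h2 : (⊥ : X.IdealSheafData).ideal ⟨W, hW⟩ = ⊥ := rfl
    rw [h2, Ideal.mem_bot] at h1
    rw [h1]
    unfold ifun
    rw [map_zero]
    rfl
  rw [h0, map_zero]

/-- the stalks of `O_X / I` vanish outside the support of `I` (copied from helper21's `ECart`
to keep the import closure small) -/
theorem subsingleton_stalk_quotMod (D : X.IdealSheafData) (x : X) (hx : x ∉ D.support) :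
    Subsingleton ((ClSub.quotMod D).presheaf.stalk x) := by
  refine ⟨fun a b => ?_⟩
  have key : ∀ t : (ClSub.quotMod D).presheaf.stalk x, t = 0 := by
    intro t
    obtain ⟨W, hxW, τ, rfl⟩ := TopCat.Presheaf.exists_germ_eq (ClSub.quotMod D).presheaf t
    let W' : X.Opens := W ⊓ ⟨(D.support : Set X)ᶜ, D.support.isClosed.isOpen_compl⟩
    have hxW' : x ∈ W' := ⟨hxW, hx⟩
    have hW'W : W' ≤ W := inf_le_left
    have h0 : Groth.Agent.Lib.Helper29.QCoh.res (ClSub.quotMod D) hW'W τ = 0 := by
      refine eq_zero_of_germ_eq_zero (unitM D.subscheme)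
        (show Γ(unitM D.subscheme, D.subschemeι ⁻¹ᵁ W') from
          Groth.Agent.Lib.Helper29.QCoh.res (ClSub.quotMod D) hW'W τ) (fun y hy => ?_)
      exfalso
      have h1 : D.subschemeι y ∈ (D.support : Set X)ᶜ := hy.2
      apply h1
      rw [← Scheme.IdealSheafData.range_subschemeι]
      exact ⟨y, rfl⟩
    rw [← germ_res (ClSub.quotMod D) hW'W x hxW' τ, h0, map_zero]
  rw [key a, key b]

theorem support_quotMod_subset (I : X.IdealSheafData) :
    CohB1.support (ClSub.quotMod I) ⊆ (I.support : Set X) := by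
  intro x hx
  by_contra hxD
  exact hx (subsingleton_stalk_quotMod I x hxD)

end General

section Arith

theorem le_pred_of_add_one_le (a : WithBot ℕ∞) (n : ℕ) (hn : 1 ≤ n)
    (h : a + 1 ≤ (n : WithBot ℕ∞)) : a ≤ ((n - 1 : ℕ) : WithBot ℕ∞) := by
  induction a using WithBot.recBotCoe with
  | bot => exact bot_le
  | coe c =>
    induction c using ENat.recTopCoe with
    | top =>
      exfalso
      have h1 : ((⊤ : ℕ∞) : WithBot ℕ∞) + 1 = ((⊤ : ℕ∞) : WithBot ℕ∞) := by
        rw [← WithBot.coe_one, ← WithBot.coe_add, top_add]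
      rw [h1] at h
      have h2 : ((n : ℕ∞) : WithBot ℕ∞) = (n : WithBot ℕ∞) := rfl
      rw [← h2, WithBot.coe_le_coe] at h
      exact absurd h (by simp)
    | coe m =>
      have h1 : m + 1 ≤ n := by exact_mod_cast h
      have h2 : m ≤ n - 1 := by omega
      exact (Nat.mono_cast h2 : ((m : ℕ) : WithBot ℕ∞) ≤ ((n - 1 : ℕ) : WithBot ℕ∞))

end Arith

variable (k : Type u) [Field k] (n : ℕ)

/-- the dimension of `P^n_k` is at most `n` (copied from lead's `CMEquiv` to keep the import
closure small) -/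
theorem topologicalKrullDim_projSpace_le :
    topologicalKrullDim ↥(CohB1.ProjSpace n k) ≤ (n : WithBot ℕ∞) := by
  haveI : IsNoetherian (Proj (CohB1.polyGrading n k)) :=
    Groth.Agent.S2357.result (CohB1.polyGrading n k)
  haveI : IsNoetherian (CohB1.ProjSpace n k) :=
    inferInstanceAs (IsNoetherian (Proj (CohB1.polyGrading n k)))
  rw [Groth.Agent.Lib.Helper14.AS.topologicalKrullDim_eq_iSup_stalk]
  refine iSup_le fun z => ?_
  obtain ⟨a, ha⟩ := Groth.Agent.Lib.Helper21.FibDim.exists_nat_trdeg k (CohB1.ProjSpace n k) z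
  obtain ⟨b, hb⟩ := Groth.Agent.Lib.Helper21.exists_nat_eq_ringKrullDim
    (R := (CohB1.ProjSpace n k).presheaf.stalk z)
  have h2 := Groth.Agent.Lib.Helper17.PnReg.trdeg_add_dim k n z a b ha hb
  rw [hb]
  have : b ≤ n := by omega
  exact_mod_cast this

/-- A coherent module on `P^n_k` whose support has dimension `≤ d` has no cohomology in degrees
`> d`. -/
theorem subsingleton_HH_of_dim_support_le (G : (CohB1.ProjSpace n k).Modules)
    (hG : Coh.IsCoh G) (d : ℕ) (hdim : topologicalKrullDim (CohB1.support G) ≤ d) (j : ℕ)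
    (hj : d < j) : Subsingleton (Coh.HH (CohB1.ProjSpace n k) G j) := by
  haveI : IsNoetherian (Proj (CohB1.polyGrading n k)) :=
    Groth.Agent.S2357.result (CohB1.polyGrading n k)
  haveI : IsNoetherian (CohB1.ProjSpace n k) :=
    inferInstanceAs (IsNoetherian (Proj (CohB1.polyGrading n k)))
  haveI : G.IsFiniteType := hG.2
  have hW : IsClosed (CohB1.support G) := Groth.Agent.Lib.Helper12.H12Dev.isClosed_support G
  let Wc : Closeds (CohB1.ProjSpace n k) := ⟨CohB1.support G, hW⟩
  let ι := (Scheme.IdealSheafData.vanishingIdeal Wc).subschemeι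
  have hr : Set.range ι = CohB1.support G :=
    Groth.Agent.Lib.Helper12.H12Dev.range_subschemeι_vanishingIdeal Wc
  refine Groth.Agent.Lib.Helper18.CZ1.subsingleton_HH_of_support ι j ?_ G hG (by rw [hr])
  intro N _
  have hmem : ∀ z, ι z ∈ CohB1.support G := fun z => hr ▸ Set.mem_range_self z
  have hind : Topology.IsInducing (Set.codRestrict ι (CohB1.support G) hmem) :=
    ι.isClosedEmbedding.isInducing.codRestrict hmem
  have hdimZ : topologicalKrullDim ↥(Scheme.IdealSheafData.vanishingIdeal Wc).subscheme ≤ d :=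
    hind.topologicalKrullDim_le.trans hdim
  haveI : NoetherianSpace ↥(Scheme.IdealSheafData.vanishingIdeal Wc).subscheme :=
    ι.isClosedEmbedding.isInducing.noetherianSpace
  haveI : NoetherianSpace ↑(Scheme.IdealSheafData.vanishingIdeal Wc).subscheme.toTopCat :=
    (inferInstance : NoetherianSpace ↥(Scheme.IdealSheafData.vanishingIdeal Wc).subscheme)
  exact Groth.Agent.S0458.result
    (X := (Scheme.IdealSheafData.vanishingIdeal Wc).subscheme.toTopCat) d hdimZ (Coh.toAb N) j hj

/-- Top cohomology of `O_X(m)` vanishes when the ideal sheaf of `X ⊆ P^n_k` is nonzero. -/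
theorem subsingleton_HH_quot_tw (hn : 1 ≤ n) (I : (CohB1.ProjSpace n k).IdealSheafData)
    (hI : ¬ IsZero (ClSub.idealMod I)) (m : ℤ) (j : ℕ) (hj : n ≤ j) :
    Subsingleton (Coh.HH (CohB1.ProjSpace n k)
      (CohB1.tensorMod (ClSub.quotMod I) (Twist.twistProjSpace n k m)) j) := by
  haveI : IsNoetherian (Proj (CohB1.polyGrading n k)) :=
    Groth.Agent.S2357.result (CohB1.polyGrading n k)
  haveI : IsNoetherian (CohB1.ProjSpace n k) :=
    inferInstanceAs (IsNoetherian (Proj (CohB1.polyGrading n k)))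
  haveI : IsIntegral (CohB1.ProjSpace n k) := Groth.Agent.Lib.Lead.SD.isIntegral_projSpace' n k
  have cQ : Coh.IsCoh (ClSub.quotMod I) :=
    Groth.Agent.S0019.result I.subschemeι _
      (Groth.Agent.Lib.Helper12.H12Dev.isCoh_unitM I.subscheme)
  have hG : Coh.IsCoh (CohB1.tensorMod (ClSub.quotMod I) (Twist.twistProjSpace n k m)) :=
    Groth.Agent.Lib.Lead.SD.RegComplex.isCoh_tw k n _ cQ m
  haveI : (CohB1.tensorMod (ClSub.quotMod I) (Twist.twistProjSpace n k m)).IsFiniteType := hG.2
  have hcl : IsClosed (CohB1.support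
      (CohB1.tensorMod (ClSub.quotMod I) (Twist.twistProjSpace n k m))) :=
    Groth.Agent.Lib.Helper12.H12Dev.isClosed_support _
  have hsub : CohB1.support (CohB1.tensorMod (ClSub.quotMod I) (Twist.twistProjSpace n k m)) ⊆
      (I.support : Set (CohB1.ProjSpace n k)) :=
    (Groth.Agent.Lib.Helper25.SuppTensor.support_tensorMod_subset _ _).trans
      (support_quotMod_subset I)
  have hne : I.support ≠ ⊤ := by
    intro h
    rw [Scheme.IdealSheafData.support_eq_top_iff] at h
    exact hI (h ▸ isZero_idealMod_bot)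
  have hint : interior (CohB1.support
      (CohB1.tensorMod (ClSub.quotMod I) (Twist.twistProjSpace n k m))) = ∅ := by
    by_contra hne'
    have hne2 : (interior (CohB1.support
      (CohB1.tensorMod (ClSub.quotMod I) (Twist.twistProjSpace n k m)))).Nonempty :=
      Set.nonempty_iff_ne_empty.2 hne'
    have hdense : Dense (interior (CohB1.support
      (CohB1.tensorMod (ClSub.quotMod I) (Twist.twistProjSpace n k m)))) :=
      isOpen_interior.dense hne2
    apply hne
    apply SetLike.coe_injective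
    rw [Closeds.coe_top]
    apply Set.eq_univ_of_univ_subset
    rw [← hdense.closure_eq]
    exact closure_minimal (interior_subset.trans hsub) I.support.isClosed
  have h1 := Groth.Agent.Lib.Helper18.ZeroDim.topologicalKrullDim_add_one_le_of_nowhereDense
    (X := CohB1.ProjSpace n k) _ hcl hint
  have h2 := h1.trans (topologicalKrullDim_projSpace_le k n)
  have h3 := le_pred_of_add_one_le _ n hn h2
  exact subsingleton_HH_of_dim_support_le k n _ hG (n - 1) h3 j (by omega)

end Groth.Agent.Lib.Helper15.HY1
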