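import Groth.Agent.Lib.Helper15.HY1

/-!
# HY2: cohomology of `O_X(n)` for a hypersurface `X ⊆ P^{d+1}_k`
-/

set_option autoImplicit false

universe u

open CategoryTheory CategoryTheory.Limits AlgebraicGeometry Opposite TopologicalSpace Abelian

namespace Groth.Agent.Lib.Helper15.HY2

open Groth.Agent.Lib.Helper29.QCoh Groth.Agent.Lib.Lead.LinLES Groth.Agent.Lib.Lead.Pn
open Groth.Agent.Lib.Lead.TwistExact Groth.Agent.Lib.Helper25.HypTwist

section General

variable (k : Type u) [Field k] {X : Scheme.{u}} [X.Over (Spec (CommRingCat.of k))]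

/-- an isomorphism of modules induces a linear equivalence on cohomology -/
noncomputable def HHlinEquiv {M N : X.Modules} (φ : M ≅ N) (q : ℕ) :
    Coh.HH X M q ≃ₗ[k] Coh.HH X N q :=
  LinearEquiv.ofLinear (Canon.HHlin k φ.hom q) (Canon.HHlin k φ.inv q)
    (by ext x
        change Canon.HHlin k φ.hom q (Canon.HHlin k φ.inv q x) = x
        rw [← HHlin_comp, φ.inv_hom_id, HHlin_id])
    (by ext x
        change Canon.HHlin k φ.inv q (Canon.HHlin k φ.hom q x) = x
        rw [← HHlin_comp, φ.hom_inv_id, HHlin_id])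

theorem injective_HHlin_zero (S : ShortComplex X.Modules) (hS : S.ShortExact) :
    Function.Injective (Canon.HHlin k S.f 0) := by
  have : Mono (abMap S.f) := (abS_shortExact S hS).mono_f
  exact Ext.postcomp_mk₀_injective_of_mono _ (abMap S.f)

/-- `h⁰(X₃) = h⁰(X₂) - h⁰(X₁)` when `H¹(X₁) = 0`. -/
theorem finrank_HH_zero_X₃ (S : ShortComplex X.Modules) (hS : S.ShortExact)
    [Module.Finite k (Coh.HH X S.X₂ 0)]
    (h1 : Subsingleton (Coh.HH X S.X₁ (0 + 1))) :
    Module.Finite k (Coh.HH X S.X₃ 0) ∧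
      Module.finrank k (Coh.HH X S.X₃ 0) =
        Module.finrank k (Coh.HH X S.X₂ 0) - Module.finrank k (Coh.HH X S.X₁ 0) := by
  have hsurj : Function.Surjective (Canon.HHlin k S.g 0) := by
    intro x
    exact (exact₃ k S hS 0 x).mp (Subsingleton.elim _ _)
  have hfin : Module.Finite k (Coh.HH X S.X₃ 0) := Module.Finite.of_surjective _ hsurj
  refine ⟨hfin, ?_⟩
  have hrk := LinearMap.finrank_range_add_finrank_ker (Canon.HHlin k S.g 0)
  have hker : LinearMap.ker (Canon.HHlin k S.g 0) = LinearMap.range (Canon.HHlin k S.f 0) :=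
    (LinearMap.exact_iff.mp (exact₂ k S hS 0))
  have hrange : LinearMap.range (Canon.HHlin k S.g 0) = ⊤ := LinearMap.range_eq_top.mpr hsurj
  rw [hker, hrange, finrank_top,
    LinearMap.finrank_range_of_inj (injective_HHlin_zero k S hS)] at hrk
  omega

/-- `h^d(X₃) = h^{d+1}(X₁) - h^{d+1}(X₂)` when `H^d(X₂) = 0 = H^{d+1}(X₃)`. -/
theorem finrank_HH_X₃_of_top (S : ShortComplex X.Modules) (hS : S.ShortExact) (d : ℕ)
    [Module.Finite k (Coh.HH X S.X₁ (d + 1))]
    (h2 : Subsingleton (Coh.HH X S.X₂ d)) (h3 : Subsingleton (Coh.HH X S.X₃ (d + 1))) :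
    Module.Finite k (Coh.HH X S.X₃ d) ∧
      Module.finrank k (Coh.HH X S.X₃ d) =
        Module.finrank k (Coh.HH X S.X₁ (d + 1)) - Module.finrank k (Coh.HH X S.X₂ (d + 1)) := by
  have hinj : Function.Injective (δlin k S hS d) := by
    rw [injective_iff_map_eq_zero]
    intro x hx
    obtain ⟨y, rfl⟩ := (exact₃ k S hS d x).mp hx
    rw [Subsingleton.elim y 0, map_zero]
  have hfin : Module.Finite k (Coh.HH X S.X₃ d) := Module.Finite.of_injective _ hinj
  refine ⟨hfin, ?_⟩
  have hsurj : Function.Surjective (Canon.HHlin k S.f (d + 1)) := by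
    intro x
    exact (exact₂ k S hS (d + 1) x).mp (Subsingleton.elim _ _)
  have hrk := LinearMap.finrank_range_add_finrank_ker (Canon.HHlin k S.f (d + 1))
  have hker : LinearMap.ker (Canon.HHlin k S.f (d + 1)) = LinearMap.range (δlin k S hS d) :=
    (LinearMap.exact_iff.mp (exact₁ k S hS d))
  have hrange : LinearMap.range (Canon.HHlin k S.f (d + 1)) = ⊤ :=
    LinearMap.range_eq_top.mpr hsurj
  rw [hker, hrange, finrank_top, LinearMap.finrank_range_of_inj hinj] at hrk
  omega

end General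

variable (k : Type u) [Field k] (r : ℕ)

theorem finrank_HH_zero_twist (hr : 1 ≤ r) (m : ℤ) :
    Module.finrank k (Coh.HH (CohB1.ProjSpace r k) (Twist.twistProjSpace r k m) 0) =
      Nat.choose (m + (r : ℤ)).toNat r := by
  rcases le_or_gt 0 m with hm | hm
  · obtain ⟨a, rfl⟩ := Int.eq_ofNat_of_zero_le hm
    rw [← (Groth.Agent.Lib.Helper29.QCoh.h0TwistEquiv r k a).finrank_eq,
      Groth.Agent.Lib.Lead.Pn.finrank_homogeneousSubmodule]
    congr 1
  · have hsub : Subsingleton (Coh.HH (CohB1.ProjSpace r k) (Twist.twistProjSpace r k m) 0) :=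
      Groth.Agent.S0844.result k r m 0 (fun h => by omega) (fun h => by omega)
    rw [Module.finrank_zero_of_subsingleton, Nat.choose_eq_zero_of_lt]
    omega

theorem finrank_HH_top_twist (hr : 1 ≤ r) (m : ℤ) :
    Module.finrank k (Coh.HH (CohB1.ProjSpace r k) (Twist.twistProjSpace r k m) r) =
      Nat.choose (-m - 1).toNat r := by
  rcases le_or_gt m (-((r : ℤ) + 1)) with hm | hm
  · obtain ⟨a, ha⟩ := Int.eq_ofNat_of_zero_le (show 0 ≤ -m - r - 1 by omega)
    have hm' : m = -((r : ℤ) + 1 + a) := by omega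
    subst hm'
    obtain ⟨e⟩ := Groth.Agent.S0845.result k r a
    rw [e.finrank_eq, Groth.Agent.Lib.Lead.Pn.finrank_homogeneousSubmodule]
    congr 1
    omega
  · have hsub : Subsingleton (Coh.HH (CohB1.ProjSpace r k) (Twist.twistProjSpace r k m) r) :=
      Groth.Agent.S0844.result k r m r (fun h => by omega) (fun h => by omega)
    rw [Module.finrank_zero_of_subsingleton, Nat.choose_eq_zero_of_lt]
    omega

end Groth.Agent.Lib.Helper15.HY2
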