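import Mathlib
import Groth.Agent.Lib.Helper15.AzumayaTensor

/-!
# The representation of `B ⊗ Aᵐᵒᵖ` on the special fibre of `B` (helper15)
-/

set_option autoImplicit false
set_option linter.style.haveILetI false
universe u

namespace Groth.Agent.Lib.Helper15.HensAz

open TensorProduct MulOpposite

section mop

variable (R : Type*) [CommRing R] (A : Type*) [Ring A] [Algebra R A]

/-- the swap `a ⊗ bᵒᵖ ↦ bᵒᵖ ⊗ aᵒᵖᵒᵖ` -/
noncomputable def mopSwap : A ⊗[R] Aᵐᵒᵖ ≃ₗ[R] Aᵐᵒᵖ ⊗[R] Aᵐᵒᵖᵐᵒᵖ :=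
  (TensorProduct.comm R A Aᵐᵒᵖ).trans
    (TensorProduct.congr (LinearEquiv.refl R Aᵐᵒᵖ)
      ((opLinearEquiv R : A ≃ₗ[R] Aᵐᵒᵖ).trans (opLinearEquiv R : Aᵐᵒᵖ ≃ₗ[R] Aᵐᵒᵖᵐᵒᵖ)))

lemma mopSwap_tmul (a : A) (b : Aᵐᵒᵖ) : mopSwap R A (a ⊗ₜ b) = b ⊗ₜ op (op a) := rfl

lemma mulLeftRight_mopSwap (z : A ⊗[R] Aᵐᵒᵖ) :
    AlgHom.mulLeftRight R Aᵐᵒᵖ (mopSwap R A z) =
      (opLinearEquiv R : A ≃ₗ[R] Aᵐᵒᵖ).conj (AlgHom.mulLeftRight R A z) := by
  induction z using TensorProduct.induction_on with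
  | zero => simp
  | tmul a b =>
    ext x
    rw [mopSwap_tmul, AlgHom.mulLeftRight_apply, LinearEquiv.conj_apply_apply,
      AlgHom.mulLeftRight_apply]
    simp [mul_assoc]
  | add z z' hz hz' => simp only [map_add, hz, hz']

theorem isAzumaya_mop [IsAzumaya R A] : IsAzumaya R Aᵐᵒᵖ := by
  have hbij := IsAzumaya.bij (R := R) (A := A)
  have h1 : Module.Projective R Aᵐᵒᵖ := Module.Projective.of_equiv (opLinearEquiv R : A ≃ₗ[R] Aᵐᵒᵖ)
  have h2 : Module.Finite R Aᵐᵒᵖ := Module.Finite.equiv (opLinearEquiv R : A ≃ₗ[R] Aᵐᵒᵖ)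
  have h3 : FaithfulSMul R Aᵐᵒᵖ := by
    refine ⟨fun {r r'} h => ?_⟩
    refine FaithfulSMul.eq_of_smul_eq_smul (α := A) fun a => ?_
    have := h (op a)
    rw [← op_smul, ← op_smul] at this
    exact op_injective this
  have h4 : Function.Bijective (AlgHom.mulLeftRight R Aᵐᵒᵖ) := by
    have : ⇑(AlgHom.mulLeftRight R Aᵐᵒᵖ) =
        (opLinearEquiv R : A ≃ₗ[R] Aᵐᵒᵖ).conj ∘ (AlgHom.mulLeftRight R A) ∘ (mopSwap R A).symm := by
      funext w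
      obtain ⟨z, rfl⟩ := (mopSwap R A).surjective w
      simp only [Function.comp_apply, LinearEquiv.symm_apply_apply]
      exact mulLeftRight_mopSwap R A z
    rw [this]
    exact (LinearEquiv.bijective _).comp (hbij.comp (LinearEquiv.bijective _))
  exact { bij := h4 }

end mop

section rep

variable {R : Type u} [CommRing R] [IsLocalRing R]
  (A : Type u) [Ring A] [Algebra R A] (B : Type u) [Ring B] [Algebra R B]

local notation "k" => IsLocalRing.ResidueField R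

/-- `B → k ⊗ B` -/
noncomputable def jB : B →ₐ[R] k ⊗[R] B := Algebra.TensorProduct.includeRight

variable {A B}

/-- `A → k ⊗ A ≃ k ⊗ B` -/
noncomputable def jA (e₀ : (k ⊗[R] A) ≃ₐ[k] (k ⊗[R] B)) : A →ₐ[R] k ⊗[R] B :=
  (e₀.toAlgHom.restrictScalars R).comp Algebra.TensorProduct.includeRight

lemma jB_apply (b : B) : jB B b = (1 : k) ⊗ₜ[R] b := rfl

lemma jA_apply (e₀ : (k ⊗[R] A) ≃ₐ[k] (k ⊗[R] B)) (a : A) : jA e₀ a = e₀ ((1 : k) ⊗ₜ[R] a) := rfl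

lemma residue_surj : Function.Surjective (algebraMap R k) :=
  IsLocalRing.residue_surjective

lemma jB_surjective : Function.Surjective (jB (R := R) B) :=
  TensorProduct.mk_surjective R B k residue_surj

lemma jA_surjective (e₀ : (k ⊗[R] A) ≃ₐ[k] (k ⊗[R] B)) : Function.Surjective (jA e₀) := by
  intro y
  obtain ⟨x, hx⟩ := e₀.surjective y
  obtain ⟨a, rfl⟩ := TensorProduct.mk_surjective R A k residue_surj x
  exact ⟨a, hx⟩

/-- the kernel of `M → k ⊗ M` is `𝔪 M` -/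
lemma mem_smul_top_of_one_tmul_eq_zero {M : Type*} [AddCommGroup M] [Module R M] {x : M}
    (hx : (1 : k) ⊗ₜ[R] x = 0) : x ∈ (IsLocalRing.maximalIdeal R • ⊤ : Submodule R M) := by
  have h2 := TensorProduct.quotTensorEquivQuotSMul_mk_one_tmul (M := M)
    (IsLocalRing.maximalIdeal R) x
  have hx' : ((1 : R ⧸ IsLocalRing.maximalIdeal R) ⊗ₜ[R] x) = 0 := hx
  rw [hx', map_zero] at h2
  exact (Submodule.Quotient.mk_eq_zero _).mp h2.symm

lemma ker_jB_le {b : B} (hb : jB (R := R) B b = 0) :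
    b ∈ (IsLocalRing.maximalIdeal R • ⊤ : Submodule R B) :=
  mem_smul_top_of_one_tmul_eq_zero hb

lemma ker_jA_le (e₀ : (k ⊗[R] A) ≃ₐ[k] (k ⊗[R] B)) {a : A} (ha : jA e₀ a = 0) :
    a ∈ (IsLocalRing.maximalIdeal R • ⊤ : Submodule R A) := by
  apply mem_smul_top_of_one_tmul_eq_zero
  rw [jA_apply] at ha
  exact e₀.injective (ha.trans (map_zero e₀).symm)

variable (B) in
/-- left multiplication on the special fibre -/
noncomputable def lB : (k ⊗[R] B) →ₐ[k] Module.End k (k ⊗[R] B) :=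
  (AlgHom.mulLeftRight k (k ⊗[R] B)).comp Algebra.TensorProduct.includeLeft

variable (B) in
/-- right multiplication on the special fibre -/
noncomputable def rB : (k ⊗[R] B)ᵐᵒᵖ →ₐ[k] Module.End k (k ⊗[R] B) :=
  (AlgHom.mulLeftRight k (k ⊗[R] B)).restrictScalars k |>.comp
    Algebra.TensorProduct.includeRight

lemma lB_apply (x y : k ⊗[R] B) : lB B x y = x * y := by
  simp [lB]

lemma rB_apply (x : (k ⊗[R] B)ᵐᵒᵖ) (y : k ⊗[R] B) : rB B x y = y * x.unop := by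
  simp [rB]

/-- The action of `B ⊗ Aᵐᵒᵖ` on `k ⊗ B`: `b ⊗ aᵒᵖ` acts as `x ↦ b̄ x e₀(ā)`. -/
noncomputable def ρ (e₀ : (k ⊗[R] A) ≃ₐ[k] (k ⊗[R] B)) : B ⊗[R] Aᵐᵒᵖ →ₐ[R] Module.End k (k ⊗[R] B) :=
  Algebra.TensorProduct.lift (((lB B).restrictScalars R).comp (jB B))
    (((rB B).restrictScalars R).comp (AlgHom.op (jA e₀)))
    (fun b a => by
      apply LinearMap.ext
      intro x
      simp only [AlgHom.comp_apply, AlgHom.restrictScalars_apply, Module.End.mul_apply,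
        lB_apply, rB_apply, mul_assoc])

lemma ρ_tmul (e₀ : (k ⊗[R] A) ≃ₐ[k] (k ⊗[R] B)) (b : B) (a : Aᵐᵒᵖ) (x : k ⊗[R] B) :
    ρ e₀ (b ⊗ₜ a) x = jB B b * x * jA e₀ a.unop := by
  simp only [ρ, Algebra.TensorProduct.lift_tmul, AlgHom.comp_apply, AlgHom.restrictScalars_apply,
    Module.End.mul_apply, lB_apply, rB_apply, mul_assoc]
  rfl

/-- the induced map on the special fibre of `B ⊗ Aᵐᵒᵖ` -/
noncomputable def ρbar (e₀ : (k ⊗[R] A) ≃ₐ[k] (k ⊗[R] B)) : k ⊗[R] (B ⊗[R] Aᵐᵒᵖ) →ₐ[k] Module.End k (k ⊗[R] B) :=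
  Algebra.TensorProduct.lift (Algebra.ofId k _) (ρ e₀) (fun κ c => Algebra.commutes κ (ρ e₀ c))

lemma ρbar_one_tmul (e₀ : (k ⊗[R] A) ≃ₐ[k] (k ⊗[R] B)) (c : B ⊗[R] Aᵐᵒᵖ) : ρbar e₀ ((1 : k) ⊗ₜ c) = ρ e₀ c := by
  simp [ρbar]

end rep

end Groth.Agent.Lib.Helper15.HensAz
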