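import Mathlib
import Groth.Agent.Lib.Helper15.HensAzRep

/-!
# `k ⊗ (B ⊗ Aᵐᵒᵖ) ≅ End_k(k ⊗ B)` (helper15)
-/

set_option autoImplicit false
set_option linter.style.haveILetI false
universe u

namespace Groth.Agent.Lib.Helper15.HensAz

open TensorProduct MulOpposite

variable {R : Type u} [CommRing R] [IsLocalRing R]
  {A : Type u} [Ring A] [Algebra R A] {B : Type u} [Ring B] [Algebra R B]

local notation "k" => IsLocalRing.ResidueField R

theorem ρ_surjective [IsAzumaya R B] (e₀ : (k ⊗[R] A) ≃ₐ[k] (k ⊗[R] B)) :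
    Function.Surjective (ρ e₀) := by
  intro f
  haveI : IsAzumaya k (k ⊗[R] B) := Azumaya.isAzumaya_baseChange R k B
  obtain ⟨z, rfl⟩ := (IsAzumaya.bij (R := k) (A := k ⊗[R] B)).2 f
  induction z using TensorProduct.induction_on with
  | zero => exact ⟨0, by simp⟩
  | tmul x y =>
    obtain ⟨b, rfl⟩ := jB_surjective x
    obtain ⟨a, ha⟩ := jA_surjective e₀ y.unop
    refine ⟨b ⊗ₜ op a, ?_⟩
    apply LinearMap.ext
    intro w
    rw [ρ_tmul, AlgHom.mulLeftRight_apply, unop_op, ha]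
  | add z z' hz hz' =>
    obtain ⟨c, hc⟩ := hz
    obtain ⟨c', hc'⟩ := hz'
    exact ⟨c + c', by rw [map_add, map_add, hc, hc']⟩

theorem nontrivial_fibre [IsAzumaya R B] : Nontrivial (k ⊗[R] B) := by
  haveI : IsAzumaya k (k ⊗[R] B) := Azumaya.isAzumaya_baseChange R k B
  haveI : IsSimpleRing (k ⊗[R] B) := Azumaya.isSimpleRing_of_isAzumaya k _
  infer_instance

theorem ker_ρ_le [IsAzumaya R A] [IsAzumaya R B] (e₀ : (k ⊗[R] A) ≃ₐ[k] (k ⊗[R] B))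
    {c : B ⊗[R] Aᵐᵒᵖ} (hc : ρ e₀ c = 0) :
    c ∈ (IsLocalRing.maximalIdeal R • ⊤ : Submodule R (B ⊗[R] Aᵐᵒᵖ)) := by
  haveI : IsAzumaya R Aᵐᵒᵖ := isAzumaya_mop R A
  haveI : IsAzumaya R (B ⊗[R] Aᵐᵒᵖ) := Azumaya.isAzumaya_tensorProduct R B Aᵐᵒᵖ
  haveI : IsAzumaya k (k ⊗[R] (B ⊗[R] Aᵐᵒᵖ)) := Azumaya.isAzumaya_baseChange R k _
  haveI : IsSimpleRing (k ⊗[R] (B ⊗[R] Aᵐᵒᵖ)) :=
    Azumaya.isSimpleRing_of_isAzumaya k (k ⊗[R] (B ⊗[R] Aᵐᵒᵖ))
  haveI : Nontrivial (k ⊗[R] B) := nontrivial_fibre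
  have hinj : Function.Injective (ρbar e₀) :=
    @RingHom.injective (k ⊗[R] (B ⊗[R] Aᵐᵒᵖ)) (Module.End k (k ⊗[R] B)) inferInstance
      inferInstance inferInstance inferInstance (ρbar e₀).toRingHom
  apply mem_smul_top_of_one_tmul_eq_zero
  apply hinj
  rw [map_zero]
  exact (ρbar_one_tmul e₀ c).trans hc

/-- elements of `𝔪 C` act as zero -/
theorem ρ_eq_zero_of_mem (e₀ : (k ⊗[R] A) ≃ₐ[k] (k ⊗[R] B))
    {c : B ⊗[R] Aᵐᵒᵖ}
    (hc : c ∈ (IsLocalRing.maximalIdeal R • ⊤ : Submodule R (B ⊗[R] Aᵐᵒᵖ))) : ρ e₀ c = 0 := by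
  refine Submodule.smul_induction_on hc (fun r hr c _ => ?_) (fun a b ha hb => ?_)
  · rw [map_smul, ← IsScalarTower.algebraMap_smul k r (ρ e₀ c)]
    have : algebraMap R k r = 0 := by
      change IsLocalRing.residue R r = 0
      rwa [IsLocalRing.residue_eq_zero_iff]
    rw [this, zero_smul]
  · rw [map_add, ha, hb, add_zero]

end Groth.Agent.Lib.Helper15.HensAz
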