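import Mathlib
import Groth.Agent.Lib.Helper4.HensProj

/-!
# Lifting idempotents in module-finite (noncommutative) algebras over a henselian pair (helper15)
-/

set_option autoImplicit false
set_option linter.style.haveILetI false
universe u

namespace Groth.Agent.Lib.Helper15.HensAz

open Polynomial

section two_sided

variable {R : Type*} [CommRing R] {C : Type*} [Ring C] [Algebra R C] (I : Ideal R)

/-- `I • C` is a right ideal. -/
lemma mul_right_mem_smul_top {x : C} (hx : x ∈ (I • ⊤ : Submodule R C)) (y : C) :
    x * y ∈ (I • ⊤ : Submodule R C) := by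
  refine Submodule.smul_induction_on hx (fun r hr c _ => ?_) (fun a b ha hb => ?_)
  · rw [smul_mul_assoc]
    exact Submodule.smul_mem_smul hr Submodule.mem_top
  · rw [add_mul]
    exact Submodule.add_mem _ ha hb

/-- `I • C` is a left ideal. -/
lemma mul_left_mem_smul_top {x : C} (hx : x ∈ (I • ⊤ : Submodule R C)) (y : C) :
    y * x ∈ (I • ⊤ : Submodule R C) := by
  refine Submodule.smul_induction_on hx (fun r hr c _ => ?_) (fun a b ha hb => ?_)
  · rw [mul_smul_comm]
    exact Submodule.smul_mem_smul hr Submodule.mem_top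
  · rw [mul_add]
    exact Submodule.add_mem _ ha hb

lemma algebraMap_mem_smul_top {r : R} (hr : r ∈ I) : algebraMap R C r ∈ (I • ⊤ : Submodule R C) := by
  rw [Algebra.algebraMap_eq_smul_one]
  exact Submodule.smul_mem_smul hr Submodule.mem_top

end two_sided

/-- An element of `I • C` in a module-finite algebra satisfies a monic polynomial whose lower
coefficients lie in `I`. -/
theorem exists_monic_pow_add {R : Type*} [CommRing R] {C : Type*} [Ring C] [Algebra R C]
    [Module.Finite R C] (I : Ideal R) {x : C} (hx : x ∈ (I • ⊤ : Submodule R C)) :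
    ∃ (d : ℕ) (q : R[X]), q ∈ Ideal.map (Polynomial.C : R →+* R[X]) I ∧
      x ^ d + aeval x q = 0 := by
  have hrange : LinearMap.range (Algebra.lmul R C x) ≤ (I • ⊤ : Submodule R C) := by
    rintro _ ⟨y, rfl⟩
    exact mul_right_mem_smul_top I hx y
  obtain ⟨p, hpm, -, hpc, hp0⟩ :=
    LinearMap.exists_monic_and_natDegree_eq_and_coeff_mem_pow_and_aeval_eq_zero R
      (Algebra.lmul R C x) I hrange
  have hx0 : aeval x p = 0 := by
    rw [Polynomial.aeval_algHom_apply] at hp0
    have := LinearMap.congr_fun hp0 1
    simpa using this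
  refine ⟨p.natDegree, p - X ^ p.natDegree, ?_, ?_⟩
  · rw [Ideal.mem_map_C_iff]
    intro k
    rw [coeff_sub, coeff_X_pow]
    rcases lt_trichotomy k p.natDegree with h | h | h
    · rw [if_neg h.ne, sub_zero]
      exact Ideal.pow_le_self (Nat.sub_ne_zero_of_lt h) (hpc k)
    · rw [if_pos h, h, hpm.coeff_natDegree, sub_self]
      exact I.zero_mem
    · rw [if_neg h.ne', sub_zero, coeff_eq_zero_of_natDegree_lt h]
      exact I.zero_mem
  · rw [map_sub, map_pow, aeval_X, hx0]
    abel

/-- **Idempotent lifting** in a module-finite, not necessarily commutative algebra over a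
henselian pair. -/
theorem exists_idempotent_lift {R : Type u} [CommRing R] (I : Ideal R) [HenselianRing R I]
    {C : Type u} [Ring C] [Algebra R C] [Module.Finite R C] (c : C)
    (hc : c * c - c ∈ (I • ⊤ : Submodule R C)) :
    ∃ e : C, e * e = e ∧ e - c ∈ (I • ⊤ : Submodule R C) := by
  classical
  let ev : R[X] →ₐ[R] C := aeval c
  let B := R[X] ⧸ RingHom.ker ev
  let φ : B →ₐ[R] C := Ideal.kerLiftAlg ev
  have φinj : Function.Injective φ := Ideal.kerLiftAlg_injective ev
  have hint : Algebra.IsIntegral R B :=
    ⟨fun b => (isIntegral_algHom_iff φ φinj).mp (Algebra.IsIntegral.isIntegral (φ b))⟩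
  have hHB : HenselianRing B (I.map (algebraMap R B)) :=
    Groth.Agent.Lib.Helper4.HenselPair.henselianRing_map_of_isIntegral R I B
  let J : Ideal B :=
    { carrier := {b | φ b ∈ (I • ⊤ : Submodule R C)}
      add_mem' := fun {a b} ha hb => by
        change φ (a + b) ∈ (I • ⊤ : Submodule R C)
        rw [map_add]
        exact Submodule.add_mem _ ha hb
      zero_mem' := by
        change φ 0 ∈ (I • ⊤ : Submodule R C)
        rw [map_zero]
        exact Submodule.zero_mem _
      smul_mem' := fun a b hb => by
        change φ (a • b) ∈ (I • ⊤ : Submodule R C)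
        rw [smul_eq_mul, map_mul]
        exact mul_left_mem_smul_top I hb _ }
  have hJmem : ∀ b : B, b ∈ J ↔ φ b ∈ (I • ⊤ : Submodule R C) := fun b => Iff.rfl
  have hIJ : I.map (algebraMap R B) ≤ J := by
    rw [Ideal.map_le_iff_le_comap]
    intro r hr
    rw [Ideal.mem_comap, hJmem, φ.commutes]
    exact algebraMap_mem_smul_top I hr
  have hJrad : J ≤ (I.map (algebraMap R B)).radical := by
    intro b hb
    rw [hJmem] at hb
    obtain ⟨d, q, hq, hqx⟩ := exists_monic_pow_add I hb
    have hroot : b ^ d + aeval b q = 0 := by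
      apply φinj
      rw [map_add, map_pow, ← aeval_algHom_apply, map_zero]
      exact hqx
    have hqB : aeval b q ∈ I.map (algebraMap R B) := by
      have h1 : (aeval b : R[X] →ₐ[R] B).toRingHom.comp (Polynomial.C : R →+* R[X]) =
          algebraMap R B := by
        ext r
        simp
      rw [← h1, ← Ideal.map_map]
      exact Ideal.mem_map_of_mem _ hq
    refine ⟨d, ?_⟩
    have h2 : b ^ d = - aeval b q := by linear_combination hroot
    rw [h2]
    exact neg_mem hqB
  have hrad : (I.map (algebraMap R B)).radical = J.radical := by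
    apply le_antisymm
    · exact Ideal.radical_mono hIJ
    · rw [← Ideal.radical_idem (I.map (algebraMap R B))]
      exact Ideal.radical_mono hJrad
  have hHJ : HenselianRing B J :=
    (Groth.Agent.Lib.Helper11.henselianRing_iff_of_radical_eq _ J hrad).mp hHB
  let abar : B := Ideal.Quotient.mk _ X
  have hφa : φ abar = c := by
    change Ideal.kerLiftAlg ev (Ideal.Quotient.mk _ X) = c
    rw [Ideal.kerLiftAlg_mk]
    exact aeval_X c
  have hidem : abar * abar - abar ∈ J := by
    rw [hJmem, map_sub, map_mul, hφa]
    exact hc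
  let f : B[X] := X ^ 2 - X
  have hfmonic : f.Monic := by
    rcases subsingleton_or_nontrivial B with hB | hB
    · exact Subsingleton.elim _ _
    · apply monic_X_pow_sub
      rw [degree_X]
      norm_num
  have hfeval : ∀ b : B, f.eval b = b * b - b := by
    intro b
    simp only [f, eval_sub, eval_pow, eval_X]
    ring
  have hfder : ∀ b : B, f.derivative.eval b = 2 * b - 1 := by
    intro b
    simp only [f, derivative_sub, derivative_X_pow, derivative_X, eval_sub, eval_mul, eval_pow,
      eval_X, eval_one]
    simp
  have hunit : IsUnit (Ideal.Quotient.mk J (f.derivative.eval abar)) := by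
    rw [hfder]
    have hsq : Ideal.Quotient.mk J (2 * abar - 1) * Ideal.Quotient.mk J (2 * abar - 1) = 1 := by
      rw [← map_mul, ← map_one (Ideal.Quotient.mk J), Ideal.Quotient.eq]
      have : (2 * abar - 1) * (2 * abar - 1) - 1 = 4 * (abar * abar - abar) := by ring
      rw [this]
      exact J.mul_mem_left _ hidem
    exact ⟨⟨_, _, hsq, hsq⟩, rfl⟩
  obtain ⟨e', he', he'J⟩ := HenselianRing.is_henselian f hfmonic abar
    (by rw [hfeval]; exact hidem) hunit
  rw [Polynomial.IsRoot.def, hfeval, sub_eq_zero] at he'
  refine ⟨φ e', by rw [← map_mul, he'], ?_⟩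
  have h3 := (hJmem _).mp he'J
  rw [map_sub, hφa] at h3
  exact h3

end Groth.Agent.Lib.Helper15.HensAz
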