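import Mathlib
import Groth.Agent.Lib.Helper15.HensAzRep2
import Groth.Agent.Lib.Helper15.HensIdem

/-!
# Lifting isomorphisms of Azumaya algebras over a henselian local ring (helper15)
-/

set_option autoImplicit false
set_option linter.style.haveILetI false
universe u

namespace Groth.Agent.Lib.Helper15.HensAz

open TensorProduct MulOpposite

section general

variable {R : Type*} [CommRing R] [IsLocalRing R]

/-- a surjection from a finite module onto a projective module whose kernel lies in `𝔪 M` is
injective -/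
theorem injective_of_surjective_of_ker_le {M P : Type*} [AddCommGroup M] [Module R M]
    [Module.Finite R M] [AddCommGroup P] [Module R P] [Module.Projective R P] (f : M →ₗ[R] P)
    (hs : Function.Surjective f)
    (hk : LinearMap.ker f ≤ (IsLocalRing.maximalIdeal R • ⊤ : Submodule R M)) :
    Function.Injective f := by
  obtain ⟨s, hsf⟩ := Module.projective_lifting_property f LinearMap.id hs
  let π : M →ₗ[R] M := LinearMap.id - s.comp f
  have hπker : ∀ x, π x ∈ LinearMap.ker f := by
    intro x
    have h1 : f (s (f x)) = f x := LinearMap.congr_fun hsf (f x)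
    simp [π, LinearMap.mem_ker, h1]
  have hπid : ∀ x ∈ LinearMap.ker f, π x = x := by
    intro x hx
    rw [LinearMap.mem_ker] at hx
    simp [π, hx]
  have hfg : (LinearMap.ker f).FG := by
    have : LinearMap.ker f = Submodule.map π ⊤ := by
      apply le_antisymm
      · intro x hx
        exact ⟨x, Submodule.mem_top, hπid x hx⟩
      · rintro _ ⟨x, -, rfl⟩
        exact hπker x
    rw [this]
    exact (Module.Finite.fg_top (R := R) (M := M)).map π
  have hle : LinearMap.ker f ≤ IsLocalRing.maximalIdeal R • LinearMap.ker f := by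
    intro x hx
    rw [← hπid x hx]
    refine Submodule.smul_induction_on (hk hx) (fun r hr y _ => ?_) (fun a b ha hb => ?_)
    · rw [map_smul]
      exact Submodule.smul_mem_smul hr (hπker y)
    · rw [map_add]
      exact Submodule.add_mem _ ha hb
  have hbot := Submodule.eq_bot_of_le_smul_of_le_jacobson_bot _ _ hfg hle
    (IsLocalRing.maximalIdeal_le_jacobson ⊥)
  exact LinearMap.ker_eq_bot.mp hbot

variable {C : Type*} [Ring C] [Algebra R C]

/-- the left ideal `C ε` as an `R`-submodule -/
def Ceps (ε : C) : Submodule R C := LinearMap.range (LinearMap.mulRight R ε)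

lemma mul_mem_Ceps (ε c : C) : c * ε ∈ Ceps (R := R) ε := ⟨c, rfl⟩

lemma mul_eq_of_mem_Ceps {ε : C} (hε : ε * ε = ε) {x : C} (hx : x ∈ Ceps (R := R) ε) :
    x * ε = x := by
  obtain ⟨c, rfl⟩ := hx
  simp [mul_assoc, hε]

theorem projective_Ceps [Module.Projective R C] {ε : C} (hε : ε * ε = ε) :
    Module.Projective R (Ceps (R := R) ε) := by
  refine Module.Projective.of_split (Ceps (R := R) ε).subtype
    ((LinearMap.mulRight R ε).rangeRestrict) ?_
  apply LinearMap.ext
  rintro ⟨x, hx⟩
  apply Subtype.ext
  change x * ε = x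
  exact mul_eq_of_mem_Ceps hε hx

theorem fg_Ceps [Module.Finite R C] (ε : C) : (Ceps (R := R) ε).FG := by
  rw [Ceps, LinearMap.range_eq_map]
  exact (Module.Finite.fg_top (R := R) (M := C)).map _

/-- Abstract form of the identification `M ≃ C ε`. -/
theorem bijective_toCeps [Module.Finite R C] [Module.Projective R C]
    {M : Type*} [AddCommGroup M] [Module R M] [Module.Finite R M]
    {ε : C} (hε : ε * ε = ε) (θ : M →ₗ[R] C)
    {V : Type*} [AddCommGroup V] [Module R V] (ev : C →ₗ[R] V) (ν : M →ₗ[R] V)
    (hν : Function.Surjective ν)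
    (hker : ∀ x, ν x = 0 → x ∈ (IsLocalRing.maximalIdeal R • ⊤ : Submodule R M))
    (h1 : ∀ x, ev (θ x * ε) = ν x)
    (h2 : ∀ c c' : C, ev (c * ε) = ev (c' * ε) →
      c * ε - c' * ε ∈ (IsLocalRing.maximalIdeal R • ⊤ : Submodule R C)) :
    Function.Bijective
      (((LinearMap.mulRight R ε).rangeRestrict.comp θ : M →ₗ[R] Ceps (R := R) ε)) := by
  set ψ : M →ₗ[R] Ceps (R := R) ε := (LinearMap.mulRight R ε).rangeRestrict.comp θ with hψ
  have hψv : ∀ x, ((ψ x : Ceps (R := R) ε) : C) = θ x * ε := fun x => rfl
  haveI := projective_Ceps (R := R) hε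
  have hsurj : Function.Surjective ψ := by
    -- Nakayama inside `C`
    let N : Submodule R C := Submodule.map (Ceps (R := R) ε).subtype (LinearMap.range ψ)
    have hle : Ceps (R := R) ε ≤ N ⊔ IsLocalRing.maximalIdeal R • Ceps (R := R) ε := by
      rintro _ ⟨c, rfl⟩
      change c * ε ∈ _
      obtain ⟨x, hx⟩ := hν (ev (c * ε))
      have hd := h2 c (θ x) (by rw [h1, hx])
      have hd' : (c * ε - θ x * ε) ∈ IsLocalRing.maximalIdeal R • Ceps (R := R) ε := by
        have hde : (c * ε - θ x * ε) * ε = c * ε - θ x * ε := by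
          simp [sub_mul, mul_assoc, hε]
        rw [← hde]
        refine Submodule.smul_induction_on hd (fun r hr y _ => ?_) (fun a b ha hb => ?_)
        · rw [smul_mul_assoc]
          exact Submodule.smul_mem_smul hr (mul_mem_Ceps ε y)
        · rw [add_mul]
          exact Submodule.add_mem _ ha hb
      have hN : θ x * ε ∈ N := ⟨ψ x, ⟨x, rfl⟩, rfl⟩
      have : c * ε = θ x * ε + (c * ε - θ x * ε) := by abel
      rw [this]
      exact Submodule.add_mem_sup hN hd'
    have hfin := Submodule.le_of_le_smul_of_le_jacobson_bot (fg_Ceps (R := R) ε)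
      (IsLocalRing.maximalIdeal_le_jacobson ⊥) hle
    rintro ⟨y, hy⟩
    obtain ⟨z, ⟨x, rfl⟩, hz⟩ := hfin hy
    exact ⟨x, Subtype.ext hz⟩
  refine ⟨injective_of_surjective_of_ker_le ψ hsurj ?_, hsurj⟩
  intro x hx
  rw [LinearMap.mem_ker] at hx
  apply hker
  rw [← h1, ← hψv, hx]
  simp

end general

end Groth.Agent.Lib.Helper15.HensAz
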