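import Mathlib
import Groth.Agent.Lib.Helper15.HensAzIso

/-!
# Lifting isomorphisms of Azumaya algebras over a henselian local ring: assembly (helper15)
-/

set_option autoImplicit false
set_option linter.style.haveILetI false
universe u

namespace Groth.Agent.Lib.Helper15.HensAz

open TensorProduct MulOpposite

variable {R : Type u} [CommRing R] [HenselianLocalRing R]
  {A : Type u} [Ring A] [Algebra R A] {B : Type u} [Ring B] [Algebra R B]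

local notation "k" => IsLocalRing.ResidueField R

/-- evaluation of the representation at `1` -/
noncomputable def ev1 (e₀ : (k ⊗[R] A) ≃ₐ[k] (k ⊗[R] B)) : B ⊗[R] Aᵐᵒᵖ →ₗ[R] k ⊗[R] B where
  toFun c := ρ e₀ c 1
  map_add' c c' := by rw [map_add, LinearMap.add_apply]
  map_smul' r c := by rw [map_smul, LinearMap.smul_apply, RingHom.id_apply]

/-- `b ↦ b ⊗ 1` -/
noncomputable def θB : B →ₗ[R] B ⊗[R] Aᵐᵒᵖ := (TensorProduct.mk R B Aᵐᵒᵖ).flip 1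

/-- `a ↦ 1 ⊗ aᵒᵖ` -/
noncomputable def θA : A →ₗ[R] B ⊗[R] Aᵐᵒᵖ :=
  (TensorProduct.mk R B Aᵐᵒᵖ 1).comp (opLinearEquiv R : A ≃ₗ[R] Aᵐᵒᵖ).toLinearMap

lemma θB_apply (b : B) : θB (R := R) (A := A) b = b ⊗ₜ 1 := rfl

lemma θA_apply (a : A) : θA (R := R) (B := B) a = 1 ⊗ₜ op a := rfl

theorem exists_algEquiv_lift [IsAzumaya R A] [IsAzumaya R B]
    (e₀ : (k ⊗[R] A) ≃ₐ[k] (k ⊗[R] B)) :
    ∃ e : A ≃ₐ[R] B, ∀ a : A, e₀ ((1 : k) ⊗ₜ[R] a) = (1 : k) ⊗ₜ[R] (e a) := by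
  classical
  haveI : IsAzumaya R Aᵐᵒᵖ := isAzumaya_mop R A
  haveI : Module.Finite R Aᵐᵒᵖ := IsAzumaya.toFinite
  haveI : Module.Projective R Aᵐᵒᵖ := IsAzumaya.toProjective
  haveI : Module.Finite R A := IsAzumaya.toFinite
  haveI : Module.Projective R A := IsAzumaya.toProjective
  haveI : Module.Finite R B := IsAzumaya.toFinite
  haveI : Module.Projective R B := IsAzumaya.toProjective
  haveI : Nontrivial (k ⊗[R] B) := nontrivial_fibre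
  -- the rank one projector
  obtain ⟨lam, hlam⟩ := Module.Projective.exists_dual_eq_one k
    (one_ne_zero : (1 : k ⊗[R] B) ≠ 0)
  let π₀ : Module.End k (k ⊗[R] B) := LinearMap.smulRight lam (1 : k ⊗[R] B)
  have hπ₀ : ∀ y, π₀ y = lam y • (1 : k ⊗[R] B) := fun y => rfl
  obtain ⟨c₀, hc₀⟩ := ρ_surjective e₀ π₀
  have hc₀idem : c₀ * c₀ - c₀ ∈ (IsLocalRing.maximalIdeal R • ⊤ : Submodule R (B ⊗[R] Aᵐᵒᵖ)) := by
    apply ker_ρ_le e₀
    rw [map_sub, map_mul, hc₀, sub_eq_zero]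
    apply LinearMap.ext
    intro y
    rw [Module.End.mul_apply, hπ₀, hπ₀, map_smul, hlam, smul_eq_mul, mul_one]
  obtain ⟨ε, hε, hεc⟩ := exists_idempotent_lift (IsLocalRing.maximalIdeal R) c₀ hc₀idem
  have hρε : ρ e₀ ε = π₀ := by
    have := ρ_eq_zero_of_mem e₀ hεc
    rw [map_sub, sub_eq_zero] at this
    rw [this, hc₀]
  -- the key formula
  have hkey : ∀ (c : B ⊗[R] Aᵐᵒᵖ) (y : k ⊗[R] B),
      ρ e₀ (c * ε) y = lam y • ev1 e₀ (c * ε) := by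
    intro c y
    have h1 : ∀ y, ρ e₀ (c * ε) y = lam y • ρ e₀ c 1 := by
      intro y
      rw [map_mul, Module.End.mul_apply, hρε, hπ₀, map_smul]
    change _ = lam y • ρ e₀ (c * ε) 1
    rw [h1 y, h1 1, hlam, one_smul]
  have h2 : ∀ c c' : B ⊗[R] Aᵐᵒᵖ, ev1 e₀ (c * ε) = ev1 e₀ (c' * ε) →
      c * ε - c' * ε ∈ (IsLocalRing.maximalIdeal R • ⊤ : Submodule R (B ⊗[R] Aᵐᵒᵖ)) := by
    intro c c' h
    apply ker_ρ_le e₀
    rw [map_sub, sub_eq_zero]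
    apply LinearMap.ext
    intro y
    rw [hkey, hkey, h]
  have hev : ∀ c : B ⊗[R] Aᵐᵒᵖ, ev1 e₀ (c * ε) = ρ e₀ c 1 := by
    intro c
    change ρ e₀ (c * ε) 1 = _
    rw [map_mul, Module.End.mul_apply, hρε, hπ₀, hlam, one_smul]
  have h1B : ∀ b : B, ev1 e₀ (θB (R := R) (A := A) b * ε) = (jB B).toLinearMap b := by
    intro b
    rw [hev, θB_apply, ρ_tmul, unop_one, map_one, mul_one, mul_one]
    rfl
  have h1A : ∀ a : A, ev1 e₀ (θA (R := R) (B := B) a * ε) = (jA e₀).toLinearMap a := by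
    intro a
    rw [hev, θA_apply, ρ_tmul, unop_op, map_one, one_mul, one_mul]
    rfl
  have hbijB := bijective_toCeps (R := R) hε (θB (R := R) (A := A)) (ev1 e₀) (jB B).toLinearMap
    jB_surjective (fun x hx => ker_jB_le hx) h1B h2
  have hbijA := bijective_toCeps (R := R) hε (θA (R := R) (B := B)) (ev1 e₀) (jA e₀).toLinearMap
    (jA_surjective e₀) (fun x hx => ker_jA_le e₀ hx) h1A h2
  let ψB := LinearEquiv.ofBijective _ hbijB
  let ψA := LinearEquiv.ofBijective _ hbijA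
  let φ : A ≃ₗ[R] B := ψA.trans ψB.symm
  have hφ : ∀ a : A, (φ a ⊗ₜ[R] (1 : Aᵐᵒᵖ)) * ε = ((1 : B) ⊗ₜ[R] op a) * ε := by
    intro a
    have h : ψB (φ a) = ψA a := ψB.apply_symm_apply (ψA a)
    exact congrArg Subtype.val h
  have hψBinj : ∀ b b' : B, (b ⊗ₜ[R] (1 : Aᵐᵒᵖ)) * ε = (b' ⊗ₜ[R] (1 : Aᵐᵒᵖ)) * ε → b = b' := by
    intro b b' h
    apply hbijB.1
    exact Subtype.ext h
  have hone : φ 1 = 1 := by
    apply hψBinj
    rw [hφ, op_one]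
  have hmul : ∀ a a' : A, φ (a * a') = φ a * φ a' := by
    intro a a'
    apply hψBinj
    rw [hφ]
    have e1 : ((φ a * φ a') ⊗ₜ[R] (1 : Aᵐᵒᵖ)) =
        (φ a ⊗ₜ[R] (1 : Aᵐᵒᵖ)) * (φ a' ⊗ₜ[R] (1 : Aᵐᵒᵖ)) := by
      rw [Algebra.TensorProduct.tmul_mul_tmul, mul_one]
    have e2 : ((1 : B) ⊗ₜ[R] op (a * a')) = ((1 : B) ⊗ₜ[R] op a') * ((1 : B) ⊗ₜ[R] op a) := by
      rw [Algebra.TensorProduct.tmul_mul_tmul, mul_one, op_mul]
    have e3 : (φ a ⊗ₜ[R] (1 : Aᵐᵒᵖ)) * ((1 : B) ⊗ₜ[R] op a') =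
        ((1 : B) ⊗ₜ[R] op a') * (φ a ⊗ₜ[R] (1 : Aᵐᵒᵖ)) := by
      rw [Algebra.TensorProduct.tmul_mul_tmul, Algebra.TensorProduct.tmul_mul_tmul, mul_one,
        one_mul, mul_one, one_mul]
    rw [e1, mul_assoc, hφ a', ← mul_assoc, e3, mul_assoc, hφ a, ← mul_assoc, ← e2]
  refine ⟨AlgEquiv.ofLinearEquiv φ hone hmul, fun a => ?_⟩
  change e₀ ((1 : k) ⊗ₜ[R] a) = (1 : k) ⊗ₜ[R] (φ a)
  have hB := h1B (φ a)
  rw [θB_apply, hφ a, ← θA_apply, h1A a] at hB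
  exact hB

end Groth.Agent.Lib.Helper15.HensAz
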