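import Mathlib
import Groth.Prelude.Def_FlatCA
import Groth.Agent.Lib.Helper26.FiberAss
import Groth.Agent.Lib.Helper12.UnivInjAss

/-!
# Base change of impurities along a map of test rings (helper15)
-/

set_option autoImplicit false
set_option linter.style.haveILetI false
set_option linter.unusedSectionVars false
set_option linter.style.longLine false
universe u

open TensorProduct

namespace Groth.Agent.Lib.Helper15.ImpBC

open Groth.Agent.Lib.Helper26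

attribute [local instance] Algebra.TensorProduct.rightAlgebra

section nonvanishing

variable {A₁ A₂ : Type u} [CommRing A₁] [CommRing A₂] [Algebra A₁ A₂]
  (t₁ : Ideal A₁) (t₂ : Ideal A₂) [t₁.IsPrime] [t₂.IsPrime]
  (h12 : t₂.comap (algebraMap A₁ A₂) = t₁)

include h12 in
/-- an `A₁`-linear retraction `κ(t₂) → κ(t₁)` of the residue field extension -/
theorem exists_retraction : ∃ r : t₂.ResidueField →ₗ[A₁] t₁.ResidueField, r 1 = 1 := by
  let ι : t₁.ResidueField →+* t₂.ResidueField :=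
    Ideal.ResidueField.map t₁ t₂ (algebraMap A₁ A₂) h12.symm
  letI : Algebra t₁.ResidueField t₂.ResidueField := ι.toAlgebra
  obtain ⟨r₀, hr₀⟩ := LinearMap.exists_leftInverse_of_injective
    (Algebra.linearMap t₁.ResidueField t₂.ResidueField)
    (LinearMap.ker_eq_bot.2 (algebraMap t₁.ResidueField t₂.ResidueField).injective)
  have hι : ∀ a : A₁, ι (algebraMap A₁ t₁.ResidueField a) = algebraMap A₁ t₂.ResidueField a := by
    intro a
    rw [Ideal.ResidueField.map_algebraMap, ← IsScalarTower.algebraMap_apply]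
  refine ⟨{ toFun := r₀, map_add' := r₀.map_add, map_smul' := ?_ }, ?_⟩
  · intro a x
    simp only [RingHom.id_apply]
    have : a • x = (algebraMap A₁ t₁.ResidueField a) • x := by
      rw [Algebra.smul_def, Algebra.smul_def]
      congr 1
      exact (hι a).symm
    rw [this, map_smul, Algebra.smul_def, Algebra.smul_def]
    rfl
  · have := LinearMap.congr_fun hr₀ 1
    simpa using this

end nonvanishing

section core

variable {A₁ A₂ B₁ B₂ N₁ N₂ : Type u} [CommRing A₁] [CommRing A₂] [Algebra A₁ A₂]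
  [CommRing B₁] [CommRing B₂] [Algebra A₁ B₁] [Algebra B₁ B₂] [Algebra A₂ B₂] [Algebra A₁ B₂]
  [IsScalarTower A₁ B₁ B₂] [IsScalarTower A₁ A₂ B₂]
  [AddCommGroup N₁] [Module B₁ N₁] [Module A₁ N₁] [IsScalarTower A₁ B₁ N₁]
  [AddCommGroup N₂] [Module B₂ N₂] [Module B₁ N₂] [IsScalarTower B₁ B₂ N₂] [Module A₂ N₂]
  [IsScalarTower A₂ B₂ N₂]
  (hpo : Algebra.IsPushout A₁ A₂ B₁ B₂) (g : N₁ →ₗ[B₁] N₂) (hg : IsBaseChange B₂ g)
  (t₁ : Ideal A₁) (t₂ : Ideal A₂) [t₁.IsPrime] [t₂.IsPrime]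
  (h12 : t₂.comap (algebraMap A₁ A₂) = t₁)

include hpo hg h12 in
theorem tmul_one_ne_zero (x : N₁) (hx : x ⊗ₜ[A₁] (1 : t₁.ResidueField) ≠ 0) :
    g x ⊗ₜ[A₂] (1 : t₂.ResidueField) ≠ 0 := by
  intro h0
  haveI : Algebra.IsPushout A₁ A₂ B₁ B₂ := hpo
  let e1 : B₂ ⊗[B₁] N₁ ≃ₗ[A₂] A₂ ⊗[A₁] N₁ := Algebra.IsPushout.cancelBaseChange A₁ A₂ B₁ B₂ N₁
  let e2 : B₂ ⊗[B₁] N₁ ≃ₗ[A₂] N₂ := hg.equiv.restrictScalars A₂
  let e : N₂ ≃ₗ[A₂] A₂ ⊗[A₁] N₁ := e2.symm ≪≫ₗ e1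
  have he : ∀ n, e (g n) = 1 ⊗ₜ n := by
    intro n
    show e1 (e2.symm (g n)) = _
    have : e2.symm (g n) = 1 ⊗ₜ n := hg.equiv_symm_apply n
    rw [this]
    exact Algebra.IsPushout.cancelBaseChange_tmul A₁ A₂ B₁ B₂ N₁ n
  obtain ⟨r, hr⟩ := exists_retraction t₁ t₂ h12
  have s1 := congrArg (TensorProduct.congr e (LinearEquiv.refl A₂ t₂.ResidueField)) h0
  rw [map_zero, TensorProduct.congr_tmul, he, LinearEquiv.refl_apply] at s1
  have s2 := congrArg (TensorProduct.comm A₂ _ _) s1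
  rw [map_zero, TensorProduct.comm_tmul] at s2
  have s3 := congrArg
    (TensorProduct.AlgebraTensorModule.cancelBaseChange A₁ A₂ A₂ t₂.ResidueField N₁) s2
  rw [map_zero, TensorProduct.AlgebraTensorModule.cancelBaseChange_tmul, one_smul] at s3
  have s4 := congrArg (LinearMap.rTensor N₁ r) s3
  rw [map_zero, LinearMap.rTensor_tmul, hr] at s4
  have s5 := congrArg (TensorProduct.comm A₁ _ _) s4
  rw [map_zero, TensorProduct.comm_tmul] at s5
  exact hx s5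

include hg h12 in
theorem map_mem_smul_top (n : N₁) (hn : n ∈ t₁ • (⊤ : Submodule A₁ N₁)) :
    g n ∈ t₂ • (⊤ : Submodule A₂ N₂) := by
  have hga : ∀ (a : A₁) (n : N₁), g (a • n) = (algebraMap A₁ A₂ a) • g n := by
    intro a n
    rw [← algebraMap_smul B₁ a n, map_smul, ← algebraMap_smul B₂ (algebraMap A₁ B₁ a) (g n),
      ← IsScalarTower.algebraMap_apply A₁ B₁ B₂, IsScalarTower.algebraMap_apply A₁ A₂ B₂,
      algebraMap_smul]
  refine Submodule.smul_induction_on hn (fun a ha n _ => ?_) (fun x y hx hy => ?_)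
  · rw [hga]
    exact Submodule.smul_mem_smul (by rw [← h12] at ha; exact ha) Submodule.mem_top
  · rw [map_add]
    exact add_mem hx hy

include hpo hg h12 in
theorem exists_prime [Algebra.FiniteType A₁ B₁] [Algebra.FiniteType A₂ B₂]
    (P₁ : Ideal B₁) [P₁.IsPrime]
    (hass : FlatCA.fiberIdeal t₁ P₁ ∈
      associatedPrimes (t₁.Fiber B₁) (FlatCA.fiberMod t₁ B₁ N₁)) :
    ∃ (P₂ : Ideal B₂) (_ : P₂.IsPrime), P₂.LiesOver t₂ ∧
      FlatCA.fiberIdeal t₂ P₂ ∈ associatedPrimes (t₂.Fiber B₂) (FlatCA.fiberMod t₂ B₂ N₂) ∧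
      P₁ ≤ P₂.comap (algebraMap B₁ B₂) := by
  haveI : IsNoetherianRing (t₁.Fiber B₁) :=
    Algebra.FiniteType.isNoetherianRing t₁.ResidueField (t₁.Fiber B₁)
  haveI : IsNoetherianRing (t₂.Fiber B₂) :=
    Algebra.FiniteType.isNoetherianRing t₂.ResidueField (t₂.Fiber B₂)
  have hga : ∀ (a : A₁) (n : N₁), g (a • n) = (algebraMap A₁ A₂ a) • g n := by
    intro a n
    rw [← algebraMap_smul B₁ a n, map_smul, ← algebraMap_smul B₂ (algebraMap A₁ B₁ a) (g n),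
      ← IsScalarTower.algebraMap_apply A₁ B₁ B₂, IsScalarTower.algebraMap_apply A₁ A₂ B₂,
      algebraMap_smul]
  obtain ⟨hprime, m₁, hm₁⟩ := (isAssociatedPrime_iff).1 hass
  have hm₁0 : m₁ ≠ 0 := by
    rintro rfl
    apply hprime.ne_top
    rw [hm₁, Ideal.eq_top_iff_one, Submodule.mem_colon_singleton, smul_zero]
    exact Submodule.zero_mem _
  obtain ⟨z₁, hz₁⟩ : ∃ z₁, z₁ = FiberAss.fiberModEquiv t₁ N₁ m₁ := ⟨_, rfl⟩
  have hz₁0 : z₁ ≠ 0 := by
    rw [hz₁]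
    exact fun h => hm₁0 ((FiberAss.fiberModEquiv t₁ N₁).injective (by rw [h, map_zero]))
  obtain ⟨r, hr, x₁, hx₁⟩ := FiberAss.exists_smul_eq_tmul_one t₁ N₁ z₁
  have hx₁0 : x₁ ⊗ₜ[A₁] (1 : t₁.ResidueField) ≠ 0 := by
    intro h
    rw [h] at hx₁
    exact hz₁0 (FiberAss.eq_zero_of_smul_eq_zero t₁ N₁ hr z₁ hx₁)
  have hne := tmul_one_ne_zero hpo g hg t₁ t₂ h12 x₁ hx₁0
  obtain ⟨m₂, hm₂⟩ : ∃ m₂, m₂ = FlatCA.toFiberMod t₂ B₂ N₂ (g x₁) := ⟨_, rfl⟩
  have hm₂e : FiberAss.fiberModEquiv t₂ N₂ m₂ = g x₁ ⊗ₜ[A₂] (1 : t₂.ResidueField) := by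
    rw [hm₂, FiberAss.fiberModEquiv_toFiberMod]
  have hm₂0 : m₂ ≠ 0 := by
    intro h
    rw [h, map_zero] at hm₂e
    exact hne hm₂e.symm
  obtain ⟨Q, hQ, hle⟩ := exists_le_isAssociatedPrime_of_isNoetherianRing (t₂.Fiber B₂) m₂ hm₂0
  haveI hQp : Q.IsPrime := hQ.isPrime
  refine ⟨Q.comap (Algebra.TensorProduct.includeRight (R := A₂) (A := t₂.ResidueField)
    (B := B₂)).toRingHom, inferInstance, ⟨?_⟩, ?_, ?_⟩
  · -- lies over
    ext a
    rw [Ideal.under_def, Ideal.mem_comap, Ideal.mem_comap]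
    constructor
    · intro ha
      have : (Algebra.TensorProduct.includeRight (R := A₂) (A := t₂.ResidueField) (B := B₂)).toRingHom
          (algebraMap A₂ B₂ a) = 0 := by
        show (1 : t₂.ResidueField) ⊗ₜ[A₂] (algebraMap A₂ B₂ a) = 0
        rw [Algebra.algebraMap_eq_smul_one, TensorProduct.tmul_smul, TensorProduct.smul_tmul',
          Algebra.smul_def, mul_one, Ideal.algebraMap_residueField_eq_zero.2 ha,
          TensorProduct.zero_tmul]
      rw [this]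
      exact Q.zero_mem
    · intro ha
      by_contra hat
      have hu := FiberAss.isUnit_includeRight_algebraMap (S := B₂) t₂ hat
      exact hQp.ne_top (Ideal.eq_top_of_isUnit_mem _ ha hu)
  · show (Q.comap (Algebra.TensorProduct.includeRight (R := A₂) (A := t₂.ResidueField)
      (B := B₂)).toRingHom).map (Algebra.TensorProduct.includeRight (R := A₂)
      (A := t₂.ResidueField) (B := B₂)).toRingHom ∈ _
    rw [H12UnivInjAss.map_comap_includeRight]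
    exact hQ
  · intro b hb
    rw [Ideal.mem_comap, Ideal.mem_comap]
    apply hle
    rw [Submodule.mem_colon_singleton, Submodule.mem_bot]
    show (Algebra.TensorProduct.includeRight (R := A₂) (A := t₂.ResidueField) (B := B₂)
      (algebraMap B₁ B₂ b) : t₂.Fiber B₂) • m₂ = 0
    rw [FiberAss.includeRight_smul]
    apply (FiberAss.fiberModEquiv t₂ N₂).injective
    rw [map_smul, map_zero, hm₂e, TensorProduct.smul_tmul']
    -- `b` kills `x₁ ⊗ 1`
    have h1 : (Algebra.TensorProduct.includeRight (R := A₁) (A := t₁.ResidueField) (B := B₁) b :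
        t₁.Fiber B₁) ∈ FlatCA.fiberIdeal t₁ P₁ := Ideal.mem_map_of_mem _ hb
    rw [hm₁, Submodule.mem_colon_singleton, Submodule.mem_bot, FiberAss.includeRight_smul] at h1
    have h2 : b • z₁ = 0 := by rw [hz₁, ← map_smul, h1, map_zero]
    have h3 : (b • x₁) ⊗ₜ[A₁] (1 : t₁.ResidueField) = 0 := by
      rw [← TensorProduct.smul_tmul', ← hx₁, smul_comm, h2, smul_zero]
    obtain ⟨s, hs, hsx⟩ := (FiberAss.tmul_one_eq_zero_iff t₁ N₁ (b • x₁)).1 h3
    refine (FiberAss.tmul_one_eq_zero_iff t₂ N₂ _).2 ⟨algebraMap A₁ A₂ s, ?_, ?_⟩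
    · intro h
      apply hs
      rw [← h12]
      exact h
    · have h4 := map_mem_smul_top g hg t₁ t₂ h12 _ hsx
      rw [hga, map_smul, ← algebraMap_smul B₂ b (g x₁)] at h4
      exact h4

end core

section impurity

variable {A B : Type u} [CommRing A] [CommRing B] [Algebra A B] [Algebra.FiniteType A B]
  (N : Type u) [AddCommGroup N] [Module B N] (p : Ideal A) [p.IsPrime]
  (A₁ B₁ N₁ : Type u) [CommRing A₁] [CommRing B₁] [Algebra A A₁] [Algebra B B₁] [Algebra A₁ B₁]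
  [Algebra A B₁] [IsScalarTower A B B₁] [IsScalarTower A A₁ B₁] [AddCommGroup N₁] [Module B₁ N₁]
  [Module B N₁] [IsScalarTower B B₁ N₁] [Module A₁ N₁] [IsScalarTower A₁ B₁ N₁]
  (f₁ : N →ₗ[B] N₁) (t₁' t₁ : Ideal A₁) [t₁'.IsPrime] [t₁.IsPrime] (P₁ : Ideal B₁) [P₁.IsPrime]
  (himp : FlatCA.IsImpurity A B N p A₁ B₁ N₁ f₁ t₁' t₁ P₁)
  (A₂ : Type u) [CommRing A₂] [Algebra A A₂] [Algebra A₁ A₂] [IsScalarTower A A₁ A₂]
  (t₂' t₂ : Ideal A₂) [t₂'.IsPrime] [t₂.IsPrime] (hle : t₂' ≤ t₂)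
  (h' : t₂'.comap (algebraMap A₁ A₂) = t₁') (h : t₂.comap (algebraMap A₁ A₂) = t₁)

include himp hle h' h in
theorem exists_impurity_aux
    (B₂ N₂ : Type u) [CommRing B₂] [Algebra A₁ B₂] [Algebra A₂ B₂] [Algebra B₁ B₂]
    [IsScalarTower A₁ A₂ B₂] [IsScalarTower A₁ B₁ B₂]
    (h1 : Algebra.IsPushout A₁ A₂ B₁ B₂) [Algebra.FiniteType A₂ B₂]
    [AddCommGroup N₂] [Module B₂ N₂] [Module B₁ N₂] [IsScalarTower B₁ B₂ N₂] [Module A₂ N₂]
    [IsScalarTower A₂ B₂ N₂] (g : N₁ →ₗ[B₁] N₂) (hg : IsBaseChange B₂ g) :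
    ∃ (_ : Algebra B B₂) (_ : Algebra A B₂) (_ : IsScalarTower A B B₂)
      (_ : IsScalarTower A A₂ B₂) (_ : Module B N₂) (_ : IsScalarTower B B₂ N₂)
      (f₂ : N →ₗ[B] N₂) (P₂ : Ideal B₂) (_ : P₂.IsPrime),
      FlatCA.IsImpurity A B N p A₂ B₂ N₂ f₂ t₂' t₂ P₂ := by
  obtain ⟨hpo, hbc, hle₁, hlo, hPlo, hass, hcl⟩ := himp
  letI : Algebra B B₂ := ((algebraMap B₁ B₂).comp (algebraMap B B₁)).toAlgebra
  letI : Algebra A B₂ := ((algebraMap A₂ B₂).comp (algebraMap A A₂)).toAlgebra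
  haveI : IsScalarTower B B₁ B₂ := .of_algebraMap_eq (fun _ => rfl)
  haveI : IsScalarTower A A₂ B₂ := .of_algebraMap_eq (fun _ => rfl)
  haveI : IsScalarTower A A₁ B₂ := .of_algebraMap_eq (fun x => by
    change algebraMap A₂ B₂ (algebraMap A A₂ x) = _
    rw [IsScalarTower.algebraMap_apply A A₁ A₂, ← IsScalarTower.algebraMap_apply A₁ A₂ B₂])
  haveI : IsScalarTower A B₁ B₂ := .of_algebraMap_eq (fun x => by
    rw [IsScalarTower.algebraMap_apply A A₁ B₂, IsScalarTower.algebraMap_apply A₁ B₁ B₂,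
      ← IsScalarTower.algebraMap_apply A A₁ B₁])
  haveI : IsScalarTower A B B₂ := .of_algebraMap_eq (fun x => by
    rw [IsScalarTower.algebraMap_apply A B₁ B₂, IsScalarTower.algebraMap_apply A B B₁,
      ← IsScalarTower.algebraMap_apply B B₁ B₂])
  letI : Module B N₂ := Module.compHom N₂ (algebraMap B B₁)
  haveI : IsScalarTower B B₁ N₂ := ⟨fun b b' n => by
    change (b • b') • n = algebraMap B B₁ b • (b' • n)
    rw [Algebra.smul_def, mul_smul]⟩
  haveI : IsScalarTower B B₂ N₂ := ⟨fun b b'' n => by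
    change (b • b'') • n = algebraMap B B₁ b • (b'' • n)
    rw [Algebra.smul_def, IsScalarTower.algebraMap_apply B B₁ B₂, ← Algebra.smul_def,
      smul_assoc]⟩
  have hpo₂ : Algebra.IsPushout A B A₂ B₂ := by
    haveI : Algebra.IsPushout A A₁ B B₁ := hpo.symm
    exact Algebra.IsPushout.symm
      ((Algebra.IsPushout.comp_iff A A₁ B B₁ (T := A₂) (T' := B₂)).mpr h1)
  have hbc₂ : IsBaseChange B₂ ((g.restrictScalars B).comp f₁) := IsBaseChange.comp hbc hg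
  haveI : Algebra.FiniteType A₁ B₁ := by
    haveI : Algebra.IsPushout A A₁ B B₁ := hpo.symm
    exact Algebra.FiniteType.equiv (inferInstance : Algebra.FiniteType A₁ (A₁ ⊗[A] B))
      (Algebra.IsPushout.equiv A A₁ B B₁)
  obtain ⟨P₂, hP₂, hlo₂, hass₂, hP₁₂⟩ := exists_prime h1 g hg t₁' t₂' h' P₁ hass
  refine ⟨inferInstance, inferInstance, inferInstance, inferInstance, inferInstance, inferInstance,
    (g.restrictScalars B).comp f₁, P₂, hP₂, hpo₂, hbc₂, hle, ⟨?_⟩, hlo₂, hass₂, ?_⟩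
  · rw [Ideal.under_def, IsScalarTower.algebraMap_eq A A₁ A₂, ← Ideal.comap_comap, h,
      ← Ideal.under_def, ← hlo.over]
  · intro Q hQ hPQ hQlo
    refine hcl (Q.comap (algebraMap B₁ B₂)) (hP₁₂.trans (Ideal.comap_mono hPQ)) ⟨?_⟩
    rw [Ideal.under_def, Ideal.comap_comap, ← IsScalarTower.algebraMap_eq A₁ B₁ B₂,
      IsScalarTower.algebraMap_eq A₁ A₂ B₂, ← Ideal.comap_comap, ← Ideal.under_def (A := A₂),
      ← hQlo.over, h]

include himp hle h' h in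
theorem exists_impurity :
    ∃ (B₂ N₂ : Type u) (_ : CommRing B₂) (_ : Algebra B B₂) (_ : Algebra A₂ B₂) (_ : Algebra A B₂)
      (_ : IsScalarTower A B B₂) (_ : IsScalarTower A A₂ B₂) (_ : AddCommGroup N₂)
      (_ : Module B₂ N₂) (_ : Module B N₂) (_ : IsScalarTower B B₂ N₂) (_ : Module A₂ N₂)
      (_ : IsScalarTower A₂ B₂ N₂) (f₂ : N →ₗ[B] N₂) (P₂ : Ideal B₂) (_ : P₂.IsPrime),
      FlatCA.IsImpurity A B N p A₂ B₂ N₂ f₂ t₂' t₂ P₂ := by
  haveI : Algebra.FiniteType A₁ B₁ := by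
    haveI : Algebra.IsPushout A A₁ B B₁ := himp.1.symm
    exact Algebra.FiniteType.equiv (inferInstance : Algebra.FiniteType A₁ (A₁ ⊗[A] B))
      (Algebra.IsPushout.equiv A A₁ B B₁)
  haveI : IsScalarTower A₂ (A₂ ⊗[A₁] B₁) ((A₂ ⊗[A₁] B₁) ⊗[B₁] N₁) := inferInstance
  obtain ⟨i1, i2, i3, i4, i5, i6, f₂, P₂, hP₂, himp₂⟩ :=
    exists_impurity_aux N p A₁ B₁ N₁ f₁ t₁' t₁ P₁ himp A₂ t₂' t₂ hle h' h
      (A₂ ⊗[A₁] B₁) ((A₂ ⊗[A₁] B₁) ⊗[B₁] N₁) inferInstance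
      (TensorProduct.mk B₁ (A₂ ⊗[A₁] B₁) N₁ 1) (TensorProduct.isBaseChange B₁ N₁ (A₂ ⊗[A₁] B₁))
  exact ⟨_, _, inferInstance, i1, inferInstance, i2, i3, i4, inferInstance, inferInstance, i5, i6,
    inferInstance, inferInstance, f₂, P₂, hP₂, himp₂⟩

end impurity

end Groth.Agent.Lib.Helper15.ImpBC
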