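import Mathlib
import Groth.Prelude.Def_FlatCA
import Groth.Prelude.Def_Hensel
import Groth.Agent.Lib.Helper15.ImpBC
import Groth.Agent.Lib.Helper4.HznHens
import Groth.Agent.Lib.Helper4.HznColimEt

/-!
# Impurities over an elementary étale neighbourhood descend to the henselization
-/

set_option autoImplicit false
universe u

namespace Groth.Agent.Lib.Helper15.HensImp

open TensorProduct IsLocalRing Groth.Agent.Lib.Helper4

attribute [local instance] Algebra.TensorProduct.rightAlgebra in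
/-- An `A`-algebra map from an étale `A`-algebra `A₁` to a flat `A`-algebra `R` is flat: `R` is a
localization of `A₁ ⊗[A] R` at an idempotent. -/
theorem flat_of_etale_of_flat {A A₁ R : Type u} [CommRing A] [CommRing A₁] [CommRing R]
    [Algebra A A₁] [Algebra A R] [Algebra A₁ R] [IsScalarTower A A₁ R] [Algebra.Etale A A₁]
    [Module.Flat A R] : Module.Flat A₁ R := by
  let C := A₁ ⊗[A] R
  let e₀ : R ⊗[A] A₁ ≃ₐ[R] C :=
    { Algebra.TensorProduct.comm A R A₁ with
      commutes' := fun r => by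
        show (Algebra.TensorProduct.comm A R A₁) (r ⊗ₜ 1) = 1 ⊗ₜ r
        simp }
  haveI : Algebra.Etale R C := Algebra.Etale.of_equiv e₀
  let σ₀ : C →ₐ[A₁] R :=
    Algebra.TensorProduct.lift (Algebra.ofId A₁ R) (AlgHom.id A R) (fun _ _ => .all _ _)
  let σ : C →ₐ[R] R :=
    { σ₀.toRingHom with
      commutes' := fun r => by
        show σ₀ (1 ⊗ₜ r) = r
        simp only [σ₀]
        rw [Algebra.TensorProduct.lift_tmul]
        simp }
  have hσ : Function.Surjective σ := fun r => ⟨1 ⊗ₜ r, by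
    show σ₀ (1 ⊗ₜ r) = r
    simp only [σ₀]
    rw [Algebra.TensorProduct.lift_tmul]
    simp⟩
  letI : Algebra C R := σ.toRingHom.toAlgebra
  haveI : IsScalarTower R C R := .of_algebraMap_eq' σ.comp_algebraMap.symm
  haveI : IsScalarTower A₁ C R := .of_algebraMap_eq (fun a => by
    show algebraMap A₁ R a = σ₀ (a ⊗ₜ 1)
    simp only [σ₀]
    rw [Algebra.TensorProduct.lift_tmul]
    simp [Algebra.ofId_apply])
  obtain ⟨e, he, hfe⟩ :=
    (Ideal.isIdempotentElem_iff_of_fg _ (Algebra.FinitePresentation.ker_fG_of_surjective σ hσ)).mp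
      ((Algebra.FormallyEtale.iff_of_surjective hσ).mp (.of_restrictScalars (R := R)))
  haveI := IsLocalization.away_of_isIdempotentElem he.one_sub (hfe.trans (by simp)) hσ
  haveI : Module.Flat C R := IsLocalization.flat R (Submonoid.powers (1 - e))
  exact Module.Flat.trans A₁ C R

theorem main9000 {A B : Type u} [CommRing A] [CommRing B] [Algebra A B] [Algebra.FiniteType A B]
    (N : Type u) [AddCommGroup N] [Module B N] [Module.Finite B N] (p : Ideal A) [p.IsPrime]
    (h : FlatCA.HasImpurity A B N p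
      (fun A' _ _ t => ∃ _ : t.IsPrime, FlatCA.IsEtaleNhd A A' p t)) :
    FlatCA.HasImpurity A B N p (fun A' _ _ t => ∃ (_ : IsLocalRing A')
      (_ : Algebra (Localization.AtPrime p) A') (_ : IsScalarTower A (Localization.AtPrime p) A')
      (_ : IsLocalHom (algebraMap (Localization.AtPrime p) A')),
      Hensel.IsHenselization (Localization.AtPrime p) A' ∧ t = maximalIdeal A') := by
  obtain ⟨A₁, B₁, N₁, _, _, _, _, _, _, _, _, _, _, _, _, _, _, f₁, t₁', t₁, _, _, P₁, _, himp,
    _, het, hlo, hbij⟩ := h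
  let Rp := Localization.AtPrime p
  let Rh := Hzn.Hz Rp
  letI : Algebra A Rh := ((algebraMap Rp Rh).comp (algebraMap A Rp)).toAlgebra
  haveI : IsScalarTower A Rp Rh := IsScalarTower.of_algebraMap_eq' rfl
  have hq : p = t₁.comap (algebraMap A A₁) := hlo.over
  obtain ⟨φ, hφ, -⟩ := Hzn.existsUnique_algHom_of_etale (R := A) (p := p) (Rh := Rh) A₁ t₁ hq hbij
  letI : Algebra A₁ Rh := φ.toRingHom.toAlgebra
  haveI : IsScalarTower A A₁ Rh := .of_algebraMap_eq' φ.comp_algebraMap.symm
  haveI : Module.Flat A Rh := Module.Flat.trans A Rp Rh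
  haveI : Module.Flat A₁ Rh := flat_of_etale_of_flat (A := A)
  have hle₁ : t₁' ≤ t₁ := himp.2.2.1
  have ht₂ : (maximalIdeal Rh).comap (algebraMap A₁ Rh) = t₁ := hφ
  haveI : (maximalIdeal Rh).LiesOver t₁ := ⟨ht₂.symm⟩
  obtain ⟨t₂', hle₂, ht₂'p, ht₂'lo⟩ :=
    Ideal.exists_ideal_le_liesOver_of_le (p := t₁') (q := t₁) (maximalIdeal Rh) hle₁
  obtain ⟨B₂, N₂, i1, i2, i3, i4, i5, i6, i7, i8, i9, i10, i11, i12, f₂, P₂, hP₂, himp₂⟩ :=
    ImpBC.exists_impurity N p A₁ B₁ N₁ f₁ t₁' t₁ P₁ himp Rh t₂' (maximalIdeal Rh) hle₂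
      ht₂'lo.over.symm ht₂
  exact ⟨Rh, B₂, N₂, inferInstance, i1, inferInstance, i2, i3, i4, i5, i6, i7, i8, i9, i10, i11,
    i12, f₂, t₂', maximalIdeal Rh, ht₂'p, inferInstance, P₂, hP₂, himp₂, inferInstance,
    inferInstance, inferInstance, inferInstance, inferInstance, rfl⟩

end Groth.Agent.Lib.Helper15.HensImp
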