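import Mathlib
import Groth.Prelude.Def_Hens2
import Groth.Agent.Lib.Helper12.DLRing
import Groth.Agent.Lib.Helper12.HzPairUniv
import Groth.Agent.Lib.Helper12.HensCRT
import Groth.Agent.Lib.Helper4.HenselPairK
import Groth.Agent.S17607

/-!
# Henselian finite presentation from commutation of `Hom_A(B, -)` with directed colimits (helper15)
-/

set_option autoImplicit false
universe u

namespace Groth.Agent.Lib.Helper15.HfpColim

open Groth.Agent.Lib.Helper12 Groth.Agent.Lib.Helper12.DLRing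

/-- the colimit hypothesis (surjectivity clause only) -/
def ColimHyp (A : Type u) [CommRing A] (I : Ideal A) (B : Type u) [CommRing B] [Algebra A B] :
    Prop :=
  ∀ (κ : Type u) [Preorder κ] [IsDirectedOrder κ] [Nonempty κ]
      (Ra : κ → Type u) [∀ a, CommRing (Ra a)] [∀ a, Algebra A (Ra a)]
      [∀ a, HenselianRing (Ra a) (I.map (algebraMap A (Ra a)))]
      (t : ∀ a b : κ, a ≤ b → (Ra a →+* Ra b)) [DirectedSystem Ra (fun a b hab => t a b hab)],
      (∀ (a b : κ) (hab : a ≤ b), (t a b hab).comp (algebraMap A (Ra a)) = algebraMap A (Ra b)) →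
      ∀ [Algebra A (DirectLimit Ra t)],
      (∀ (a : κ) (x : A), algebraMap A (DirectLimit Ra t) x =
        DirectLimit.Ring.of Ra t a (algebraMap A (Ra a) x)) →
      (∀ χ : B →ₐ[A] DirectLimit Ra t, ∃ (a : κ) (φ : B →ₐ[A] Ra a),
          ∀ x : B, DirectLimit.Ring.of Ra t a (φ x) = χ x)

section Core

variable {A : Type u} [CommRing A] {I : Ideal A} {B : Type u} [CommRing B] [Algebra A B]

/-- If `B` is the colimit of a directed system of henselian `A`-algebras, the identity of `B`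
factors through a stage. -/
theorem exists_section (h : ColimHyp A I B)
    {κ : Type u} [Preorder κ] [IsDirectedOrder κ] [Nonempty κ]
    (Ra : κ → Type u) [∀ a, CommRing (Ra a)] [∀ a, Algebra A (Ra a)]
    [∀ a, HenselianRing (Ra a) (I.map (algebraMap A (Ra a)))]
    (t : ∀ a b : κ, a ≤ b → (Ra a →+* Ra b)) [DirectedSystem Ra (fun a b hab => t a b hab)]
    (ht : ∀ (a b : κ) (hab : a ≤ b), (t a b hab).comp (algebraMap A (Ra a)) = algebraMap A (Ra b))
    (ψ : ∀ a, Ra a →ₐ[A] B) (hψ : ∀ a b hab x, ψ b (t a b hab x) = ψ a x)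
    (hsurj : ∀ y : B, ∃ a x, ψ a x = y)
    (hinj : ∀ a (x : Ra a), ψ a x = 0 → ∃ b, ∃ hab : a ≤ b, t a b hab x = 0) :
    ∃ a, ∃ φ : B →ₐ[A] Ra a, ∀ y, ψ a (φ y) = y := by
  classical
  obtain ⟨a₀⟩ := ‹Nonempty κ›
  letI : Algebra A (DirectLimit Ra t) :=
    ((DirectLimit.Ring.of Ra t a₀).comp (algebraMap A (Ra a₀))).toAlgebra
  have halg : ∀ (a : κ) (x : A), algebraMap A (DirectLimit Ra t) x =
      DirectLimit.Ring.of Ra t a (algebraMap A (Ra a) x) := by
    intro a x
    show DirectLimit.Ring.of Ra t a₀ (algebraMap A (Ra a₀) x) = _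
    obtain ⟨b, h1, h2⟩ := exists_ge_ge a₀ a
    rw [← of_f t h1, ← of_f t h2]
    congr 1
    have e1 := congrArg (fun φ => φ x) (ht a₀ b h1)
    have e2 := congrArg (fun φ => φ x) (ht a b h2)
    simp only [RingHom.comp_apply] at e1 e2
    rw [e1, e2]
  let lift : DirectLimit Ra t →+* B := DirectLimit.Ring.lift Ra t B
    (fun a => (ψ a : Ra a →+* B)) (fun a b hab x => hψ a b hab x)
  have hlift_of : ∀ a x, lift (DirectLimit.Ring.of Ra t a x) = ψ a x := fun a x => rfl
  have hbij : Function.Bijective lift := by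
    constructor
    · rw [injective_iff_map_eq_zero]
      intro z hz
      obtain ⟨a, x, rfl⟩ := exists_of t z
      rw [hlift_of] at hz
      obtain ⟨b, hab, hb⟩ := hinj a x hz
      rw [← of_f t hab, hb, map_zero]
    · intro y
      obtain ⟨a, x, rfl⟩ := hsurj y
      exact ⟨DirectLimit.Ring.of Ra t a x, rfl⟩
  let e : DirectLimit Ra t ≃+* B := RingEquiv.ofBijective lift hbij
  have he : ∀ z, e z = lift z := fun z => rfl
  let χ : B →ₐ[A] DirectLimit Ra t :=
    { (e.symm : B →+* DirectLimit Ra t) with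
      commutes' := fun r => by
        show e.symm (algebraMap A B r) = algebraMap A (DirectLimit Ra t) r
        rw [RingEquiv.symm_apply_eq, halg a₀ r, he, hlift_of]
        exact ((ψ a₀).commutes r).symm }
  have hχ : ∀ y, lift (χ y) = y := fun y => e.apply_symm_apply y
  obtain ⟨a, φ, hφ⟩ := h κ Ra t ht halg χ
  refine ⟨a, φ, fun y => ?_⟩
  have := congrArg lift (hφ y)
  rw [hlift_of, hχ] at this
  exact this

/-- Step 1 (abstract form): a directed family of henselian subalgebras covering `B` contains `⊤`. -/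
theorem top_mem (h : ColimHyp A I B) (𝒯 : Set (Subalgebra A B))
    (hne : 𝒯.Nonempty) (hdir : ∀ T₁ ∈ 𝒯, ∀ T₂ ∈ 𝒯, ∃ T₃ ∈ 𝒯, T₁ ≤ T₃ ∧ T₂ ≤ T₃)
    (hhens : ∀ T ∈ 𝒯, HenselianRing T (I.map (algebraMap A T)))
    (hcov : ∀ y : B, ∃ T ∈ 𝒯, y ∈ T) : ⊤ ∈ 𝒯 := by
  classical
  haveI : Nonempty 𝒯 := hne.to_subtype
  haveI : IsDirectedOrder 𝒯 := ⟨fun a b => by
    obtain ⟨T₃, h3, h1, h2⟩ := hdir a.1 a.2 b.1 b.2
    exact ⟨⟨T₃, h3⟩, h1, h2⟩⟩
  let Ra : 𝒯 → Type u := fun T => ↥T.1
  haveI : ∀ a : 𝒯, HenselianRing (Ra a) (I.map (algebraMap A (Ra a))) := fun a => hhens a.1 a.2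
  let t : ∀ a b : 𝒯, a ≤ b → (Ra a →+* Ra b) := fun a b hab =>
    (Subalgebra.inclusion (show a.1 ≤ b.1 from hab)).toRingHom
  haveI : DirectedSystem Ra (fun a b hab => t a b hab) :=
    ⟨fun i x => Subtype.ext rfl, fun k j i hij hjk x => Subtype.ext rfl⟩
  have ht : ∀ (a b : 𝒯) (hab : a ≤ b), (t a b hab).comp (algebraMap A (Ra a)) =
      algebraMap A (Ra b) := by
    intro a b hab
    ext x
    rfl
  obtain ⟨a, φ, hφ⟩ := exists_section h Ra t ht (fun a => a.1.val) (fun a b hab x => rfl)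
    (fun y => by
      obtain ⟨T, hT, hy⟩ := hcov y
      exact ⟨⟨T, hT⟩, ⟨y, hy⟩, rfl⟩)
    (fun a x hx => ⟨a, le_rfl, by
      have : x = 0 := Subtype.ext hx
      rw [this, map_zero]⟩)
  have : a.1 = ⊤ := eq_top_iff.2 fun y _ => by
    have := hφ y
    rw [← this]
    exact (φ y).2
  rw [← this]
  exact a.2

/-- Step 2 (abstract form): a surjection from a "henselian finitely generated" henselian
`A`-algebra onto `B` has finitely generated kernel. -/
theorem ker_fg (h : ColimHyp A I B) (P : Type u) [CommRing P] [Algebra A P]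
    [hP : HenselianRing P (I.map (algebraMap A P))]
    (π : P →ₐ[A] B) (hπ : Function.Surjective π) (S : Finset P)
    (hS : ∀ (C : Type u) [CommRing C] [Algebra A C]
      [HenselianRing C (I.map (algebraMap A C))] (g₁ g₂ : P →ₐ[A] C),
      (∀ s ∈ S, g₁ s = g₂ s) → g₁ = g₂) :
    (RingHom.ker π).FG := by
  classical
  let κ : Type u := {K : Ideal P // K.FG ∧ K ≤ RingHom.ker π}
  haveI : Nonempty κ := ⟨⟨⊥, Submodule.fg_bot, bot_le⟩⟩
  haveI : IsDirectedOrder κ := ⟨fun a b =>
    ⟨⟨a.1 ⊔ b.1, Submodule.FG.sup a.2.1 b.2.1, sup_le a.2.2 b.2.2⟩, le_sup_left (a := a.1), le_sup_right (a := a.1)⟩⟩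
  let Ra : κ → Type u := fun K => P ⧸ K.1
  have hhens : ∀ K : Ideal P, HenselianRing (P ⧸ K) (I.map (algebraMap A (P ⧸ K))) := by
    intro K
    have := HensCRT.henselianRing_quotient (I.map (algebraMap A P)) K
    rwa [Ideal.map_map] at this
  haveI : ∀ a : κ, HenselianRing (Ra a) (I.map (algebraMap A (Ra a))) := fun a => hhens a.1
  let t : ∀ a b : κ, a ≤ b → (Ra a →+* Ra b) := fun a b hab =>
    Ideal.Quotient.factor (show a.1 ≤ b.1 from hab)
  haveI : DirectedSystem Ra (fun a b hab => t a b hab) :=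
    ⟨fun i x => by
      obtain ⟨p, rfl⟩ := Ideal.Quotient.mk_surjective x
      exact Ideal.Quotient.factor_mk (le_refl i.1) p,
     fun k j i hij hjk x => by
      obtain ⟨p, rfl⟩ := Ideal.Quotient.mk_surjective x
      show Ideal.Quotient.factor _ (Ideal.Quotient.factor _ (Ideal.Quotient.mk _ p)) =
        Ideal.Quotient.factor _ (Ideal.Quotient.mk _ p)
      rw [Ideal.Quotient.factor_mk, Ideal.Quotient.factor_mk, Ideal.Quotient.factor_mk]⟩
  have ht : ∀ (a b : κ) (hab : a ≤ b), (t a b hab).comp (algebraMap A (Ra a)) =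
      algebraMap A (Ra b) := by
    intro a b hab
    ext x
    exact Ideal.Quotient.factor_mk (show a.1 ≤ b.1 from hab) (algebraMap A P x)
  let ψ : ∀ a : κ, Ra a →ₐ[A] B := fun a =>
    Ideal.Quotient.liftₐ a.1 π (fun x hx => a.2.2 hx)
  have hψmk : ∀ (a : κ) (p : P), ψ a (Ideal.Quotient.mk a.1 p) = π p := fun a p => rfl
  obtain ⟨a, φ, hφ⟩ := exists_section h Ra t ht ψ
    (fun a b hab x => by
      obtain ⟨p, rfl⟩ := Ideal.Quotient.mk_surjective x
      show ψ b (Ideal.Quotient.factor _ (Ideal.Quotient.mk _ p)) = _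
      rw [Ideal.Quotient.factor_mk, hψmk, hψmk])
    (fun y => by
      obtain ⟨p, rfl⟩ := hπ y
      exact ⟨⟨⊥, Submodule.fg_bot, bot_le⟩, Ideal.Quotient.mk _ p, rfl⟩)
    (fun a x hx => by
      obtain ⟨p, rfl⟩ := Ideal.Quotient.mk_surjective x
      rw [hψmk] at hx
      refine ⟨⟨a.1 ⊔ Ideal.span {p}, Submodule.FG.sup a.2.1 (Submodule.fg_span_singleton p),
        sup_le a.2.2 ((Ideal.span_singleton_le_iff_mem _).2 hx)⟩, le_sup_left (a := a.1), ?_⟩
      show Ideal.Quotient.factor _ (Ideal.Quotient.mk _ p) = 0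
      rw [Ideal.Quotient.factor_mk, Ideal.Quotient.eq_zero_iff_mem]
      exact le_sup_right (a := a.1) (Ideal.mem_span_singleton_self p))
  -- the quotient `Q = P ⧸ K₀` and the section
  obtain ⟨K₀, hK₀fg, hK₀le⟩ := a
  let Q : Type u := P ⧸ K₀
  let mkQ : P →ₐ[A] Q := Ideal.Quotient.mkₐ A K₀
  let πQ : Q →ₐ[A] B := Ideal.Quotient.liftₐ K₀ π (fun x hx => hK₀le hx)
  have hπQ : ∀ p, πQ (mkQ p) = π p := fun p => rfl
  have hφ' : ∀ y, πQ (φ y) = y := hφ
  let e : Q →ₐ[A] Q := φ.comp πQ
  let K' : Ideal Q := Ideal.span ((fun s => mkQ s - e (mkQ s)) '' (S : Set P))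
  have hK'fg : K'.FG := Submodule.fg_span ((S.finite_toSet).image _)
  have hK'le : K' ≤ RingHom.ker πQ := by
    rw [Ideal.span_le]
    rintro _ ⟨s, -, rfl⟩
    show πQ (mkQ s - e (mkQ s)) = 0
    rw [map_sub]
    show πQ (mkQ s) - πQ (φ (πQ (mkQ s))) = 0
    rw [hφ', sub_self]
  have hle : RingHom.ker πQ ≤ K' := by
    intro y hy
    obtain ⟨p, rfl⟩ := Ideal.Quotient.mk_surjective y
    haveI : HenselianRing (Q ⧸ K') (I.map (algebraMap A (Q ⧸ K'))) := by
      haveI := hhens K₀
      have := HensCRT.henselianRing_quotient (I.map (algebraMap A Q)) K'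
      rwa [Ideal.map_map] at this
    let g₁ : P →ₐ[A] Q ⧸ K' := (Ideal.Quotient.mkₐ A K').comp mkQ
    let g₂ : P →ₐ[A] Q ⧸ K' := (Ideal.Quotient.mkₐ A K').comp (e.comp mkQ)
    have h12 : g₁ = g₂ := by
      apply hS
      intro s hs
      show Ideal.Quotient.mk K' (mkQ s) = Ideal.Quotient.mk K' (e (mkQ s))
      rw [Ideal.Quotient.eq]
      exact Ideal.subset_span ⟨s, hs, rfl⟩
    have h3 := DFunLike.congr_fun h12 p
    have h4 : g₂ p = 0 := by
      show Ideal.Quotient.mk K' (φ (πQ (mkQ p))) = 0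
      have : πQ (mkQ p) = 0 := hy
      rw [this, map_zero, map_zero]
    rw [h4] at h3
    exact Ideal.Quotient.eq_zero_iff_mem.1 h3
  have hker : RingHom.ker (πQ : Q →+* B) = K' := le_antisymm hle hK'le
  have hkmk : RingHom.ker (Ideal.Quotient.mk K₀) = K₀ := Ideal.mk_ker
  have := Ideal.fg_ker_comp (Ideal.Quotient.mk K₀) (πQ : Q →+* B) (by rw [hkmk]; exact hK₀fg)
    (by rw [hker]; exact hK'fg) Ideal.Quotient.mk_surjective
  have hcomp : (πQ : Q →+* B).comp (Ideal.Quotient.mk K₀) = (π : P →+* B) := by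
    ext p
    rfl
  rw [hcomp] at this
  exact this

end Core

section Main

variable (A : Type u) [CommRing A] (I : Ideal A) (B : Type u) [CommRing B] [Algebra A B]
  (P : ℕ → Type u) [∀ n, CommRing (P n)] [∀ n, Algebra (MvPolynomial (Fin n) A) (P n)]
  [∀ n, Algebra A (P n)] [∀ n, IsScalarTower A (MvPolynomial (Fin n) A) (P n)]
  (hP : ∀ n, Hens2.IsPairHenselization (MvPolynomial (Fin n) A)
    (I.map (algebraMap A (MvPolynomial (Fin n) A))) (P n))

include hP in
theorem henselian_P (n : ℕ) : HenselianRing (P n) (I.map (algebraMap A (P n))) := by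
  have := (hP n).1
  rwa [Ideal.map_map, ← IsScalarTower.algebraMap_eq] at this

include hP in
/-- existence of the map `P n → B` sending the variables to `v` -/
theorem exists_gmap [hB : HenselianRing B (I.map (algebraMap A B))] (n : ℕ) (v : Fin n → B) :
    ∃ g : P n →ₐ[A] B, ∀ p, g (algebraMap (MvPolynomial (Fin n) A) (P n) p) =
      MvPolynomial.aeval v p := by
  have hle : (I.map (algebraMap A (MvPolynomial (Fin n) A))).map
      ((MvPolynomial.aeval v : MvPolynomial (Fin n) A →ₐ[A] B) : MvPolynomial (Fin n) A →+* B) ≤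
      I.map (algebraMap A B) := by
    rw [Ideal.map_map]
    apply le_of_eq
    congr 1
    ext x
    simp
  obtain ⟨g, hg, -⟩ := (hP n).2 B _ _ hB hle
  have hgp : ∀ p, g (algebraMap (MvPolynomial (Fin n) A) (P n) p) = MvPolynomial.aeval v p :=
    fun p => congrArg (fun φ => φ p) hg
  refine ⟨{ g with commutes' := fun r => ?_ }, hgp⟩
  show g (algebraMap A (P n) r) = algebraMap A B r
  rw [IsScalarTower.algebraMap_apply A (MvPolynomial (Fin n) A) (P n), hgp]
  simp

include hP in
theorem gmap_unique (n : ℕ) (C : Type u) [CommRing C] [Algebra A C]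
    [hC : HenselianRing C (I.map (algebraMap A C))] (g₁ g₂ : P n →ₐ[A] C)
    (h : ∀ i, g₁ (algebraMap (MvPolynomial (Fin n) A) (P n) (MvPolynomial.X i)) =
      g₂ (algebraMap (MvPolynomial (Fin n) A) (P n) (MvPolynomial.X i))) : g₁ = g₂ := by
  have h1 : g₁.comp (IsScalarTower.toAlgHom A (MvPolynomial (Fin n) A) (P n)) =
      g₂.comp (IsScalarTower.toAlgHom A (MvPolynomial (Fin n) A) (P n)) :=
    MvPolynomial.algHom_ext (fun i => h i)
  have hle : (I.map (algebraMap A (MvPolynomial (Fin n) A))).map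
      ((g₁ : P n →+* C).comp (algebraMap (MvPolynomial (Fin n) A) (P n))) ≤
      I.map (algebraMap A C) := by
    rw [Ideal.map_map]
    apply le_of_eq
    congr 1
    ext x
    show g₁ (algebraMap (MvPolynomial (Fin n) A) (P n) (algebraMap A _ x)) = algebraMap A C x
    rw [← IsScalarTower.algebraMap_apply A (MvPolynomial (Fin n) A) (P n)]
    exact g₁.commutes x
  obtain ⟨g, -, hu⟩ := (hP n).2 C _ _ hC hle
  have e1 : (g₁ : P n →+* C) = g := hu _ rfl
  have e2 : (g₂ : P n →+* C) = g := hu _ (by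
    refine RingHom.ext fun p => ?_
    exact (DFunLike.congr_fun h1 p).symm)
  exact AlgHom.coe_ringHom_injective (e1.trans e2.symm)

include hP in
theorem range_le [hB : HenselianRing B (I.map (algebraMap A B))] (n m : ℕ) (σ : Fin n → Fin m)
    (v : Fin n → B) (w : Fin m → B) (hvw : ∀ i, w (σ i) = v i)
    (g₁ : P n →ₐ[A] B)
    (h₁ : ∀ p, g₁ (algebraMap (MvPolynomial (Fin n) A) (P n) p) = MvPolynomial.aeval v p)
    (g₂ : P m →ₐ[A] B)
    (h₂ : ∀ p, g₂ (algebraMap (MvPolynomial (Fin m) A) (P m) p) = MvPolynomial.aeval w p) :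
    g₁.range ≤ g₂.range := by
  let f : MvPolynomial (Fin n) A →+* P m := (algebraMap (MvPolynomial (Fin m) A) (P m)).comp
    ((MvPolynomial.rename σ : MvPolynomial (Fin n) A →ₐ[A] MvPolynomial (Fin m) A) :
      MvPolynomial (Fin n) A →+* MvPolynomial (Fin m) A)
  have hfC : ∀ r : A, f (algebraMap A _ r) = algebraMap A (P m) r := by
    intro r
    show algebraMap (MvPolynomial (Fin m) A) (P m) (MvPolynomial.rename σ (algebraMap A _ r)) = _
    rw [AlgHom.commutes, ← IsScalarTower.algebraMap_apply]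
  have hf : (I.map (algebraMap A (MvPolynomial (Fin n) A))).map f ≤
      (I.map (algebraMap A (MvPolynomial (Fin m) A))).map
        (algebraMap (MvPolynomial (Fin m) A) (P m)) := by
    rw [Ideal.map_map, Ideal.map_map]
    apply le_of_eq
    congr 1
    ext x
    show f (algebraMap A _ x) = algebraMap (MvPolynomial (Fin m) A) (P m) (algebraMap A _ x)
    rw [hfC, ← IsScalarTower.algebraMap_apply]
  obtain ⟨u, hu, -⟩ := (hP n).2 (P m) _ f (hP m).1 hf
  have hup : ∀ p, u (algebraMap (MvPolynomial (Fin n) A) (P n) p) = f p :=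
    fun p => congrArg (fun φ => φ p) hu
  have huA : ∀ r : A, u (algebraMap A (P n) r) = algebraMap A (P m) r := by
    intro r
    rw [IsScalarTower.algebraMap_apply A (MvPolynomial (Fin n) A) (P n), hup, hfC]
  let u' : P n →ₐ[A] P m := { u with commutes' := huA }
  have hu' : ∀ x, u' x = u x := fun x => rfl
  have key : g₁ = g₂.comp u' := by
    apply gmap_unique A I P hP n B
    intro i
    rw [h₁, AlgHom.comp_apply, hu', hup]
    show _ = g₂ (algebraMap (MvPolynomial (Fin m) A) (P m)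
      (MvPolynomial.rename σ (MvPolynomial.X i)))
    rw [MvPolynomial.rename_X, h₂, MvPolynomial.aeval_X, MvPolynomial.aeval_X, hvw]
  rintro _ ⟨x, rfl⟩
  rw [key]
  exact ⟨u' x, rfl⟩

include hP in
theorem main [HenselianRing A I] [hB : HenselianRing B (I.map (algebraMap A B))]
    (h : ColimHyp A I B) :
    ∃ (R : Type u) (_ : CommRing R) (_ : Algebra A R) (_ : Algebra R B) (_ : IsScalarTower A R B),
      Algebra.FinitePresentation A R ∧ Hens2.IsPairHenselization R (I.map (algebraMap A R)) B := by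
  classical
  let 𝒯 : Set (Subalgebra A B) := {T | ∃ (n : ℕ) (v : Fin n → B) (g : P n →ₐ[A] B),
    (∀ p, g (algebraMap (MvPolynomial (Fin n) A) (P n) p) = MvPolynomial.aeval v p) ∧
      T = g.range}
  have hcov : ∀ y : B, ∃ T ∈ 𝒯, y ∈ T := by
    intro y
    obtain ⟨g, hg⟩ := exists_gmap A I B P hP 1 (fun _ => y)
    refine ⟨g.range, ⟨1, _, g, hg, rfl⟩,
      ⟨algebraMap (MvPolynomial (Fin 1) A) (P 1) (MvPolynomial.X 0), ?_⟩⟩
    show g _ = y
    rw [hg, MvPolynomial.aeval_X]
  have htop : ⊤ ∈ 𝒯 := by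
    apply top_mem h 𝒯
    · obtain ⟨T, hT, -⟩ := hcov 0
      exact ⟨T, hT⟩
    · rintro T₁ ⟨n, v, g₁, h₁, rfl⟩ T₂ ⟨m, w, g₂, h₂, rfl⟩
      obtain ⟨g₃, h₃⟩ := exists_gmap A I B P hP (n + m) (Fin.append v w)
      refine ⟨g₃.range, ⟨_, _, g₃, h₃, rfl⟩, ?_, ?_⟩
      · exact range_le A I B P hP n (n + m) (Fin.castAdd m) v _
          (fun i => Fin.append_left v w i) g₁ h₁ g₃ h₃
      · exact range_le A I B P hP m (n + m) (Fin.natAdd n) w _
          (fun i => Fin.append_right v w i) g₂ h₂ g₃ h₃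
    · rintro T ⟨n, v, g, hg, rfl⟩
      haveI := henselian_P A I P hP n
      letI : Algebra (P n) g.range := g.rangeRestrict.toRingHom.toAlgebra
      haveI : Algebra.IsIntegral (P n) g.range :=
        Algebra.IsIntegral.of_surjective (Algebra.ofId (P n) g.range) g.rangeRestrict_surjective
      have := Groth.Agent.Lib.Helper4.HenselPair.henselianRing_map_of_isIntegral (P n)
        (I.map (algebraMap A (P n))) g.range
      rw [Ideal.map_map] at this
      have e : (algebraMap (P n) g.range).comp (algebraMap A (P n)) = algebraMap A g.range := by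
        ext r
        exact congrArg Subtype.val (g.rangeRestrict.commutes r)
      rwa [e] at this
    · exact hcov
  obtain ⟨n, v, g, hg, htop'⟩ := htop
  have hsurj : Function.Surjective g := by
    intro y
    have : y ∈ g.range := htop' ▸ Algebra.mem_top
    exact this
  haveI := henselian_P A I P hP n
  have hfg := ker_fg h (P n) g hsurj
    (Finset.univ.image (fun i : Fin n =>
      algebraMap (MvPolynomial (Fin n) A) (P n) (MvPolynomial.X i)))
    (fun C _ _ _ g₁ g₂ h12 => gmap_unique A I P hP n C g₁ g₂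
      (fun i => h12 _ (Finset.mem_image_of_mem _ (Finset.mem_univ i))))
  exact (Groth.Agent.S17607.result A I B).1
    ⟨n, P n, inferInstance, inferInstance, inferInstance, inferInstance, hP n, g, hsurj, hfg⟩

open Groth.Agent.Lib.Helper12.HzPair in
theorem main' [HenselianRing A I] [hB : HenselianRing B (I.map (algebraMap A B))]
    (h : ColimHyp A I B) :
    ∃ (R : Type u) (_ : CommRing R) (_ : Algebra A R) (_ : Algebra R B) (_ : IsScalarTower A R B),
      Algebra.FinitePresentation A R ∧ Hens2.IsPairHenselization R (I.map (algebraMap A R)) B := by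
  letI iA : ∀ n, Algebra A (Hz (I.map (algebraMap A (MvPolynomial (Fin n) A)))) := fun n =>
    ((algebraMap (MvPolynomial (Fin n) A) (Hz (I.map (algebraMap A (MvPolynomial (Fin n) A))))).comp
      (algebraMap A (MvPolynomial (Fin n) A))).toAlgebra
  haveI iT : ∀ n, IsScalarTower A (MvPolynomial (Fin n) A)
      (Hz (I.map (algebraMap A (MvPolynomial (Fin n) A)))) :=
    fun n => IsScalarTower.of_algebraMap_eq (fun _ => rfl)
  exact main A I B (fun n => Hz (I.map (algebraMap A (MvPolynomial (Fin n) A))))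
    (fun n => Hz.isPairHenselization _) h

end Main

end Groth.Agent.Lib.Helper15.HfpColim
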