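import Mathlib
import Groth.Agent.Lib.Helper18.FlF
import Groth.Agent.Lib.Helper18.FlC1
import Groth.Agent.Lib.Helper15.Desc7

/-!
# Flat henselian finitely presented algebras have flat finitely presented models (helper15)
-/

set_option autoImplicit false
set_option linter.style.haveILetI false
set_option linter.unusedSectionVars false
set_option linter.style.longLine false

universe u

namespace Groth.Agent.Lib.Helper15.HfpFlat

open TensorProduct Groth.Agent.Lib.Helper15.RigBC Groth.Agent.Lib.Helper12.HzPair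
  Groth.Agent.Lib.Helper15.Desc

section

variable {R₀ : Type u} [CommRing R₀] {B : Type u} [CommRing B] [Algebra R₀ B] (𝔯 : Ideal R₀)

theorem exists_approx (hd : IsDenseIso 𝔯 (algebraMap R₀ B)) (𝔞 : Ideal R₀) {x' : B}
    (hx' : x' ∈ 𝔞.map (algebraMap R₀ B)) :
    ∃ a ∈ 𝔞, x' - algebraMap R₀ B a ∈ 𝔯.map (algebraMap R₀ B) := by
  induction hx' using Submodule.span_induction with
  | mem y hy =>
    obtain ⟨a, ha, rfl⟩ := hy
    exact ⟨a, ha, by rw [sub_self]; exact Ideal.zero_mem _⟩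
  | zero => exact ⟨0, Ideal.zero_mem _, by rw [map_zero, sub_self]; exact Ideal.zero_mem _⟩
  | add y₁ y₂ _ _ h₁ h₂ =>
    obtain ⟨a₁, ha₁, hy₁⟩ := h₁
    obtain ⟨a₂, ha₂, hy₂⟩ := h₂
    refine ⟨a₁ + a₂, Ideal.add_mem _ ha₁ ha₂, ?_⟩
    have : y₁ + y₂ - algebraMap R₀ B (a₁ + a₂) =
        (y₁ - algebraMap R₀ B a₁) + (y₂ - algebraMap R₀ B a₂) := by
      rw [map_add]; ring
    rw [this]
    exact Ideal.add_mem _ hy₁ hy₂
  | smul c y _ hh =>
    obtain ⟨a, ha, hy⟩ := hh
    obtain ⟨t, ht⟩ := hd.dense 1 c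
    rw [pow_one] at ht
    refine ⟨t * a, Ideal.mul_mem_left _ _ ha, ?_⟩
    have : c • y - algebraMap R₀ B (t * a) =
        c * (y - algebraMap R₀ B a) + (c - algebraMap R₀ B t) * algebraMap R₀ B a := by
      rw [map_mul, smul_eq_mul]; ring
    rw [this]
    exact Ideal.add_mem _ (Ideal.mul_mem_left _ _ hy) (Ideal.mul_mem_right _ _ ht)

theorem exists_mem_sub_one_mem (hd : IsDenseIso 𝔯 (algebraMap R₀ B)) (𝔞 : Ideal R₀)
    (h1 : (1 : B) ∈ 𝔞.map (algebraMap R₀ B)) : ∃ s ∈ 𝔞, s - 1 ∈ 𝔯 := by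
  obtain ⟨a, ha, h⟩ := exists_approx 𝔯 hd 𝔞 h1
  refine ⟨a, ha, ?_⟩
  have h2 : algebraMap R₀ B (1 - a) ∈ (𝔯 ^ 1).map (algebraMap R₀ B) := by
    rw [pow_one, map_sub, map_one]; exact h
  have h3 := hd.closed 1 _ h2
  rw [pow_one] at h3
  have : a - 1 = -(1 - a) := by ring
  rw [this]
  exact neg_mem h3

theorem exists_smul_eq_zero [Module.Flat R₀ B] (hd : IsDenseIso 𝔯 (algebraMap R₀ B))
    {N : Type u} [AddCommGroup N] [Module R₀ N] (ξ : N) (h : (1 : B) ⊗ₜ[R₀] ξ = 0) :
    ∃ s : R₀, s - 1 ∈ 𝔯 ∧ s • ξ = 0 := by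
  have h1 : (1 : B) ∈ Ideal.map (algebraMap R₀ B)
      (LinearMap.ker (LinearMap.toSpanSingleton R₀ N ξ) : Ideal R₀) := by
    apply mem_map_ker_of_lTensor_eq_zero
    rw [LinearMap.lTensor_tmul, LinearMap.toSpanSingleton_apply, one_smul]
    exact h
  obtain ⟨s, hs, hs'⟩ := exists_mem_sub_one_mem 𝔯 hd _ h1
  refine ⟨s, hs', ?_⟩
  rw [LinearMap.mem_ker, LinearMap.toSpanSingleton_apply] at hs
  exact hs

variable {A : Type u} [CommRing A] [Algebra A R₀] [Algebra A B] [IsScalarTower A R₀ B]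

theorem exists_smul_tensor_eq_zero [Module.Flat R₀ B] [Module.Flat A B]
    (hd : IsDenseIso 𝔯 (algebraMap R₀ B)) (𝔞 : Ideal A) (ξ : R₀ ⊗[A] 𝔞)
    (hξ : 𝔞.subtype.lTensor R₀ ξ = 0) : ∃ s : R₀, s - 1 ∈ 𝔯 ∧ s • ξ = 0 := by
  refine exists_smul_eq_zero 𝔯 hd (N := R₀ ⊗[A] 𝔞) ξ ?_
  let ι : R₀ →ₗ[A] B := (IsScalarTower.toAlgHom A R₀ B).toLinearMap
  let e := TensorProduct.AlgebraTensorModule.cancelBaseChange A R₀ R₀ B 𝔞
  have key : ∀ ζ : R₀ ⊗[A] 𝔞, e ((1 : B) ⊗ₜ[R₀] ζ) = ι.rTensor 𝔞 ζ := by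
    intro ζ
    induction ζ using TensorProduct.induction_on with
    | zero => simp
    | tmul r a =>
      rw [TensorProduct.AlgebraTensorModule.cancelBaseChange_tmul, LinearMap.rTensor_tmul]
      congr 1
      show r • (1 : B) = algebraMap R₀ B r
      rw [Algebra.smul_def, mul_one]
    | add x y hx hy =>
      rw [TensorProduct.tmul_add, map_add, map_add, hx, hy]
  apply e.injective
  rw [key, map_zero]
  have hinj := Module.Flat.lTensor_preserves_injective_linearMap (M := B) 𝔞.subtype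
    𝔞.injective_subtype
  apply hinj
  rw [map_zero, ← LinearMap.comp_apply, LinearMap.lTensor_comp_rTensor,
    ← LinearMap.rTensor_comp_lTensor, LinearMap.comp_apply, hξ, map_zero]

theorem flat_localizedModule_of_le [Module.Flat R₀ B] [Module.Flat A B]
    (hd : IsDenseIso 𝔯 (algebraMap R₀ B)) (q : Ideal R₀) [q.IsPrime] (hq : 𝔯 ≤ q) :
    Module.Flat A (LocalizedModule q.primeCompl R₀) := by
  rw [Module.Flat.iff_lTensor_injective']
  intro 𝔞
  rw [Groth.Agent.Lib.Helper18.Fl.lTensor_localizedModule_injective_iff]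
  intro ξ hξ
  obtain ⟨s, hs, hs'⟩ := exists_smul_tensor_eq_zero 𝔯 hd 𝔞 ξ hξ
  refine ⟨⟨s, ?_⟩, hs'⟩
  intro hsq
  apply Ideal.IsPrime.ne_top (I := q) inferInstance
  rw [Ideal.eq_top_iff_one]
  have : (1 : R₀) = s - (s - 1) := by ring
  rw [this]
  exact Ideal.sub_mem _ hsq (hq hs)

end

theorem main17615 (A : Type u) [CommRing A] (I : Ideal A) [HenselianRing A I]
    (R₀ : Type u) [CommRing R₀] [Algebra A R₀] [Algebra.FinitePresentation A R₀]
    (B : Type u) [CommRing B] [Algebra R₀ B] [Algebra A B] [IsScalarTower A R₀ B]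
    (hB : Hens2.IsPairHenselization R₀ (I.map (algebraMap A R₀)) B) [Module.Flat A B] :
    ∃ (S : Type u) (_ : CommRing S) (_ : Algebra A S) (_ : Algebra S B) (_ : IsScalarTower A S B),
      Algebra.FinitePresentation A S ∧ Module.Flat A S ∧
      Hens2.IsPairHenselization S (I.map (algebraMap A S)) B := by
  obtain ⟨𝔯, h𝔯⟩ : ∃ 𝔯 : Ideal R₀, 𝔯 = I.map (algebraMap A R₀) := ⟨_, rfl⟩
  rw [← h𝔯] at hB
  have hd := isDenseIso_of_isPairHenselization 𝔯 hB
  haveI : Module.Flat R₀ B := (flat_and_bijective_of_isPairHenselization hB).1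
  -- flat locus
  have hopen : IsOpen {q : PrimeSpectrum R₀ |
      Module.Flat A (LocalizedModule q.asIdeal.primeCompl R₀)} :=
    Groth.Agent.Lib.Helper18.Fl.isOpen_flatLocus
  obtain ⟨K, hK⟩ := (PrimeSpectrum.isClosed_iff_zeroLocus_ideal _).mp hopen.isClosed_compl
  have hKr : 𝔯 ⊔ K = ⊤ := by
    rw [← PrimeSpectrum.zeroLocus_empty_iff_eq_top, PrimeSpectrum.zeroLocus_sup, ← hK,
      Set.eq_empty_iff_forall_notMem]
    rintro q ⟨hq1, hq2⟩
    exact hq2 (flat_localizedModule_of_le 𝔯 hd q.asIdeal hq1)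
  obtain ⟨i, hi, h, hh, hih⟩ := Submodule.mem_sup.mp ((Ideal.eq_top_iff_one _).mp hKr)
  have hDh : ∀ q : PrimeSpectrum R₀, h ∉ q.asIdeal →
      Module.Flat A (LocalizedModule q.asIdeal.primeCompl R₀) := by
    intro q hq
    by_contra hcon
    have : q ∈ PrimeSpectrum.zeroLocus (K : Set R₀) := by rw [← hK]; exact hcon
    exact hq (this hh)
  have hflat1 : Module.Flat A (LocalizedModule (Submonoid.powers h) R₀) := by
    rw [Module.Flat.iff_lTensor_injective']
    intro 𝔞
    rw [Groth.Agent.Lib.Helper18.Fl.lTensor_localizedModule_injective_iff]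
    intro ξ hξ
    obtain ⟨Ann, hAnn⟩ : ∃ Ann : Ideal R₀,
        Ann = LinearMap.ker (LinearMap.toSpanSingleton R₀ (R₀ ⊗[A] 𝔞) ξ) := ⟨_, rfl⟩
    have hmem : ∀ r, r ∈ Ann ↔ r • ξ = 0 := by
      intro r; rw [hAnn, LinearMap.mem_ker, LinearMap.toSpanSingleton_apply]
    have hrad : h ∈ Ann.radical := by
      rw [Ideal.radical_eq_sInf, Ideal.mem_sInf]
      rintro q ⟨hq1, hq2⟩
      by_contra hhq
      haveI := hq2
      have hfl := hDh ⟨q, hq2⟩ hhq
      rw [Module.Flat.iff_lTensor_injective'] at hfl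
      obtain ⟨s, hs⟩ := (Groth.Agent.Lib.Helper18.Fl.lTensor_localizedModule_injective_iff
        _ 𝔞).mp (hfl 𝔞) ξ hξ
      exact s.2 (hq1 ((hmem _).mpr hs))
    obtain ⟨n, hn⟩ := hrad
    exact ⟨⟨h ^ n, n, rfl⟩, (hmem _).mp hn⟩
  have hflat2 : Module.Flat A (Localization.Away h) := by
    let e := IsLocalizedModule.iso (Submonoid.powers h)
      (Algebra.linearMap R₀ (Localization.Away h))
    exact Module.Flat.of_linearEquiv (e.restrictScalars A).symm
  have hu : IsUnit (algebraMap R₀ B h) := by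
    have h1 : algebraMap R₀ B h = 1 + -algebraMap R₀ B i := by
      rw [← map_one (algebraMap R₀ B), ← map_neg, ← map_add, ← hih]
      congr 1; ring
    have hjac : -algebraMap R₀ B i ∈ Ideal.jacobson (⊥ : Ideal B) :=
      neg_mem (hB.1.jac (Ideal.mem_map_of_mem _ hi))
    rw [h1]
    exact isUnit_one_add_of_mem_jacobson hjac
  let ψ : Localization.Away h →+* B := IsLocalization.Away.lift h hu
  have hψ : ψ.comp (algebraMap R₀ (Localization.Away h)) = algebraMap R₀ B :=
    IsLocalization.Away.lift_comp h hu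
  letI algSB : Algebra (Localization.Away h) B := ψ.toAlgebra
  have halg : algebraMap (Localization.Away h) B = ψ := rfl
  have htower : IsScalarTower A (Localization.Away h) B :=
    IsScalarTower.of_algebraMap_eq (fun a => by
      show algebraMap A B a = ψ (algebraMap A (Localization.Away h) a)
      rw [IsScalarTower.algebraMap_apply A R₀ (Localization.Away h), ← RingHom.comp_apply, hψ,
        ← IsScalarTower.algebraMap_apply])
  haveI : Algebra.FinitePresentation R₀ (Localization.Away h) :=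
    IsLocalization.Away.finitePresentation h
  refine ⟨Localization.Away h, inferInstance, inferInstance, algSB, htower,
    Algebra.FinitePresentation.trans A R₀ (Localization.Away h), hflat2, ?_, ?_⟩
  · have e1 : (I.map (algebraMap A (Localization.Away h))).map
        (algebraMap (Localization.Away h) B) = 𝔯.map (algebraMap R₀ B) := by
      rw [h𝔯, Ideal.map_map, Ideal.map_map, ← IsScalarTower.algebraMap_eq,
        ← IsScalarTower.algebraMap_eq]
    rw [e1]; exact hB.1
  · intro C _ J f hC hJ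
    have hJ' : 𝔯.map (f.comp (algebraMap R₀ (Localization.Away h))) ≤ J := by
      rw [h𝔯, Ideal.map_map]
      rw [Ideal.map_map] at hJ
      have e2 : (f.comp (algebraMap R₀ (Localization.Away h))).comp (algebraMap A R₀) =
          f.comp (algebraMap A (Localization.Away h)) := by
        rw [RingHom.comp_assoc, ← IsScalarTower.algebraMap_eq]
      rw [e2]; exact hJ
    obtain ⟨g, hg, hguniq⟩ := hB.2 C J (f.comp (algebraMap R₀ (Localization.Away h))) hC hJ'
    refine ⟨g, ?_, ?_⟩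
    · apply IsLocalization.ringHom_ext (Submonoid.powers h)
      rw [RingHom.comp_assoc, halg, hψ]
      exact hg
    · intro g' hg'
      apply hguniq
      rw [← hg', RingHom.comp_assoc, halg, hψ]

end Groth.Agent.Lib.Helper15.HfpFlat
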