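import Mathlib
import Groth.Agent.Lib.Helper8.Hilb7

/-!
# Graded decomposition of `T(I) = Hom(I, S/I)` for monomial ideals: independence (helper15)
-/

set_option backward.isDefEq.respectTransparency.types false
set_option autoImplicit false
set_option linter.unusedSectionVars false
set_option linter.style.haveILetI false

universe u

namespace Groth.Agent.Lib.Helper15.HilbT

open MvPolynomial W4c1hilbpn Groth.Agent.Lib.Helper8.Hilb

variable {k : Type u} [Field k] {n : ℕ} {I : Ideal (MvPolynomial (Fin n) k)}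

/-- coefficient of a monomial class -/
lemma cf_mk_monomial (hI : IsMonomial I) (γ : Fin n →₀ ℕ) (hγ : γ ∉ exps I) (δ : Fin n →₀ ℕ) :
    cf hI γ hγ (Ideal.Quotient.mk I (monomial δ (1 : k))) = if δ = γ then 1 else 0 := by
  rw [cf_mk, coeff_monomial]

/-- the value of an element of a graded piece on a monomial has no other coefficients -/
lemma cf_apply_tPiece (hI : IsMonomial I) {α : Fin n → ℤ} {φ : Tgt I} (hφ : φ ∈ tPiece I α)
    (β : Fin n →₀ ℕ) (hβ : monomial β (1 : k) ∈ I) (γ : Fin n →₀ ℕ) (hγ : γ ∉ exps I)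
    (hne : ∃ i, (γ i : ℤ) ≠ (β i : ℤ) + α i) :
    cf hI γ hγ (φ ⟨monomial β 1, hβ⟩) = 0 := by
  by_cases hneg : ∃ i, (β i : ℤ) + α i < 0
  · rw [(hφ β hβ).2 hneg, map_zero]
  · push Not at hneg
    obtain ⟨c, hc⟩ := Submodule.mem_span_singleton.1 ((hφ β hβ).1 hneg)
    rw [← hc, map_smul, cf_mk_monomial, if_neg, smul_zero]
    intro h
    obtain ⟨i, hi⟩ := hne
    apply hi
    rw [← h, shift_eq, toN_apply, Int.toNat_of_nonneg (hneg i)]

theorem tPiece_indep (hI : IsMonomial I) : iSupIndep (tPiece I) := by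
  classical
  rw [iSupIndep_iff_finsetSum_eq_zero_imp_eq_zero]
  intro s v hv hsum α₀ hα₀
  apply eq_zero_of_monomials hI
  intro β hβ
  by_cases hneg : ∃ i, (β i : ℤ) + α₀ i < 0
  · exact ((hv α₀ hα₀) β hβ).2 hneg
  · push Not at hneg
    obtain ⟨c, hc⟩ := Submodule.mem_span_singleton.1 (((hv α₀ hα₀) β hβ).1 hneg)
    by_cases hmem : shift β α₀ ∈ exps I
    · rw [← hc, mk_monomial_eq_zero hmem, smul_zero]
    · have h1 : cf hI _ hmem ((∑ α ∈ s, v α) ⟨monomial β 1, hβ⟩) = 0 := by
        rw [hsum]
        simp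
      rw [LinearMap.sum_apply, map_sum, Finset.sum_eq_single α₀] at h1
      · rw [← hc, map_smul, cf_mk_monomial, if_pos rfl, smul_eq_mul, mul_one] at h1
        rw [← hc, h1, zero_smul]
      · intro α hα hne
        apply cf_apply_tPiece hI (hv α hα)
        by_contra hcon
        push Not at hcon
        apply hne
        funext i
        have := hcon i
        rw [shift_eq, toN_apply, Int.toNat_of_nonneg (hneg i)] at this
        omega
      · intro h
        exact absurd hα₀ h

end Groth.Agent.Lib.Helper15.HilbT
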