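import Mathlib
import Groth.Agent.Lib.Helper15.HilbT1

/-!
# Graded pieces of `T(I)` for an arbitrary monomial ideal, in terms of generators (helper15)

For a monomial ideal `I` whose exponent set is the up-closure of a family `gen : ι → exponents`,
the graded piece of multidegree `α` is identified with the space of functions `a : ι → k` that
vanish at the generators `g` with `g + α` negative somewhere or in `I`, and that agree on two
generators whenever `lcm + α` is not (a genuine exponent) in `I`.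
-/

set_option backward.isDefEq.respectTransparency.types false
set_option autoImplicit false
set_option linter.unusedSectionVars false
set_option linter.style.haveILetI false

universe u

namespace Groth.Agent.Lib.Helper15.HilbG

open MvPolynomial W4c1hilbpn Groth.Agent.Lib.Helper8.Hilb

variable {k : Type u} [Field k] {N : ℕ} {I : Ideal (MvPolynomial (Fin N) k)}

/-- a generating family of exponents -/
structure GenData (I : Ideal (MvPolynomial (Fin N) k)) (ι : Type) where
  gen : ι → (Fin N →₀ ℕ)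
  mem_iff : ∀ β : Fin N →₀ ℕ, β ∈ exps I ↔ ∃ j, gen j ≤ β

variable {ι : Type} (D : GenData I ι) (α : Fin N → ℤ)

/-- an integer vector dominates a generator -/
def memZ (γ : Fin N → ℤ) : Prop := ∃ j, ∀ i, (D.gen j i : ℤ) ≤ γ i

/-- an integer vector is the exponent of a monomial of `I` -/
def inZ (γ : Fin N → ℤ) : Prop := (∀ i, 0 ≤ γ i) ∧ memZ D γ

variable {D} in
lemma memZ_mono {γ γ' : Fin N → ℤ} (h : memZ D γ) (hle : ∀ i, γ i ≤ γ' i) : memZ D γ' := by
  obtain ⟨j, hj⟩ := h
  exact ⟨j, fun i => le_trans (hj i) (hle i)⟩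

variable {D} in
lemma inZ_mono {γ γ' : Fin N → ℤ} (h : inZ D γ) (hle : ∀ i, γ i ≤ γ' i) : inZ D γ' :=
  ⟨fun i => le_trans (h.1 i) (hle i), memZ_mono h.2 hle⟩

lemma toN_mem_iff (γ : Fin N → ℤ) (hγ : ∀ i, 0 ≤ γ i) : toN γ ∈ exps I ↔ memZ D γ := by
  rw [D.mem_iff]
  constructor
  · rintro ⟨j, hj⟩
    refine ⟨j, fun i => ?_⟩
    have := hj i
    rw [toN_apply] at this
    have := hγ i
    omega
  · rintro ⟨j, hj⟩
    refine ⟨j, fun i => ?_⟩
    rw [toN_apply]
    have := hj i
    have := hγ i
    omega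

lemma inZ_iff (γ : Fin N → ℤ) : inZ D γ ↔ ((∀ i, 0 ≤ γ i) ∧ toN γ ∈ exps I) := by
  constructor
  · rintro ⟨h1, h2⟩
    exact ⟨h1, (toN_mem_iff D γ h1).2 h2⟩
  · rintro ⟨h1, h2⟩
    exact ⟨h1, (toN_mem_iff D γ h1).1 h2⟩

/-- the shifted generator -/
def shv (j : ι) : Fin N → ℤ := fun i => (D.gen j i : ℤ) + α i

/-- the shifted least common multiple -/
def lcv (j j' : ι) : Fin N → ℤ := fun i => (max (D.gen j i) (D.gen j' i) : ℕ) + α i

/-- the generator is sent to a nonzero monomial of `S/I` -/
def Good (j : ι) : Prop := (∀ i, 0 ≤ shv D α j i) ∧ ¬ memZ D (shv D α j)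

/-- the two generators are linked -/
def Link (j j' : ι) : Prop := ¬ inZ D (lcv D α j j')

/-- the model of the graded piece -/
def AG : Submodule k (ι → k) where
  carrier := {a | (∀ j, ¬ Good D α j → a j = 0) ∧ ∀ j j', Link D α j j' → a j = a j'}
  zero_mem' := ⟨fun _ _ => rfl, fun _ _ _ => rfl⟩
  add_mem' := by
    rintro a b ⟨a1, a2⟩ ⟨b1, b2⟩
    refine ⟨fun j hj => ?_, fun j j' h => ?_⟩
    · simp [a1 j hj, b1 j hj]
    · simp [a2 j j' h, b2 j j' h]
  smul_mem' := by
    rintro c a ⟨a1, a2⟩
    refine ⟨fun j hj => ?_, fun j j' h => ?_⟩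
    · simp [a1 j hj]
    · simp [a2 j j' h]

lemma gen_mem (j : ι) : D.gen j ∈ exps I := (D.mem_iff _).2 ⟨j, le_rfl⟩

variable {α}

lemma sh_eq (β : Fin N →₀ ℕ) : sh α β = fun i => (β i : ℤ) + α i := rfl

/-- `sh α β` lies in the region unless it is an exponent of `I` -/
lemma sh_mem_region_iff {β : Fin N →₀ ℕ} (hβ : β ∈ exps I) :
    sh α β ∈ region I α ↔ ¬ inZ D (sh α β) := by
  rw [inZ_iff]
  constructor
  · intro h
    exact ((mem_region_iff α _).1 h).2.2
  · intro h
    exact sh_mem_region hβ h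

lemma region_of_le (D : GenData I ι) {β : Fin N →₀ ℕ} (hβ : β ∈ exps I) (δ : Fin N →₀ ℕ)
    (h : sh α (β + δ) ∈ region I α) : sh α β ∈ region I α := by
  rw [sh_mem_region_iff D hβ]
  rw [sh_mem_region_iff D (exps_add I hβ δ)] at h
  intro hin
  apply h
  apply inZ_mono hin
  intro i
  simp only [sh, Finsupp.coe_add, Pi.add_apply, Nat.cast_add]
  have : (0 : ℤ) ≤ δ i := by positivity
  omega

/-- values are constant along increasing paths in the region -/
lemma val_path (D : GenData I ι) (hI : IsMonomial I) {φ : Tgt I} (hφ : φ ∈ tPiece I α)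
    {β : Fin N →₀ ℕ} (hβ : β ∈ exps I) (δ : Fin N →₀ ℕ) (h : sh α (β + δ) ∈ region I α) :
    val hI φ ⟨_, region_of_le D hβ δ h⟩ = val hI φ ⟨_, h⟩ := by
  induction hm : δ.degree generalizing δ with
  | zero =>
    have hδ : δ = 0 := (Finsupp.degree_eq_zero_iff δ).1 hm
    subst hδ
    congr 1
    try (apply Subtype.ext; change sh α β = sh α (β + 0); rw [add_zero])
  | succ m ih =>
    have hne : δ ≠ 0 := by
      intro h0
      rw [h0] at hm
      simp at hm
    obtain ⟨i, hi⟩ := Finsupp.support_nonempty_iff.2 hne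
    rw [Finsupp.mem_support_iff] at hi
    have hle : Finsupp.single i 1 ≤ δ := by
      rw [Finsupp.single_le_iff]
      omega
    set δ' := δ - Finsupp.single i 1 with hδ'
    have hδ : δ = δ' + Finsupp.single i 1 := (tsub_add_cancel_of_le hle).symm
    have hdeg : δ'.degree = m := by
      have := congrArg Finsupp.degree hδ
      rw [map_add, Finsupp.degree_single, hm] at this
      omega
    have e : β + δ = (β + δ') + Finsupp.single i 1 := by rw [hδ, add_assoc]
    have h' : sh α ((β + δ') + Finsupp.single i 1) ∈ region I α := by rw [← e]; exact h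
    have hmid : sh α (β + δ') ∈ region I α :=
      region_of_le D (exps_add I hβ δ') (Finsupp.single i 1) h'
    rw [ih δ' hmid hdeg]
    have hstep := val_step hI hφ ⟨_, hmid⟩ ⟨_, h'⟩ i (sh_add_single α (β + δ') i)
    rw [hstep]
    congr 1
    try (apply Subtype.ext; change sh α ((β + δ') + Finsupp.single i 1) = sh α (β + δ); rw [e])

end Groth.Agent.Lib.Helper15.HilbG
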