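import Mathlib
import Groth.Agent.Lib.Helper15.HilbG1

/-!
# Graded pieces of `T(I)` in terms of generators: the equivalence (helper15)
-/

set_option backward.isDefEq.respectTransparency.types false
set_option autoImplicit false
set_option linter.unusedSectionVars false
set_option linter.style.haveILetI false

universe u

namespace Groth.Agent.Lib.Helper15.HilbG

open MvPolynomial W4c1hilbpn Groth.Agent.Lib.Helper8.Hilb

variable {k : Type u} [Field k] {N : ℕ} {I : Ideal (MvPolynomial (Fin N) k)}
  {ι : Type} (D : GenData I ι) (hI : IsMonomial I) {α : Fin N → ℤ}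

open Classical in
/-- the value of a tangent vector at a generator -/
noncomputable def gval (α : Fin N → ℤ) (φ : Tgt I) (j : ι) : k :=
  if h : sh α (D.gen j) ∈ region I α then val hI φ ⟨_, h⟩ else 0

lemma gval_of_mem (φ : Tgt I) (j : ι) (h : sh α (D.gen j) ∈ region I α) :
    gval D hI α φ j = val hI φ ⟨_, h⟩ := by
  unfold gval
  rw [dif_pos h]

lemma gval_of_not_good (φ : Tgt I) (j : ι) (h : ¬ Good D α j) : gval D hI α φ j = 0 := by
  unfold gval
  split_ifs with hreg
  · by_cases hnn : ∀ i, 0 ≤ sh α (D.gen j) i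
    · exfalso
      apply h
      refine ⟨hnn, fun hm => ?_⟩
      exact (sh_mem_region_iff D (gen_mem D j)).1 hreg ⟨hnn, hm⟩
    · exact val_of_neg hI φ _ hnn
  · rfl

lemma gval_add (φ ψ : Tgt I) (j : ι) :
    gval D hI α (φ + ψ) j = gval D hI α φ j + gval D hI α ψ j := by
  unfold gval
  by_cases h : sh α (D.gen j) ∈ region I α
  · rw [dif_pos h, dif_pos h, dif_pos h]
    exact val_add hI φ ψ _
  · rw [dif_neg h, dif_neg h, dif_neg h, add_zero]

lemma gval_smul (r : k) (φ : Tgt I) (j : ι) :
    gval D hI α (r • φ) j = r * gval D hI α φ j := by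
  unfold gval
  by_cases h : sh α (D.gen j) ∈ region I α
  · rw [dif_pos h, dif_pos h]
    exact val_smul hI r φ _
  · rw [dif_neg h, dif_neg h, mul_zero]

lemma sh_sup (j j' : ι) : sh α (D.gen j ⊔ D.gen j') = lcv D α j j' := by
  funext i
  simp only [sh, lcv, Finsupp.sup_apply]
  try rfl

/-- the value at a generator equals the value at any region point above it -/
lemma gval_eq_val {φ : Tgt I} (hφ : φ ∈ tPiece I α) (j : ι) (β : Fin N →₀ ℕ)
    (hle : D.gen j ≤ β) (h : sh α β ∈ region I α) :
    gval D hI α φ j = val hI φ ⟨_, h⟩ := by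
  have e : β = D.gen j + (β - D.gen j) := (add_tsub_cancel_of_le hle).symm
  have h' : sh α (D.gen j + (β - D.gen j)) ∈ region I α := by rw [← e]; exact h
  have h0 := region_of_le D (gen_mem D j) _ h'
  rw [gval_of_mem D hI φ j h0, val_path D hI hφ (gen_mem D j) _ h']
  congr 1
  try (apply Subtype.ext; change sh α (D.gen j + (β - D.gen j)) = sh α β; rw [← e])

lemma gval_link {φ : Tgt I} (hφ : φ ∈ tPiece I α) (j j' : ι) (h : Link D α j j') :
    gval D hI α φ j = gval D hI α φ j' := by
  have hmem : D.gen j ⊔ D.gen j' ∈ exps I :=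
    (D.mem_iff _).2 ⟨j, le_sup_left⟩
  have hreg : sh α (D.gen j ⊔ D.gen j') ∈ region I α := by
    rw [sh_mem_region_iff D hmem, sh_sup]
    exact h
  rw [gval_eq_val D hI hφ j _ le_sup_left hreg, gval_eq_val D hI hφ j' _ le_sup_right hreg]

/-- the comparison map -/
noncomputable def toAG : ↥(tPiece I α) →ₗ[k] ↥(AG (k := k) D α) where
  toFun φ := ⟨fun j => gval D hI α φ.1 j,
    fun j hj => gval_of_not_good D hI φ.1 j hj, fun j j' h => gval_link D hI φ.2 j j' h⟩
  map_add' φ ψ := by
    apply Subtype.ext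
    funext j
    exact gval_add D hI φ.1 ψ.1 j
  map_smul' r φ := by
    apply Subtype.ext
    funext j
    exact gval_smul D hI r φ.1 j

lemma toAG_apply (φ : ↥(tPiece I α)) (j : ι) : (toAG D hI φ).1 j = gval D hI α φ.1 j := rfl

lemma toAG_injective : Function.Injective (toAG (α := α) D hI) := by
  rw [injective_iff_map_eq_zero]
  intro φ hφ0
  apply Subtype.ext
  apply eq_zero_of_val hI φ.2
  intro v _
  obtain ⟨j, hj⟩ := (D.mem_iff _).1 (back_mem v)
  have hv : sh α (back α v.1) = v.1 := by
    funext i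
    exact back_add v i
  have hreg : sh α (back α v.1) ∈ region I α := by rw [hv]; exact v.2
  have h1 := gval_eq_val D hI φ.2 j _ hj hreg
  have h2 : gval D hI α φ.1 j = 0 := by
    have := congrArg (fun a : ↥(AG (k := k) D α) => a.1 j) hφ0
    exact this
  rw [h2] at h1
  rw [h1]
  congr 1
  exact Subtype.ext hv.symm

section surj

variable (a : ι → k)

open Classical in
/-- the function on the lattice attached to an element of the model -/
noncomputable def cfun (α : Fin N → ℤ) (γ : Fin N → ℤ) : k :=
  if h : ∃ j, ∀ i, (D.gen j i : ℤ) ≤ γ i - α i then a h.choose else 0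

lemma exists_gen_of_region (v : ↥(region I α)) : ∃ j, ∀ i, (D.gen j i : ℤ) ≤ v.1 i - α i := by
  obtain ⟨j, hj⟩ := (D.mem_iff _).1 (back_mem v)
  refine ⟨j, fun i => ?_⟩
  have h1 := hj i
  have h2 := back_add v i
  omega

lemma not_inZ_of_region (v : ↥(region I α)) : ¬ inZ D v.1 := by
  rw [inZ_iff]
  exact ((mem_region_iff α v.1).1 v.2).2.2

variable {a} (ha : a ∈ AG D α)

include ha in
lemma cfun_Ha (u w : ↥(region I α)) (i : Fin N) (h : w.1 = u.1 + eZ i) :
    cfun D a α u.1 = cfun D a α w.1 := by
  have hu := exists_gen_of_region D u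
  have hw := exists_gen_of_region D w
  unfold cfun
  rw [dif_pos hu, dif_pos hw]
  apply ha.2
  intro hin
  apply not_inZ_of_region D w
  apply inZ_mono hin
  intro l
  have h1 := hu.choose_spec l
  have h2 := hw.choose_spec l
  have h3 : u.1 l ≤ w.1 l := by
    rw [h]
    simp only [Pi.add_apply]
    by_cases hl : l = i
    · subst hl
      rw [eZ_self]
      omega
    · rw [eZ_ne hl]
      omega
  simp only [lcv]
  push_cast
  omega

include ha in
lemma cfun_Hb (v : ↥(region I α)) (h : ¬ ∀ i, 0 ≤ v.1 i) : cfun D a α v.1 = 0 := by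
  have hv := exists_gen_of_region D v
  unfold cfun
  rw [dif_pos hv]
  apply ha.1
  intro hg
  apply h
  intro i
  have h1 := hg.1 i
  have h2 := hv.choose_spec i
  simp only [shv] at h1
  omega

include ha in
lemma gval_mkTgt (j : ι) :
    gval D hI α (mkTgt hI (cfun_Ha D ha) (cfun_Hb D ha)) j = a j := by
  by_cases hg : Good D α j
  · have hreg : sh α (D.gen j) ∈ region I α := by
      rw [sh_mem_region_iff D (gen_mem D j)]
      intro hin
      exact hg.2 hin.2
    rw [gval_of_mem D hI _ j hreg, val_mkTgt hI _ _ _ hg.1]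
    have hex : ∃ j', ∀ i, (D.gen j' i : ℤ) ≤ sh α (D.gen j) i - α i :=
      ⟨j, fun i => by simp [sh]⟩
    unfold cfun
    rw [dif_pos hex]
    apply ha.2
    intro hin
    apply hg.2
    apply memZ_mono hin.2
    intro i
    have h5 := hex.choose_spec i
    have e : sh α (D.gen j) i - α i = (D.gen j i : ℤ) := by simp [sh]
    simp only [lcv, shv]
    push_cast
    omega
  · rw [gval_of_not_good D hI _ j hg, ha.1 j hg]

end surj

lemma toAG_surjective : Function.Surjective (toAG (α := α) D hI) := by
  intro a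
  refine ⟨⟨mkTgt hI (cfun_Ha D a.2) (cfun_Hb D a.2), mkTgt_mem hI _ _⟩, ?_⟩
  apply Subtype.ext
  funext j
  exact gval_mkTgt D hI a.2 j

/-- the graded piece in terms of generators -/
noncomputable def tPieceEquiv : ↥(tPiece I α) ≃ₗ[k] ↥(AG (k := k) D α) :=
  LinearEquiv.ofBijective (toAG D hI) ⟨toAG_injective D hI, toAG_surjective D hI⟩

end Groth.Agent.Lib.Helper15.HilbG
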