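import Mathlib
import Groth.Agent.Lib.Helper15.HilbG2

/-!
# Counting graded pieces of `T(I)` through generators (helper15)
-/

set_option backward.isDefEq.respectTransparency.types false
set_option autoImplicit false
set_option linter.unusedSectionVars false
set_option linter.style.haveILetI false

universe u

namespace Groth.Agent.Lib.Helper15.HilbG

open MvPolynomial W4c1hilbpn Groth.Agent.Lib.Helper8.Hilb Module

section abstract

variable {k : Type*} [Field k] {V : Type*} [AddCommGroup V] [Module k V] {κ : Type*}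

lemma finrank_biSup_finset' (p : κ → Submodule k V) (hp : iSupIndep p) (s : Finset κ)
    (hfin : ∀ i ∈ s, Module.Finite k ↥(p i)) :
    Module.Finite k ↥(⨆ i ∈ s, p i) ∧
      finrank k ↥(⨆ i ∈ s, p i) = ∑ i ∈ s, finrank k ↥(p i) := by
  classical
  induction s using Finset.induction_on with
  | empty =>
    have h0 : (⨆ i ∈ (∅ : Finset κ), p i) = ⊥ := by simp
    rw [h0]
    exact ⟨inferInstance, by simp⟩
  | insert a s ha ih =>
    obtain ⟨ih1, ih2⟩ := ih (fun i hi => hfin i (Finset.mem_insert_of_mem hi))
    haveI := ih1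
    haveI := hfin a (Finset.mem_insert_self a s)
    rw [Finset.iSup_insert, Finset.sum_insert ha, ← ih2]
    have hdis : Disjoint (p a) (⨆ i ∈ s, p i) := by
      have := hp.disjoint_biSup (x := a) (y := (s : Set κ)) (by simpa using ha)
      simpa using this
    have h1 := Submodule.finrank_sup_add_finrank_inf_eq (p a) (⨆ i ∈ s, p i)
    rw [disjoint_iff.1 hdis] at h1
    refine ⟨inferInstance, ?_⟩
    simpa using h1

lemma finrank_iSup_subtype' (p : κ → Submodule k V) (hp : iSupIndep p) (P : κ → Prop)
    (s : Finset κ) (h1 : ∀ i ∈ s, P i) (h2 : ∀ i, P i → i ∉ s → p i = ⊥)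
    (hfin : ∀ i ∈ s, Module.Finite k ↥(p i)) :
    finrank k ↥(⨆ i : {i // P i}, p i.1) = ∑ i ∈ s, finrank k ↥(p i) := by
  have : (⨆ i : {i // P i}, p i.1) = ⨆ i ∈ s, p i := by
    apply le_antisymm
    · apply iSup_le
      rintro ⟨i, hi⟩
      by_cases his : i ∈ s
      · exact le_biSup p his
      · rw [h2 i hi his]
        exact bot_le
    · apply iSup₂_le
      intro i hi
      exact le_iSup (fun i : {i // P i} => p i.1) ⟨i, h1 i hi⟩
  rw [this, (finrank_biSup_finset' p hp s hfin).2]

end abstract

variable {k : Type u} [Field k] {N : ℕ} {I : Ideal (MvPolynomial (Fin N) k)}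
  {ι : Type} (D : GenData I ι) (hI : IsMonomial I)

instance [Finite ι] (α : Fin N → ℤ) : Module.Finite k ↥(AG (k := k) D α) := by
  haveI : Fintype ι := Fintype.ofFinite ι
  infer_instance

include D hI in
lemma finite_tPiece [Finite ι] (α : Fin N → ℤ) : Module.Finite k ↥(tPiece I α) :=
  Module.Finite.equiv (tPieceEquiv D hI (α := α)).symm

include hI in
lemma finrank_tPiece_eq (α : Fin N → ℤ) :
    finrank k ↥(tPiece I α) = finrank k ↥(AG (k := k) D α) :=
  (tPieceEquiv D hI (α := α)).finrank_eq

include hI in
lemma tPiece_eq_bot_of_AG (α : Fin N → ℤ) (h : ∀ a ∈ AG (k := k) D α, a = 0) :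
    tPiece I α = ⊥ := by
  rw [eq_bot_iff]
  intro φ hφ
  rw [Submodule.mem_bot]
  have h1 := h _ (toAG D hI ⟨φ, hφ⟩).2
  have h2 : toAG D hI ⟨φ, hφ⟩ = 0 := Subtype.ext h1
  have h3 := toAG_injective D hI (h2.trans (map_zero _).symm)
  exact congrArg Subtype.val h3

include hI in
/-- the dimension of a span of graded pieces -/
theorem finrank_iSup_tPiece_gens [Finite ι] (P : (Fin N → ℤ) → Prop)
    (S : Finset (Fin N → ℤ)) (h1 : ∀ α ∈ S, P α)
    (h2 : ∀ α, P α → α ∉ S → ∀ a ∈ AG (k := k) D α, a = 0) :
    finrank k ↥(⨆ α : {α // P α}, tPiece I α.1) =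
      ∑ α ∈ S, finrank k ↥(AG (k := k) D α) := by
  rw [finrank_iSup_subtype' (tPiece I) (Groth.Agent.Lib.Helper15.HilbT.tPiece_indep hI) P S h1
    (fun α hα hns => tPiece_eq_bot_of_AG D hI α (h2 α hα hns))
    (fun α _ => finite_tPiece D hI α)]
  exact Finset.sum_congr rfl (fun α _ => finrank_tPiece_eq D hI α)

section classes

variable {D} {α : Fin N → ℤ}

/-- the dimension of the model from a classification of the generators -/
theorem finrank_AG_eq (d : ℕ) (r : Fin d → ι) (cls : ι → Option (Fin d))
    (H1 : ∀ j t, cls j = some t → Good D α j)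
    (H2 : ∀ j j', Link D α j j' → cls j = cls j')
    (H3 : ∀ a ∈ AG (k := k) D α, ∀ j, cls j = none → a j = 0)
    (H4 : ∀ a ∈ AG (k := k) D α, ∀ j t, cls j = some t → a j = a (r t))
    (H5 : ∀ t, cls (r t) = some t) :
    finrank k ↥(AG (k := k) D α) = d := by
  let e : ↥(AG (k := k) D α) ≃ₗ[k] (Fin d → k) :=
    { toFun := fun a t => a.1 (r t)
      map_add' := fun a b => rfl
      map_smul' := fun c a => rfl
      invFun := fun f => ⟨fun j => (cls j).elim 0 f, by
        refine ⟨fun j hj => ?_, fun j j' h => ?_⟩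
        · change (cls j).elim 0 f = 0
          cases hc : cls j with
          | none => rfl
          | some t => exact absurd (H1 j t hc) hj
        · change (cls j).elim 0 f = (cls j').elim 0 f
          rw [H2 j j' h]⟩
      left_inv := by
        intro a
        apply Subtype.ext
        funext j
        change (cls j).elim 0 (fun t => a.1 (r t)) = a.1 j
        cases hc : cls j with
        | none => exact (H3 a.1 a.2 j hc).symm
        | some t => exact (H4 a.1 a.2 j t hc).symm
      right_inv := by
        intro f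
        funext t
        change (cls (r t)).elim 0 f = f t
        rw [H5 t]
        rfl }
  rw [e.finrank_eq, Module.finrank_fintype_fun_eq_card, Fintype.card_fin]

end classes

end Groth.Agent.Lib.Helper15.HilbG
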