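import Mathlib
import Groth.Agent.Lib.Helper15.HilbG3

/-!
# Monomial ideals given by generators; small integer vectors (helper15)
-/

set_option backward.isDefEq.respectTransparency.types false
set_option autoImplicit false
set_option linter.unusedSectionVars false
set_option linter.style.haveILetI false

universe u

namespace Groth.Agent.Lib.Helper15.HilbG

open MvPolynomial W4c1hilbpn Groth.Agent.Lib.Helper8.Hilb Module

variable {k : Type u} [Field k] {N : ℕ}

section span

variable {ι : Type} (g : ι → (Fin N →₀ ℕ)) {I : Ideal (MvPolynomial (Fin N) k)}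
  (hI : I = Ideal.span ((fun s => monomial s (1 : k)) '' Set.range g))

include hI in
lemma mem_span_gens_iff (f : MvPolynomial (Fin N) k) :
    f ∈ I ↔ ∀ β ∈ f.support, ∃ j, g j ≤ β := by
  rw [hI, mem_ideal_span_monomial_image]
  constructor
  · intro h β hβ
    obtain ⟨_, ⟨j, rfl⟩, hj⟩ := h β hβ
    exact ⟨j, hj⟩
  · intro h β hβ
    obtain ⟨j, hj⟩ := h β hβ
    exact ⟨g j, ⟨j, rfl⟩, hj⟩

include hI in
lemma mem_exps_span_gens (β : Fin N →₀ ℕ) : β ∈ exps I ↔ ∃ j, g j ≤ β := by
  unfold exps
  rw [Set.mem_setOf_eq, mem_span_gens_iff g hI]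
  constructor
  · intro h
    apply h β
    rw [MvPolynomial.mem_support_iff, coeff_monomial, if_pos rfl]
    exact one_ne_zero
  · intro h β' hβ'
    rw [MvPolynomial.mem_support_iff, coeff_monomial] at hβ'
    by_cases hb : β = β'
    · subst hb
      exact h
    · rw [if_neg hb] at hβ'
      exact absurd rfl hβ'

include hI in
lemma isMonomial_span_gens : IsMonomial I := by
  intro p hp β hβ
  exact (mem_exps_span_gens g hI β).2 ((mem_span_gens_iff g hI p).1 hp β hβ)

/-- the generating data of an ideal spanned by monomials -/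
def genDataOfSpan : GenData I ι where
  gen := g
  mem_iff := mem_exps_span_gens g hI

end span

section vectors

/-- a nonnegative integer vector with entry sum two is a sum of two unit vectors -/
lemma exists_eq_eZ_add_eZ (m : Fin N → ℤ) (hm : ∀ i, 0 ≤ m i) (hs : ∑ i, m i = 2) :
    ∃ l l' : Fin N, m = eZ l + eZ l' := by
  classical
  have hex : ∃ l, 1 ≤ m l := by
    by_contra hcon
    push Not at hcon
    have : ∑ i, m i = 0 := by
      apply Finset.sum_eq_zero
      intro i _
      have := hm i
      have := hcon i
      omega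
    omega
  obtain ⟨l, hl⟩ := hex
  have hs' : ∑ i, (m - eZ l) i = 1 := by
    simp only [Pi.sub_apply, Finset.sum_sub_distrib, hs]
    have : ∑ i, (eZ l : Fin N → ℤ) i = 1 := by
      unfold eZ
      simp
    rw [this]
    norm_num
  have hm' : ∀ i, 0 ≤ (m - eZ l) i := by
    intro i
    simp only [Pi.sub_apply]
    by_cases hi : i = l
    · subst hi
      rw [eZ_self]
      omega
    · rw [eZ_ne hi]
      have := hm i
      omega
  have hex' : ∃ l', 1 ≤ (m - eZ l) l' := by
    by_contra hcon
    push Not at hcon
    have : ∑ i, (m - eZ l) i = 0 := by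
      apply Finset.sum_eq_zero
      intro i _
      have := hm' i
      have := hcon i
      omega
    omega
  obtain ⟨l', hl'⟩ := hex'
  refine ⟨l, l', ?_⟩
  have hrest : ∀ i, (m - eZ l - eZ l') i = 0 := by
    have hs'' : ∑ i, (m - eZ l - eZ l') i = 0 := by
      have e : ∀ i, (m - eZ l - eZ l') i = (m - eZ l) i - (eZ l' : Fin N → ℤ) i := fun i => rfl
      simp only [e, Finset.sum_sub_distrib, hs']
      have : ∑ i, (eZ l' : Fin N → ℤ) i = 1 := by
        unfold eZ
        simp
      rw [this]
      norm_num
    have hnn : ∀ i, 0 ≤ (m - eZ l - eZ l') i := by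
      intro i
      have e : (m - eZ l - eZ l') i = (m - eZ l) i - (eZ l' : Fin N → ℤ) i := rfl
      rw [e]
      by_cases hi : i = l'
      · subst hi
        rw [eZ_self]
        omega
      · rw [eZ_ne hi]
        have := hm' i
        omega
    intro i
    exact (Finset.sum_eq_zero_iff_of_nonneg (fun i _ => hnn i)).1 hs'' i (Finset.mem_univ i)
  funext i
  have := hrest i
  simp only [Pi.sub_apply, Pi.add_apply] at this ⊢
  omega

lemma sum_eZ (l : Fin N) : ∑ i, (eZ l : Fin N → ℤ) i = 1 := by
  unfold eZ
  simp

end vectors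

end Groth.Agent.Lib.Helper15.HilbG
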