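import Mathlib
import Groth.Agent.Lib.Helper15.HilbG4

/-!
# Two-block monomial ideals `x_0 (x_0, …, x_{n-1}) + x_1^q (x_1, …, x_t)` (helper15)

Generating data and the explicit form of shifted generators; all coordinates are compared through
their values so that `omega` can decide the coordinatewise inequalities.
-/

set_option backward.isDefEq.respectTransparency.types false
set_option autoImplicit false
set_option linter.unusedSectionVars false
set_option linter.style.haveILetI false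

universe u

namespace Groth.Agent.Lib.Helper15.HilbB

open MvPolynomial W4c1hilbpn Groth.Agent.Lib.Helper8.Hilb Module
open Groth.Agent.Lib.Helper15.HilbG

variable (k : Type u) [Field k] (n q t : ℕ)

/-- the index type: `x_0 x_i` (`i < n`) and `x_1^q x_i` (`1 ≤ i ≤ t`) -/
abbrev Idx : Type :=
  {i : Fin (n + 1) // i.val < n} ⊕ {i : Fin (n + 1) // 1 ≤ i.val ∧ i.val ≤ t}

/-- the exponent of a generator, as a function -/
def genF : Idx n t → Fin (n + 1) → ℕ
  | Sum.inl i => fun l => (if l.val = 0 then 1 else 0) + (if l.val = i.1.val then 1 else 0)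
  | Sum.inr i => fun l => (if l.val = 1 then q else 0) + (if l.val = i.1.val then 1 else 0)

/-- the exponent of a generator -/
noncomputable def gen (j : Idx n t) : Fin (n + 1) →₀ ℕ :=
  Finsupp.equivFunOnFinite.symm (genF n q t j)

lemma gen_apply (j : Idx n t) (l : Fin (n + 1)) : gen n q t j l = genF n q t j l := rfl

/-- the two-block ideal -/
noncomputable def tbIdeal : Ideal (MvPolynomial (Fin (n + 1)) k) :=
  Ideal.span ((fun s => monomial s (1 : k)) '' Set.range (gen n q t))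

/-- the generating data -/
noncomputable def dat : GenData (tbIdeal k n q t) (Idx n t) := genDataOfSpan (gen n q t) rfl

lemma isMonomial_tbIdeal : IsMonomial (tbIdeal k n q t) := isMonomial_span_gens (gen n q t) rfl

variable {k n q t}

lemma genZ_inl (i : {i : Fin (n + 1) // i.val < n}) (l : Fin (n + 1)) :
    (((dat k n q t).gen (Sum.inl i) l : ℕ) : ℤ) =
      (if l.val = 0 then 1 else 0) + (if l.val = i.1.val then 1 else 0) := by
  change ((genF n q t (Sum.inl i) l : ℕ) : ℤ) = _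
  simp only [genF]
  push_cast
  rfl

lemma genZ_inr (i : {i : Fin (n + 1) // 1 ≤ i.val ∧ i.val ≤ t}) (l : Fin (n + 1)) :
    (((dat k n q t).gen (Sum.inr i) l : ℕ) : ℤ) =
      (if l.val = 1 then (q : ℤ) else 0) + (if l.val = i.1.val then 1 else 0) := by
  change ((genF n q t (Sum.inr i) l : ℕ) : ℤ) = _
  simp only [genF]
  push_cast
  rfl

lemma shv_inl (α : Fin (n + 1) → ℤ) (i : {i : Fin (n + 1) // i.val < n}) (l : Fin (n + 1)) :
    shv (dat k n q t) α (Sum.inl i) l =
      (if l.val = 0 then 1 else 0) + (if l.val = i.1.val then 1 else 0) + α l := by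
  change (((dat k n q t).gen (Sum.inl i) l : ℕ) : ℤ) + α l = _
  rw [genZ_inl]

lemma shv_inr (α : Fin (n + 1) → ℤ) (i : {i : Fin (n + 1) // 1 ≤ i.val ∧ i.val ≤ t})
    (l : Fin (n + 1)) :
    shv (dat k n q t) α (Sum.inr i) l =
      (if l.val = 1 then (q : ℤ) else 0) + (if l.val = i.1.val then 1 else 0) + α l := by
  change (((dat k n q t).gen (Sum.inr i) l : ℕ) : ℤ) + α l = _
  rw [genZ_inr]

lemma lcv_apply (α : Fin (n + 1) → ℤ) (j j' : Idx n t) (l : Fin (n + 1)) :
    lcv (dat k n q t) α j j' l =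
      max (((dat k n q t).gen j l : ℕ) : ℤ) (((dat k n q t).gen j' l : ℕ) : ℤ) + α l := by
  change ((max ((dat k n q t).gen j l) ((dat k n q t).gen j' l) : ℕ) : ℤ) + α l = _
  push_cast
  rfl

lemma lcv_comm (α : Fin (n + 1) → ℤ) (j j' : Idx n t) :
    lcv (dat k n q t) α j j' = lcv (dat k n q t) α j' j := by
  funext l
  rw [lcv_apply, lcv_apply, max_comm]

lemma shv_le_lcv (α : Fin (n + 1) → ℤ) (j j' : Idx n t) (l : Fin (n + 1)) :
    shv (dat k n q t) α j l ≤ lcv (dat k n q t) α j j' l := by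
  rw [lcv_apply]
  change (((dat k n q t).gen j l : ℕ) : ℤ) + α l ≤ _
  have := le_max_left (((dat k n q t).gen j l : ℕ) : ℤ) (((dat k n q t).gen j' l : ℕ) : ℤ)
  omega

/-- membership through an `x_0 x_i` generator -/
lemma memZ_inl {γ : Fin (n + 1) → ℤ} (i : Fin (n + 1)) (hi : i.val < n)
    (h : ∀ l : Fin (n + 1), (if l.val = 0 then 1 else 0) + (if l.val = i.val then 1 else 0) ≤ γ l) :
    memZ (dat k n q t) γ := by
  refine ⟨Sum.inl ⟨i, hi⟩, fun l => ?_⟩
  rw [genZ_inl]
  exact h l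

/-- membership through an `x_1^q x_i` generator -/
lemma memZ_inr {γ : Fin (n + 1) → ℤ} (i : Fin (n + 1)) (hi : 1 ≤ i.val ∧ i.val ≤ t)
    (h : ∀ l : Fin (n + 1),
      (if l.val = 1 then (q : ℤ) else 0) + (if l.val = i.val then 1 else 0) ≤ γ l) :
    memZ (dat k n q t) γ := by
  refine ⟨Sum.inr ⟨i, hi⟩, fun l => ?_⟩
  rw [genZ_inr]
  exact h l

/-- non-membership, tested at the two relevant coordinates of each generator -/
lemma not_memZ {γ : Fin (n + 1) → ℤ} (hn : 1 ≤ n)
    (hA : ∀ i : Fin (n + 1), i.val < n →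
      ¬ ((1 : ℤ) + (if 0 = i.val then 1 else 0) ≤ γ ⟨0, by omega⟩ ∧
        (if i.val = 0 then 1 else 0) + 1 ≤ γ i))
    (hB : ∀ i : Fin (n + 1), 1 ≤ i.val → i.val ≤ t →
      ¬ ((q : ℤ) + (if 1 = i.val then 1 else 0) ≤ γ ⟨1, by omega⟩ ∧
        (if i.val = 1 then (q : ℤ) else 0) + 1 ≤ γ i)) :
    ¬ memZ (dat k n q t) γ := by
  rintro ⟨j, hj⟩
  rcases j with ⟨i, hi⟩ | ⟨i, hi1, hi2⟩
  · apply hA i hi
    have h0 := hj ⟨0, by omega⟩
    have h1 := hj i
    rw [genZ_inl] at h0 h1
    simp only [if_true] at h0 h1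
    exact ⟨h0, h1⟩
  · apply hB i hi1 hi2
    have h0 := hj ⟨1, by omega⟩
    have h1 := hj i
    rw [genZ_inr] at h0 h1
    simp only [if_true] at h0 h1
    exact ⟨h0, h1⟩

/-- consequences of membership -/
lemma memZ_cases {γ : Fin (n + 1) → ℤ} (hn : 1 ≤ n) (h : memZ (dat k n q t) γ) :
    (∃ i : Fin (n + 1), i.val < n ∧
      (1 : ℤ) + (if 0 = i.val then 1 else 0) ≤ γ ⟨0, by omega⟩ ∧
        (if i.val = 0 then 1 else 0) + 1 ≤ γ i) ∨
    (∃ i : Fin (n + 1), 1 ≤ i.val ∧ i.val ≤ t ∧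
      (q : ℤ) + (if 1 = i.val then 1 else 0) ≤ γ ⟨1, by omega⟩ ∧
        (if i.val = 1 then (q : ℤ) else 0) + 1 ≤ γ i) := by
  by_contra hcon
  push Not at hcon
  exact not_memZ hn (fun i hi h' => hcon.1 i hi h'.1 |>.not_ge h'.2)
    (fun i h1 h2 h' => hcon.2 i h1 h2 h'.1 |>.not_ge h'.2) h

end Groth.Agent.Lib.Helper15.HilbB
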