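import Mathlib
import Groth.Agent.Lib.Helper15.HilbB1

/-!
# Two-block monomial ideals: counting tools (helper15)
-/

set_option backward.isDefEq.respectTransparency.types false
set_option autoImplicit false
set_option linter.unusedSectionVars false
set_option linter.style.haveILetI false

universe u

namespace Groth.Agent.Lib.Helper15.HilbG

open MvPolynomial W4c1hilbpn Groth.Agent.Lib.Helper8.Hilb Module

variable {k : Type u} [Field k] {N : ℕ} {I : Ideal (MvPolynomial (Fin N) k)}
  {ι : Type} {D : GenData I ι} {α : Fin N → ℤ}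

lemma AG_good {a : ι → k} (ha : a ∈ AG (k := k) D α) {j : ι} (h : a j ≠ 0) : Good D α j := by
  by_contra hng
  exact h (ha.1 j hng)

lemma AG_sep {a : ι → k} (ha : a ∈ AG (k := k) D α) {j j' : ι} (h : a j ≠ a j') :
    inZ D (lcv D α j j') := by
  by_contra hng
  exact h (ha.2 j j' hng)

lemma AG_sep_bad {a : ι → k} (ha : a ∈ AG (k := k) D α) {j j' : ι} (h : a j ≠ 0)
    (hb : ¬ Good D α j') : inZ D (lcv D α j j') := by
  apply AG_sep ha
  rw [ha.1 j' hb]
  exact h

/-- a convenient form of the classification lemma -/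
theorem finrank_AG_eq' (d : ℕ) (r : Fin d → ι) (cls : ι → Option (Fin d))
    (H1 : ∀ j t, cls j = some t → Good D α j)
    (H2 : ∀ j j', cls j ≠ cls j' → inZ D (lcv D α j j'))
    (H3 : ∀ j, cls j = none → ¬ Good D α j)
    (H4 : ∀ j t, cls j = some t → Link D α j (r t))
    (H5 : ∀ t, cls (r t) = some t) :
    finrank k ↥(AG (k := k) D α) = d := by
  apply finrank_AG_eq d r cls H1
  · intro j j' hl
    by_contra hne
    exact hl (H2 j j' hne)
  · intro a ha j hj
    exact ha.1 j (H3 j hj)
  · intro a ha j t hj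
    exact ha.2 j _ (H4 j t hj)
  · exact H5

lemma lcv_comm' (j j' : ι) : lcv D α j j' = lcv D α j' j := by
  funext i
  unfold lcv
  rw [max_comm]

/-- a single good generator, separated from all the others -/
theorem finrank_AG_eq_one [DecidableEq ι] (j0 : ι) (hg : Good D α j0)
    (hbad : ∀ j, j ≠ j0 → ¬ Good D α j)
    (hsep : ∀ j, j ≠ j0 → inZ D (lcv D α j0 j)) :
    finrank k ↥(AG (k := k) D α) = 1 := by
  apply finrank_AG_eq' 1 (fun _ => j0) (fun j => if j = j0 then some 0 else none)
  · intro j t hj
    by_cases h : j = j0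
    · rw [h]; exact hg
    · rw [if_neg h] at hj
      exact absurd hj (by simp)
  · intro j j' hne
    by_cases h : j = j0 <;> by_cases h' : j' = j0
    · rw [if_pos h, if_pos h'] at hne
      exact absurd rfl hne
    · rw [h]; exact hsep j' h'
    · rw [h', lcv_comm']; exact hsep j h
    · rw [if_neg h, if_neg h'] at hne
      exact absurd rfl hne
  · intro j hj
    by_cases h : j = j0
    · rw [if_pos h] at hj
      exact absurd hj (by simp)
    · exact hbad j h
  · intro j t hj
    by_cases h : j = j0
    · rw [h]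
      intro hin
      exact hg.2 (memZ_mono hin.2 (fun i => by
        change ((max (D.gen j0 i) (D.gen j0 i) : ℕ) : ℤ) + α i ≤ (D.gen j0 i : ℤ) + α i
        rw [max_self]))
    · rw [if_neg h] at hj
      exact absurd hj (by simp)
  · intro t
    rw [if_pos rfl]
    congr 1
    exact Subsingleton.elim _ _

/-- no good generator at all -/
theorem AG_eq_zero_of_bad (hbad : ∀ j, ¬ Good D α j) : ∀ a ∈ AG (k := k) D α, a = 0 := by
  intro a ha
  funext j
  exact ha.1 j (hbad j)

end Groth.Agent.Lib.Helper15.HilbG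

namespace Groth.Agent.Lib.Helper15.HilbB

open MvPolynomial W4c1hilbpn Groth.Agent.Lib.Helper8.Hilb Module
open Groth.Agent.Lib.Helper15.HilbG

/-- unfold shifted generators and least common multiples into explicit form -/
macro "tbs" "[" ts:Lean.Parser.Tactic.simpLemma,* "]" loc:(Lean.Parser.Tactic.location)? : tactic =>
  `(tactic| simp only [shv_inl, shv_inr, lcv_apply, genZ_inl, genZ_inr, Fin.val_mk, if_true,
    Matrix.cons_val, and_true, true_and, $ts,*] $[$loc]?)

/-- unfold and decide by linear arithmetic -/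
macro "tbo" "[" ts:Lean.Parser.Tactic.simpLemma,* "]" : tactic =>
  `(tactic| ((try simp only [shv_inl, shv_inr, lcv_apply, genZ_inl, genZ_inr, Fin.val_mk, if_true,
    Matrix.cons_val, and_true, true_and, $ts,*] at *); omega))

/-- non-membership by inspection of the generators -/
macro "tbnm" "[" ts:Lean.Parser.Tactic.simpLemma,* "]" : tactic =>
  `(tactic| (refine not_memZ (by omega) ?_ ?_ <;> intros <;> tbo [$ts,*]))

variable {k : Type u} [Field k] {n q t : ℕ}

/-- the unit vector at a natural number index -/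
def eN (n m : ℕ) : Fin (n + 1) → ℤ := fun l => if l.val = m then 1 else 0

lemma eN_apply (m : ℕ) (l : Fin (n + 1)) : eN n m l = if l.val = m then 1 else 0 := rfl

lemma sum_eN {m : ℕ} (hm : m ≤ n) : ∑ l, eN n m l = 1 := by
  have : eN n m = eZ (⟨m, by omega⟩ : Fin (n + 1)) := by
    funext l
    rw [eN_apply]
    by_cases h : l = ⟨m, by omega⟩
    · subst h
      rw [eZ_self, if_pos rfl]
    · rw [eZ_ne h, if_neg]
      intro h'
      exact h (Fin.ext h')
  rw [this, sum_eZ]

lemma span_eq (hn : 1 ≤ n) :
    Ideal.span ({f : MvPolynomial (Fin (n + 1)) k | ∃ i : Fin (n + 1), i.val + 1 ≤ n ∧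
        f = X 0 * X i} ∪
      {f : MvPolynomial (Fin (n + 1)) k | ∃ i : Fin (n + 1), 1 ≤ i.val ∧ i.val ≤ t ∧
        f = X 1 ^ q * X i}) = tbIdeal k n q t := by
  unfold tbIdeal
  congr 1
  have e0 : ∀ i : {i : Fin (n + 1) // i.val < n},
      (X 0 * X i.1 : MvPolynomial (Fin (n + 1)) k) = monomial (gen n q t (Sum.inl i)) 1 := by
    intro i
    rw [X, X, monomial_mul, one_mul]
    have hs : Finsupp.single (0 : Fin (n + 1)) 1 + Finsupp.single i.1 1 =
        gen n q t (Sum.inl i) := by
      ext l
      rw [gen_apply, Finsupp.add_apply, Finsupp.single_apply, Finsupp.single_apply]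
      simp only [genF]
      congr 1
      · by_cases h : l.val = 0
        · rw [if_pos h, if_pos (Fin.ext (by simpa using h.symm))]
        · rw [if_neg h, if_neg]
          intro h'
          exact h (by rw [← h']; rfl)
      · by_cases h : l.val = i.1.val
        · rw [if_pos h, if_pos (Fin.ext h.symm)]
        · rw [if_neg h, if_neg]
          intro h'
          exact h (by rw [h'])
    rw [hs]
  have h1v : ((1 : Fin (n + 1)) : ℕ) = 1 := by
    rw [Fin.val_one']
    exact Nat.mod_eq_of_lt (by omega)
  have e1 : ∀ i : {i : Fin (n + 1) // 1 ≤ i.val ∧ i.val ≤ t},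
      (X 1 ^ q * X i.1 : MvPolynomial (Fin (n + 1)) k) = monomial (gen n q t (Sum.inr i)) 1 := by
    intro i
    rw [X_pow_eq_monomial, X, monomial_mul, one_mul]
    have hs : Finsupp.single (1 : Fin (n + 1)) q + Finsupp.single i.1 1 =
        gen n q t (Sum.inr i) := by
      ext l
      rw [gen_apply, Finsupp.add_apply, Finsupp.single_apply, Finsupp.single_apply]
      simp only [genF]
      congr 1
      · by_cases h : l.val = 1
        · rw [if_pos h, if_pos (Fin.ext (by rw [h1v, h]))]
        · rw [if_neg h, if_neg]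
          intro h'
          exact h (by rw [← h', h1v])
      · by_cases h : l.val = i.1.val
        · rw [if_pos h, if_pos (Fin.ext h.symm)]
        · rw [if_neg h, if_neg]
          intro h'
          exact h (by rw [h'])
    rw [hs]
  ext f
  constructor
  · rintro (⟨i, hi, rfl⟩ | ⟨i, hi1, hi2, rfl⟩)
    · exact ⟨_, ⟨Sum.inl ⟨i, by omega⟩, rfl⟩, (e0 ⟨i, by omega⟩).symm⟩
    · exact ⟨_, ⟨Sum.inr ⟨i, hi1, hi2⟩, rfl⟩, (e1 ⟨i, hi1, hi2⟩).symm⟩
  · rintro ⟨_, ⟨j, rfl⟩, rfl⟩
    rcases j with i | i
    · left
      exact ⟨i.1, by have := i.2; omega, (e0 i).symm⟩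
    · right
      exact ⟨i.1, i.2.1, i.2.2, (e1 i).symm⟩

end Groth.Agent.Lib.Helper15.HilbB
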