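import Mathlib
import Groth.Agent.Lib.Helper15.HilbB2

/-!
# Two-block monomial ideals: degrees of the generators (helper15)
-/

set_option backward.isDefEq.respectTransparency.types false
set_option autoImplicit false
set_option linter.unusedSectionVars false
set_option linter.style.haveILetI false

universe u

namespace Groth.Agent.Lib.Helper15.HilbB

open MvPolynomial W4c1hilbpn Groth.Agent.Lib.Helper8.Hilb Module
open Groth.Agent.Lib.Helper15.HilbG

variable {k : Type u} [Field k] {n q t : ℕ}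

lemma sum_ite_val {m : ℕ} (hm : m ≤ n) (c : ℤ) :
    ∑ l : Fin (n + 1), (if l.val = m then c else 0) = c := by
  rw [Finset.sum_eq_single (⟨m, by omega⟩ : Fin (n + 1))]
  · simp
  · intro l _ hl
    rw [if_neg]
    intro h
    exact hl (Fin.ext h)
  · intro h
    exact absurd (Finset.mem_univ _) h

lemma sum_shv_inl (α : Fin (n + 1) → ℤ) (i : {i : Fin (n + 1) // i.val < n}) :
    ∑ l, shv (dat k n q t) α (Sum.inl i) l = 2 + ∑ l, α l := by
  simp only [shv_inl, Finset.sum_add_distrib]
  rw [sum_ite_val (by omega), sum_ite_val (by have := i.2; omega)]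
  norm_num

lemma sum_shv_inr (hn : 1 ≤ n) (α : Fin (n + 1) → ℤ)
    (i : {i : Fin (n + 1) // 1 ≤ i.val ∧ i.val ≤ t}) :
    ∑ l, shv (dat k n q t) α (Sum.inr i) l = (q : ℤ) + 1 + ∑ l, α l := by
  simp only [shv_inr, Finset.sum_add_distrib]
  rw [sum_ite_val (by omega), sum_ite_val (by have := i.1.2; omega)]

/-- a nonnegative vector of degree two, in explicit form -/
lemma exists_two (m : Fin (n + 1) → ℤ) (hm : ∀ l, 0 ≤ m l) (hs : ∑ l, m l = 2) :
    ∃ p p' : ℕ, p ≤ n ∧ p' ≤ n ∧ ∀ l : Fin (n + 1),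
      m l = (if l.val = p then 1 else 0) + (if l.val = p' then 1 else 0) := by
  obtain ⟨l₁, l₂, h⟩ := exists_eq_eZ_add_eZ m hm hs
  refine ⟨l₁.val, l₂.val, by have := l₁.2; omega, by have := l₂.2; omega, fun l => ?_⟩
  rw [h, Pi.add_apply]
  congr 1
  · by_cases hl : l = l₁
    · subst hl
      rw [eZ_self, if_pos rfl]
    · rw [eZ_ne hl, if_neg]
      intro h'
      exact hl (Fin.ext h')
  · by_cases hl : l = l₂
    · subst hl
      rw [eZ_self, if_pos rfl]
    · rw [eZ_ne hl, if_neg]
      intro h'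
      exact hl (Fin.ext h')

end Groth.Agent.Lib.Helper15.HilbB
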