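import Mathlib
import Groth.Agent.Lib.Helper15.HilbB3

/-!
# Two-block monomial ideals: membership of abstract vectors (helper15)
-/

set_option backward.isDefEq.respectTransparency.types false
set_option autoImplicit false
set_option linter.unusedSectionVars false
set_option linter.style.haveILetI false

universe u

namespace Groth.Agent.Lib.Helper15.HilbB

open MvPolynomial W4c1hilbpn Groth.Agent.Lib.Helper8.Hilb Module
open Groth.Agent.Lib.Helper15.HilbG

variable {k : Type u} [Field k] {n q t : ℕ}

/-- converse of `memZ_cases`, first kind -/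
lemma memZ_inl' {γ : Fin (n + 1) → ℤ} (hγ : ∀ l, 0 ≤ γ l) (i : Fin (n + 1)) (hi : i.val < n)
    (h0 : (1 : ℤ) + (if 0 = i.val then 1 else 0) ≤ γ ⟨0, by omega⟩)
    (h1 : (if i.val = 0 then 1 else 0) + 1 ≤ γ i) : memZ (dat k n q t) γ := by
  apply memZ_inl i hi
  intro l
  by_cases hl0 : l = ⟨0, by omega⟩
  · subst hl0
    simp only [if_true]
    by_cases hi0 : i.val = 0
    · rw [if_pos hi0.symm] at h0
      rw [if_pos hi0.symm]
      exact h0
    · rw [if_neg (fun h => hi0 h.symm)] at h0
      rw [if_neg (fun h => hi0 h.symm)]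
      omega
  · have hl0' : l.val ≠ 0 := fun h => hl0 (Fin.ext h)
    rw [if_neg hl0']
    by_cases hli : l = i
    · subst hli
      rw [if_pos rfl]
      rw [if_neg hl0'] at h1
      omega
    · have hli' : l.val ≠ i.val := fun h => hli (Fin.ext h)
      rw [if_neg hli']
      have := hγ l
      omega

/-- converse of `memZ_cases`, second kind -/
lemma memZ_inr' {γ : Fin (n + 1) → ℤ} (hn : 1 ≤ n) (hγ : ∀ l, 0 ≤ γ l) (i : Fin (n + 1))
    (hi : 1 ≤ i.val ∧ i.val ≤ t)
    (h0 : (q : ℤ) + (if 1 = i.val then 1 else 0) ≤ γ ⟨1, by omega⟩)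
    (h1 : (if i.val = 1 then (q : ℤ) else 0) + 1 ≤ γ i) : memZ (dat k n q t) γ := by
  apply memZ_inr i hi
  intro l
  by_cases hl0 : l = ⟨1, by omega⟩
  · subst hl0
    simp only [if_true]
    by_cases hi0 : i.val = 1
    · rw [if_pos hi0.symm] at h0
      rw [if_pos hi0.symm]
      exact h0
    · rw [if_neg (fun h => hi0 h.symm)] at h0
      rw [if_neg (fun h => hi0 h.symm)]
      omega
  · have hl0' : l.val ≠ 1 := fun h => hl0 (Fin.ext h)
    rw [if_neg hl0']
    by_cases hli : l = i
    · subst hli
      rw [if_pos rfl]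
      rw [if_neg hl0'] at h1
      omega
    · have hli' : l.val ≠ i.val := fun h => hli (Fin.ext h)
      rw [if_neg hli']
      have := hγ l
      omega

lemma sum_ite_val_fun (f : Fin (n + 1) → ℤ) {b : ℕ} (hb : b ≤ n) :
    ∑ l : Fin (n + 1), (if l.val = b then f l else 0) = f ⟨b, by omega⟩ := by
  rw [Finset.sum_eq_single (⟨b, by omega⟩ : Fin (n + 1))]
  · simp
  · intro l _ hl
    rw [if_neg]
    intro h
    exact hl (Fin.ext h)
  · intro h
    exact absurd (Finset.mem_univ _) h

lemma sum_erase_val (f : Fin (n + 1) → ℤ) {b : ℕ} (hb : b ≤ n) :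
    ∑ l : Fin (n + 1), (if l.val = b then 0 else f l) = ∑ l, f l - f ⟨b, by omega⟩ := by
  have h : ∀ l : Fin (n + 1), (if l.val = b then 0 else f l) =
      f l - (if l.val = b then f l else 0) := by
    intro l
    split_ifs <;> ring
  rw [Finset.sum_congr rfl (fun l _ => h l), Finset.sum_sub_distrib, sum_ite_val_fun f hb]

/-- a nonnegative vector of degree one is a unit vector -/
lemma exists_one (δ : Fin (n + 1) → ℤ) (hδ : ∀ l, 0 ≤ δ l) (hs : ∑ l, δ l = 1) :
    ∃ b : ℕ, b ≤ n ∧ ∀ l : Fin (n + 1), δ l = if l.val = b then 1 else 0 := by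
  have hex : ∃ l, 1 ≤ δ l := by
    by_contra hcon
    push Not at hcon
    have : ∑ l, δ l = 0 := by
      apply Finset.sum_eq_zero
      intro l _
      have := hδ l
      have := hcon l
      omega
    omega
  obtain ⟨l₀, hl₀⟩ := hex
  refine ⟨l₀.val, by have := l₀.2; omega, ?_⟩
  have hrest : ∀ l, δ l - (if l.val = l₀.val then 1 else 0) = 0 := by
    have hnn : ∀ l, 0 ≤ δ l - (if l.val = l₀.val then 1 else 0) := by
      intro l
      by_cases h : l = l₀
      · subst h
        rw [if_pos rfl]
        omega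
      · rw [if_neg (fun h' => h (Fin.ext h'))]
        have := hδ l
        omega
    have hsum : ∑ l, (δ l - (if l.val = l₀.val then 1 else 0)) = 0 := by
      rw [Finset.sum_sub_distrib, hs, sum_ite_val (by have := l₀.2; omega)]
      norm_num
    intro l
    exact (Finset.sum_eq_zero_iff_of_nonneg (fun l _ => hnn l)).1 hsum l (Finset.mem_univ l)
  intro l
  have := hrest l
  omega

/-- a vector supported at `0` and `n`, of degree `q + 1`, with entry one at `0` -/
lemma eq_x0_xn (m : Fin (n + 1) → ℤ) (hn : 1 ≤ n) (hsum : ∑ l, m l = (q : ℤ) + 1)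
    (h0 : m ⟨0, by omega⟩ = 1) (hz : ∀ l : Fin (n + 1), l.val ≠ 0 → l.val < n → m l = 0) :
    ∀ l : Fin (n + 1), m l = (if l.val = 0 then 1 else 0) + (if l.val = n then (q : ℤ) else 0) := by
  have hpt : ∀ l : Fin (n + 1), m l = (if l.val = 0 then 1 else 0) +
      (if l.val = n then m l else 0) := by
    intro l
    by_cases hl0 : l = ⟨0, by omega⟩
    · subst hl0
      simp only [if_true]
      rw [if_neg (by omega), h0]
      norm_num
    · have hl0' : l.val ≠ 0 := fun h => hl0 (Fin.ext h)
      rw [if_neg hl0']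
      by_cases hln : l.val = n
      · rw [if_pos hln]
        norm_num
      · rw [if_neg hln, hz l hl0' (by have := l.2; omega)]
        norm_num
  have hmn : m ⟨n, by omega⟩ = q := by
    have h1 : ∑ l, m l = ∑ l : Fin (n + 1), ((if l.val = 0 then 1 else 0) +
        (if l.val = n then m l else 0)) := Finset.sum_congr rfl (fun l _ => hpt l)
    rw [Finset.sum_add_distrib, sum_ite_val (by omega), sum_ite_val_fun m le_rfl, hsum] at h1
    omega
  intro l
  rw [hpt l]
  by_cases hln : l.val = n
  · have : l = ⟨n, by omega⟩ := Fin.ext hln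
    rw [if_pos hln, if_pos hln, this, hmn]
  · rw [if_neg hln, if_neg hln]

end Groth.Agent.Lib.Helper15.HilbB
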