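import Mathlib
import Groth.Agent.Lib.Helper15.HilbT1

/-!
# Graded decomposition of `T(I)`: generators in a box, finiteness (helper15)
-/

set_option backward.isDefEq.respectTransparency.types false
set_option autoImplicit false
set_option linter.unusedSectionVars false
set_option linter.style.haveILetI false

universe u

namespace Groth.Agent.Lib.Helper15.HilbT

open MvPolynomial W4c1hilbpn Groth.Agent.Lib.Helper8.Hilb

variable {k : Type u} [Field k] {n : ℕ} {I : Ideal (MvPolynomial (Fin n) k)}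

/-- the finite set of exponents outside the ideal -/
noncomputable def nonexps (hI : IsMonomial I) [Module.Finite k (MvPolynomial (Fin n) k ⧸ I)] :
    Finset (Fin n →₀ ℕ) := (finite_compl_exps hI).toFinset

lemma mem_nonexps (hI : IsMonomial I) [Module.Finite k (MvPolynomial (Fin n) k ⧸ I)]
    (γ : Fin n →₀ ℕ) : γ ∈ nonexps hI ↔ γ ∉ exps I := by
  simp [nonexps]

/-- a strict bound for the coordinates of the exponents outside the ideal -/
noncomputable def bnd (hI : IsMonomial I) [Module.Finite k (MvPolynomial (Fin n) k ⧸ I)] : ℕ :=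
  (nonexps hI).sup (fun γ => Finset.univ.sup (fun i => γ i)) + 1

lemma lt_bnd (hI : IsMonomial I) [Module.Finite k (MvPolynomial (Fin n) k ⧸ I)]
    {γ : Fin n →₀ ℕ} (hγ : γ ∉ exps I) (i : Fin n) : γ i < bnd hI := by
  have h1 : γ i ≤ Finset.univ.sup (fun i => γ i) :=
    Finset.le_sup (f := fun i => γ i) (Finset.mem_univ i)
  have h2 : Finset.univ.sup (fun i => γ i) ≤
      (nonexps hI).sup (fun γ => Finset.univ.sup (fun i => γ i)) :=
    Finset.le_sup (f := fun γ : Fin n →₀ ℕ => Finset.univ.sup (fun i => γ i))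
      ((mem_nonexps hI γ).2 hγ)
  unfold bnd
  omega

/-- truncation of an exponent to the box -/
noncomputable def trunc (N : ℕ) (β : Fin n →₀ ℕ) : Fin n →₀ ℕ :=
  Finsupp.equivFunOnFinite.symm fun i => min (β i) N

lemma trunc_apply (N : ℕ) (β : Fin n →₀ ℕ) (i : Fin n) : trunc N β i = min (β i) N := rfl

lemma trunc_le (N : ℕ) (β : Fin n →₀ ℕ) : trunc N β ≤ β := by
  intro i
  rw [trunc_apply]
  exact min_le_left _ _

lemma trunc_mem (hI : IsMonomial I) [Module.Finite k (MvPolynomial (Fin n) k ⧸ I)]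
    {β : Fin n →₀ ℕ} (hβ : β ∈ exps I) : trunc (bnd hI) β ∈ exps I := by
  by_contra h
  have h1 : trunc (bnd hI) β = β := by
    ext i
    have := lt_bnd hI h i
    rw [trunc_apply] at this ⊢
    omega
  rw [h1] at h
  exact h hβ

/-- the box of small exponents in the ideal -/
noncomputable def boxB (hI : IsMonomial I) [Module.Finite k (MvPolynomial (Fin n) k ⧸ I)] :
    Finset (Fin n →₀ ℕ) := by
  classical
  exact ((Fintype.piFinset (fun _ : Fin n => Finset.range (bnd hI + 1))).image
    (fun f => Finsupp.equivFunOnFinite.symm f)).filter (fun β => β ∈ exps I)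

lemma mem_boxB (hI : IsMonomial I) [Module.Finite k (MvPolynomial (Fin n) k ⧸ I)]
    (β : Fin n →₀ ℕ) : β ∈ boxB hI ↔ β ∈ exps I ∧ ∀ i, β i ≤ bnd hI := by
  classical
  unfold boxB
  rw [Finset.mem_filter, Finset.mem_image]
  constructor
  · rintro ⟨⟨f, hf, rfl⟩, h2⟩
    refine ⟨h2, fun i => ?_⟩
    rw [Fintype.mem_piFinset] at hf
    have := hf i
    rw [Finset.mem_range] at this
    change f i ≤ _
    omega
  · rintro ⟨h1, h2⟩
    refine ⟨⟨fun i => β i, ?_, ?_⟩, h1⟩
    · rw [Fintype.mem_piFinset]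
      intro i
      rw [Finset.mem_range]
      have := h2 i
      omega
    · ext i
      rfl

lemma trunc_mem_boxB (hI : IsMonomial I) [Module.Finite k (MvPolynomial (Fin n) k ⧸ I)]
    {β : Fin n →₀ ℕ} (hβ : β ∈ exps I) : trunc (bnd hI) β ∈ boxB hI := by
  rw [mem_boxB]
  refine ⟨trunc_mem hI hβ, fun i => ?_⟩
  rw [trunc_apply]
  exact min_le_right _ _

/-- a tangent vector vanishing on the monomials of the box is zero -/
lemma eq_zero_of_boxB (hI : IsMonomial I) [Module.Finite k (MvPolynomial (Fin n) k ⧸ I)]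
    (φ : Tgt I)
    (h : ∀ (β : Fin n →₀ ℕ) (hβ : monomial β (1 : k) ∈ I), β ∈ boxB hI →
      φ ⟨monomial β 1, hβ⟩ = 0) : φ = 0 := by
  apply eq_zero_of_monomials hI
  intro β hβ
  have hβ₀ : trunc (bnd hI) β ∈ exps I := trunc_mem hI hβ
  have h1 : (⟨monomial β 1, hβ⟩ : ↥I) =
      (monomial (β - trunc (bnd hI) β) (1 : k)) • (⟨monomial (trunc (bnd hI) β) 1, hβ₀⟩ : ↥I) := by
    apply Subtype.ext
    change monomial β (1 : k) = monomial (β - trunc (bnd hI) β) (1 : k) *
      monomial (trunc (bnd hI) β) 1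
    rw [monomial_mul, one_mul, tsub_add_cancel_of_le (trunc_le _ β)]
  rw [h1, map_smul, h _ hβ₀ (trunc_mem_boxB hI hβ), smul_zero]

/-- evaluation on the box -/
noncomputable def evB (hI : IsMonomial I) [Module.Finite k (MvPolynomial (Fin n) k ⧸ I)] :
    Tgt I →ₗ[k] (↥(boxB hI) → (MvPolynomial (Fin n) k ⧸ I)) where
  toFun φ β := φ ⟨monomial β.1 1, ((mem_boxB hI β.1).1 β.2).1⟩
  map_add' φ ψ := by
    funext β
    rfl
  map_smul' c φ := by
    funext β
    rfl

lemma evB_injective (hI : IsMonomial I) [Module.Finite k (MvPolynomial (Fin n) k ⧸ I)] :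
    Function.Injective (evB hI) := by
  rw [injective_iff_map_eq_zero]
  intro φ hφ
  apply eq_zero_of_boxB hI
  intro β hβ hβB
  exact congrFun hφ ⟨β, hβB⟩

theorem finite_Tgt (hI : IsMonomial I) [Module.Finite k (MvPolynomial (Fin n) k ⧸ I)] :
    Module.Finite k (Tgt I) :=
  Module.Finite.of_injective (evB hI) (evB_injective hI)

/-- the finite set of possibly nonzero multidegrees -/
noncomputable def degs (hI : IsMonomial I) [Module.Finite k (MvPolynomial (Fin n) k ⧸ I)] :
    Finset (Fin n → ℤ) := by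
  classical
  exact Finset.image₂ (fun γ β : Fin n →₀ ℕ => fun i => (γ i : ℤ) - (β i : ℤ))
    (nonexps hI) (boxB hI)

lemma mem_degs (hI : IsMonomial I) [Module.Finite k (MvPolynomial (Fin n) k ⧸ I)]
    {γ β : Fin n →₀ ℕ} (hγ : γ ∉ exps I) (hβ : β ∈ boxB hI) :
    (fun i => (γ i : ℤ) - (β i : ℤ)) ∈ degs hI := by
  classical
  unfold degs
  rw [Finset.mem_image₂]
  exact ⟨γ, (mem_nonexps hI γ).2 hγ, β, hβ, rfl⟩

lemma tPiece_eq_bot_of_not_mem_degs (hI : IsMonomial I)
    [Module.Finite k (MvPolynomial (Fin n) k ⧸ I)] {α : Fin n → ℤ} (hα : α ∉ degs hI) :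
    tPiece I α = ⊥ := by
  rw [eq_bot_iff]
  intro φ hφ
  rw [Submodule.mem_bot]
  apply eq_zero_of_boxB hI
  intro β hβ hβB
  by_cases hneg : ∃ i, (β i : ℤ) + α i < 0
  · exact (hφ β hβ).2 hneg
  · push Not at hneg
    obtain ⟨c, hc⟩ := Submodule.mem_span_singleton.1 ((hφ β hβ).1 hneg)
    by_cases hmem : shift β α ∈ exps I
    · rw [← hc, mk_monomial_eq_zero hmem, smul_zero]
    · exfalso
      apply hα
      have := mem_degs hI hmem hβB
      convert this using 1
      funext i
      rw [shift_eq, toN_apply, Int.toNat_of_nonneg (hneg i)]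
      ring

end Groth.Agent.Lib.Helper15.HilbT
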