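import Mathlib
import Groth.Agent.Lib.Helper15.HilbT2

/-!
# Graded decomposition of `T(I)`: dimension of spans of graded pieces (helper15)
-/

set_option backward.isDefEq.respectTransparency.types false
set_option autoImplicit false
set_option linter.unusedSectionVars false
set_option linter.style.haveILetI false

universe u

namespace Groth.Agent.Lib.Helper15.HilbT

open MvPolynomial W4c1hilbpn Groth.Agent.Lib.Helper8.Hilb

section abstract

variable {k : Type*} [Field k] {V : Type*} [AddCommGroup V] [Module k V] [Module.Finite k V]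
  {ι : Type*}

lemma finrank_biSup_finset (p : ι → Submodule k V) (hp : iSupIndep p) (s : Finset ι) :
    Module.finrank k ↥(⨆ i ∈ s, p i) = ∑ i ∈ s, Module.finrank k ↥(p i) := by
  classical
  induction s using Finset.induction_on with
  | empty => simp
  | insert a s ha ih =>
    rw [Finset.iSup_insert, Finset.sum_insert ha, ← ih]
    have hdis : Disjoint (p a) (⨆ i ∈ s, p i) := by
      have := hp.disjoint_biSup (x := a) (y := (s : Set ι)) (by simpa using ha)
      simpa using this
    have h1 := Submodule.finrank_sup_add_finrank_inf_eq (p a) (⨆ i ∈ s, p i)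
    rw [disjoint_iff.1 hdis] at h1
    simpa using h1

lemma finrank_iSup_subtype (p : ι → Submodule k V) (hp : iSupIndep p) (P : ι → Prop)
    (s : Finset ι) (h1 : ∀ i ∈ s, P i) (h2 : ∀ i, P i → i ∉ s → p i = ⊥) :
    Module.finrank k ↥(⨆ i : {i // P i}, p i.1) = ∑ i ∈ s, Module.finrank k ↥(p i) := by
  have : (⨆ i : {i // P i}, p i.1) = ⨆ i ∈ s, p i := by
    apply le_antisymm
    · apply iSup_le
      rintro ⟨i, hi⟩
      by_cases his : i ∈ s
      · exact le_biSup p his
      · rw [h2 i hi his]
        exact bot_le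
    · apply iSup₂_le
      intro i hi
      exact le_iSup (fun i : {i // P i} => p i.1) ⟨i, h1 i hi⟩
  rw [this, finrank_biSup_finset p hp s]

end abstract

variable {k : Type u} [Field k] {n : ℕ} {I : Ideal (MvPolynomial (Fin n) k)}

/-- the dimension of the span of the graded pieces with multidegree in `P` -/
theorem finrank_iSup_tPiece (hI : IsMonomial I) [Module.Finite k (MvPolynomial (Fin n) k ⧸ I)]
    (P : (Fin n → ℤ) → Prop) (s : Finset (Fin n → ℤ)) (h1 : ∀ α ∈ s, P α)
    (h2 : ∀ α, P α → α ∉ s → tPiece I α = ⊥) :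
    Module.finrank k ↥(⨆ α : {α // P α}, tPiece I α.1) =
      ∑ α ∈ s, Module.finrank k ↥(tPiece I α) := by
  haveI := finite_Tgt hI
  exact finrank_iSup_subtype (tPiece I) (tPiece_indep hI) P s h1 h2

open Classical in
theorem finrank_iSup_tPiece_degs (hI : IsMonomial I)
    [Module.Finite k (MvPolynomial (Fin n) k ⧸ I)] (P : (Fin n → ℤ) → Prop) :
    Module.finrank k ↥(⨆ α : {α // P α}, tPiece I α.1) =
      ∑ α ∈ (degs hI).filter P, Module.finrank k ↥(tPiece I α) := by
  apply finrank_iSup_tPiece hI
  · intro α hα
    exact (Finset.mem_filter.1 hα).2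
  · intro α hα hns
    apply tPiece_eq_bot_of_not_mem_degs hI
    intro h
    exact hns (Finset.mem_filter.2 ⟨h, hα⟩)

end Groth.Agent.Lib.Helper15.HilbT
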