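import Mathlib
import Groth.Agent.Lib.Helper15.HilbT3

/-!
# Graded decomposition of `T(I)`: the graded pieces span (helper15)
-/

set_option backward.isDefEq.respectTransparency.types false
set_option autoImplicit false
set_option linter.unusedSectionVars false
set_option linter.style.haveILetI false

universe u

namespace Groth.Agent.Lib.Helper15.HilbT

open MvPolynomial W4c1hilbpn Groth.Agent.Lib.Helper8.Hilb

variable {k : Type u} [Field k] {n : ℕ} {I : Ideal (MvPolynomial (Fin n) k)}

lemma X_smul_mk' (i : Fin n) (f : MvPolynomial (Fin n) k) :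
    (X i : MvPolynomial (Fin n) k) • Ideal.Quotient.mk I f = Ideal.Quotient.mk I (X i * f) := rfl

lemma cf_X_smul (hI : IsMonomial I) (γ γ' : Fin n →₀ ℕ) (hγ : γ ∉ exps I) (hγ' : γ' ∉ exps I)
    (i : Fin n) (h : γ = γ' + Finsupp.single i 1) (q : MvPolynomial (Fin n) k ⧸ I) :
    cf hI γ hγ ((X i : MvPolynomial (Fin n) k) • q) = cf hI γ' hγ' q := by
  obtain ⟨f, rfl⟩ := Ideal.Quotient.mk_surjective q
  rw [X_smul_mk', cf_mk, cf_mk]
  subst h
  rw [add_comm, coeff_X_mul]

lemma cf_X_smul_zero (hI : IsMonomial I) (γ : Fin n →₀ ℕ) (hγ : γ ∉ exps I)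
    (i : Fin n) (h : γ i = 0) (q : MvPolynomial (Fin n) k ⧸ I) :
    cf hI γ hγ ((X i : MvPolynomial (Fin n) k) • q) = 0 := by
  obtain ⟨f, rfl⟩ := Ideal.Quotient.mk_surjective q
  rw [X_smul_mk', cf_mk, coeff_X_mul', if_neg]
  rw [Finsupp.mem_support_iff]
  exact fun h' => h' h

variable {α : Fin n → ℤ}

/-- `val` is constant along unit steps, for every tangent vector -/
lemma val_step' (hI : IsMonomial I) (φ : Tgt I) (u w : ↥(region I α))
    (i : Fin n) (h : w.1 = u.1 + eZ i) : val hI φ u = val hI φ w := by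
  by_cases hw : ∀ j, 0 ≤ w.1 j
  · by_cases hu : ∀ j, 0 ≤ u.1 j
    · rw [val_of_nonneg hI φ w hw, val_of_nonneg hI φ u hu, mono_add_eZ u w i h, map_smul]
      symm
      apply cf_X_smul
      rw [h, toN_add_eZ u.1 hu i]
    · rw [val_of_neg hI φ u hu, val_of_nonneg hI φ w hw, mono_add_eZ u w i h, map_smul,
        cf_X_smul_zero]
      -- the `i`-th coordinate of `w` vanishes
      have hui : u.1 i < 0 := by
        by_contra hcon
        push Not at hcon
        apply hu
        intro j
        by_cases hji : j = i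
        · subst hji; exact hcon
        · have := hw j
          rw [h] at this
          simpa [eZ_ne hji] using this
      have hwi := hw i
      rw [h] at hwi
      simp only [Pi.add_apply, eZ_self] at hwi
      rw [toN_apply, h]
      simp only [Pi.add_apply, eZ_self]
      omega
  · have hu : ¬ ∀ j, 0 ≤ u.1 j := by
      intro hu
      apply hw
      intro j
      rw [h]
      simp only [Pi.add_apply]
      by_cases hji : j = i
      · subst hji; rw [eZ_self]; have := hu j; omega
      · rw [eZ_ne hji, add_zero]; exact hu j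
    rw [val_of_neg hI φ u hu, val_of_neg hI φ w hw]

open Classical in
/-- the coefficient function of the `α`-component of a tangent vector -/
noncomputable def cfun (hI : IsMonomial I) (φ : Tgt I) (α : Fin n → ℤ) : (Fin n → ℤ) → k :=
  fun γ => if h : γ ∈ region I α then val hI φ ⟨γ, h⟩ else 0

lemma cfun_apply (hI : IsMonomial I) (φ : Tgt I) (v : ↥(region I α)) :
    cfun hI φ α v.1 = val hI φ v := by
  unfold cfun
  rw [dif_pos v.2]

lemma cfun_Ha (hI : IsMonomial I) (φ : Tgt I) (u w : ↥(region I α)) (i : Fin n)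
    (h : w.1 = u.1 + eZ i) : cfun hI φ α u.1 = cfun hI φ α w.1 := by
  rw [cfun_apply, cfun_apply]
  exact val_step' hI φ u w i h

lemma cfun_Hb (hI : IsMonomial I) (φ : Tgt I) (v : ↥(region I α)) (h : ¬ ∀ i, 0 ≤ v.1 i) :
    cfun hI φ α v.1 = 0 := by
  rw [cfun_apply]
  exact val_of_neg hI φ v h

/-- the `α`-component of a tangent vector -/
noncomputable def proj (hI : IsMonomial I) (φ : Tgt I) (α : Fin n → ℤ) : Tgt I :=
  mkTgt hI (cfun_Ha hI φ) (cfun_Hb (α := α) hI φ)

lemma proj_mem (hI : IsMonomial I) (φ : Tgt I) (α : Fin n → ℤ) : proj hI φ α ∈ tPiece I α :=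
  mkTgt_mem hI _ _

open Classical in
/-- total version of the coefficient functionals -/
noncomputable def cfT (hI : IsMonomial I) (γ : Fin n →₀ ℕ) : (MvPolynomial (Fin n) k ⧸ I) →ₗ[k] k :=
  if h : γ ∉ exps I then cf hI γ h else 0

lemma cfT_of_not_mem (hI : IsMonomial I) {γ : Fin n →₀ ℕ} (h : γ ∉ exps I) :
    cfT hI γ = cf hI γ h := by
  unfold cfT
  rw [dif_pos h]

open Classical in
lemma proj_monomial (hI : IsMonomial I) (φ : Tgt I) (α : Fin n → ℤ) (β : Fin n →₀ ℕ)
    (hβ : monomial β (1 : k) ∈ I) :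
    proj hI φ α ⟨monomial β 1, hβ⟩ =
      if (∀ i, 0 ≤ (β i : ℤ) + α i) ∧ shift β α ∉ exps I then
        cfT hI (shift β α) (φ ⟨monomial β 1, hβ⟩) • Ideal.Quotient.mk I (monomial (shift β α) (1 : k))
      else 0 := by
  unfold proj
  rw [mkTgt_monomial]
  unfold vv
  by_cases hnn : ∀ i, 0 ≤ (β i : ℤ) + α i
  · rw [if_pos (show ∀ i, 0 ≤ sh α β i from hnn)]
    by_cases hout : shift β α ∈ exps I
    · rw [if_neg (fun h => h.2 hout), mk_monomial_eq_zero hout, smul_zero]
    · rw [if_pos ⟨hnn, hout⟩]
      congr 1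
      let v : ↥(region I α) := ⟨fun i => (β i : ℤ) + α i, shift_mem_region hβ hout⟩
      have hv : sh α β = v.1 := rfl
      rw [hv, cfun_apply, val_of_nonneg hI φ v hnn, cfT_of_not_mem hI hout]
      have h2 : mono v = ⟨monomial β 1, hβ⟩ := by
        apply Subtype.ext
        change monomial (back α v.1) (1 : k) = monomial β 1
        rw [back_shift]
      rw [h2]
      rfl
  · rw [if_neg (show ¬ ∀ i, 0 ≤ sh α β i from hnn), if_neg (fun h => hnn h.1)]

/-- expansion of a class in the monomial basis of the quotient -/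
lemma expand (hI : IsMonomial I) [Module.Finite k (MvPolynomial (Fin n) k ⧸ I)]
    (q : MvPolynomial (Fin n) k ⧸ I) :
    q = ∑ γ ∈ nonexps hI, cfT hI γ q • Ideal.Quotient.mk I (monomial γ (1 : k)) := by
  classical
  obtain ⟨f, rfl⟩ := Ideal.Quotient.mk_surjective q
  have h1 : ∀ γ ∈ nonexps hI, cfT hI γ (Ideal.Quotient.mk I f) = coeff γ f := by
    intro γ hγ
    rw [cfT_of_not_mem hI ((mem_nonexps hI γ).1 hγ), cf_mk]
  rw [Finset.sum_congr rfl (fun γ hγ => by rw [h1 γ hγ])]
  conv_lhs => rw [← MvPolynomial.support_sum_monomial_coeff f]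
  rw [map_sum]
  have h2 : ∀ γ : Fin n →₀ ℕ, Ideal.Quotient.mk I (monomial γ (coeff γ f)) =
      coeff γ f • Ideal.Quotient.mk I (monomial γ (1 : k)) := by
    intro γ
    have : monomial γ (coeff γ f) = coeff γ f • monomial γ (1 : k) := by
      rw [smul_monomial, smul_eq_mul, mul_one]
    rw [this]
    rfl
  simp_rw [h2]
  rw [← Finset.sum_filter_add_sum_filter_not f.support (fun γ => γ ∈ exps I)]
  have h3 : ∑ γ ∈ f.support.filter (fun γ => γ ∈ exps I),
      coeff γ f • Ideal.Quotient.mk I (monomial γ (1 : k)) = 0 := by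
    apply Finset.sum_eq_zero
    intro γ hγ
    rw [mk_monomial_eq_zero (Finset.mem_filter.1 hγ).2, smul_zero]
  rw [h3, zero_add]
  apply Finset.sum_subset
  · intro γ hγ
    rw [mem_nonexps]
    exact (Finset.mem_filter.1 hγ).2
  · intro γ hγ hns
    have : coeff γ f = 0 := by
      by_contra hne
      apply hns
      rw [Finset.mem_filter]
      exact ⟨mem_support_iff.2 hne, (mem_nonexps hI γ).1 hγ⟩
    rw [this, zero_smul]

/-- a tangent vector is the sum of its graded components -/
theorem sum_proj (hI : IsMonomial I) [Module.Finite k (MvPolynomial (Fin n) k ⧸ I)]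
    (φ : Tgt I) : φ = ∑ α ∈ degs hI, proj hI φ α := by
  classical
  rw [← sub_eq_zero]
  apply eq_zero_of_boxB hI
  intro β hβ hβB
  rw [LinearMap.sub_apply, LinearMap.sum_apply, sub_eq_zero]
  simp_rw [proj_monomial]
  conv_lhs => rw [expand hI (φ ⟨monomial β 1, hβ⟩)]
  -- rewrite each term on the right as a sum over `nonexps`
  have h1 : ∀ α ∈ degs hI,
      (if (∀ i, 0 ≤ (β i : ℤ) + α i) ∧ shift β α ∉ exps I then
        cfT hI (shift β α) (φ ⟨monomial β 1, hβ⟩) •
          Ideal.Quotient.mk I (monomial (shift β α) (1 : k)) else 0) =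
      ∑ γ ∈ nonexps hI, if (fun i => (γ i : ℤ) - (β i : ℤ)) = α then
        cfT hI γ (φ ⟨monomial β 1, hβ⟩) • Ideal.Quotient.mk I (monomial γ (1 : k)) else 0 := by
    intro α _
    split_ifs with hc
    · rw [Finset.sum_eq_single (shift β α)]
      · rw [if_pos]
        funext i
        rw [shift_eq, toN_apply, Int.toNat_of_nonneg (hc.1 i)]
        ring
      · intro γ _ hne
        rw [if_neg]
        intro h
        apply hne
        ext i
        have := congrFun h i
        rw [shift_eq, toN_apply]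
        have h0 := hc.1 i
        omega
      · intro h
        exact absurd ((mem_nonexps hI _).2 hc.2) h
    · symm
      apply Finset.sum_eq_zero
      intro γ hγ
      rw [if_neg]
      intro h
      apply hc
      have hγi : ∀ i, (β i : ℤ) + α i = (γ i : ℤ) := by
        intro i
        have := congrFun h i
        omega
      refine ⟨fun i => by rw [hγi i]; positivity, ?_⟩
      have : shift β α = γ := by
        ext i
        rw [shift_eq, toN_apply, hγi i]
        simp
      rw [this]
      exact (mem_nonexps hI γ).1 hγ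
  rw [Finset.sum_congr rfl h1, Finset.sum_comm]
  apply Finset.sum_congr rfl
  intro γ hγ
  rw [Finset.sum_ite_eq, if_pos (mem_degs hI ((mem_nonexps hI γ).1 hγ) hβB)]

theorem iSup_tPiece_eq_top (hI : IsMonomial I) [Module.Finite k (MvPolynomial (Fin n) k ⧸ I)] :
    (⨆ α, tPiece I α) = ⊤ := by
  rw [eq_top_iff]
  intro φ _
  rw [sum_proj hI φ]
  apply Submodule.sum_mem
  intro α _
  exact Submodule.mem_iSup_of_mem α (proj_mem hI φ α)

end Groth.Agent.Lib.Helper15.HilbT
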