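import Mathlib
import Groth.Agent.Lib.Helper15.HilbT4

/-!
# Vanishing of graded pieces of `T(I)` of constant sign (helper15)
-/

set_option backward.isDefEq.respectTransparency.types false
set_option autoImplicit false
set_option linter.unusedSectionVars false
set_option linter.style.haveILetI false

universe u

namespace Groth.Agent.Lib.Helper15.HilbT

open MvPolynomial W4c1hilbpn Groth.Agent.Lib.Helper8.Hilb

variable {k : Type u} [Field k] {n : ℕ} {I : Ideal (MvPolynomial (Fin n) k)}

theorem tPiece_eq_bot_of_nonneg (hI : IsMonomial I) (α : Fin n → ℤ) (hα : ∀ i, 0 ≤ α i) :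
    tPiece I α = ⊥ := by
  rw [eq_bot_iff]
  intro φ hφ
  rw [Submodule.mem_bot]
  apply eq_zero_of_monomials hI
  intro β hβ
  have hnn : ∀ i, 0 ≤ (β i : ℤ) + α i := fun i => by have := hα i; positivity
  obtain ⟨c, hc⟩ := Submodule.mem_span_singleton.1 ((hφ β hβ).1 hnn)
  have hmem : shift β α ∈ exps I := by
    have : shift β α = β + toN α := by
      ext i
      rw [shift_eq, toN_apply, Finsupp.coe_add, Pi.add_apply, toN_apply]
      have := hα i
      omega
    rw [this]
    exact exps_add I hβ _
  rw [← hc, mk_monomial_eq_zero hmem, smul_zero]

variable {α : Fin n → ℤ}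

/-- moving up along a coordinate direction inside the region -/
lemma add_nsmul_eZ_mem_region (v : ↥(region I α)) (i₀ : Fin n) (m : ℕ)
    (hm : ¬((∀ i, 0 ≤ (v.1 + (m : ℤ) • eZ i₀) i) ∧ toN (v.1 + (m : ℤ) • eZ i₀) ∈ exps I)) :
    v.1 + (m : ℤ) • eZ i₀ ∈ region I α := by
  rw [mem_region_iff]
  refine ⟨fun i => ?_, ?_, hm⟩
  · have h1 := sub_nonneg_of_mem v i
    simp only [Pi.add_apply, Pi.smul_apply, smul_eq_mul]
    by_cases hi : i = i₀
    · subst hi
      rw [eZ_self]
      have : (0 : ℤ) ≤ m := by positivity
      omega
    · rw [eZ_ne hi]
      omega
  · have : back α (v.1 + (m : ℤ) • eZ i₀) = back α v.1 + Finsupp.single i₀ m := by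
      ext i
      simp only [back, toN_apply, Pi.add_apply, Pi.smul_apply, smul_eq_mul, Finsupp.coe_add]
      have h1 := sub_nonneg_of_mem v i
      by_cases hi : i = i₀
      · subst hi
        rw [eZ_self, Finsupp.single_eq_same]
        omega
      · rw [eZ_ne hi, Finsupp.single_eq_of_ne hi]
        omega
    rw [this]
    exact exps_add I (back_mem v) _

/-- a graded piece vanishes if its multidegree has two negative entries and no positive one -/
theorem tPiece_eq_bot_of_two_neg (hI : IsMonomial I) [Module.Finite k (MvPolynomial (Fin n) k ⧸ I)]
    (α : Fin n → ℤ) (i₀ i₁ : Fin n) (h01 : i₀ ≠ i₁) (h0 : α i₀ < 0) (h1 : α i₁ < 0)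
    (hα : ∀ i, α i ≤ 0) : tPiece I α = ⊥ := by
  classical
  rw [eq_bot_iff]
  intro φ hφ
  rw [Submodule.mem_bot]
  apply eq_zero_of_val hI hφ
  have key : ∀ (m : ℕ) (v : ↥(region I α)), v.1 i₁ < m → val hI φ v = 0 := by
    intro m
    induction m with
    | zero =>
      intro v hv
      apply val_of_neg
      intro h
      have := h i₁
      simp only [Nat.cast_zero] at hv
      omega
    | succ m ih =>
      intro v hv
      by_cases hnn : ∀ i, 0 ≤ v.1 i
      · -- walk up along `i₀`
        have hex : ∃ j : ℕ, toN (v.1 + (j : ℤ) • eZ i₀) ∈ exps I := by
          refine ⟨bnd hI, ?_⟩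
          by_contra hcon
          have := lt_bnd hI hcon i₀
          rw [toN_apply] at this
          simp only [Pi.add_apply, Pi.smul_apply, smul_eq_mul, eZ_self] at this
          have h2 := hnn i₀
          omega
        let j₀ := Nat.find hex
        have hj₀ : toN (v.1 + (j₀ : ℤ) • eZ i₀) ∈ exps I := Nat.find_spec hex
        have hmin : ∀ j < j₀, toN (v.1 + (j : ℤ) • eZ i₀) ∉ exps I := fun j hj => Nat.find_min hex hj
        have hj₀pos : j₀ ≠ 0 := by
          intro h
          rw [h] at hj₀
          simp only [Nat.cast_zero, zero_smul, add_zero] at hj₀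
          exact toN_not_mem v hnn hj₀
        have hmem : ∀ j < j₀, v.1 + (j : ℤ) • eZ i₀ ∈ region I α := by
          intro j hj
          apply add_nsmul_eZ_mem_region
          intro h
          exact hmin j hj h.2
        have hval : ∀ (j : ℕ) (hj : j < j₀), val hI φ ⟨_, hmem j hj⟩ = val hI φ v := by
          intro j
          induction j with
          | zero =>
            intro hj
            congr 1
            apply Subtype.ext
            simp
          | succ j ihj =>
            intro hj
            rw [← ihj (by omega)]
            symm
            apply val_step hI hφ _ _ i₀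
            simp only [Nat.cast_add, Nat.cast_one, add_smul, one_smul]
            rw [add_assoc]
        -- the last point before entering the ideal
        obtain ⟨j₁, hj₁⟩ : ∃ j₁, j₀ = j₁ + 1 := Nat.exists_eq_succ_of_ne_zero hj₀pos
        have hj₁lt : j₁ < j₀ := by omega
        let δ : ↥(region I α) := ⟨_, hmem j₁ hj₁lt⟩
        have hδnn : ∀ i, 0 ≤ δ.1 i := by
          intro i
          change 0 ≤ (v.1 + (j₁ : ℤ) • eZ i₀) i
          simp only [Pi.add_apply, Pi.smul_apply, smul_eq_mul]
          have := hnn i
          by_cases hi : i = i₀
          · subst hi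
            rw [eZ_self]
            have : (0 : ℤ) ≤ j₁ := by positivity
            omega
          · rw [eZ_ne hi]
            omega
        have hδ1 : δ.1 i₁ = v.1 i₁ := by
          change (v.1 + (j₁ : ℤ) • eZ i₀) i₁ = _
          simp [eZ_ne (Ne.symm h01)]
        have hδe : toN (δ.1 + eZ i₀) ∈ exps I := by
          have : δ.1 + eZ i₀ = v.1 + (j₀ : ℤ) • eZ i₀ := by
            change v.1 + (j₁ : ℤ) • eZ i₀ + eZ i₀ = _
            rw [hj₁]
            simp only [Nat.cast_add, Nat.cast_one, add_smul, one_smul]
            rw [add_assoc]
          rw [this]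
          exact hj₀
        -- one step down along `i₁`
        have hδ' : δ.1 - eZ i₁ ∈ region I α := by
          rw [mem_region_iff]
          refine ⟨fun i => ?_, ?_, ?_⟩
          · have h2 := sub_nonneg_of_mem δ i
            simp only [Pi.sub_apply]
            by_cases hi : i = i₁
            · subst hi
              rw [eZ_self]
              have := hδnn i
              omega
            · rw [eZ_ne hi]
              omega
          · have : back α (δ.1 - eZ i₁) = toN (δ.1 + eZ i₀) +
                toN (fun i => δ.1 i - eZ i₁ i - α i - (δ.1 i + eZ i₀ i)) := by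
              ext i
              simp only [back, toN_apply, Pi.sub_apply, Pi.add_apply, Finsupp.coe_add]
              have h2 := hδnn i
              have h3 := hα i
              by_cases hi1 : i = i₁
              · subst hi1
                rw [eZ_self, eZ_ne h01.symm]
                omega
              · rw [eZ_ne hi1]
                by_cases hi0 : i = i₀
                · subst hi0
                  rw [eZ_self]
                  omega
                · rw [eZ_ne hi0]
                  omega
            rw [this]
            exact exps_add I hδe _
          · rintro ⟨h2, h3⟩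
            apply toN_not_mem δ hδnn
            have : toN δ.1 = toN (δ.1 - eZ i₁) + Finsupp.single i₁ 1 := by
              ext i
              simp only [toN_apply, Pi.sub_apply, Finsupp.coe_add, Pi.add_apply]
              have h4 := h2 i
              simp only [Pi.sub_apply] at h4
              by_cases hi1 : i = i₁
              · subst hi1
                rw [eZ_self, Finsupp.single_eq_same] at *
                omega
              · rw [eZ_ne hi1, Finsupp.single_eq_of_ne hi1] at *
                omega
            rw [this]
            exact exps_add I h3 _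
        let δ' : ↥(region I α) := ⟨_, hδ'⟩
        have hstep : val hI φ δ' = val hI φ δ := by
          apply val_step hI hφ _ _ i₁
          change δ.1 = δ.1 - eZ i₁ + eZ i₁
          simp
        have hδ'1 : δ'.1 i₁ < m := by
          change (δ.1 - eZ i₁) i₁ < m
          simp only [Pi.sub_apply, eZ_self]
          rw [hδ1]
          push_cast at hv
          omega
        rw [← hval j₁ hj₁lt]
        change val hI φ δ = 0
        rw [← hstep]
        exact ih δ' hδ'1
      · exact val_of_neg hI φ v hnn
  intro v _
  exact key (v.1 i₁ + 1).toNat v (by omega)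

end Groth.Agent.Lib.Helper15.HilbT
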