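import Mathlib
import Groth.Agent.Lib.Helper15.HilbT5

/-!
# Sign patterns of the graded pieces of `T(I)` (helper15)
-/

set_option backward.isDefEq.respectTransparency.types false
set_option autoImplicit false
set_option linter.unusedSectionVars false
set_option linter.style.haveILetI false

universe u

namespace Groth.Agent.Lib.Helper15.HilbT

open MvPolynomial W4c1hilbpn Groth.Agent.Lib.Helper8.Hilb

variable {k : Type u} [Field k] {n : ℕ} {I : Ideal (MvPolynomial (Fin n) k)}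

theorem tPiece_eq_bot_of_const_sign (hn : 2 ≤ n) (hI : IsMonomial I)
    [Module.Finite k (MvPolynomial (Fin n) k ⧸ I)] (α : Fin n → ℤ)
    (h : (∀ i, 0 ≤ α i) ∨ (∀ i, α i < 0)) : tPiece I α = ⊥ := by
  rcases h with h | h
  · exact tPiece_eq_bot_of_nonneg hI α h
  · exact tPiece_eq_bot_of_two_neg hI α ⟨0, by omega⟩ ⟨1, by omega⟩
      (by intro h; simpa using congrArg Fin.val h) (h _) (h _) (fun i => (h i).le)

lemma tPiece_le_sigPiece (α : Fin n → ℤ) : tPiece I α ≤ sigPiece I {i | α i < 0} := by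
  unfold sigPiece
  exact le_iSup (fun α' : {α' : Fin n → ℤ // ∀ i, α' i < 0 ↔ i ∈ {i | α i < 0}} => tPiece I α'.1)
    ⟨α, fun i => Iff.rfl⟩

theorem iSup_sigPiece_eq_top (hn : 2 ≤ n) (hI : IsMonomial I)
    [Module.Finite k (MvPolynomial (Fin n) k ⧸ I)] :
    (⨆ N : {N : Set (Fin n) // N.Nonempty ∧ N ≠ Set.univ}, sigPiece I N.1) = ⊤ := by
  rw [eq_top_iff, ← iSup_tPiece_eq_top hI]
  apply iSup_le
  intro α
  by_cases h : (∀ i, 0 ≤ α i) ∨ (∀ i, α i < 0)
  · rw [tPiece_eq_bot_of_const_sign hn hI α h]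
    exact bot_le
  · push Not at h
    obtain ⟨⟨i, hi⟩, ⟨j, hj⟩⟩ := h
    refine le_trans (tPiece_le_sigPiece α) ?_
    refine le_iSup (fun N : {N : Set (Fin n) // N.Nonempty ∧ N ≠ Set.univ} => sigPiece I N.1)
      ⟨{i | α i < 0}, ⟨i, hi⟩, ?_⟩
    intro hu
    have : j ∈ ({i | α i < 0} : Set (Fin n)) := by
      rw [hu]
      exact Set.mem_univ j
    exact absurd this (by simpa using hj)

end Groth.Agent.Lib.Helper15.HilbT
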