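import Mathlib
import Groth.Agent.Lib.Helper15.HilbT6

/-!
# Monomial ideals in three variables: coordinates and staircase heights (helper15)
-/

set_option backward.isDefEq.respectTransparency.types false
set_option autoImplicit false
set_option linter.unusedSectionVars false
set_option linter.style.haveILetI false

universe u

namespace Groth.Agent.Lib.Helper15.HilbT

open MvPolynomial W4c1hilbpn Groth.Agent.Lib.Helper8.Hilb

/-- the point with coordinates `(a, b, c)` in the directions `e 0`, `e 1`, `e 2` -/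
def pt (e : Equiv.Perm (Fin 3)) (a b c : ℤ) : Fin 3 → ℤ := fun i => ![a, b, c] (e.symm i)

section pt

variable (e : Equiv.Perm (Fin 3)) (a b c : ℤ)

@[simp] lemma pt_e0 : pt e a b c (e 0) = a := by simp [pt]
@[simp] lemma pt_e1 : pt e a b c (e 1) = b := by simp [pt]
@[simp] lemma pt_e2 : pt e a b c (e 2) = c := by simp [pt]

lemma forall_fin3 (P : Fin 3 → Prop) : (∀ i, P i) ↔ P (e 0) ∧ P (e 1) ∧ P (e 2) := by
  constructor
  · intro h
    exact ⟨h _, h _, h _⟩
  · rintro ⟨h0, h1, h2⟩ i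
    obtain ⟨j, rfl⟩ := e.surjective i
    fin_cases j
    · exact h0
    · exact h1
    · exact h2

lemma exists_fin3 (P : Fin 3 → Prop) : (∃ i, P i) ↔ P (e 0) ∨ P (e 1) ∨ P (e 2) := by
  constructor
  · rintro ⟨i, hi⟩
    obtain ⟨j, rfl⟩ := e.surjective i
    fin_cases j
    · exact Or.inl hi
    · exact Or.inr (Or.inl hi)
    · exact Or.inr (Or.inr hi)
  · rintro (h | h | h)
    exacts [⟨_, h⟩, ⟨_, h⟩, ⟨_, h⟩]

lemma pt_eta (γ : Fin 3 → ℤ) : pt e (γ (e 0)) (γ (e 1)) (γ (e 2)) = γ := by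
  funext i
  revert i
  rw [forall_fin3 e]
  simp

lemma pt_ext {γ γ' : Fin 3 → ℤ} (h0 : γ (e 0) = γ' (e 0)) (h1 : γ (e 1) = γ' (e 1))
    (h2 : γ (e 2) = γ' (e 2)) : γ = γ' := by
  funext i
  revert i
  rw [forall_fin3 e]
  exact ⟨h0, h1, h2⟩

lemma e_ne01 : e 0 ≠ e 1 := fun h => by simpa using e.injective h
lemma e_ne02 : e 0 ≠ e 2 := fun h => by simpa using e.injective h
lemma e_ne12 : e 1 ≠ e 2 := fun h => by simpa using e.injective h

lemma pt_add_eZ0 : pt e a b c + eZ (e 0) = pt e (a + 1) b c := by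
  apply pt_ext e <;> simp [eZ_self, eZ_ne, (e_ne01 e).symm, (e_ne02 e).symm]

lemma pt_add_eZ1 : pt e a b c + eZ (e 1) = pt e a (b + 1) c := by
  apply pt_ext e <;> simp [eZ_self, eZ_ne, e_ne01 e, (e_ne12 e).symm]

lemma pt_add_eZ2 : pt e a b c + eZ (e 2) = pt e a b (c + 1) := by
  apply pt_ext e <;> simp [eZ_self, eZ_ne, e_ne02 e, e_ne12 e]

end pt

section heights

variable {k : Type u} [Field k] (I : Ideal (MvPolynomial (Fin 3) k)) (e : Equiv.Perm (Fin 3))

/-- the exponent vector with coordinates `(a, b, c)` in the directions `e 0`, `e 1`, `e 2` -/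
noncomputable def ptN (e : Equiv.Perm (Fin 3)) (a b c : ℕ) : Fin 3 →₀ ℕ := toN (pt e a b c)

lemma ptN_e0 (a b c : ℕ) : ptN e a b c (e 0) = a := by simp [ptN, toN_apply]
lemma ptN_e1 (a b c : ℕ) : ptN e a b c (e 1) = b := by simp [ptN, toN_apply]
lemma ptN_e2 (a b c : ℕ) : ptN e a b c (e 2) = c := by simp [ptN, toN_apply]

lemma ptN_ext {β β' : Fin 3 →₀ ℕ} (h0 : β (e 0) = β' (e 0)) (h1 : β (e 1) = β' (e 1))
    (h2 : β (e 2) = β' (e 2)) : β = β' := by
  ext i
  revert i
  rw [forall_fin3 e]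
  exact ⟨h0, h1, h2⟩

lemma ptN_eta (β : Fin 3 →₀ ℕ) : ptN e (β (e 0)) (β (e 1)) (β (e 2)) = β := by
  apply ptN_ext e
  · rw [ptN_e0]
  · rw [ptN_e1]
  · rw [ptN_e2]

lemma ptN_add (a b c a' b' c' : ℕ) :
    ptN e (a + a') (b + b') (c + c') = ptN e a b c + ptN e a' b' c' := by
  apply ptN_ext e
  · rw [Finsupp.add_apply, ptN_e0, ptN_e0, ptN_e0]
  · rw [Finsupp.add_apply, ptN_e1, ptN_e1, ptN_e1]
  · rw [Finsupp.add_apply, ptN_e2, ptN_e2, ptN_e2]

variable {I}

lemma ptN_mem_mono {a b c a' b' c' : ℕ} (h : ptN e a b c ∈ exps I) (ha : a ≤ a') (hb : b ≤ b')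
    (hc : c ≤ c') : ptN e a' b' c' ∈ exps I := by
  obtain ⟨x, rfl⟩ := Nat.exists_eq_add_of_le ha
  obtain ⟨y, rfl⟩ := Nat.exists_eq_add_of_le hb
  obtain ⟨z, rfl⟩ := Nat.exists_eq_add_of_le hc
  rw [ptN_add]
  exact exps_add I h _

variable (I)

/-- the staircase height in the direction `e 2` over the point `(a, b)` -/
noncomputable def hE (a b : ℕ) : ℕ := Nat.card {c : ℕ // ptN e a b c ∉ exps I}

variable {I}

lemma finite_col (hI : IsMonomial I) [Module.Finite k (MvPolynomial (Fin 3) k ⧸ I)] (a b : ℕ) :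
    {c : ℕ | ptN e a b c ∉ exps I}.Finite := by
  apply Set.Finite.of_finite_image (f := fun c => ptN e a b c)
  · apply Set.Finite.subset (finite_compl_exps hI)
    rintro _ ⟨c, hc, rfl⟩
    exact hc
  · intro c _ c' _ h
    have := congrArg (fun β : Fin 3 →₀ ℕ => β (e 2)) h
    simpa [ptN_e2] using this

/-- a finite initial segment of `ℕ` is determined by its cardinality -/
lemma mem_iff_lt_card {S : Set ℕ} (hfin : S.Finite) (hdown : ∀ c ∈ S, ∀ c' ≤ c, c' ∈ S) (c : ℕ) :
    c ∈ S ↔ c < Nat.card S := by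
  classical
  have hS : S = Set.Iio (Nat.card S) := by
    rcases S.eq_empty_or_nonempty with h | h
    · subst h
      simp
    · have hne : hfin.toFinset.Nonempty := by simpa using h
      set M := hfin.toFinset.max' hne with hM
      have hMS : M ∈ S := by
        have := hfin.toFinset.max'_mem hne
        simpa using this
      have hle : ∀ c ∈ S, c ≤ M := by
        intro c hc
        exact hfin.toFinset.le_max' c (by simpa using hc)
      have hS' : S = Set.Iic M := by
        ext c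
        constructor
        · exact hle c
        · intro hc
          exact hdown M hMS c hc
      have hcard : Nat.card S = M + 1 := by
        rw [hS']
        simp
      rw [hcard]
      rw [hS']
      ext c
      simp [Nat.lt_succ_iff]
  constructor
  · intro h
    rw [hS] at h
    exact h
  · intro h
    rw [hS]
    exact h

lemma ptN_mem_iff (hI : IsMonomial I) [Module.Finite k (MvPolynomial (Fin 3) k ⧸ I)]
    (a b c : ℕ) : ptN e a b c ∈ exps I ↔ hE I e a b ≤ c := by
  have h := mem_iff_lt_card (finite_col e hI a b)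
    (by
      intro c hc c' hc' hmem
      exact hc (ptN_mem_mono e hmem le_rfl le_rfl hc')) c
  rw [← not_iff_not, not_le]
  exact h

lemma hE_anti (hI : IsMonomial I) [Module.Finite k (MvPolynomial (Fin 3) k ⧸ I)]
    {a b a' b' : ℕ} (ha : a ≤ a') (hb : b ≤ b') : hE I e a' b' ≤ hE I e a b := by
  rw [← ptN_mem_iff e hI]
  exact ptN_mem_mono e ((ptN_mem_iff e hI a b _).2 le_rfl) ha hb le_rfl

lemma hE_eq_zero_left (hI : IsMonomial I) [Module.Finite k (MvPolynomial (Fin 3) k ⧸ I)]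
    {a b : ℕ} (ha : bnd hI ≤ a) : hE I e a b = 0 := by
  rw [← Nat.le_zero, ← ptN_mem_iff e hI]
  by_contra h
  have := lt_bnd hI h (e 0)
  rw [ptN_e0] at this
  omega

lemma hE_eq_zero_right (hI : IsMonomial I) [Module.Finite k (MvPolynomial (Fin 3) k ⧸ I)]
    {a b : ℕ} (hb : bnd hI ≤ b) : hE I e a b = 0 := by
  rw [← Nat.le_zero, ← ptN_mem_iff e hI]
  by_contra h
  have := lt_bnd hI h (e 1)
  rw [ptN_e1] at this
  omega

lemma hE_le_bnd (hI : IsMonomial I) [Module.Finite k (MvPolynomial (Fin 3) k ⧸ I)]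
    (a b : ℕ) : hE I e a b ≤ bnd hI := by
  rw [← ptN_mem_iff e hI]
  by_contra h
  have := lt_bnd hI h (e 2)
  rw [ptN_e2] at this
  omega

end heights

end Groth.Agent.Lib.Helper15.HilbT
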