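import Mathlib
import Groth.Agent.Lib.Helper15.HilbC1

/-!
# The column model of a graded piece of `T(I)` in three variables (helper15)
-/

set_option backward.isDefEq.respectTransparency.types false
set_option autoImplicit false
set_option linter.unusedSectionVars false
set_option linter.style.haveILetI false

universe u

namespace Groth.Agent.Lib.Helper15.HilbT

open MvPolynomial W4c1hilbpn Groth.Agent.Lib.Helper8.Hilb

variable {k : Type u} [Field k] {I : Ideal (MvPolynomial (Fin 3) k)} (e : Equiv.Perm (Fin 3))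
  (α : Fin 3 → ℤ) (s : ℤ × ℤ)

/-- the point of height `z` in the column over `u` (shifted by `s`) -/
def cpt (u : ℤ × ℤ) (z : ℤ) : Fin 3 → ℤ := pt e (u.1 + s.1) (u.2 + s.2) z

variable (I) in
/-- membership of the column point in the region -/
def inReg (u : ℤ × ℤ) (z : ℤ) : Prop := cpt e s u z ∈ region I α

lemma cpt_add_eZ2 (u : ℤ × ℤ) (z : ℤ) : cpt e s u z + eZ (e 2) = cpt e s u (z + 1) :=
  pt_add_eZ2 e _ _ _

lemma cpt_add_eZ0 (u : ℤ × ℤ) (z : ℤ) : cpt e s u z + eZ (e 0) = cpt e s (u + (1, 0)) z := by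
  unfold cpt
  rw [pt_add_eZ0]
  congr 1
  · simp; ring
  · simp

lemma cpt_add_eZ1 (u : ℤ × ℤ) (z : ℤ) : cpt e s u z + eZ (e 1) = cpt e s (u + (0, 1)) z := by
  unfold cpt
  rw [pt_add_eZ1]
  congr 1
  · simp
  · simp; ring

/-- columns are intervals -/
lemma inReg_interval {u : ℤ × ℤ} {z z' z'' : ℤ} (h : inReg I e α s u z) (h' : inReg I e α s u z')
    (h1 : z ≤ z'') (h2 : z'' ≤ z') : inReg I e α s u z'' := by
  unfold inReg at *
  rw [mem_region_iff] at *
  obtain ⟨a1, a2, a3⟩ := h
  obtain ⟨b1, b2, b3⟩ := h'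
  have hc1 : ∀ i, 0 ≤ cpt e s u z'' i - α i := by
    rw [forall_fin3 e] at a1 ⊢
    simp only [cpt, pt_e0, pt_e1, pt_e2] at a1 ⊢
    refine ⟨a1.1, a1.2.1, ?_⟩
    have := a1.2.2
    omega
  refine ⟨hc1, ?_, ?_⟩
  · have : back α (cpt e s u z'') = back α (cpt e s u z) +
        Finsupp.single (e 2) (z'' - z).toNat := by
      apply ptN_ext e
      · simp [back, toN_apply, cpt, Finsupp.single_eq_of_ne (e_ne02 e).symm]
      · simp [back, toN_apply, cpt, Finsupp.single_eq_of_ne (e_ne12 e).symm]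
      · simp only [back, toN_apply, cpt, pt_e2, Finsupp.coe_add, Pi.add_apply,
          Finsupp.single_eq_same]
        have := a1 (e 2)
        simp only [cpt, pt_e2] at this
        omega
    rw [this]
    exact exps_add I a2 _
  · rintro ⟨c1, c2⟩
    apply b3
    have hnn : ∀ i, 0 ≤ cpt e s u z' i := by
      rw [forall_fin3 e] at c1 ⊢
      simp only [cpt, pt_e0, pt_e1, pt_e2] at c1 ⊢
      refine ⟨c1.1, c1.2.1, ?_⟩
      have := c1.2.2
      omega
    refine ⟨hnn, ?_⟩
    have : toN (cpt e s u z') = toN (cpt e s u z'') + Finsupp.single (e 2) (z' - z'').toNat := by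
      apply ptN_ext e
      · simp [toN_apply, cpt, Finsupp.single_eq_of_ne (e_ne02 e).symm]
      · simp [toN_apply, cpt, Finsupp.single_eq_of_ne (e_ne12 e).symm]
      · simp only [toN_apply, cpt, pt_e2, Finsupp.coe_add, Pi.add_apply,
          Finsupp.single_eq_same]
        have := c1 (e 2)
        simp only [cpt, pt_e2] at this
        omega
    rw [this]
    exact exps_add I c2 _

variable (I) in
/-- the column model of the graded piece of multidegree `α` -/
def colModel : Submodule k (ℤ × ℤ → k) where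
  carrier := {f | (∀ u, (∀ z, ¬ inReg I e α s u z) → f u = 0) ∧
    (∀ u z, inReg I e α s u z → (¬ ∀ i, 0 ≤ cpt e s u z i) → f u = 0) ∧
    (∀ u z, inReg I e α s u z → inReg I e α s (u + (1, 0)) z → f u = f (u + (1, 0))) ∧
    (∀ u z, inReg I e α s u z → inReg I e α s (u + (0, 1)) z → f u = f (u + (0, 1)))}
  zero_mem' := ⟨fun _ _ => rfl, fun _ _ _ _ => rfl, fun _ _ _ _ => rfl, fun _ _ _ _ => rfl⟩
  add_mem' := by
    rintro f g ⟨f1, f2, f3, f4⟩ ⟨g1, g2, g3, g4⟩
    refine ⟨fun u h => ?_, fun u z h h' => ?_, fun u z h h' => ?_, fun u z h h' => ?_⟩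
    · simp [f1 u h, g1 u h]
    · simp [f2 u z h h', g2 u z h h']
    · simp only [Pi.add_apply]
      rw [f3 u z h h', g3 u z h h']
    · simp only [Pi.add_apply]
      rw [f4 u z h h', g4 u z h h']
  smul_mem' := by
    rintro c f ⟨f1, f2, f3, f4⟩
    refine ⟨fun u h => ?_, fun u z h h' => ?_, fun u z h h' => ?_, fun u z h h' => ?_⟩
    · simp [f1 u h]
    · simp [f2 u z h h']
    · simp only [Pi.smul_apply]
      rw [f3 u z h h']
    · simp only [Pi.smul_apply]
      rw [f4 u z h h']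

variable {e α s}

/-- `val` is constant on columns -/
lemma val_col_const (hI : IsMonomial I) {φ : Tgt I} (hφ : φ ∈ tPiece I α) {u : ℤ × ℤ} {z z' : ℤ}
    (h : inReg I e α s u z) (h' : inReg I e α s u z') :
    val hI φ ⟨_, h⟩ = val hI φ ⟨_, h'⟩ := by
  have key : ∀ (m : ℕ) (z : ℤ) (h : inReg I e α s u z) (h' : inReg I e α s u (z + m)),
      val hI φ ⟨_, h⟩ = val hI φ ⟨_, h'⟩ := by
    intro m
    induction m with
    | zero =>
      intro z h h'
      congr 1
      apply Subtype.ext
      simp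
    | succ m ih =>
      intro z h h'
      have hmid : inReg I e α s u (z + m) :=
        inReg_interval e α s h h' (by omega) (by push_cast; omega)
      rw [ih z h hmid]
      apply val_step hI hφ _ _ (e 2)
      change cpt e s u (z + (m + 1 : ℕ)) = cpt e s u (z + m) + eZ (e 2)
      rw [cpt_add_eZ2]
      congr 1
      push_cast
      ring
  rcases le_total z z' with hle | hle
  · obtain ⟨m, hm⟩ := Int.eq_ofNat_of_zero_le (sub_nonneg.2 hle)
    have hz' : z' = z + m := by omega
    subst hz'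
    exact key m z h h'
  · obtain ⟨m, hm⟩ := Int.eq_ofNat_of_zero_le (sub_nonneg.2 hle)
    have hz : z = z' + m := by omega
    subst hz
    exact (key m z' h' h).symm

open Classical in
/-- the column function of an element of the graded piece -/
noncomputable def colFun (hI : IsMonomial I) (e : Equiv.Perm (Fin 3)) (α : Fin 3 → ℤ)
    (s : ℤ × ℤ) (φ : Tgt I) : ℤ × ℤ → k :=
  fun u => if h : ∃ z, inReg I e α s u z then val hI φ ⟨_, h.choose_spec⟩ else 0

lemma colFun_eq (hI : IsMonomial I) {φ : Tgt I} (hφ : φ ∈ tPiece I α) {u : ℤ × ℤ} {z : ℤ}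
    (h : inReg I e α s u z) : colFun hI e α s φ u = val hI φ ⟨_, h⟩ := by
  unfold colFun
  rw [dif_pos ⟨z, h⟩]
  exact val_col_const hI hφ _ h

lemma colFun_mem (hI : IsMonomial I) {φ : Tgt I} (hφ : φ ∈ tPiece I α) :
    colFun hI e α s φ ∈ colModel I e α s := by
  refine ⟨fun u h => ?_, fun u z h h' => ?_, fun u z h h' => ?_, fun u z h h' => ?_⟩
  · unfold colFun
    rw [dif_neg]
    rintro ⟨z, hz⟩
    exact h z hz
  · rw [colFun_eq hI hφ h]
    exact val_of_neg hI φ _ h'
  · rw [colFun_eq hI hφ h, colFun_eq hI hφ h']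
    apply val_step hI hφ _ _ (e 0)
    exact (cpt_add_eZ0 e s u z).symm
  · rw [colFun_eq hI hφ h, colFun_eq hI hφ h']
    apply val_step hI hφ _ _ (e 1)
    exact (cpt_add_eZ1 e s u z).symm

variable (e α s) in
/-- the column function, as a linear map -/
noncomputable def colMap (hI : IsMonomial I) : ↥(tPiece I α) →ₗ[k] ↥(colModel I e α s) where
  toFun φ := ⟨colFun hI e α s φ.1, colFun_mem hI φ.2⟩
  map_add' φ ψ := by
    apply Subtype.ext
    funext u
    change colFun hI e α s (φ.1 + ψ.1) u = colFun hI e α s φ.1 u + colFun hI e α s ψ.1 u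
    by_cases h : ∃ z, inReg I e α s u z
    · obtain ⟨z, hz⟩ := h
      rw [colFun_eq hI (Submodule.add_mem _ φ.2 ψ.2) hz, colFun_eq hI φ.2 hz,
        colFun_eq hI ψ.2 hz, val_add]
    · unfold colFun
      rw [dif_neg h, dif_neg h, dif_neg h, add_zero]
  map_smul' c φ := by
    apply Subtype.ext
    funext u
    change colFun hI e α s (c • φ.1) u = c • colFun hI e α s φ.1 u
    by_cases h : ∃ z, inReg I e α s u z
    · obtain ⟨z, hz⟩ := h
      rw [colFun_eq hI (Submodule.smul_mem _ c φ.2) hz, colFun_eq hI φ.2 hz, val_smul,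
        smul_eq_mul]
    · unfold colFun
      rw [dif_neg h, dif_neg h, smul_zero]

lemma cpt_of_mem (γ : Fin 3 → ℤ) :
    cpt e s (γ (e 0) - s.1, γ (e 1) - s.2) (γ (e 2)) = γ := by
  unfold cpt
  simp only [sub_add_cancel]
  exact pt_eta e γ

lemma colMap_injective (hI : IsMonomial I) : Function.Injective (colMap e α s hI) := by
  rw [injective_iff_map_eq_zero]
  intro φ hφ
  apply Subtype.ext
  apply eq_zero_of_val hI φ.2
  intro v _
  have hv : inReg I e α s (v.1 (e 0) - s.1, v.1 (e 1) - s.2) (v.1 (e 2)) := by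
    unfold inReg
    rw [cpt_of_mem]
    exact v.2
  have h1 := colFun_eq hI φ.2 hv
  have h2 : colFun hI e α s φ.1 (v.1 (e 0) - s.1, v.1 (e 1) - s.2) = 0 :=
    congrFun (congrArg Subtype.val hφ) _
  rw [h2] at h1
  rw [h1]
  congr 1
  apply Subtype.ext
  exact (cpt_of_mem v.1).symm

lemma colMap_surjective (hI : IsMonomial I) : Function.Surjective (colMap e α s hI) := by
  rintro ⟨f, f1, f2, f3, f4⟩
  let c : (Fin 3 → ℤ) → k := fun γ => f (γ (e 0) - s.1, γ (e 1) - s.2)
  have hcpt : ∀ u z, c (cpt e s u z) = f u := by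
    intro u z
    change f _ = f u
    unfold cpt
    simp
  have Ha : ∀ u w : ↥(region I α), ∀ i, w.1 = u.1 + eZ i → c u.1 = c w.1 := by
    intro u w i h
    have hu : inReg I e α s (u.1 (e 0) - s.1, u.1 (e 1) - s.2) (u.1 (e 2)) := by
      unfold inReg
      rw [cpt_of_mem]
      exact u.2
    revert h
    revert i
    rw [forall_fin3 e]
    refine ⟨fun h => ?_, fun h => ?_, fun h => ?_⟩
    · have hw : inReg I e α s ((u.1 (e 0) - s.1, u.1 (e 1) - s.2) + (1, 0)) (u.1 (e 2)) := by
        unfold inReg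
        rw [← cpt_add_eZ0, cpt_of_mem, ← h]
        exact w.2
      have := f3 _ _ hu hw
      rw [← hcpt _ (u.1 (e 2)), ← hcpt (_ + _) (u.1 (e 2)), cpt_of_mem, ← cpt_add_eZ0,
        cpt_of_mem, ← h] at this
      exact this
    · have hw : inReg I e α s ((u.1 (e 0) - s.1, u.1 (e 1) - s.2) + (0, 1)) (u.1 (e 2)) := by
        unfold inReg
        rw [← cpt_add_eZ1, cpt_of_mem, ← h]
        exact w.2
      have := f4 _ _ hu hw
      rw [← hcpt _ (u.1 (e 2)), ← hcpt (_ + _) (u.1 (e 2)), cpt_of_mem, ← cpt_add_eZ1,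
        cpt_of_mem, ← h] at this
      exact this
    · change f _ = f _
      rw [h]
      simp [eZ_ne (e_ne02 e), eZ_ne (e_ne12 e)]
  have Hb : ∀ v : ↥(region I α), (¬ ∀ i, 0 ≤ v.1 i) → c v.1 = 0 := by
    intro v hv
    have hv' : inReg I e α s (v.1 (e 0) - s.1, v.1 (e 1) - s.2) (v.1 (e 2)) := by
      unfold inReg
      rw [cpt_of_mem]
      exact v.2
    apply f2 _ _ hv'
    rw [cpt_of_mem]
    exact hv
  refine ⟨⟨mkTgt hI Ha Hb, mkTgt_mem hI Ha Hb⟩, ?_⟩
  apply Subtype.ext
  funext u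
  change colFun hI e α s (mkTgt hI Ha Hb) u = f u
  by_cases h : ∃ z, inReg I e α s u z
  · obtain ⟨z, hz⟩ := h
    rw [colFun_eq hI (mkTgt_mem hI Ha Hb) hz]
    by_cases hnn : ∀ i, 0 ≤ cpt e s u z i
    · rw [val_mkTgt hI Ha Hb _ hnn]
      exact hcpt u z
    · rw [val_of_neg hI _ _ hnn]
      exact (f2 u z hz hnn).symm
  · unfold colFun
    rw [dif_neg h]
    push Not at h
    exact (f1 u h).symm

variable (e α s) in
/-- the graded piece is isomorphic to its column model -/
noncomputable def colEquiv (hI : IsMonomial I) : ↥(tPiece I α) ≃ₗ[k] ↥(colModel I e α s) :=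
  LinearEquiv.ofBijective (colMap e α s hI) ⟨colMap_injective hI, colMap_surjective hI⟩

end Groth.Agent.Lib.Helper15.HilbT
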