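import Mathlib

/-!
# A planar cubical complex relative to an up-set: acyclicity (helper15)

Chains are functions on `ℤ × ℤ` vanishing outside a finite set `Y`; the cells attached to `u ∈ Y`
are the vertex `u`, the edges `u → u + (1,0)`, `u → u + (0,1)` and the square with lowest corner
`u`.
-/

set_option autoImplicit false
set_option linter.unusedSectionVars false
set_option linter.style.haveILetI false

namespace Groth.Agent.Lib.Helper15.HilbE

variable {k : Type*} [Field k]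

/-- the convexity condition on the set of base points -/
def Conv (Y : Finset (ℤ × ℤ)) : Prop :=
  ∀ u, u ∈ Y → u - (1, 0) - (0, 1) ∈ Y → u - (1, 0) ∈ Y ∧ u - (0, 1) ∈ Y

lemma exists_corner (S : Finset (ℤ × ℤ)) (hS : S.Nonempty) :
    ∃ u ∈ S, u - (1, 0) ∉ S ∧ u - (0, 1) ∉ S := by
  classical
  obtain ⟨u₁, hu₁, hmin₁⟩ := S.exists_min_image (fun u => u.1) hS
  have hS' : (S.filter (fun u => u.1 = u₁.1)).Nonempty := ⟨u₁, by simp [hu₁]⟩
  obtain ⟨u₀, hu₀, hmin₀⟩ := (S.filter (fun u => u.1 = u₁.1)).exists_min_image (fun u => u.2) hS'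
  rw [Finset.mem_filter] at hu₀
  refine ⟨u₀, hu₀.1, ?_, ?_⟩
  · intro h
    have := hmin₁ _ h
    simp only [Prod.fst_sub] at this
    omega
  · intro h
    have h' : u₀ - (0, 1) ∈ S.filter (fun u => u.1 = u₁.1) := by
      rw [Finset.mem_filter]
      refine ⟨h, ?_⟩
      simp only [Prod.fst_sub, sub_zero]
      exact hu₀.2
    have := hmin₀ _ h'
    simp only [Prod.snd_sub] at this
    omega

lemma conv_erase {Y : Finset (ℤ × ℤ)} (hY : Conv Y) {u₀ : ℤ × ℤ}
    (h1 : u₀ - (1, 0) ∉ Y) (h2 : u₀ - (0, 1) ∉ Y) : Conv (Y.erase u₀) := by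
  intro u hu huu
  rw [Finset.mem_erase] at hu huu
  obtain ⟨ha, hb⟩ := hY u hu.2 huu.2
  refine ⟨Finset.mem_erase.2 ⟨?_, ha⟩, Finset.mem_erase.2 ⟨?_, hb⟩⟩
  · intro h
    apply h2
    rw [← h]
    exact huu.2
  · intro h
    apply h1
    rw [← h]
    have : u - (0, 1) - (1, 0) = u - (1, 0) - (0, 1) := by abel
    rw [this]
    exact huu.2

/-- the cycle expression of a 1-chain at a vertex -/
def cyc (z₁ z₂ : ℤ × ℤ → k) (u : ℤ × ℤ) : k :=
  z₁ (u - (1, 0)) - z₁ u + z₂ (u - (0, 1)) - z₂ u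

open Classical in
/-- first component of the boundary of a 2-chain -/
noncomputable def bd1 (Y : Finset (ℤ × ℤ)) (w : ℤ × ℤ → k) : ℤ × ℤ → k :=
  fun u => if u ∈ Y then w u - w (u - (0, 1)) else 0

open Classical in
/-- second component of the boundary of a 2-chain -/
noncomputable def bd2 (Y : Finset (ℤ × ℤ)) (w : ℤ × ℤ → k) : ℤ × ℤ → k :=
  fun u => if u ∈ Y then w (u - (1, 0)) - w u else 0

lemma bd1_of_mem {Y : Finset (ℤ × ℤ)} (w : ℤ × ℤ → k) {u : ℤ × ℤ} (h : u ∈ Y) :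
    bd1 Y w u = w u - w (u - (0, 1)) := by
  unfold bd1
  rw [if_pos h]

lemma bd1_of_not_mem {Y : Finset (ℤ × ℤ)} (w : ℤ × ℤ → k) {u : ℤ × ℤ} (h : u ∉ Y) :
    bd1 Y w u = 0 := by
  unfold bd1
  rw [if_neg h]

lemma bd2_of_mem {Y : Finset (ℤ × ℤ)} (w : ℤ × ℤ → k) {u : ℤ × ℤ} (h : u ∈ Y) :
    bd2 Y w u = w (u - (1, 0)) - w u := by
  unfold bd2
  rw [if_pos h]

lemma bd2_of_not_mem {Y : Finset (ℤ × ℤ)} (w : ℤ × ℤ → k) {u : ℤ × ℤ} (h : u ∉ Y) :
    bd2 Y w u = 0 := by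
  unfold bd2
  rw [if_neg h]

/-- the boundary of a boundary vanishes -/
theorem cyc_bd {Y : Finset (ℤ × ℤ)} (hY : Conv Y) (w : ℤ × ℤ → k) (hw : ∀ u, u ∉ Y → w u = 0)
    {u : ℤ × ℤ} (hu : u ∈ Y) : cyc (bd1 Y w) (bd2 Y w) u = 0 := by
  unfold cyc
  rw [bd1_of_mem w hu, bd2_of_mem w hu]
  have hcomm : u - (0, 1) - (1, 0) = u - (1, 0) - (0, 1) := by abel
  by_cases h12 : u - (1, 0) - (0, 1) ∈ Y
  · obtain ⟨ha, hb⟩ := hY u hu h12
    rw [bd1_of_mem w ha, bd2_of_mem w hb, hcomm]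
    ring
  · have hw12 : w (u - (1, 0) - (0, 1)) = 0 := hw _ h12
    by_cases ha : u - (1, 0) ∈ Y
    · by_cases hb : u - (0, 1) ∈ Y
      · rw [bd1_of_mem w ha, bd2_of_mem w hb, hcomm]
        ring
      · rw [bd1_of_mem w ha, bd2_of_not_mem w hb, hw12, hw _ hb]
        ring
    · by_cases hb : u - (0, 1) ∈ Y
      · rw [bd1_of_not_mem w ha, bd2_of_mem w hb, hcomm, hw12, hw _ ha]
        ring
      · rw [bd1_of_not_mem w ha, bd2_of_not_mem w hb, hw _ ha, hw _ hb]
        ring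

/-- the boundary is injective on 2-chains -/
theorem eq_zero_of_bd1 (Y : Finset (ℤ × ℤ)) (w : ℤ × ℤ → k) (hw : ∀ u, u ∉ Y → w u = 0)
    (h : ∀ u ∈ Y, w u - w (u - (0, 1)) = 0) : w = 0 := by
  classical
  by_contra hne
  have hS : (Y.filter (fun u => w u ≠ 0)).Nonempty := by
    by_contra hS
    rw [Finset.not_nonempty_iff_eq_empty] at hS
    apply hne
    funext u
    by_contra hu
    have huY : u ∈ Y := by
      by_contra huY
      exact hu (hw u huY)
    have : u ∈ Y.filter (fun u => w u ≠ 0) := Finset.mem_filter.2 ⟨huY, hu⟩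
    rw [hS] at this
    exact absurd this (Finset.notMem_empty u)
  obtain ⟨u₀, hu₀, -, h2⟩ := exists_corner _ hS
  rw [Finset.mem_filter] at hu₀
  have h3 : w (u₀ - (0, 1)) = 0 := by
    by_contra hcon
    apply h2
    rw [Finset.mem_filter]
    refine ⟨?_, hcon⟩
    by_contra hY
    exact hcon (hw _ hY)
  have := h u₀ hu₀.1
  rw [h3, sub_zero] at this
  exact hu₀.2 this

/-- exactness in the middle -/
theorem exists_bd (Y : Finset (ℤ × ℤ)) (hY : Conv Y) (z₁ z₂ : ℤ × ℤ → k)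
    (h1 : ∀ u, u ∉ Y → z₁ u = 0) (h2 : ∀ u, u ∉ Y → z₂ u = 0)
    (hc : ∀ u ∈ Y, cyc z₁ z₂ u = 0) :
    ∃ w : ℤ × ℤ → k, (∀ u, u ∉ Y → w u = 0) ∧ bd1 Y w = z₁ ∧ bd2 Y w = z₂ := by
  classical
  induction hn : Y.card generalizing Y z₁ z₂ with
  | zero =>
    rw [Finset.card_eq_zero] at hn
    subst hn
    refine ⟨0, fun _ _ => rfl, ?_, ?_⟩
    · funext u
      rw [bd1_of_not_mem _ (Finset.notMem_empty u), h1 u (Finset.notMem_empty u)]
    · funext u
      rw [bd2_of_not_mem _ (Finset.notMem_empty u), h2 u (Finset.notMem_empty u)]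
  | succ n ih =>
    have hne : Y.Nonempty := by
      rw [← Finset.card_pos]
      omega
    obtain ⟨u₀, hu₀, ha, hb⟩ := exists_corner Y hne
    set lam : k := z₁ u₀ with hlam
    let w₀ : ℤ × ℤ → k := fun u => if u = u₀ then lam else 0
    have hw₀ : ∀ u, u ∉ Y → w₀ u = 0 := by
      intro u hu
      change (if u = u₀ then lam else 0) = 0
      rw [if_neg]
      rintro rfl
      exact hu hu₀
    have hz2 : z₂ u₀ = -lam := by
      have := hc u₀ hu₀
      unfold cyc at this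
      rw [h1 _ ha, h2 _ hb] at this
      rw [hlam]
      linear_combination -this
    let z₁' : ℤ × ℤ → k := fun u => z₁ u - bd1 Y w₀ u
    let z₂' : ℤ × ℤ → k := fun u => z₂ u - bd2 Y w₀ u
    have hw₀a : w₀ (u₀ - (0, 1)) = 0 := hw₀ _ hb
    have hw₀b : w₀ (u₀ - (1, 0)) = 0 := hw₀ _ ha
    have hw₀0 : w₀ u₀ = lam := if_pos rfl
    have hz1'0 : z₁' u₀ = 0 := by
      change z₁ u₀ - bd1 Y w₀ u₀ = 0
      rw [bd1_of_mem _ hu₀, hw₀0, hw₀a]
      ring
    have hz2'0 : z₂' u₀ = 0 := by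
      change z₂ u₀ - bd2 Y w₀ u₀ = 0
      rw [bd2_of_mem _ hu₀, hw₀0, hw₀b, hz2]
      ring
    have h1' : ∀ u, u ∉ Y.erase u₀ → z₁' u = 0 := by
      intro u hu
      by_cases huY : u ∈ Y
      · have : u = u₀ := by
          by_contra hne
          exact hu (Finset.mem_erase.2 ⟨hne, huY⟩)
        rw [this]
        exact hz1'0
      · change z₁ u - bd1 Y w₀ u = 0
        rw [h1 u huY, bd1_of_not_mem _ huY, sub_zero]
    have h2' : ∀ u, u ∉ Y.erase u₀ → z₂' u = 0 := by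
      intro u hu
      by_cases huY : u ∈ Y
      · have : u = u₀ := by
          by_contra hne
          exact hu (Finset.mem_erase.2 ⟨hne, huY⟩)
        rw [this]
        exact hz2'0
      · change z₂ u - bd2 Y w₀ u = 0
        rw [h2 u huY, bd2_of_not_mem _ huY, sub_zero]
    have hc' : ∀ u ∈ Y.erase u₀, cyc z₁' z₂' u = 0 := by
      intro u hu
      have huY := (Finset.mem_erase.1 hu).2
      have e1 : cyc z₁' z₂' u = cyc z₁ z₂ u - cyc (bd1 Y w₀) (bd2 Y w₀) u := by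
        unfold cyc
        change (z₁ _ - bd1 Y w₀ _) - (z₁ _ - bd1 Y w₀ _) + (z₂ _ - bd2 Y w₀ _) -
          (z₂ _ - bd2 Y w₀ _) = _
        ring
      rw [e1, hc u huY, cyc_bd hY w₀ hw₀ huY, sub_zero]
    have hcard : (Y.erase u₀).card = n := by
      rw [Finset.card_erase_of_mem hu₀, hn]
      rfl
    obtain ⟨w', hw', hb1, hb2⟩ := ih (Y.erase u₀) (conv_erase hY ha hb) z₁' z₂' h1' h2' hc' hcard
    have hw'0 : w' u₀ = 0 := hw' u₀ (Finset.notMem_erase u₀ Y)
    have hw'a : w' (u₀ - (0, 1)) = 0 :=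
      hw' _ (fun h => hb (Finset.mem_erase.1 h).2)
    have hw'b : w' (u₀ - (1, 0)) = 0 :=
      hw' _ (fun h => ha (Finset.mem_erase.1 h).2)
    obtain ⟨ws, hws⟩ : ∃ ws : ℤ × ℤ → k, ∀ u, ws u = w' u + w₀ u := ⟨_, fun _ => rfl⟩
    refine ⟨ws, ?_, ?_, ?_⟩
    · intro u hu
      rw [hws, hw' u (fun h => hu (Finset.mem_erase.1 h).2), hw₀ u hu, add_zero]
    · funext u
      by_cases huY : u ∈ Y
      · rw [bd1_of_mem _ huY, hws, hws]
        by_cases hu0 : u = u₀
        · subst hu0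
          rw [hw'0, hw'a, hw₀0, hw₀a]
          ring
        · have hue : u ∈ Y.erase u₀ := Finset.mem_erase.2 ⟨hu0, huY⟩
          have := congrFun hb1 u
          rw [bd1_of_mem _ hue] at this
          change _ = z₁ u - bd1 Y w₀ u at this
          rw [bd1_of_mem _ huY] at this
          linear_combination this
      · rw [bd1_of_not_mem _ huY, h1 u huY]
    · funext u
      by_cases huY : u ∈ Y
      · rw [bd2_of_mem _ huY, hws, hws]
        by_cases hu0 : u = u₀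
        · subst hu0
          rw [hw'0, hw'b, hw₀0, hw₀b, hz2]
          ring
        · have hue : u ∈ Y.erase u₀ := Finset.mem_erase.2 ⟨hu0, huY⟩
          have := congrFun hb2 u
          rw [bd2_of_mem _ hue] at this
          change _ = z₂ u - bd2 Y w₀ u at this
          rw [bd2_of_mem _ huY] at this
          linear_combination this
      · rw [bd2_of_not_mem _ huY, h2 u huY]

end Groth.Agent.Lib.Helper15.HilbE
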