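import Mathlib
import Groth.Agent.Lib.Helper15.HilbE1

/-!
# A planar cubical complex relative to an up-set: cycles of a closed part (helper15)
-/

set_option autoImplicit false
set_option linter.unusedSectionVars false
set_option linter.style.haveILetI false

namespace Groth.Agent.Lib.Helper15.HilbE

variable {k : Type*} [Field k]

/-- functions vanishing outside a finite set -/
def Wsub (k : Type*) [Field k] (s : Finset (ℤ × ℤ)) : Submodule k (ℤ × ℤ → k) where
  carrier := {f | ∀ u, u ∉ s → f u = 0}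
  zero_mem' := fun _ _ => rfl
  add_mem' := by
    intro f g hf hg u hu
    simp [hf u hu, hg u hu]
  smul_mem' := by
    intro c f hf u hu
    simp [hf u hu]

open Classical in
/-- coordinates on `Wsub` -/
noncomputable def Wequiv (s : Finset (ℤ × ℤ)) : ↥(Wsub k s) ≃ₗ[k] (↥s → k) where
  toFun f := fun u => f.1 u.1
  map_add' f g := rfl
  map_smul' c f := rfl
  invFun g := ⟨fun u => if h : u ∈ s then g ⟨u, h⟩ else 0, fun u hu => dif_neg hu⟩
  left_inv f := by
    apply Subtype.ext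
    funext u
    by_cases h : u ∈ s
    · simp [h]
    · simp [h, f.2 u h]
  right_inv g := by
    funext u
    simp

instance finite_Wsub (s : Finset (ℤ × ℤ)) : Module.Finite k ↥(Wsub k s) :=
  Module.Finite.equiv (Wequiv s).symm

lemma finrank_Wsub (s : Finset (ℤ × ℤ)) : Module.finrank k ↥(Wsub k s) = s.card := by
  rw [(Wequiv (k := k) s).finrank_eq, Module.finrank_fintype_fun_eq_card, Fintype.card_coe]

/-- the combinatorial data: a closed part `X` of the relative complex on `Y` -/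
structure Dat where
  Y : Finset (ℤ × ℤ)
  VX : Finset (ℤ × ℤ)
  E1X : Finset (ℤ × ℤ)
  E2X : Finset (ℤ × ℤ)
  SX : Finset (ℤ × ℤ)
  conv : Conv Y
  vx_sub : ∀ u ∈ VX, u ∈ Y
  sx_sub : ∀ u ∈ SX, u ∈ Y
  s_e1 : ∀ u ∈ SX, u ∈ E1X
  s_e2 : ∀ u ∈ SX, u ∈ E2X
  s_e2' : ∀ u ∈ SX, u + (1, 0) ∈ Y → u + (1, 0) ∈ E2X
  s_e1' : ∀ u ∈ SX, u + (0, 1) ∈ Y → u + (0, 1) ∈ E1X
  e1_v : ∀ u ∈ E1X, u ∈ VX
  e1_v' : ∀ u ∈ E1X, u + (1, 0) ∈ Y → u + (1, 0) ∈ VX
  e2_v : ∀ u ∈ E2X, u ∈ VX
  e2_v' : ∀ u ∈ E2X, u + (0, 1) ∈ Y → u + (0, 1) ∈ VX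

namespace Dat

variable (D : Dat)

lemma e1_sub : ∀ u ∈ D.E1X, u ∈ D.Y := fun u hu => D.vx_sub u (D.e1_v u hu)
lemma e2_sub : ∀ u ∈ D.E2X, u ∈ D.Y := fun u hu => D.vx_sub u (D.e2_v u hu)

/-- the model of the piece of sign `ppn`: locally constant functions on the closed part -/
def Z0 (k : Type*) [Field k] : Submodule k (ℤ × ℤ → k) where
  carrier := {f | (∀ u, u ∉ D.VX → f u = 0) ∧ (∀ u ∈ D.E1X, f (u + (1, 0)) = f u) ∧
    (∀ u ∈ D.E2X, f (u + (0, 1)) = f u)}
  zero_mem' := ⟨fun _ _ => rfl, fun _ _ => rfl, fun _ _ => rfl⟩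
  add_mem' := by
    rintro f g ⟨f1, f2, f3⟩ ⟨g1, g2, g3⟩
    refine ⟨fun u hu => ?_, fun u hu => ?_, fun u hu => ?_⟩
    · simp [f1 u hu, g1 u hu]
    · simp [f2 u hu, g2 u hu]
    · simp [f3 u hu, g3 u hu]
  smul_mem' := by
    rintro c f ⟨f1, f2, f3⟩
    refine ⟨fun u hu => ?_, fun u hu => ?_, fun u hu => ?_⟩
    · simp [f1 u hu]
    · simp [f2 u hu]
    · simp [f3 u hu]

/-- the model of the piece of sign `nnp`: relative 2-cycles of the open part -/
def Z2 (k : Type*) [Field k] : Submodule k (ℤ × ℤ → k) where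
  carrier := {g | (∀ u, (u ∉ D.Y ∨ u ∈ D.SX) → g u = 0) ∧
    (∀ u ∈ D.Y, u ∉ D.E1X → g u = g (u - (0, 1))) ∧
    (∀ u ∈ D.Y, u ∉ D.E2X → g (u - (1, 0)) = g u)}
  zero_mem' := ⟨fun _ _ => rfl, fun _ _ _ => rfl, fun _ _ _ => rfl⟩
  add_mem' := by
    rintro f g ⟨f1, f2, f3⟩ ⟨g1, g2, g3⟩
    refine ⟨fun u hu => ?_, fun u hu hu' => ?_, fun u hu hu' => ?_⟩
    · simp [f1 u hu, g1 u hu]
    · simp [f2 u hu hu', g2 u hu hu']
    · simp [f3 u hu hu', g3 u hu hu']
  smul_mem' := by
    rintro c f ⟨f1, f2, f3⟩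
    refine ⟨fun u hu => ?_, fun u hu hu' => ?_, fun u hu hu' => ?_⟩
    · simp [f1 u hu]
    · simp [f2 u hu hu']
    · simp [f3 u hu hu']

/-- the 1-cycles of the closed part -/
def K1 (k : Type*) [Field k] : Submodule k ((ℤ × ℤ → k) × (ℤ × ℤ → k)) where
  carrier := {z | (∀ u, u ∉ D.E1X → z.1 u = 0) ∧ (∀ u, u ∉ D.E2X → z.2 u = 0) ∧
    (∀ u ∈ D.Y, cyc z.1 z.2 u = 0)}
  zero_mem' := ⟨fun _ _ => rfl, fun _ _ => rfl, fun _ _ => by simp [cyc]⟩
  add_mem' := by
    rintro f g ⟨f1, f2, f3⟩ ⟨g1, g2, g3⟩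
    refine ⟨fun u hu => ?_, fun u hu => ?_, fun u hu => ?_⟩
    · simp [f1 u hu, g1 u hu]
    · simp [f2 u hu, g2 u hu]
    · have a := f3 u hu
      have b := g3 u hu
      unfold cyc at a b ⊢
      simp only [Prod.fst_add, Prod.snd_add, Pi.add_apply]
      linear_combination a + b
  smul_mem' := by
    rintro c f ⟨f1, f2, f3⟩
    refine ⟨fun u hu => ?_, fun u hu => ?_, fun u hu => ?_⟩
    · simp [f1 u hu]
    · simp [f2 u hu]
    · have a := f3 u hu
      unfold cyc at a ⊢
      simp only [Prod.smul_fst, Prod.smul_snd, Pi.smul_apply, smul_eq_mul]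
      linear_combination c * a

end Dat

/-- the boundary of 2-chains as a linear map -/
noncomputable def bdL (Y : Finset (ℤ × ℤ)) :
    (ℤ × ℤ → k) →ₗ[k] (ℤ × ℤ → k) × (ℤ × ℤ → k) where
  toFun w := (bd1 Y w, bd2 Y w)
  map_add' w w' := by
    apply Prod.ext
    · funext u
      by_cases h : u ∈ Y
      · simp only [Prod.fst_add, Pi.add_apply, bd1_of_mem _ h]
        ring
      · simp only [Prod.fst_add, Pi.add_apply, bd1_of_not_mem _ h, add_zero]
    · funext u
      by_cases h : u ∈ Y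
      · simp only [Prod.snd_add, Pi.add_apply, bd2_of_mem _ h]
        ring
      · simp only [Prod.snd_add, Pi.add_apply, bd2_of_not_mem _ h, add_zero]
  map_smul' c w := by
    apply Prod.ext
    · funext u
      by_cases h : u ∈ Y
      · simp only [Prod.smul_fst, Pi.smul_apply, bd1_of_mem _ h, RingHom.id_apply, smul_eq_mul]
        ring
      · simp only [Prod.smul_fst, Pi.smul_apply, bd1_of_not_mem _ h, smul_zero]
    · funext u
      by_cases h : u ∈ Y
      · simp only [Prod.smul_snd, Pi.smul_apply, bd2_of_mem _ h, RingHom.id_apply, smul_eq_mul]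
        ring
      · simp only [Prod.smul_snd, Pi.smul_apply, bd2_of_not_mem _ h, smul_zero]

namespace Dat

variable (D : Dat)

lemma Z2_le_Wsub : D.Z2 k ≤ Wsub k D.Y := by
  rintro g ⟨g1, -, -⟩ u hu
  exact g1 u (Or.inl hu)

instance finite_Z2 : Module.Finite k ↥(D.Z2 k) :=
  Module.Finite.of_injective (Submodule.inclusion D.Z2_le_Wsub) (Submodule.inclusion_injective _)

lemma Z0_le_Wsub : D.Z0 k ≤ Wsub k D.VX := by
  rintro g ⟨g1, -, -⟩ u hu
  exact g1 u hu

instance finite_Z0 : Module.Finite k ↥(D.Z0 k) :=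
  Module.Finite.of_injective (Submodule.inclusion D.Z0_le_Wsub) (Submodule.inclusion_injective _)

/-- the sum of a 2-chain of the closed part and a relative cycle of the open part has its
boundary in the closed part -/
lemma bd_mem_K1 (a c : ℤ × ℤ → k) (ha : a ∈ Wsub k D.SX) (hc : c ∈ D.Z2 k) :
    bdL D.Y (a + c) ∈ D.K1 k := by
  obtain ⟨c1, c2, c3⟩ := hc
  have hsupp : ∀ u, u ∉ D.Y → (a + c) u = 0 := by
    intro u hu
    rw [Pi.add_apply, ha u (fun h => hu (D.sx_sub u h)), c1 u (Or.inl hu), add_zero]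
  refine ⟨fun u hu => ?_, fun u hu => ?_, fun u hu => ?_⟩
  · change bd1 D.Y (a + c) u = 0
    by_cases hY : u ∈ D.Y
    · rw [bd1_of_mem _ hY, Pi.add_apply, Pi.add_apply, c2 u hY hu]
      have h1 : a u = 0 := ha u (fun h => hu (D.s_e1 u h))
      have h2 : a (u - (0, 1)) = 0 := by
        apply ha
        intro h
        apply hu
        have := D.s_e1' _ h (by simpa using hY)
        simpa using this
      rw [h1, h2]
      ring
    · exact bd1_of_not_mem _ hY
  · change bd2 D.Y (a + c) u = 0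
    by_cases hY : u ∈ D.Y
    · rw [bd2_of_mem _ hY, Pi.add_apply, Pi.add_apply, c3 u hY hu]
      have h1 : a u = 0 := ha u (fun h => hu (D.s_e2 u h))
      have h2 : a (u - (1, 0)) = 0 := by
        apply ha
        intro h
        apply hu
        have := D.s_e2' _ h (by simpa using hY)
        simpa using this
      rw [h1, h2]
      ring
    · exact bd2_of_not_mem _ hY
  · exact cyc_bd D.conv _ hsupp hu

/-- the comparison map -/
noncomputable def Theta : (↥(Wsub k D.SX) × ↥(D.Z2 k)) →ₗ[k] ↥(D.K1 k) :=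
  LinearMap.codRestrict (D.K1 k)
    (bdL D.Y ∘ₗ ((Wsub k D.SX).subtype.coprod (D.Z2 k).subtype))
    (fun x => by
      rw [LinearMap.comp_apply, LinearMap.coprod_apply]
      exact D.bd_mem_K1 _ _ x.1.2 x.2.2)

lemma Theta_injective : Function.Injective (D.Theta (k := k)) := by
  rw [injective_iff_map_eq_zero]
  rintro ⟨⟨a, ha⟩, ⟨c, hc⟩⟩ h
  have h' : bdL D.Y (a + c) = 0 := congrArg Subtype.val h
  have hsupp : ∀ u, u ∉ D.Y → (a + c) u = 0 := by
    intro u hu
    rw [Pi.add_apply, ha u (fun h => hu (D.sx_sub u h)), hc.1 u (Or.inl hu), add_zero]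
  have h0 : a + c = 0 := by
    apply eq_zero_of_bd1 D.Y _ hsupp
    intro u hu
    have := congrFun (congrArg Prod.fst h') u
    change bd1 D.Y (a + c) u = 0 at this
    rw [bd1_of_mem _ hu] at this
    exact this
  have ha0 : a = 0 := by
    funext u
    by_cases hu : u ∈ D.SX
    · have := congrFun h0 u
      rw [Pi.add_apply, hc.1 u (Or.inr hu), add_zero] at this
      exact this
    · exact ha u hu
  have hc0 : c = 0 := by
    rw [ha0, zero_add] at h0
    exact h0
  apply Prod.ext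
  · exact Subtype.ext ha0
  · exact Subtype.ext hc0

open Classical in
lemma Theta_surjective : Function.Surjective (D.Theta (k := k)) := by
  rintro ⟨⟨z₁, z₂⟩, hz1, hz2, hz3⟩
  simp only at hz1 hz2 hz3
  obtain ⟨w, hw, hb1, hb2⟩ := exists_bd D.Y D.conv z₁ z₂
    (fun u hu => hz1 u (fun h => hu (D.e1_sub u h)))
    (fun u hu => hz2 u (fun h => hu (D.e2_sub u h))) hz3
  let a : ℤ × ℤ → k := fun u => if u ∈ D.SX then w u else 0
  let c : ℤ × ℤ → k := fun u => if u ∈ D.SX then 0 else w u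
  have hac : a + c = w := by
    funext u
    change (if u ∈ D.SX then w u else 0) + (if u ∈ D.SX then 0 else w u) = w u
    split_ifs <;> simp
  have ha : a ∈ Wsub k D.SX := fun u hu => if_neg hu
  have hau : ∀ u, u ∉ D.SX → a u = 0 := fun u hu => if_neg hu
  have hcu : ∀ u, c u = w u - a u := by
    intro u
    rw [← hac]
    simp
  have hc : c ∈ D.Z2 k := by
    refine ⟨fun u hu => ?_, fun u hY hu => ?_, fun u hY hu => ?_⟩
    · rcases hu with hu | hu
      · change (if u ∈ D.SX then 0 else w u) = 0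
        rw [if_neg (fun h => hu (D.sx_sub u h)), hw u hu]
      · exact if_pos hu
    · have h1 : a u = 0 := hau u (fun h => hu (D.s_e1 u h))
      have h2 : a (u - (0, 1)) = 0 := by
        apply hau
        intro h
        apply hu
        have := D.s_e1' _ h (by simpa using hY)
        simpa using this
      have h3 := congrFun hb1 u
      rw [bd1_of_mem _ hY, hz1 u hu] at h3
      rw [hcu, hcu, h1, h2]
      linear_combination h3
    · have h1 : a u = 0 := hau u (fun h => hu (D.s_e2 u h))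
      have h2 : a (u - (1, 0)) = 0 := by
        apply hau
        intro h
        apply hu
        have := D.s_e2' _ h (by simpa using hY)
        simpa using this
      have h3 := congrFun hb2 u
      rw [bd2_of_mem _ hY, hz2 u hu] at h3
      rw [hcu, hcu, h1, h2]
      linear_combination h3
  refine ⟨(⟨a, ha⟩, ⟨c, hc⟩), ?_⟩
  apply Subtype.ext
  change bdL D.Y (a + c) = (z₁, z₂)
  rw [hac]
  exact Prod.ext hb1 hb2

/-- cycles of the closed part: 2-chains of the closed part plus relative cycles of the open part -/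
noncomputable def ThetaEquiv : (↥(Wsub k D.SX) × ↥(D.Z2 k)) ≃ₗ[k] ↥(D.K1 k) :=
  LinearEquiv.ofBijective D.Theta ⟨D.Theta_injective, D.Theta_surjective⟩

theorem finrank_K1 : Module.finrank k ↥(D.K1 k) = D.SX.card + Module.finrank k ↥(D.Z2 k) := by
  rw [← D.ThetaEquiv.finrank_eq, Module.finrank_prod, finrank_Wsub]

end Dat

end Groth.Agent.Lib.Helper15.HilbE
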