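import Mathlib
import Groth.Agent.Lib.Helper15.HilbE2

/-!
# A planar cubical complex relative to an up-set: the Euler characteristic identity (helper15)
-/

set_option autoImplicit false
set_option linter.unusedSectionVars false
set_option linter.style.haveILetI false

namespace Groth.Agent.Lib.Helper15.HilbE

open Module

variable {k : Type*} [Field k]

/-- kernels of adjoint maps -/
lemma finrank_ker_adjoint {V E : Type*} [AddCommGroup V] [Module k V] [Module.Finite k V]
    [AddCommGroup E] [Module k E] [Module.Finite k E]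
    (δ : V →ₗ[k] E) (d : E →ₗ[k] V) (BV : V →ₗ[k] V →ₗ[k] k) (BE : E →ₗ[k] E →ₗ[k] k)
    (hadj : ∀ f z, BE (δ f) z = BV f (d z))
    (hBV : ∀ g, (∀ f, BV f g = 0) → g = 0) (hBE : ∀ z, (∀ y, BE y z = 0) → z = 0) :
    finrank k ↥(LinearMap.ker δ) + finrank k E = finrank k ↥(LinearMap.ker d) + finrank k V := by
  have hιV : Function.Injective BV.flip := by
    rw [injective_iff_map_eq_zero]
    intro g hg
    apply hBV
    intro f
    have := LinearMap.congr_fun hg f
    simpa using this
  have hιE : Function.Injective BE.flip := by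
    rw [injective_iff_map_eq_zero]
    intro g hg
    apply hBE
    intro f
    have := LinearMap.congr_fun hg f
    simpa using this
  have hιEs : Function.Surjective BE.flip :=
    (LinearMap.injective_iff_surjective_of_finrank_eq_finrank
      (Subspace.dual_finrank_eq (K := k) (V := E)).symm).1 hιE
  have hcomm : δ.dualMap ∘ₗ BE.flip = BV.flip ∘ₗ d := by
    apply LinearMap.ext
    intro z
    apply LinearMap.ext
    intro f
    simp only [LinearMap.comp_apply, LinearMap.dualMap_apply, LinearMap.flip_apply]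
    exact hadj f z
  have h1 : finrank k ↥(LinearMap.range (δ.dualMap ∘ₗ BE.flip)) =
      finrank k ↥(LinearMap.range δ) := by
    rw [LinearMap.range_comp_of_range_eq_top _ (LinearMap.range_eq_top.2 hιEs),
      LinearMap.finrank_range_dualMap_eq_finrank_range]
  have h2 : LinearMap.ker (BV.flip ∘ₗ d) = LinearMap.ker d := by
    rw [LinearMap.ker_comp, LinearMap.ker_eq_bot.2 hιV, Submodule.comap_bot]
  have h3 := LinearMap.finrank_range_add_finrank_ker (BV.flip ∘ₗ d)
  have h4 := LinearMap.finrank_range_add_finrank_ker δ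
  have h5 := LinearMap.finrank_range_add_finrank_ker d
  rw [← hcomm] at h3
  rw [h1] at h3
  rw [hcomm, h2] at h3
  omega

/-- shifting the summation index -/
lemma sum_shift_eq (s t : Finset (ℤ × ℤ)) (F : ℤ × ℤ → k) (v : ℤ × ℤ)
    (h1 : ∀ u, u ∉ s → F (u + v) = 0) (h2 : ∀ u, u ∉ t → F u = 0) :
    ∑ u ∈ s, F (u + v) = ∑ u ∈ t, F u := by
  rw [← finsum_eq_sum_of_support_subset (fun u => F (u + v)), ← finsum_eq_sum_of_support_subset F]
  · exact finsum_comp_equiv (Equiv.addRight v) (f := F)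
  · intro u hu
    by_contra h
    exact hu (h2 u h)
  · intro u hu
    by_contra h
    exact hu (h1 u h)

lemma sum_eq_of_supp (s t : Finset (ℤ × ℤ)) (F : ℤ × ℤ → k)
    (h1 : ∀ u, u ∉ s → F u = 0) (h2 : ∀ u, u ∉ t → F u = 0) :
    ∑ u ∈ s, F u = ∑ u ∈ t, F u := by
  have := sum_shift_eq s t F 0 (by simpa using h1) h2
  simpa using this

/-- the dot product over a finite set -/
noncomputable def dotOn (s : Finset (ℤ × ℤ)) : (ℤ × ℤ → k) →ₗ[k] (ℤ × ℤ → k) →ₗ[k] k :=
  LinearMap.mk₂ k (fun f g => ∑ u ∈ s, f u * g u)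
    (by intro f f' g; simp [add_mul, Finset.sum_add_distrib])
    (by intro c f g; simp [Finset.mul_sum, mul_assoc])
    (by intro f g g'; simp [mul_add, Finset.sum_add_distrib])
    (by intro c f g; simp [Finset.mul_sum, mul_left_comm])

lemma dotOn_apply (s : Finset (ℤ × ℤ)) (f g : ℤ × ℤ → k) :
    dotOn s f g = ∑ u ∈ s, f u * g u := rfl

open Classical in
lemma dotOn_single (s : Finset (ℤ × ℤ)) (g : ℤ × ℤ → k) {u₀ : ℤ × ℤ} (h : u₀ ∈ s) :
    dotOn s (Pi.single u₀ 1) g = g u₀ := by
  rw [dotOn_apply, Finset.sum_eq_single u₀]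
  · simp
  · intro u _ hu
    simp [Pi.single_apply, hu]
  · intro h'
    exact absurd h h'

namespace Dat

variable (D : Dat)

open Classical in
/-- the coboundary on functions -/
noncomputable def cobd : (ℤ × ℤ → k) →ₗ[k] (ℤ × ℤ → k) × (ℤ × ℤ → k) where
  toFun f := (fun u => if u ∈ D.E1X then f (u + (1, 0)) - f u else 0,
    fun u => if u ∈ D.E2X then f (u + (0, 1)) - f u else 0)
  map_add' f g := by
    apply Prod.ext
    · funext u
      simp only [Pi.add_apply, Prod.fst_add]
      split_ifs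
      · ring
      · simp
    · funext u
      simp only [Pi.add_apply, Prod.snd_add]
      split_ifs
      · ring
      · simp
  map_smul' c f := by
    apply Prod.ext
    · funext u
      simp only [Pi.smul_apply, Prod.smul_fst, smul_eq_mul, RingHom.id_apply]
      split_ifs
      · ring
      · simp
    · funext u
      simp only [Pi.smul_apply, Prod.smul_snd, smul_eq_mul, RingHom.id_apply]
      split_ifs
      · ring
      · simp

open Classical in
/-- the boundary of 1-chains, restricted to the closed part -/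
noncomputable def bdV : (ℤ × ℤ → k) × (ℤ × ℤ → k) →ₗ[k] (ℤ × ℤ → k) where
  toFun z := fun u => if u ∈ D.VX then cyc z.1 z.2 u else 0
  map_add' z z' := by
    funext u
    simp only [Pi.add_apply, Prod.fst_add, Prod.snd_add, cyc]
    split_ifs
    · ring
    · simp
  map_smul' c z := by
    funext u
    simp only [Pi.smul_apply, Prod.smul_fst, Prod.smul_snd, smul_eq_mul, RingHom.id_apply, cyc]
    split_ifs
    · ring
    · simp

/-- the space of 1-chains of the closed part -/
abbrev Esp (k : Type*) [Field k] : Submodule k ((ℤ × ℤ → k) × (ℤ × ℤ → k)) :=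
  (Wsub k D.E1X).prod (Wsub k D.E2X)

/-- coordinates on the space of 1-chains -/
noncomputable def EspEquiv : ↥(D.Esp k) ≃ₗ[k] ↥(Wsub k D.E1X) × ↥(Wsub k D.E2X) where
  toFun z := (⟨z.1.1, z.2.1⟩, ⟨z.1.2, z.2.2⟩)
  map_add' z z' := rfl
  map_smul' c z := rfl
  invFun z := ⟨(z.1.1, z.2.1), ⟨z.1.2, z.2.2⟩⟩
  left_inv z := rfl
  right_inv z := rfl

instance finite_Esp : Module.Finite k ↥(D.Esp k) := Module.Finite.equiv D.EspEquiv.symm

lemma finrank_Esp : finrank k ↥(D.Esp k) = D.E1X.card + D.E2X.card := by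
  rw [D.EspEquiv.finrank_eq, Module.finrank_prod, finrank_Wsub, finrank_Wsub]

/-- the coboundary between the finite-dimensional spaces -/
noncomputable def cobdR : ↥(Wsub k D.VX) →ₗ[k] ↥(D.Esp k) :=
  LinearMap.codRestrict (D.Esp k) (D.cobd ∘ₗ (Wsub k D.VX).subtype) (by
    intro f
    refine ⟨fun u hu => ?_, fun u hu => ?_⟩
    · change (if u ∈ D.E1X then _ else 0) = 0
      rw [if_neg hu]
    · change (if u ∈ D.E2X then _ else 0) = 0
      rw [if_neg hu])

/-- the boundary between the finite-dimensional spaces -/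
noncomputable def bdR : ↥(D.Esp k) →ₗ[k] ↥(Wsub k D.VX) :=
  LinearMap.codRestrict (Wsub k D.VX) (D.bdV ∘ₗ (D.Esp k).subtype) (by
    intro z u hu
    change (if u ∈ D.VX then _ else 0) = 0
    rw [if_neg hu])

/-- the pairing on vertices -/
noncomputable def BV : ↥(Wsub k D.VX) →ₗ[k] ↥(Wsub k D.VX) →ₗ[k] k :=
  (dotOn D.VX).compl₁₂ (Wsub k D.VX).subtype (Wsub k D.VX).subtype

/-- the pairing on edges -/
noncomputable def BE : ↥(D.Esp k) →ₗ[k] ↥(D.Esp k) →ₗ[k] k :=
  (dotOn D.E1X).compl₁₂ ((LinearMap.fst k _ _) ∘ₗ (D.Esp k).subtype)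
      ((LinearMap.fst k _ _) ∘ₗ (D.Esp k).subtype) +
    (dotOn D.E2X).compl₁₂ ((LinearMap.snd k _ _) ∘ₗ (D.Esp k).subtype)
      ((LinearMap.snd k _ _) ∘ₗ (D.Esp k).subtype)

lemma BV_apply (f g : ↥(Wsub k D.VX)) : D.BV f g = ∑ u ∈ D.VX, f.1 u * g.1 u := rfl

lemma BE_apply (y z : ↥(D.Esp k)) :
    D.BE y z = ∑ u ∈ D.E1X, y.1.1 u * z.1.1 u + ∑ u ∈ D.E2X, y.1.2 u * z.1.2 u := rfl

open Classical in
lemma BV_nondeg (g : ↥(Wsub k D.VX)) (h : ∀ f, D.BV f g = 0) : g = 0 := by
  apply Subtype.ext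
  funext u
  by_cases hu : u ∈ D.VX
  · have hmem : (Pi.single u 1 : ℤ × ℤ → k) ∈ Wsub k D.VX := by
      intro v hv
      rw [Pi.single_apply, if_neg]
      rintro rfl
      exact hv hu
    have := h ⟨_, hmem⟩
    change dotOn D.VX (Pi.single u 1) g.1 = 0 at this
    rw [dotOn_single _ _ hu] at this
    exact this
  · exact g.2 u hu

open Classical in
lemma BE_nondeg (z : ↥(D.Esp k)) (h : ∀ y, D.BE y z = 0) : z = 0 := by
  apply Subtype.ext
  apply Prod.ext
  · funext u
    by_cases hu : u ∈ D.E1X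
    · have hmem : ((Pi.single u 1, 0) : (ℤ × ℤ → k) × (ℤ × ℤ → k)) ∈ D.Esp k := by
        refine ⟨fun v hv => ?_, fun v _ => rfl⟩
        change (Pi.single u (1 : k) : ℤ × ℤ → k) v = 0
        rw [Pi.single_apply, if_neg]
        rintro rfl
        exact hv hu
      have := h ⟨_, hmem⟩
      rw [BE_apply] at this
      simp only [Pi.zero_apply, zero_mul, Finset.sum_const_zero, add_zero] at this
      have h2 := dotOn_single D.E1X z.1.1 hu
      rw [dotOn_apply] at h2
      rw [h2] at this
      exact this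
    · exact z.2.1 u hu
  · funext u
    by_cases hu : u ∈ D.E2X
    · have hmem : ((0, Pi.single u 1) : (ℤ × ℤ → k) × (ℤ × ℤ → k)) ∈ D.Esp k := by
        refine ⟨fun v _ => rfl, fun v hv => ?_⟩
        change (Pi.single u (1 : k) : ℤ × ℤ → k) v = 0
        rw [Pi.single_apply, if_neg]
        rintro rfl
        exact hv hu
      have := h ⟨_, hmem⟩
      rw [BE_apply] at this
      simp only [Pi.zero_apply, zero_mul, Finset.sum_const_zero, zero_add] at this
      have h2 := dotOn_single D.E2X z.1.2 hu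
      rw [dotOn_apply] at h2
      rw [h2] at this
      exact this
    · exact z.2.2 u hu

lemma adjoint (f : ↥(Wsub k D.VX)) (z : ↥(D.Esp k)) :
    D.BE (D.cobdR f) z = D.BV f (D.bdR z) := by
  obtain ⟨f, hf⟩ := f
  obtain ⟨⟨z₁, z₂⟩, hz1, hz2⟩ := z
  change ∀ u, u ∉ D.E1X → z₁ u = 0 at hz1
  change ∀ u, u ∉ D.E2X → z₂ u = 0 at hz2
  change ∀ u, u ∉ D.VX → f u = 0 at hf
  rw [BE_apply, BV_apply]
  change ∑ u ∈ D.E1X, (if u ∈ D.E1X then f (u + (1, 0)) - f u else 0) * z₁ u +
    ∑ u ∈ D.E2X, (if u ∈ D.E2X then f (u + (0, 1)) - f u else 0) * z₂ u =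
    ∑ u ∈ D.VX, f u * (if u ∈ D.VX then cyc z₁ z₂ u else 0)
  have e1 : ∑ u ∈ D.E1X, (if u ∈ D.E1X then f (u + (1, 0)) - f u else 0) * z₁ u =
      ∑ u ∈ D.VX, f u * z₁ (u - (1, 0)) - ∑ u ∈ D.VX, f u * z₁ u := by
    rw [Finset.sum_congr rfl (fun u hu => by rw [if_pos hu, sub_mul])]
    rw [Finset.sum_sub_distrib]
    congr 1
    · have := sum_shift_eq D.E1X D.VX (fun v => f v * z₁ (v - (1, 0))) (1, 0)
        (by intro u hu; simp [hz1 u hu]) (by intro u hu; simp [hf u hu])
      simpa using this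
    · exact sum_eq_of_supp _ _ (fun u => f u * z₁ u) (by intro u hu; simp [hz1 u hu])
        (by intro u hu; simp [hf u hu])
  have e2 : ∑ u ∈ D.E2X, (if u ∈ D.E2X then f (u + (0, 1)) - f u else 0) * z₂ u =
      ∑ u ∈ D.VX, f u * z₂ (u - (0, 1)) - ∑ u ∈ D.VX, f u * z₂ u := by
    rw [Finset.sum_congr rfl (fun u hu => by rw [if_pos hu, sub_mul])]
    rw [Finset.sum_sub_distrib]
    congr 1
    · have := sum_shift_eq D.E2X D.VX (fun v => f v * z₂ (v - (0, 1))) (0, 1)
        (by intro u hu; simp [hz2 u hu]) (by intro u hu; simp [hf u hu])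
      simpa using this
    · exact sum_eq_of_supp _ _ (fun u => f u * z₂ u) (by intro u hu; simp [hz2 u hu])
        (by intro u hu; simp [hf u hu])
  have e3 : ∑ u ∈ D.VX, f u * (if u ∈ D.VX then cyc z₁ z₂ u else 0) =
      ∑ u ∈ D.VX, f u * cyc z₁ z₂ u :=
    Finset.sum_congr rfl (fun u hu => by rw [if_pos hu])
  rw [e1, e2, e3]
  unfold cyc
  simp only [mul_add, mul_sub, Finset.sum_add_distrib, Finset.sum_sub_distrib]
  ring

lemma ker_cobdR : LinearMap.ker (D.cobdR (k := k)) =
    Submodule.comap (Wsub k D.VX).subtype (D.Z0 k) := by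
  ext f
  rw [LinearMap.mem_ker, Submodule.mem_comap]
  constructor
  · intro h
    have h' : D.cobd (k := k) f.1 = 0 := congrArg Subtype.val h
    refine ⟨f.2, fun u hu => ?_, fun u hu => ?_⟩
    · have := congrFun (congrArg Prod.fst h') u
      change (if u ∈ D.E1X then f.1 (u + (1, 0)) - f.1 u else 0) = 0 at this
      rw [if_pos hu] at this
      exact sub_eq_zero.1 this
    · have := congrFun (congrArg Prod.snd h') u
      change (if u ∈ D.E2X then f.1 (u + (0, 1)) - f.1 u else 0) = 0 at this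
      rw [if_pos hu] at this
      exact sub_eq_zero.1 this
  · rintro ⟨-, h2, h3⟩
    apply Subtype.ext
    apply Prod.ext
    · funext u
      change (if u ∈ D.E1X then f.1 (u + (1, 0)) - f.1 u else 0) = 0
      split_ifs with hu
      · exact sub_eq_zero.2 (h2 u hu)
      · rfl
    · funext u
      change (if u ∈ D.E2X then f.1 (u + (0, 1)) - f.1 u else 0) = 0
      split_ifs with hu
      · exact sub_eq_zero.2 (h3 u hu)
      · rfl

lemma ker_bdR : LinearMap.ker (D.bdR (k := k)) =
    Submodule.comap (D.Esp k).subtype (D.K1 k) := by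
  ext z
  rw [LinearMap.mem_ker, Submodule.mem_comap]
  constructor
  · intro h
    have h' : D.bdV (k := k) z.1 = 0 := congrArg Subtype.val h
    refine ⟨z.2.1, z.2.2, fun u hu => ?_⟩
    by_cases hV : u ∈ D.VX
    · have := congrFun h' u
      change (if u ∈ D.VX then cyc z.1.1 z.1.2 u else 0) = 0 at this
      rw [if_pos hV] at this
      exact this
    · unfold cyc
      have a1 : z.1.1 (u - (1, 0)) = 0 := by
        apply z.2.1
        intro hmem
        apply hV
        have := D.e1_v' _ hmem (by simpa using hu)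
        simpa using this
      have a2 : z.1.1 u = 0 := z.2.1 u (fun hmem => hV (D.e1_v u hmem))
      have a3 : z.1.2 (u - (0, 1)) = 0 := by
        apply z.2.2
        intro hmem
        apply hV
        have := D.e2_v' _ hmem (by simpa using hu)
        simpa using this
      have a4 : z.1.2 u = 0 := z.2.2 u (fun hmem => hV (D.e2_v u hmem))
      change z.1.1 (u - (1, 0)) - z.1.1 u + z.1.2 (u - (0, 1)) - z.1.2 u = 0
      rw [a1, a2, a3, a4]
      ring
  · rintro ⟨-, -, h3⟩
    apply Subtype.ext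
    funext u
    change (if u ∈ D.VX then cyc z.1.1 z.1.2 u else 0) = 0
    split_ifs with hu
    · exact h3 u (D.vx_sub u hu)
    · rfl

lemma K1_le_Esp : D.K1 k ≤ D.Esp k := fun _ hz => ⟨hz.1, hz.2.1⟩

/-- the Euler characteristic identity -/
theorem euler :
    finrank k ↥(D.Z0 k) + D.E1X.card + D.E2X.card =
      D.VX.card + D.SX.card + finrank k ↥(D.Z2 k) := by
  have h := finrank_ker_adjoint (D.cobdR (k := k)) D.bdR D.BV D.BE D.adjoint D.BV_nondeg
    D.BE_nondeg
  rw [D.ker_cobdR, D.ker_bdR, (Submodule.comapSubtypeEquivOfLe D.Z0_le_Wsub).finrank_eq,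
    (Submodule.comapSubtypeEquivOfLe D.K1_le_Esp).finrank_eq, D.finrank_Esp, finrank_Wsub,
    D.finrank_K1] at h
  omega

end Dat

end Groth.Agent.Lib.Helper15.HilbE
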