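import Mathlib
import Groth.Agent.Lib.Helper15.HilbC2
import Groth.Agent.Lib.Helper15.HilbE3

/-!
# Heights on integer points and the combinatorial data of a monomial ideal (helper15)
-/

set_option backward.isDefEq.respectTransparency.types false
set_option autoImplicit false
set_option linter.unusedSectionVars false
set_option linter.style.haveILetI false

universe u

namespace Groth.Agent.Lib.Helper15.HilbT

open MvPolynomial W4c1hilbpn Groth.Agent.Lib.Helper8.Hilb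

variable {k : Type u} [Field k] (I : Ideal (MvPolynomial (Fin 3) k)) (e : Equiv.Perm (Fin 3))

/-- the staircase height on integer points (junk outside the quadrant) -/
noncomputable def hZ (u : ℤ × ℤ) : ℤ := (hE I e u.1.toNat u.2.toNat : ℤ)

/-- the quadrant -/
def NN (u : ℤ × ℤ) : Prop := 0 ≤ u.1 ∧ 0 ≤ u.2

lemma hZ_nonneg (u : ℤ × ℤ) : 0 ≤ hZ I e u := by
  unfold hZ
  positivity

variable {I}

lemma hZ_anti (hI : IsMonomial I) [Module.Finite k (MvPolynomial (Fin 3) k ⧸ I)]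
    {u d : ℤ × ℤ} (hu : NN u) (hd : NN d) : hZ I e (u + d) ≤ hZ I e u := by
  unfold hZ
  have := hE_anti e hI (a := u.1.toNat) (b := u.2.toNat) (a' := (u + d).1.toNat)
    (b' := (u + d).2.toNat)
    (by simp only [Prod.fst_add]; have := hu.1; have := hd.1; omega)
    (by simp only [Prod.snd_add]; have := hu.2; have := hd.2; omega)
  exact_mod_cast this

lemma hZ_eq_zero (hI : IsMonomial I) [Module.Finite k (MvPolynomial (Fin 3) k ⧸ I)]
    {u : ℤ × ℤ} (h : (bnd hI : ℤ) ≤ u.1 ∨ (bnd hI : ℤ) ≤ u.2) : hZ I e u = 0 := by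
  unfold hZ
  rcases h with h | h
  · rw [hE_eq_zero_left e hI (by omega)]
    rfl
  · rw [hE_eq_zero_right e hI (by omega)]
    rfl

variable (I)

/-- membership of an integer point in the exponent set of the ideal -/
def inI (γ : Fin 3 → ℤ) : Prop := (∀ l, 0 ≤ γ l) ∧ toN γ ∈ exps I

variable {I}

lemma mem_region_iff' (α γ : Fin 3 → ℤ) : γ ∈ region I α ↔ inI I (γ - α) ∧ ¬ inI I γ := by
  rw [mem_region_iff]
  constructor
  · rintro ⟨h1, h2, h3⟩
    exact ⟨⟨h1, h2⟩, h3⟩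
  · rintro ⟨⟨h1, h2⟩, h3⟩
    exact ⟨h1, h2, h3⟩

lemma inI_pt (hI : IsMonomial I) [Module.Finite k (MvPolynomial (Fin 3) k ⧸ I)] (a b z : ℤ) :
    inI I (pt e a b z) ↔ 0 ≤ a ∧ 0 ≤ b ∧ hZ I e (a, b) ≤ z := by
  unfold inI
  rw [forall_fin3 e]
  simp only [pt_e0, pt_e1, pt_e2]
  constructor
  · rintro ⟨⟨ha, hb, hz⟩, hmem⟩
    refine ⟨ha, hb, ?_⟩
    have h1 : toN (pt e a b z) = ptN e a.toNat b.toNat z.toNat := by
      apply ptN_ext e
      · rw [ptN_e0, toN_apply, pt_e0]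
      · rw [ptN_e1, toN_apply, pt_e1]
      · rw [ptN_e2, toN_apply, pt_e2]
    rw [h1, ptN_mem_iff e hI] at hmem
    unfold hZ
    simp only
    omega
  · rintro ⟨ha, hb, hz⟩
    have hz0 : 0 ≤ z := le_trans (hZ_nonneg I e _) hz
    refine ⟨⟨ha, hb, hz0⟩, ?_⟩
    have h1 : toN (pt e a b z) = ptN e a.toNat b.toNat z.toNat := by
      apply ptN_ext e
      · rw [ptN_e0, toN_apply, pt_e0]
      · rw [ptN_e1, toN_apply, pt_e1]
      · rw [ptN_e2, toN_apply, pt_e2]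
    rw [h1, ptN_mem_iff e hI]
    unfold hZ at hz
    simp only at hz
    omega

lemma pt_sub (a b c a' b' c' : ℤ) :
    pt e a b c - pt e a' b' c' = pt e (a - a') (b - b') (c - c') := by
  apply pt_ext e <;> simp

lemma inReg_iff (hI : IsMonomial I) [Module.Finite k (MvPolynomial (Fin 3) k ⧸ I)]
    (a₀ b₀ c₀ : ℤ) (s u : ℤ × ℤ) (z : ℤ) :
    inReg I e (pt e a₀ b₀ c₀) s u z ↔
      (0 ≤ u.1 + s.1 - a₀ ∧ 0 ≤ u.2 + s.2 - b₀ ∧
        hZ I e (u.1 + s.1 - a₀, u.2 + s.2 - b₀) ≤ z - c₀) ∧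
      ¬(0 ≤ u.1 + s.1 ∧ 0 ≤ u.2 + s.2 ∧ hZ I e (u.1 + s.1, u.2 + s.2) ≤ z) := by
  unfold inReg cpt
  rw [mem_region_iff', pt_sub, inI_pt e hI, inI_pt e hI]

/-- the column over `u` for a multidegree of sign `ppn` -/
lemma inReg_ppn (hI : IsMonomial I) [Module.Finite k (MvPolynomial (Fin 3) k ⧸ I)]
    {i j : ℤ} (hi : 0 ≤ i) (hj : 0 ≤ j) (t : ℤ) (u : ℤ × ℤ) (z : ℤ) :
    inReg I e (pt e i j (-t)) (i, j) u z ↔
      NN u ∧ hZ I e u - t ≤ z ∧ z < hZ I e (u + (i, j)) := by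
  rw [inReg_iff e hI]
  simp only [add_sub_cancel_right, sub_neg_eq_add]
  have h1 : hZ I e (u.1, u.2) = hZ I e u := rfl
  have h2 : hZ I e (u.1 + i, u.2 + j) = hZ I e (u + (i, j)) := rfl
  rw [h1, h2]
  unfold NN
  constructor
  · rintro ⟨⟨a1, a2, a3⟩, a4⟩
    refine ⟨⟨a1, a2⟩, by omega, ?_⟩
    by_contra hcon
    push Not at hcon
    exact a4 ⟨by omega, by omega, hcon⟩
  · rintro ⟨⟨a1, a2⟩, a3, a4⟩
    refine ⟨⟨a1, a2, by omega⟩, ?_⟩
    rintro ⟨-, -, b3⟩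
    omega

/-- the column over `u` for a multidegree of sign `nnp` -/
lemma inReg_nnp (hI : IsMonomial I) [Module.Finite k (MvPolynomial (Fin 3) k ⧸ I)]
    (i j c : ℤ) (u : ℤ × ℤ) (z : ℤ) :
    inReg I e (pt e (-i - 1) (-j - 1) c) (0, 0) u z ↔
      (0 ≤ u.1 + i + 1 ∧ 0 ≤ u.2 + j + 1 ∧ hZ I e (u + (i + 1, j + 1)) + c ≤ z) ∧
        ¬(NN u ∧ hZ I e u ≤ z) := by
  rw [inReg_iff e hI]
  simp only [add_zero]
  have h1 : hZ I e (u.1, u.2) = hZ I e u := rfl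
  have h2 : hZ I e (u.1 - (-i - 1), u.2 - (-j - 1)) = hZ I e (u + (i + 1, j + 1)) := by
    congr 1
    apply Prod.ext
    · simp only [Prod.fst_add]; ring
    · simp only [Prod.snd_add]; ring
  rw [h1, h2]
  unfold NN
  constructor
  · rintro ⟨⟨a1, a2, a3⟩, a4⟩
    refine ⟨⟨by omega, by omega, by omega⟩, ?_⟩
    rintro ⟨⟨b1, b2⟩, b3⟩
    exact a4 ⟨b1, b2, b3⟩
  · rintro ⟨⟨a1, a2, a3⟩, a4⟩
    refine ⟨⟨by omega, by omega, by omega⟩, ?_⟩
    rintro ⟨b1, b2, b3⟩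
    exact a4 ⟨⟨b1, b2⟩, b3⟩

section data

variable (hI : IsMonomial I) [Module.Finite k (MvPolynomial (Fin 3) k ⧸ I)]

/-- the box containing all points of positive height -/
noncomputable def box : Finset (ℤ × ℤ) :=
  (Finset.Ico 0 (bnd hI : ℤ)) ×ˢ (Finset.Ico 0 (bnd hI : ℤ))

lemma mem_box (u : ℤ × ℤ) : u ∈ box hI ↔ NN u ∧ u.1 < bnd hI ∧ u.2 < bnd hI := by
  unfold box NN
  rw [Finset.mem_product, Finset.mem_Ico, Finset.mem_Ico]
  tauto

lemma mem_box_of_pos {u : ℤ × ℤ} (hu : NN u) (h : 1 ≤ hZ I e u) : u ∈ box hI := by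
  rw [mem_box]
  refine ⟨hu, ?_, ?_⟩
  · by_contra hcon
    have := hZ_eq_zero e hI (u := u) (Or.inl (by omega))
    omega
  · by_contra hcon
    have := hZ_eq_zero e hI (u := u) (Or.inr (by omega))
    omega

open Classical in
/-- the points of height at least `t` -/
noncomputable def Yt (t : ℤ) : Finset (ℤ × ℤ) := (box hI).filter (fun u => t ≤ hZ I e u)

open Classical in
/-- the cells of offset `d` present at threshold `t` -/
noncomputable def Xt (t : ℤ) (d : ℤ × ℤ) : Finset (ℤ × ℤ) :=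
  (box hI).filter (fun u => t ≤ hZ I e u ∧ hZ I e u < hZ I e (u + d) + t)

lemma mem_Yt {t : ℤ} (ht : 1 ≤ t) (u : ℤ × ℤ) : u ∈ Yt e hI t ↔ NN u ∧ t ≤ hZ I e u := by
  unfold Yt
  rw [Finset.mem_filter]
  constructor
  · rintro ⟨h1, h2⟩
    exact ⟨((mem_box hI u).1 h1).1, h2⟩
  · rintro ⟨h1, h2⟩
    exact ⟨mem_box_of_pos e hI h1 (by omega), h2⟩

lemma mem_Xt {t : ℤ} (ht : 1 ≤ t) (d u : ℤ × ℤ) :
    u ∈ Xt e hI t d ↔ NN u ∧ t ≤ hZ I e u ∧ hZ I e u < hZ I e (u + d) + t := by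
  unfold Xt
  rw [Finset.mem_filter]
  constructor
  · rintro ⟨h1, h2⟩
    exact ⟨((mem_box hI u).1 h1).1, h2⟩
  · rintro ⟨h1, h2⟩
    exact ⟨mem_box_of_pos e hI h1 (by omega), h2⟩

include hI in
lemma hZ_add_le {u d d' : ℤ × ℤ} (hu : NN u) (hd : NN d) (hd' : NN d') :
    hZ I e (u + (d + d')) ≤ hZ I e (u + d) := by
  rw [← add_assoc]
  apply hZ_anti e hI _ hd'
  exact ⟨add_nonneg hu.1 hd.1, add_nonneg hu.2 hd.2⟩

/-- the combinatorial data attached to `(i, j)` and the threshold `t` -/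
noncomputable def datOf {i j : ℤ} (hi : 0 ≤ i) (hj : 0 ≤ j) {t : ℤ} (ht : 1 ≤ t) : HilbE.Dat where
  Y := Yt e hI t
  VX := Xt e hI t (i, j)
  E1X := Xt e hI t (i + 1, j)
  E2X := Xt e hI t (i, j + 1)
  SX := Xt e hI t (i + 1, j + 1)
  conv := by
    intro u hu huu
    rw [mem_Yt e hI ht] at hu huu ⊢
    rw [mem_Yt e hI ht]
    obtain ⟨⟨a1, a2⟩, a3⟩ := hu
    obtain ⟨⟨b1, b2⟩, b3⟩ := huu
    simp only [Prod.fst_sub, Prod.snd_sub, sub_zero] at b1 b2
    have hn1 : NN (u - (1, 0)) := ⟨by simpa using b1, by simpa using a2⟩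
    have hn2 : NN (u - (0, 1)) := ⟨by simpa using a1, by simpa using b2⟩
    refine ⟨⟨hn1, ?_⟩, ⟨hn2, ?_⟩⟩
    · have := hZ_anti e hI hn1 (d := (1, 0)) ⟨by norm_num, by norm_num⟩
      rw [sub_add_cancel] at this
      omega
    · have := hZ_anti e hI hn2 (d := (0, 1)) ⟨by norm_num, by norm_num⟩
      rw [sub_add_cancel] at this
      omega
  vx_sub := by
    intro u hu
    rw [mem_Xt e hI ht] at hu
    rw [mem_Yt e hI ht]
    exact ⟨hu.1, hu.2.1⟩
  sx_sub := by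
    intro u hu
    rw [mem_Xt e hI ht] at hu
    rw [mem_Yt e hI ht]
    exact ⟨hu.1, hu.2.1⟩
  s_e1 := by
    intro u hu
    rw [mem_Xt e hI ht] at hu ⊢
    refine ⟨hu.1, hu.2.1, ?_⟩
    have := hZ_add_le e hI (u := u) (d := (i + 1, j)) (d' := (0, 1)) hu.1
      ⟨by simp; omega, by simpa using hj⟩ ⟨by norm_num, by norm_num⟩
    have h2 : ((i + 1, j) : ℤ × ℤ) + (0, 1) = (i + 1, j + 1) := by simp
    rw [h2] at this
    omega
  s_e2 := by
    intro u hu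
    rw [mem_Xt e hI ht] at hu ⊢
    refine ⟨hu.1, hu.2.1, ?_⟩
    have := hZ_add_le e hI (u := u) (d := (i, j + 1)) (d' := (1, 0)) hu.1
      ⟨by simpa using hi, by simp; omega⟩ ⟨by norm_num, by norm_num⟩
    have h2 : ((i, j + 1) : ℤ × ℤ) + (1, 0) = (i + 1, j + 1) := by simp
    rw [h2] at this
    omega
  s_e2' := by
    intro u hu huY
    rw [mem_Xt e hI ht] at hu ⊢
    rw [mem_Yt e hI ht] at huY
    refine ⟨huY.1, huY.2, ?_⟩
    have h1 := hZ_anti e hI hu.1 (d := (1, 0)) ⟨by norm_num, by norm_num⟩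
    have h2 : u + (1, 0) + (i, j + 1) = u + (i + 1, j + 1) := by
      apply Prod.ext <;> simp <;> ring
    rw [h2]
    omega
  s_e1' := by
    intro u hu huY
    rw [mem_Xt e hI ht] at hu ⊢
    rw [mem_Yt e hI ht] at huY
    refine ⟨huY.1, huY.2, ?_⟩
    have h1 := hZ_anti e hI hu.1 (d := (0, 1)) ⟨by norm_num, by norm_num⟩
    have h2 : u + (0, 1) + (i + 1, j) = u + (i + 1, j + 1) := by
      apply Prod.ext <;> simp <;> ring
    rw [h2]
    omega
  e1_v := by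
    intro u hu
    rw [mem_Xt e hI ht] at hu ⊢
    refine ⟨hu.1, hu.2.1, ?_⟩
    have := hZ_add_le e hI (u := u) (d := (i, j)) (d' := (1, 0)) hu.1
      ⟨by simpa using hi, by simpa using hj⟩ ⟨by norm_num, by norm_num⟩
    have h2 : ((i, j) : ℤ × ℤ) + (1, 0) = (i + 1, j) := by simp
    rw [h2] at this
    omega
  e1_v' := by
    intro u hu huY
    rw [mem_Xt e hI ht] at hu ⊢
    rw [mem_Yt e hI ht] at huY
    refine ⟨huY.1, huY.2, ?_⟩
    have h1 := hZ_anti e hI hu.1 (d := (1, 0)) ⟨by norm_num, by norm_num⟩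
    have h2 : u + (1, 0) + (i, j) = u + (i + 1, j) := by
      apply Prod.ext <;> simp <;> ring
    rw [h2]
    omega
  e2_v := by
    intro u hu
    rw [mem_Xt e hI ht] at hu ⊢
    refine ⟨hu.1, hu.2.1, ?_⟩
    have := hZ_add_le e hI (u := u) (d := (i, j)) (d' := (0, 1)) hu.1
      ⟨by simpa using hi, by simpa using hj⟩ ⟨by norm_num, by norm_num⟩
    have h2 : ((i, j) : ℤ × ℤ) + (0, 1) = (i, j + 1) := by simp
    rw [h2] at this
    omega
  e2_v' := by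
    intro u hu huY
    rw [mem_Xt e hI ht] at hu ⊢
    rw [mem_Yt e hI ht] at huY
    refine ⟨huY.1, huY.2, ?_⟩
    have h1 := hZ_anti e hI hu.1 (d := (0, 1)) ⟨by norm_num, by norm_num⟩
    have h2 : u + (0, 1) + (i, j) = u + (i, j + 1) := by
      apply Prod.ext <;> simp <;> ring
    rw [h2]
    omega

end data

end Groth.Agent.Lib.Helper15.HilbT
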