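import Mathlib
import Groth.Agent.Lib.Helper15.HilbC3

/-!
# The column models of the pieces of sign `ppn` and `nnp` (helper15)
-/

set_option backward.isDefEq.respectTransparency.types false
set_option autoImplicit false
set_option linter.unusedSectionVars false
set_option linter.style.haveILetI false

universe u

namespace Groth.Agent.Lib.Helper15.HilbT

open MvPolynomial W4c1hilbpn Groth.Agent.Lib.Helper8.Hilb

variable {k : Type u} [Field k] {I : Ideal (MvPolynomial (Fin 3) k)} (e : Equiv.Perm (Fin 3))
  (hI : IsMonomial I) [Module.Finite k (MvPolynomial (Fin 3) k ⧸ I)]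

theorem colModel_ppn {i j : ℤ} (hi : 0 ≤ i) (hj : 0 ≤ j) {t : ℤ} (ht : 1 ≤ t) :
    colModel I e (pt e i j (-t)) (i, j) = (datOf e hI hi hj ht).Z0 k := by
  have hij : NN ((i, j) : ℤ × ℤ) := ⟨hi, hj⟩
  have h10 : NN ((1, 0) : ℤ × ℤ) := ⟨by norm_num, by norm_num⟩
  have h01 : NN ((0, 1) : ℤ × ℤ) := ⟨by norm_num, by norm_num⟩
  apply le_antisymm
  · rintro f ⟨f1, f2, f3, f4⟩
    refine ⟨fun u hu => ?_, fun u hu => ?_, fun u hu => ?_⟩
    · change u ∉ Xt e hI t (i, j) at hu
      rw [mem_Xt e hI ht] at hu
      by_cases hcol : ∃ z, inReg I e (pt e i j (-t)) (i, j) u z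
      · obtain ⟨z, hz⟩ := hcol
        rw [inReg_ppn e hI hi hj] at hz
        obtain ⟨a1, a2, a3⟩ := hz
        have hlt : hZ I e u < t := by
          by_contra hcon
          push Not at hcon
          exact hu ⟨a1, hcon, by omega⟩
        have hz' : inReg I e (pt e i j (-t)) (i, j) u (hZ I e u - t) := by
          rw [inReg_ppn e hI hi hj]
          refine ⟨a1, le_refl _, ?_⟩
          have := hZ_nonneg I e (u + (i, j))
          omega
        apply f2 u _ hz'
        intro hnn
        have := hnn (e 2)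
        simp only [cpt, pt_e2] at this
        omega
      · push Not at hcol
        exact f1 u hcol
    · change u ∈ Xt e hI t (i + 1, j) at hu
      rw [mem_Xt e hI ht] at hu
      obtain ⟨a1, a2, a3⟩ := hu
      have hz1 : inReg I e (pt e i j (-t)) (i, j) u (hZ I e u - t) := by
        rw [inReg_ppn e hI hi hj]
        refine ⟨a1, le_refl _, ?_⟩
        have := hZ_add_le e hI (u := u) (d := (i, j)) (d' := (1, 0)) a1 hij h10
        have h2 : ((i, j) : ℤ × ℤ) + (1, 0) = (i + 1, j) := by simp
        rw [h2] at this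
        omega
      have hz2 : inReg I e (pt e i j (-t)) (i, j) (u + (1, 0)) (hZ I e u - t) := by
        rw [inReg_ppn e hI hi hj]
        refine ⟨⟨add_nonneg a1.1 h10.1, add_nonneg a1.2 h10.2⟩, ?_, ?_⟩
        · have := hZ_anti e hI a1 h10
          omega
        · have h2 : u + (1, 0) + (i, j) = u + (i + 1, j) := by
            apply Prod.ext <;> simp <;> ring
          rw [h2]
          omega
      exact (f3 u _ hz1 hz2).symm
    · change u ∈ Xt e hI t (i, j + 1) at hu
      rw [mem_Xt e hI ht] at hu
      obtain ⟨a1, a2, a3⟩ := hu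
      have hz1 : inReg I e (pt e i j (-t)) (i, j) u (hZ I e u - t) := by
        rw [inReg_ppn e hI hi hj]
        refine ⟨a1, le_refl _, ?_⟩
        have := hZ_add_le e hI (u := u) (d := (i, j)) (d' := (0, 1)) a1 hij h01
        have h2 : ((i, j) : ℤ × ℤ) + (0, 1) = (i, j + 1) := by simp
        rw [h2] at this
        omega
      have hz2 : inReg I e (pt e i j (-t)) (i, j) (u + (0, 1)) (hZ I e u - t) := by
        rw [inReg_ppn e hI hi hj]
        refine ⟨⟨add_nonneg a1.1 h01.1, add_nonneg a1.2 h01.2⟩, ?_, ?_⟩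
        · have := hZ_anti e hI a1 h01
          omega
        · have h2 : u + (0, 1) + (i, j) = u + (i, j + 1) := by
            apply Prod.ext <;> simp <;> ring
          rw [h2]
          omega
      exact (f4 u _ hz1 hz2).symm
  · rintro f ⟨f1, f2, f3⟩
    change ∀ u, u ∉ Xt e hI t (i, j) → f u = 0 at f1
    change ∀ u ∈ Xt e hI t (i + 1, j), f (u + (1, 0)) = f u at f2
    change ∀ u ∈ Xt e hI t (i, j + 1), f (u + (0, 1)) = f u at f3
    refine ⟨fun u hu => ?_, fun u z hz hneg => ?_, fun u z hz hz' => ?_, fun u z hz hz' => ?_⟩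
    · apply f1
      rw [mem_Xt e hI ht]
      rintro ⟨a1, a2, a3⟩
      apply hu (hZ I e u - t)
      rw [inReg_ppn e hI hi hj]
      exact ⟨a1, le_refl _, by omega⟩
    · apply f1
      rw [mem_Xt e hI ht]
      rintro ⟨a1, a2, a3⟩
      rw [inReg_ppn e hI hi hj] at hz
      apply hneg
      rw [forall_fin3 e]
      simp only [cpt, pt_e0, pt_e1, pt_e2]
      refine ⟨add_nonneg a1.1 hi, add_nonneg a1.2 hj, ?_⟩
      omega
    · rw [inReg_ppn e hI hi hj] at hz hz'
      obtain ⟨a1, a2, a3⟩ := hz
      obtain ⟨b1, b2, b3⟩ := hz'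
      have h2 : u + (1, 0) + (i, j) = u + (i + 1, j) := by
        apply Prod.ext <;> simp <;> ring
      rw [h2] at b3
      by_cases hlt : t ≤ hZ I e u
      · exact (f2 u ((mem_Xt e hI ht _ u).2 ⟨a1, hlt, by omega⟩)).symm
      · have h3 := hZ_anti e hI a1 h10
        rw [f1 u (fun h => hlt ((mem_Xt e hI ht _ u).1 h).2.1),
          f1 (u + (1, 0)) (fun h => by have := ((mem_Xt e hI ht _ _).1 h).2.1; omega)]
    · rw [inReg_ppn e hI hi hj] at hz hz'
      obtain ⟨a1, a2, a3⟩ := hz
      obtain ⟨b1, b2, b3⟩ := hz'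
      have h2 : u + (0, 1) + (i, j) = u + (i, j + 1) := by
        apply Prod.ext <;> simp <;> ring
      rw [h2] at b3
      by_cases hlt : t ≤ hZ I e u
      · exact (f3 u ((mem_Xt e hI ht _ u).2 ⟨a1, hlt, by omega⟩)).symm
      · have h3 := hZ_anti e hI a1 h01
        rw [f1 u (fun h => hlt ((mem_Xt e hI ht _ u).1 h).2.1),
          f1 (u + (0, 1)) (fun h => by have := ((mem_Xt e hI ht _ _).1 h).2.1; omega)]

theorem colModel_nnp {i j : ℤ} (hi : 0 ≤ i) (hj : 0 ≤ j) {t : ℤ} (ht : 1 ≤ t) :
    colModel I e (pt e (-i - 1) (-j - 1) (t - 1)) (0, 0) = (datOf e hI hi hj ht).Z2 k := by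
  have h10 : NN ((1, 0) : ℤ × ℤ) := ⟨by norm_num, by norm_num⟩
  have h01 : NN ((0, 1) : ℤ × ℤ) := ⟨by norm_num, by norm_num⟩
  have hS : NN ((i + 1, j + 1) : ℤ × ℤ) := ⟨by simp; omega, by simp; omega⟩
  apply le_antisymm
  · rintro g ⟨g1, g2, g3, g4⟩
    refine ⟨fun u hu => ?_, fun u hY hu => ?_, fun u hY hu => ?_⟩
    · change (u ∉ Yt e hI t ∨ u ∈ Xt e hI t (i + 1, j + 1)) at hu
      rw [mem_Yt e hI ht, mem_Xt e hI ht] at hu
      by_cases hcol : ∃ z, inReg I e (pt e (-i - 1) (-j - 1) (t - 1)) (0, 0) u z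
      · obtain ⟨z, hz⟩ := hcol
        have hz0 := hz
        rw [inReg_nnp e hI] at hz
        obtain ⟨⟨a1, a2, a3⟩, a4⟩ := hz
        by_cases hnn : NN u
        · exfalso
          have hlt : z < hZ I e u := by
            by_contra hcon
            push Not at hcon
            exact a4 ⟨hnn, hcon⟩
          rcases hu with hu | hu
          · have := hZ_nonneg I e (u + (i + 1, j + 1))
            exact hu ⟨hnn, by omega⟩
          · omega
        · apply g2 u z hz0
          intro hall
          apply hnn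
          rw [forall_fin3 e] at hall
          simp only [cpt, pt_e0, pt_e1, add_zero] at hall
          exact ⟨hall.1, hall.2.1⟩
      · push Not at hcol
        exact g1 u hcol
    · change u ∈ Yt e hI t at hY
      change u ∉ Xt e hI t (i + 1, j) at hu
      rw [mem_Yt e hI ht] at hY
      rw [mem_Xt e hI ht] at hu
      obtain ⟨a1, a2⟩ := hY
      have a3 : hZ I e (u + (i + 1, j)) + t ≤ hZ I e u := by
        by_contra hcon
        push Not at hcon
        exact hu ⟨a1, a2, hcon⟩
      have hz1 : inReg I e (pt e (-i - 1) (-j - 1) (t - 1)) (0, 0) u (hZ I e u - 1) := by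
        rw [inReg_nnp e hI]
        refine ⟨⟨by have := a1.1; omega, by have := a1.2; omega, ?_⟩, ?_⟩
        · have := hZ_add_le e hI (u := u) (d := (i + 1, j)) (d' := (0, 1)) a1
            ⟨by simp; omega, by simpa using hj⟩ h01
          have h2 : ((i + 1, j) : ℤ × ℤ) + (0, 1) = (i + 1, j + 1) := by simp
          rw [h2] at this
          omega
        · rintro ⟨-, h⟩
          omega
      have hz2 : inReg I e (pt e (-i - 1) (-j - 1) (t - 1)) (0, 0) (u - (0, 1))
          (hZ I e u - 1) := by
        rw [inReg_nnp e hI]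
        refine ⟨⟨by simp; have := a1.1; omega, by simp; have := a1.2; omega, ?_⟩, ?_⟩
        · have h2 : u - (0, 1) + (i + 1, j + 1) = u + (i + 1, j) := by
            apply Prod.ext <;> simp <;> ring
          rw [h2]
          omega
        · rintro ⟨hn, h⟩
          have := hZ_anti e hI hn h01
          rw [sub_add_cancel] at this
          omega
      have := g4 (u - (0, 1)) _ hz2 (by rw [sub_add_cancel]; exact hz1)
      rw [sub_add_cancel] at this
      exact this.symm
    · change u ∈ Yt e hI t at hY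
      change u ∉ Xt e hI t (i, j + 1) at hu
      rw [mem_Yt e hI ht] at hY
      rw [mem_Xt e hI ht] at hu
      obtain ⟨a1, a2⟩ := hY
      have a3 : hZ I e (u + (i, j + 1)) + t ≤ hZ I e u := by
        by_contra hcon
        push Not at hcon
        exact hu ⟨a1, a2, hcon⟩
      have hz1 : inReg I e (pt e (-i - 1) (-j - 1) (t - 1)) (0, 0) u (hZ I e u - 1) := by
        rw [inReg_nnp e hI]
        refine ⟨⟨by have := a1.1; omega, by have := a1.2; omega, ?_⟩, ?_⟩
        · have := hZ_add_le e hI (u := u) (d := (i, j + 1)) (d' := (1, 0)) a1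
            ⟨by simpa using hi, by simp; omega⟩ h10
          have h2 : ((i, j + 1) : ℤ × ℤ) + (1, 0) = (i + 1, j + 1) := by simp
          rw [h2] at this
          omega
        · rintro ⟨-, h⟩
          omega
      have hz2 : inReg I e (pt e (-i - 1) (-j - 1) (t - 1)) (0, 0) (u - (1, 0))
          (hZ I e u - 1) := by
        rw [inReg_nnp e hI]
        refine ⟨⟨by simp; have := a1.1; omega, by simp; have := a1.2; omega, ?_⟩, ?_⟩
        · have h2 : u - (1, 0) + (i + 1, j + 1) = u + (i, j + 1) := by
            apply Prod.ext <;> simp <;> ring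
          rw [h2]
          omega
        · rintro ⟨hn, h⟩
          have := hZ_anti e hI hn h10
          rw [sub_add_cancel] at this
          omega
      have := g3 (u - (1, 0)) _ hz2 (by rw [sub_add_cancel]; exact hz1)
      rw [sub_add_cancel] at this
      exact this
  · rintro g ⟨g1, g2, g3⟩
    change ∀ u, (u ∉ Yt e hI t ∨ u ∈ Xt e hI t (i + 1, j + 1)) → g u = 0 at g1
    change ∀ u ∈ Yt e hI t, u ∉ Xt e hI t (i + 1, j) → g u = g (u - (0, 1)) at g2
    change ∀ u ∈ Yt e hI t, u ∉ Xt e hI t (i, j + 1) → g (u - (1, 0)) = g u at g3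
    have gNN : ∀ u, ¬ NN u → g u = 0 := by
      intro u hu
      apply g1
      left
      rw [mem_Yt e hI ht]
      exact fun h => hu h.1
    refine ⟨fun u hu => ?_, fun u z hz hneg => ?_, fun u z hz hz' => ?_, fun u z hz hz' => ?_⟩
    · apply g1
      by_contra hcon
      push Not at hcon
      obtain ⟨c1, c2⟩ := hcon
      rw [mem_Yt e hI ht] at c1
      rw [mem_Xt e hI ht] at c2
      apply hu (hZ I e u - 1)
      rw [inReg_nnp e hI]
      refine ⟨⟨by have := c1.1.1; omega, by have := c1.1.2; omega, ?_⟩, ?_⟩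
      · by_contra hcon
        push Not at hcon
        exact c2 ⟨c1.1, c1.2, by omega⟩
      · rintro ⟨-, h⟩
        omega
    · apply gNN
      intro hnn
      rw [inReg_nnp e hI] at hz
      obtain ⟨⟨a1, a2, a3⟩, a4⟩ := hz
      apply hneg
      rw [forall_fin3 e]
      simp only [cpt, pt_e0, pt_e1, pt_e2, add_zero]
      refine ⟨hnn.1, hnn.2, ?_⟩
      have := hZ_nonneg I e (u + (i + 1, j + 1))
      omega
    · by_cases hv : NN (u + (1, 0))
      · rw [inReg_nnp e hI] at hz hz'
        obtain ⟨⟨a1, a2, a3⟩, a4⟩ := hz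
        obtain ⟨⟨b1, b2, b3⟩, b4⟩ := hz'
        have hlt : z < hZ I e (u + (1, 0)) := by
          by_contra hcon
          push Not at hcon
          exact b4 ⟨hv, hcon⟩
        have h2 : u + (i + 1, j + 1) = u + (1, 0) + (i, j + 1) := by
          apply Prod.ext <;> simp <;> ring
        rw [h2] at a3
        have hY : u + (1, 0) ∈ Yt e hI t := by
          rw [mem_Yt e hI ht]
          have := hZ_nonneg I e (u + (1, 0) + (i, j + 1))
          exact ⟨hv, by omega⟩
        have hE : u + (1, 0) ∉ Xt e hI t (i, j + 1) := by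
          rw [mem_Xt e hI ht]
          rintro ⟨-, -, c3⟩
          omega
        have := g3 _ hY hE
        rw [add_sub_cancel_right] at this
        exact this
      · have hu : ¬ NN u := by
          intro hu
          apply hv
          exact ⟨add_nonneg hu.1 h10.1, add_nonneg hu.2 h10.2⟩
        rw [gNN _ hv, gNN _ hu]
    · by_cases hv : NN (u + (0, 1))
      · rw [inReg_nnp e hI] at hz hz'
        obtain ⟨⟨a1, a2, a3⟩, a4⟩ := hz
        obtain ⟨⟨b1, b2, b3⟩, b4⟩ := hz'
        have hlt : z < hZ I e (u + (0, 1)) := by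
          by_contra hcon
          push Not at hcon
          exact b4 ⟨hv, hcon⟩
        have h2 : u + (i + 1, j + 1) = u + (0, 1) + (i + 1, j) := by
          apply Prod.ext <;> simp <;> ring
        rw [h2] at a3
        have hY : u + (0, 1) ∈ Yt e hI t := by
          rw [mem_Yt e hI ht]
          have := hZ_nonneg I e (u + (0, 1) + (i + 1, j))
          exact ⟨hv, by omega⟩
        have hE : u + (0, 1) ∉ Xt e hI t (i + 1, j) := by
          rw [mem_Xt e hI ht]
          rintro ⟨-, -, c3⟩
          omega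
        have := g2 _ hY hE
        rw [add_sub_cancel_right] at this
        exact this.symm
      · have hu : ¬ NN u := by
          intro hu
          apply hv
          exact ⟨add_nonneg hu.1 h01.1, add_nonneg hu.2 h01.2⟩
        rw [gNN _ hv, gNN _ hu]

end Groth.Agent.Lib.Helper15.HilbT
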