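import Mathlib
import Groth.Agent.Lib.Helper15.HilbC4

/-!
# Counting cells and the `ppn`/`nnp` identity for fixed first two coordinates (helper15)
-/

set_option backward.isDefEq.respectTransparency.types false
set_option autoImplicit false
set_option linter.unusedSectionVars false
set_option linter.style.haveILetI false

universe u

namespace Groth.Agent.Lib.Helper15.HilbT

open MvPolynomial W4c1hilbpn Groth.Agent.Lib.Helper8.Hilb

variable {k : Type u} [Field k] {I : Ideal (MvPolynomial (Fin 3) k)} (e : Equiv.Perm (Fin 3))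
  (hI : IsMonomial I) [Module.Finite k (MvPolynomial (Fin 3) k ⧸ I)]

lemma hZ_le_bnd (u : ℤ × ℤ) : hZ I e u ≤ bnd hI := by
  unfold hZ
  exact_mod_cast hE_le_bnd e hI _ _

/-- the range of thresholds -/
noncomputable def Trange : Finset ℤ := Finset.Icc 1 (bnd hI : ℤ)

open Classical in
/-- counting the cells of offset `d` over all thresholds -/
lemma sum_card_Xt {d : ℤ × ℤ} (hd : NN d) :
    ∑ t ∈ Trange hI, ((Xt e hI t d).card : ℤ) = ∑ u ∈ box hI, hZ I e (u + d) := by
  have h1 : ∀ t ∈ Trange hI, ((Xt e hI t d).card : ℤ) =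
      ∑ u ∈ box hI, if (t ≤ hZ I e u ∧ hZ I e u < hZ I e (u + d) + t) then (1 : ℤ) else 0 := by
    intro t _
    unfold Xt
    rw [Finset.card_filter]
    push_cast
    rfl
  rw [Finset.sum_congr rfl h1, Finset.sum_comm]
  apply Finset.sum_congr rfl
  intro u hu
  have hnn : NN u := ((mem_box hI u).1 hu).1
  have hle : hZ I e (u + d) ≤ hZ I e u := hZ_anti e hI hnn hd
  have h0 : 0 ≤ hZ I e (u + d) := hZ_nonneg I e _
  have hb : hZ I e u ≤ bnd hI := hZ_le_bnd e hI u
  rw [← Finset.sum_filter, Finset.sum_const, nsmul_eq_mul, mul_one]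
  have : (Trange hI).filter (fun t => t ≤ hZ I e u ∧ hZ I e u < hZ I e (u + d) + t) =
      Finset.Ioc (hZ I e u - hZ I e (u + d)) (hZ I e u) := by
    ext t
    unfold Trange
    rw [Finset.mem_filter, Finset.mem_Icc, Finset.mem_Ioc]
    constructor
    · rintro ⟨-, a, b⟩
      exact ⟨by omega, a⟩
    · rintro ⟨a, b⟩
      exact ⟨⟨by omega, by omega⟩, b, by omega⟩
  rw [this, Int.card_Ioc]
  omega

lemma sum_box (G : ℤ × ℤ → ℤ) :
    ∑ u ∈ box hI, G u = ∑ a ∈ Finset.range (bnd hI), ∑ b ∈ Finset.range (bnd hI),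
      G ((a : ℤ), (b : ℤ)) := by
  unfold box
  rw [Finset.sum_product]
  have h : Finset.Ico (0 : ℤ) (bnd hI : ℤ) = (Finset.range (bnd hI)).map Nat.castEmbedding := by
    ext x
    rw [Finset.mem_Ico, Finset.mem_map]
    constructor
    · rintro ⟨h1, h2⟩
      refine ⟨x.toNat, ?_, ?_⟩
      · rw [Finset.mem_range]
        omega
      · simp only [Nat.castEmbedding_apply]
        omega
    · rintro ⟨n, hn, rfl⟩
      rw [Finset.mem_range] at hn
      simp only [Nat.castEmbedding_apply]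
      omega
  rw [h, Finset.sum_map]
  apply Finset.sum_congr rfl
  intro a _
  rw [Finset.sum_map]
  rfl

/-- the telescoping count -/
lemma sum_telescope {i j : ℤ} (hi : 0 ≤ i) (hj : 0 ≤ j) :
    ∑ u ∈ box hI, (hZ I e (u + (i, j)) + hZ I e (u + (i + 1, j + 1)) -
      hZ I e (u + (i + 1, j)) - hZ I e (u + (i, j + 1))) = hZ I e (i, j) := by
  rw [sum_box]
  set N := bnd hI with hN
  let F : ℕ → ℕ → ℤ := fun a b => hZ I e ((a : ℤ) + i, (b : ℤ) + j)
  have hF : ∀ a b : ℕ, hZ I e (((a : ℤ), (b : ℤ)) + (i, j)) + hZ I e (((a : ℤ), (b : ℤ)) + (i + 1, j + 1)) -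
      hZ I e (((a : ℤ), (b : ℤ)) + (i + 1, j)) - hZ I e (((a : ℤ), (b : ℤ)) + (i, j + 1)) =
      (F a b - F a (b + 1)) - (F (a + 1) b - F (a + 1) (b + 1)) := by
    intro a b
    have e1 : (((a : ℤ), (b : ℤ)) + (i, j) : ℤ × ℤ) = ((a : ℤ) + i, (b : ℤ) + j) := rfl
    have e2 : (((a : ℤ), (b : ℤ)) + (i + 1, j + 1) : ℤ × ℤ) =
        (((a + 1 : ℕ) : ℤ) + i, ((b + 1 : ℕ) : ℤ) + j) := by
      apply Prod.ext <;> simp <;> ring
    have e3 : (((a : ℤ), (b : ℤ)) + (i + 1, j) : ℤ × ℤ) = (((a + 1 : ℕ) : ℤ) + i, (b : ℤ) + j) := by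
      apply Prod.ext <;> simp <;> ring
    have e4 : (((a : ℤ), (b : ℤ)) + (i, j + 1) : ℤ × ℤ) = ((a : ℤ) + i, ((b + 1 : ℕ) : ℤ) + j) := by
      apply Prod.ext <;> simp <;> ring
    rw [e1, e2, e3, e4]
    change F a b + F (a + 1) (b + 1) - F (a + 1) b - F a (b + 1) = _
    ring
  simp_rw [hF]
  have hFN : ∀ a : ℕ, F a N = 0 := by
    intro a
    apply hZ_eq_zero e hI
    right
    simp only
    omega
  have hNF : ∀ b : ℕ, F N b = 0 := by
    intro b
    apply hZ_eq_zero e hI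
    left
    simp only
    omega
  have inner : ∀ a : ℕ, ∑ b ∈ Finset.range N, ((F a b - F a (b + 1)) -
      (F (a + 1) b - F (a + 1) (b + 1))) = F a 0 - F (a + 1) 0 := by
    intro a
    rw [Finset.sum_sub_distrib, Finset.sum_range_sub', Finset.sum_range_sub', hFN, hFN]
    ring
  simp_rw [inner]
  rw [Finset.sum_range_sub', hNF]
  change hZ I e (((0 : ℕ) : ℤ) + i, ((0 : ℕ) : ℤ) + j) - 0 = _
  simp

end Groth.Agent.Lib.Helper15.HilbT
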