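import Mathlib
import Groth.Agent.Lib.Helper15.HilbC5

/-!
# The `ppn`/`nnp` identity for fixed first two coordinates (helper15)
-/

set_option backward.isDefEq.respectTransparency.types false
set_option autoImplicit false
set_option linter.unusedSectionVars false
set_option linter.style.haveILetI false

universe u

namespace Groth.Agent.Lib.Helper15.HilbT

open MvPolynomial W4c1hilbpn Groth.Agent.Lib.Helper8.Hilb Module

variable {k : Type u} [Field k] {I : Ideal (MvPolynomial (Fin 3) k)} (e : Equiv.Perm (Fin 3))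
  (hI : IsMonomial I) [Module.Finite k (MvPolynomial (Fin 3) k ⧸ I)]

include hI in
lemma tPiece_eq_bot_of_colModel {α : Fin 3 → ℤ} {s : ℤ × ℤ}
    (h : ∀ f ∈ colModel I e α s, f = 0) : tPiece I α = ⊥ := by
  rw [eq_bot_iff]
  intro φ hφ
  rw [Submodule.mem_bot]
  have h1 : colEquiv e α s hI ⟨φ, hφ⟩ = 0 := by
    apply Subtype.ext
    exact h _ (colEquiv e α s hI ⟨φ, hφ⟩).2
  have h2 := (colEquiv e α s hI).injective (h1.trans (map_zero _).symm)
  exact congrArg Subtype.val h2

lemma Xt_eq_empty {t : ℤ} (ht : (bnd hI : ℤ) < t) (d : ℤ × ℤ) : Xt e hI t d = ∅ := by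
  classical
  unfold Xt
  rw [Finset.filter_eq_empty_iff]
  intro u _ h
  have := hZ_le_bnd e hI u
  omega

lemma Yt_eq_empty {t : ℤ} (ht : (bnd hI : ℤ) < t) : Yt e hI t = ∅ := by
  classical
  unfold Yt
  rw [Finset.filter_eq_empty_iff]
  intro u _ h
  have := hZ_le_bnd e hI u
  omega

lemma tPiece_ppn_eq_bot {i j : ℤ} (hi : 0 ≤ i) (hj : 0 ≤ j) {t : ℤ} (ht : (bnd hI : ℤ) < t) :
    tPiece I (pt e i j (-t)) = ⊥ := by
  have ht1 : 1 ≤ t := by
    have : (0 : ℤ) ≤ bnd hI := by positivity
    omega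
  apply tPiece_eq_bot_of_colModel e hI (s := (i, j))
  intro f hf
  rw [colModel_ppn e hI hi hj ht1] at hf
  funext u
  apply hf.1
  change u ∉ Xt e hI t (i, j)
  rw [Xt_eq_empty e hI ht]
  exact Finset.notMem_empty u

lemma tPiece_nnp_eq_bot {i j : ℤ} (hi : 0 ≤ i) (hj : 0 ≤ j) {t : ℤ} (ht : (bnd hI : ℤ) < t) :
    tPiece I (pt e (-i - 1) (-j - 1) (t - 1)) = ⊥ := by
  have ht1 : 1 ≤ t := by
    have : (0 : ℤ) ≤ bnd hI := by positivity
    omega
  apply tPiece_eq_bot_of_colModel e hI (s := (0, 0))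
  intro f hf
  rw [colModel_nnp e hI hi hj ht1] at hf
  funext u
  apply hf.1
  left
  change u ∉ Yt e hI t
  rw [Yt_eq_empty e hI ht]
  exact Finset.notMem_empty u

/-- the Euler characteristic identity for the two graded pieces at threshold `t` -/
lemma finrank_ppn_nnp {i j : ℤ} (hi : 0 ≤ i) (hj : 0 ≤ j) {t : ℤ} (ht : 1 ≤ t) :
    (finrank k ↥(tPiece I (pt e i j (-t))) : ℤ) + (Xt e hI t (i + 1, j)).card +
        (Xt e hI t (i, j + 1)).card =
      (Xt e hI t (i, j)).card + (Xt e hI t (i + 1, j + 1)).card +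
        finrank k ↥(tPiece I (pt e (-i - 1) (-j - 1) (t - 1))) := by
  have h1 := (colEquiv e (pt e i j (-t)) (i, j) hI).finrank_eq
  have h2 := (colEquiv e (pt e (-i - 1) (-j - 1) (t - 1)) (0, 0) hI).finrank_eq
  have h3 := (datOf e hI hi hj ht).euler (k := k)
  rw [← colModel_ppn e hI hi hj ht, ← colModel_nnp e hI hi hj ht, ← h1, ← h2] at h3
  change _ + (Xt e hI t (i + 1, j)).card + (Xt e hI t (i, j + 1)).card =
    (Xt e hI t (i, j)).card + (Xt e hI t (i + 1, j + 1)).card + _ at h3
  exact_mod_cast h3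

lemma pt_injective_c (a b : ℤ) : Function.Injective (fun c : ℤ => pt e a b c) := by
  intro c c' h
  have := congrFun h (e 2)
  simpa using this

include hI in
theorem finrank_fix_eq (i j : ℕ) :
    finrank k ↥(⨆ α : {α : Fin 3 → ℤ // α (e 0) = (i : ℤ) ∧ α (e 1) = (j : ℤ)}, tPiece I α.1) =
      hE I e i j + finrank k ↥(⨆ α : {α : Fin 3 → ℤ // α (e 0) = -(i : ℤ) - 1 ∧
        α (e 1) = -(j : ℤ) - 1}, tPiece I α.1) := by
  classical
  have hi : (0 : ℤ) ≤ i := by positivity
  have hj : (0 : ℤ) ≤ j := by positivity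
  -- the left-hand side
  have hL := finrank_iSup_tPiece hI (fun α : Fin 3 → ℤ => α (e 0) = (i : ℤ) ∧ α (e 1) = (j : ℤ))
    ((Trange hI).image (fun t => pt e i j (-t)))
    (by
      intro α hα
      obtain ⟨t, -, rfl⟩ := Finset.mem_image.1 hα
      exact ⟨pt_e0 _ _ _ _, pt_e1 _ _ _ _⟩)
    (by
      rintro α ⟨h0, h1⟩ hns
      have hα : α = pt e i j (α (e 2)) := by
        rw [← h0, ← h1]
        exact (pt_eta e α).symm
      by_cases hc : 0 ≤ α (e 2)
      · apply tPiece_eq_bot_of_nonneg hI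
        rw [forall_fin3 e]
        exact ⟨by omega, by omega, hc⟩
      · push Not at hc
        have ht : (bnd hI : ℤ) < -α (e 2) := by
          by_contra hcon
          push Not at hcon
          apply hns
          rw [Finset.mem_image]
          refine ⟨-α (e 2), ?_, ?_⟩
          · unfold Trange
            rw [Finset.mem_Icc]
            omega
          · rw [neg_neg]
            exact hα.symm
        have := tPiece_ppn_eq_bot e hI hi hj ht
        rw [neg_neg, ← hα] at this
        exact this)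
  rw [Finset.sum_image (fun t _ t' _ h => by
    have := pt_injective_c e i j h
    omega)] at hL
  -- the right-hand side
  have hR := finrank_iSup_tPiece hI
    (fun α : Fin 3 → ℤ => α (e 0) = -(i : ℤ) - 1 ∧ α (e 1) = -(j : ℤ) - 1)
    ((Trange hI).image (fun t => pt e (-(i : ℤ) - 1) (-(j : ℤ) - 1) (t - 1)))
    (by
      intro α hα
      obtain ⟨t, -, rfl⟩ := Finset.mem_image.1 hα
      exact ⟨pt_e0 _ _ _ _, pt_e1 _ _ _ _⟩)
    (by
      rintro α ⟨h0, h1⟩ hns
      have hα : α = pt e (-(i : ℤ) - 1) (-(j : ℤ) - 1) (α (e 2)) := by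
        rw [← h0, ← h1]
        exact (pt_eta e α).symm
      by_cases hc : α (e 2) < 0
      · apply tPiece_eq_bot_of_two_neg hI α (e 0) (e 1) (e_ne01 e) (by omega) (by omega)
        rw [forall_fin3 e]
        exact ⟨by omega, by omega, hc.le⟩
      · push Not at hc
        have ht : (bnd hI : ℤ) < α (e 2) + 1 := by
          by_contra hcon
          push Not at hcon
          apply hns
          rw [Finset.mem_image]
          refine ⟨α (e 2) + 1, ?_, ?_⟩
          · unfold Trange
            rw [Finset.mem_Icc]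
            omega
          · rw [add_sub_cancel_right]
            exact hα.symm
        have := tPiece_nnp_eq_bot e hI hi hj ht
        rw [add_sub_cancel_right, ← hα] at this
        exact this)
  rw [Finset.sum_image (fun t _ t' _ h => by
    have := pt_injective_c e (-(i : ℤ) - 1) (-(j : ℤ) - 1) h
    omega)] at hR
  rw [hL, hR]
  -- sum the Euler identities
  have hsum : ∑ t ∈ Trange hI, ((finrank k ↥(tPiece I (pt e i j (-t))) : ℤ) +
      (Xt e hI t ((i : ℤ) + 1, (j : ℤ))).card + (Xt e hI t ((i : ℤ), (j : ℤ) + 1)).card) =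
      ∑ t ∈ Trange hI, (((Xt e hI t ((i : ℤ), (j : ℤ))).card : ℤ) +
        (Xt e hI t ((i : ℤ) + 1, (j : ℤ) + 1)).card +
        finrank k ↥(tPiece I (pt e (-(i : ℤ) - 1) (-(j : ℤ) - 1) (t - 1)))) := by
    apply Finset.sum_congr rfl
    intro t ht
    unfold Trange at ht
    rw [Finset.mem_Icc] at ht
    exact finrank_ppn_nnp e hI hi hj ht.1
  simp only [Finset.sum_add_distrib] at hsum
  rw [sum_card_Xt e hI ⟨by simp; omega, by simpa using hj⟩,
    sum_card_Xt e hI ⟨by simpa using hi, by simp; omega⟩,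
    sum_card_Xt e hI ⟨by simpa using hi, by simpa using hj⟩,
    sum_card_Xt e hI ⟨by simp; omega, by simp; omega⟩] at hsum
  have htel := sum_telescope e hI hi hj
  simp only [Finset.sum_sub_distrib, Finset.sum_add_distrib] at htel
  have hh : hZ I e ((i : ℤ), (j : ℤ)) = (hE I e i j : ℤ) := by
    unfold hZ
    simp
  rw [hh] at htel
  have hcast : ((∑ t ∈ Trange hI, finrank k ↥(tPiece I (pt e i j (-t))) : ℕ) : ℤ) =
      ((hE I e i j + ∑ t ∈ Trange hI,
        finrank k ↥(tPiece I (pt e (-(i : ℤ) - 1) (-(j : ℤ) - 1) (t - 1))) : ℕ) : ℤ) := by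
    push_cast
    linarith
  exact_mod_cast hcast

end Groth.Agent.Lib.Helper15.HilbT
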