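import Mathlib
import Groth.Agent.Lib.Helper15.HilbC6

/-!
# The `ppn`/`nnp` identity in the standard coordinates (helper15)
-/

set_option backward.isDefEq.respectTransparency.types false
set_option autoImplicit false
set_option linter.unusedSectionVars false
set_option linter.style.haveILetI false

universe u

namespace Groth.Agent.Lib.Helper15.HilbT

open MvPolynomial W4c1hilbpn Groth.Agent.Lib.Helper8.Hilb Module

variable {k : Type u} [Field k] {I : Ideal (MvPolynomial (Fin 3) k)}

lemma ptN_one (a b c : ℕ) : ptN 1 a b c = e3 a b c := by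
  have h1 : (Equiv.symm (1 : Equiv.Perm (Fin 3))) = Equiv.refl _ := rfl
  ext i
  fin_cases i <;> simp [ptN, toN_apply, pt, e3, h1]

lemma hE_one (a b : ℕ) : hE I 1 a b = stairZ I a b := by
  unfold hE stairZ
  simp_rw [ptN_one]

theorem finrank_fix_xy_eq (hI : IsMonomial I) [Module.Finite k (MvPolynomial (Fin 3) k ⧸ I)]
    (i j : ℕ) :
    finrank k ↥(⨆ α : {α : Fin 3 → ℤ // α 0 = (i : ℤ) ∧ α 1 = (j : ℤ)}, tPiece I α.1) =
      stairZ I i j + finrank k ↥(⨆ α : {α : Fin 3 → ℤ // α 0 = -(i : ℤ) - 1 ∧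
        α 1 = -(j : ℤ) - 1}, tPiece I α.1) := by
  have := finrank_fix_eq (1 : Equiv.Perm (Fin 3)) hI i j
  rw [hE_one] at this
  exact this

end Groth.Agent.Lib.Helper15.HilbT
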