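import Mathlib
import Groth.Agent.Lib.Helper15.HilbC7

/-!
# The colength of a monomial ideal as a sum of staircase heights (helper15)
-/

set_option backward.isDefEq.respectTransparency.types false
set_option autoImplicit false
set_option linter.unusedSectionVars false
set_option linter.style.haveILetI false

universe u

namespace Groth.Agent.Lib.Helper15.HilbT

open MvPolynomial W4c1hilbpn Groth.Agent.Lib.Helper8.Hilb Module

section general

variable {k : Type u} [Field k] {n : ℕ} {I : Ideal (MvPolynomial (Fin n) k)}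
  (hI : IsMonomial I) [Module.Finite k (MvPolynomial (Fin n) k ⧸ I)]

/-- coordinates on the quotient by a monomial ideal -/
noncomputable def quotEquiv : (MvPolynomial (Fin n) k ⧸ I) ≃ₗ[k] (↥(nonexps hI) → k) where
  toFun q := fun γ => cfT hI γ.1 q
  map_add' q q' := by
    funext γ
    simp
  map_smul' c q := by
    funext γ
    simp
  invFun c := ∑ γ : ↥(nonexps hI), c γ • Ideal.Quotient.mk I (monomial γ.1 (1 : k))
  left_inv q := by
    conv_rhs => rw [expand hI q]
    rw [← Finset.sum_coe_sort (nonexps hI)
      (fun γ => cfT hI γ q • Ideal.Quotient.mk I (monomial γ (1 : k)))]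
  right_inv c := by
    classical
    funext γ'
    simp only [map_sum, map_smul, smul_eq_mul]
    rw [Finset.sum_eq_single γ']
    · rw [cfT_of_not_mem hI ((mem_nonexps hI _).1 γ'.2), cf_mk_monomial, if_pos rfl, mul_one]
    · intro γ _ hne
      rw [cfT_of_not_mem hI ((mem_nonexps hI _).1 γ'.2), cf_mk_monomial, if_neg, mul_zero]
      intro h
      exact hne (Subtype.ext h)
    · intro h
      exact absurd (Finset.mem_univ γ') h

theorem finrank_quot : finrank k (MvPolynomial (Fin n) k ⧸ I) = (nonexps hI).card := by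
  rw [(quotEquiv hI).finrank_eq, Module.finrank_fintype_fun_eq_card, Fintype.card_coe]

end general

variable {k : Type u} [Field k] {I : Ideal (MvPolynomial (Fin 3) k)} (e : Equiv.Perm (Fin 3))
  (hI : IsMonomial I) [Module.Finite k (MvPolynomial (Fin 3) k ⧸ I)]

open Classical in
lemma card_fiber (a b : ℕ) :
    ((nonexps hI).filter (fun γ => (γ (e 0), γ (e 1)) = (a, b))).card = hE I e a b := by
  have h1 : hE I e a b = (finite_col e hI a b).toFinset.card := by
    unfold hE
    rw [← Set.ncard_eq_toFinset_card _ (finite_col e hI a b)]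
    rfl
  rw [h1]
  symm
  apply Finset.card_bij (fun c _ => ptN e a b c)
  · intro c hc
    rw [Set.Finite.mem_toFinset] at hc
    rw [Finset.mem_filter, mem_nonexps]
    refine ⟨hc, ?_⟩
    rw [ptN_e0, ptN_e1]
  · intro c _ c' _ h
    have := congrArg (fun β : Fin 3 →₀ ℕ => β (e 2)) h
    simpa [ptN_e2] using this
  · intro γ hγ
    rw [Finset.mem_filter, mem_nonexps] at hγ
    obtain ⟨h1, h2⟩ := hγ
    have ha : γ (e 0) = a := congrArg Prod.fst h2
    have hb : γ (e 1) = b := congrArg Prod.snd h2
    refine ⟨γ (e 2), ?_, ?_⟩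
    · rw [Set.Finite.mem_toFinset]
      change ptN e a b (γ (e 2)) ∉ exps I
      rw [← ha, ← hb, ptN_eta]
      exact h1
    · rw [← ha, ← hb, ptN_eta]

/-- the colength is the sum of the staircase heights -/
theorem finrank_quot_eq_sum {N : ℕ} (hN : bnd hI ≤ N) :
    finrank k (MvPolynomial (Fin 3) k ⧸ I) =
      ∑ a ∈ Finset.range N, ∑ b ∈ Finset.range N, hE I e a b := by
  classical
  rw [finrank_quot hI, ← Finset.sum_product',
    Finset.card_eq_sum_card_fiberwise (f := fun γ : Fin 3 →₀ ℕ => (γ (e 0), γ (e 1)))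
      (t := Finset.range N ×ˢ Finset.range N)]
  · apply Finset.sum_congr rfl
    intro p _
    exact card_fiber e hI p.1 p.2
  · intro γ hγ
    have hγ' : γ ∉ exps I := (mem_nonexps hI γ).1 hγ
    have h0 := lt_bnd hI hγ' (e 0)
    have h1 := lt_bnd hI hγ' (e 1)
    simp only [Finset.coe_product, Finset.coe_range, Set.mem_prod, Set.mem_Iio]
    exact ⟨by omega, by omega⟩

end Groth.Agent.Lib.Helper15.HilbT
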