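import Mathlib
import Groth.Agent.Lib.Helper15.HilbD1

/-!
# Sign pieces with one negative entry versus two negative entries (helper15)
-/

set_option backward.isDefEq.respectTransparency.types false
set_option autoImplicit false
set_option linter.unusedSectionVars false
set_option linter.style.haveILetI false

universe u

namespace Groth.Agent.Lib.Helper15.HilbT

open MvPolynomial W4c1hilbpn Groth.Agent.Lib.Helper8.Hilb Module

variable {k : Type u} [Field k] {I : Ideal (MvPolynomial (Fin 3) k)} (e : Equiv.Perm (Fin 3))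
  (hI : IsMonomial I) [Module.Finite k (MvPolynomial (Fin 3) k ⧸ I)]

omit e in
theorem finrank_iSup_tPiece_degs' (P : (Fin 3 → ℤ) → Prop) [DecidablePred P] :
    finrank k ↥(⨆ α : {α // P α}, tPiece I α.1) =
      ∑ α ∈ (degs hI).filter P, finrank k ↥(tPiece I α) := by
  apply finrank_iSup_tPiece hI
  · intro α hα
    exact (Finset.mem_filter.1 hα).2
  · intro α hα hns
    apply tPiece_eq_bot_of_not_mem_degs hI
    intro h
    exact hns (Finset.mem_filter.2 ⟨h, hα⟩)

/-- a strict bound for the entries of the possibly nonzero multidegrees -/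
noncomputable def dbnd : ℕ :=
  (degs hI).sup (fun α => Finset.univ.sup (fun l => (α l).natAbs)) + 1

lemma natAbs_lt_dbnd {α : Fin 3 → ℤ} (hα : α ∈ degs hI) (l : Fin 3) :
    (α l).natAbs < dbnd hI := by
  have h1 : (α l).natAbs ≤ Finset.univ.sup (fun l => (α l).natAbs) :=
    Finset.le_sup (f := fun l => (α l).natAbs) (Finset.mem_univ l)
  have h2 : Finset.univ.sup (fun l => (α l).natAbs) ≤
      (degs hI).sup (fun α => Finset.univ.sup (fun l => (α l).natAbs)) :=
    Finset.le_sup (f := fun α : Fin 3 → ℤ => Finset.univ.sup (fun l => (α l).natAbs)) hα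
  unfold dbnd
  omega

open Classical in
/-- the pieces with prescribed nonnegative first two coordinates add up to the sign piece `ppn` -/
theorem sum_fix_pos {N : ℕ} (hN : dbnd hI ≤ N) :
    ∑ p ∈ Finset.range N ×ˢ Finset.range N,
      finrank k ↥(⨆ α : {α : Fin 3 → ℤ // α (e 0) = (p.1 : ℤ) ∧ α (e 1) = (p.2 : ℤ)},
        tPiece I α.1) = finrank k ↥(sigPiece I {e 2}) := by
  have h1 : ∀ p : ℕ × ℕ,
      finrank k ↥(⨆ α : {α : Fin 3 → ℤ // α (e 0) = (p.1 : ℤ) ∧ α (e 1) = (p.2 : ℤ)},
        tPiece I α.1) =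
      ∑ α ∈ ((degs hI).filter (fun α => 0 ≤ α (e 0) ∧ 0 ≤ α (e 1))).filter
        (fun α => ((α (e 0)).toNat, (α (e 1)).toNat) = p),
        finrank k ↥(tPiece I α) := by
    intro p
    rw [finrank_iSup_tPiece_degs' hI]
    apply Finset.sum_congr _ (fun _ _ => rfl)
    ext α
    simp only [Finset.mem_filter, Prod.ext_iff]
    constructor
    · rintro ⟨a, b, c⟩
      exact ⟨⟨a, by omega, by omega⟩, by omega, by omega⟩
    · rintro ⟨⟨a, b, c⟩, d, f⟩
      exact ⟨a, by omega, by omega⟩
  rw [Finset.sum_congr rfl (fun p _ => h1 p), Finset.sum_fiberwise_of_maps_to]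
  · unfold sigPiece
    rw [finrank_iSup_tPiece_degs' hI]
    symm
    apply Finset.sum_subset_zero_on_sdiff
    · intro α hα
      rw [Finset.mem_filter] at hα ⊢
      refine ⟨hα.1, ?_, ?_⟩
      · have := (hα.2 (e 0)).not
        simp only [Set.mem_singleton_iff, (e_ne02 e), not_false_eq_true, iff_true, not_lt] at this
        exact this
      · have := (hα.2 (e 1)).not
        simp only [Set.mem_singleton_iff, (e_ne12 e), not_false_eq_true, iff_true, not_lt] at this
        exact this
    · intro α hα
      rw [Finset.mem_sdiff, Finset.mem_filter, Finset.mem_filter] at hα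
      obtain ⟨⟨hd, h0, h1⟩, hns⟩ := hα
      have h2 : 0 ≤ α (e 2) := by
        by_contra hcon
        push Not at hcon
        apply hns
        refine ⟨hd, ?_⟩
        rw [forall_fin3 e]
        simp only [Set.mem_singleton_iff, (e_ne02 e), (e_ne12 e), iff_false, not_lt, iff_true]
        exact ⟨h0, h1, hcon⟩
      rw [tPiece_eq_bot_of_nonneg hI α (by rw [forall_fin3 e]; exact ⟨h0, h1, h2⟩)]
      simp
    · intro α _
      rfl
  · intro α hα
    rw [Finset.mem_filter] at hα
    have h0 := natAbs_lt_dbnd hI hα.1 (e 0)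
    have h1 := natAbs_lt_dbnd hI hα.1 (e 1)
    rw [Finset.mem_product, Finset.mem_range, Finset.mem_range]
    constructor <;> omega

open Classical in
/-- the pieces with prescribed negative first two coordinates add up to the sign piece `nnp` -/
theorem sum_fix_neg {N : ℕ} (hN : dbnd hI ≤ N) :
    ∑ p ∈ Finset.range N ×ˢ Finset.range N,
      finrank k ↥(⨆ α : {α : Fin 3 → ℤ // α (e 0) = -(p.1 : ℤ) - 1 ∧ α (e 1) = -(p.2 : ℤ) - 1},
        tPiece I α.1) = finrank k ↥(sigPiece I ({e 2}ᶜ : Set (Fin 3))) := by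
  have h1 : ∀ p : ℕ × ℕ,
      finrank k ↥(⨆ α : {α : Fin 3 → ℤ // α (e 0) = -(p.1 : ℤ) - 1 ∧ α (e 1) = -(p.2 : ℤ) - 1},
        tPiece I α.1) =
      ∑ α ∈ ((degs hI).filter (fun α => α (e 0) < 0 ∧ α (e 1) < 0)).filter
        (fun α => ((-α (e 0) - 1).toNat, (-α (e 1) - 1).toNat) = p),
        finrank k ↥(tPiece I α) := by
    intro p
    rw [finrank_iSup_tPiece_degs' hI]
    apply Finset.sum_congr _ (fun _ _ => rfl)
    ext α
    simp only [Finset.mem_filter, Prod.ext_iff]
    constructor
    · rintro ⟨a, b, c⟩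
      exact ⟨⟨a, by omega, by omega⟩, by omega, by omega⟩
    · rintro ⟨⟨a, b, c⟩, d, f⟩
      exact ⟨a, by omega, by omega⟩
  rw [Finset.sum_congr rfl (fun p _ => h1 p), Finset.sum_fiberwise_of_maps_to]
  · unfold sigPiece
    rw [finrank_iSup_tPiece_degs' hI]
    symm
    apply Finset.sum_subset_zero_on_sdiff
    · intro α hα
      rw [Finset.mem_filter] at hα ⊢
      refine ⟨hα.1, ?_, ?_⟩
      · have := (hα.2 (e 0))
        simp only [Set.mem_compl_iff, Set.mem_singleton_iff, (e_ne02 e), not_false_eq_true,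
          iff_true] at this
        exact this
      · have := (hα.2 (e 1))
        simp only [Set.mem_compl_iff, Set.mem_singleton_iff, (e_ne12 e), not_false_eq_true,
          iff_true] at this
        exact this
    · intro α hα
      rw [Finset.mem_sdiff, Finset.mem_filter, Finset.mem_filter] at hα
      obtain ⟨⟨hd, h0, h1⟩, hns⟩ := hα
      have h2 : α (e 2) < 0 := by
        by_contra hcon
        push Not at hcon
        apply hns
        refine ⟨hd, ?_⟩
        rw [forall_fin3 e]
        simp only [Set.mem_compl_iff, Set.mem_singleton_iff, (e_ne02 e), (e_ne12 e),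
          not_false_eq_true, iff_true, not_true_eq_false, iff_false, not_lt]
        exact ⟨h0, h1, hcon⟩
      rw [tPiece_eq_bot_of_two_neg hI α (e 0) (e 1) (e_ne01 e) h0 h1
        (by rw [forall_fin3 e]; exact ⟨h0.le, h1.le, h2.le⟩)]
      simp
    · intro α _
      rfl
  · intro α hα
    rw [Finset.mem_filter] at hα
    have h0 := natAbs_lt_dbnd hI hα.1 (e 0)
    have h1 := natAbs_lt_dbnd hI hα.1 (e 1)
    rw [Finset.mem_product, Finset.mem_range, Finset.mem_range]
    constructor <;> omega

include hI in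
/-- the sign piece negative exactly at `e 2` versus the one negative exactly at the other two -/
theorem finrank_sigPiece_e2 :
    finrank k ↥(sigPiece I {e 2}) =
      finrank k ↥(sigPiece I ({e 2}ᶜ : Set (Fin 3))) +
        finrank k (MvPolynomial (Fin 3) k ⧸ I) := by
  set N := dbnd hI + bnd hI with hN
  rw [← sum_fix_pos e hI (N := N) (by omega), ← sum_fix_neg e hI (N := N) (by omega),
    finrank_quot_eq_sum e hI (N := N) (by omega), ← Finset.sum_product',
    ← Finset.sum_add_distrib]
  apply Finset.sum_congr rfl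
  intro p _
  rw [finrank_fix_eq e hI p.1 p.2]
  ring

end Groth.Agent.Lib.Helper15.HilbT

namespace Groth.Agent.Lib.Helper15.HilbT

open MvPolynomial W4c1hilbpn Module

theorem finrank_sigPiece_singleton {k : Type u} [Field k] {I : Ideal (MvPolynomial (Fin 3) k)}
    (hI : IsMonomial I) [Module.Finite k (MvPolynomial (Fin 3) k ⧸ I)] (i : Fin 3) :
    finrank k ↥(sigPiece I {i}) =
      finrank k ↥(sigPiece I ({i}ᶜ : Set (Fin 3))) + finrank k (MvPolynomial (Fin 3) k ⧸ I) := by
  have h := finrank_sigPiece_e2 (Equiv.swap 2 i) hI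
  rw [Equiv.swap_apply_left] at h
  exact h

end Groth.Agent.Lib.Helper15.HilbT
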