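import Mathlib
import Groth.Agent.Lib.Helper15.HilbD2

/-!
# Parity of the dimension of the tangent space at a monomial point of `Hilb(A^3)` (helper15)
-/

set_option backward.isDefEq.respectTransparency.types false
set_option autoImplicit false
set_option linter.unusedSectionVars false
set_option linter.style.haveILetI false

universe u

namespace Groth.Agent.Lib.Helper15.HilbT

open MvPolynomial W4c1hilbpn Groth.Agent.Lib.Helper8.Hilb Module

section general

variable {k : Type u} [Field k] {n : ℕ} {I : Ideal (MvPolynomial (Fin n) k)}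
  (hI : IsMonomial I) [Module.Finite k (MvPolynomial (Fin n) k ⧸ I)]

theorem finrank_Tgt_eq_sum :
    finrank k (Tgt I) = ∑ α ∈ degs hI, finrank k ↥(tPiece I α) := by
  haveI := finite_Tgt hI
  rw [← finrank_biSup_finset (tPiece I) (tPiece_indep hI) (degs hI)]
  have : (⨆ α ∈ degs hI, tPiece I α) = ⊤ := by
    rw [← iSup_tPiece_eq_top hI]
    apply le_antisymm
    · exact iSup₂_le fun α _ => le_iSup (tPiece I) α
    · apply iSup_le
      intro α
      by_cases hα : α ∈ degs hI
      · exact le_biSup (tPiece I) hα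
      · rw [tPiece_eq_bot_of_not_mem_degs hI hα]
        exact bot_le
  rw [this, finrank_top]

open Classical in
theorem finrank_sigPiece_eq_sum (N : Set (Fin n)) :
    finrank k ↥(sigPiece I N) =
      ∑ α ∈ degs hI, if (∀ l, α l < 0 ↔ l ∈ N) then finrank k ↥(tPiece I α) else 0 := by
  unfold sigPiece
  rw [finrank_iSup_tPiece_degs hI, Finset.sum_filter]
  exact Finset.sum_congr rfl (fun α _ => by congr)

end general

variable {k : Type u} [Field k] {I : Ideal (MvPolynomial (Fin 3) k)}
  (hI : IsMonomial I) [Module.Finite k (MvPolynomial (Fin 3) k ⧸ I)]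

include hI in
open Classical in
/-- the tangent space is the sum of the six sign pieces -/
theorem finrank_Tgt_eq_sum_sig :
    finrank k (Tgt I) = ∑ i : Fin 3,
      (finrank k ↥(sigPiece I {i}) + finrank k ↥(sigPiece I ({i}ᶜ : Set (Fin 3)))) := by
  rw [finrank_Tgt_eq_sum hI]
  simp_rw [finrank_sigPiece_eq_sum hI]
  rw [Fin.sum_univ_three]
  simp only [← Finset.sum_add_distrib]
  apply Finset.sum_congr rfl
  intro α _
  have hcs : ((∀ l, 0 ≤ α l) ∨ (∀ l, α l < 0)) → finrank k ↥(tPiece I α) = 0 := by
    intro h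
    rw [tPiece_eq_bot_of_const_sign (by norm_num) hI α h]
    simp
  simp only [forall_fin3 1, Equiv.Perm.coe_one, id_eq, Set.mem_singleton_iff, Set.mem_compl_iff]
  rw [forall_fin3 1, forall_fin3 1] at hcs
  simp only [Equiv.Perm.coe_one, id_eq] at hcs
  by_cases h0 : α 0 < 0 <;> by_cases h1 : α 1 < 0 <;> by_cases h2 : α 2 < 0 <;>
    simp [h0, h1, h2] <;> (apply hcs; simp [h0, h1, h2]) <;> omega

include hI in
theorem finrank_Tgt_mod_two :
    finrank k (Tgt I) % 2 = finrank k (MvPolynomial (Fin 3) k ⧸ I) % 2 := by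
  rw [finrank_Tgt_eq_sum_sig hI, Fin.sum_univ_three, finrank_sigPiece_singleton hI 0,
    finrank_sigPiece_singleton hI 1, finrank_sigPiece_singleton hI 2]
  omega

end Groth.Agent.Lib.Helper15.HilbT
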