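import Mathlib
import Groth.Agent.Lib.Helper15.HilbD3

/-!
# An upper bound for the pieces of sign `ppn` with fixed first two coordinates (helper15)
-/

set_option backward.isDefEq.respectTransparency.types false
set_option autoImplicit false
set_option linter.unusedSectionVars false
set_option linter.style.haveILetI false

universe u

namespace Groth.Agent.Lib.Helper15.HilbT

open MvPolynomial W4c1hilbpn Groth.Agent.Lib.Helper8.Hilb Module

section abstract

variable {k : Type*} [Field k] (D : HilbE.Dat)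

open Classical in
/-- the vertices of the closed part with no outgoing edge in the closed part -/
noncomputable def maxV : Finset (ℤ × ℤ) :=
  D.VX.filter (fun u => u ∉ D.E1X ∧ u ∉ D.E2X)

/-- a locally constant function vanishing on the maximal vertices vanishes -/
lemma Z0_eq_zero_of_maxV (f : ℤ × ℤ → k) (hf : f ∈ D.Z0 k) (h : ∀ u ∈ maxV D, f u = 0) :
    f = 0 := by
  classical
  obtain ⟨f1, f2, f3⟩ := hf
  by_contra hne
  have hS : (D.VX.filter (fun u => f u ≠ 0)).Nonempty := by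
    by_contra hS
    rw [Finset.not_nonempty_iff_eq_empty] at hS
    apply hne
    funext u
    by_contra hu
    have huV : u ∈ D.VX := by
      by_contra huV
      exact hu (f1 u huV)
    have : u ∈ D.VX.filter (fun u => f u ≠ 0) := Finset.mem_filter.2 ⟨huV, hu⟩
    rw [hS] at this
    exact absurd this (Finset.notMem_empty u)
  obtain ⟨u, hu, hmax⟩ := (D.VX.filter (fun u => f u ≠ 0)).exists_max_image
    (fun u => u.1 + u.2) hS
  rw [Finset.mem_filter] at hu
  have hnm : u ∉ maxV D := fun hm => hu.2 (h u hm)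
  unfold maxV at hnm
  rw [Finset.mem_filter] at hnm
  push Not at hnm
  by_cases h1 : u ∈ D.E1X
  · have h2 := f2 u h1
    have h3 : u + (1, 0) ∈ D.VX.filter (fun u => f u ≠ 0) := by
      rw [Finset.mem_filter]
      refine ⟨?_, by rw [h2]; exact hu.2⟩
      by_contra hV
      exact hu.2 (by rw [← h2]; exact f1 _ hV)
    have := hmax _ h3
    simp only [Prod.fst_add, Prod.snd_add] at this
    omega
  · have h1' := hnm hu.1 h1
    have h2 := f3 u h1'
    have h3 : u + (0, 1) ∈ D.VX.filter (fun u => f u ≠ 0) := by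
      rw [Finset.mem_filter]
      refine ⟨?_, by rw [h2]; exact hu.2⟩
      by_contra hV
      exact hu.2 (by rw [← h2]; exact f1 _ hV)
    have := hmax _ h3
    simp only [Prod.fst_add, Prod.snd_add] at this
    omega

theorem finrank_Z0_le : finrank k ↥(D.Z0 k) ≤ (maxV D).card := by
  let res : ↥(D.Z0 k) →ₗ[k] (↥(maxV D) → k) :=
    { toFun := fun f u => f.1 u.1
      map_add' := fun f g => rfl
      map_smul' := fun c f => rfl }
  have hinj : Function.Injective res := by
    rw [injective_iff_map_eq_zero]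
    intro f hf
    apply Subtype.ext
    apply Z0_eq_zero_of_maxV D f.1 f.2
    intro u hu
    exact congrFun hf ⟨u, hu⟩
  have := LinearMap.finrank_le_finrank_of_injective hinj
  rw [Module.finrank_fintype_fun_eq_card, Fintype.card_coe] at this
  exact this

end abstract

variable {k : Type u} [Field k] {I : Ideal (MvPolynomial (Fin 3) k)} (e : Equiv.Perm (Fin 3))
  (hI : IsMonomial I) [Module.Finite k (MvPolynomial (Fin 3) k ⧸ I)]

open Classical in
/-- counting the maximal vertices over all thresholds -/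
lemma sum_card_maxV {i j : ℤ} (hi : 0 ≤ i) (hj : 0 ≤ j) :
    ∑ t ∈ (Trange hI).attach, ((maxV (datOf e hI hi hj
        (Finset.mem_Icc.1 (by exact t.2 : t.1 ∈ Finset.Icc (1 : ℤ) (bnd hI : ℤ))).1)).card : ℤ) =
      ∑ u ∈ box hI, (hZ I e (u + (i, j)) -
        max (hZ I e (u + (i + 1, j))) (hZ I e (u + (i, j + 1)))) := by
  have h1 : ∀ t ∈ (Trange hI).attach, ((maxV (datOf e hI hi hj
        (Finset.mem_Icc.1 (by exact t.2 : t.1 ∈ Finset.Icc (1 : ℤ) (bnd hI : ℤ))).1)).card : ℤ) =
      ∑ u ∈ box hI, if (t.1 ≤ hZ I e u ∧ hZ I e u < hZ I e (u + (i, j)) + t.1 ∧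
        hZ I e (u + (i + 1, j)) + t.1 ≤ hZ I e u ∧ hZ I e (u + (i, j + 1)) + t.1 ≤ hZ I e u)
        then (1 : ℤ) else 0 := by
    intro t _
    have ht1 : 1 ≤ t.1 := (Finset.mem_Icc.1 (by exact t.2 : t.1 ∈ Finset.Icc (1 : ℤ) (bnd hI : ℤ))).1
    rw [← Finset.sum_filter, Finset.sum_const, nsmul_eq_mul, mul_one]
    congr 2
    ext u
    unfold maxV
    change u ∈ (Xt e hI t.1 (i, j)).filter
      (fun u => u ∉ Xt e hI t.1 (i + 1, j) ∧ u ∉ Xt e hI t.1 (i, j + 1)) ↔ _
    rw [Finset.mem_filter, Finset.mem_filter, mem_Xt e hI ht1, mem_Xt e hI ht1, mem_Xt e hI ht1]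
    constructor
    · rintro ⟨⟨a1, a2, a3⟩, a4, a5⟩
      refine ⟨mem_box_of_pos e hI a1 (by omega), a2, a3, ?_, ?_⟩
      · by_contra hcon
        push Not at hcon
        exact a4 ⟨a1, a2, hcon⟩
      · by_contra hcon
        push Not at hcon
        exact a5 ⟨a1, a2, hcon⟩
    · rintro ⟨a0, a2, a3, a4, a5⟩
      have a1 := ((mem_box hI u).1 a0).1
      exact ⟨⟨a1, a2, a3⟩, fun h => by omega, fun h => by omega⟩
  rw [Finset.sum_congr rfl h1]
  rw [Finset.sum_attach (Trange hI) (fun t => ∑ u ∈ box hI,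
    if (t ≤ hZ I e u ∧ hZ I e u < hZ I e (u + (i, j)) + t ∧
        hZ I e (u + (i + 1, j)) + t ≤ hZ I e u ∧ hZ I e (u + (i, j + 1)) + t ≤ hZ I e u)
        then (1 : ℤ) else 0)]
  rw [Finset.sum_comm]
  apply Finset.sum_congr rfl
  intro u hu
  have hnn : NN u := ((mem_box hI u).1 hu).1
  have hA : hZ I e (u + (i, j)) ≤ hZ I e u := hZ_anti e hI hnn ⟨hi, hj⟩
  have hB : hZ I e (u + (i + 1, j)) ≤ hZ I e (u + (i, j)) := by
    have := hZ_add_le e hI (u := u) (d := (i, j)) (d' := (1, 0)) hnn ⟨hi, hj⟩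
      ⟨by norm_num, by norm_num⟩
    have h2 : ((i, j) : ℤ × ℤ) + (1, 0) = (i + 1, j) := by simp
    rw [h2] at this
    exact this
  have hC : hZ I e (u + (i, j + 1)) ≤ hZ I e (u + (i, j)) := by
    have := hZ_add_le e hI (u := u) (d := (i, j)) (d' := (0, 1)) hnn ⟨hi, hj⟩
      ⟨by norm_num, by norm_num⟩
    have h2 : ((i, j) : ℤ × ℤ) + (0, 1) = (i, j + 1) := by simp
    rw [h2] at this
    exact this
  have h0B : 0 ≤ hZ I e (u + (i + 1, j)) := hZ_nonneg I e _
  have h0C : 0 ≤ hZ I e (u + (i, j + 1)) := hZ_nonneg I e _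
  have hb : hZ I e u ≤ bnd hI := hZ_le_bnd e hI u
  rw [← Finset.sum_filter, Finset.sum_const, nsmul_eq_mul, mul_one]
  have : (Trange hI).filter (fun t => t ≤ hZ I e u ∧ hZ I e u < hZ I e (u + (i, j)) + t ∧
        hZ I e (u + (i + 1, j)) + t ≤ hZ I e u ∧ hZ I e (u + (i, j + 1)) + t ≤ hZ I e u) =
      Finset.Ioc (hZ I e u - hZ I e (u + (i, j)))
        (hZ I e u - max (hZ I e (u + (i + 1, j))) (hZ I e (u + (i, j + 1)))) := by
    ext t
    unfold Trange
    rw [Finset.mem_filter, Finset.mem_Icc, Finset.mem_Ioc]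
    constructor
    · rintro ⟨-, a, b, c, d⟩
      refine ⟨by omega, ?_⟩
      rcases max_cases (hZ I e (u + (i + 1, j))) (hZ I e (u + (i, j + 1))) with ⟨hm, -⟩ | ⟨hm, -⟩ <;>
        rw [hm] <;> omega
    · rintro ⟨a, b⟩
      have hm1 := le_max_left (hZ I e (u + (i + 1, j))) (hZ I e (u + (i, j + 1)))
      have hm2 := le_max_right (hZ I e (u + (i + 1, j))) (hZ I e (u + (i, j + 1)))
      exact ⟨⟨by omega, by omega⟩, by omega, by omega, by omega, by omega⟩
  rw [this, Int.card_Ioc]
  have hm : max (hZ I e (u + (i + 1, j))) (hZ I e (u + (i, j + 1))) ≤ hZ I e (u + (i, j)) :=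
    max_le hB hC
  omega

end Groth.Agent.Lib.Helper15.HilbT
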