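import Mathlib
import Groth.Agent.Lib.Helper15.HilbD4

/-!
# An upper bound for the pieces of sign `ppn` with fixed first two coordinates, II (helper15)
-/

set_option backward.isDefEq.respectTransparency.types false
set_option autoImplicit false
set_option linter.unusedSectionVars false
set_option linter.style.haveILetI false

universe u

namespace Groth.Agent.Lib.Helper15.HilbT

open MvPolynomial W4c1hilbpn Groth.Agent.Lib.Helper8.Hilb Module

variable {k : Type u} [Field k] {I : Ideal (MvPolynomial (Fin 3) k)} (e : Equiv.Perm (Fin 3))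
  (hI : IsMonomial I) [Module.Finite k (MvPolynomial (Fin 3) k ⧸ I)]

/-- the summand of the staircase bound -/
noncomputable def stairTerm (p : ℕ × ℕ) : ℕ :=
  hE I e p.1 p.2 - max (hE I e (p.1 + 1) p.2) (hE I e p.1 (p.2 + 1))

include hI in
lemma finsum_stairTerm (a1 a2 : ℕ) :
    (∑ᶠ p : ℕ × ℕ, (if a1 ≤ p.1 ∧ a2 ≤ p.2 then stairTerm (I := I) e p else 0)) =
      ∑ a ∈ Finset.range (bnd hI), ∑ b ∈ Finset.range (bnd hI),
        stairTerm (I := I) e (a + a1, b + a2) := by
  classical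
  rw [← Finset.sum_product']
  have hinj : Function.Injective (fun q : ℕ × ℕ => (q.1 + a1, q.2 + a2)) := by
    intro q q' h
    simp only [Prod.mk.injEq] at h
    exact Prod.ext (by omega) (by omega)
  rw [finsum_eq_sum_of_support_subset (s := (Finset.range (bnd hI) ×ˢ Finset.range (bnd hI)).image
    (fun q : ℕ × ℕ => (q.1 + a1, q.2 + a2)))]
  · rw [Finset.sum_image (fun q _ q' _ h => hinj h)]
    apply Finset.sum_congr rfl
    intro q _
    rw [if_pos ⟨by simp, by simp⟩]
  · intro p hp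
    rw [Function.mem_support] at hp
    by_cases hc : a1 ≤ p.1 ∧ a2 ≤ p.2
    · rw [if_pos hc] at hp
      have hne : hE I e p.1 p.2 ≠ 0 := by
        intro h0
        apply hp
        unfold stairTerm
        rw [h0]
        simp
      have h1 : p.1 < bnd hI := by
        by_contra hcon
        exact hne (hE_eq_zero_left e hI (by omega))
      have h2 : p.2 < bnd hI := by
        by_contra hcon
        exact hne (hE_eq_zero_right e hI (by omega))
      rw [Finset.coe_image, Set.mem_image]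
      refine ⟨(p.1 - a1, p.2 - a2), ?_, ?_⟩
      · rw [Finset.mem_coe, Finset.mem_product, Finset.mem_range, Finset.mem_range]
        exact ⟨by simp; omega, by simp; omega⟩
      · apply Prod.ext <;> simp <;> omega
    · rw [if_neg hc] at hp
      exact absurd rfl hp

include hI in
theorem finrank_ppn_le (a1 a2 : ℕ) :
    finrank k ↥(⨆ α : {α : Fin 3 → ℤ // α (e 0) = (a1 : ℤ) ∧ α (e 1) = (a2 : ℤ) ∧ α (e 2) < 0},
        tPiece I α.1) ≤
      ∑ᶠ p : ℕ × ℕ, (if a1 ≤ p.1 ∧ a2 ≤ p.2 then stairTerm (I := I) e p else 0) := by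
  classical
  have hi : (0 : ℤ) ≤ a1 := by positivity
  have hj : (0 : ℤ) ≤ a2 := by positivity
  have hL := finrank_iSup_tPiece hI
    (fun α : Fin 3 → ℤ => α (e 0) = (a1 : ℤ) ∧ α (e 1) = (a2 : ℤ) ∧ α (e 2) < 0)
    ((Trange hI).image (fun t => pt e a1 a2 (-t)))
    (by
      intro α hα
      obtain ⟨t, ht, rfl⟩ := Finset.mem_image.1 hα
      unfold Trange at ht
      rw [Finset.mem_Icc] at ht
      refine ⟨pt_e0 _ _ _ _, pt_e1 _ _ _ _, ?_⟩
      rw [pt_e2]
      omega)
    (by
      rintro α ⟨h0, h1, hc⟩ hns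
      have hα : α = pt e a1 a2 (α (e 2)) := by
        rw [← h0, ← h1]
        exact (pt_eta e α).symm
      have ht : (bnd hI : ℤ) < -α (e 2) := by
        by_contra hcon
        push Not at hcon
        apply hns
        rw [Finset.mem_image]
        refine ⟨-α (e 2), ?_, ?_⟩
        · unfold Trange
          rw [Finset.mem_Icc]
          omega
        · rw [neg_neg]
          exact hα.symm
      have := tPiece_ppn_eq_bot e hI hi hj ht
      rw [neg_neg, ← hα] at this
      exact this)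
  rw [Finset.sum_image (fun t _ t' _ h => by
    have := pt_injective_c e a1 a2 h
    omega)] at hL
  rw [hL, finsum_stairTerm e hI]
  -- bound each graded piece
  have hle : ∀ t ∈ (Trange hI).attach, finrank k ↥(tPiece I (pt e a1 a2 (-t.1))) ≤
      (maxV (datOf e hI hi hj
        (Finset.mem_Icc.1 (by exact t.2 : t.1 ∈ Finset.Icc (1 : ℤ) (bnd hI : ℤ))).1)).card := by
    intro t _
    have ht1 : 1 ≤ t.1 := (Finset.mem_Icc.1 (by exact t.2 : t.1 ∈ Finset.Icc (1 : ℤ) (bnd hI : ℤ))).1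
    rw [(colEquiv e (pt e a1 a2 (-t.1)) ((a1 : ℤ), (a2 : ℤ)) hI).finrank_eq]
    have := finrank_Z0_le (k := k) (datOf e hI hi hj ht1)
    rw [← colModel_ppn e hI hi hj ht1] at this
    exact this
  rw [← Finset.sum_attach (Trange hI) (fun t => finrank k ↥(tPiece I (pt e a1 a2 (-t))))]
  refine le_trans (Finset.sum_le_sum hle) ?_
  have hcount := sum_card_maxV e hI hi hj
  rw [sum_box] at hcount
  have hterm : ∀ a b : ℕ, hZ I e (((a : ℤ), (b : ℤ)) + ((a1 : ℤ), (a2 : ℤ))) -
      max (hZ I e (((a : ℤ), (b : ℤ)) + ((a1 : ℤ) + 1, (a2 : ℤ))))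
        (hZ I e (((a : ℤ), (b : ℤ)) + ((a1 : ℤ), (a2 : ℤ) + 1))) =
      ((stairTerm (I := I) e (a + a1, b + a2) : ℕ) : ℤ) := by
    intro a b
    have e1 : hZ I e (((a : ℤ), (b : ℤ)) + ((a1 : ℤ), (a2 : ℤ))) = (hE I e (a + a1) (b + a2) : ℤ) := by
      unfold hZ
      simp only [Prod.mk_add_mk]
      congr 2 <;> omega
    have e2 : hZ I e (((a : ℤ), (b : ℤ)) + ((a1 : ℤ) + 1, (a2 : ℤ))) =
        (hE I e (a + a1 + 1) (b + a2) : ℤ) := by
      unfold hZ
      simp only [Prod.mk_add_mk]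
      congr 2 <;> omega
    have e3 : hZ I e (((a : ℤ), (b : ℤ)) + ((a1 : ℤ), (a2 : ℤ) + 1)) =
        (hE I e (a + a1) (b + a2 + 1) : ℤ) := by
      unfold hZ
      simp only [Prod.mk_add_mk]
      congr 2 <;> omega
    rw [e1, e2, e3]
    unfold stairTerm
    have h1 := hE_anti e hI (a := a + a1) (b := b + a2) (a' := a + a1 + 1) (b' := b + a2)
      (by omega) le_rfl
    have h2 := hE_anti e hI (a := a + a1) (b := b + a2) (a' := a + a1) (b' := b + a2 + 1)
      le_rfl (by omega)
    have hm : max (hE I e (a + a1 + 1) (b + a2)) (hE I e (a + a1) (b + a2 + 1)) ≤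
        hE I e (a + a1) (b + a2) := max_le h1 h2
    push_cast [Nat.cast_sub hm]
    rfl
  simp_rw [hterm] at hcount
  have hcast : ((∑ t ∈ (Trange hI).attach, (maxV (datOf e hI hi hj
      (Finset.mem_Icc.1 (by exact t.2 : t.1 ∈ Finset.Icc (1 : ℤ) (bnd hI : ℤ))).1)).card : ℕ) : ℤ) =
      ((∑ a ∈ Finset.range (bnd hI), ∑ b ∈ Finset.range (bnd hI),
        stairTerm (I := I) e (a + a1, b + a2) : ℕ) : ℤ) := by
    push_cast
    exact hcount
  have := Nat.cast_injective hcast
  omega

end Groth.Agent.Lib.Helper15.HilbT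

namespace Groth.Agent.Lib.Helper15.HilbT

open MvPolynomial W4c1hilbpn Module

theorem finrank_ppn_le_stair {k : Type u} [Field k] {I : Ideal (MvPolynomial (Fin 3) k)}
    (hI : IsMonomial I) [Module.Finite k (MvPolynomial (Fin 3) k ⧸ I)] (a1 a2 : ℕ) :
    finrank k ↥(⨆ α : {α : Fin 3 → ℤ // α 0 = (a1 : ℤ) ∧ α 1 = (a2 : ℤ) ∧ α 2 < 0},
        tPiece I α.1) ≤
      ∑ᶠ p : ℕ × ℕ, (if a1 ≤ p.1 ∧ a2 ≤ p.2
        then stairZ I p.1 p.2 - max (stairZ I (p.1 + 1) p.2) (stairZ I p.1 (p.2 + 1)) else 0) := by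
  have h := finrank_ppn_le (1 : Equiv.Perm (Fin 3)) hI a1 a2
  unfold stairTerm at h
  simp only [hE_one] at h
  exact h

end Groth.Agent.Lib.Helper15.HilbT
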