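import Mathlib
import Groth.Agent.Lib.Helper15.HilbT6

/-!
# Powers of the irrelevant ideal: exponents, finiteness, region (helper15)
-/

set_option backward.isDefEq.respectTransparency.types false
set_option autoImplicit false
set_option linter.unusedSectionVars false
set_option linter.style.haveILetI false

universe u

namespace Groth.Agent.Lib.Helper15.HilbT

open MvPolynomial W4c1hilbpn Groth.Agent.Lib.Helper8.Hilb Module

variable (k : Type u) [Field k] (n r : ℕ)

/-- the `r`-th power of the irrelevant ideal -/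
noncomputable abbrev mPow : Ideal (MvPolynomial (Fin n) k) :=
  (Ideal.span (Set.range (MvPolynomial.X : Fin n → MvPolynomial (Fin n) k))) ^ r

variable {k n r}

lemma mem_exps_mPow (β : Fin n →₀ ℕ) : β ∈ exps (mPow k n r) ↔ r ≤ β.degree := by
  unfold exps
  exact monomial_mem_pow_idealOfVars_iff r β one_ne_zero

lemma isMonomial_mPow : IsMonomial (mPow k n r) := by
  intro p hp β hβ
  have := (mem_pow_idealOfVars_iff r p).1 hp β hβ
  exact (mem_exps_mPow β).2 this

instance finite_quot_mPow : Module.Finite k (MvPolynomial (Fin n) k ⧸ mPow k n r) := by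
  classical
  let π : ↥(restrictTotalDegree (Fin n) k r) →ₗ[k] (MvPolynomial (Fin n) k ⧸ mPow k n r) :=
    ((mPow k n r).mkQ.restrictScalars k) ∘ₗ (restrictTotalDegree (Fin n) k r).subtype
  apply Module.Finite.of_surjective π
  intro q
  obtain ⟨f, rfl⟩ := Ideal.Quotient.mk_surjective q
  let g : MvPolynomial (Fin n) k := ∑ β ∈ f.support.filter (fun β => β.degree < r),
    monomial β (coeff β f)
  have hg : g ∈ restrictTotalDegree (Fin n) k r := by
    rw [mem_restrictTotalDegree]
    refine le_trans (totalDegree_finset_sum _ _) ?_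
    apply Finset.sup_le
    intro β hβ
    rw [Finset.mem_filter] at hβ
    refine le_trans (totalDegree_monomial_le _ _) ?_
    have := hβ.2
    change β.degree ≤ r
    omega
  refine ⟨⟨g, hg⟩, ?_⟩
  change Ideal.Quotient.mk (mPow k n r) g = Ideal.Quotient.mk (mPow k n r) f
  rw [Ideal.Quotient.eq]
  have hfg : g - f = -∑ β ∈ f.support.filter (fun β => ¬ β.degree < r), monomial β (coeff β f) := by
    have := Finset.sum_filter_add_sum_filter_not f.support (fun β => β.degree < r)
      (fun β => monomial β (coeff β f))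
    rw [MvPolynomial.support_sum_monomial_coeff] at this
    linear_combination this
  rw [hfg]
  apply Ideal.neg_mem_iff _ |>.2
  apply Ideal.sum_mem
  intro β hβ
  rw [Finset.mem_filter] at hβ
  have h1 : monomial β (coeff β f) = C (coeff β f) * monomial β (1 : k) := by
    rw [C_mul_monomial, mul_one]
  rw [h1]
  apply Ideal.mul_mem_left
  exact (mem_exps_mPow β).2 (by omega)

/-- the integer coordinate sum -/
def sumZ (γ : Fin n → ℤ) : ℤ := ∑ i, γ i

lemma degree_toN {γ : Fin n → ℤ} (h : ∀ i, 0 ≤ γ i) : ((toN γ).degree : ℤ) = sumZ γ := by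
  rw [Finsupp.degree_eq_sum]
  unfold sumZ
  push_cast
  apply Finset.sum_congr rfl
  intro i _
  rw [toN_apply, Int.toNat_of_nonneg (h i)]

lemma sumZ_add_eZ (γ : Fin n → ℤ) (i : Fin n) : sumZ (γ + eZ i) = sumZ γ + 1 := by
  unfold sumZ
  simp only [Pi.add_apply, Finset.sum_add_distrib]
  congr 1
  rw [Finset.sum_eq_single i]
  · exact eZ_self i
  · intro j _ hj
    exact eZ_ne hj
  · intro h
    exact absurd (Finset.mem_univ i) h

lemma sumZ_sub_eZ (γ : Fin n → ℤ) (i : Fin n) : sumZ (γ - eZ i) = sumZ γ - 1 := by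
  have := sumZ_add_eZ (γ - eZ i) i
  rw [sub_add_cancel] at this
  omega

/-- membership in the region for a power of the irrelevant ideal -/
lemma mem_region_mPow (α γ : Fin n → ℤ) :
    γ ∈ region (mPow k n r) α ↔ (∀ i, α i ≤ γ i) ∧ (r : ℤ) ≤ sumZ γ - sumZ α ∧
      ¬((∀ i, 0 ≤ γ i) ∧ (r : ℤ) ≤ sumZ γ) := by
  rw [mem_region_iff]
  have hsub : sumZ (fun i => γ i - α i) = sumZ γ - sumZ α := by
    unfold sumZ
    rw [Finset.sum_sub_distrib]
  constructor
  · rintro ⟨h1, h2, h3⟩
    refine ⟨fun i => by have := h1 i; omega, ?_, ?_⟩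
    · rw [back, mem_exps_mPow] at h2
      have := degree_toN h1
      rw [hsub] at this
      omega
    · rintro ⟨c1, c2⟩
      apply h3
      refine ⟨c1, ?_⟩
      rw [mem_exps_mPow]
      have := degree_toN c1
      omega
  · rintro ⟨h1, h2, h3⟩
    have h1' : ∀ i, 0 ≤ γ i - α i := fun i => by have := h1 i; omega
    refine ⟨h1', ?_, ?_⟩
    · rw [back, mem_exps_mPow]
      have := degree_toN h1'
      rw [hsub] at this
      omega
    · rintro ⟨c1, c2⟩
      apply h3
      refine ⟨c1, ?_⟩
      rw [mem_exps_mPow] at c2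
      have := degree_toN c1
      omega

end Groth.Agent.Lib.Helper15.HilbT
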