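import Mathlib
import Groth.Agent.Lib.Helper15.HilbM1

/-!
# Powers of the irrelevant ideal: vanishing of graded pieces of the wrong degree (helper15)
-/

set_option backward.isDefEq.respectTransparency.types false
set_option autoImplicit false
set_option linter.unusedSectionVars false
set_option linter.style.haveILetI false

universe u

namespace Groth.Agent.Lib.Helper15.HilbT

open MvPolynomial W4c1hilbpn Groth.Agent.Lib.Helper8.Hilb Module

variable {k : Type u} [Field k] {n r : ℕ}

theorem tPiece_mPow_eq_bot_of_sum_nonneg (α : Fin n → ℤ) (hα : 0 ≤ sumZ α) :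
    tPiece (mPow k n r) α = ⊥ := by
  rw [eq_bot_iff]
  intro φ hφ
  rw [Submodule.mem_bot]
  apply eq_zero_of_val isMonomial_mPow hφ
  intro v hv
  exfalso
  have := (mem_region_mPow α v.1).1 v.2
  exact this.2.2 ⟨hv, by omega⟩

theorem tPiece_mPow_eq_bot_of_sum_le (hn : 2 ≤ n) (α : Fin n → ℤ) (hα : sumZ α ≤ -2) :
    tPiece (mPow k n r) α = ⊥ := by
  classical
  rw [eq_bot_iff]
  intro φ hφ
  rw [Submodule.mem_bot]
  have hI := isMonomial_mPow (k := k) (n := n) (r := r)
  apply eq_zero_of_val hI hφ
  -- a negative entry of `α`
  obtain ⟨i₀, hi₀⟩ : ∃ i₀, α i₀ < 0 := by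
    by_contra hcon
    push Not at hcon
    have : 0 ≤ sumZ α := Finset.sum_nonneg (fun i _ => hcon i)
    omega
  obtain ⟨i₁, hi₁⟩ : ∃ i₁ : Fin n, i₁ ≠ i₀ := by
    by_cases h : i₀ = ⟨0, by omega⟩
    · exact ⟨⟨1, by omega⟩, by rw [h]; intro h'; simpa using congrArg Fin.val h'⟩
    · exact ⟨⟨0, by omega⟩, fun h' => h h'.symm⟩
  -- one step down from a level which is not the lowest one
  have down : ∀ (m : ℕ), (∀ v : ↥(region (mPow k n r) α), (∀ i, 0 ≤ v.1 i) → v.1 i₀ < m →
      val hI φ v = 0) → ∀ v : ↥(region (mPow k n r) α), (∀ i, 0 ≤ v.1 i) → v.1 i₀ = m →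
      (r : ℤ) + sumZ α + 1 ≤ sumZ v.1 → val hI φ v = 0 := by
    intro m ih v hv hvm hL
    obtain ⟨a1, a2, a3⟩ := (mem_region_mPow α v.1).1 v.2
    have hlt : sumZ v.1 < r := by
      by_contra hcon
      push Not at hcon
      exact a3 ⟨hv, hcon⟩
    have hw : v.1 - eZ i₀ ∈ region (mPow k n r) α := by
      rw [mem_region_mPow]
      refine ⟨fun i => ?_, ?_, ?_⟩
      · simp only [Pi.sub_apply]
        by_cases hi : i = i₀
        · subst hi
          rw [eZ_self]
          have := hv i
          omega
        · rw [eZ_ne hi]
          have := a1 i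
          omega
      · rw [sumZ_sub_eZ]
        omega
      · rintro ⟨-, c⟩
        rw [sumZ_sub_eZ] at c
        omega
    have hstep : val hI φ ⟨_, hw⟩ = val hI φ v := by
      apply val_step hI hφ _ _ i₀
      change v.1 = v.1 - eZ i₀ + eZ i₀
      simp
    rw [← hstep]
    by_cases hm0 : m = 0
    · apply val_of_neg
      intro h
      have := h i₀
      simp only [Pi.sub_apply, eZ_self] at this
      omega
    · apply ih
      · intro i
        simp only [Pi.sub_apply]
        by_cases hi : i = i₀
        · subst hi
          rw [eZ_self]
          omega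
        · rw [eZ_ne hi]
          have := hv i
          omega
      · simp only [Pi.sub_apply, eZ_self]
        omega
  have key : ∀ (m : ℕ) (v : ↥(region (mPow k n r) α)), (∀ i, 0 ≤ v.1 i) → v.1 i₀ < m →
      val hI φ v = 0 := by
    intro m
    induction m with
    | zero =>
      intro v hv hlt
      have := hv i₀
      simp only [Nat.cast_zero] at hlt
      omega
    | succ m ih =>
      intro v hv hlt
      by_cases hvm : v.1 i₀ < m
      · exact ih v hv hvm
      · have hvm' : v.1 i₀ = m := by push_cast at hlt; omega
        obtain ⟨a1, a2, a3⟩ := (mem_region_mPow α v.1).1 v.2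
        have hlt' : sumZ v.1 < r := by
          by_contra hcon
          push Not at hcon
          exact a3 ⟨hv, hcon⟩
        by_cases hL : (r : ℤ) + sumZ α + 1 ≤ sumZ v.1
        · exact down m ih v hv hvm' hL
        · -- first move up along `i₁`
          have hw : v.1 + eZ i₁ ∈ region (mPow k n r) α := by
            rw [mem_region_mPow]
            refine ⟨fun i => ?_, ?_, ?_⟩
            · simp only [Pi.add_apply]
              by_cases hi : i = i₁
              · subst hi
                rw [eZ_self]
                have := a1 i
                omega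
              · rw [eZ_ne hi]
                have := a1 i
                omega
            · rw [sumZ_add_eZ]
              omega
            · rintro ⟨-, c⟩
              rw [sumZ_add_eZ] at c
              omega
          have hstep : val hI φ v = val hI φ ⟨_, hw⟩ := val_step hI hφ _ _ i₁ rfl
          rw [hstep]
          apply down m ih
          · intro i
            simp only [Pi.add_apply]
            have := hv i
            by_cases hi : i = i₁
            · subst hi
              rw [eZ_self]
              omega
            · rw [eZ_ne hi]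
              omega
          · simp only [Pi.add_apply, eZ_ne (Ne.symm hi₁), add_zero]
            exact hvm'
          · change (r : ℤ) + sumZ α + 1 ≤ sumZ (v.1 + eZ i₁)
            rw [sumZ_add_eZ]
            omega
  intro v hv
  exact key (v.1 i₀ + 1).toNat v hv (by have := hv i₀; omega)

end Groth.Agent.Lib.Helper15.HilbT
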