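import Mathlib
import Groth.Agent.Lib.Helper15.HilbM2

/-!
# Powers of the irrelevant ideal: the graded pieces of degree `-1` (helper15)
-/

set_option backward.isDefEq.respectTransparency.types false
set_option autoImplicit false
set_option linter.unusedSectionVars false
set_option linter.style.haveILetI false

universe u

namespace Groth.Agent.Lib.Helper15.HilbT

open MvPolynomial W4c1hilbpn Groth.Agent.Lib.Helper8.Hilb Module

variable {k : Type u} [Field k] {n r : ℕ}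

/-- the exponents of degree `r - 1` dominating `α` -/
def GamSet (n r : ℕ) (α : Fin n → ℤ) : Set (Fin n →₀ ℕ) :=
  {γ | γ.degree + 1 = r ∧ ∀ i, α i ≤ (γ i : ℤ)}

lemma sumZ_toZ (γ : Fin n →₀ ℕ) : sumZ (toZ γ) = (γ.degree : ℤ) := by
  rw [Finsupp.degree_eq_sum]
  unfold sumZ Groth.Agent.Lib.Helper8.Hilb.toZ
  push_cast
  rfl

lemma toZ_nonneg (γ : Fin n →₀ ℕ) (i : Fin n) : 0 ≤ toZ γ i := by
  unfold Groth.Agent.Lib.Helper8.Hilb.toZ
  positivity

lemma toZ_mem_region {α : Fin n → ℤ} (hα : sumZ α = -1) {γ : Fin n →₀ ℕ}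
    (hγ : γ ∈ GamSet n r α) : toZ γ ∈ region (mPow k n r) α := by
  rw [mem_region_mPow]
  obtain ⟨h1, h2⟩ := hγ
  refine ⟨h2, ?_, ?_⟩
  · rw [sumZ_toZ]
    omega
  · rintro ⟨-, c⟩
    rw [sumZ_toZ] at c
    omega

lemma toN_mem_GamSet {α : Fin n → ℤ} (hα : sumZ α = -1) (v : ↥(region (mPow k n r) α))
    (hv : ∀ i, 0 ≤ v.1 i) : toN v.1 ∈ GamSet n r α := by
  obtain ⟨a1, a2, a3⟩ := (mem_region_mPow α v.1).1 v.2
  have hlt : sumZ v.1 < r := by
    by_contra hcon
    push Not at hcon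
    exact a3 ⟨hv, hcon⟩
  have hd := degree_toN hv
  refine ⟨by omega, fun i => ?_⟩
  rw [toN_apply, Int.toNat_of_nonneg (hv i)]
  exact a1 i

lemma finite_GamSet (α : Fin n → ℤ) : (GamSet n r α).Finite := by
  apply Set.Finite.subset (Finsupp.finite_of_degree_le r)
  rintro γ ⟨h1, -⟩
  rw [Set.mem_ofPred_eq]
  omega

/-- evaluation at the isolated points of the region -/
noncomputable def PsiM (α : Fin n → ℤ) (hα : sumZ α = -1) :
    ↥(tPiece (mPow k n r) α) →ₗ[k] (↥(GamSet n r α) → k) where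
  toFun φ γ := val isMonomial_mPow φ.1 ⟨toZ γ.1, toZ_mem_region hα γ.2⟩
  map_add' φ ψ := by
    funext γ
    simp only [Submodule.coe_add, val_add, Pi.add_apply]
  map_smul' c φ := by
    funext γ
    simp only [Submodule.coe_smul, val_smul, Pi.smul_apply, smul_eq_mul, RingHom.id_apply]

lemma PsiM_injective (α : Fin n → ℤ) (hα : sumZ α = -1) :
    Function.Injective (PsiM (k := k) (r := r) α hα) := by
  rw [injective_iff_map_eq_zero]
  intro φ hφ
  apply Subtype.ext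
  apply eq_zero_of_val isMonomial_mPow φ.2
  intro v hv
  have h1 := congrFun hφ ⟨toN v.1, toN_mem_GamSet hα v hv⟩
  change val isMonomial_mPow φ.1 ⟨toZ (toN v.1), _⟩ = 0 at h1
  rw [← h1]
  congr 1
  apply Subtype.ext
  exact (toZ_toN v.1 hv).symm

open Classical in
lemma PsiM_surjective (α : Fin n → ℤ) (hα : sumZ α = -1) :
    Function.Surjective (PsiM (k := k) (r := r) α hα) := by
  intro f
  let c : (Fin n → ℤ) → k := fun γ' =>
    if h : (∀ i, 0 ≤ γ' i) ∧ toN γ' ∈ GamSet n r α then f ⟨toN γ', h.2⟩ else 0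
  have hc0 : ∀ γ', ¬((∀ i, 0 ≤ γ' i) ∧ toN γ' ∈ GamSet n r α) → c γ' = 0 := fun γ' h => dif_neg h
  have Ha : ∀ u w : ↥(region (mPow k n r) α), ∀ i, w.1 = u.1 + eZ i → c u.1 = c w.1 := by
    intro u w i h
    obtain ⟨a1, a2, a3⟩ := (mem_region_mPow α u.1).1 u.2
    obtain ⟨b1, b2, b3⟩ := (mem_region_mPow α w.1).1 w.2
    have hs : sumZ w.1 = sumZ u.1 + 1 := by rw [h, sumZ_add_eZ]
    rw [hc0 u.1, hc0 w.1]
    · rintro ⟨c1, c2⟩
      have := degree_toN c1
      have h3 := c2.1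
      omega
    · rintro ⟨c1, c2⟩
      have hd := degree_toN c1
      have h3 := c2.1
      apply b3
      refine ⟨fun j => ?_, by omega⟩
      rw [h]
      simp only [Pi.add_apply]
      have := c1 j
      by_cases hj : j = i
      · subst hj; rw [eZ_self]; omega
      · rw [eZ_ne hj]; omega
  have Hb : ∀ v : ↥(region (mPow k n r) α), (¬ ∀ i, 0 ≤ v.1 i) → c v.1 = 0 := by
    intro v hv
    exact hc0 v.1 (fun h => hv h.1)
  refine ⟨⟨mkTgt isMonomial_mPow Ha Hb, mkTgt_mem isMonomial_mPow Ha Hb⟩, ?_⟩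
  funext γ
  change val isMonomial_mPow (mkTgt isMonomial_mPow Ha Hb) ⟨toZ γ.1, _⟩ = f γ
  rw [val_mkTgt isMonomial_mPow Ha Hb _ (fun i => toZ_nonneg γ.1 i)]
  change (if h : (∀ i, 0 ≤ toZ γ.1 i) ∧ toN (toZ γ.1) ∈ GamSet n r α then
    f ⟨toN (toZ γ.1), h.2⟩ else 0) = f γ
  rw [dif_pos ⟨fun i => toZ_nonneg γ.1 i, by rw [toN_toZ]; exact γ.2⟩]
  congr 1
  apply Subtype.ext
  exact toN_toZ γ.1

theorem finrank_tPiece_mPow_of_sum (α : Fin n → ℤ) (hα : sumZ α = -1) :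
    finrank k ↥(tPiece (mPow k n r) α) = Nat.card ↥(GamSet n r α) := by
  have : Finite ↥(GamSet n r α) := Set.finite_coe_iff.2 (finite_GamSet α)
  have : Fintype ↥(GamSet n r α) := Fintype.ofFinite _
  let E : ↥(tPiece (mPow k n r) α) ≃ₗ[k] (↥(GamSet n r α) → k) :=
    LinearEquiv.ofBijective (PsiM α hα) ⟨PsiM_injective α hα, PsiM_surjective α hα⟩
  rw [E.finrank_eq, Module.finrank_fintype_fun_eq_card, Nat.card_eq_fintype_card]

end Groth.Agent.Lib.Helper15.HilbT
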