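import Mathlib
import Groth.Agent.Lib.Helper15.HilbM3

/-!
# Powers of the irrelevant ideal: the dimension of the graded pieces (helper15)
-/

set_option backward.isDefEq.respectTransparency.types false
set_option autoImplicit false
set_option linter.unusedSectionVars false
set_option linter.style.haveILetI false

universe u

namespace Groth.Agent.Lib.Helper15.HilbT

open MvPolynomial W4c1hilbpn Groth.Agent.Lib.Helper8.Hilb Module

variable {k : Type u} [Field k] {n r : ℕ}

/-- the sum of the absolute values of the negative entries -/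
def negW (α : Fin n → ℤ) : ℕ := ∑ i, (-α i).toNat

lemma degree_toN_pos (α : Fin n → ℤ) : ((toN α).degree : ℤ) = sumZ α + negW α := by
  rw [Finsupp.degree_eq_sum]
  unfold sumZ negW
  push_cast
  rw [← Finset.sum_add_distrib]
  apply Finset.sum_congr rfl
  intro i _
  rw [toN_apply]
  omega

open Classical in
lemma GamSet_eq (α : Fin n → ℤ) (hα : sumZ α = -1) (hw : negW α ≤ r) :
    GamSet n r α = ↑((Finset.univ.finsuppAntidiag (r - negW α)).image (fun δ => δ + toN α)) := by
  have hd := degree_toN_pos α
  ext γ
  rw [Finset.coe_image, Set.mem_image]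
  constructor
  · rintro ⟨h1, h2⟩
    have hle : toN α ≤ γ := by
      intro i
      rw [toN_apply]
      have := h2 i
      omega
    refine ⟨γ - toN α, ?_, tsub_add_cancel_of_le hle⟩
    rw [Finset.mem_coe, Finset.mem_finsuppAntidiag]
    refine ⟨?_, Finset.subset_univ _⟩
    have h3 : (γ - toN α).degree + (toN α).degree = γ.degree := by
      rw [← map_add, tsub_add_cancel_of_le hle]
    rw [← Finsupp.degree_eq_sum]
    omega
  · rintro ⟨δ, hδ, rfl⟩
    rw [Finset.mem_coe, Finset.mem_finsuppAntidiag, ← Finsupp.degree_eq_sum] at hδ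
    refine ⟨?_, fun i => ?_⟩
    · rw [map_add]
      omega
    · rw [Finsupp.add_apply, toN_apply]
      push_cast
      omega

lemma GamSet_eq_empty (α : Fin n → ℤ) (hα : sumZ α = -1) (hw : r < negW α) :
    GamSet n r α = ∅ := by
  have hd := degree_toN_pos α
  rw [Set.eq_empty_iff_forall_notMem]
  rintro γ ⟨h1, h2⟩
  have hle : toN α ≤ γ := by
    intro i
    rw [toN_apply]
    have := h2 i
    omega
  have h3 : (γ - toN α).degree + (toN α).degree = γ.degree := by
    rw [← map_add, tsub_add_cancel_of_le hle]
  omega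

open Classical in
theorem card_GamSet (hn : 1 ≤ n) (α : Fin n → ℤ) (hα : sumZ α = -1) :
    Nat.card ↥(GamSet n r α) =
      if negW α ≤ r then Nat.choose (n + r - negW α - 1) (n - 1) else 0 := by
  split_ifs with hw
  · rw [GamSet_eq α hα hw, Nat.card_coe_set_eq, Set.ncard_coe_finset,
      Finset.card_image_of_injective _ (add_left_injective _),
      Finset.card_finsuppAntidiag_nat_eq_choose, Finset.card_univ, Fintype.card_fin]
    have h1 : n + (r - negW α) - 1 = n + r - negW α - 1 := by omega
    rw [h1]
    apply Nat.choose_symm_of_eq_add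
    omega
  · push Not at hw
    rw [GamSet_eq_empty α hα hw]
    simp

/-- the dimension of the graded pieces of `T(m^r)` -/
theorem finrank_tPiece_mPow (hn : 2 ≤ n) (α : Fin n → ℤ) :
    finrank k ↥(tPiece (mPow k n r) α) =
      if (∑ i, α i = -1 ∧ ∑ i, (-α i).toNat ≤ r)
        then Nat.choose (n + r - (∑ i, (-α i).toNat) - 1) (n - 1) else 0 := by
  by_cases h1 : ∑ i, α i = -1
  · rw [finrank_tPiece_mPow_of_sum α h1, card_GamSet (by omega) α h1]
    unfold negW
    by_cases h2 : ∑ i, (-α i).toNat ≤ r
    · rw [if_pos h2, if_pos ⟨h1, h2⟩]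
    · rw [if_neg h2, if_neg (fun h => h2 h.2)]
  · rw [if_neg (fun h => h1 h.1)]
    have : 0 ≤ sumZ α ∨ sumZ α ≤ -2 := by
      unfold sumZ
      omega
    rcases this with h | h
    · rw [tPiece_mPow_eq_bot_of_sum_nonneg α h]
      simp
    · rw [tPiece_mPow_eq_bot_of_sum_le hn α h]
      simp

end Groth.Agent.Lib.Helper15.HilbT
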