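import Mathlib
import Groth.Agent.Lib.Helper15.HilbM4
import Groth.Agent.Lib.Helper15.HilbD3

/-!
# Powers of the irrelevant ideal in three variables: the sign pieces (helper15)
-/

set_option backward.isDefEq.respectTransparency.types false
set_option autoImplicit false
set_option linter.unusedSectionVars false
set_option linter.style.haveILetI false

universe u

namespace Groth.Agent.Lib.Helper15.HilbT

open MvPolynomial W4c1hilbpn Groth.Agent.Lib.Helper8.Hilb Module

lemma sum_mul_choose (r : ℕ) :
    ∑ v ∈ Finset.range r, (r - v) * Nat.choose (v + 2) 2 = Nat.choose (r + 3) 4 := by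
  induction r with
  | zero => simp
  | succ r ih =>
    rw [Finset.sum_range_succ]
    have h1 : ∑ v ∈ Finset.range r, (r + 1 - v) * Nat.choose (v + 2) 2 =
        ∑ v ∈ Finset.range r, (r - v) * Nat.choose (v + 2) 2 +
          ∑ v ∈ Finset.range r, Nat.choose (v + 2) 2 := by
      rw [← Finset.sum_add_distrib]
      apply Finset.sum_congr rfl
      intro v hv
      rw [Finset.mem_range] at hv
      have : r + 1 - v = (r - v) + 1 := by omega
      rw [this]
      ring
    rw [h1, ih]
    have h2 := Nat.sum_range_add_choose r 2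
    rw [Finset.sum_range_succ] at h2
    have h3 : r + 1 - r = 1 := by omega
    rw [h3, one_mul, add_assoc, h2]
    rw [Nat.choose_succ_succ' (r + 3) 3]
    ring

variable {k : Type u} [Field k] {r : ℕ}

lemma sum_fin3 (e : Equiv.Perm (Fin 3)) (g : Fin 3 → ℤ) :
    ∑ l, g l = g (e 0) + g (e 1) + g (e 2) := by
  rw [← Equiv.sum_comp e g, Fin.sum_univ_three]

lemma sum_fin3_nat (e : Equiv.Perm (Fin 3)) (g : Fin 3 → ℕ) :
    ∑ l, g l = g (e 0) + g (e 1) + g (e 2) := by
  rw [← Equiv.sum_comp e g, Fin.sum_univ_three]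

lemma finrank_tPiece_mPow_pt (e : Equiv.Perm (Fin 3)) (v a : ℕ) (ha : a ≤ v) (hv : v < r) :
    finrank k ↥(tPiece (mPow k 3 r) (pt e (a : ℤ) ((v : ℤ) - a) (-((v : ℤ) + 1)))) =
      Nat.choose (r + 1 - v) 2 := by
  rw [finrank_tPiece_mPow (by norm_num)]
  have h1 : ∑ l, pt e (a : ℤ) ((v : ℤ) - a) (-((v : ℤ) + 1)) l = -1 := by
    rw [sum_fin3 e]
    simp only [pt_e0, pt_e1, pt_e2]
    ring
  have h2 : ∑ l, (-pt e (a : ℤ) ((v : ℤ) - a) (-((v : ℤ) + 1)) l).toNat = v + 1 := by
    rw [sum_fin3_nat e]
    simp only [pt_e0, pt_e1, pt_e2]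
    omega
  rw [if_pos ⟨h1, by omega⟩, h2]
  congr 1
  omega

theorem finrank_sigPiece_mPow_singleton (i : Fin 3) :
    finrank k ↥(sigPiece (mPow k 3 r) {i}) = Nat.choose (r + 3) 4 := by
  classical
  set e : Equiv.Perm (Fin 3) := Equiv.swap 2 i with he
  have he2 : e 2 = i := Equiv.swap_apply_left 2 i
  unfold sigPiece
  let f : (Σ _ : ℕ, ℕ) → (Fin 3 → ℤ) :=
    fun p => pt e (p.2 : ℤ) ((p.1 : ℤ) - p.2) (-((p.1 : ℤ) + 1))
  let T : Finset (Σ _ : ℕ, ℕ) := (Finset.range r).sigma (fun v => Finset.range (v + 1))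
  rw [finrank_iSup_tPiece isMonomial_mPow _ (T.image f)]
  · rw [Finset.sum_image]
    · rw [Finset.sum_sigma]
      have h1 : ∀ v ∈ Finset.range r, ∑ a ∈ Finset.range (v + 1),
          finrank k ↥(tPiece (mPow k 3 r) (f ⟨v, a⟩)) = (v + 1) * Nat.choose (r + 1 - v) 2 := by
        intro v hv
        rw [Finset.mem_range] at hv
        rw [Finset.sum_congr rfl (fun a ha => finrank_tPiece_mPow_pt e v a
          (by rw [Finset.mem_range] at ha; omega) hv)]
        simp
      rw [Finset.sum_congr rfl h1, ← Finset.sum_range_reflect, ← sum_mul_choose r]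
      apply Finset.sum_congr rfl
      intro v hv
      rw [Finset.mem_range] at hv
      have h2 : r - 1 - v + 1 = r - v := by omega
      have h3 : r + 1 - (r - 1 - v) = v + 2 := by omega
      rw [h2, h3]
    · rintro ⟨v, a⟩ hp ⟨v', a'⟩ hp' h
      have h0 := congrFun h (e 0)
      have h2 := congrFun h (e 2)
      simp only [f, pt_e0, pt_e2] at h0 h2
      have hv : v = v' := by omega
      have ha : a = a' := by omega
      subst hv ha
      rfl
  · intro α hα
    rw [Finset.mem_image] at hα
    obtain ⟨⟨v, a⟩, hp, rfl⟩ := hα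
    simp only [T, Finset.mem_sigma, Finset.mem_range] at hp
    rw [forall_fin3 e]
    simp only [f, pt_e0, pt_e1, pt_e2, Set.mem_singleton_iff, ← he2]
    refine ⟨?_, ?_, ?_⟩
    · have := e_ne02 e
      simp [this]
    · have := e_ne12 e
      simp only [this, iff_false]
      omega
    · simp only [iff_true]
      omega
  · intro α hα hns
    by_contra hne
    have hfr : finrank k ↥(tPiece (mPow k 3 r) α) ≠ 0 := by
      intro h0
      haveI := finite_Tgt (isMonomial_mPow (k := k) (n := 3) (r := r))
      exact hne (Submodule.finrank_eq_zero.1 h0)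
    rw [finrank_tPiece_mPow (by norm_num)] at hfr
    split_ifs at hfr with hc
    · obtain ⟨hc1, hc2⟩ := hc
      rw [sum_fin3 e] at hc1
      rw [sum_fin3_nat e] at hc2
      have h0 := hα (e 0)
      have h1 := hα (e 1)
      have h2 := hα (e 2)
      simp only [Set.mem_singleton_iff, ← he2] at h0 h1 h2
      have h0' : 0 ≤ α (e 0) := by
        by_contra hlt
        exact e_ne02 e (h0.1 (by omega))
      have h1' : 0 ≤ α (e 1) := by
        by_contra hlt
        exact e_ne12 e (h1.1 (by omega))
      have h2' : α (e 2) < 0 := h2.2 trivial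
      apply hns
      rw [Finset.mem_image]
      refine ⟨⟨(-α (e 2) - 1).toNat, (α (e 0)).toNat⟩, ?_, ?_⟩
      · simp only [T, Finset.mem_sigma, Finset.mem_range]
        omega
      · apply pt_ext e
        · simp only [f, pt_e0]
          omega
        · simp only [f, pt_e1]
          omega
        · simp only [f, pt_e2]
          omega
    · exact hfr rfl

end Groth.Agent.Lib.Helper15.HilbT
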