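import Mathlib
import Groth.Agent.Lib.Helper15.HilbM5

/-!
# Powers of the irrelevant ideal in three variables: the tangent space (helper15)
-/

set_option backward.isDefEq.respectTransparency.types false
set_option autoImplicit false
set_option linter.unusedSectionVars false
set_option linter.style.haveILetI false

universe u

namespace Groth.Agent.Lib.Helper15.HilbT

open MvPolynomial W4c1hilbpn Groth.Agent.Lib.Helper8.Hilb Module

lemma choose4 (n : ℕ) : 24 * Nat.choose (n + 3) 4 = (n + 3) * (n + 2) * (n + 1) * n := by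
  have h := Nat.descFactorial_eq_factorial_mul_choose (n + 3) 4
  simp only [Nat.descFactorial] at h
  have h24 : Nat.factorial 4 = 24 := by decide
  rw [h24] at h
  rw [← h]
  have h1 : n + 3 - 3 = n := by omega
  have h2 : n + 3 - 2 = n + 1 := by omega
  have h3 : n + 3 - 1 = n + 2 := by omega
  rw [h1, h2, h3]
  simp
  ring

lemma choose2 (n : ℕ) : 2 * Nat.choose (n + 1) 2 = (n + 1) * n := by
  have h := Nat.descFactorial_eq_factorial_mul_choose (n + 1) 2
  simp only [Nat.descFactorial] at h
  have h24 : Nat.factorial 2 = 2 := by decide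
  rw [h24] at h
  rw [← h]
  simp
  ring

lemma choose_id (r : ℕ) : 3 * (Nat.choose (r + 3) 4 + Nat.choose (r + 2) 4) =
    Nat.choose (r + 2) 2 * Nat.choose (r + 1) 2 := by
  rcases r with _ | s
  · simp [Nat.choose_eq_zero_of_lt]
  · have hA := choose4 (s + 1)
    have hB := choose4 s
    have hC := choose2 (s + 2)
    have hD := choose2 (s + 1)
    have h : 24 * (3 * (Nat.choose (s + 1 + 3) 4 + Nat.choose (s + 3) 4)) =
        6 * ((2 * Nat.choose (s + 2 + 1) 2) * (2 * Nat.choose (s + 1 + 1) 2)) := by
      rw [hC, hD, mul_add, mul_add, ← mul_assoc, ← mul_assoc, mul_comm 24 3, mul_assoc, mul_assoc,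
        hA, hB]
      ring
    have h' : s + 1 + 2 = s + 2 + 1 := by ring
    rw [h']
    show 3 * (Nat.choose (s + 1 + 3) 4 + Nat.choose (s + 3) 4) = _
    nlinarith [h]

variable {k : Type u} [Field k] {n r : ℕ}

open Classical in
/-- the colength of `m^r` in `n` variables -/
theorem finrank_quot_mPow (hn : 1 ≤ n) :
    finrank k (MvPolynomial (Fin n) k ⧸ mPow k n r) = Nat.choose (r + n - 1) n := by
  rw [finrank_quot isMonomial_mPow]
  have h1 : nonexps (isMonomial_mPow (k := k) (n := n) (r := r)) =
      (Finset.range r).biUnion (fun d => (Finset.univ : Finset (Fin n)).finsuppAntidiag d) := by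
    ext γ
    rw [mem_nonexps, mem_exps_mPow, Finset.mem_biUnion]
    constructor
    · intro h
      refine ⟨γ.degree, Finset.mem_range.2 (by omega), ?_⟩
      rw [Finset.mem_finsuppAntidiag, ← Finsupp.degree_eq_sum]
      exact ⟨rfl, Finset.subset_univ _⟩
    · rintro ⟨d, hd, hγ⟩
      rw [Finset.mem_finsuppAntidiag, ← Finsupp.degree_eq_sum] at hγ
      rw [Finset.mem_range] at hd
      omega
  rw [h1, Finset.card_biUnion]
  · simp_rw [Finset.card_finsuppAntidiag_nat_eq_choose, Finset.card_univ, Fintype.card_fin]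
    obtain ⟨m, rfl⟩ : ∃ m, n = m + 1 := ⟨n - 1, by omega⟩
    rcases r with _ | s
    · simp
    · have := Nat.sum_range_add_choose s m
      have h2 : s + 1 + (m + 1) - 1 = s + m + 1 := by omega
      rw [h2, ← this]
      apply Finset.sum_congr rfl
      intro d _
      have h3 : m + 1 + d - 1 = d + m := by omega
      rw [h3]
      exact Nat.choose_symm_of_eq_add (by omega)
  · intro d _ d' _ hdd
    rw [Function.onFun, Finset.disjoint_left]
    intro γ h1 h2
    rw [Finset.mem_finsuppAntidiag] at h1 h2
    exact hdd (h1.1.symm.trans h2.1)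

theorem finrank_sigPiece_mPow_compl (i : Fin 3) :
    finrank k ↥(sigPiece (mPow k 3 r) ({i}ᶜ : Set (Fin 3))) = Nat.choose (r + 2) 4 := by
  have h1 := finrank_sigPiece_singleton (isMonomial_mPow (k := k) (n := 3) (r := r)) i
  rw [finrank_sigPiece_mPow_singleton, finrank_quot_mPow (by norm_num)] at h1
  have h2 : Nat.choose (r + 3) 4 = Nat.choose (r + 2) 3 + Nat.choose (r + 2) 4 :=
    Nat.choose_succ_succ' (r + 2) 3
  have h3 : r + 3 - 1 = r + 2 := by omega
  rw [h3] at h1
  omega

theorem finrank_Tgt_mPow :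
    finrank k (Tgt (mPow k 3 r)) = Nat.choose (r + 2) 2 * Nat.choose (r + 1) 2 := by
  rw [finrank_Tgt_eq_sum_sig (isMonomial_mPow (k := k) (n := 3) (r := r))]
  simp_rw [finrank_sigPiece_mPow_singleton, finrank_sigPiece_mPow_compl]
  rw [← choose_id]
  simp

end Groth.Agent.Lib.Helper15.HilbT
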