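import Mathlib
import Groth.Agent.Lib.Helper15.HilbT6

/-!
# Tangent vectors sending a minimal generator to a socle monomial (helper15)
-/

set_option backward.isDefEq.respectTransparency.types false
set_option autoImplicit false
set_option linter.unusedSectionVars false
set_option linter.style.haveILetI false

universe u

namespace Groth.Agent.Lib.Helper15.HilbT

open MvPolynomial W4c1hilbpn Groth.Agent.Lib.Helper8.Hilb

variable {k : Type u} [Field k] {n : ℕ} {I : Ideal (MvPolynomial (Fin n) k)}

lemma toZ_add_single (γ : Fin n →₀ ℕ) (i : Fin n) :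
    Groth.Agent.Lib.Helper8.Hilb.toZ (γ + Finsupp.single i 1) =
      Groth.Agent.Lib.Helper8.Hilb.toZ γ + eZ i := by
  funext j
  simp only [Groth.Agent.Lib.Helper8.Hilb.toZ, Finsupp.coe_add, Pi.add_apply, Nat.cast_add]
  by_cases hji : j = i
  · subst hji
    simp [eZ_self]
  · simp [eZ_ne hji, Finsupp.single_eq_of_ne hji]

open Classical in
/-- a minimal generator `x^β₀` and a socle monomial `x^γ₀` give a nonzero tangent vector of
multidegree `γ₀ - β₀` -/
theorem tPiece_ne_bot_of_socle_gen (hI : IsMonomial I) (β₀ γ₀ : Fin n →₀ ℕ)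
    (hβ : β₀ ∈ exps I) (hβmin : ∀ i, 0 < β₀ i → β₀ - Finsupp.single i 1 ∉ exps I)
    (hγ : γ₀ ∉ exps I) (hsoc : ∀ i, γ₀ + Finsupp.single i 1 ∈ exps I) :
    tPiece I (fun i => (γ₀ i : ℤ) - (β₀ i : ℤ)) ≠ ⊥ := by
  set α : Fin n → ℤ := fun i => (γ₀ i : ℤ) - (β₀ i : ℤ) with hα
  set g : Fin n → ℤ := Groth.Agent.Lib.Helper8.Hilb.toZ γ₀ with hg
  let c : (Fin n → ℤ) → k := fun γ => if γ = g then 1 else 0
  have hgnn : ∀ i, 0 ≤ g i := fun i => by
    simp only [hg, Groth.Agent.Lib.Helper8.Hilb.toZ]
    positivity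
  have Ha : ∀ u w : ↥(region I α), ∀ i, w.1 = u.1 + eZ i → c u.1 = c w.1 := by
    intro u w i hw
    have hu : u.1 ≠ g := by
      intro h
      have hw2 := ((mem_region_iff α w.1).1 w.2).2.2
      apply hw2
      have hw' : w.1 = Groth.Agent.Lib.Helper8.Hilb.toZ (γ₀ + Finsupp.single i 1) := by
        rw [hw, h, toZ_add_single]
      rw [hw']
      refine ⟨fun j => ?_, ?_⟩
      · simp only [Groth.Agent.Lib.Helper8.Hilb.toZ]
        positivity
      · rw [toN_toZ]
        exact hsoc i
    have hw1 : w.1 ≠ g := by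
      intro h
      have hu1 := (mem_region_iff α u.1).1 u.2
      have hui : u.1 = g - eZ i := by
        rw [← h, hw]
        simp
      have h1 := hu1.1 i
      rw [hui] at h1
      simp only [Pi.sub_apply, eZ_self, hg, Groth.Agent.Lib.Helper8.Hilb.toZ, hα] at h1
      have hpos : 0 < β₀ i := by omega
      apply hβmin i hpos
      have : back α u.1 = β₀ - Finsupp.single i 1 := by
        ext j
        rw [hui]
        simp only [back, toN_apply, Pi.sub_apply, hg, Groth.Agent.Lib.Helper8.Hilb.toZ, hα,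
          Finsupp.tsub_apply]
        by_cases hji : j = i
        · subst hji
          rw [eZ_self, Finsupp.single_eq_same]
          omega
        · rw [eZ_ne hji, Finsupp.single_eq_of_ne hji]
          omega
      rw [← this]
      exact hu1.2.1
    simp only [c, if_neg hu, if_neg hw1]
  have Hb : ∀ v : ↥(region I α), (¬ ∀ i, 0 ≤ v.1 i) → c v.1 = 0 := by
    intro v hv
    have : v.1 ≠ g := by
      intro h
      apply hv
      rw [h]
      exact hgnn
    simp only [c, if_neg this]
  intro hbot
  have hmem := mkTgt_mem (c := c) hI Ha Hb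
  rw [hbot, Submodule.mem_bot] at hmem
  have h1 := mkTgt_monomial (c := c) hI Ha Hb β₀ hβ
  rw [hmem, LinearMap.zero_apply] at h1
  have hsh : sh α β₀ = g := by
    funext i
    simp only [sh, hα, hg, Groth.Agent.Lib.Helper8.Hilb.toZ]
    ring
  unfold vv at h1
  rw [hsh, if_pos hgnn] at h1
  have hshift : shift β₀ α = γ₀ := by
    rw [shift_eq_toN_sh, hsh, hg, toN_toZ]
  rw [hshift] at h1
  simp only [c, if_true, one_smul] at h1
  exact mk_monomial_ne_zero hI hγ h1.symm

end Groth.Agent.Lib.Helper15.HilbT
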