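import Mathlib
import Groth.Agent.Lib.Helper15.HilbN1
import Groth.Agent.Lib.Helper15.HilbC7

/-!
# Nonvanishing of pieces with two negative entries in three variables (helper15)
-/

set_option backward.isDefEq.respectTransparency.types false
set_option autoImplicit false
set_option linter.unusedSectionVars false
set_option linter.style.haveILetI false

universe u

namespace Groth.Agent.Lib.Helper15.HilbT

open MvPolynomial W4c1hilbpn Groth.Agent.Lib.Helper8.Hilb

variable {k : Type u} [Field k] {I : Ideal (MvPolynomial (Fin 3) k)} (e : Equiv.Perm (Fin 3))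

lemma ptN_add_single0 (a b c : ℕ) :
    ptN e a b c + Finsupp.single (e 0) 1 = ptN e (a + 1) b c := by
  apply ptN_ext e
  · rw [Finsupp.add_apply, ptN_e0, ptN_e0, Finsupp.single_eq_same]
  · rw [Finsupp.add_apply, ptN_e1, ptN_e1, Finsupp.single_eq_of_ne (e_ne01 e).symm, add_zero]
  · rw [Finsupp.add_apply, ptN_e2, ptN_e2, Finsupp.single_eq_of_ne (e_ne02 e).symm, add_zero]

lemma ptN_add_single1 (a b c : ℕ) :
    ptN e a b c + Finsupp.single (e 1) 1 = ptN e a (b + 1) c := by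
  apply ptN_ext e
  · rw [Finsupp.add_apply, ptN_e0, ptN_e0, Finsupp.single_eq_of_ne (e_ne01 e), add_zero]
  · rw [Finsupp.add_apply, ptN_e1, ptN_e1, Finsupp.single_eq_same]
  · rw [Finsupp.add_apply, ptN_e2, ptN_e2, Finsupp.single_eq_of_ne (e_ne12 e).symm, add_zero]

lemma ptN_add_single2 (a b c : ℕ) :
    ptN e a b c + Finsupp.single (e 2) 1 = ptN e a b (c + 1) := by
  apply ptN_ext e
  · rw [Finsupp.add_apply, ptN_e0, ptN_e0, Finsupp.single_eq_of_ne (e_ne02 e), add_zero]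
  · rw [Finsupp.add_apply, ptN_e1, ptN_e1, Finsupp.single_eq_of_ne (e_ne12 e), add_zero]
  · rw [Finsupp.add_apply, ptN_e2, ptN_e2, Finsupp.single_eq_same]

lemma ptN_sub_single0 (a b c : ℕ) :
    ptN e (a + 1) b c - Finsupp.single (e 0) 1 = ptN e a b c := by
  rw [← ptN_add_single0]
  simp

lemma ptN_sub_single1 (a b c : ℕ) :
    ptN e a (b + 1) c - Finsupp.single (e 1) 1 = ptN e a b c := by
  rw [← ptN_add_single1]
  simp

lemma ptN_sub_single2 (a b c : ℕ) :
    ptN e a b (c + 1) - Finsupp.single (e 2) 1 = ptN e a b c := by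
  rw [← ptN_add_single2]
  simp

variable (hI : IsMonomial I) [Module.Finite k (MvPolynomial (Fin 3) k ⧸ I)]

include hI in
lemma exists_mem0 (b c : ℕ) : ∃ a, ptN e a b c ∈ exps I := by
  refine ⟨bnd hI, ?_⟩
  by_contra h
  have := lt_bnd hI h (e 0)
  rw [ptN_e0] at this
  omega

include hI in
lemma exists_mem1 (a c : ℕ) : ∃ b, ptN e a b c ∈ exps I := by
  refine ⟨bnd hI, ?_⟩
  by_contra h
  have := lt_bnd hI h (e 1)
  rw [ptN_e1] at this
  omega

include hI in
lemma exists_mem2 (a b : ℕ) : ∃ c, ptN e a b c ∈ exps I := by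
  refine ⟨bnd hI, ?_⟩
  by_contra h
  have := lt_bnd hI h (e 2)
  rw [ptN_e2] at this
  omega

lemma sigPiece_ne_bot_of_tPiece (α : Fin 3 → ℤ) (N : Set (Fin 3)) (hN : ∀ i, α i < 0 ↔ i ∈ N)
    (h : tPiece I α ≠ ⊥) : sigPiece I N ≠ ⊥ := by
  intro hbot
  apply h
  rw [eq_bot_iff, ← hbot]
  unfold sigPiece
  exact le_iSup (fun α' : {α' : Fin 3 → ℤ // ∀ i, α' i < 0 ↔ i ∈ N} => tPiece I α'.1) ⟨α, hN⟩

include hI in
/-- three minimal generators in the coordinate planes with the one in the `e 0`-`e 1` plane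
dominating give a nonzero piece negative exactly at `e 0` and `e 1` -/
theorem nnp_ne_bot (p q p' r' q'' r'' : ℕ) (hp' : 0 < p') (hq'' : 0 < q'')
    (hA : ptN e p q 0 ∈ exps I ∧ ptN e (p - 1) q 0 ∉ exps I ∧ ptN e p (q - 1) 0 ∉ exps I)
    (hB : ptN e p' 0 r' ∈ exps I ∧ ptN e (p' - 1) 0 r' ∉ exps I)
    (hC : ptN e 0 q'' r'' ∈ exps I ∧ ptN e 0 (q'' - 1) r'' ∉ exps I)
    (hle1 : p' ≤ p) (hle2 : q'' ≤ q) : sigPiece I {e 0, e 1} ≠ ⊥ := by
  classical
  -- the top of the `e 2`-axis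
  have hex2 := exists_mem2 e hI 0 0
  set cz := Nat.find hex2 with hcz
  have hcz1 : ptN e 0 0 cz ∈ exps I := Nat.find_spec hex2
  have hczpos : 0 < cz := by
    rcases Nat.eq_zero_or_pos cz with h0 | h
    · exfalso
      rw [h0] at hcz1
      exact hA.2.1 (ptN_mem_mono e hcz1 (Nat.zero_le _) (Nat.zero_le _) le_rfl)
    · exact h
  obtain ⟨s, hs⟩ : ∃ s, cz = s + 1 := ⟨cz - 1, by omega⟩
  have hs0 : ptN e 0 0 s ∉ exps I := Nat.find_min hex2 (by omega)
  have hr's : r' ≤ s := by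
    by_contra hcon
    exact hB.2 (ptN_mem_mono e hcz1 (Nat.zero_le _) le_rfl (by omega))
  have hr''s : r'' ≤ s := by
    by_contra hcon
    exact hC.2 (ptN_mem_mono e hcz1 le_rfl (Nat.zero_le _) (by omega))
  -- the end of the row at height `s`
  have hex0 := exists_mem0 e hI 0 s
  set u1 := Nat.find hex0 with hu1
  have hu1mem : ptN e u1 0 s ∈ exps I := Nat.find_spec hex0
  have hu1pos : 0 < u1 := by
    rcases Nat.eq_zero_or_pos u1 with h0 | h
    · exfalso
      rw [h0] at hu1mem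
      exact hs0 hu1mem
    · exact h
  have hu1le : u1 ≤ p' := Nat.find_min' hex0 (ptN_mem_mono e hB.1 le_rfl le_rfl hr's)
  obtain ⟨u, hu⟩ : ∃ u, u1 = u + 1 := ⟨u1 - 1, by omega⟩
  have hu0 : ptN e u 0 s ∉ exps I := Nat.find_min hex0 (by omega)
  -- the end of the column over `u`
  have hex1 := exists_mem1 e hI u s
  set v1 := Nat.find hex1 with hv1
  have hv1mem : ptN e u v1 s ∈ exps I := Nat.find_spec hex1
  have hv1pos : 0 < v1 := by
    rcases Nat.eq_zero_or_pos v1 with h0 | h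
    · exfalso
      rw [h0] at hv1mem
      exact hu0 hv1mem
    · exact h
  have hv1le : v1 ≤ q'' := Nat.find_min' hex1 (ptN_mem_mono e hC.1 (Nat.zero_le _) le_rfl hr''s)
  obtain ⟨v, hv⟩ : ∃ v, v1 = v + 1 := ⟨v1 - 1, by omega⟩
  have hγ : ptN e u v s ∉ exps I := Nat.find_min hex1 (by omega)
  obtain ⟨p0, hp0⟩ : ∃ p0, p = p0 + 1 := ⟨p - 1, by omega⟩
  obtain ⟨q0, hq0⟩ : ∃ q0, q = q0 + 1 := ⟨q - 1, by omega⟩
  subst hp0 hq0
  have hne := tPiece_ne_bot_of_socle_gen hI (ptN e (p0 + 1) (q0 + 1) 0) (ptN e u v s) hA.1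
    (by
      rw [forall_fin3 e]
      refine ⟨fun _ => ?_, fun _ => ?_, fun h => ?_⟩
      · rw [ptN_sub_single0]
        exact hA.2.1
      · rw [ptN_sub_single1]
        exact hA.2.2
      · rw [ptN_e2] at h
        omega)
    hγ
    (by
      rw [forall_fin3 e]
      refine ⟨?_, ?_, ?_⟩
      · rw [ptN_add_single0, ← hu]
        exact ptN_mem_mono e hu1mem le_rfl (Nat.zero_le _) le_rfl
      · rw [ptN_add_single1, ← hv]
        exact hv1mem
      · rw [ptN_add_single2, ← hs]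
        exact ptN_mem_mono e hcz1 (Nat.zero_le _) (Nat.zero_le _) le_rfl)
  refine sigPiece_ne_bot_of_tPiece _ _ ?_ hne
  rw [forall_fin3 e]
  simp only [ptN_e0, ptN_e1, ptN_e2, Set.mem_insert_iff, Set.mem_singleton_iff]
  refine ⟨?_, ?_, ?_⟩
  · simp only [true_or, iff_true]
    omega
  · simp only [or_true, iff_true]
    omega
  · have h1 : e 2 ≠ e 0 := (e_ne02 e).symm
    have h2 : e 2 ≠ e 1 := (e_ne12 e).symm
    simp only [h1, h2, or_self, iff_false]
    omega

end Groth.Agent.Lib.Helper15.HilbT
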