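import Mathlib
import Groth.Agent.Lib.Helper15.HilbD1

/-!
# Slices of a monomial ideal in three variables (helper15)

The slice `I_a ⊆ k[y,z]` of a monomial ideal of finite colength is monomial of finite colength and
its colength is the number of exponents outside `I` with first coordinate `a`.
(The first few lemmas follow helper2's file for S13453.)
-/

set_option backward.isDefEq.respectTransparency.types false
set_option autoImplicit false
set_option linter.unusedSectionVars false
set_option linter.style.haveILetI false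

universe u

namespace Groth.Agent.Lib.Helper15.HilbT

open MvPolynomial W4c1hilbpn Groth.Agent.Lib.Helper8.Hilb Module

variable {k : Type u} [Field k]

/-- the exponent `(a, β)` -/
noncomputable def iota (a : ℕ) (β : Fin 2 →₀ ℕ) : Fin 3 →₀ ℕ :=
  Finsupp.single 0 a + β.mapDomain Fin.succ

lemma iota_zero (a : ℕ) (β : Fin 2 →₀ ℕ) : iota a β 0 = a := by
  have : (β.mapDomain Fin.succ) (0 : Fin 3) = 0 := by
    apply Finsupp.mapDomain_notin_range
    rintro ⟨x, hx⟩
    exact Fin.succ_ne_zero x hx
  simp [iota, this]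

lemma iota_succ (a : ℕ) (β : Fin 2 →₀ ℕ) (l : Fin 2) : iota a β l.succ = β l := by
  have : (β.mapDomain Fin.succ) (l.succ : Fin 3) = β l :=
    Finsupp.mapDomain_apply (Fin.succ_injective _) _ _
  have h2 : (Finsupp.single (0 : Fin 3) a) l.succ = 0 := by
    rw [Finsupp.single_apply, if_neg]
    exact (Fin.succ_ne_zero l).symm
  simp [iota, this, h2]

lemma iota_injective (a : ℕ) : Function.Injective (iota a) := by
  intro β β' h
  ext l
  rw [← iota_succ a β l, ← iota_succ a β' l, h]

lemma mem_sliceX (I : Ideal (MvPolynomial (Fin 3) k)) (a : ℕ) (f : MvPolynomial (Fin 2) k) :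
    f ∈ sliceX I a ↔ X 0 ^ a * rename Fin.succ f ∈ I := by
  unfold sliceX
  rw [Ideal.mem_comap, Submodule.mem_colon_singleton]
  simp [mul_comm]

lemma X_pow_mul_rename_monomial (a : ℕ) (β : Fin 2 →₀ ℕ) (c : k) :
    (X 0 ^ a * rename Fin.succ (monomial β c) : MvPolynomial (Fin 3) k) = monomial (iota a β) c := by
  rw [rename_monomial, X_pow_eq_monomial, monomial_mul, one_mul]
  rfl

variable {I : Ideal (MvPolynomial (Fin 3) k)}

lemma mem_exps_sliceX (a : ℕ) (β : Fin 2 →₀ ℕ) :
    β ∈ exps (sliceX I a) ↔ iota a β ∈ exps I := by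
  unfold exps
  rw [Set.mem_setOf_eq, Set.mem_setOf_eq, mem_sliceX, X_pow_mul_rename_monomial]

lemma mem_sliceX_iff (hI : IsMonomial I) (a : ℕ) (f : MvPolynomial (Fin 2) k) :
    f ∈ sliceX I a ↔ ∀ β ∈ f.support, β ∈ exps (sliceX I a) := by
  simp_rw [mem_exps_sliceX]
  rw [mem_sliceX]
  constructor
  · intro h β hβ
    apply hI _ h
    rw [MvPolynomial.mem_support_iff, X_pow_eq_monomial]
    have := coeff_monomial_mul (β.mapDomain Fin.succ) (Finsupp.single (0 : Fin 3) a) (1 : k)
      (rename Fin.succ f)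
    rw [coeff_rename_mapDomain _ (Fin.succ_injective _)] at this
    unfold iota
    rw [this, one_mul]
    exact MvPolynomial.mem_support_iff.mp hβ
  · intro h
    rw [← support_sum_monomial_coeff f, map_sum, Finset.mul_sum]
    apply Ideal.sum_mem
    intro β hβ
    rw [X_pow_mul_rename_monomial]
    have : (monomial (iota a β) (coeff β f) : MvPolynomial (Fin 3) k)
        = C (coeff β f) * monomial (iota a β) 1 := by
      rw [C_mul_monomial, mul_one]
    rw [this]
    exact Ideal.mul_mem_left _ _ (h β hβ)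

lemma isMonomial_sliceX (hI : IsMonomial I) (a : ℕ) : IsMonomial (sliceX I a) := by
  intro p hp β hβ
  exact (mem_sliceX_iff hI a p).1 hp β hβ

/-- the `k`-linear map `f ↦ x^a f` from `k[y,z]` to `S/I` -/
noncomputable def sliceMap (I : Ideal (MvPolynomial (Fin 3) k)) (a : ℕ) :
    MvPolynomial (Fin 2) k →ₗ[k] (MvPolynomial (Fin 3) k ⧸ I) :=
  ((Ideal.Quotient.mkₐ k I).toLinearMap ∘ₗ (LinearMap.mulLeft k (X 0 ^ a))) ∘ₗ
    (rename Fin.succ : MvPolynomial (Fin 2) k →ₐ[k] MvPolynomial (Fin 3) k).toLinearMap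

lemma sliceMap_apply (a : ℕ) (f : MvPolynomial (Fin 2) k) :
    sliceMap I a f = Ideal.Quotient.mk I (X 0 ^ a * rename Fin.succ f) := rfl

lemma ker_sliceMap (a : ℕ) :
    LinearMap.ker (sliceMap I a) = (sliceX I a).restrictScalars k := by
  ext f
  rw [LinearMap.mem_ker, sliceMap_apply, Ideal.Quotient.eq_zero_iff_mem,
    Submodule.restrictScalars_mem, mem_sliceX]

theorem finite_sliceX [Module.Finite k (MvPolynomial (Fin 3) k ⧸ I)] (a : ℕ) :
    Module.Finite k (MvPolynomial (Fin 2) k ⧸ sliceX I a) := by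
  let g : (MvPolynomial (Fin 2) k ⧸ (sliceX I a).restrictScalars k) →ₗ[k]
      (MvPolynomial (Fin 3) k ⧸ I) :=
    Submodule.liftQ _ (sliceMap I a) (ker_sliceMap a).ge
  have hg : Function.Injective g := by
    rw [← LinearMap.ker_eq_bot]
    apply Submodule.ker_liftQ_eq_bot
    exact (ker_sliceMap a).le
  haveI : Module.Finite k (MvPolynomial (Fin 2) k ⧸ (sliceX I a).restrictScalars k) :=
    Module.Finite.of_injective g hg
  exact Module.Finite.equiv
    (Submodule.Quotient.restrictScalarsEquiv k (sliceX I a))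

open Classical in
/-- the colength of the slice -/
theorem finrank_sliceX (hI : IsMonomial I) [Module.Finite k (MvPolynomial (Fin 3) k ⧸ I)]
    (a : ℕ) :
    finrank k (MvPolynomial (Fin 2) k ⧸ sliceX I a) =
      ((nonexps hI).filter (fun γ => γ 0 = a)).card := by
  haveI := finite_sliceX (I := I) a
  rw [finrank_quot (isMonomial_sliceX hI a)]
  apply Finset.card_bij (fun β _ => iota a β)
  · intro β hβ
    rw [mem_nonexps, mem_exps_sliceX] at hβ
    rw [Finset.mem_filter, mem_nonexps]
    exact ⟨hβ, iota_zero a β⟩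
  · intro β _ β' _ h
    exact iota_injective a h
  · intro γ hγ
    rw [Finset.mem_filter, mem_nonexps] at hγ
    obtain ⟨h1, h2⟩ := hγ
    have hγ' : iota a (Finsupp.equivFunOnFinite.symm (fun l : Fin 2 => γ l.succ)) = γ := by
      ext i
      refine Fin.cases ?_ (fun l => ?_) i
      · rw [iota_zero, h2]
      · rw [iota_succ]
        rfl
    refine ⟨Finsupp.equivFunOnFinite.symm (fun l : Fin 2 => γ l.succ), ?_, hγ'⟩
    rw [mem_nonexps, mem_exps_sliceX, hγ']
    exact h1

open Classical in
/-- the colength of the slice as a sum of staircase heights -/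
theorem finrank_sliceX_eq_sum (e : Equiv.Perm (Fin 3)) (he : e 0 = 0) (hI : IsMonomial I)
    [Module.Finite k (MvPolynomial (Fin 3) k ⧸ I)] {N : ℕ} (hN : bnd hI ≤ N) (a : ℕ) :
    finrank k (MvPolynomial (Fin 2) k ⧸ sliceX I a) = ∑ b ∈ Finset.range N, hE I e a b := by
  rw [finrank_sliceX hI,
    Finset.card_eq_sum_card_fiberwise (f := fun γ : Fin 3 →₀ ℕ => γ (e 1)) (t := Finset.range N)]
  · apply Finset.sum_congr rfl
    intro b _
    rw [← card_fiber e hI a b, Finset.filter_filter]
    congr 1
    apply Finset.filter_congr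
    intro γ _
    rw [Prod.ext_iff, he]
  · intro γ hγ
    rw [Finset.mem_coe, Finset.mem_filter, mem_nonexps] at hγ
    have h1 := lt_bnd hI hγ.1 (e 1)
    simp only [Finset.coe_range, Set.mem_Iio]
    omega

end Groth.Agent.Lib.Helper15.HilbT
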