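import Mathlib

/-!
# Staircase combinatorics for strongly stable ideals in three variables (helper15)
-/

set_option autoImplicit false
set_option linter.unusedSectionVars false
set_option linter.style.haveILetI false

namespace Groth.Agent.Lib.Helper15.HilbS

/-- the tail sums of the slices of `m^r` -/
def tri (r j : ℕ) : ℕ := ∑ i ∈ Finset.Ico j r, Nat.choose (r - i + 1) 2

lemma sum_choose_two (m : ℕ) : ∑ u ∈ Finset.range m, Nat.choose (u + 2) 2 = Nat.choose (m + 2) 3 := by
  induction m with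
  | zero => simp
  | succ m ih =>
    rw [Finset.sum_range_succ, ih, Nat.choose_succ_succ' (m + 2) 2]
    ring

lemma sum_choose_three (m : ℕ) :
    ∑ u ∈ Finset.range m, Nat.choose (u + 3) 3 = Nat.choose (m + 3) 4 := by
  induction m with
  | zero => simp
  | succ m ih =>
    rw [Finset.sum_range_succ, ih, Nat.choose_succ_succ' (m + 3) 3]
    ring

lemma tri_eq (r j : ℕ) (hj : j ≤ r) : tri r j = Nat.choose (r - j + 2) 3 := by
  unfold tri
  rw [← sum_choose_two (r - j), Finset.sum_Ico_eq_sum_range, ← Finset.sum_range_reflect]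
  apply Finset.sum_congr rfl
  intro u hu
  rw [Finset.mem_range] at hu
  congr 1
  omega

lemma tri_zero (r : ℕ) : tri r 0 = Nat.choose (r + 2) 3 := by
  rw [tri_eq r 0 (Nat.zero_le r)]
  rfl

lemma sum_tri (r : ℕ) : ∑ j ∈ Finset.range r, tri r j = Nat.choose (r + 3) 4 := by
  rw [← sum_choose_three r, ← Finset.sum_range_reflect]
  apply Finset.sum_congr rfl
  intro j hj
  rw [Finset.mem_range] at hj
  rw [tri_eq r _ (by omega)]
  congr 1
  omega

/-- a sequence decreasing by at least one while positive has sum at most the triangle number -/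
lemma sum_le_triangle (f : ℕ → ℕ) (hf : ∀ b, 1 ≤ f (b + 1) → f (b + 1) + 1 ≤ f b) (B : ℕ) :
    ∑ b ∈ Finset.range B, f b ≤ Nat.choose (f 0 + 1) 2 := by
  induction B generalizing f with
  | zero => simp
  | succ B ih =>
    rw [Finset.sum_range_succ']
    have h1 := ih (fun b => f (b + 1)) (fun b => hf (b + 1))
    simp only [zero_add] at h1
    have h2 : Nat.choose (f 0 + 1) 2 = f 0 + Nat.choose (f 0) 2 := by
      rw [Nat.choose_succ_succ' (f 0) 1, Nat.choose_one_right]
    rw [h2]
    have h3 : Nat.choose (f 1 + 1) 2 ≤ Nat.choose (f 0) 2 := by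
      rcases Nat.eq_zero_or_pos (f 1) with h0 | hpos
      · rw [h0]
        simp
      · exact Nat.choose_le_choose 2 (hf 0 hpos)
    omega

section stair

variable (Z : ℕ → ℕ → ℕ) (B : ℕ)

/-- the size of the `a`-th slice -/
def sl (a : ℕ) : ℕ := ∑ b ∈ Finset.range B, Z a b

variable {Z B}
variable (hB : ∀ a b, B ≤ b → Z a b = 0)
  (h1 : ∀ a b, 1 ≤ Z a (b + 1) → Z a (b + 1) + 1 ≤ Z a b)
  (h2 : ∀ a b, 1 ≤ Z (a + 1) b → Z (a + 1) b + 1 ≤ Z a b)
  (h3 : ∀ a b, Z (a + 1) b ≤ Z a (b + 1))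

include h1 in
lemma sl_le_triangle (a : ℕ) : sl Z B a ≤ Nat.choose (Z a 0 + 1) 2 :=
  sum_le_triangle (Z a) (h1 a) B

include hB h2 h3 in
lemma sl_step (a : ℕ) (hpos : 1 ≤ Z (a + 1) 0) : sl Z B (a + 1) + Z (a + 1) 0 + 1 ≤ sl Z B a := by
  have e1 : sl Z B a = ∑ b ∈ Finset.range (B + 1), Z a b := by
    rw [Finset.sum_range_succ, hB a B le_rfl, add_zero]
    rfl
  rw [e1, Finset.sum_range_succ']
  have e2 : sl Z B (a + 1) ≤ ∑ b ∈ Finset.range B, Z a (b + 1) :=
    Finset.sum_le_sum (fun b _ => h3 a b)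
  have e3 := h2 a 0 hpos
  omega

include hB h1 h2 h3 in
lemma above_step {r i : ℕ} (hi : i + 1 < r)
    (h : Nat.choose (r - (i + 1) + 1) 2 < sl Z B (i + 1)) :
    Nat.choose (r - i + 1) 2 < sl Z B i := by
  have hA := sl_le_triangle h1 (B := B) (i + 1)
  have hL : r - i ≤ Z (i + 1) 0 := by
    by_contra hcon
    push Not at hcon
    have : Nat.choose (Z (i + 1) 0 + 1) 2 ≤ Nat.choose (r - (i + 1) + 1) 2 :=
      Nat.choose_le_choose 2 (by omega)
    omega
  have hS := sl_step hB h2 h3 i (by omega)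
  have h4 : Nat.choose (r - i + 1) 2 = (r - i) + Nat.choose (r - i) 2 := by
    rw [Nat.choose_succ_succ' (r - i) 1, Nat.choose_one_right]
  have h5 : r - (i + 1) + 1 = r - i := by omega
  rw [h5] at h
  omega

include hB h1 h2 h3 in
lemma above_down {r i' : ℕ} (hi' : i' < r) (h : Nat.choose (r - i' + 1) 2 < sl Z B i') :
    ∀ i, i ≤ i' → Nat.choose (r - i + 1) 2 < sl Z B i := by
  intro i hi
  obtain ⟨m, rfl⟩ := Nat.exists_eq_add_of_le hi
  clear hi
  induction m with
  | zero => exact h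
  | succ m ih =>
    have h6 : i + (m + 1) = (i + m) + 1 := by ring
    rw [h6] at hi' h
    exact ih (by omega) (above_step hB h1 h2 h3 hi' h)

include hB h1 h2 h3 in
/-- the tail bound -/
theorem tail_le {r : ℕ} (hd : ∑ i ∈ Finset.range r, sl Z B i ≤ Nat.choose (r + 2) 3) (j : ℕ)
    (hj : j ≤ r) : ∑ i ∈ Finset.Ico j r, sl Z B i ≤ tri r j := by
  by_cases hall : ∀ i ∈ Finset.Ico j r, sl Z B i ≤ Nat.choose (r - i + 1) 2
  · exact Finset.sum_le_sum hall
  · push Not at hall
    obtain ⟨i', hi', hlt⟩ := hall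
    rw [Finset.mem_Ico] at hi'
    have hdown := above_down hB h1 h2 h3 hi'.2 hlt
    have h4 : ∑ i ∈ Finset.range j, Nat.choose (r - i + 1) 2 ≤ ∑ i ∈ Finset.range j, sl Z B i := by
      apply Finset.sum_le_sum
      intro i hi
      rw [Finset.mem_range] at hi
      exact (hdown i (by omega)).le
    have h5 := Finset.sum_range_add_sum_Ico (fun i => sl Z B i) hj
    have h6 := Finset.sum_range_add_sum_Ico (fun i => Nat.choose (r - i + 1) 2) hj
    have h7 : ∑ i ∈ Finset.range r, Nat.choose (r - i + 1) 2 = Nat.choose (r + 2) 3 := by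
      rw [← tri_zero]
      unfold tri
      rw [Finset.range_eq_Ico]
    unfold tri
    omega

end stair

/-- weighted sums as sums of tail sums -/
lemma sum_tails (s : ℕ → ℕ) (r : ℕ) :
    ∑ j ∈ Finset.range r, ∑ i ∈ Finset.Ico j r, s i = ∑ i ∈ Finset.range r, (i + 1) * s i := by
  induction r with
  | zero => simp
  | succ r ih =>
    rw [Finset.sum_range_succ, Finset.sum_range_succ]
    have h1 : ∀ j ∈ Finset.range r, ∑ i ∈ Finset.Ico j (r + 1), s i =
        ∑ i ∈ Finset.Ico j r, s i + s r := by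
      intro j hj
      rw [Finset.mem_range] at hj
      rw [Finset.sum_Ico_succ_top (by omega)]
    rw [Finset.sum_congr rfl h1, Finset.sum_add_distrib, ih]
    simp
    ring

end Groth.Agent.Lib.Helper15.HilbS
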