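import Mathlib
import Groth.Agent.Lib.Helper15.HilbS1
import Groth.Agent.Lib.Helper15.HilbS2
import Groth.Agent.Lib.Helper15.HilbM6
import Groth.Agent.Lib.Helper15.HilbC7

/-!
# Strongly stable ideals in three variables: slices versus the slices of `m^r` (helper15)
-/

set_option backward.isDefEq.respectTransparency.types false
set_option autoImplicit false
set_option linter.unusedSectionVars false
set_option linter.style.haveILetI false

universe u

namespace Groth.Agent.Lib.Helper15.HilbT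

open MvPolynomial W4c1hilbpn Groth.Agent.Lib.Helper8.Hilb Module
open Groth.Agent.Lib.Helper15.HilbS

variable {k : Type u} [Field k] {I : Ideal (MvPolynomial (Fin 3) k)}

lemma ptN1_0 (a b c : ℕ) : ptN 1 a b c 0 = a := ptN_e0 1 a b c
lemma ptN1_1 (a b c : ℕ) : ptN 1 a b c 1 = b := ptN_e1 1 a b c
lemma ptN1_2 (a b c : ℕ) : ptN 1 a b c 2 = c := ptN_e2 1 a b c

lemma ptN1_ext {β β' : Fin 3 →₀ ℕ} (h0 : β 0 = β' 0) (h1 : β 1 = β' 1) (h2 : β 2 = β' 2) :
    β = β' := ptN_ext 1 h0 h1 h2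

lemma ss_move (hS : IsStronglyStable I) {β β' : Fin 3 →₀ ℕ} (hβ : β ∈ exps I) (i j : Fin 3)
    (hij : i < j) (hj : β' j + 1 = β j) (hi : β' i = β i + 1)
    (hl : ∀ l, l ≠ i → l ≠ j → β' l = β l) : β' ∈ exps I := by
  have := hS.2 β hβ i j hij (by omega)
  convert this using 1
  ext l
  simp only [Finsupp.add_apply, Finsupp.tsub_apply, Finsupp.single_apply]
  by_cases h1 : l = i
  · subst h1
    have : j ≠ l := ne_of_gt hij
    simp only [this, if_false, if_true]
    omega
  · by_cases h2 : l = j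
    · subst h2
      have : i ≠ l := ne_of_lt hij
      simp only [this, if_false, if_true]
      omega
    · have h1' : i ≠ l := fun h => h1 h.symm
      have h2' : j ≠ l := fun h => h2 h.symm
      simp only [h1', h2', if_false]
      rw [hl l h1 h2]
      omega

lemma forall_fin3' {P : Fin 3 → Prop} (h0 : P 0) (h1 : P 1) (h2 : P 2) : ∀ l, P l := by
  intro l
  fin_cases l
  exacts [h0, h1, h2]

lemma ss_move21 (hS : IsStronglyStable I) {a b c : ℕ} (h : ptN 1 a b (c + 1) ∈ exps I) :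
    ptN 1 a (b + 1) c ∈ exps I := by
  apply ss_move hS h 1 2 (by decide)
  · rw [ptN1_2, ptN1_2]
  · rw [ptN1_1, ptN1_1]
  · apply forall_fin3'
    · intro _ _
      rw [ptN1_0, ptN1_0]
    · intro h
      exact absurd rfl h
    · intro _ h
      exact absurd rfl h

lemma ss_move20 (hS : IsStronglyStable I) {a b c : ℕ} (h : ptN 1 a b (c + 1) ∈ exps I) :
    ptN 1 (a + 1) b c ∈ exps I := by
  apply ss_move hS h 0 2 (by decide)
  · rw [ptN1_2, ptN1_2]
  · rw [ptN1_0, ptN1_0]
  · apply forall_fin3'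
    · intro h
      exact absurd rfl h
    · intro _ _
      rw [ptN1_1, ptN1_1]
    · intro _ h
      exact absurd rfl h

lemma ss_move10 (hS : IsStronglyStable I) {a b c : ℕ} (h : ptN 1 a (b + 1) c ∈ exps I) :
    ptN 1 (a + 1) b c ∈ exps I := by
  apply ss_move hS h 0 1 (by decide)
  · rw [ptN1_1, ptN1_1]
  · rw [ptN1_0, ptN1_0]
  · apply forall_fin3'
    · intro h
      exact absurd rfl h
    · intro _ h
      exact absurd rfl h
    · intro _ _
      rw [ptN1_2, ptN1_2]

lemma ss_pure (hS : IsStronglyStable I) {a b c : ℕ} (h : ptN 1 a b c ∈ exps I) :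
    ptN 1 (a + b + c) 0 0 ∈ exps I := by
  induction c generalizing a with
  | succ c ih =>
    have := ih (ss_move20 hS h)
    have e1 : a + 1 + b + c = a + b + (c + 1) := by ring
    rw [e1] at this
    exact this
  | zero =>
    induction b generalizing a with
    | zero => exact h
    | succ b ih =>
      have := ih (ss_move10 hS h)
      have e1 : a + 1 + b + 0 = a + (b + 1) + 0 := by ring
      rw [e1] at this
      exact this

lemma degree_fin3 (γ : Fin 3 →₀ ℕ) : γ.degree = γ 0 + γ 1 + γ 2 := by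
  rw [Finsupp.degree_eq_sum, Fin.sum_univ_three]

/-- if `x^m ∉ I` then no monomial of degree at most `m` lies in `I` -/
lemma ss_not_mem (hS : IsStronglyStable I) {m : ℕ} (hm : ptN 1 m 0 0 ∉ exps I)
    (γ : Fin 3 →₀ ℕ) (hγ : γ.degree ≤ m) : γ ∉ exps I := by
  intro h
  apply hm
  have h1 : ptN 1 (γ 0) (γ 1) (γ 2) ∈ exps I := by
    have := ptN_eta 1 γ
    simp only [Equiv.Perm.coe_one, id_eq] at this
    rw [this]
    exact h
  have h2 := ss_pure hS h1
  rw [degree_fin3] at hγ
  exact ptN_mem_mono 1 h2 hγ le_rfl le_rfl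

variable [Module.Finite k (MvPolynomial (Fin 3) k ⧸ I)]

/-- an ideal containing no monomial of degree `< r` has colength at least that of `m^r` -/
lemma choose_le_finrank (hI : IsMonomial I) {r : ℕ} (h : ∀ γ : Fin 3 →₀ ℕ, γ.degree < r → γ ∉ exps I) :
    nonexps (isMonomial_mPow (k := k) (n := 3) (r := r)) ⊆ nonexps hI ∧
    Nat.choose (r + 2) 3 ≤ finrank k (MvPolynomial (Fin 3) k ⧸ I) := by
  have hsub : nonexps (isMonomial_mPow (k := k) (n := 3) (r := r)) ⊆ nonexps hI := by
    intro γ hγ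
    rw [mem_nonexps, mem_exps_mPow] at hγ
    rw [mem_nonexps]
    exact h γ (by omega)
  refine ⟨hsub, ?_⟩
  have h1 := finrank_quot_mPow (k := k) (n := 3) (r := r) (by norm_num)
  rw [finrank_quot isMonomial_mPow] at h1
  rw [finrank_quot hI]
  have h2 := Finset.card_le_card hsub
  have h3 : r + 3 - 1 = r + 2 := by omega
  rw [h3] at h1
  omega

lemma eq_mPow (hI : IsMonomial I) {r : ℕ} (h : ∀ γ : Fin 3 →₀ ℕ, γ.degree < r → γ ∉ exps I)
    (hd : finrank k (MvPolynomial (Fin 3) k ⧸ I) ≤ Nat.choose (r + 2) 3) : I = mPow k 3 r := by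
  obtain ⟨hsub, _⟩ := choose_le_finrank hI h
  have h1 := finrank_quot_mPow (k := k) (n := 3) (r := r) (by norm_num)
  rw [finrank_quot isMonomial_mPow] at h1
  rw [finrank_quot hI] at hd
  have h3 : r + 3 - 1 = r + 2 := by omega
  rw [h3] at h1
  have heq := Finset.eq_of_subset_of_card_le hsub (by omega)
  have hex : ∀ γ : Fin 3 →₀ ℕ, γ ∈ exps I ↔ γ ∈ exps (mPow k 3 r) := by
    intro γ
    rw [← not_iff_not, ← mem_nonexps hI, ← mem_nonexps isMonomial_mPow, heq]
  ext f
  rw [mem_iff_support hI, mem_iff_support isMonomial_mPow]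
  exact forall₂_congr (fun γ _ => hex γ)

section heights

variable (hS : IsStronglyStable I)

include hS in
lemma hE_rel1 (a b : ℕ) (h : 1 ≤ hE I 1 a (b + 1)) : hE I 1 a (b + 1) + 1 ≤ hE I 1 a b := by
  obtain ⟨c, hc⟩ : ∃ c, hE I 1 a (b + 1) = c + 1 := ⟨hE I 1 a (b + 1) - 1, by omega⟩
  have h1 : ptN 1 a (b + 1) c ∉ exps I := by
    rw [ptN_mem_iff 1 hS.1]
    omega
  have h2 : ptN 1 a b (c + 1) ∉ exps I := fun h => h1 (ss_move21 hS h)
  rw [ptN_mem_iff 1 hS.1] at h2
  omega

include hS in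
lemma hE_rel2 (a b : ℕ) (h : 1 ≤ hE I 1 (a + 1) b) : hE I 1 (a + 1) b + 1 ≤ hE I 1 a b := by
  obtain ⟨c, hc⟩ : ∃ c, hE I 1 (a + 1) b = c + 1 := ⟨hE I 1 (a + 1) b - 1, by omega⟩
  have h1 : ptN 1 (a + 1) b c ∉ exps I := by
    rw [ptN_mem_iff 1 hS.1]
    omega
  have h2 : ptN 1 a b (c + 1) ∉ exps I := fun h => h1 (ss_move20 hS h)
  rw [ptN_mem_iff 1 hS.1] at h2
  omega

include hS in
lemma hE_rel3 (a b : ℕ) : hE I 1 (a + 1) b ≤ hE I 1 a (b + 1) := by
  have h1 : ptN 1 a (b + 1) (hE I 1 a (b + 1)) ∈ exps I := by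
    rw [ptN_mem_iff 1 hS.1]
  have h2 := ss_move10 hS h1
  rw [ptN_mem_iff 1 hS.1] at h2
  exact h2

end heights

/-- the sizes of the slices -/
noncomputable def slc (I : Ideal (MvPolynomial (Fin 3) k)) (a : ℕ) : ℕ :=
  finrank k (MvPolynomial (Fin 2) k ⧸ sliceX I a)

lemma slc_eq (hI : IsMonomial I) (a : ℕ) : slc I a = sl (hE I 1) (bnd hI) a := by
  unfold slc sl
  exact finrank_sliceX_eq_sum 1 rfl hI le_rfl a

open Classical in
lemma sum_slc_le (hI : IsMonomial I) (r : ℕ) :
    ∑ i ∈ Finset.range r, slc I i ≤ finrank k (MvPolynomial (Fin 3) k ⧸ I) := by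
  unfold slc
  simp_rw [finrank_sliceX hI]
  rw [Finset.sum_card_fiberwise_eq_card_filter, finrank_quot hI]
  exact Finset.card_filter_le _ _

/-- the tail sums of the slices of a strongly stable ideal of colength at most that of `m^r` are at
most those of `m^r` -/
theorem slice_tail_le (hS : IsStronglyStable I) {r : ℕ}
    (hd : finrank k (MvPolynomial (Fin 3) k ⧸ I) ≤ Nat.choose (r + 2) 3) (j : ℕ) (hj : j ≤ r) :
    ∑ i ∈ Finset.Ico j r, slc I i ≤ tri r j := by
  simp_rw [slc_eq hS.1]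
  apply tail_le (fun a b hb => hE_eq_zero_right 1 hS.1 hb) (hE_rel1 hS) (hE_rel2 hS) (hE_rel3 hS)
    _ j hj
  simp_rw [← slc_eq hS.1]
  exact le_trans (sum_slc_le hS.1 r) hd

/-- equality of all the tail sums forces `I = m^r` -/
theorem eq_mPow_of_tail_eq (hS : IsStronglyStable I) {r : ℕ}
    (hd : finrank k (MvPolynomial (Fin 3) k ⧸ I) ≤ Nat.choose (r + 2) 3)
    (heq : ∀ j, j < r → ∑ i ∈ Finset.Ico j r, slc I i = tri r j) : I = mPow k 3 r := by
  apply eq_mPow hS.1 _ hd
  rcases Nat.eq_zero_or_pos r with h0 | hpos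
  · subst h0
    intro γ hγ
    omega
  · obtain ⟨m, rfl⟩ : ∃ m, r = m + 1 := ⟨r - 1, by omega⟩
    have h1 := heq m (by omega)
    unfold tri at h1
    have h2 : Finset.Ico m (m + 1) = {m} := by
      ext x
      simp
    rw [h2, Finset.sum_singleton, Finset.sum_singleton] at h1
    have h3 : m + 1 - m + 1 = 2 := by omega
    rw [h3, Nat.choose_self] at h1
    -- `x^m ∉ I`
    have hm : ptN 1 m 0 0 ∉ exps I := by
      intro hmem
      have : slc I m = 0 := by
        rw [slc_eq hS.1]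
        unfold sl
        apply Finset.sum_eq_zero
        intro b _
        rw [← Nat.le_zero, ← ptN_mem_iff 1 hS.1]
        exact ptN_mem_mono 1 hmem le_rfl (Nat.zero_le b) le_rfl
      omega
    intro γ hγ
    exact ss_not_mem hS hm γ (by omega)

end Groth.Agent.Lib.Helper15.HilbT
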