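import Mathlib
import Groth.Agent.Lib.Helper15.HilbN2
import Groth.Agent.Lib.Helper15.HilbS3

/-!
# Singular monomial points: three planar generators; strongly stable ideals (helper15)
-/

set_option backward.isDefEq.respectTransparency.types false
set_option autoImplicit false
set_option linter.unusedSectionVars false
set_option linter.style.haveILetI false

universe u

namespace Groth.Agent.Lib.Helper15.HilbT

open MvPolynomial W4c1hilbpn Groth.Agent.Lib.Helper8.Hilb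

variable {k : Type u} [Field k] {I : Ideal (MvPolynomial (Fin 3) k)}

/-- the transposition of `y` and `z` -/
def swYZ : Equiv.Perm (Fin 3) := Equiv.swap 1 2

/-- the rotation `0 ↦ 1 ↦ 2 ↦ 0` -/
def rot : Equiv.Perm (Fin 3) := finRotate 3

lemma swYZ_0 : swYZ 0 = 0 := by decide
lemma swYZ_1 : swYZ 1 = 2 := by decide
lemma swYZ_2 : swYZ 2 = 1 := by decide
lemma rot_0 : rot 0 = 1 := by decide
lemma rot_1 : rot 1 = 2 := by decide
lemma rot_2 : rot 2 = 0 := by decide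

lemma e3_eq_ptN_sw (a b c : ℕ) : e3 a b c = ptN swYZ a c b := by
  apply ptN_ext swYZ
  · rw [ptN_e0, swYZ_0]
    rfl
  · rw [ptN_e1, swYZ_1]
    rfl
  · rw [ptN_e2, swYZ_2]
    rfl

lemma e3_eq_ptN_rot (a b c : ℕ) : e3 a b c = ptN rot b c a := by
  apply ptN_ext rot
  · rw [ptN_e0, rot_0]
    rfl
  · rw [ptN_e1, rot_1]
    rfl
  · rw [ptN_e2, rot_2]
    rfl

theorem three_gens_singular (hI : IsMonomial I) [Module.Finite k (MvPolynomial (Fin 3) k ⧸ I)]
    (a1 a2 b1 b3 c2 c3 : ℕ) (ha1 : 0 < a1) (ha2 : 0 < a2) (hb1 : 0 < b1) (hb3 : 0 < b3)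
    (hc2 : 0 < c2) (hc3 : 0 < c3)
    (hA : e3 a1 a2 0 ∈ exps I ∧ e3 (a1 - 1) a2 0 ∉ exps I ∧ e3 a1 (a2 - 1) 0 ∉ exps I)
    (hB : e3 b1 0 b3 ∈ exps I ∧ e3 (b1 - 1) 0 b3 ∉ exps I ∧ e3 b1 0 (b3 - 1) ∉ exps I)
    (hC : e3 0 c2 c3 ∈ exps I ∧ e3 0 (c2 - 1) c3 ∉ exps I ∧ e3 0 c2 (c3 - 1) ∉ exps I)
    (hcase : (b1 ≤ a1 ∧ c2 ≤ a2) ∨ (a1 ≤ b1 ∧ c3 ≤ b3) ∨ (a2 ≤ c2 ∧ b3 ≤ c3)) :
    sigPiece I ({0, 1} : Set (Fin 3)) ≠ ⊥ ∨ sigPiece I ({0, 2} : Set (Fin 3)) ≠ ⊥ ∨
      sigPiece I ({1, 2} : Set (Fin 3)) ≠ ⊥ := by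
  rcases hcase with ⟨h1, h2⟩ | ⟨h1, h2⟩ | ⟨h1, h2⟩
  · left
    simp only [← ptN_one] at hA hB hC
    exact nnp_ne_bot 1 hI a1 a2 b1 b3 c2 c3 hb1 hc2 hA ⟨hB.1, hB.2.1⟩ ⟨hC.1, hC.2.1⟩ h1 h2
  · right
    left
    simp only [e3_eq_ptN_sw] at hA hB hC
    have := nnp_ne_bot swYZ hI b1 b3 a1 a2 c3 c2 ha1 hc3 hB ⟨hA.1, hA.2.1⟩ ⟨hC.1, hC.2.2⟩ h1 h2
    rw [swYZ_0, swYZ_1] at this
    exact this
  · right
    right
    simp only [e3_eq_ptN_rot] at hA hB hC
    have := nnp_ne_bot rot hI c2 c3 a2 a1 b3 b1 ha2 hb3 hC ⟨hA.1, hA.2.2⟩ ⟨hB.1, hB.2.2⟩ h1 h2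
    rw [rot_0, rot_1] at this
    exact this

section stable

variable (hI : IsMonomial I)

include hI in
/-- if `x ∈ I`, pieces negative at `x` and at another variable vanish -/
lemma tPiece_eq_bot_of_X_mem (hx : (X 0 : MvPolynomial (Fin 3) k) ∈ I) (α : Fin 3 → ℤ)
    (h0 : α 0 < 0) (j : Fin 3) (hj : j ≠ 0) (hαj : α j < 0) : tPiece I α = ⊥ := by
  rw [eq_bot_iff]
  intro φ hφ
  rw [Submodule.mem_bot]
  apply eq_zero_of_monomials hI
  intro β hβ
  have hx' : monomial (Finsupp.single (0 : Fin 3) 1) (1 : k) ∈ I := hx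
  have hφx : φ ⟨monomial (Finsupp.single (0 : Fin 3) 1) 1, hx'⟩ = 0 := by
    apply (hφ _ hx').2
    refine ⟨j, ?_⟩
    rw [Finsupp.single_eq_of_ne hj]
    simpa using hαj
  rcases Nat.eq_zero_or_pos (β 0) with hβ0 | hβ0
  · apply (hφ β hβ).2
    refine ⟨0, ?_⟩
    rw [hβ0]
    simpa using h0
  · have hle : Finsupp.single (0 : Fin 3) 1 ≤ β := by
      rw [Finsupp.single_le_iff]
      exact hβ0
    have hsplit : (⟨monomial β 1, hβ⟩ : ↥I) =
        (monomial (β - Finsupp.single (0 : Fin 3) 1) (1 : k)) •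
          (⟨monomial (Finsupp.single (0 : Fin 3) 1) 1, hx'⟩ : ↥I) := by
      apply Subtype.ext
      change monomial β 1 = monomial (β - Finsupp.single (0 : Fin 3) 1) (1 : k) *
        monomial (Finsupp.single (0 : Fin 3) 1) 1
      rw [monomial_mul, one_mul, tsub_add_cancel_of_le hle]
    rw [hsplit, map_smul, hφx, smul_zero]

include hI in
/-- if `x ∈ I`, pieces positive at `x` vanish -/
lemma tPiece_eq_bot_of_X_mem_pos (hx : (X 0 : MvPolynomial (Fin 3) k) ∈ I) (α : Fin 3 → ℤ)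
    (h0 : 0 < α 0) : tPiece I α = ⊥ := by
  rw [eq_bot_iff]
  intro φ hφ
  rw [Submodule.mem_bot]
  apply eq_zero_of_monomials hI
  intro β hβ
  by_cases hnn : ∀ i, 0 ≤ (β i : ℤ) + α i
  · obtain ⟨c, hc⟩ := Submodule.mem_span_singleton.1 ((hφ β hβ).1 hnn)
    have hmem : shift β α ∈ exps I := by
      have hpos : 0 < shift β α 0 := by
        rw [shift_eq, toN_apply]
        have : (0 : ℤ) ≤ β 0 := by positivity
        omega
      have hle : Finsupp.single (0 : Fin 3) 1 ≤ shift β α := by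
        rw [Finsupp.single_le_iff]
        exact hpos
      have hx' : Finsupp.single (0 : Fin 3) 1 ∈ exps I := hx
      have := exps_add I hx' (shift β α - Finsupp.single (0 : Fin 3) 1)
      rw [add_tsub_cancel_of_le hle] at this
      exact this
    rw [← hc, mk_monomial_eq_zero hmem, smul_zero]
  · push Not at hnn
    exact (hφ β hβ).2 hnn

variable [Module.Finite k (MvPolynomial (Fin 3) k ⧸ I)]

include hI in
theorem sig_eq_bot_of_X_mem (hx : (X 0 : MvPolynomial (Fin 3) k) ∈ I) :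
    sigPiece I ({1, 2} : Set (Fin 3)) = ⊥ ∧ sigPiece I ({0, 2} : Set (Fin 3)) = ⊥ ∧
      sigPiece I ({0, 1} : Set (Fin 3)) = ⊥ := by
  refine ⟨?_, ?_, ?_⟩
  · unfold sigPiece
    rw [iSup_eq_bot]
    rintro ⟨α, hα⟩
    have h0 : ¬ α 0 < 0 := by
      rw [hα 0]
      simp
    have h1 : α 1 < 0 := (hα 1).2 (by simp)
    have h2 : α 2 < 0 := (hα 2).2 (by simp)
    rcases eq_or_lt_of_le (not_lt.1 h0) with h | h
    · apply tPiece_eq_bot_of_two_neg hI α 1 2 (by decide) h1 h2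
      intro i
      fin_cases i
      · exact h.symm.le
      · exact h1.le
      · exact h2.le
    · exact tPiece_eq_bot_of_X_mem_pos hI hx α h
  · unfold sigPiece
    rw [iSup_eq_bot]
    rintro ⟨α, hα⟩
    exact tPiece_eq_bot_of_X_mem hI hx α ((hα 0).2 (by simp)) 2 (by decide) ((hα 2).2 (by simp))
  · unfold sigPiece
    rw [iSup_eq_bot]
    rintro ⟨α, hα⟩
    exact tPiece_eq_bot_of_X_mem hI hx α ((hα 0).2 (by simp)) 1 (by decide) ((hα 1).2 (by simp))

end stable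

/-- a strongly stable ideal not containing `x` has a nonzero piece negative exactly at `x, y` -/
theorem sig_ne_bot_of_X_not_mem (hS : IsStronglyStable I)
    [Module.Finite k (MvPolynomial (Fin 3) k ⧸ I)]
    (hx : (X 0 : MvPolynomial (Fin 3) k) ∉ I) : sigPiece I ({0, 1} : Set (Fin 3)) ≠ ⊥ := by
  classical
  have hI := hS.1
  have hx' : ptN 1 1 0 0 ∉ exps I := by
    intro h
    apply hx
    have : ptN 1 1 0 0 = Finsupp.single (0 : Fin 3) 1 := by
      apply ptN1_ext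
      · rw [ptN1_0, Finsupp.single_eq_same]
      · rw [ptN1_1, Finsupp.single_eq_of_ne (by decide)]
      · rw [ptN1_2, Finsupp.single_eq_of_ne (by decide)]
    rw [this] at h
    exact h
  -- the least `b` with `x y^b ∈ I`
  have hex1 := exists_mem1 1 hI 1 0
  set b1 := Nat.find hex1 with hb1
  have hb1mem : ptN 1 1 b1 0 ∈ exps I := Nat.find_spec hex1
  have hb1pos : 0 < b1 := by
    rcases Nat.eq_zero_or_pos b1 with h0 | h
    · exfalso
      rw [h0] at hb1mem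
      exact hx' hb1mem
    · exact h
  obtain ⟨b, hb⟩ : ∃ b, b1 = b + 1 := ⟨b1 - 1, by omega⟩
  have hbmin : ptN 1 1 b 0 ∉ exps I := Nat.find_min hex1 (by omega)
  -- the top of the column over `(0, b)`
  have hex2 := exists_mem2 1 hI 0 b
  set c1 := Nat.find hex2 with hc1
  have hc1mem : ptN 1 0 b c1 ∈ exps I := Nat.find_spec hex2
  have hc1pos : 0 < c1 := by
    rcases Nat.eq_zero_or_pos c1 with h0 | h
    · exfalso
      rw [h0] at hc1mem
      exact hbmin (ptN_mem_mono 1 hc1mem (Nat.zero_le _) le_rfl le_rfl)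
    · exact h
  obtain ⟨s, hs⟩ : ∃ s, c1 = s + 1 := ⟨c1 - 1, by omega⟩
  have hγ : ptN 1 0 b s ∉ exps I := Nat.find_min hex2 (by omega)
  rw [hs] at hc1mem
  rw [hb] at hb1mem
  have hne := tPiece_ne_bot_of_socle_gen hI (ptN 1 1 (b + 1) 0) (ptN 1 0 b s) hb1mem
    (by
      rw [forall_fin3 1]
      refine ⟨fun _ => ?_, fun _ => ?_, fun h => ?_⟩
      · rw [ptN_sub_single0]
        intro hmem
        exact hbmin (ss_move10 hS hmem)
      · rw [ptN_sub_single1]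
        exact hbmin
      · rw [ptN_e2] at h
        omega)
    hγ
    (by
      rw [forall_fin3 1]
      refine ⟨?_, ?_, ?_⟩
      · rw [ptN_add_single0]
        exact ss_move20 hS hc1mem
      · rw [ptN_add_single1]
        exact ss_move21 hS hc1mem
      · rw [ptN_add_single2]
        exact hc1mem)
  refine sigPiece_ne_bot_of_tPiece _ _ ?_ hne
  intro i
  fin_cases i
  · simp [ptN1_0]
  · simp [ptN1_1]
  · simp [ptN1_2]

end Groth.Agent.Lib.Helper15.HilbT
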