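import Mathlib
import Groth.Agent.Lib.Helper15.HilbG4

/-!
# The product of two disjoint coordinate ideals: graded pieces of `T(I)` (helper15)
-/

set_option backward.isDefEq.respectTransparency.types false
set_option autoImplicit false
set_option linter.unusedSectionVars false
set_option linter.style.haveILetI false

universe u

namespace Groth.Agent.Lib.Helper15.HilbP

open MvPolynomial W4c1hilbpn Groth.Agent.Lib.Helper8.Hilb Module
open Groth.Agent.Lib.Helper15.HilbG

variable {k : Type u} [Field k] {N : ℕ} (p q : Fin N → Prop)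

/-- the index type of the generators `x_i x_j`, `i ∈ P`, `j ∈ Q` -/
abbrev Idx : Type := {x : Fin N × Fin N // p x.1 ∧ q x.2}

/-- the exponent of `x_i x_j` -/
noncomputable def gen (x : Idx p q) : Fin N →₀ ℕ :=
  Finsupp.single x.1.1 1 + Finsupp.single x.1.2 1

open Classical in
lemma gen_apply (x : Idx p q) (l : Fin N) :
    (gen p q x l : ℤ) = (if l = x.1.1 then 1 else 0) + (if l = x.1.2 then 1 else 0) := by
  unfold gen
  rw [Finsupp.add_apply, Finsupp.single_apply, Finsupp.single_apply]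
  push_cast
  congr 1
  · by_cases h : l = x.1.1
    · rw [if_pos h, if_pos h.symm]
    · rw [if_neg h, if_neg (fun h' => h h'.symm)]
  · by_cases h : l = x.1.2
    · rw [if_pos h, if_pos h.symm]
    · rw [if_neg h, if_neg (fun h' => h h'.symm)]

variable (k) in
/-- the product ideal -/
noncomputable def prodIdeal : Ideal (MvPolynomial (Fin N) k) :=
  Ideal.span ((fun s => monomial s (1 : k)) '' Set.range (gen p q))

/-- the generating data -/
noncomputable def dat : GenData (prodIdeal k p q) (Idx p q) := genDataOfSpan (gen p q) rfl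

lemma isMonomial_prodIdeal : IsMonomial (prodIdeal k p q) := isMonomial_span_gens (gen p q) rfl

lemma prodIdeal_comm : prodIdeal k p q = prodIdeal k q p := by
  unfold prodIdeal
  congr 2
  ext s
  constructor
  · rintro ⟨x, rfl⟩
    refine ⟨⟨(x.1.2, x.1.1), x.2.2, x.2.1⟩, ?_⟩
    unfold gen
    exact add_comm _ _
  · rintro ⟨x, rfl⟩
    refine ⟨⟨(x.1.2, x.1.1), x.2.2, x.2.1⟩, ?_⟩
    unfold gen
    exact add_comm _ _

variable {p q} (hpq : ∀ i, p i → ¬ q i)

lemma memZ_imp {γ : Fin N → ℤ} (h : memZ (dat (k := k) p q) γ) :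
    ∃ i j, p i ∧ q j ∧ 1 ≤ γ i ∧ 1 ≤ γ j := by
  classical
  obtain ⟨x, hx⟩ := h
  refine ⟨x.1.1, x.1.2, x.2.1, x.2.2, ?_, ?_⟩
  · have := hx x.1.1
    change (gen p q x x.1.1 : ℤ) ≤ _ at this
    rw [gen_apply, if_pos rfl] at this
    split_ifs at this <;> omega
  · have := hx x.1.2
    change (gen p q x x.1.2 : ℤ) ≤ _ at this
    rw [gen_apply, if_pos rfl] at this
    split_ifs at this <;> omega

include hpq in
lemma memZ_of {γ : Fin N → ℤ} (hγ : ∀ l, 0 ≤ γ l) {i j : Fin N} (hi : p i) (hj : q j)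
    (h1 : 1 ≤ γ i) (h2 : 1 ≤ γ j) : memZ (dat (k := k) p q) γ := by
  classical
  refine ⟨⟨(i, j), hi, hj⟩, fun l => ?_⟩
  change (gen p q ⟨(i, j), hi, hj⟩ l : ℤ) ≤ _
  rw [gen_apply]
  have hij : i ≠ j := fun h => hpq i hi (h ▸ hj)
  have := hγ l
  by_cases hl1 : l = i
  · subst hl1
    rw [if_pos rfl, if_neg hij]
    omega
  · by_cases hl2 : l = j
    · subst hl2
      rw [if_neg hl1, if_pos rfl]
      omega
    · rw [if_neg hl1, if_neg hl2]
      omega

open Classical in
lemma shv_apply (α : Fin N → ℤ) (x : Idx p q) (l : Fin N) :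
    shv (dat (k := k) p q) α x l =
      (if l = x.1.1 then 1 else 0) + (if l = x.1.2 then 1 else 0) + α l := by
  change (gen p q x l : ℤ) + α l = _
  rw [gen_apply]

open Classical in
lemma lcv_le (α : Fin N → ℤ) (x y : Idx p q) (l : Fin N) :
    lcv (dat (k := k) p q) α x y l ≤
      (if l = x.1.1 then 1 else 0) + (if l = x.1.2 then 1 else 0) +
      (if l = y.1.1 then 1 else 0) + (if l = y.1.2 then 1 else 0) + α l := by
  change ((max (gen p q x l) (gen p q y l) : ℕ) : ℤ) + α l ≤ _
  have h1 := gen_apply p q x l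
  have h2 := gen_apply p q y l
  push_cast
  have : max (gen p q x l : ℤ) (gen p q y l : ℤ) ≤ (gen p q x l : ℤ) + (gen p q y l : ℤ) := by
    apply max_le <;> omega
  omega

lemma le_lcv_left (α : Fin N → ℤ) (x y : Idx p q) (l : Fin N) :
    shv (dat (k := k) p q) α x l ≤ lcv (dat (k := k) p q) α x y l := by
  change (gen p q x l : ℤ) + α l ≤ ((max (gen p q x l) (gen p q y l) : ℕ) : ℤ) + α l
  push_cast
  have := le_max_left (gen p q x l : ℤ) (gen p q y l : ℤ)
  omega

lemma le_lcv_right (α : Fin N → ℤ) (x y : Idx p q) (l : Fin N) :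
    shv (dat (k := k) p q) α y l ≤ lcv (dat (k := k) p q) α x y l := by
  change (gen p q y l : ℤ) + α l ≤ ((max (gen p q x l) (gen p q y l) : ℕ) : ℤ) + α l
  push_cast
  have := le_max_right (gen p q x l : ℤ) (gen p q y l : ℤ)
  omega

end Groth.Agent.Lib.Helper15.HilbP
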