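import Mathlib
import Groth.Agent.Lib.Helper15.HilbP1

/-!
# The product of two disjoint coordinate ideals: the nonzero pieces (helper15)
-/

set_option backward.isDefEq.respectTransparency.types false
set_option autoImplicit false
set_option linter.unusedSectionVars false
set_option linter.style.haveILetI false

universe u

namespace Groth.Agent.Lib.Helper15.HilbP

open MvPolynomial W4c1hilbpn Groth.Agent.Lib.Helper8.Hilb Module
open Groth.Agent.Lib.Helper15.HilbG

variable {k : Type u} [Field k] {N : ℕ} {p q : Fin N → Prop}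

open Classical in
lemma eZ_apply (l l' : Fin N) : (eZ l : Fin N → ℤ) l' = if l' = l then 1 else 0 := by
  by_cases h : l' = l
  · subst h
    rw [eZ_self, if_pos rfl]
  · rw [eZ_ne h, if_neg h]

open Classical in
lemma lcv_apply (α : Fin N → ℤ) (x y : Idx p q) (l : Fin N) :
    lcv (dat (k := k) p q) α x y l =
      max ((if l = x.1.1 then 1 else 0) + (if l = x.1.2 then 1 else 0))
        ((if l = y.1.1 then 1 else 0) + (if l = y.1.2 then 1 else 0)) + α l := by
  change ((max (gen p q x l) (gen p q y l) : ℕ) : ℤ) + α l = _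
  push_cast
  rw [gen_apply, gen_apply]

variable (hpq : ∀ i, p i → ¬ q i)

include hpq in
open Classical in
/-- the piece of multidegree `e_l - e_{i0}` with `i0 ∈ P`, `l ∉ P` is one-dimensional -/
theorem finrank_AG_pside {i0 l : Fin N} (hi0 : p i0) (hl : ¬ p l) {j0 : Fin N} (hj0 : q j0) :
    finrank k ↥(AG (k := k) (dat p q) (eZ l - eZ i0)) = 1 := by
  set α : Fin N → ℤ := eZ l - eZ i0 with hα
  have hαa : ∀ l', α l' = (if l' = l then 1 else 0) - (if l' = i0 then 1 else 0) := by
    intro l'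
    rw [hα, Pi.sub_apply, eZ_apply, eZ_apply]
  have hli0 : l ≠ i0 := fun h => hl (h ▸ hi0)
  -- generators with first index `i0` are good
  have hshv : ∀ x : Idx p q, x.1.1 = i0 → ∀ l', shv (dat (k := k) p q) α x l' =
      (if l' = x.1.2 then 1 else 0) + (if l' = l then 1 else 0) := by
    intro x hx l'
    rw [shv_apply, hαa, hx]
    omega
  have hgood : ∀ x : Idx p q, x.1.1 = i0 → Good (dat (k := k) p q) α x := by
    intro x hx
    refine ⟨fun l' => ?_, fun hm => ?_⟩
    · rw [hshv x hx]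
      split_ifs <;> omega
    · obtain ⟨i, j, hi, -, h1, -⟩ := memZ_imp hm
      rw [hshv x hx] at h1
      have e1 : i ≠ x.1.2 := fun h => hpq i hi (h ▸ x.2.2)
      have e2 : i ≠ l := fun h => hl (h ▸ hi)
      rw [if_neg e1, if_neg e2] at h1
      omega
  have hbad : ∀ x : Idx p q, x.1.1 ≠ i0 → ¬ Good (dat (k := k) p q) α x := by
    intro x hx hg
    have := hg.1 i0
    have e1 : i0 ≠ x.1.1 := fun h => hx h.symm
    have e2 : i0 ≠ x.1.2 := fun h => hpq i0 hi0 (h ▸ x.2.2)
    have e3 : i0 ≠ l := fun h => hli0 h.symm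
    rw [shv_apply, hαa, if_neg e1, if_neg e2, if_neg e3, if_pos rfl] at this
    omega
  have hnolink : ∀ x y : Idx p q, x.1.1 = i0 → y.1.1 ≠ i0 →
      inZ (dat (k := k) p q) (lcv (dat (k := k) p q) α x y) ∧
      inZ (dat (k := k) p q) (lcv (dat (k := k) p q) α y x) := by
    intro x y hx hy
    have hnn1 : ∀ l', 0 ≤ lcv (dat (k := k) p q) α x y l' := fun l' =>
      le_trans ((hgood x hx).1 l') (le_lcv_left α x y l')
    have hnn2 : ∀ l', 0 ≤ lcv (dat (k := k) p q) α y x l' := fun l' =>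
      le_trans ((hgood x hx).1 l') (le_lcv_right α y x l')
    have e1 : y.1.1 ≠ y.1.2 := fun h => hpq _ y.2.1 (h ▸ y.2.2)
    have e2 : y.1.1 ≠ l := fun h => hl (h ▸ y.2.1)
    have e3 : y.1.2 ≠ i0 := fun h => hpq i0 hi0 (h ▸ y.2.2)
    have hy1 : 1 ≤ shv (dat (k := k) p q) α y y.1.1 := by
      rw [shv_apply, hαa, if_pos rfl, if_neg e1, if_neg e2, if_neg hy]
      omega
    have hy2 : 1 ≤ shv (dat (k := k) p q) α y y.1.2 := by
      rw [shv_apply, hαa, if_pos rfl, if_neg e1.symm, if_neg e3]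
      split_ifs <;> omega
    exact ⟨⟨hnn1, memZ_of hpq hnn1 y.2.1 y.2.2 (le_trans hy1 (le_lcv_right α x y _))
        (le_trans hy2 (le_lcv_right α x y _))⟩,
      ⟨hnn2, memZ_of hpq hnn2 y.2.1 y.2.2 (le_trans hy1 (le_lcv_left α y x _))
        (le_trans hy2 (le_lcv_left α y x _))⟩⟩
  have hlink : ∀ x y : Idx p q, x.1.1 = i0 → y.1.1 = i0 → Link (dat (k := k) p q) α x y := by
    intro x y hx hy hin
    obtain ⟨i, j, hi, -, h1, -⟩ := memZ_imp hin.2
    have e1 : i ≠ x.1.2 := fun h => hpq i hi (h ▸ x.2.2)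
    have e2 : i ≠ y.1.2 := fun h => hpq i hi (h ▸ y.2.2)
    have e3 : i ≠ l := fun h => hl (h ▸ hi)
    rw [lcv_apply, hαa, hx, hy, if_neg e1, if_neg e2, if_neg e3] at h1
    split_ifs at h1 <;> simp at h1
  apply finrank_AG_eq 1 (fun _ => ⟨(i0, j0), hi0, hj0⟩)
    (fun x => if x.1.1 = i0 then some 0 else none)
  · intro x t hc
    by_cases hx : x.1.1 = i0
    · exact hgood x hx
    · rw [if_neg hx] at hc
      exact absurd hc (by simp)
  · intro x y hxy
    by_cases hx : x.1.1 = i0 <;> by_cases hy : y.1.1 = i0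
    · rw [if_pos hx, if_pos hy]
    · exact absurd (hnolink x y hx hy).1 hxy
    · exact absurd (hnolink y x hy hx).2 hxy
    · rw [if_neg hx, if_neg hy]
  · intro a ha x hc
    by_cases hx : x.1.1 = i0
    · rw [if_pos hx] at hc
      exact absurd hc (by simp)
    · exact ha.1 x (hbad x hx)
  · intro a ha x t hc
    by_cases hx : x.1.1 = i0
    · exact ha.2 x _ (hlink x _ hx rfl)
    · rw [if_neg hx] at hc
      exact absurd hc (by simp)
  · intro t
    rw [if_pos rfl]
    congr 1
    exact Subsingleton.elim _ _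

end Groth.Agent.Lib.Helper15.HilbP
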