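import Mathlib
import Groth.Agent.Lib.Helper15.HilbP2

/-!
# The product of two disjoint coordinate ideals: vanishing of the other pieces (helper15)
-/

set_option backward.isDefEq.respectTransparency.types false
set_option autoImplicit false
set_option linter.unusedSectionVars false
set_option linter.style.haveILetI false

universe u

namespace Groth.Agent.Lib.Helper15.HilbP

open MvPolynomial W4c1hilbpn Groth.Agent.Lib.Helper8.Hilb Module
open Groth.Agent.Lib.Helper15.HilbG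

variable {k : Type u} [Field k] {N : ℕ} {p q : Fin N → Prop}

open Classical in
lemma sum_shv (α : Fin N → ℤ) (x : Idx p q) :
    ∑ l, shv (dat (k := k) p q) α x l = 2 + ∑ l, α l := by
  simp only [shv_apply, Finset.sum_add_distrib, Finset.sum_ite_eq', Finset.mem_univ, if_true]
  norm_num

variable (hpq : ∀ i, p i → ¬ q i)

include hpq in
open Classical in
theorem AG_eq_zero (hp2 : ∀ i, p i → ∃ i', p i' ∧ i' ≠ i) (hq2 : ∀ j, q j → ∃ j', q j' ∧ j' ≠ j)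
    (α : Fin N → ℤ) (hs : ∑ l, α l = 0)
    (hS : ∀ i l, ((p i ∧ ¬ p l) ∨ (q i ∧ ¬ q l)) → α ≠ eZ l - eZ i) :
    ∀ a ∈ AG (k := k) (dat p q) α, a = 0 := by
  intro a ha
  funext x
  by_contra hne
  have hg : Good (dat (k := k) p q) α x := by
    by_contra hng
    exact hne (ha.1 x hng)
  have hsum : ∑ l, shv (dat (k := k) p q) α x l = 2 := by
    rw [sum_shv, hs, add_zero]
  obtain ⟨l, l', hm⟩ := exists_eq_eZ_add_eZ _ hg.1 hsum
  have hma : ∀ l'', shv (dat (k := k) p q) α x l'' =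
      (if l'' = l then 1 else 0) + (if l'' = l' then 1 else 0) := by
    intro l''
    rw [hm, Pi.add_apply, eZ_apply, eZ_apply]
  have hαa : ∀ l'', α l'' = (if l'' = l then 1 else 0) + (if l'' = l' then 1 else 0) -
      (if l'' = x.1.1 then 1 else 0) - (if l'' = x.1.2 then 1 else 0) := by
    intro l''
    have h1 := hma l''
    rw [shv_apply] at h1
    omega
  have hx12 : x.1.1 ≠ x.1.2 := fun h => hpq _ x.2.1 (h ▸ x.2.2)
  -- `m = x^l x^l'` is not in the ideal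
  have hnot : ∀ i j, p i → q j → ¬ ((i = l ∨ i = l') ∧ (j = l ∨ j = l')) := by
    rintro i j hi hj ⟨h1, h2⟩
    apply hg.2
    apply memZ_of hpq hg.1 hi hj
    · rw [hma]
      rcases h1 with h1 | h1
      · rw [if_pos h1]
        split_ifs <;> omega
      · rw [if_pos h1]
        split_ifs <;> omega
    · rw [hma]
      rcases h2 with h2 | h2
      · rw [if_pos h2]
        split_ifs <;> omega
      · rw [if_pos h2]
        split_ifs <;> omega
  -- the four easy cases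
  have key1 : ∀ l₁ l₂ : Fin N, ((l₁ = l ∧ l₂ = l') ∨ (l₁ = l' ∧ l₂ = l)) → l₁ = x.1.1 → False := by
    intro l₁ l₂ hll h1
    -- `α = e_{l₂} - e_{x₂}`
    have hq' : ¬ q l₂ := by
      intro hq'
      rcases hll with ⟨e1, e2⟩ | ⟨e1, e2⟩
      · exact hnot x.1.1 l₂ x.2.1 hq' ⟨Or.inl (h1 ▸ e1), Or.inr e2⟩
      · exact hnot x.1.1 l₂ x.2.1 hq' ⟨Or.inr (h1 ▸ e1), Or.inl e2⟩
    apply hS x.1.2 l₂ (Or.inr ⟨x.2.2, hq'⟩)
    funext l''
    rw [hαa, Pi.sub_apply, eZ_apply, eZ_apply]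
    rcases hll with ⟨e1, e2⟩ | ⟨e1, e2⟩
    · rw [← e1, ← e2, h1]
      omega
    · rw [← e1, ← e2, h1]
      omega
  have key2 : ∀ l₁ l₂ : Fin N, ((l₁ = l ∧ l₂ = l') ∨ (l₁ = l' ∧ l₂ = l)) → l₁ = x.1.2 → False := by
    intro l₁ l₂ hll h1
    have hp' : ¬ p l₂ := by
      intro hp'
      rcases hll with ⟨e1, e2⟩ | ⟨e1, e2⟩
      · exact hnot l₂ x.1.2 hp' x.2.2 ⟨Or.inr e2, Or.inl (h1 ▸ e1)⟩
      · exact hnot l₂ x.1.2 hp' x.2.2 ⟨Or.inl e2, Or.inr (h1 ▸ e1)⟩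
    apply hS x.1.1 l₂ (Or.inl ⟨x.2.1, hp'⟩)
    funext l''
    rw [hαa, Pi.sub_apply, eZ_apply, eZ_apply]
    rcases hll with ⟨e1, e2⟩ | ⟨e1, e2⟩
    · rw [← e1, ← e2, h1]
      omega
    · rw [← e1, ← e2, h1]
      omega
  have hl1 : l ≠ x.1.1 := fun h => key1 l l' (Or.inl ⟨rfl, rfl⟩) h
  have hl1' : l' ≠ x.1.1 := fun h => key1 l' l (Or.inr ⟨rfl, rfl⟩) h
  have hl2 : l ≠ x.1.2 := fun h => key2 l l' (Or.inl ⟨rfl, rfl⟩) h
  have hl2' : l' ≠ x.1.2 := fun h => key2 l' l (Or.inr ⟨rfl, rfl⟩) h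
  -- the generic case
  obtain ⟨j', hj', hj'x⟩ := hq2 x.1.2 x.2.2
  obtain ⟨i', hi', hi'x⟩ := hp2 x.1.1 x.2.1
  obtain ⟨y, hy1, hy2⟩ : ∃ y : Idx p q, y.1.1 = x.1.1 ∧ y.1.2 = j' :=
    ⟨⟨(x.1.1, j'), x.2.1, hj'⟩, rfl, rfl⟩
  obtain ⟨z, hz1, hz2⟩ : ∃ z : Idx p q, z.1.1 = i' ∧ z.1.2 = x.1.2 :=
    ⟨⟨(i', x.1.2), hi', x.2.2⟩, rfl, rfl⟩
  have hy : ¬ Good (dat (k := k) p q) α y := by
    intro hgy
    have := hgy.1 x.1.2
    rw [shv_apply, hαa, hy1, hy2, if_neg hx12.symm, if_neg hj'x.symm, if_neg hl2.symm,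
      if_neg hl2'.symm, if_pos rfl] at this
    omega
  have hz : ¬ Good (dat (k := k) p q) α z := by
    intro hgz
    have := hgz.1 x.1.1
    rw [shv_apply, hαa, hz1, hz2, if_neg hi'x.symm, if_neg hx12, if_neg hl1.symm,
      if_neg hl1'.symm, if_pos rfl] at this
    omega
  have hxy : ¬ Link (dat (k := k) p q) α x y := by
    intro hlk
    apply hne
    rw [ha.2 x y hlk, ha.1 y hy]
    rfl
  have hxz : ¬ Link (dat (k := k) p q) α x z := by
    intro hlk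
    apply hne
    rw [ha.2 x z hlk, ha.1 z hz]
    rfl
  unfold Link at hxy hxz
  push Not at hxy hxz
  obtain ⟨i, -, hi, -, h1, -⟩ := memZ_imp hxy.2
  obtain ⟨-, j, -, hj, -, h2⟩ := memZ_imp hxz.2
  have ei1 : i ≠ x.1.2 := fun h => hpq i hi (h ▸ x.2.2)
  have ei2 : i ≠ j' := fun h => hpq i hi (h ▸ hj')
  have ej1 : j ≠ x.1.1 := fun h => hpq _ x.2.1 (h ▸ hj)
  have ej2 : j ≠ i' := fun h => hpq _ hi' (h ▸ hj)
  rw [lcv_apply, hαa, hy1, hy2, if_neg ei1, if_neg ei2] at h1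
  rw [lcv_apply, hαa, hz1, hz2, if_neg ej1, if_neg ej2] at h2
  apply hnot i j hi hj
  constructor
  · by_contra hcon
    push Not at hcon
    rw [if_neg hcon.1, if_neg hcon.2] at h1
    split_ifs at h1 <;> simp at h1
  · by_contra hcon
    push Not at hcon
    rw [if_neg hcon.1, if_neg hcon.2] at h2
    split_ifs at h2 <;> simp at h2

end Groth.Agent.Lib.Helper15.HilbP
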