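import Mathlib
import Groth.Agent.Lib.Helper15.HilbP3

/-!
# The product of two disjoint coordinate ideals: the degree zero part of `T(I)` (helper15)
-/

set_option backward.isDefEq.respectTransparency.types false
set_option autoImplicit false
set_option linter.unusedSectionVars false
set_option linter.style.haveILetI false

universe u

namespace Groth.Agent.Lib.Helper15.HilbP

open MvPolynomial W4c1hilbpn Groth.Agent.Lib.Helper8.Hilb Module
open Groth.Agent.Lib.Helper15.HilbG

variable {k : Type u} [Field k] {N : ℕ} {p q : Fin N → Prop}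

lemma sum_eZ_sub (l i : Fin N) : ∑ l', ((eZ l : Fin N → ℤ) - eZ i) l' = 0 := by
  simp only [Pi.sub_apply, Finset.sum_sub_distrib, sum_eZ, sub_self]

open Classical in
lemma eZ_sub_injective {x y : Fin N × Fin N} (hx : x.1 ≠ x.2)
    (h : (eZ x.2 : Fin N → ℤ) - eZ x.1 = eZ y.2 - eZ y.1) : x = y := by
  have h1 := congrFun h x.1
  have h2 := congrFun h x.2
  simp only [Pi.sub_apply, eZ_apply, if_true, if_neg hx, if_neg hx.symm] at h1 h2
  have e1 : x.1 = y.1 := by
    by_contra hne
    rw [if_neg hne] at h1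
    split_ifs at h1 <;> omega
  have e2 : x.2 = y.2 := by
    by_contra hne
    rw [if_neg hne] at h2
    split_ifs at h2 <;> omega
  exact Prod.ext e1 e2

variable (hpq : ∀ i, p i → ¬ q i)

include hpq in
theorem finrank_deg_zero [DecidablePred p] [DecidablePred q] (hp2 : ∀ i, p i → ∃ i', p i' ∧ i' ≠ i)
    (hq2 : ∀ j, q j → ∃ j', q j' ∧ j' ≠ j) (hp1 : ∃ i, p i) (hq1 : ∃ j, q j) :
    finrank k ↥(⨆ α : {α : Fin N → ℤ // ∑ i, α i = 0}, tPiece (prodIdeal k p q) α.1) =
      (Finset.univ.filter (fun x : Fin N × Fin N => p x.1 ∧ ¬ p x.2)).card +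
        (Finset.univ.filter (fun x : Fin N × Fin N => q x.1 ∧ ¬ q x.2)).card := by
  classical
  set T : Finset (Fin N × Fin N) :=
    Finset.univ.filter (fun x => (p x.1 ∧ ¬ p x.2) ∨ (q x.1 ∧ ¬ q x.2)) with hT
  set f : Fin N × Fin N → (Fin N → ℤ) := fun x => eZ x.2 - eZ x.1 with hf
  have hne : ∀ x ∈ T, x.1 ≠ x.2 := by
    intro x hx
    rw [hT, Finset.mem_filter] at hx
    rcases hx.2 with ⟨h1, h2⟩ | ⟨h1, h2⟩
    · exact fun h => h2 (h ▸ h1)
    · exact fun h => h2 (h ▸ h1)
  have hI := isMonomial_prodIdeal (k := k) p q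
  rw [finrank_iSup_subtype' (tPiece (prodIdeal k p q))
    (Groth.Agent.Lib.Helper15.HilbT.tPiece_indep hI) _ (T.image f)]
  · rw [Finset.sum_image (fun x hx y _ h => eZ_sub_injective (hne x hx) h)]
    have hone : ∀ x ∈ T, finrank k ↥(tPiece (prodIdeal k p q) (f x)) = 1 := by
      intro x hx
      rw [hT, Finset.mem_filter] at hx
      rcases hx.2 with ⟨h1, h2⟩ | ⟨h1, h2⟩
      · obtain ⟨j0, hj0⟩ := hq1
        rw [finrank_tPiece_eq (dat p q) hI]
        exact finrank_AG_pside hpq h1 h2 hj0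
      · obtain ⟨i0, hi0⟩ := hp1
        have hI' := isMonomial_prodIdeal (k := k) q p
        have e : finrank k ↥(tPiece (prodIdeal k p q) (f x)) =
            finrank k ↥(tPiece (prodIdeal k q p) (f x)) := by
          rw [prodIdeal_comm]
        rw [e, finrank_tPiece_eq (dat q p) hI']
        exact finrank_AG_pside (fun i hi hpi => hpq i hpi hi) h1 h2 hi0
    rw [Finset.sum_congr rfl hone, Finset.sum_const, smul_eq_mul, mul_one, hT, Finset.filter_or,
      Finset.card_union_of_disjoint]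
    rw [Finset.disjoint_filter]
    rintro x - ⟨h1, -⟩ ⟨h2, -⟩
    exact hpq _ h1 h2
  · intro α hα
    obtain ⟨x, -, rfl⟩ := Finset.mem_image.1 hα
    exact sum_eZ_sub x.2 x.1
  · intro α hα hns
    apply tPiece_eq_bot_of_AG (dat p q) hI
    apply AG_eq_zero hpq hp2 hq2 α hα
    intro i l hil hcon
    apply hns
    rw [Finset.mem_image]
    refine ⟨(i, l), ?_, hcon.symm⟩
    rw [hT, Finset.mem_filter]
    exact ⟨Finset.mem_univ _, hil⟩
  · intro α _
    exact finite_tPiece (dat p q) hI α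

end Groth.Agent.Lib.Helper15.HilbP
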