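import Mathlib
import Groth.Agent.Lib.Helper15.HilbP4

/-!
# Two coordinate planes meeting transversely: the degree zero part of `T(I)` (helper15)
-/

set_option backward.isDefEq.respectTransparency.types false
set_option autoImplicit false
set_option linter.unusedSectionVars false
set_option linter.style.haveILetI false

universe u

namespace Groth.Agent.Lib.Helper15.HilbP

open MvPolynomial W4c1hilbpn Groth.Agent.Lib.Helper8.Hilb Module
open Groth.Agent.Lib.Helper15.HilbG

variable {k : Type u} [Field k]

lemma span_eq_prodIdeal {N : ℕ} (p q : Fin N → Prop) :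
    Ideal.span {f : MvPolynomial (Fin N) k | ∃ i j : Fin N, p i ∧ q j ∧ f = X i * X j} =
      prodIdeal k p q := by
  unfold prodIdeal
  congr 1
  ext f
  constructor
  · rintro ⟨i, j, hi, hj, rfl⟩
    refine ⟨gen p q ⟨(i, j), hi, hj⟩, ⟨_, rfl⟩, ?_⟩
    unfold gen
    simp only
    rw [X, X, monomial_mul, one_mul]
  · rintro ⟨_, ⟨x, rfl⟩, rfl⟩
    refine ⟨x.1.1, x.1.2, x.2.1, x.2.2, ?_⟩
    unfold gen
    simp only
    rw [X, X, monomial_mul, one_mul]

lemma card_pairs {N : ℕ} (p : Fin N → Prop) [DecidablePred p] (m : ℕ)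
    (hm : (Finset.univ.filter (fun i : Fin N => p i)).card = m) :
    (Finset.univ.filter (fun x : Fin N × Fin N => p x.1 ∧ ¬ p x.2)).card = m * (N - m) := by
  rw [← Finset.univ_product_univ, Finset.filter_product (fun i => p i) (fun l => ¬ p l),
    Finset.card_product, hm]
  congr 1
  have := Finset.card_filter_add_card_filter_not (s := (Finset.univ : Finset (Fin N))) (fun i => p i)
  rw [hm, Finset.card_univ, Fintype.card_fin] at this
  omega

theorem finrank_two_planes (n c d : ℕ) (hc : 2 ≤ c) (hcd : c ≤ d) (hn : c + d ≤ n) :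
    finrank k ↥(⨆ α : {α : Fin (n + 1) → ℤ // ∑ i, α i = 0},
      tPiece (Ideal.span {f : MvPolynomial (Fin (n + 1)) k | ∃ i j : Fin (n + 1),
        i.val + 1 ≤ c ∧ n + 1 ≤ j.val + d ∧ f = X i * X j}) α.1) =
      c * (n - c + 1) + d * (n - d + 1) := by
  let p : Fin (n + 1) → Prop := fun i => i.val + 1 ≤ c
  let q : Fin (n + 1) → Prop := fun j => n + 1 ≤ j.val + d
  have hp : p = fun i => i.val + 1 ≤ c := rfl
  have hq : q = fun j => n + 1 ≤ j.val + d := rfl
  haveI : DecidablePred p := fun i => Nat.decLe _ _
  haveI : DecidablePred q := fun i => Nat.decLe _ _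
  have hspan := span_eq_prodIdeal (k := k) p q
  change finrank k ↥(⨆ α : {α : Fin (n + 1) → ℤ // ∑ i, α i = 0},
      tPiece (Ideal.span {f : MvPolynomial (Fin (n + 1)) k | ∃ i j : Fin (n + 1),
        p i ∧ q j ∧ f = X i * X j}) α.1) = _
  rw [hspan]
  have hpq : ∀ i, p i → ¬ q i := by
    intro i h1 h2
    simp only [hp, hq] at h1 h2
    omega
  have h0 : p (0 : Fin (n + 1)) := by
    simp only [hp, Fin.val_zero]
    omega
  have h1 : p (⟨1, by omega⟩ : Fin (n + 1)) := by
    simp only [hp]
    omega
  have hl : q (Fin.last n) := by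
    simp only [hq, Fin.val_last]
    omega
  have hl' : q (⟨n - 1, by omega⟩ : Fin (n + 1)) := by
    simp only [hq]
    omega
  rw [finrank_deg_zero hpq]
  · have hcp : (Finset.univ.filter (fun i : Fin (n + 1) => p i)).card = c := by
      have := Fin.card_filter_val_lt (n := n + 1) (m := c)
      rw [min_eq_right (by omega)] at this
      refine Eq.trans (congrArg Finset.card ?_) this
      ext i
      simp only [hp, Finset.mem_filter, Finset.mem_univ, true_and]
      omega
    have hcq : (Finset.univ.filter (fun j : Fin (n + 1) => q j)).card = d := by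
      have h3 := Fin.card_filter_val_lt (n := n + 1) (m := n + 1 - d)
      rw [min_eq_right (by omega)] at h3
      have h4 := Finset.card_filter_add_card_filter_not (s := (Finset.univ : Finset (Fin (n + 1))))
        (fun i : Fin (n + 1) => (i : ℕ) < n + 1 - d)
      rw [h3, Finset.card_univ, Fintype.card_fin] at h4
      have h5 : (Finset.univ.filter (fun j : Fin (n + 1) => q j)) =
          Finset.univ.filter (fun i : Fin (n + 1) => ¬ (i : ℕ) < n + 1 - d) := by
        ext i
        simp only [hq, Finset.mem_filter, Finset.mem_univ, true_and]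
        omega
      rw [h5]
      omega
    rw [card_pairs p c hcp, card_pairs q d hcq]
    have e1 : n + 1 - c = n - c + 1 := by omega
    have e2 : n + 1 - d = n - d + 1 := by omega
    rw [e1, e2]
  · intro i hi
    by_cases h : i = 0
    · refine ⟨⟨1, by omega⟩, h1, ?_⟩
      subst h
      intro hcon
      have := congrArg Fin.val hcon
      simp at this
    · exact ⟨0, h0, fun hcon => h hcon.symm⟩
  · intro j hj
    by_cases h : j = Fin.last n
    · refine ⟨⟨n - 1, by omega⟩, hl', ?_⟩
      subst h
      intro hcon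
      have := congrArg Fin.val hcon
      simp only [Fin.val_last] at this
      omega
    · exact ⟨Fin.last n, hl, fun hcon => h hcon.symm⟩
  · exact ⟨0, h0⟩
  · exact ⟨Fin.last n, hl⟩

end Groth.Agent.Lib.Helper15.HilbP
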