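import Mathlib
import Groth.Agent.Lib.Helper15.HilbB2

/-!
# The ideal `(x_0, x_1)(x_0, …, x_{n-1})`: the nonzero graded pieces of degree zero, I (helper15)
-/

set_option backward.isDefEq.respectTransparency.types false
set_option autoImplicit false
set_option linter.unusedSectionVars false
set_option linter.style.haveILetI false

universe u

namespace Groth.Agent.Lib.Helper15.HilbQ

open MvPolynomial W4c1hilbpn Groth.Agent.Lib.Helper8.Hilb Module
open Groth.Agent.Lib.Helper15.HilbG Groth.Agent.Lib.Helper15.HilbB

variable {k : Type u} [Field k] {n : ℕ}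

/-- `α = e_n - e_0`: three classes `x_0^2`, `x_0 x_1`, `x_0 x_i` (`i ≥ 2`) -/
theorem finrank_type1 (hn : 3 ≤ n) (α : Fin (n + 1) → ℤ)
    (hα : ∀ l : Fin (n + 1), α l = (if l.val = n then 1 else 0) - (if l.val = 0 then 1 else 0)) :
    finrank k ↥(AG (k := k) (dat k n 1 (n - 1)) α) = 3 := by
  apply finrank_AG_eq' 3
    (fun t => Sum.inl ⟨⟨t.val, by omega⟩, by change t.val < n; omega⟩)
    (fun j => match j with
      | Sum.inl i => if i.1.val = 0 then some 0 else if i.1.val = 1 then some 1 else some 2
      | Sum.inr _ => none)
  · rintro (i | i) t hj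
    · refine ⟨fun l => by tbo [hα], not_memZ (by omega) ?_ ?_⟩
      · intro i' hi'
        tbo [hα]
      · intro i' h1 h2
        tbo [hα]
    · simp at hj
  · rintro (i | i) (i' | i') hne
    · simp only at hne
      have hi := i.2
      have hi' := i'.2
      by_cases h0 : i.1.val = 0
      · refine ⟨fun l => by tbo [hα], memZ_inl i'.1 i'.2 (fun l => ?_)⟩
        rw [if_pos h0] at hne
        have : i'.1.val ≠ 0 := by
          intro h
          rw [if_pos h] at hne
          exact hne rfl
        tbo [hα]
      · by_cases h0' : i'.1.val = 0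
        · refine ⟨fun l => by tbo [hα], memZ_inl i.1 i.2 (fun l => ?_)⟩
          tbo [hα]
        · rw [if_neg h0, if_neg h0'] at hne
          by_cases h1 : i.1.val = 1
          · have h1' : i'.1.val ≠ 1 := by
              intro h
              rw [if_pos h1, if_pos h] at hne
              exact hne rfl
            refine ⟨fun l => by tbo [hα], memZ_inr i'.1 ⟨by omega, by omega⟩ (fun l => ?_)⟩
            tbo [hα]
          · have h1' : i'.1.val = 1 := by
              by_contra h
              rw [if_neg h1, if_neg h] at hne
              exact hne rfl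
            refine ⟨fun l => by tbo [hα], memZ_inr i.1 ⟨by omega, by omega⟩ (fun l => ?_)⟩
            tbo [hα]
    · refine ⟨fun l => by tbo [hα], memZ_inr i'.1 i'.2 (fun l => ?_)⟩
      have := i'.2
      tbo [hα]
    · refine ⟨fun l => by tbo [hα], memZ_inr i.1 i.2 (fun l => ?_)⟩
      have := i.2
      tbo [hα]
    · exact absurd rfl hne
  · rintro (i | i) hj
    · simp only at hj
      split_ifs at hj
    · intro hg
      have := hg.1 ⟨0, by omega⟩
      have := i.2
      tbo [hα]
  · rintro (i | i) t hj
    · intro hin
      refine not_memZ (by omega) ?_ ?_ hin.2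
      · intro i' hi'
        simp only at hj
        have := i.2
        split_ifs at hj with h0 h1
        · cases hj
          tbo [hα]
        · cases hj
          tbo [hα]
        · cases hj
          tbo [hα]
      · intro i' h1' h2'
        simp only at hj
        have := i.2
        split_ifs at hj with h0 h1
        · cases hj
          tbo [hα]
        · cases hj
          tbo [hα]
        · cases hj
          tbo [hα]
    · simp at hj
  · intro t
    fin_cases t <;> simp

/-- `α = e_n - e_1`: three classes `x_0 x_1`, `x_1^2`, `x_1 x_i` (`i ≥ 2`) -/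
theorem finrank_type2 (hn : 3 ≤ n) (α : Fin (n + 1) → ℤ)
    (hα : ∀ l : Fin (n + 1), α l = (if l.val = n then 1 else 0) - (if l.val = 1 then 1 else 0)) :
    finrank k ↥(AG (k := k) (dat k n 1 (n - 1)) α) = 3 := by
  apply finrank_AG_eq' 3
    ![Sum.inl ⟨⟨1, by omega⟩, by change 1 < n; omega⟩,
      Sum.inr ⟨⟨1, by omega⟩, by change 1 ≤ 1 ∧ 1 ≤ n - 1; omega⟩,
      Sum.inr ⟨⟨2, by omega⟩, by change 1 ≤ 2 ∧ 2 ≤ n - 1; omega⟩]
    (fun j => match j with
      | Sum.inl i => if i.1.val = 1 then some 0 else none
      | Sum.inr i => if i.1.val = 1 then some 1 else some 2)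
  · rintro (i | i) t hj
    · simp only at hj
      split_ifs at hj with h1
      have := i.2
      exact ⟨fun l => by tbo [hα], by tbnm [hα]⟩
    · have := i.2
      exact ⟨fun l => by tbo [hα], by tbnm [hα]⟩
  · rintro (i | i) (i' | i') hne
    · simp only at hne
      have hi := i.2
      have hi' := i'.2
      by_cases h1 : i.1.val = 1
      · have h1' : i'.1.val ≠ 1 := by
          intro h
          rw [if_pos h1, if_pos h] at hne
          exact hne rfl
        exact ⟨fun l => by tbo [hα], memZ_inl i'.1 i'.2 (fun l => by tbo [hα])⟩
      · have h1' : i'.1.val = 1 := by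
          by_contra h
          rw [if_neg h1, if_neg h] at hne
          exact hne rfl
        exact ⟨fun l => by tbo [hα], memZ_inl i.1 i.2 (fun l => by tbo [hα])⟩
    · have hi := i.2
      have hi' := i'.2
      by_cases h1 : i.1.val = 1
      · exact ⟨fun l => by tbo [hα], memZ_inl i'.1 (by omega) (fun l => by tbo [hα])⟩
      · exact ⟨fun l => by tbo [hα], memZ_inl i.1 i.2 (fun l => by tbo [hα])⟩
    · have hi := i.2
      have hi' := i'.2
      by_cases h1 : i'.1.val = 1
      · exact ⟨fun l => by tbo [hα], memZ_inl i.1 (by omega) (fun l => by tbo [hα])⟩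
      · exact ⟨fun l => by tbo [hα], memZ_inl i'.1 i'.2 (fun l => by tbo [hα])⟩
    · simp only at hne
      have hi := i.2
      have hi' := i'.2
      by_cases h1 : i.1.val = 1
      · have h1' : i'.1.val ≠ 1 := by
          intro h
          rw [if_pos h1, if_pos h] at hne
          exact hne rfl
        exact ⟨fun l => by tbo [hα], memZ_inr i'.1 i'.2 (fun l => by tbo [hα])⟩
      · have h1' : i'.1.val = 1 := by
          by_contra h
          rw [if_neg h1, if_neg h] at hne
          exact hne rfl
        exact ⟨fun l => by tbo [hα], memZ_inr i.1 i.2 (fun l => by tbo [hα])⟩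
  · rintro (i | i) hj
    · simp only at hj
      split_ifs at hj with h1
      intro hg
      have := hg.1 ⟨1, by omega⟩
      tbo [hα]
    · simp only at hj
      split_ifs at hj
  · rintro (i | i) t hj
    · simp only at hj
      split_ifs at hj with h1
      cases hj
      intro hin
      have := i.2
      exact absurd hin.2 (by tbnm [hα])
    · simp only at hj
      have := i.2
      split_ifs at hj with h1 <;> cases hj <;> intro hin <;> exact absurd hin.2 (by tbnm [hα])
  · intro t
    fin_cases t <;> simp

end Groth.Agent.Lib.Helper15.HilbQ
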