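import Mathlib
import Groth.Agent.Lib.Helper15.HilbQ1

/-!
# The ideal `(x_0, x_1)(x_0, …, x_{n-1})`: the nonzero graded pieces of degree zero, II (helper15)
-/

set_option backward.isDefEq.respectTransparency.types false
set_option autoImplicit false
set_option linter.unusedSectionVars false
set_option linter.style.haveILetI false

universe u

namespace Groth.Agent.Lib.Helper15.HilbQ

open MvPolynomial W4c1hilbpn Groth.Agent.Lib.Helper8.Hilb Module
open Groth.Agent.Lib.Helper15.HilbG Groth.Agent.Lib.Helper15.HilbB

variable {k : Type u} [Field k] {n : ℕ}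

/-- `α = e_l - e_0`, `2 ≤ l < n`: one class `x_0 x_i` (`i ≥ 2`) -/
theorem finrank_type3 (hn : 3 ≤ n) (m : ℕ) (hm : 2 ≤ m ∧ m < n) (α : Fin (n + 1) → ℤ)
    (hα : ∀ l : Fin (n + 1), α l = (if l.val = m then 1 else 0) - (if l.val = 0 then 1 else 0)) :
    finrank k ↥(AG (k := k) (dat k n 1 (n - 1)) α) = 1 := by
  apply finrank_AG_eq' 1
    ![Sum.inl ⟨⟨2, by omega⟩, by change 2 < n; omega⟩]
    (fun j => match j with
      | Sum.inl i => if 2 ≤ i.1.val then some 0 else none
      | Sum.inr _ => none)
  · rintro (i | i) t hj
    · simp only at hj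
      split_ifs at hj with h1
      have := i.2
      exact ⟨fun l => by tbo [hα], by tbnm [hα]⟩
    · simp at hj
  · rintro (i | i) (i' | i') hne
    · simp only at hne
      have hi := i.2
      have hi' := i'.2
      by_cases h1 : 2 ≤ i.1.val
      · have h1' : ¬ 2 ≤ i'.1.val := by
          intro h
          rw [if_pos h1, if_pos h] at hne
          exact hne rfl
        by_cases h0 : i'.1.val = 0
        · exact ⟨fun l => by tbo [hα], memZ_inl i.1 i.2 (fun l => by tbo [hα])⟩
        · exact ⟨fun l => by tbo [hα], memZ_inr i.1 ⟨by omega, by omega⟩ (fun l => by tbo [hα])⟩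
      · have h1' : 2 ≤ i'.1.val := by
          by_contra h
          rw [if_neg h1, if_neg h] at hne
          exact hne rfl
        by_cases h0 : i.1.val = 0
        · exact ⟨fun l => by tbo [hα], memZ_inl i'.1 i'.2 (fun l => by tbo [hα])⟩
        · exact ⟨fun l => by tbo [hα], memZ_inr i'.1 ⟨by omega, by omega⟩ (fun l => by tbo [hα])⟩
    · simp only at hne
      have hi := i.2
      have hi' := i'.2
      have h1 : 2 ≤ i.1.val := by
        by_contra h
        rw [if_neg h] at hne
        exact hne rfl
      exact ⟨fun l => by tbo [hα], memZ_inr i'.1 i'.2 (fun l => by tbo [hα])⟩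
    · simp only at hne
      have hi := i.2
      have hi' := i'.2
      have h1 : 2 ≤ i'.1.val := by
        by_contra h
        rw [if_neg h] at hne
        exact hne rfl
      exact ⟨fun l => by tbo [hα], memZ_inr i.1 i.2 (fun l => by tbo [hα])⟩
    · exact absurd rfl hne
  · rintro (i | i) hj
    · simp only at hj
      split_ifs at hj with h1
      have hi := i.2
      intro hg
      apply hg.2
      by_cases h0 : i.1.val = 0
      · exact memZ_inl ⟨m, by omega⟩ (by change m < n; omega) (fun l => by tbo [hα])
      · exact memZ_inr ⟨m, by omega⟩ (by change 1 ≤ m ∧ m ≤ n - 1; omega) (fun l => by tbo [hα])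
    · intro hg
      have := hg.1 ⟨0, by omega⟩
      have := i.2
      tbo [hα]
  · rintro (i | i) t hj
    · simp only at hj
      split_ifs at hj with h1
      cases hj
      intro hin
      have := i.2
      exact absurd hin.2 (by tbnm [hα])
    · simp at hj
  · intro t
    fin_cases t
    simp

/-- `α = e_l - e_1`, `2 ≤ l < n`: one class `x_1 x_i` (`i ≥ 2`) -/
theorem finrank_type4 (hn : 3 ≤ n) (m : ℕ) (hm : 2 ≤ m ∧ m < n) (α : Fin (n + 1) → ℤ)
    (hα : ∀ l : Fin (n + 1), α l = (if l.val = m then 1 else 0) - (if l.val = 1 then 1 else 0)) :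
    finrank k ↥(AG (k := k) (dat k n 1 (n - 1)) α) = 1 := by
  apply finrank_AG_eq' 1
    ![Sum.inr ⟨⟨2, by omega⟩, by change 1 ≤ 2 ∧ 2 ≤ n - 1; omega⟩]
    (fun j => match j with
      | Sum.inl _ => none
      | Sum.inr i => if 2 ≤ i.1.val then some 0 else none)
  · rintro (i | i) t hj
    · simp at hj
    · simp only at hj
      split_ifs at hj with h1
      have := i.2
      exact ⟨fun l => by tbo [hα], by tbnm [hα]⟩
  · rintro (i | i) (i' | i') hne
    · exact absurd rfl hne
    · simp only at hne
      have hi := i.2
      have hi' := i'.2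
      have h1 : 2 ≤ i'.1.val := by
        by_contra h
        rw [if_neg h] at hne
        exact hne rfl
      by_cases h0 : i.1.val = 1
      · exact ⟨fun l => by tbo [hα], memZ_inl i'.1 (by omega) (fun l => by tbo [hα])⟩
      · exact ⟨fun l => by tbo [hα], memZ_inl i.1 i.2 (fun l => by tbo [hα])⟩
    · simp only at hne
      have hi := i.2
      have hi' := i'.2
      have h1 : 2 ≤ i.1.val := by
        by_contra h
        rw [if_neg h] at hne
        exact hne rfl
      by_cases h0 : i'.1.val = 1
      · exact ⟨fun l => by tbo [hα], memZ_inl i.1 (by omega) (fun l => by tbo [hα])⟩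
      · exact ⟨fun l => by tbo [hα], memZ_inl i'.1 i'.2 (fun l => by tbo [hα])⟩
    · simp only at hne
      have hi := i.2
      have hi' := i'.2
      by_cases h1 : 2 ≤ i.1.val
      · have h1' : ¬ 2 ≤ i'.1.val := by
          intro h
          rw [if_pos h1, if_pos h] at hne
          exact hne rfl
        exact ⟨fun l => by tbo [hα], memZ_inr i.1 i.2 (fun l => by tbo [hα])⟩
      · have h1' : 2 ≤ i'.1.val := by
          by_contra h
          rw [if_neg h1, if_neg h] at hne
          exact hne rfl
        exact ⟨fun l => by tbo [hα], memZ_inr i'.1 i'.2 (fun l => by tbo [hα])⟩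
  · rintro (i | i) hj
    · have hi := i.2
      intro hg
      by_cases h0 : i.1.val = 1
      · apply hg.2
        exact memZ_inl ⟨m, by omega⟩ (by change m < n; omega) (fun l => by tbo [hα])
      · have := hg.1 ⟨1, by omega⟩
        tbo [hα]
    · simp only at hj
      split_ifs at hj with h1
      have hi := i.2
      intro hg
      apply hg.2
      exact memZ_inr ⟨m, by omega⟩ (by change 1 ≤ m ∧ m ≤ n - 1; omega) (fun l => by tbo [hα])
  · rintro (i | i) t hj
    · simp at hj
    · simp only at hj
      split_ifs at hj with h1
      cases hj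
      intro hin
      have := i.2
      exact absurd hin.2 (by tbnm [hα])
  · intro t
    fin_cases t
    simp

/-- `α = e_n - e_i`, `2 ≤ i < n`: two classes `x_0 x_i`, `x_1 x_i` -/
theorem finrank_type5 (hn : 3 ≤ n) (m : ℕ) (hm : 2 ≤ m ∧ m < n) (α : Fin (n + 1) → ℤ)
    (hα : ∀ l : Fin (n + 1), α l = (if l.val = n then 1 else 0) - (if l.val = m then 1 else 0)) :
    finrank k ↥(AG (k := k) (dat k n 1 (n - 1)) α) = 2 := by
  apply finrank_AG_eq' 2
    ![Sum.inl ⟨⟨m, by omega⟩, by change m < n; omega⟩,
      Sum.inr ⟨⟨m, by omega⟩, by change 1 ≤ m ∧ m ≤ n - 1; omega⟩]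
    (fun j => match j with
      | Sum.inl i => if i.1.val = m then some 0 else none
      | Sum.inr i => if i.1.val = m then some 1 else none)
  · rintro (i | i) t hj
    · simp only at hj
      split_ifs at hj with h1
      have := i.2
      exact ⟨fun l => by tbo [hα], by tbnm [hα]⟩
    · simp only at hj
      split_ifs at hj with h1
      have := i.2
      exact ⟨fun l => by tbo [hα], by tbnm [hα]⟩
  · rintro (i | i) (i' | i') hne
    · simp only at hne
      have hi := i.2
      have hi' := i'.2
      by_cases h1 : i.1.val = m
      · have h1' : i'.1.val ≠ m := by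
          intro h
          rw [if_pos h1, if_pos h] at hne
          exact hne rfl
        exact ⟨fun l => by tbo [hα], memZ_inl i'.1 i'.2 (fun l => by tbo [hα])⟩
      · have h1' : i'.1.val = m := by
          by_contra h
          rw [if_neg h1, if_neg h] at hne
          exact hne rfl
        exact ⟨fun l => by tbo [hα], memZ_inl i.1 i.2 (fun l => by tbo [hα])⟩
    · have hi := i.2
      have hi' := i'.2
      have hor : i.1.val = m ∨ i'.1.val = m := by
        by_contra h
        push Not at h
        simp only [if_neg h.1, if_neg h.2] at hne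
        exact hne rfl
      exact ⟨fun l => by tbo [hα], memZ_inl ⟨1, by omega⟩ (by change 1 < n; omega)
        (fun l => by tbo [hα])⟩
    · have hi := i.2
      have hi' := i'.2
      have hor : i.1.val = m ∨ i'.1.val = m := by
        by_contra h
        push Not at h
        simp only [if_neg h.1, if_neg h.2] at hne
        exact hne rfl
      exact ⟨fun l => by tbo [hα], memZ_inl ⟨1, by omega⟩ (by change 1 < n; omega)
        (fun l => by tbo [hα])⟩
    · simp only at hne
      have hi := i.2
      have hi' := i'.2
      by_cases h1 : i.1.val = m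
      · have h1' : i'.1.val ≠ m := by
          intro h
          rw [if_pos h1, if_pos h] at hne
          exact hne rfl
        exact ⟨fun l => by tbo [hα], memZ_inr i'.1 i'.2 (fun l => by tbo [hα])⟩
      · have h1' : i'.1.val = m := by
          by_contra h
          rw [if_neg h1, if_neg h] at hne
          exact hne rfl
        exact ⟨fun l => by tbo [hα], memZ_inr i.1 i.2 (fun l => by tbo [hα])⟩
  · rintro (i | i) hj
    · simp only at hj
      split_ifs at hj with h1
      intro hg
      have := hg.1 ⟨m, by omega⟩
      tbo [hα]
    · simp only at hj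
      split_ifs at hj with h1
      intro hg
      have := hg.1 ⟨m, by omega⟩
      tbo [hα]
  · rintro (i | i) t hj
    · simp only at hj
      split_ifs at hj with h1
      cases hj
      intro hin
      have := i.2
      exact absurd hin.2 (by tbnm [hα])
    · simp only at hj
      split_ifs at hj with h1
      cases hj
      intro hin
      have := i.2
      exact absurd hin.2 (by tbnm [hα])
  · intro t
    fin_cases t <;> simp

end Groth.Agent.Lib.Helper15.HilbQ
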