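import Mathlib
import Groth.Agent.Lib.Helper15.HilbQ2

/-!
# The ideal `(x_0, x_1)(x_0, …, x_{n-1})`: the nonzero graded pieces of degree zero, III (helper15)
-/

set_option backward.isDefEq.respectTransparency.types false
set_option autoImplicit false
set_option linter.unusedSectionVars false
set_option linter.style.haveILetI false

universe u

namespace Groth.Agent.Lib.Helper15.HilbQ

open MvPolynomial W4c1hilbpn Groth.Agent.Lib.Helper8.Hilb Module
open Groth.Agent.Lib.Helper15.HilbG Groth.Agent.Lib.Helper15.HilbB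

variable {k : Type u} [Field k] {n : ℕ}

lemma inl_val_ne {t : ℕ} {i : {i : Fin (n + 1) // i.val < n}} {m : ℕ} {hm : m < n + 1} {hm' : m < n}
    (h : (Sum.inl i : Idx n t) ≠ Sum.inl ⟨⟨m, hm⟩, hm'⟩) : i.1.val ≠ m := by
  intro h'
  apply h
  congr 1
  exact Subtype.ext (Fin.ext h')

lemma inr_val_ne {t : ℕ} {i : {i : Fin (n + 1) // 1 ≤ i.val ∧ i.val ≤ t}} {m : ℕ} {hm : m < n + 1}
    {hm' : 1 ≤ m ∧ m ≤ t}
    (h : (Sum.inr i : Idx n t) ≠ Sum.inr ⟨⟨m, hm⟩, hm'⟩) : i.1.val ≠ m := by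
  intro h'
  apply h
  congr 1
  exact Subtype.ext (Fin.ext h')

/-- `α = -2e_0 + e_1 + e_n`: the single good generator `x_0^2` -/
theorem finrank_type6 (hn : 3 ≤ n) (α : Fin (n + 1) → ℤ)
    (hα : ∀ l : Fin (n + 1), α l = (if l.val = 1 then 1 else 0) + (if l.val = n then 1 else 0) -
      (if l.val = 0 then 2 else 0)) :
    finrank k ↥(AG (k := k) (dat k n 1 (n - 1)) α) = 1 := by
  apply finrank_AG_eq_one (Sum.inl ⟨⟨0, by omega⟩, by change 0 < n; omega⟩)
  · exact ⟨fun l => by tbo [hα], by tbnm [hα]⟩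
  · rintro (i | i) hne
    · have hi := inl_val_ne hne
      intro hg
      have := hg.1 ⟨0, by omega⟩
      tbo [hα]
    · intro hg
      have := hg.1 ⟨0, by omega⟩
      have := i.2
      tbo [hα]
  · rintro (i | i) hne
    · have hi := inl_val_ne hne
      have hi' := i.2
      exact ⟨fun l => by tbo [hα], memZ_inr i.1 ⟨by omega, by omega⟩ (fun l => by tbo [hα])⟩
    · have hi' := i.2
      exact ⟨fun l => by tbo [hα], memZ_inr i.1 i.2 (fun l => by tbo [hα])⟩

/-- `α = -2e_1 + e_0 + e_n`: the single good generator `x_1^2` -/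
theorem finrank_type7 (hn : 3 ≤ n) (α : Fin (n + 1) → ℤ)
    (hα : ∀ l : Fin (n + 1), α l = (if l.val = 0 then 1 else 0) + (if l.val = n then 1 else 0) -
      (if l.val = 1 then 2 else 0)) :
    finrank k ↥(AG (k := k) (dat k n 1 (n - 1)) α) = 1 := by
  apply finrank_AG_eq_one (Sum.inr ⟨⟨1, by omega⟩, by change 1 ≤ 1 ∧ 1 ≤ n - 1; omega⟩)
  · exact ⟨fun l => by tbo [hα], by tbnm [hα]⟩
  · rintro (i | i) hne
    · intro hg
      have := hg.1 ⟨1, by omega⟩
      have := i.2
      tbo [hα]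
    · have hi := inr_val_ne hne
      intro hg
      have := hg.1 ⟨1, by omega⟩
      have := i.2
      tbo [hα]
  · rintro (i | i) hne
    · have hi' := i.2
      exact ⟨fun l => by tbo [hα], memZ_inl ⟨0, by omega⟩ (by change 0 < n; omega)
        (fun l => by tbo [hα])⟩
    · have hi := inr_val_ne hne
      have hi' := i.2
      exact ⟨fun l => by tbo [hα], memZ_inl i.1 (by omega) (fun l => by tbo [hα])⟩

/-- `α = -e_0 - e_i + e_1 + e_n`, `2 ≤ i < n`: the single good generator `x_0 x_i` -/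
theorem finrank_type8 (hn : 3 ≤ n) (m : ℕ) (hm : 2 ≤ m ∧ m < n) (α : Fin (n + 1) → ℤ)
    (hα : ∀ l : Fin (n + 1), α l = (if l.val = 1 then 1 else 0) + (if l.val = n then 1 else 0) -
      (if l.val = 0 then 1 else 0) - (if l.val = m then 1 else 0)) :
    finrank k ↥(AG (k := k) (dat k n 1 (n - 1)) α) = 1 := by
  apply finrank_AG_eq_one (Sum.inl ⟨⟨m, by omega⟩, by change m < n; omega⟩)
  · exact ⟨fun l => by tbo [hα], by tbnm [hα]⟩
  · rintro (i | i) hne
    · have hi := inl_val_ne hne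
      intro hg
      have := hg.1 ⟨m, by omega⟩
      tbo [hα]
    · intro hg
      have := hg.1 ⟨0, by omega⟩
      have := i.2
      tbo [hα]
  · rintro (i | i) hne
    · have hi := inl_val_ne hne
      have hi' := i.2
      by_cases h0 : i.1.val = 0
      · exact ⟨fun l => by tbo [hα], memZ_inl ⟨1, by omega⟩ (by change 1 < n; omega)
          (fun l => by tbo [hα])⟩
      · exact ⟨fun l => by tbo [hα], memZ_inr i.1 ⟨by omega, by omega⟩ (fun l => by tbo [hα])⟩
    · have hi' := i.2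
      exact ⟨fun l => by tbo [hα], memZ_inr ⟨1, by omega⟩ (by change 1 ≤ 1 ∧ 1 ≤ n - 1; omega)
        (fun l => by tbo [hα])⟩

/-- `α = -e_1 - e_i + e_0 + e_n`, `2 ≤ i < n`: the single good generator `x_1 x_i` -/
theorem finrank_type9 (hn : 3 ≤ n) (m : ℕ) (hm : 2 ≤ m ∧ m < n) (α : Fin (n + 1) → ℤ)
    (hα : ∀ l : Fin (n + 1), α l = (if l.val = 0 then 1 else 0) + (if l.val = n then 1 else 0) -
      (if l.val = 1 then 1 else 0) - (if l.val = m then 1 else 0)) :
    finrank k ↥(AG (k := k) (dat k n 1 (n - 1)) α) = 1 := by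
  apply finrank_AG_eq_one (Sum.inr ⟨⟨m, by omega⟩, by change 1 ≤ m ∧ m ≤ n - 1; omega⟩)
  · exact ⟨fun l => by tbo [hα], by tbnm [hα]⟩
  · rintro (i | i) hne
    · intro hg
      have := hg.1 ⟨1, by omega⟩
      have := hg.1 ⟨m, by omega⟩
      have := i.2
      tbo [hα]
    · have hi := inr_val_ne hne
      intro hg
      have := hg.1 ⟨m, by omega⟩
      have := i.2
      tbo [hα]
  · rintro (i | i) hne
    · have hi' := i.2
      exact ⟨fun l => by tbo [hα], memZ_inl ⟨0, by omega⟩ (by change 0 < n; omega)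
        (fun l => by tbo [hα])⟩
    · have hi := inr_val_ne hne
      have hi' := i.2
      exact ⟨fun l => by tbo [hα], memZ_inl i.1 (by omega) (fun l => by tbo [hα])⟩

end Groth.Agent.Lib.Helper15.HilbQ
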