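import Mathlib
import Groth.Agent.Lib.Helper15.HilbQ3
import Groth.Agent.Lib.Helper15.HilbB3

/-!
# The ideal `(x_0, x_1)(x_0, …, x_{n-1})`: vanishing of the other pieces of degree zero (helper15)
-/

set_option backward.isDefEq.respectTransparency.types false
set_option autoImplicit false
set_option linter.unusedSectionVars false
set_option linter.style.haveILetI false

universe u

namespace Groth.Agent.Lib.Helper15.HilbQ

open MvPolynomial W4c1hilbpn Groth.Agent.Lib.Helper8.Hilb Module
open Groth.Agent.Lib.Helper15.HilbG Groth.Agent.Lib.Helper15.HilbB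

variable {k : Type u} [Field k] {n : ℕ}

/-- the multidegrees of degree zero carrying a nonzero piece -/
def InS (n : ℕ) (α : Fin (n + 1) → ℤ) : Prop :=
  (∃ a b : ℕ, ((a ≤ 1 ∧ 2 ≤ b ∧ b ≤ n) ∨ (2 ≤ a ∧ a < n ∧ b = n)) ∧
    ∀ l : Fin (n + 1), α l = (if l.val = b then 1 else 0) - (if l.val = a then 1 else 0)) ∨
  (∃ u i : ℕ, ((u = 0 ∧ (i = 0 ∨ (2 ≤ i ∧ i < n))) ∨ (u = 1 ∧ (i = 1 ∨ (2 ≤ i ∧ i < n)))) ∧
    ∀ l : Fin (n + 1), α l = (if l.val = 1 - u then 1 else 0) + (if l.val = n then 1 else 0) -
      (if l.val = u then 1 else 0) - (if l.val = i then 1 else 0))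

theorem inS_of_ne_zero (hn : 3 ≤ n) (α : Fin (n + 1) → ℤ) (hs : ∑ l, α l = 0)
    (a : Idx n (n - 1) → k) (ha : a ∈ AG (k := k) (dat k n 1 (n - 1)) α) (hne : a ≠ 0) :
    InS n α := by
  obtain ⟨j, hj⟩ : ∃ j, a j ≠ 0 := by
    by_contra hcon
    push Not at hcon
    exact hne (funext hcon)
  have hg := AG_good ha hj
  rcases j with ⟨i, hi⟩ | ⟨i, hi1, hi2⟩
  · -- the generator `x_0 x_i`
    have hsum : ∑ l, shv (dat k n 1 (n - 1)) α (Sum.inl ⟨i, hi⟩) l = 2 := by
      rw [sum_shv_inl, hs, add_zero]
    obtain ⟨p, p', hp, hp', hm⟩ := exists_two _ hg.1 hsum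
    have hα : ∀ l : Fin (n + 1), α l = (if l.val = p then 1 else 0) +
        (if l.val = p' then 1 else 0) - (if l.val = 0 then 1 else 0) -
        (if l.val = i.val then 1 else 0) := by
      intro l
      have := hm l
      rw [shv_inl] at this
      simp only at this
      omega
    have hstd := hg.2
    have hs1 : 2 ≤ p ∨ p' = n := by
      by_contra hcon
      push Not at hcon
      apply hstd
      by_cases hp0 : p = 0
      · exact memZ_inl ⟨p', by omega⟩ (by change p' < n; omega) (fun l => by tbo [hα])
      · by_cases hp0' : p' = 0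
        · exact memZ_inl ⟨1, by omega⟩ (by change 1 < n; omega) (fun l => by tbo [hα])
        · exact memZ_inr ⟨p', by omega⟩ (by change 1 ≤ p' ∧ p' ≤ n - 1; omega)
            (fun l => by tbo [hα])
    have hs2 : 2 ≤ p' ∨ p = n := by
      by_contra hcon
      push Not at hcon
      apply hstd
      by_cases hp0 : p' = 0
      · exact memZ_inl ⟨p, by omega⟩ (by change p < n; omega) (fun l => by tbo [hα])
      · by_cases hp0' : p = 0
        · exact memZ_inl ⟨1, by omega⟩ (by change 1 < n; omega) (fun l => by tbo [hα])
        · exact memZ_inr ⟨p, by omega⟩ (by change 1 ≤ p ∧ p ≤ n - 1; omega)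
            (fun l => by tbo [hα])
    by_cases hp0 : p = 0 ∨ p' = 0
    · -- `α = e_n - e_i`
      by_cases hi0 : i.val ≤ 1
      · by_cases hi0' : i.val = 0
        · exact Or.inl ⟨0, n, by omega, fun l => by tbo [hα]⟩
        · exact Or.inl ⟨1, n, by omega, fun l => by tbo [hα]⟩
      · exact Or.inl ⟨i.val, n, by omega, fun l => by tbo [hα]⟩
    · by_cases hpi : p = i.val ∨ p' = i.val
      · -- `α = e_{p'} - e_0`
        rcases hpi with hpi | hpi
        · exact Or.inl ⟨0, p', by omega, fun l => by tbo [hα]⟩
        · exact Or.inl ⟨0, p, by omega, fun l => by tbo [hα]⟩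
      · by_cases h1 : p = 1 ∨ p' = 1
        · exact Or.inr ⟨0, i.val, by omega, fun l => by tbo [hα]⟩
        · -- contradiction
          exfalso
          by_cases hi0 : i.val = 0
          · -- test `x_0 x_1`
            have hb : ¬ Good (dat k n 1 (n - 1)) α
                (Sum.inl ⟨⟨1, by omega⟩, by change 1 < n; omega⟩) := by
              intro hg'
              have := hg'.1 ⟨0, by omega⟩
              tbo [hα]
            have h1 := AG_sep_bad ha hj hb
            rcases memZ_cases (by omega) h1.2 with ⟨i'', e1, e2, e3⟩ | ⟨i'', e1, e2, e3, e4⟩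
            · tbo [hα]
            · have hb' : ¬ Good (dat k n 1 (n - 1)) α
                  (Sum.inl ⟨i'', by omega⟩) := by
                intro hg'
                have := hg'.1 ⟨0, by omega⟩
                tbo [hα]
              have h2 := AG_sep_bad ha hj hb'
              rcases memZ_cases (by omega) h2.2 with ⟨i₃, f1, f2, f3⟩ | ⟨i₃, f1, f2, f3, f4⟩
              · tbo [hα]
              · tbo [hα]
          · -- test `x_0^2`
            have hb : ¬ Good (dat k n 1 (n - 1)) α
                (Sum.inl ⟨⟨0, by omega⟩, by change 0 < n; omega⟩) := by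
              intro hg'
              have := hg'.1 i
              tbo [hα]
            have h1 := AG_sep_bad ha hj hb
            rcases memZ_cases (by omega) h1.2 with ⟨i'', e1, e2, e3⟩ | ⟨i'', e1, e2, e3, e4⟩
            · have hb' : ¬ Good (dat k n 1 (n - 1)) α (Sum.inl ⟨i'', by omega⟩) := by
                intro hg'
                have := hg'.1 i
                tbo [hα]
              have h2 := AG_sep_bad ha hj hb'
              rcases memZ_cases (by omega) h2.2 with ⟨i₃, f1, f2, f3⟩ | ⟨i₃, f1, f2, f3, f4⟩
              · tbo [hα]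
              · tbo [hα]
            · tbo [hα]
  · -- the generator `x_1 x_i`
    have hsum : ∑ l, shv (dat k n 1 (n - 1)) α (Sum.inr ⟨i, hi1, hi2⟩) l = 2 := by
      rw [sum_shv_inr (by omega), hs, add_zero]
      norm_num
    obtain ⟨p, p', hp, hp', hm⟩ := exists_two _ hg.1 hsum
    have hα : ∀ l : Fin (n + 1), α l = (if l.val = p then 1 else 0) +
        (if l.val = p' then 1 else 0) - (if l.val = 1 then 1 else 0) -
        (if l.val = i.val then 1 else 0) := by
      intro l
      have := hm l
      rw [shv_inr] at this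
      simp only at this
      push_cast at this
      omega
    have hstd := hg.2
    have hs1 : 2 ≤ p ∨ p' = n := by
      by_contra hcon
      push Not at hcon
      apply hstd
      by_cases hp0 : p = 0
      · exact memZ_inl ⟨p', by omega⟩ (by change p' < n; omega) (fun l => by tbo [hα])
      · by_cases hp0' : p' = 0
        · exact memZ_inl ⟨1, by omega⟩ (by change 1 < n; omega) (fun l => by tbo [hα])
        · exact memZ_inr ⟨p', by omega⟩ (by change 1 ≤ p' ∧ p' ≤ n - 1; omega)
            (fun l => by tbo [hα])
    have hs2 : 2 ≤ p' ∨ p = n := by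
      by_contra hcon
      push Not at hcon
      apply hstd
      by_cases hp0 : p' = 0
      · exact memZ_inl ⟨p, by omega⟩ (by change p < n; omega) (fun l => by tbo [hα])
      · by_cases hp0' : p = 0
        · exact memZ_inl ⟨1, by omega⟩ (by change 1 < n; omega) (fun l => by tbo [hα])
        · exact memZ_inr ⟨p, by omega⟩ (by change 1 ≤ p ∧ p ≤ n - 1; omega)
            (fun l => by tbo [hα])
    by_cases hp0 : p = 1 ∨ p' = 1
    · -- `α = e_n - e_i`
      by_cases hi0 : i.val = 1
      · exact Or.inl ⟨1, n, by omega, fun l => by tbo [hα]⟩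
      · exact Or.inl ⟨i.val, n, by omega, fun l => by tbo [hα]⟩
    · by_cases hpi : p = i.val ∨ p' = i.val
      · -- `α = e_{p'} - e_1`
        rcases hpi with hpi | hpi
        · exact Or.inl ⟨1, p', by omega, fun l => by tbo [hα]⟩
        · exact Or.inl ⟨1, p, by omega, fun l => by tbo [hα]⟩
      · by_cases h1 : p = 0 ∨ p' = 0
        · exact Or.inr ⟨1, i.val, by omega, fun l => by tbo [hα]⟩
        · -- contradiction
          exfalso
          by_cases hi0 : i.val = 1
          · -- test `x_0 x_1`
            have hb : ¬ Good (dat k n 1 (n - 1)) α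
                (Sum.inl ⟨⟨1, by omega⟩, by change 1 < n; omega⟩) := by
              intro hg'
              have := hg'.1 ⟨1, by omega⟩
              tbo [hα]
            have h1 := AG_sep_bad ha hj hb
            rcases memZ_cases (by omega) h1.2 with ⟨i'', e1, e2, e3⟩ | ⟨i'', e1, e2, e3, e4⟩
            · have hi'' : 1 ≤ i''.val ∧ i''.val ≤ n - 1 := by tbo [hα]
              have hb' : ¬ Good (dat k n 1 (n - 1)) α
                  (Sum.inr ⟨i'', hi''⟩) := by
                intro hg'
                have := hg'.1 ⟨1, by omega⟩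
                tbo [hα]
              have h2 := AG_sep_bad ha hj hb'
              rcases memZ_cases (by omega) h2.2 with ⟨i₃, f1, f2, f3⟩ | ⟨i₃, f1, f2, f3, f4⟩
              · tbo [hα]
              · tbo [hα]
            · tbo [hα]
          · -- test `x_1^2`
            have hb : ¬ Good (dat k n 1 (n - 1)) α
                (Sum.inr ⟨⟨1, by omega⟩, by change 1 ≤ 1 ∧ 1 ≤ n - 1; omega⟩) := by
              intro hg'
              have := hg'.1 i
              tbo [hα]
            have h1 := AG_sep_bad ha hj hb
            rcases memZ_cases (by omega) h1.2 with ⟨i'', e1, e2, e3⟩ | ⟨i'', e1, e2, e3, e4⟩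
            · tbo [hα]
            · have hb' : ¬ Good (dat k n 1 (n - 1)) α (Sum.inr ⟨i'', by omega⟩) := by
                intro hg'
                have := hg'.1 i
                tbo [hα]
              have h2 := AG_sep_bad ha hj hb'
              rcases memZ_cases (by omega) h2.2 with ⟨i₃, f1, f2, f3⟩ | ⟨i₃, f1, f2, f3, f4⟩
              · tbo [hα]
              · tbo [hα]

end Groth.Agent.Lib.Helper15.HilbQ
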