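import Mathlib
import Groth.Agent.Lib.Helper15.HilbQ4

/-!
# The ideal `(x_0, x_1)(x_0, …, x_{n-1})`: the degree zero part of `T(I)` (helper15)
-/

set_option backward.isDefEq.respectTransparency.types false
set_option autoImplicit false
set_option linter.unusedSectionVars false
set_option linter.style.haveILetI false

universe u

namespace Groth.Agent.Lib.Helper15.HilbQ

open MvPolynomial W4c1hilbpn Groth.Agent.Lib.Helper8.Hilb Module
open Groth.Agent.Lib.Helper15.HilbG Groth.Agent.Lib.Helper15.HilbB

variable {k : Type u} [Field k] {n : ℕ}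

/-- `e_b - e_a` -/
def v2 (n a b : ℕ) : Fin (n + 1) → ℤ :=
  fun l => (if l.val = b then 1 else 0) - (if l.val = a then 1 else 0)

/-- `e_{1-u} + e_n - e_u - e_i` -/
def v4 (n u i : ℕ) : Fin (n + 1) → ℤ :=
  fun l => (if l.val = 1 - u then 1 else 0) + (if l.val = n then 1 else 0) -
    (if l.val = u then 1 else 0) - (if l.val = i then 1 else 0)

/-- index pairs of the first family -/
def TGL (n : ℕ) : Finset (ℕ × ℕ) :=
  (({0, 1} : Finset ℕ) ×ˢ Finset.Ico 2 (n + 1)) ∪ (Finset.Ico 2 n ×ˢ ({n} : Finset ℕ))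

/-- index pairs of the second family -/
def TSP (n : ℕ) : Finset (ℕ × ℕ) :=
  (({0} : Finset ℕ) ×ˢ insert 0 (Finset.Ico 2 n)) ∪ (({1} : Finset ℕ) ×ˢ insert 1 (Finset.Ico 2 n))

lemma mem_TGL (x : ℕ × ℕ) :
    x ∈ TGL n ↔ (x.1 ≤ 1 ∧ 2 ≤ x.2 ∧ x.2 ≤ n) ∨ (2 ≤ x.1 ∧ x.1 < n ∧ x.2 = n) := by
  simp only [TGL, Finset.mem_union, Finset.mem_product, Finset.mem_insert, Finset.mem_singleton,
    Finset.mem_Ico]
  omega

lemma mem_TSP (x : ℕ × ℕ) :
    x ∈ TSP n ↔ (x.1 = 0 ∧ (x.2 = 0 ∨ (2 ≤ x.2 ∧ x.2 < n))) ∨
      (x.1 = 1 ∧ (x.2 = 1 ∨ (2 ≤ x.2 ∧ x.2 < n))) := by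
  simp only [TSP, Finset.mem_union, Finset.mem_product, Finset.mem_insert, Finset.mem_singleton,
    Finset.mem_Ico]

/-- the multidegrees with a nonzero piece -/
noncomputable def S (n : ℕ) : Finset (Fin (n + 1) → ℤ) :=
  (TGL n).image (fun x => v2 n x.1 x.2) ∪ (TSP n).image (fun x => v4 n x.1 x.2)

lemma mem_S_of_inS {α : Fin (n + 1) → ℤ} (h : InS n α) : α ∈ S n := by
  rcases h with ⟨a, b, hab, hα⟩ | ⟨u, i, hui, hα⟩
  · apply Finset.mem_union_left
    rw [Finset.mem_image]
    exact ⟨(a, b), (mem_TGL _).2 hab, (funext hα).symm⟩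
  · apply Finset.mem_union_right
    rw [Finset.mem_image]
    exact ⟨(u, i), (mem_TSP _).2 hui, (funext hα).symm⟩

lemma sum_v2 {a b : ℕ} (ha : a ≤ n) (hb : b ≤ n) : ∑ l, v2 n a b l = 0 := by
  simp only [v2, Finset.sum_sub_distrib]
  rw [sum_ite_val ha, sum_ite_val hb]
  norm_num

lemma sum_v4 (hn : 1 ≤ n) {u i : ℕ} (hu : u ≤ n) (hi : i ≤ n) : ∑ l, v4 n u i l = 0 := by
  simp only [v4, Finset.sum_sub_distrib, Finset.sum_add_distrib]
  rw [sum_ite_val hu, sum_ite_val hi, sum_ite_val (by omega), sum_ite_val le_rfl]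
  norm_num

lemma finrank_GL (hn : 3 ≤ n) (x : ℕ × ℕ) (hx : x ∈ TGL n) :
    finrank k ↥(AG (k := k) (dat k n 1 (n - 1)) (v2 n x.1 x.2)) =
      if x.1 ≤ 1 then (if x.2 = n then 3 else 1) else 2 := by
  obtain ⟨a, b⟩ := x
  rw [mem_TGL] at hx
  simp only at hx ⊢
  by_cases ha : a ≤ 1
  · rw [if_pos ha]
    by_cases hb : b = n
    · rw [if_pos hb]
      subst hb
      obtain rfl | rfl : a = 0 ∨ a = 1 := by omega
      · exact finrank_type1 hn _ (fun l => rfl)
      · exact finrank_type2 hn _ (fun l => rfl)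
    · rw [if_neg hb]
      obtain rfl | rfl : a = 0 ∨ a = 1 := by omega
      · exact finrank_type3 hn b (by omega) _ (fun l => rfl)
      · exact finrank_type4 hn b (by omega) _ (fun l => rfl)
  · rw [if_neg ha]
    obtain rfl : b = n := by omega
    exact finrank_type5 hn a (by omega) _ (fun l => rfl)

lemma finrank_SP (hn : 3 ≤ n) (x : ℕ × ℕ) (hx : x ∈ TSP n) :
    finrank k ↥(AG (k := k) (dat k n 1 (n - 1)) (v4 n x.1 x.2)) = 1 := by
  obtain ⟨u, i⟩ := x
  rw [mem_TSP] at hx
  simp only at hx ⊢
  rcases hx with ⟨rfl, rfl | hi⟩ | ⟨rfl, rfl | hi⟩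
  · exact finrank_type6 hn _ (fun l => by simp only [v4] <;> omega)
  · exact finrank_type8 hn i hi _ (fun l => by simp only [v4] <;> omega)
  · exact finrank_type7 hn _ (fun l => by simp only [v4] <;> omega)
  · exact finrank_type9 hn i hi _ (fun l => by simp only [v4] <;> omega)

theorem finrank_deg_zero (hn : 3 ≤ n) :
    finrank k ↥(⨆ α : {α : Fin (n + 1) → ℤ // ∑ i, α i = 0}, tPiece (tbIdeal k n 1 (n - 1)) α.1) =
      6 * n - 4 := by
  rw [finrank_iSup_tPiece_gens (dat k n 1 (n - 1)) (isMonomial_tbIdeal k n 1 (n - 1))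
    (fun α => ∑ i, α i = 0) (S n)]
  · unfold S
    rw [Finset.sum_union, Finset.sum_image, Finset.sum_image,
      Finset.sum_congr rfl (finrank_GL hn), Finset.sum_congr rfl (finrank_SP hn)]
    · have e1 : ∑ x ∈ TGL n, (if x.1 ≤ 1 then (if x.2 = n then 3 else 1) else 2) = 4 * n - 2 := by
        unfold TGL
        rw [Finset.sum_union]
        · rw [Finset.sum_product, Finset.sum_product]
          simp only [Finset.sum_singleton]
          rw [Finset.sum_pair (by norm_num)]
          simp only [zero_le, le_refl, if_true]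
          rw [Finset.sum_Ico_succ_top (by omega)]
          simp only [if_true]
          have h1 : ∀ b ∈ Finset.Ico 2 n, (if b = n then 3 else 1) = 1 := by
            intro b hb
            rw [Finset.mem_Ico] at hb
            rw [if_neg (by omega)]
          have h2 : ∀ a ∈ Finset.Ico 2 n, (if a ≤ 1 then 3 else 2) = 2 := by
            intro b hb
            rw [Finset.mem_Ico] at hb
            rw [if_neg (by omega)]
          rw [Finset.sum_congr rfl h1, Finset.sum_congr rfl h2]
          simp only [Finset.sum_const, Nat.card_Ico, smul_eq_mul]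
          omega
        · rw [Finset.disjoint_left]
          intro x h1 h2
          simp only [Finset.mem_product, Finset.mem_insert, Finset.mem_singleton,
            Finset.mem_Ico] at h1 h2
          omega
      have e2 : (TSP n).card = 2 * n - 2 := by
        unfold TSP
        rw [Finset.card_union_of_disjoint, Finset.card_product, Finset.card_product,
          Finset.card_insert_of_notMem, Finset.card_insert_of_notMem]
        · simp only [Finset.card_singleton, Nat.card_Ico]
          omega
        · simp only [Finset.mem_Ico]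
          omega
        · simp only [Finset.mem_Ico]
          omega
        · rw [Finset.disjoint_left]
          intro x h1 h2
          simp only [Finset.mem_product, Finset.mem_insert, Finset.mem_singleton,
            Finset.mem_Ico] at h1 h2
          omega
      rw [e1, Finset.sum_const, e2, smul_eq_mul]
      omega
    · -- injectivity of the second family
      intro x hx y hy hxy
      have hx' := (mem_TSP _).1 hx
      have hy' := (mem_TSP _).1 hy
      have h1 := congrFun hxy ⟨x.1, by omega⟩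
      have h2 := congrFun hxy ⟨x.2, by omega⟩
      have h3 := congrFun hxy ⟨y.2, by omega⟩
      simp only [v4, if_true] at h1 h2 h3
      apply Prod.ext <;> omega
    · -- injectivity of the first family
      intro x hx y hy hxy
      have hx' := (mem_TGL _).1 hx
      have hy' := (mem_TGL _).1 hy
      have h1 := congrFun hxy ⟨x.1, by omega⟩
      have h2 := congrFun hxy ⟨x.2, by omega⟩
      simp only [v2, if_true] at h1 h2
      apply Prod.ext <;> omega
    · -- disjointness of the two families
      rw [Finset.disjoint_left]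
      intro α h1 h2
      obtain ⟨x, hx, rfl⟩ := Finset.mem_image.1 h1
      obtain ⟨y, hy, hxy⟩ := Finset.mem_image.1 h2
      have hx' := (mem_TGL _).1 hx
      have hy' := (mem_TSP _).1 hy
      have h3 := congrFun hxy ⟨1 - y.1, by omega⟩
      simp only [v2, v4, if_true] at h3
      omega
  · intro α hα
    unfold S at hα
    rcases Finset.mem_union.1 hα with h | h
    · obtain ⟨x, hx, rfl⟩ := Finset.mem_image.1 h
      have hx' := (mem_TGL _).1 hx
      exact sum_v2 (by omega) (by omega)
    · obtain ⟨x, hx, rfl⟩ := Finset.mem_image.1 h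
      have hx' := (mem_TSP _).1 hx
      exact sum_v4 (by omega) (by omega) (by omega)
  · intro α hα hns a ha
    by_contra hne
    exact hns (mem_S_of_inS (inS_of_ne_zero hn α hα a ha hne))

theorem finrank_S13449 (hn : 3 ≤ n) :
    finrank k ↥(⨆ α : {α : Fin (n + 1) → ℤ // ∑ i, α i = 0},
      tPiece (Ideal.span ({f : MvPolynomial (Fin (n + 1)) k | ∃ i : Fin (n + 1), i.val + 1 ≤ n ∧
        f = X 0 * X i} ∪ {f : MvPolynomial (Fin (n + 1)) k | ∃ i : Fin (n + 1), 1 ≤ i.val ∧
        i.val ≤ n - 1 ∧ f = X 1 * X i})) α.1) = 6 * n - 4 := by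
  have h := span_eq (k := k) (n := n) (q := 1) (t := n - 1) (by omega)
  simp only [pow_one] at h
  rw [h]
  exact finrank_deg_zero hn

end Groth.Agent.Lib.Helper15.HilbQ
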