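import Mathlib
import Groth.Agent.Lib.Helper15.HilbB3

/-!
# The two-block ideals `x_0 (x_0, …, x_{n-1}) + x_1^q (x_1, …, x_t)`, `t + 2 ≤ n`:
the graded pieces of degree zero with multidegree `e_b - e_0` (helper15)
-/

set_option backward.isDefEq.respectTransparency.types false
set_option autoImplicit false
set_option linter.unusedSectionVars false
set_option linter.style.haveILetI false

universe u

namespace Groth.Agent.Lib.Helper15.HilbR

open MvPolynomial W4c1hilbpn Groth.Agent.Lib.Helper8.Hilb Module
open Groth.Agent.Lib.Helper15.HilbG Groth.Agent.Lib.Helper15.HilbB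

variable {k : Type u} [Field k] {n q t : ℕ}

/-- `α = e_1 - e_0`: one class -/
theorem finrank_T1 (hq : 1 ≤ q) (ht : 1 ≤ t) (htn : t + 2 ≤ n) (α : Fin (n + 1) → ℤ)
    (hα : ∀ l : Fin (n + 1), α l = (if l.val = 1 then 1 else 0) - (if l.val = 0 then 1 else 0)) :
    finrank k ↥(AG (k := k) (dat k n q t) α) = 1 := by
  apply finrank_AG_eq' 1
    ![Sum.inl ⟨⟨n - 1, by omega⟩, by change n - 1 < n; omega⟩]
    (fun j => match j with
      | Sum.inl i => if 1 ≤ i.1.val ∧ (2 ≤ q ∨ t < i.1.val) then some 0 else none
      | Sum.inr _ => none)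
  · rintro (i | i) s hj
    · simp only at hj
      split_ifs at hj with h1
      have := i.2
      exact ⟨fun l => by tbo [hα], by tbnm [hα]⟩
    · simp at hj
  · rintro (i | i) (i' | i') hne
    · simp only at hne
      have hi := i.2
      have hi' := i'.2
      by_cases hc : 1 ≤ i.1.val ∧ (2 ≤ q ∨ t < i.1.val) <;>
        by_cases hc' : 1 ≤ i'.1.val ∧ (2 ≤ q ∨ t < i'.1.val)
      · rw [if_pos hc, if_pos hc'] at hne
        exact absurd rfl hne
      · by_cases h0 : i'.1.val = 0
        · exact ⟨fun l => by tbo [hα], memZ_inl ⟨1, by omega⟩ (by change 1 < n; omega)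
            (fun l => by tbo [hα])⟩
        · exact ⟨fun l => by tbo [hα], memZ_inr i'.1 ⟨by omega, by omega⟩ (fun l => by tbo [hα])⟩
      · by_cases h0 : i.1.val = 0
        · exact ⟨fun l => by tbo [hα], memZ_inl ⟨1, by omega⟩ (by change 1 < n; omega)
            (fun l => by tbo [hα])⟩
        · exact ⟨fun l => by tbo [hα], memZ_inr i.1 ⟨by omega, by omega⟩ (fun l => by tbo [hα])⟩
      · rw [if_neg hc, if_neg hc'] at hne
        exact absurd rfl hne
    · have hi := i.2
      have hi' := i'.2
      exact ⟨fun l => by tbo [hα], memZ_inr i'.1 i'.2 (fun l => by tbo [hα])⟩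
    · have hi := i.2
      have hi' := i'.2
      exact ⟨fun l => by tbo [hα], memZ_inr i.1 i.2 (fun l => by tbo [hα])⟩
    · exact absurd rfl hne
  · rintro (i | i) hj
    · simp only at hj
      split_ifs at hj with h1
      have hi := i.2
      intro hg
      apply hg.2
      by_cases h0 : i.1.val = 0
      · exact memZ_inl ⟨1, by omega⟩ (by change 1 < n; omega) (fun l => by tbo [hα])
      · exact memZ_inr i.1 ⟨by omega, by omega⟩ (fun l => by tbo [hα])
    · intro hg
      have := hg.1 ⟨0, by omega⟩
      have := i.2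
      tbo [hα]
  · rintro (i | i) s hj
    · simp only at hj
      split_ifs at hj with h1
      cases hj
      intro hin
      have := i.2
      exact absurd hin.2 (by tbnm [hα])
    · simp at hj
  · intro s
    fin_cases s
    change (if 1 ≤ n - 1 ∧ (2 ≤ q ∨ t < n - 1) then some (0 : Fin 1) else none) = some 0
    rw [if_pos (by omega)]

/-- `α = e_h - e_0`, `t < h < n`: one class -/
theorem finrank_T2 (hq : 1 ≤ q) (ht : 1 ≤ t) (htn : t + 2 ≤ n) (h : ℕ) (hh : t < h ∧ h < n)
    (α : Fin (n + 1) → ℤ)
    (hα : ∀ l : Fin (n + 1), α l = (if l.val = h then 1 else 0) - (if l.val = 0 then 1 else 0)) :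
    finrank k ↥(AG (k := k) (dat k n q t) α) = 1 := by
  apply finrank_AG_eq' 1
    ![Sum.inl ⟨⟨h, by omega⟩, by change h < n; omega⟩]
    (fun j => match j with
      | Sum.inl i => if 1 ≤ i.1.val then some 0 else none
      | Sum.inr _ => none)
  · rintro (i | i) s hj
    · simp only at hj
      split_ifs at hj with h1
      have := i.2
      exact ⟨fun l => by tbo [hα], by tbnm [hα]⟩
    · simp at hj
  · rintro (i | i) (i' | i') hne
    · simp only at hne
      have hi := i.2
      have hi' := i'.2
      by_cases hc : 1 ≤ i.1.val <;> by_cases hc' : 1 ≤ i'.1.val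
      · rw [if_pos hc, if_pos hc'] at hne
        exact absurd rfl hne
      · exact ⟨fun l => by tbo [hα], memZ_inl i.1 i.2 (fun l => by tbo [hα])⟩
      · exact ⟨fun l => by tbo [hα], memZ_inl i'.1 i'.2 (fun l => by tbo [hα])⟩
      · rw [if_neg hc, if_neg hc'] at hne
        exact absurd rfl hne
    · have hi := i.2
      have hi' := i'.2
      exact ⟨fun l => by tbo [hα], memZ_inr i'.1 i'.2 (fun l => by tbo [hα])⟩
    · have hi := i.2
      have hi' := i'.2
      exact ⟨fun l => by tbo [hα], memZ_inr i.1 i.2 (fun l => by tbo [hα])⟩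
    · exact absurd rfl hne
  · rintro (i | i) hj
    · simp only at hj
      split_ifs at hj with h1
      have hi := i.2
      intro hg
      apply hg.2
      exact memZ_inl ⟨h, by omega⟩ (by change h < n; omega) (fun l => by tbo [hα])
    · intro hg
      have := hg.1 ⟨0, by omega⟩
      have := i.2
      tbo [hα]
  · rintro (i | i) s hj
    · simp only at hj
      split_ifs at hj with h1
      cases hj
      intro hin
      have := i.2
      exact absurd hin.2 (by tbnm [hα])
    · simp at hj
  · intro s
    fin_cases s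
    change (if 1 ≤ h then some (0 : Fin 1) else none) = some 0
    rw [if_pos (by omega)]

/-- `α = e_n - e_0`: two classes -/
theorem finrank_T3 (hq : 1 ≤ q) (ht : 1 ≤ t) (htn : t + 2 ≤ n) (α : Fin (n + 1) → ℤ)
    (hα : ∀ l : Fin (n + 1), α l = (if l.val = n then 1 else 0) - (if l.val = 0 then 1 else 0)) :
    finrank k ↥(AG (k := k) (dat k n q t) α) = 2 := by
  apply finrank_AG_eq' 2
    ![Sum.inl ⟨⟨0, by omega⟩, by change 0 < n; omega⟩,
      Sum.inl ⟨⟨n - 1, by omega⟩, by change n - 1 < n; omega⟩]
    (fun j => match j with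
      | Sum.inl i => if i.1.val = 0 then some 0 else some 1
      | Sum.inr _ => none)
  · rintro (i | i) s hj
    · have := i.2
      exact ⟨fun l => by tbo [hα], by tbnm [hα]⟩
    · simp at hj
  · rintro (i | i) (i' | i') hne
    · simp only at hne
      have hi := i.2
      have hi' := i'.2
      by_cases hc : i.1.val = 0 <;> by_cases hc' : i'.1.val = 0
      · rw [if_pos hc, if_pos hc'] at hne
        exact absurd rfl hne
      · exact ⟨fun l => by tbo [hα], memZ_inl i'.1 i'.2 (fun l => by tbo [hα])⟩
      · exact ⟨fun l => by tbo [hα], memZ_inl i.1 i.2 (fun l => by tbo [hα])⟩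
      · rw [if_neg hc, if_neg hc'] at hne
        exact absurd rfl hne
    · have hi := i.2
      have hi' := i'.2
      exact ⟨fun l => by tbo [hα], memZ_inr i'.1 i'.2 (fun l => by tbo [hα])⟩
    · have hi := i.2
      have hi' := i'.2
      exact ⟨fun l => by tbo [hα], memZ_inr i.1 i.2 (fun l => by tbo [hα])⟩
    · exact absurd rfl hne
  · rintro (i | i) hj
    · simp only at hj
      split_ifs at hj
    · intro hg
      have := hg.1 ⟨0, by omega⟩
      have := i.2
      tbo [hα]
  · rintro (i | i) s hj
    · simp only at hj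
      have := i.2
      split_ifs at hj with h1 <;> cases hj <;> intro hin <;> exact absurd hin.2 (by tbnm [hα])
    · simp at hj
  · intro s
    fin_cases s
    · rfl
    · change (if n - 1 = 0 then some (0 : Fin 2) else some 1) = some 1
      rw [if_neg (by omega)]

/-- `α = e_m - e_0`, `2 ≤ m ≤ t`: one class -/
theorem finrank_T4 (hq : 1 ≤ q) (htn : t + 2 ≤ n) (m : ℕ) (hm : 2 ≤ m ∧ m ≤ t)
    (α : Fin (n + 1) → ℤ)
    (hα : ∀ l : Fin (n + 1), α l = (if l.val = m then 1 else 0) - (if l.val = 0 then 1 else 0)) :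
    finrank k ↥(AG (k := k) (dat k n q t) α) = 1 := by
  apply finrank_AG_eq' 1
    ![Sum.inl ⟨⟨m, by omega⟩, by change m < n; omega⟩]
    (fun j => match j with
      | Sum.inl i => if 2 ≤ i.1.val ∨ (i.1.val = 1 ∧ 2 ≤ q) then some 0 else none
      | Sum.inr _ => none)
  · rintro (i | i) s hj
    · simp only at hj
      split_ifs at hj with h1
      have := i.2
      exact ⟨fun l => by tbo [hα], by tbnm [hα]⟩
    · simp at hj
  · rintro (i | i) (i' | i') hne
    · simp only at hne
      have hi := i.2
      have hi' := i'.2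
      by_cases hc : 2 ≤ i.1.val ∨ (i.1.val = 1 ∧ 2 ≤ q) <;>
        by_cases hc' : 2 ≤ i'.1.val ∨ (i'.1.val = 1 ∧ 2 ≤ q)
      · rw [if_pos hc, if_pos hc'] at hne
        exact absurd rfl hne
      · by_cases h0 : i'.1.val = 0
        · exact ⟨fun l => by tbo [hα], memZ_inl i.1 i.2 (fun l => by tbo [hα])⟩
        · exact ⟨fun l => by tbo [hα], memZ_inr ⟨m, by omega⟩ (by change 1 ≤ m ∧ m ≤ t; omega)
            (fun l => by tbo [hα])⟩
      · by_cases h0 : i.1.val = 0
        · exact ⟨fun l => by tbo [hα], memZ_inl i'.1 i'.2 (fun l => by tbo [hα])⟩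
        · exact ⟨fun l => by tbo [hα], memZ_inr ⟨m, by omega⟩ (by change 1 ≤ m ∧ m ≤ t; omega)
            (fun l => by tbo [hα])⟩
      · rw [if_neg hc, if_neg hc'] at hne
        exact absurd rfl hne
    · have hi := i.2
      have hi' := i'.2
      exact ⟨fun l => by tbo [hα], memZ_inr i'.1 i'.2 (fun l => by tbo [hα])⟩
    · have hi := i.2
      have hi' := i'.2
      exact ⟨fun l => by tbo [hα], memZ_inr i.1 i.2 (fun l => by tbo [hα])⟩
    · exact absurd rfl hne
  · rintro (i | i) hj
    · simp only at hj
      split_ifs at hj with h1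
      have hi := i.2
      intro hg
      apply hg.2
      by_cases h0 : i.1.val = 0
      · exact memZ_inl ⟨m, by omega⟩ (by change m < n; omega) (fun l => by tbo [hα])
      · exact memZ_inr ⟨m, by omega⟩ (by change 1 ≤ m ∧ m ≤ t; omega) (fun l => by tbo [hα])
    · intro hg
      have := hg.1 ⟨0, by omega⟩
      have := i.2
      tbo [hα]
  · rintro (i | i) s hj
    · simp only at hj
      split_ifs at hj with h1
      cases hj
      intro hin
      have := i.2
      exact absurd hin.2 (by tbnm [hα])
    · simp at hj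
  · intro s
    fin_cases s
    change (if 2 ≤ m ∨ (m = 1 ∧ 2 ≤ q) then some (0 : Fin 1) else none) = some 0
    rw [if_pos (by omega)]

end Groth.Agent.Lib.Helper15.HilbR
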