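import Mathlib
import Groth.Agent.Lib.Helper15.HilbR1

/-!
# The two-block ideals, `t + 2 ≤ n`: the pieces of multidegree `e_b - e_1` (helper15)
-/

set_option backward.isDefEq.respectTransparency.types false
set_option autoImplicit false
set_option linter.unusedSectionVars false
set_option linter.style.haveILetI false

universe u

namespace Groth.Agent.Lib.Helper15.HilbR

open MvPolynomial W4c1hilbpn Groth.Agent.Lib.Helper8.Hilb Module
open Groth.Agent.Lib.Helper15.HilbG Groth.Agent.Lib.Helper15.HilbB

variable {k : Type u} [Field k] {n q t : ℕ}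

/-- `α = e_h - e_1`, `t < h < n`: two classes -/
theorem finrank_T5 (hq : 1 ≤ q) (ht : 2 ≤ t) (htn : t + 2 ≤ n) (h : ℕ) (hh : t < h ∧ h < n)
    (α : Fin (n + 1) → ℤ)
    (hα : ∀ l : Fin (n + 1), α l = (if l.val = h then 1 else 0) - (if l.val = 1 then 1 else 0)) :
    finrank k ↥(AG (k := k) (dat k n q t) α) = 2 := by
  apply finrank_AG_eq' 2
    ![Sum.inr ⟨⟨1, by omega⟩, by change 1 ≤ 1 ∧ 1 ≤ t; omega⟩,
      Sum.inr ⟨⟨2, by omega⟩, by change 1 ≤ 2 ∧ 2 ≤ t; omega⟩]
    (fun j => match j with
      | Sum.inl _ => none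
      | Sum.inr i => if i.1.val = 1 then some 0 else some 1)
  · rintro (i | i) s hj
    · simp at hj
    · have := i.2
      exact ⟨fun l => by tbo [hα], by tbnm [hα]⟩
  · rintro (i | i) (i' | i') hne
    · exact absurd rfl hne
    · have hi := i.2
      have hi' := i'.2
      by_cases h1 : i.1.val = 1
      · exact ⟨fun l => by tbo [hα], memZ_inl ⟨h, by omega⟩ (by change h < n; omega)
          (fun l => by tbo [hα])⟩
      · exact ⟨fun l => by tbo [hα], memZ_inl i.1 i.2 (fun l => by tbo [hα])⟩
    · have hi := i.2
      have hi' := i'.2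
      by_cases h1 : i'.1.val = 1
      · exact ⟨fun l => by tbo [hα], memZ_inl ⟨h, by omega⟩ (by change h < n; omega)
          (fun l => by tbo [hα])⟩
      · exact ⟨fun l => by tbo [hα], memZ_inl i'.1 i'.2 (fun l => by tbo [hα])⟩
    · simp only at hne
      have hi := i.2
      have hi' := i'.2
      by_cases hc : i.1.val = 1 <;> by_cases hc' : i'.1.val = 1
      · rw [if_pos hc, if_pos hc'] at hne
        exact absurd rfl hne
      · exact ⟨fun l => by tbo [hα], memZ_inr i'.1 i'.2 (fun l => by tbo [hα])⟩
      · exact ⟨fun l => by tbo [hα], memZ_inr i.1 i.2 (fun l => by tbo [hα])⟩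
      · rw [if_neg hc, if_neg hc'] at hne
        exact absurd rfl hne
  · rintro (i | i) hj
    · have hi := i.2
      intro hg
      by_cases h1 : i.1.val = 1
      · apply hg.2
        exact memZ_inl ⟨h, by omega⟩ (by change h < n; omega) (fun l => by tbo [hα])
      · have := hg.1 ⟨1, by omega⟩
        tbo [hα]
    · simp only at hj
      split_ifs at hj
  · rintro (i | i) s hj
    · simp at hj
    · simp only at hj
      have := i.2
      split_ifs at hj with h1 <;> cases hj <;> intro hin <;> exact absurd hin.2 (by tbnm [hα])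
  · intro s
    fin_cases s <;> rfl

/-- `α = e_n - e_1`: three classes -/
theorem finrank_T6 (hq : 1 ≤ q) (ht : 2 ≤ t) (htn : t + 2 ≤ n) (α : Fin (n + 1) → ℤ)
    (hα : ∀ l : Fin (n + 1), α l = (if l.val = n then 1 else 0) - (if l.val = 1 then 1 else 0)) :
    finrank k ↥(AG (k := k) (dat k n q t) α) = 3 := by
  apply finrank_AG_eq' 3
    ![Sum.inl ⟨⟨1, by omega⟩, by change 1 < n; omega⟩,
      Sum.inr ⟨⟨1, by omega⟩, by change 1 ≤ 1 ∧ 1 ≤ t; omega⟩,
      Sum.inr ⟨⟨2, by omega⟩, by change 1 ≤ 2 ∧ 2 ≤ t; omega⟩]
    (fun j => match j with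
      | Sum.inl i => if i.1.val = 1 then some 0 else none
      | Sum.inr i => if i.1.val = 1 then some 1 else some 2)
  · rintro (i | i) s hj
    · simp only at hj
      split_ifs at hj with h1
      have := i.2
      exact ⟨fun l => by tbo [hα], by tbnm [hα]⟩
    · have := i.2
      exact ⟨fun l => by tbo [hα], by tbnm [hα]⟩
  · rintro (i | i) (i' | i') hne
    · simp only at hne
      have hi := i.2
      have hi' := i'.2
      by_cases hc : i.1.val = 1 <;> by_cases hc' : i'.1.val = 1
      · rw [if_pos hc, if_pos hc'] at hne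
        exact absurd rfl hne
      · exact ⟨fun l => by tbo [hα], memZ_inl i'.1 i'.2 (fun l => by tbo [hα])⟩
      · exact ⟨fun l => by tbo [hα], memZ_inl i.1 i.2 (fun l => by tbo [hα])⟩
      · rw [if_neg hc, if_neg hc'] at hne
        exact absurd rfl hne
    · have hi := i.2
      have hi' := i'.2
      by_cases h1 : i.1.val = 1
      · exact ⟨fun l => by tbo [hα], memZ_inl i'.1 (by omega) (fun l => by tbo [hα])⟩
      · exact ⟨fun l => by tbo [hα], memZ_inl i.1 i.2 (fun l => by tbo [hα])⟩
    · have hi := i.2
      have hi' := i'.2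
      by_cases h1 : i'.1.val = 1
      · exact ⟨fun l => by tbo [hα], memZ_inl i.1 (by omega) (fun l => by tbo [hα])⟩
      · exact ⟨fun l => by tbo [hα], memZ_inl i'.1 i'.2 (fun l => by tbo [hα])⟩
    · simp only at hne
      have hi := i.2
      have hi' := i'.2
      by_cases hc : i.1.val = 1 <;> by_cases hc' : i'.1.val = 1
      · rw [if_pos hc, if_pos hc'] at hne
        exact absurd rfl hne
      · exact ⟨fun l => by tbo [hα], memZ_inr i'.1 i'.2 (fun l => by tbo [hα])⟩
      · exact ⟨fun l => by tbo [hα], memZ_inr i.1 i.2 (fun l => by tbo [hα])⟩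
      · rw [if_neg hc, if_neg hc'] at hne
        exact absurd rfl hne
  · rintro (i | i) hj
    · simp only at hj
      split_ifs at hj with h1
      intro hg
      have := hg.1 ⟨1, by omega⟩
      tbo [hα]
    · simp only at hj
      split_ifs at hj
  · rintro (i | i) s hj
    · simp only at hj
      split_ifs at hj with h1
      cases hj
      intro hin
      have := i.2
      exact absurd hin.2 (by tbnm [hα])
    · simp only at hj
      have := i.2
      split_ifs at hj with h1 <;> cases hj <;> intro hin <;> exact absurd hin.2 (by tbnm [hα])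
  · intro s
    fin_cases s <;> rfl

/-- `α = e_m - e_1`, `2 ≤ m ≤ t`: one class -/
theorem finrank_T7 (hq : 1 ≤ q) (htn : t + 2 ≤ n) (m : ℕ) (hm : 2 ≤ m ∧ m ≤ t)
    (α : Fin (n + 1) → ℤ)
    (hα : ∀ l : Fin (n + 1), α l = (if l.val = m then 1 else 0) - (if l.val = 1 then 1 else 0)) :
    finrank k ↥(AG (k := k) (dat k n q t) α) = 1 := by
  apply finrank_AG_eq' 1
    ![Sum.inr ⟨⟨m, by omega⟩, by change 1 ≤ m ∧ m ≤ t; omega⟩]
    (fun j => match j with
      | Sum.inl _ => none
      | Sum.inr i => if 2 ≤ i.1.val then some 0 else none)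
  · rintro (i | i) s hj
    · simp at hj
    · simp only at hj
      split_ifs at hj with h1
      have := i.2
      exact ⟨fun l => by tbo [hα], by tbnm [hα]⟩
  · rintro (i | i) (i' | i') hne
    · exact absurd rfl hne
    · simp only at hne
      have hi := i.2
      have hi' := i'.2
      have hc : 2 ≤ i'.1.val := by
        by_contra hcon
        rw [if_neg hcon] at hne
        exact hne rfl
      by_cases h1 : i.1.val = 1
      · exact ⟨fun l => by tbo [hα], memZ_inl ⟨m, by omega⟩ (by change m < n; omega)
          (fun l => by tbo [hα])⟩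
      · exact ⟨fun l => by tbo [hα], memZ_inl i.1 i.2 (fun l => by tbo [hα])⟩
    · simp only at hne
      have hi := i.2
      have hi' := i'.2
      have hc : 2 ≤ i.1.val := by
        by_contra hcon
        rw [if_neg hcon] at hne
        exact hne rfl
      by_cases h1 : i'.1.val = 1
      · exact ⟨fun l => by tbo [hα], memZ_inl ⟨m, by omega⟩ (by change m < n; omega)
          (fun l => by tbo [hα])⟩
      · exact ⟨fun l => by tbo [hα], memZ_inl i'.1 i'.2 (fun l => by tbo [hα])⟩
    · simp only at hne
      have hi := i.2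
      have hi' := i'.2
      by_cases hc : 2 ≤ i.1.val <;> by_cases hc' : 2 ≤ i'.1.val
      · rw [if_pos hc, if_pos hc'] at hne
        exact absurd rfl hne
      · exact ⟨fun l => by tbo [hα], memZ_inr i.1 i.2 (fun l => by tbo [hα])⟩
      · exact ⟨fun l => by tbo [hα], memZ_inr i'.1 i'.2 (fun l => by tbo [hα])⟩
      · rw [if_neg hc, if_neg hc'] at hne
        exact absurd rfl hne
  · rintro (i | i) hj
    · have hi := i.2
      intro hg
      by_cases h1 : i.1.val = 1
      · apply hg.2
        exact memZ_inl ⟨m, by omega⟩ (by change m < n; omega) (fun l => by tbo [hα])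
      · have := hg.1 ⟨1, by omega⟩
        tbo [hα]
    · simp only at hj
      split_ifs at hj with h1
      have hi := i.2
      intro hg
      apply hg.2
      exact memZ_inr ⟨m, by omega⟩ (by change 1 ≤ m ∧ m ≤ t; omega) (fun l => by tbo [hα])
  · rintro (i | i) s hj
    · simp at hj
    · simp only at hj
      split_ifs at hj with h1
      cases hj
      intro hin
      have := i.2
      exact absurd hin.2 (by tbnm [hα])
  · intro s
    fin_cases s
    change (if 2 ≤ m then some (0 : Fin 1) else none) = some 0
    rw [if_pos (by omega)]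

end Groth.Agent.Lib.Helper15.HilbR
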