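import Mathlib
import Groth.Agent.Lib.Helper15.HilbR2
import Groth.Agent.Lib.Helper15.HilbQ3

/-!
# The two-block ideals, `t + 2 ≤ n`: the remaining special pieces of degree zero (helper15)
-/

set_option backward.isDefEq.respectTransparency.types false
set_option autoImplicit false
set_option linter.unusedSectionVars false
set_option linter.style.haveILetI false

universe u

namespace Groth.Agent.Lib.Helper15.HilbR

open MvPolynomial W4c1hilbpn Groth.Agent.Lib.Helper8.Hilb Module
open Groth.Agent.Lib.Helper15.HilbG Groth.Agent.Lib.Helper15.HilbB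
open Groth.Agent.Lib.Helper15.HilbQ (inl_val_ne inr_val_ne)

variable {k : Type u} [Field k] {n q t : ℕ}

/-- `α = e_n - e_h`, `t < h < n`: the single good generator `x_0 x_h` -/
theorem finrank_T8 (hq : 1 ≤ q) (ht : 1 ≤ t) (htn : t + 2 ≤ n) (h : ℕ) (hh : t < h ∧ h < n)
    (α : Fin (n + 1) → ℤ)
    (hα : ∀ l : Fin (n + 1), α l = (if l.val = n then 1 else 0) - (if l.val = h then 1 else 0)) :
    finrank k ↥(AG (k := k) (dat k n q t) α) = 1 := by
  apply finrank_AG_eq_one (Sum.inl ⟨⟨h, by omega⟩, by change h < n; omega⟩)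
  · exact ⟨fun l => by tbo [hα], by tbnm [hα]⟩
  · rintro (i | i) hne
    · have hi := inl_val_ne hne
      intro hg
      have := hg.1 ⟨h, by omega⟩
      tbo [hα]
    · intro hg
      have := hg.1 ⟨h, by omega⟩
      have := i.2
      tbo [hα]
  · rintro (i | i) hne
    · have hi := inl_val_ne hne
      have hi' := i.2
      exact ⟨fun l => by tbo [hα], memZ_inl i.1 i.2 (fun l => by tbo [hα])⟩
    · have hi' := i.2
      exact ⟨fun l => by tbo [hα], memZ_inr i.1 i.2 (fun l => by tbo [hα])⟩

/-- `α = e_h - e_m`, `2 ≤ m ≤ t < h < n`: the single good generator `x_1^q x_m` -/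
theorem finrank_T9 (hq : 1 ≤ q) (htn : t + 2 ≤ n) (m h : ℕ) (hm : 2 ≤ m ∧ m ≤ t)
    (hh : t < h ∧ h < n) (α : Fin (n + 1) → ℤ)
    (hα : ∀ l : Fin (n + 1), α l = (if l.val = h then 1 else 0) - (if l.val = m then 1 else 0)) :
    finrank k ↥(AG (k := k) (dat k n q t) α) = 1 := by
  apply finrank_AG_eq_one (Sum.inr ⟨⟨m, by omega⟩, by change 1 ≤ m ∧ m ≤ t; omega⟩)
  · exact ⟨fun l => by tbo [hα], by tbnm [hα]⟩
  · rintro (i | i) hne
    · have hi' := i.2
      intro hg
      by_cases hi : i.1.val = m
      · apply hg.2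
        exact memZ_inl ⟨h, by omega⟩ (by change h < n; omega) (fun l => by tbo [hα])
      · have := hg.1 ⟨m, by omega⟩
        tbo [hα]
    · have hi := inr_val_ne hne
      intro hg
      have := hg.1 ⟨m, by omega⟩
      have := i.2
      tbo [hα]
  · rintro (i | i) hne
    · have hi' := i.2
      by_cases hi : i.1.val = m
      · exact ⟨fun l => by tbo [hα], memZ_inl ⟨h, by omega⟩ (by change h < n; omega)
          (fun l => by tbo [hα])⟩
      · exact ⟨fun l => by tbo [hα], memZ_inl i.1 i.2 (fun l => by tbo [hα])⟩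
    · have hi := inr_val_ne hne
      have hi' := i.2
      exact ⟨fun l => by tbo [hα], memZ_inr i.1 i.2 (fun l => by tbo [hα])⟩

/-- `α = e_n - e_m`, `2 ≤ m ≤ t`: two classes -/
theorem finrank_T10 (hq : 1 ≤ q) (htn : t + 2 ≤ n) (m : ℕ) (hm : 2 ≤ m ∧ m ≤ t)
    (α : Fin (n + 1) → ℤ)
    (hα : ∀ l : Fin (n + 1), α l = (if l.val = n then 1 else 0) - (if l.val = m then 1 else 0)) :
    finrank k ↥(AG (k := k) (dat k n q t) α) = 2 := by
  apply finrank_AG_eq' 2
    ![Sum.inl ⟨⟨m, by omega⟩, by change m < n; omega⟩,
      Sum.inr ⟨⟨m, by omega⟩, by change 1 ≤ m ∧ m ≤ t; omega⟩]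
    (fun j => match j with
      | Sum.inl i => if i.1.val = m then some 0 else none
      | Sum.inr i => if i.1.val = m then some 1 else none)
  · rintro (i | i) s hj
    · simp only at hj
      split_ifs at hj with h1
      have := i.2
      exact ⟨fun l => by tbo [hα], by tbnm [hα]⟩
    · simp only at hj
      split_ifs at hj with h1
      have := i.2
      exact ⟨fun l => by tbo [hα], by tbnm [hα]⟩
  · rintro (i | i) (i' | i') hne
    · simp only at hne
      have hi := i.2
      have hi' := i'.2
      by_cases h1 : i.1.val = m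
      · have h1' : i'.1.val ≠ m := by
          intro h
          rw [if_pos h1, if_pos h] at hne
          exact hne rfl
        exact ⟨fun l => by tbo [hα], memZ_inl i'.1 i'.2 (fun l => by tbo [hα])⟩
      · have h1' : i'.1.val = m := by
          by_contra h
          rw [if_neg h1, if_neg h] at hne
          exact hne rfl
        exact ⟨fun l => by tbo [hα], memZ_inl i.1 i.2 (fun l => by tbo [hα])⟩
    · have hi := i.2
      have hi' := i'.2
      have hor : i.1.val = m ∨ i'.1.val = m := by
        by_contra h
        push Not at h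
        simp only [if_neg h.1, if_neg h.2] at hne
        exact hne rfl
      exact ⟨fun l => by tbo [hα], memZ_inl ⟨1, by omega⟩ (by change 1 < n; omega)
        (fun l => by tbo [hα])⟩
    · have hi := i.2
      have hi' := i'.2
      have hor : i.1.val = m ∨ i'.1.val = m := by
        by_contra h
        push Not at h
        simp only [if_neg h.1, if_neg h.2] at hne
        exact hne rfl
      exact ⟨fun l => by tbo [hα], memZ_inl ⟨1, by omega⟩ (by change 1 < n; omega)
        (fun l => by tbo [hα])⟩
    · simp only at hne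
      have hi := i.2
      have hi' := i'.2
      by_cases h1 : i.1.val = m
      · have h1' : i'.1.val ≠ m := by
          intro h
          rw [if_pos h1, if_pos h] at hne
          exact hne rfl
        exact ⟨fun l => by tbo [hα], memZ_inr i'.1 i'.2 (fun l => by tbo [hα])⟩
      · have h1' : i'.1.val = m := by
          by_contra h
          rw [if_neg h1, if_neg h] at hne
          exact hne rfl
        exact ⟨fun l => by tbo [hα], memZ_inr i.1 i.2 (fun l => by tbo [hα])⟩
  · rintro (i | i) hj
    · simp only at hj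
      split_ifs at hj with h1
      intro hg
      have := hg.1 ⟨m, by omega⟩
      tbo [hα]
    · simp only at hj
      split_ifs at hj with h1
      intro hg
      have := hg.1 ⟨m, by omega⟩
      tbo [hα]
  · rintro (i | i) s hj
    · simp only at hj
      split_ifs at hj with h1
      cases hj
      intro hin
      have := i.2
      exact absurd hin.2 (by tbnm [hα])
    · simp only at hj
      split_ifs at hj with h1
      cases hj
      intro hin
      have := i.2
      exact absurd hin.2 (by tbnm [hα])
  · intro s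
    fin_cases s
    · change (if m = m then some (0 : Fin 2) else none) = some 0
      rw [if_pos rfl]
    · change (if m = m then some (1 : Fin 2) else none) = some 1
      rw [if_pos rfl]

/-- `α = -(q+1) e_1 + e_0 + q e_n`: the single good generator `x_1^{q+1}` -/
theorem finrank_T11 (hq : 1 ≤ q) (ht : 1 ≤ t) (htn : t + 2 ≤ n) (α : Fin (n + 1) → ℤ)
    (hα : ∀ l : Fin (n + 1), α l = (if l.val = 0 then 1 else 0) +
      (if l.val = n then (q : ℤ) else 0) - (if l.val = 1 then (q : ℤ) + 1 else 0)) :
    finrank k ↥(AG (k := k) (dat k n q t) α) = 1 := by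
  apply finrank_AG_eq_one (Sum.inr ⟨⟨1, by omega⟩, by change 1 ≤ 1 ∧ 1 ≤ t; omega⟩)
  · exact ⟨fun l => by tbo [hα], by tbnm [hα]⟩
  · rintro (i | i) hne
    · intro hg
      have := hg.1 ⟨1, by omega⟩
      have := i.2
      tbo [hα]
    · have hi := inr_val_ne hne
      intro hg
      have := hg.1 ⟨1, by omega⟩
      have := i.2
      tbo [hα]
  · rintro (i | i) hne
    · have hi' := i.2
      exact ⟨fun l => by tbo [hα], memZ_inl ⟨0, by omega⟩ (by change 0 < n; omega)
        (fun l => by tbo [hα])⟩
    · have hi := inr_val_ne hne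
      have hi' := i.2
      exact ⟨fun l => by tbo [hα], memZ_inl i.1 (by omega) (fun l => by tbo [hα])⟩

/-- `α = -q e_1 - e_m + e_0 + q e_n`, `2 ≤ m ≤ t`: the single good generator `x_1^q x_m` -/
theorem finrank_T12 (hq : 1 ≤ q) (htn : t + 2 ≤ n) (m : ℕ) (hm : 2 ≤ m ∧ m ≤ t)
    (α : Fin (n + 1) → ℤ)
    (hα : ∀ l : Fin (n + 1), α l = (if l.val = 0 then 1 else 0) +
      (if l.val = n then (q : ℤ) else 0) - (if l.val = 1 then (q : ℤ) else 0) -
      (if l.val = m then 1 else 0)) :
    finrank k ↥(AG (k := k) (dat k n q t) α) = 1 := by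
  apply finrank_AG_eq_one (Sum.inr ⟨⟨m, by omega⟩, by change 1 ≤ m ∧ m ≤ t; omega⟩)
  · exact ⟨fun l => by tbo [hα], by tbnm [hα]⟩
  · rintro (i | i) hne
    · intro hg
      have := hg.1 ⟨1, by omega⟩
      have := hg.1 ⟨m, by omega⟩
      have := i.2
      tbo [hα]
    · have hi := inr_val_ne hne
      intro hg
      have := hg.1 ⟨m, by omega⟩
      have := i.2
      tbo [hα]
  · rintro (i | i) hne
    · have hi' := i.2
      exact ⟨fun l => by tbo [hα], memZ_inl ⟨0, by omega⟩ (by change 0 < n; omega)
        (fun l => by tbo [hα])⟩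
    · have hi := inr_val_ne hne
      have hi' := i.2
      exact ⟨fun l => by tbo [hα], memZ_inl i.1 (by omega) (fun l => by tbo [hα])⟩

end Groth.Agent.Lib.Helper15.HilbR
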