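import Mathlib
import Groth.Agent.Lib.Helper15.HilbR3

/-!
# The two-block ideals: the pieces of multidegree `-s e_1 + δ`, `2 ≤ s ≤ q` (helper15)
-/

set_option backward.isDefEq.respectTransparency.types false
set_option autoImplicit false
set_option linter.unusedSectionVars false
set_option linter.style.haveILetI false

universe u

namespace Groth.Agent.Lib.Helper15.HilbR

open MvPolynomial W4c1hilbpn Groth.Agent.Lib.Helper8.Hilb Module
open Groth.Agent.Lib.Helper15.HilbG Groth.Agent.Lib.Helper15.HilbB

variable {k : Type u} [Field k] {n q t : ℕ}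

/-- `α = -s e_1 + δ` with `2 ≤ s ≤ q` and `δ ≥ 0` supported away from `0, 1`: one class, made of
all the generators `x_1^q x_i` -/
theorem finrank_TII (ht : 1 ≤ t) (htn : t + 2 ≤ n) (s : ℕ) (hs : 2 ≤ s ∧ s ≤ q)
    (δ : Fin (n + 1) → ℤ) (hδ0 : ∀ l, 0 ≤ δ l) (hδ1 : ∀ l : Fin (n + 1), l.val ≤ 1 → δ l = 0)
    (α : Fin (n + 1) → ℤ)
    (hα : ∀ l : Fin (n + 1), α l = δ l - (if l.val = 1 then (s : ℤ) else 0)) :
    finrank k ↥(AG (k := k) (dat k n q t) α) = 1 := by
  have hd0 : δ ⟨0, by omega⟩ = 0 := hδ1 _ (by simp)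
  have hd1 : δ ⟨1, by omega⟩ = 0 := hδ1 _ (by simp)
  apply finrank_AG_eq' 1
    ![Sum.inr ⟨⟨1, by omega⟩, by change 1 ≤ 1 ∧ 1 ≤ t; omega⟩]
    (fun j => match j with
      | Sum.inl _ => none
      | Sum.inr _ => some 0)
  · rintro (i | i) s' hj
    · simp at hj
    · have hi := i.2
      refine ⟨fun l => ?_, not_memZ (by omega) ?_ ?_⟩
      · have := hδ0 l
        tbo [hα]
      · intro i' hi'
        tbo [hα]
      · intro i' h1 h2
        have := hδ0 i'
        tbo [hα]
  · rintro (i | i) (i' | i') hne
    · exact absurd rfl hne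
    · have hi := i.2
      have hi' := i'.2
      by_cases h1 : i.1.val = 1
      · refine ⟨fun l => ?_, memZ_inl i'.1 (by omega) (fun l => ?_)⟩
        · have := hδ0 l
          tbo [hα]
        · have := hδ0 l
          tbo [hα]
      · refine ⟨fun l => ?_, memZ_inl i.1 i.2 (fun l => ?_)⟩
        · have := hδ0 l
          tbo [hα]
        · have := hδ0 l
          tbo [hα]
    · have hi := i.2
      have hi' := i'.2
      by_cases h1 : i'.1.val = 1
      · refine ⟨fun l => ?_, memZ_inl i.1 (by omega) (fun l => ?_)⟩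
        · have := hδ0 l
          tbo [hα]
        · have := hδ0 l
          tbo [hα]
      · refine ⟨fun l => ?_, memZ_inl i'.1 i'.2 (fun l => ?_)⟩
        · have := hδ0 l
          tbo [hα]
        · have := hδ0 l
          tbo [hα]
    · exact absurd rfl hne
  · rintro (i | i) hj
    · intro hg
      have := hg.1 ⟨1, by omega⟩
      have := i.2
      tbo [hα]
    · simp at hj
  · rintro (i | i) s' hj
    · simp at hj
    · cases hj
      intro hin
      have hi := i.2
      refine not_memZ (by omega) ?_ ?_ hin.2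
      · intro i' hi'
        tbo [hα]
      · intro i' h1 h2
        have := hδ0 i'
        tbo [hα]
  · intro s'
    fin_cases s'
    rfl

end Groth.Agent.Lib.Helper15.HilbR
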