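import Mathlib
import Groth.Agent.Lib.Helper15.HilbR4

/-!
# The two-block ideals, `t + 2 ≤ n`: vanishing of the other pieces, generators `x_0 x_i` (helper15)
-/

set_option backward.isDefEq.respectTransparency.types false
set_option autoImplicit false
set_option linter.unusedSectionVars false
set_option linter.style.haveILetI false

universe u

namespace Groth.Agent.Lib.Helper15.HilbR

open MvPolynomial W4c1hilbpn Groth.Agent.Lib.Helper8.Hilb Module
open Groth.Agent.Lib.Helper15.HilbG Groth.Agent.Lib.Helper15.HilbB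

variable {k : Type u} [Field k] {n q t : ℕ}

/-- the pairs `(a, b)` with a nonzero piece of multidegree `e_b - e_a` -/
def CondGL (n t a b : ℕ) : Prop :=
  (a = 0 ∧ 1 ≤ b ∧ b ≤ n) ∨ (a = 1 ∧ 2 ≤ b ∧ b ≤ n) ∨ (2 ≤ a ∧ a ≤ t ∧ t < b ∧ b ≤ n) ∨
    (t < a ∧ a < n ∧ b = n)

/-- the multidegrees of degree zero carrying a nonzero piece (generic range) -/
def InS (n q t : ℕ) (α : Fin (n + 1) → ℤ) : Prop :=
  (∃ a b : ℕ, CondGL n t a b ∧
    ∀ l : Fin (n + 1), α l = (if l.val = b then 1 else 0) - (if l.val = a then 1 else 0)) ∨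
  (∃ (s : ℕ) (δ : Fin (n + 1) → ℤ), (2 ≤ s ∧ s ≤ q) ∧ (∀ l, 0 ≤ δ l) ∧
    (∀ l : Fin (n + 1), l.val ≤ 1 → δ l = 0) ∧ ∑ l, δ l = (s : ℤ) ∧
    ∀ l : Fin (n + 1), α l = δ l - (if l.val = 1 then (s : ℤ) else 0)) ∨
  (∀ l : Fin (n + 1), α l = (if l.val = 0 then 1 else 0) +
      (if l.val = n then (q : ℤ) else 0) - (if l.val = 1 then (q : ℤ) + 1 else 0)) ∨
  (∃ m : ℕ, (2 ≤ m ∧ m ≤ t) ∧ ∀ l : Fin (n + 1), α l = (if l.val = 0 then 1 else 0) +
      (if l.val = n then (q : ℤ) else 0) - (if l.val = 1 then (q : ℤ) else 0) -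
      (if l.val = m then 1 else 0))

/-- the exceptional multidegree, present only for `t + 2 = n` and `q ≤ 2` -/
def InX (n q t : ℕ) (α : Fin (n + 1) → ℤ) : Prop :=
  t + 2 = n ∧ q ≤ 2 ∧ ∀ l : Fin (n + 1), α l = (if l.val = 1 then (q : ℤ) else 0) +
    (if l.val = n then 2 - (q : ℤ) else 0) - (if l.val = 0 then 1 else 0) -
    (if l.val = n - 1 then 1 else 0)

/-- the top family, present only for `t = 1` -/
def InTop (n q t : ℕ) (α : Fin (n + 1) → ℤ) : Prop :=
  t = 1 ∧ ∃ δ : Fin (n + 1) → ℤ, (∀ l, 0 ≤ δ l) ∧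
    (∀ l : Fin (n + 1), l.val ≤ 1 → δ l = 0) ∧ ∑ l, δ l = (q : ℤ) + 1 ∧
    (∃ l : Fin (n + 1), l.val < n ∧ 1 ≤ δ l) ∧
    ∀ l : Fin (n + 1), α l = δ l - (if l.val = 1 then (q : ℤ) + 1 else 0)

/-- the case of a generator `x_0 x_i` -/
theorem vanish_inl (hq : 1 ≤ q) (ht : 1 ≤ t) (htn : t + 2 ≤ n) (α : Fin (n + 1) → ℤ)
    (hs : ∑ l, α l = 0) (a : Idx n t → k) (ha : a ∈ AG (k := k) (dat k n q t) α)
    (i : Fin (n + 1)) (hi : i.val < n) (hj : a (Sum.inl ⟨i, hi⟩) ≠ 0) :
    InS n q t α ∨ InX n q t α := by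
  have hg := AG_good ha hj
  have hsum : ∑ l, shv (dat k n q t) α (Sum.inl ⟨i, hi⟩) l = 2 := by
    rw [sum_shv_inl, hs, add_zero]
  obtain ⟨p, p', hp, hp', hm⟩ := exists_two _ hg.1 hsum
  have hα : ∀ l : Fin (n + 1), α l = (if l.val = p then 1 else 0) +
      (if l.val = p' then 1 else 0) - (if l.val = 0 then 1 else 0) -
      (if l.val = i.val then 1 else 0) := by
    intro l
    have := hm l
    rw [shv_inl] at this
    simp only at this
    omega
  have hstd := hg.2
  -- standardness: `x_0` only with `x_n`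
  have hs0 : p = 0 → p' = n := by
    intro h0
    by_contra hcon
    exact hstd (memZ_inl ⟨p', by omega⟩ (by change p' < n; omega) (fun l => by tbo [hα]))
  have hs0' : p' = 0 → p = n := by
    intro h0
    by_contra hcon
    exact hstd (memZ_inl ⟨p, by omega⟩ (by change p < n; omega) (fun l => by tbo [hα]))
  by_cases hp0 : p = 0 ∨ p' = 0
  · -- `α = e_n - e_i`
    left; left
    refine ⟨i.val, n, ?_, fun l => by tbo [hα]⟩
    unfold CondGL
    omega
  · by_cases hpi : p = i.val ∨ p' = i.val
    · -- `α = e_{p'} - e_0`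
      left; left
      rcases hpi with hpi | hpi
      · refine ⟨0, p', ?_, fun l => by tbo [hα]⟩
        unfold CondGL
        omega
      · refine ⟨0, p, ?_, fun l => by tbo [hα]⟩
        unfold CondGL
        omega
    · -- the remaining multidegrees `-e_0 - e_i + e_p + e_p'`
      have key : ∀ h' : ℕ, t < h' → h' < n → h' ≠ i.val → False := by
        intro h' h1 h2 h3
        have hb : ¬ Good (dat k n q t) α (Sum.inl ⟨⟨h', by omega⟩, by change h' < n; omega⟩) := by
          intro hg'
          have := hg'.1 i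
          tbo [hα]
        have h4 := AG_sep_bad ha hj hb
        rcases memZ_cases (by omega) h4.2 with ⟨i'', e1, e2, e3⟩ | ⟨i'', e1, e2, e3, e4⟩
        · tbo [hα]
        · exact hstd (memZ_inr i'' ⟨e1, e2⟩ (fun l => by tbo [hα]))
      by_cases hi1 : i.val ≠ n - 1
      · exact (key (n - 1) (by omega) (by omega) (by omega)).elim
      · push Not at hi1
        by_cases hr : t + 3 ≤ n
        · exact (key (n - 2) (by omega) (by omega) (by omega)).elim
        · -- `t + 2 = n` and `i = n - 1`
          have htn' : t + 2 = n := by omega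
          have hb1 : ¬ Good (dat k n q t) α (Sum.inl ⟨⟨1, by omega⟩, by change 1 < n; omega⟩) := by
            intro hg'
            have := hg'.1 i
            tbo [hα]
          have h5 := AG_sep_bad ha hj hb1
          rcases memZ_cases (by omega) h5.2 with ⟨i'', e1, e2, e3⟩ | ⟨i'', e1, e2, e3, e4⟩
          · tbo [hα]
          · by_cases hi1' : i''.val = 1
            · -- `x_1^{q+1}` divides `x_1 m`
              have hq2 : q ≤ 2 := by tbo [hα]
              by_cases hq1 : q = 1
              · -- `m = x_1 x_{p'}` with `p' = n`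
                right
                refine ⟨htn', hq2, ?_⟩
                have hp1 : p = 1 ∨ p' = 1 := by tbo [hα]
                have h6 : p = 1 → ¬ (1 ≤ p' ∧ p' ≤ t) := fun h1 h2 =>
                  hstd (memZ_inr ⟨p', by omega⟩ (by change 1 ≤ p' ∧ p' ≤ t; omega)
                    (fun l => by tbo [hα]))
                have h7 : p' = 1 → ¬ (1 ≤ p ∧ p ≤ t) := fun h1 h2 =>
                  hstd (memZ_inr ⟨p, by omega⟩ (by change 1 ≤ p ∧ p ≤ t; omega)
                    (fun l => by tbo [hα]))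
                intro l
                tbo [hα]
              · right
                refine ⟨htn', hq2, fun l => ?_⟩
                tbo [hα]
            · -- `x_1^q x_{i''}` divides `x_1 m`, `i'' ≥ 2`
              have hb2 : ¬ Good (dat k n q t) α (Sum.inl ⟨i'', by omega⟩) := by
                intro hg'
                have := hg'.1 i
                tbo [hα]
              have h6 := AG_sep_bad ha hj hb2
              rcases memZ_cases (by omega) h6.2 with ⟨i₃, f1, f2, f3⟩ | ⟨i₃, f1, f2, f3, f4⟩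
              · tbo [hα]
              · exact (hstd (memZ_inr i₃ ⟨f1, f2⟩ (fun l => by tbo [hα]))).elim

end Groth.Agent.Lib.Helper15.HilbR
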