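import Mathlib
import Groth.Agent.Lib.Helper15.HilbR5
import Groth.Agent.Lib.Helper15.HilbB4

/-!
# The two-block ideals, `t + 2 ≤ n`: vanishing of the other pieces, generators `x_1^q x_i`
(helper15)
-/

set_option backward.isDefEq.respectTransparency.types false
set_option autoImplicit false
set_option linter.unusedSectionVars false
set_option linter.style.haveILetI false

universe u

namespace Groth.Agent.Lib.Helper15.HilbR

open MvPolynomial W4c1hilbpn Groth.Agent.Lib.Helper8.Hilb Module
open Groth.Agent.Lib.Helper15.HilbG Groth.Agent.Lib.Helper15.HilbB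

variable {k : Type u} [Field k] {n q t : ℕ}

/-- the case of a generator `x_1^q x_i` -/
theorem vanish_inr (hq : 1 ≤ q) (ht : 1 ≤ t) (htn : t + 2 ≤ n) (α : Fin (n + 1) → ℤ)
    (hs : ∑ l, α l = 0) (a : Idx n t → k) (ha : a ∈ AG (k := k) (dat k n q t) α)
    (i : Fin (n + 1)) (hi : 1 ≤ i.val ∧ i.val ≤ t) (hj : a (Sum.inr ⟨i, hi⟩) ≠ 0) :
    InS n q t α ∨ InTop n q t α := by
  have hg := AG_good ha hj
  have hsum : ∑ l, shv (dat k n q t) α (Sum.inr ⟨i, hi⟩) l = (q : ℤ) + 1 := by
    rw [sum_shv_inr (by omega), hs, add_zero]
  obtain ⟨m, hmdef⟩ : ∃ m : Fin (n + 1) → ℤ, m = shv (dat k n q t) α (Sum.inr ⟨i, hi⟩) :=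
    ⟨_, rfl⟩
  have hm0 : ∀ l, 0 ≤ m l := by rw [hmdef]; exact hg.1
  have hstd : ¬ memZ (dat k n q t) m := by rw [hmdef]; exact hg.2
  have hsum' : ∑ l, m l = (q : ℤ) + 1 := by rw [hmdef]; exact hsum
  have hα : ∀ l : Fin (n + 1), α l = m l - (if l.val = 1 then (q : ℤ) else 0) -
      (if l.val = i.val then 1 else 0) := by
    intro l
    have := congrFun hmdef l
    rw [shv_inr] at this
    simp only at this
    omega
  have hA : ∀ l : Fin (n + 1), l.val < n →
      ¬ ((1 : ℤ) + (if 0 = l.val then 1 else 0) ≤ m ⟨0, by omega⟩ ∧
        (if l.val = 0 then 1 else 0) + 1 ≤ m l) :=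
    fun l hl h => hstd (memZ_inl' hm0 l hl h.1 h.2)
  have hB : ∀ l : Fin (n + 1), 1 ≤ l.val → l.val ≤ t →
      ¬ ((q : ℤ) + (if 1 = l.val then 1 else 0) ≤ m ⟨1, by omega⟩ ∧
        (if l.val = 1 then (q : ℤ) else 0) + 1 ≤ m l) :=
    fun l h1 h2 h => hstd (memZ_inr' (by omega) hm0 l ⟨h1, h2⟩ h.1 h.2)
  have hc0 : ∀ l : Fin (n + 1), l.val = 0 → m l = m ⟨0, by omega⟩ := fun l h => by
    rw [show l = ⟨0, by omega⟩ from Fin.ext h]
  have hc1 : ∀ l : Fin (n + 1), l.val = 1 → m l = m ⟨1, by omega⟩ := fun l h => by
    rw [show l = ⟨1, by omega⟩ from Fin.ext h]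
  have hci : ∀ l : Fin (n + 1), l.val = i.val → m l = m i := fun l h => by
    rw [show l = i from Fin.ext h]
  by_cases hM0 : 1 ≤ m ⟨0, by omega⟩
  · -- `m = x_0 x_n^q`
    left
    have h0 : m ⟨0, by omega⟩ = 1 := by
      have := hA ⟨0, by omega⟩ (by change 0 < n; omega)
      simp only [if_true] at this
      omega
    have hz : ∀ l : Fin (n + 1), l.val ≠ 0 → l.val < n → m l = 0 := by
      intro l h1 h2
      have := hA l h2
      have := hm0 l
      omega
    have hmx := eq_x0_xn m (by omega) hsum' h0 hz
    by_cases hi1 : i.val = 1
    · right; right; left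
      intro l
      rw [hα, hmx]
      omega
    · right; right; right
      refine ⟨i.val, by omega, fun l => ?_⟩
      rw [hα, hmx]
  · have hM0' : m ⟨0, by omega⟩ = 0 := by
      have := hm0 ⟨0, by omega⟩
      omega
    have hM1 : m ⟨1, by omega⟩ ≤ q := by
      have := hB ⟨1, by omega⟩ (by simp) (by change 1 ≤ t; omega)
      simp only [if_true] at this
      omega
    have hM1' := hm0 ⟨1, by omega⟩
    by_cases hi1 : i.val = 1
    · -- the generator `x_1^{q+1}`
      by_cases hs1 : m ⟨1, by omega⟩ = q
      · -- `α = e_b - e_1`
        have hδs : ∑ l : Fin (n + 1), (if l.val = 1 then 0 else m l) = 1 := by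
          rw [sum_erase_val m (by omega), hsum', hs1]
          ring
        obtain ⟨b, hb, hδ⟩ := exists_one _ (fun l => by
          show 0 ≤ (if l.val = 1 then 0 else m l)
          split_ifs
          · exact le_rfl
          · exact hm0 l) hδs
        have hb0 := hδ ⟨0, by omega⟩
        have hb1 := hδ ⟨1, by omega⟩
        simp only [if_true] at hb0 hb1
        left; left
        refine ⟨1, b, ?_, fun l => ?_⟩
        · unfold CondGL
          omega
        · have := hδ l
          have := hc1 l
          rw [hα]
          omega
      · by_cases hs2 : 1 ≤ m ⟨1, by omega⟩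
        · -- the family `-s e_1 + δ`
          obtain ⟨s, hs'⟩ : ∃ s : ℕ, (s : ℤ) = (q : ℤ) + 1 - m ⟨1, by omega⟩ :=
            ⟨((q : ℤ) + 1 - m ⟨1, by omega⟩).toNat, by rw [Int.toNat_of_nonneg]; omega⟩
          left; right; left
          refine ⟨s, fun l => if l.val = 1 then 0 else m l, by omega, fun l => ?_, fun l hl => ?_,
            ?_, fun l => ?_⟩
          · show 0 ≤ (if l.val = 1 then 0 else m l)
            split_ifs
            · exact le_rfl
            · exact hm0 l
          · show (if l.val = 1 then 0 else m l) = 0
            have := hc0 l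
            omega
          · rw [sum_erase_val m (by omega), hsum', hs']
          · have := hc1 l
            rw [hα]
            show _ = (if l.val = 1 then 0 else m l) - _
            omega
        · -- `m` has neither `x_0` nor `x_1`
          have hM1'' : m ⟨1, by omega⟩ = 0 := by omega
          by_cases ht2 : 2 ≤ t
          · exfalso
            have hb : ¬ Good (dat k n q t) α
                (Sum.inr ⟨⟨2, by omega⟩, by change 1 ≤ 2 ∧ 2 ≤ t; omega⟩) := by
              intro hg'
              have := hg'.1 ⟨1, by omega⟩
              tbo [hα]
            have h4 := AG_sep_bad ha hj hb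
            rcases memZ_cases (by omega) h4.2 with ⟨i'', e1, e2, e3⟩ | ⟨i'', e1, e2, e3, e4⟩
            · tbo [hα]
            · tbo [hα]
          · right
            refine ⟨by omega, m, hm0, fun l hl => ?_, hsum', ?_, fun l => ?_⟩
            · have := hc0 l
              have := hc1 l
              omega
            · by_contra hcon
              push Not at hcon
              have hb : ¬ Good (dat k n q t) α
                  (Sum.inl ⟨⟨1, by omega⟩, by change 1 < n; omega⟩) := by
                intro hg'
                have := hg'.1 ⟨1, by omega⟩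
                tbo [hα]
              have h4 := AG_sep_bad ha hj hb
              rcases memZ_cases (by omega) h4.2 with ⟨i'', e1, e2, e3⟩ | ⟨i'', e1, e2, e3, e4⟩
              · have := hcon i'' e1
                tbo [hα]
              · tbo [hα]
            · rw [hα]
              omega
    · -- the generators `x_1^q x_i`, `i ≥ 2`
      have hi2 : 2 ≤ i.val := by omega
      by_cases hmi : 1 ≤ m i
      · by_cases hs0 : m ⟨1, by omega⟩ = q
        · exfalso
          apply hB i hi.1 hi.2
          constructor
          · rw [if_neg (by omega)]
            omega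
          · rw [if_neg (by omega)]
            omega
        · have hδnn : ∀ l : Fin (n + 1), 0 ≤ (if l.val = 1 then 0 else
              m l - (if l.val = i.val then 1 else 0)) := by
            intro l
            have := hm0 l
            have := hci l
            split_ifs <;> omega
          have hδsum : ∑ l : Fin (n + 1), (if l.val = 1 then 0 else
              m l - (if l.val = i.val then 1 else 0)) = (q : ℤ) - m ⟨1, by omega⟩ := by
            rw [sum_erase_val (fun l => m l - (if l.val = i.val then 1 else 0)) (by omega),
              Finset.sum_sub_distrib, hsum', sum_ite_val (by omega)]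
            simp only
            rw [if_neg (by omega)]
            ring
          by_cases hs1 : m ⟨1, by omega⟩ = q - 1
          · -- `α = e_b - e_1`
            obtain ⟨b, hb, hδ⟩ := exists_one _ hδnn (by rw [hδsum, hs1]; ring)
            have hb0 := hδ ⟨0, by omega⟩
            have hb1 := hδ ⟨1, by omega⟩
            simp only [if_true] at hb0 hb1
            left; left
            refine ⟨1, b, ?_, fun l => ?_⟩
            · unfold CondGL
              omega
            · have := hδ l
              have := hc1 l
              rw [hα]
              omega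
          · obtain ⟨s, hs'⟩ : ∃ s : ℕ, (s : ℤ) = (q : ℤ) - m ⟨1, by omega⟩ :=
              ⟨((q : ℤ) - m ⟨1, by omega⟩).toNat, by rw [Int.toNat_of_nonneg]; omega⟩
            left; right; left
            refine ⟨s, fun l => if l.val = 1 then 0 else m l - (if l.val = i.val then 1 else 0),
              by omega, hδnn, fun l hl => ?_, ?_, fun l => ?_⟩
            · show (if l.val = 1 then 0 else m l - (if l.val = i.val then 1 else 0)) = 0
              have := hc0 l
              omega
            · rw [hδsum, hs']
            · have := hc1 l
              rw [hα]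
              show _ = (if l.val = 1 then 0 else m l - (if l.val = i.val then 1 else 0)) - _
              omega
      · have hmi0 : m i = 0 := by
          have := hm0 i
          omega
        by_cases hs0 : m ⟨1, by omega⟩ = q
        · -- `α = e_b - e_i`
          have hδs : ∑ l : Fin (n + 1), (if l.val = 1 then 0 else m l) = 1 := by
            rw [sum_erase_val m (by omega), hsum', hs0]
            ring
          obtain ⟨b, hb, hδ⟩ := exists_one _ (fun l => by
            show 0 ≤ (if l.val = 1 then 0 else m l)
            split_ifs
            · exact le_rfl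
            · exact hm0 l) hδs
          have hb0 := hδ ⟨0, by omega⟩
          have hb1 := hδ ⟨1, by omega⟩
          simp only [if_true] at hb0 hb1
          have hbt : t < b := by
            by_contra hcon
            push Not at hcon
            have h5 := hB ⟨b, by omega⟩ (by change 1 ≤ b; omega) (by change b ≤ t; omega)
            have h6 := hδ ⟨b, by omega⟩
            simp only [if_true] at h5 h6
            omega
          left; left
          refine ⟨i.val, b, ?_, fun l => ?_⟩
          · unfold CondGL
            omega
          · have := hδ l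
            have := hc1 l
            rw [hα]
            omega
        · exfalso
          have hb : ¬ Good (dat k n q t) α
              (Sum.inr ⟨⟨1, by omega⟩, by change 1 ≤ 1 ∧ 1 ≤ t; omega⟩) := by
            intro hg'
            have := hg'.1 i
            tbo [hα]
          have h4 := AG_sep_bad ha hj hb
          rcases memZ_cases (by omega) h4.2 with ⟨i'', e1, e2, e3⟩ | ⟨i'', e1, e2, e3, e4⟩
          · tbo [hα]
          · have hcong := hci i''
            have hb' : ¬ Good (dat k n q t) α (Sum.inr ⟨i'', e1, e2⟩) := by
              intro hg'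
              have := hg'.1 i
              tbo [hα]
            have h5 := AG_sep_bad ha hj hb'
            rcases memZ_cases (by omega) h5.2 with ⟨i₃, f1, f2, f3⟩ | ⟨i₃, f1, f2, f3, f4⟩
            · tbo [hα]
            · tbo [hα]

end Groth.Agent.Lib.Helper15.HilbR
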