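import Mathlib
import Groth.Agent.Lib.Helper15.HilbR6
import Groth.Agent.Lib.Helper15.HilbQ5

/-!
# The two-block ideals, `t + 2 ≤ n`: vanishing theorem and the pieces `e_b - e_a` (helper15)
-/

set_option backward.isDefEq.respectTransparency.types false
set_option autoImplicit false
set_option linter.unusedSectionVars false
set_option linter.style.haveILetI false

universe u

namespace Groth.Agent.Lib.Helper15.HilbR

open MvPolynomial W4c1hilbpn Groth.Agent.Lib.Helper8.Hilb Module
open Groth.Agent.Lib.Helper15.HilbG Groth.Agent.Lib.Helper15.HilbB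
open Groth.Agent.Lib.Helper15.HilbQ (v2 sum_v2 inl_val_ne inr_val_ne)

variable {k : Type u} [Field k] {n q t : ℕ}

/-- the vanishing theorem -/
theorem vanish (hq : 1 ≤ q) (ht : 1 ≤ t) (htn : t + 2 ≤ n) (α : Fin (n + 1) → ℤ)
    (hs : ∑ l, α l = 0) (a : Idx n t → k) (ha : a ∈ AG (k := k) (dat k n q t) α) (hne : a ≠ 0) :
    InS n q t α ∨ InX n q t α ∨ InTop n q t α := by
  obtain ⟨j, hj⟩ : ∃ j, a j ≠ 0 := by
    by_contra hcon
    push Not at hcon
    exact hne (funext hcon)
  rcases j with ⟨i, hi⟩ | ⟨i, hi⟩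
  · rcases vanish_inl hq ht htn α hs a ha i hi hj with h | h
    · exact Or.inl h
    · exact Or.inr (Or.inl h)
  · rcases vanish_inr hq ht htn α hs a ha i hi hj with h | h
    · exact Or.inl h
    · exact Or.inr (Or.inr h)

/-- the exceptional piece `-e_0 - e_{n-1} + e_1 + e_n` for `q = 1`, `t + 2 = n` -/
theorem finrank_X1 (ht : 1 ≤ t) (htn : t + 2 = n) (α : Fin (n + 1) → ℤ)
    (hα : ∀ l : Fin (n + 1), α l = (if l.val = 1 then 1 else 0) + (if l.val = n then 1 else 0) -
      (if l.val = 0 then 1 else 0) - (if l.val = n - 1 then 1 else 0)) :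
    finrank k ↥(AG (k := k) (dat k n 1 t) α) = 1 := by
  apply finrank_AG_eq_one (Sum.inl ⟨⟨n - 1, by omega⟩, by change n - 1 < n; omega⟩)
  · exact ⟨fun l => by tbo [hα], by tbnm [hα]⟩
  · rintro (i | i) hne
    · have hi := inl_val_ne hne
      intro hg
      have := hg.1 ⟨n - 1, by omega⟩
      tbo [hα]
    · intro hg
      have := hg.1 ⟨0, by omega⟩
      have := i.2
      tbo [hα]
  · rintro (i | i) hne
    · have hi := inl_val_ne hne
      have hi' := i.2
      by_cases h0 : i.1.val = 0
      · exact ⟨fun l => by tbo [hα], memZ_inl ⟨1, by omega⟩ (by change 1 < n; omega)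
          (fun l => by tbo [hα])⟩
      · exact ⟨fun l => by tbo [hα], memZ_inr i.1 ⟨by omega, by omega⟩ (fun l => by tbo [hα])⟩
    · have hi' := i.2
      exact ⟨fun l => by tbo [hα], memZ_inr i.1 i.2 (fun l => by tbo [hα])⟩

/-- the index pairs of the pieces `e_b - e_a` -/
def TGL (n t : ℕ) : Finset (ℕ × ℕ) :=
  ((({0} : Finset ℕ) ×ˢ Finset.Ico 1 (n + 1)) ∪ (({1} : Finset ℕ) ×ˢ Finset.Ico 2 (n + 1))) ∪
    ((Finset.Ico 2 (t + 1) ×ˢ Finset.Ico (t + 1) (n + 1)) ∪
      (Finset.Ico (t + 1) n ×ˢ ({n} : Finset ℕ)))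

lemma mem_TGL (x : ℕ × ℕ) : x ∈ TGL n t ↔ CondGL n t x.1 x.2 := by
  simp only [TGL, CondGL, Finset.mem_union, Finset.mem_product, Finset.mem_singleton,
    Finset.mem_Ico]
  omega

/-- the dimension of the piece `e_b - e_a` -/
def dGL (n t : ℕ) (x : ℕ × ℕ) : ℕ :=
  1 + (if x.2 = n ∧ x.1 ≤ t then 1 else 0) + (if x.1 = 1 ∧ t < x.2 then 1 else 0)

lemma finrank_GL (hq : 1 ≤ q) (ht : 2 ≤ t) (htn : t + 2 ≤ n) (x : ℕ × ℕ) (hx : x ∈ TGL n t) :
    finrank k ↥(AG (k := k) (dat k n q t) (v2 n x.1 x.2)) = dGL n t x := by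
  obtain ⟨a, b⟩ := x
  rw [mem_TGL] at hx
  unfold CondGL at hx
  unfold dGL
  simp only at hx ⊢
  rcases hx with ⟨rfl, h1, h2⟩ | ⟨rfl, h1, h2⟩ | ⟨h1, h2, h3, h4⟩ | ⟨h1, h2, rfl⟩
  · by_cases hb : b = n
    · subst hb
      rw [if_pos ⟨rfl, by omega⟩, if_neg (by omega)]
      exact finrank_T3 hq (by omega) htn _ (fun l => rfl)
    · rw [if_neg (by omega), if_neg (by omega)]
      by_cases hb1 : b = 1
      · subst hb1
        exact finrank_T1 hq (by omega) htn _ (fun l => rfl)
      · by_cases hbt : b ≤ t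
        · exact finrank_T4 hq htn b (by omega) _ (fun l => rfl)
        · exact finrank_T2 hq (by omega) htn b (by omega) _ (fun l => rfl)
  · by_cases hb : b = n
    · subst hb
      rw [if_pos ⟨rfl, by omega⟩, if_pos ⟨rfl, by omega⟩]
      exact finrank_T6 hq ht htn _ (fun l => rfl)
    · rw [if_neg (by omega)]
      by_cases hbt : b ≤ t
      · rw [if_neg (by omega)]
        exact finrank_T7 hq htn b (by omega) _ (fun l => rfl)
      · rw [if_pos ⟨rfl, by omega⟩]
        exact finrank_T5 hq ht htn b (by omega) _ (fun l => rfl)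
  · by_cases hb : b = n
    · subst hb
      rw [if_pos ⟨rfl, by omega⟩, if_neg (by omega)]
      exact finrank_T10 hq htn a (by omega) _ (fun l => rfl)
    · rw [if_neg (by omega), if_neg (by omega)]
      exact finrank_T9 hq htn a b (by omega) (by omega) _ (fun l => rfl)
  · rw [if_neg (by omega), if_neg (by omega)]
    exact finrank_T8 hq (by omega) htn a (by omega) _ (fun l => rfl)

lemma sum_dGL (ht : 2 ≤ t) (htn : t + 2 ≤ n) :
    ∑ x ∈ TGL n t, dGL n t x = 4 * n - 2 + (t - 1) * (n - 1 - t) := by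
  unfold TGL
  rw [Finset.sum_union, Finset.sum_union, Finset.sum_union]
  · rw [Finset.sum_product, Finset.sum_product, Finset.sum_product, Finset.sum_product]
    simp only [Finset.sum_singleton]
    -- first block
    have e1 : ∑ b ∈ Finset.Ico 1 (n + 1), dGL n t (0, b) = n + 1 := by
      unfold dGL
      rw [Finset.sum_Ico_succ_top (by omega)]
      have h : ∀ b ∈ Finset.Ico 1 n,
          (1 + (if b = n ∧ 0 ≤ t then 1 else 0) + (if 0 = 1 ∧ t < b then 1 else 0)) = 1 := by
        intro b hb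
        rw [Finset.mem_Ico] at hb
        rw [if_neg (by omega), if_neg (by omega)]
      rw [Finset.sum_congr rfl h, if_pos ⟨rfl, by omega⟩, if_neg (by omega)]
      simp only [Finset.sum_const, Nat.card_Ico, smul_eq_mul]
      omega
    -- second block
    have e2 : ∑ b ∈ Finset.Ico 2 (n + 1), dGL n t (1, b) = 2 * n - t := by
      unfold dGL
      rw [Finset.sum_Ico_succ_top (by omega),
        ← Finset.sum_Ico_consecutive _ (show 2 ≤ t + 1 by omega) (show t + 1 ≤ n by omega)]
      have h : ∀ b ∈ Finset.Ico 2 (t + 1),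
          (1 + (if b = n ∧ 1 ≤ t then 1 else 0) + (if 1 = 1 ∧ t < b then 1 else 0)) = 1 := by
        intro b hb
        rw [Finset.mem_Ico] at hb
        rw [if_neg (by omega), if_neg (by omega)]
      have h' : ∀ b ∈ Finset.Ico (t + 1) n,
          (1 + (if b = n ∧ 1 ≤ t then 1 else 0) + (if 1 = 1 ∧ t < b then 1 else 0)) = 2 := by
        intro b hb
        rw [Finset.mem_Ico] at hb
        rw [if_neg (by omega), if_pos ⟨rfl, by omega⟩]
      rw [Finset.sum_congr rfl h, Finset.sum_congr rfl h', if_pos ⟨rfl, by omega⟩,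
        if_pos ⟨rfl, by omega⟩]
      simp only [Finset.sum_const, Nat.card_Ico, smul_eq_mul]
      omega
    -- third block
    have e3 : ∑ a ∈ Finset.Ico 2 (t + 1), ∑ b ∈ Finset.Ico (t + 1) (n + 1), dGL n t (a, b) =
        (t - 1) * (n - t + 1) := by
      have h : ∀ a ∈ Finset.Ico 2 (t + 1), ∑ b ∈ Finset.Ico (t + 1) (n + 1), dGL n t (a, b) =
          n - t + 1 := by
        intro a ha
        unfold dGL
        rw [Finset.mem_Ico] at ha
        rw [Finset.sum_Ico_succ_top (by omega)]
        have h' : ∀ b ∈ Finset.Ico (t + 1) n,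
            (1 + (if b = n ∧ a ≤ t then 1 else 0) + (if a = 1 ∧ t < b then 1 else 0)) = 1 := by
          intro b hb
          rw [Finset.mem_Ico] at hb
          rw [if_neg (by omega), if_neg (by omega)]
        rw [Finset.sum_congr rfl h', if_pos ⟨rfl, by omega⟩, if_neg (by omega)]
        simp only [Finset.sum_const, Nat.card_Ico, smul_eq_mul]
        omega
      rw [Finset.sum_congr rfl h]
      simp only [Finset.sum_const, Nat.card_Ico, smul_eq_mul]
      congr 1
    -- fourth block
    have e4 : ∑ a ∈ Finset.Ico (t + 1) n, dGL n t (a, n) = n - 1 - t := by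
      unfold dGL
      have h : ∀ a ∈ Finset.Ico (t + 1) n,
          (1 + (if n = n ∧ a ≤ t then 1 else 0) + (if a = 1 ∧ t < n then 1 else 0)) = 1 := by
        intro a ha
        rw [Finset.mem_Ico] at ha
        rw [if_neg (by omega), if_neg (by omega)]
      rw [Finset.sum_congr rfl h]
      simp only [Finset.sum_const, Nat.card_Ico, smul_eq_mul]
      omega
    rw [e1, e2, e3, e4]
    have h5 : (t - 1) * (n - t + 1) = (t - 1) * (n - 1 - t) + 2 * (t - 1) := by
      have : n - t + 1 = (n - 1 - t) + 2 := by omega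
      rw [this, mul_add, mul_comm (t - 1) 2]
    rw [h5]
    omega
  · rw [Finset.disjoint_left]
    intro x h1 h2
    simp only [Finset.mem_product, Finset.mem_singleton, Finset.mem_Ico] at h1 h2
    omega
  · rw [Finset.disjoint_left]
    intro x h1 h2
    simp only [Finset.mem_product, Finset.mem_singleton, Finset.mem_Ico] at h1 h2
    omega
  · rw [Finset.disjoint_left]
    intro x h1 h2
    simp only [Finset.mem_union, Finset.mem_product, Finset.mem_singleton, Finset.mem_Ico] at h1 h2
    omega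

end Groth.Agent.Lib.Helper15.HilbR
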