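import Mathlib
import Groth.Agent.Lib.Helper15.HilbR7

/-!
# The ideal `x_0 (x_0, …, x_{n-1}) + x_1 (x_1, …, x_{n-2})`: the degree zero part of `T(I)`
(helper15)
-/

set_option backward.isDefEq.respectTransparency.types false
set_option autoImplicit false
set_option linter.unusedSectionVars false
set_option linter.style.haveILetI false

universe u

namespace Groth.Agent.Lib.Helper15.HilbR

open MvPolynomial W4c1hilbpn Groth.Agent.Lib.Helper8.Hilb Module
open Groth.Agent.Lib.Helper15.HilbG Groth.Agent.Lib.Helper15.HilbB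
open Groth.Agent.Lib.Helper15.HilbQ (v2 sum_v2)

variable {k : Type u} [Field k] {n q t : ℕ}

/-- `e_0 + q e_n - q e_1 - e_m` -/
def w12 (n q m : ℕ) : Fin (n + 1) → ℤ :=
  fun l => (if l.val = 0 then 1 else 0) + (if l.val = n then (q : ℤ) else 0) -
    (if l.val = 1 then (q : ℤ) else 0) - (if l.val = m then 1 else 0)

/-- `q e_1 + (2 - q) e_n - e_0 - e_{n-1}` -/
def wX (n q : ℕ) : Fin (n + 1) → ℤ :=
  fun l => (if l.val = 1 then (q : ℤ) else 0) + (if l.val = n then 2 - (q : ℤ) else 0) -
    (if l.val = 0 then 1 else 0) - (if l.val = n - 1 then 1 else 0)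

lemma sum_w12 (hn : 1 ≤ n) {m : ℕ} (hm : m ≤ n) : ∑ l, w12 n q m l = 0 := by
  simp only [w12, Finset.sum_sub_distrib, Finset.sum_add_distrib]
  rw [sum_ite_val (by omega), sum_ite_val le_rfl, sum_ite_val hn, sum_ite_val hm]
  ring

lemma sum_wX (hn : 1 ≤ n) : ∑ l, wX n q l = 0 := by
  simp only [wX, Finset.sum_sub_distrib, Finset.sum_add_distrib]
  rw [sum_ite_val hn, sum_ite_val le_rfl, sum_ite_val (Nat.zero_le n), sum_ite_val (by omega)]
  ring

lemma finrank_SP (hq : 1 ≤ q) (ht : 1 ≤ t) (htn : t + 2 ≤ n) (m : ℕ)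
    (hm : m ∈ Finset.Ico 1 (t + 1)) :
    finrank k ↥(AG (k := k) (dat k n q t) (w12 n q m)) = 1 := by
  rw [Finset.mem_Ico] at hm
  by_cases h1 : m = 1
  · subst h1
    exact finrank_T11 hq ht htn _ (fun l => by simp only [w12]; omega)
  · exact finrank_T12 hq htn m (by omega) _ (fun l => rfl)

lemma v2_injOn : Set.InjOn (fun x : ℕ × ℕ => v2 n x.1 x.2) (TGL n t : Set (ℕ × ℕ)) := by
  intro x hx y hy hxy
  have hx' := (mem_TGL _).1 hx
  have hy' := (mem_TGL _).1 hy
  unfold CondGL at hx' hy'
  have h1 := congrFun hxy ⟨x.1, by omega⟩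
  have h2 := congrFun hxy ⟨x.2, by omega⟩
  simp only [v2, if_true] at h1 h2
  apply Prod.ext <;> omega

lemma w12_injOn (hn : 2 ≤ n) (htn : t + 2 ≤ n) :
    Set.InjOn (w12 n q) (Finset.Ico 1 (t + 1) : Set ℕ) := by
  intro x hx y hy hxy
  have hx' := Finset.mem_Ico.1 hx
  have hy' := Finset.mem_Ico.1 hy
  have h1 := congrFun hxy ⟨x, by omega⟩
  have h2 := congrFun hxy ⟨y, by omega⟩
  simp only [w12, if_true] at h1 h2
  omega

theorem finrank_deg_zero_S13448 (hn : 4 ≤ n) :
    finrank k ↥(⨆ α : {α : Fin (n + 1) → ℤ // ∑ i, α i = 0}, tPiece (tbIdeal k n 1 (n - 2)) α.1) =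
      6 * n - 6 := by
  have ht : 2 ≤ n - 2 := by omega
  have htn : n - 2 + 2 ≤ n := by omega
  rw [finrank_iSup_tPiece_gens (dat k n 1 (n - 2)) (isMonomial_tbIdeal k n 1 (n - 2))
    (fun α => ∑ i, α i = 0)
    (((TGL n (n - 2)).image (fun x => v2 n x.1 x.2) ∪
      (Finset.Ico 1 (n - 2 + 1)).image (w12 n 1)) ∪ {wX n 1})]
  · rw [Finset.sum_union, Finset.sum_union, Finset.sum_image v2_injOn,
      Finset.sum_image (w12_injOn (by omega) htn), Finset.sum_singleton,
      Finset.sum_congr rfl (finrank_GL le_rfl ht htn),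
      Finset.sum_congr rfl (finrank_SP le_rfl (by omega) htn), sum_dGL ht htn,
      finrank_X1 (by omega) (by omega) _ (fun l => by simp only [wX]; push_cast; omega)]
    · simp only [Finset.sum_const, Nat.card_Ico, smul_eq_mul]
      have : n - 1 - (n - 2) = 1 := by omega
      rw [this]
      omega
    · -- first family against the second
      rw [Finset.disjoint_left]
      intro α h1 h2
      obtain ⟨x, hx, rfl⟩ := Finset.mem_image.1 h1
      obtain ⟨y, hy, hxy⟩ := Finset.mem_image.1 h2
      have hx' := (mem_TGL _).1 hx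
      have hy' := Finset.mem_Ico.1 hy
      unfold CondGL at hx'
      have h3 := congrFun hxy ⟨0, by omega⟩
      have h4 := congrFun hxy ⟨1, by omega⟩
      simp only [v2, w12, if_true] at h3 h4
      omega
    · -- the exceptional multidegree
      rw [Finset.disjoint_singleton_right]
      intro h
      rcases Finset.mem_union.1 h with h | h
      · obtain ⟨x, hx, hxy⟩ := Finset.mem_image.1 h
        have hx' := (mem_TGL _).1 hx
        unfold CondGL at hx'
        have h3 := congrFun hxy ⟨0, by omega⟩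
        have h4 := congrFun hxy ⟨n - 1, by omega⟩
        have h5 := congrFun hxy ⟨n, by omega⟩
        simp only [v2, wX, if_true] at h3 h4 h5
        omega
      · obtain ⟨y, hy, hxy⟩ := Finset.mem_image.1 h
        have hy' := Finset.mem_Ico.1 hy
        have h3 := congrFun hxy ⟨0, by omega⟩
        simp only [w12, wX, if_true] at h3
        omega
  · intro α hα
    rcases Finset.mem_union.1 hα with h | h
    · rcases Finset.mem_union.1 h with h | h
      · obtain ⟨x, hx, rfl⟩ := Finset.mem_image.1 h
        have hx' := (mem_TGL _).1 hx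
        unfold CondGL at hx'
        exact sum_v2 (by omega) (by omega)
      · obtain ⟨x, hx, rfl⟩ := Finset.mem_image.1 h
        have hx' := Finset.mem_Ico.1 hx
        exact sum_w12 (by omega) (by omega)
    · rw [Finset.mem_singleton] at h
      rw [h]
      exact sum_wX (by omega)
  · intro α hα hns a ha
    by_contra hne
    apply hns
    rcases vanish le_rfl (by omega) htn α hα a ha hne with h | h | h
    · rcases h with ⟨a', b', hab, hα'⟩ | ⟨s, δ, hs, -⟩ | h11 | ⟨m, hm, hα'⟩
      · apply Finset.mem_union_left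
        apply Finset.mem_union_left
        rw [Finset.mem_image]
        exact ⟨(a', b'), (mem_TGL _).2 hab, (funext hα').symm⟩
      · omega
      · apply Finset.mem_union_left
        apply Finset.mem_union_right
        rw [Finset.mem_image]
        refine ⟨1, Finset.mem_Ico.2 (by omega), ?_⟩
        funext l
        rw [h11]
        simp only [w12]
        omega
      · apply Finset.mem_union_left
        apply Finset.mem_union_right
        rw [Finset.mem_image]
        exact ⟨m, Finset.mem_Ico.2 (by omega), (funext hα').symm⟩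
    · apply Finset.mem_union_right
      rw [Finset.mem_singleton]
      funext l
      rw [h.2.2]
      rfl
    · have := h.1
      omega

theorem finrank_S13448 (hn : 4 ≤ n) :
    finrank k ↥(⨆ α : {α : Fin (n + 1) → ℤ // ∑ i, α i = 0},
      tPiece (Ideal.span ({f : MvPolynomial (Fin (n + 1)) k | ∃ i : Fin (n + 1), i.val + 1 ≤ n ∧
        f = X 0 * X i} ∪ {f : MvPolynomial (Fin (n + 1)) k | ∃ i : Fin (n + 1), 1 ≤ i.val ∧
        i.val ≤ n - 2 ∧ f = X 1 * X i})) α.1) = 6 * n - 6 := by
  have h := span_eq (k := k) (n := n) (q := 1) (t := n - 2) (by omega)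
  simp only [pow_one] at h
  rw [h]
  exact finrank_deg_zero_S13448 hn

end Groth.Agent.Lib.Helper15.HilbR
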