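import Mathlib
import Groth.Agent.Lib.Helper15.HilbR8

/-!
# The two-block ideals: the family `-s e_1 + δ` as a finite set (helper15)
-/

set_option backward.isDefEq.respectTransparency.types false
set_option autoImplicit false
set_option linter.unusedSectionVars false
set_option linter.style.haveILetI false

universe u

namespace Groth.Agent.Lib.Helper15.HilbR

open MvPolynomial W4c1hilbpn Groth.Agent.Lib.Helper8.Hilb Module
open Groth.Agent.Lib.Helper15.HilbG Groth.Agent.Lib.Helper15.HilbB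

variable {k : Type u} [Field k] {n q t : ℕ}

/-- the coordinates `2, …, n` -/
def supp2 (n : ℕ) : Finset (Fin (n + 1)) := Finset.univ.filter (fun l => 2 ≤ l.val)

lemma card_supp2 (hn : 1 ≤ n) : (supp2 n).card = n - 1 := by
  have h3 := Fin.card_filter_val_lt (n := n + 1) (m := 2)
  rw [min_eq_right (by omega)] at h3
  have h4 := Finset.card_filter_add_card_filter_not (s := (Finset.univ : Finset (Fin (n + 1))))
    (fun i : Fin (n + 1) => (i : ℕ) < 2)
  rw [h3, Finset.card_univ, Fintype.card_fin] at h4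
  have h5 : supp2 n = Finset.univ.filter (fun i : Fin (n + 1) => ¬ (i : ℕ) < 2) := by
    ext i
    simp only [supp2, Finset.mem_filter, Finset.mem_univ, true_and]
    omega
  rw [h5]
  omega

/-- exponents of degree `s` in the variables `x_2, …, x_n` -/
noncomputable def DII (n s : ℕ) : Finset (Fin (n + 1) →₀ ℕ) := (supp2 n).finsuppAntidiag s

lemma card_DII (hn : 1 ≤ n) (s : ℕ) : (DII n s).card = (n - 1 + s - 1).choose s := by
  unfold DII
  rw [Finset.card_finsuppAntidiag_nat_eq_choose, card_supp2 hn]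

lemma DII_zero {s : ℕ} {d : Fin (n + 1) →₀ ℕ} (hd : d ∈ DII n s) (l : Fin (n + 1))
    (hl : l.val ≤ 1) : d l = 0 := by
  have h := (Finset.mem_finsuppAntidiag.1 hd).2
  by_contra hne
  have := h (Finsupp.mem_support_iff.2 hne)
  simp only [supp2, Finset.mem_filter, Finset.mem_univ, true_and] at this
  omega

lemma DII_sum {s : ℕ} {d : Fin (n + 1) →₀ ℕ} (hd : d ∈ DII n s) :
    ∑ l, (d l : ℤ) = (s : ℤ) := by
  have h := (Finset.mem_finsuppAntidiag.1 hd).1
  rw [← h]
  push_cast
  symm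
  apply Finset.sum_subset (Finset.subset_univ _)
  intro l _ hl
  have : d l = 0 := by
    apply DII_zero hd
    simp only [supp2, Finset.mem_filter, Finset.mem_univ, true_and] at hl
    omega
  rw [this]
  rfl

/-- `δ - s e_1` -/
def wII (n : ℕ) (x : Σ _ : ℕ, (Fin (n + 1) →₀ ℕ)) : Fin (n + 1) → ℤ :=
  fun l => (x.2 l : ℤ) - (if l.val = 1 then (x.1 : ℤ) else 0)

/-- the index set of the family -/
noncomputable def TII (n q : ℕ) : Finset (Σ _ : ℕ, (Fin (n + 1) →₀ ℕ)) :=
  (Finset.Icc 2 q).sigma (fun s => DII n s)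

lemma mem_TII (x : Σ _ : ℕ, (Fin (n + 1) →₀ ℕ)) :
    x ∈ TII n q ↔ (2 ≤ x.1 ∧ x.1 ≤ q) ∧ x.2 ∈ DII n x.1 := by
  unfold TII
  rw [Finset.mem_sigma, Finset.mem_Icc]

lemma wII_injOn (hn : 1 ≤ n) : Set.InjOn (wII n) (TII n q : Set (Σ _ : ℕ, (Fin (n + 1) →₀ ℕ))) := by
  rintro ⟨s, d⟩ hx ⟨s', d'⟩ hy hxy
  have hx' := (mem_TII _).1 hx
  have hy' := (mem_TII _).1 hy
  simp only at hx' hy'
  have h1 := congrFun hxy ⟨1, by omega⟩
  simp only [wII, if_true] at h1
  rw [DII_zero hx'.2 _ (by simp), DII_zero hy'.2 _ (by simp)] at h1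
  have hs : s = s' := by
    push_cast at h1
    omega
  subst hs
  have hd : d = d' := by
    ext l
    have h2 := congrFun hxy l
    simp only [wII] at h2
    omega
  rw [hd]

lemma sum_wII (hn : 1 ≤ n) (x : Σ _ : ℕ, (Fin (n + 1) →₀ ℕ)) (hx : x ∈ TII n q) :
    ∑ l, wII n x l = 0 := by
  have hx' := (mem_TII _).1 hx
  simp only [wII, Finset.sum_sub_distrib]
  rw [DII_sum hx'.2, sum_ite_val hn]
  ring

lemma finrank_II (ht : 1 ≤ t) (htn : t + 2 ≤ n) (x : Σ _ : ℕ, (Fin (n + 1) →₀ ℕ))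
    (hx : x ∈ TII n q) : finrank k ↥(AG (k := k) (dat k n q t) (wII n x)) = 1 := by
  have hx' := (mem_TII _).1 hx
  exact finrank_TII ht htn x.1 hx'.1 (fun l => (x.2 l : ℤ)) (fun l => by positivity)
    (fun l hl => by rw [DII_zero hx'.2 l hl]; rfl) _ (fun l => rfl)

lemma mem_image_wII {α : Fin (n + 1) → ℤ} (s : ℕ) (δ : Fin (n + 1) → ℤ) (hs : 2 ≤ s ∧ s ≤ q)
    (hδ0 : ∀ l, 0 ≤ δ l) (hδ1 : ∀ l : Fin (n + 1), l.val ≤ 1 → δ l = 0)
    (hδs : ∑ l, δ l = (s : ℤ))
    (hα : ∀ l : Fin (n + 1), α l = δ l - (if l.val = 1 then (s : ℤ) else 0)) :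
    α ∈ (TII n q).image (wII n) := by
  rw [Finset.mem_image]
  have hcast : ∀ l, ((toN δ l : ℕ) : ℤ) = δ l := by
    intro l
    rw [toN_apply]
    exact Int.toNat_of_nonneg (hδ0 l)
  refine ⟨⟨s, toN δ⟩, ?_, ?_⟩
  · rw [mem_TII]
    refine ⟨hs, ?_⟩
    unfold DII
    rw [Finset.mem_finsuppAntidiag]
    constructor
    · have h1 : (((supp2 n).sum (toN δ) : ℕ) : ℤ) = (s : ℤ) := by
        push_cast
        rw [← hδs]
        rw [Finset.sum_congr rfl (fun l _ => hcast l)]
        apply Finset.sum_subset (Finset.subset_univ _)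
        intro l _ hl
        apply hδ1
        simp only [supp2, Finset.mem_filter, Finset.mem_univ, true_and] at hl
        omega
      exact_mod_cast h1
    · intro l hl
      rw [Finsupp.mem_support_iff] at hl
      simp only [supp2, Finset.mem_filter, Finset.mem_univ, true_and]
      by_contra hcon
      apply hl
      have := hδ1 l (by omega)
      rw [toN_apply, this]
      rfl
  · funext l
    simp only [wII]
    rw [hcast, hα]

lemma exists_mem_TII {α : Fin (n + 1) → ℤ} (s : ℕ) (δ : Fin (n + 1) → ℤ) (hs : 2 ≤ s ∧ s ≤ q)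
    (hδ0 : ∀ l, 0 ≤ δ l) (hδ1 : ∀ l : Fin (n + 1), l.val ≤ 1 → δ l = 0)
    (hδs : ∑ l, δ l = (s : ℤ))
    (hα : ∀ l : Fin (n + 1), α l = δ l - (if l.val = 1 then (s : ℤ) else 0)) :
    ∃ x ∈ TII n q, x.1 = s ∧ (∀ l, ((x.2 l : ℕ) : ℤ) = δ l) ∧ wII n x = α := by
  have hcast : ∀ l, ((toN δ l : ℕ) : ℤ) = δ l := by
    intro l
    rw [toN_apply]
    exact Int.toNat_of_nonneg (hδ0 l)
  refine ⟨⟨s, toN δ⟩, ?_, rfl, hcast, ?_⟩
  · rw [mem_TII]
    refine ⟨hs, ?_⟩
    unfold DII
    rw [Finset.mem_finsuppAntidiag]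
    constructor
    · have h1 : (((supp2 n).sum (toN δ) : ℕ) : ℤ) = (s : ℤ) := by
        push_cast
        rw [← hδs]
        rw [Finset.sum_congr rfl (fun l _ => hcast l)]
        apply Finset.sum_subset (Finset.subset_univ _)
        intro l _ hl
        apply hδ1
        simp only [supp2, Finset.mem_filter, Finset.mem_univ, true_and] at hl
        omega
      exact_mod_cast h1
    · intro l hl
      rw [Finsupp.mem_support_iff] at hl
      simp only [supp2, Finset.mem_filter, Finset.mem_univ, true_and]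
      by_contra hcon
      apply hl
      have := hδ1 l (by omega)
      rw [toN_apply, this]
      rfl
  · funext l
    simp only [wII]
    rw [hcast, hα]

lemma card_TII (hn : 2 ≤ n) (hq : 1 ≤ q) :
    (TII n q).card + n = Nat.choose (n + q - 1) (n - 1) := by
  unfold TII
  rw [Finset.card_sigma]
  have h1 : ∀ s ∈ Finset.Icc 2 q, (DII n s).card = (s + (n - 2)).choose (n - 2) := by
    intro s _
    rw [card_DII (by omega)]
    have : n - 1 + s - 1 = s + (n - 2) := by omega
    rw [this, Nat.choose_symm_add]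
  rw [Finset.sum_congr rfl h1]
  have h2 := Nat.sum_range_add_choose q (n - 2)
  obtain ⟨q', rfl⟩ : ∃ q', q = q' + 1 := ⟨q - 1, by omega⟩
  rw [Finset.sum_range_succ', Finset.sum_range_succ'] at h2
  have h3 : Finset.Icc 2 (q' + 1) = Finset.Ico 2 (q' + 2) := by
    ext s
    simp only [Finset.mem_Icc, Finset.mem_Ico]
    omega
  rw [h3, Finset.sum_Ico_eq_sum_range]
  have h4 : q' + 2 - 2 = q' := by omega
  rw [h4]
  have h5 : ∀ i ∈ Finset.range q', (2 + i + (n - 2)).choose (n - 2) =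
      (i + 1 + 1 + (n - 2)).choose (n - 2) := by
    intro i _
    congr 1
    omega
  rw [Finset.sum_congr rfl h5]
  have h6 : (0 + 1 + (n - 2)).choose (n - 2) = n - 1 := by
    have : 0 + 1 + (n - 2) = (n - 2) + 1 := by omega
    rw [this, Nat.choose_succ_self_right]
    omega
  have h7 : (0 + (n - 2)).choose (n - 2) = 1 := by
    rw [zero_add, Nat.choose_self]
  rw [h6, h7] at h2
  have h8 : q' + 1 + (n - 2) + 1 = n + (q' + 1) - 1 := by omega
  have h9 : n - 2 + 1 = n - 1 := by omega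
  rw [h8, h9] at h2
  omega

end Groth.Agent.Lib.Helper15.HilbR
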