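import Mathlib
import Groth.Agent.Lib.Helper15.HilbR9

/-!
# The two-block ideals `x_0 (x_0, …, x_{n-1}) + x_1^q (x_1, …, x_{n-r-1})` in the generic range:
the degree zero part of `T(I)` (helper15)
-/

set_option backward.isDefEq.respectTransparency.types false
set_option autoImplicit false
set_option linter.unusedSectionVars false
set_option linter.style.haveILetI false

universe u

namespace Groth.Agent.Lib.Helper15.HilbR

open MvPolynomial W4c1hilbpn Groth.Agent.Lib.Helper8.Hilb Module
open Groth.Agent.Lib.Helper15.HilbG Groth.Agent.Lib.Helper15.HilbB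
open Groth.Agent.Lib.Helper15.HilbQ (v2 sum_v2)

variable {k : Type u} [Field k] {n q t : ℕ}

theorem finrank_deg_zero_generic (hq : 1 ≤ q) (ht : 2 ≤ t) (htn : t + 2 ≤ n)
    (hcase : t + 3 ≤ n ∨ 3 ≤ q) :
    finrank k ↥(⨆ α : {α : Fin (n + 1) → ℤ // ∑ i, α i = 0}, tPiece (tbIdeal k n q t) α.1) =
      4 * n - 2 + (t - 1) * (n - 1 - t) + t + (TII n q).card := by
  rw [finrank_iSup_tPiece_gens (dat k n q t) (isMonomial_tbIdeal k n q t)
    (fun α => ∑ i, α i = 0)
    (((TGL n t).image (fun x => v2 n x.1 x.2) ∪
      (Finset.Ico 1 (t + 1)).image (w12 n q)) ∪ (TII n q).image (wII n))]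
  · rw [Finset.sum_union, Finset.sum_union, Finset.sum_image v2_injOn,
      Finset.sum_image (w12_injOn (by omega) htn), Finset.sum_image (wII_injOn (by omega)),
      Finset.sum_congr rfl (finrank_GL hq ht htn),
      Finset.sum_congr rfl (finrank_SP hq (by omega) htn),
      Finset.sum_congr rfl (finrank_II (by omega) htn), sum_dGL ht htn]
    · simp only [Finset.sum_const, Nat.card_Ico, smul_eq_mul, mul_one]
      omega
    · -- first family against the second
      rw [Finset.disjoint_left]
      intro α h1 h2
      obtain ⟨x, hx, rfl⟩ := Finset.mem_image.1 h1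
      obtain ⟨y, hy, hxy⟩ := Finset.mem_image.1 h2
      have hx' := (mem_TGL _).1 hx
      have hy' := Finset.mem_Ico.1 hy
      unfold CondGL at hx'
      have h3 := congrFun hxy ⟨0, by omega⟩
      simp only [v2, w12, if_true] at h3
      omega
    · -- the third family
      rw [Finset.disjoint_left]
      intro α h1 h2
      obtain ⟨y, hy, hxy⟩ := Finset.mem_image.1 h2
      have hy' := (mem_TII _).1 hy
      have hy0 := DII_zero hy'.2 ⟨0, by omega⟩ (by simp)
      have hy1 := DII_zero hy'.2 ⟨1, by omega⟩ (by simp)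
      rcases Finset.mem_union.1 h1 with h | h
      · obtain ⟨x, hx, rfl⟩ := Finset.mem_image.1 h
        have hx' := (mem_TGL _).1 hx
        unfold CondGL at hx'
        have h3 := congrFun hxy ⟨1, by omega⟩
        simp only [v2, wII, if_true] at h3
        rw [hy1] at h3
        push_cast at h3
        omega
      · obtain ⟨x, hx, rfl⟩ := Finset.mem_image.1 h
        have hx' := Finset.mem_Ico.1 hx
        have h3 := congrFun hxy ⟨0, by omega⟩
        simp only [w12, wII, if_true] at h3
        rw [hy0] at h3
        push_cast at h3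
        omega
  · intro α hα
    rcases Finset.mem_union.1 hα with h | h
    · rcases Finset.mem_union.1 h with h | h
      · obtain ⟨x, hx, rfl⟩ := Finset.mem_image.1 h
        have hx' := (mem_TGL _).1 hx
        unfold CondGL at hx'
        exact sum_v2 (by omega) (by omega)
      · obtain ⟨x, hx, rfl⟩ := Finset.mem_image.1 h
        have hx' := Finset.mem_Ico.1 hx
        exact sum_w12 (by omega) (by omega)
    · obtain ⟨x, hx, rfl⟩ := Finset.mem_image.1 h
      exact sum_wII (by omega) x hx
  · intro α hα hns a ha
    by_contra hne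
    apply hns
    rcases vanish hq (by omega) htn α hα a ha hne with h | h | h
    · rcases h with ⟨a', b', hab, hα'⟩ | ⟨s, δ, hs, hδ0, hδ1, hδs, hα'⟩ | h11 | ⟨m, hm, hα'⟩
      · apply Finset.mem_union_left
        apply Finset.mem_union_left
        rw [Finset.mem_image]
        exact ⟨(a', b'), (mem_TGL _).2 hab, (funext hα').symm⟩
      · apply Finset.mem_union_right
        exact mem_image_wII s δ hs hδ0 hδ1 hδs hα'
      · apply Finset.mem_union_left
        apply Finset.mem_union_right
        rw [Finset.mem_image]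
        refine ⟨1, Finset.mem_Ico.2 (by omega), ?_⟩
        funext l
        rw [h11]
        simp only [w12]
        omega
      · apply Finset.mem_union_left
        apply Finset.mem_union_right
        rw [Finset.mem_image]
        exact ⟨m, Finset.mem_Ico.2 (by omega), (funext hα').symm⟩
    · have h1 := h.1
      have h2 := h.2.1
      omega
    · have := h.1
      omega

theorem finrank_S13447 (n q r : ℕ) (hn : 4 ≤ n) (hq : 1 ≤ q) (hr : r + 3 ≤ n)
    (hcase : 2 ≤ r ∨ (r = 1 ∧ 3 ≤ q)) :
    finrank k ↥(⨆ α : {α : Fin (n + 1) → ℤ // ∑ i, α i = 0},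
      tPiece (Ideal.span ({f : MvPolynomial (Fin (n + 1)) k | ∃ i : Fin (n + 1), i.val + 1 ≤ n ∧
        f = X 0 * X i} ∪ {f : MvPolynomial (Fin (n + 1)) k | ∃ i : Fin (n + 1), 1 ≤ i.val ∧
        i.val ≤ n - r - 1 ∧ f = X 1 ^ q * X i})) α.1) =
      3 * n - 1 + (n - r - 2) * (r + 1) + Nat.choose (n + q - 1) (n - 1) := by
  rw [span_eq (k := k) (n := n) (q := q) (t := n - r - 1) (by omega),
    finrank_deg_zero_generic hq (by omega) (by omega) (by omega)]
  have h1 := card_TII (n := n) (q := q) (by omega) hq
  have h2 : n - r - 1 - 1 = n - r - 2 := by omega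
  have h3 : n - 1 - (n - r - 1) = r := by omega
  have h4 : (n - r - 2) * (r + 1) = (n - r - 2) * r + (n - r - 2) := by ring
  rw [h2, h3, h4]
  omega

end Groth.Agent.Lib.Helper15.HilbR
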