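import Mathlib
import Groth.Agent.Lib.Helper15.HilbS3
import Groth.Agent.Lib.Helper15.HilbD5
import Groth.Agent.Lib.Helper15.HilbD2

/-!
# The sign pieces of `T(I)` versus the slices of `I` (helper15)
-/

set_option backward.isDefEq.respectTransparency.types false
set_option autoImplicit false
set_option linter.unusedSectionVars false
set_option linter.style.haveILetI false

universe u

namespace Groth.Agent.Lib.Helper15.HilbT

open MvPolynomial W4c1hilbpn Groth.Agent.Lib.Helper8.Hilb Module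
open Groth.Agent.Lib.Helper15.HilbS

lemma sum_tsub_antitone (f : ℕ → ℕ) (hf : Antitone f) (n : ℕ) :
    ∑ b ∈ Finset.range n, (f b - f (b + 1)) = f 0 - f n := by
  induction n with
  | zero => simp
  | succ n ih =>
    rw [Finset.sum_range_succ, ih]
    have h1 : f (n + 1) ≤ f n := hf (Nat.le_succ n)
    have h2 : f n ≤ f 0 := hf (Nat.zero_le n)
    omega

variable {k : Type u} [Field k] {I : Ideal (MvPolynomial (Fin 3) k)} (e : Equiv.Perm (Fin 3))
  (hI : IsMonomial I) [Module.Finite k (MvPolynomial (Fin 3) k ⧸ I)]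

include hI in
lemma iSup_fix_eq (a1 a2 : ℕ) :
    (⨆ α : {α : Fin 3 → ℤ // α (e 0) = (a1 : ℤ) ∧ α (e 1) = (a2 : ℤ)}, tPiece I α.1) =
      ⨆ α : {α : Fin 3 → ℤ // α (e 0) = (a1 : ℤ) ∧ α (e 1) = (a2 : ℤ) ∧ α (e 2) < 0},
        tPiece I α.1 := by
  apply le_antisymm
  · apply iSup_le
    rintro ⟨α, h0, h1⟩
    by_cases hc : α (e 2) < 0
    · exact le_iSup (fun α : {α : Fin 3 → ℤ // α (e 0) = (a1 : ℤ) ∧ α (e 1) = (a2 : ℤ) ∧
        α (e 2) < 0} => tPiece I α.1) ⟨α, h0, h1, hc⟩
    · have : tPiece I α = ⊥ := by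
        apply tPiece_eq_bot_of_nonneg hI
        rw [forall_fin3 e]
        exact ⟨by omega, by omega, by omega⟩
      rw [this]
      exact bot_le
  · apply iSup_le
    rintro ⟨α, h0, h1, _⟩
    exact le_iSup (fun α : {α : Fin 3 → ℤ // α (e 0) = (a1 : ℤ) ∧ α (e 1) = (a2 : ℤ)} =>
      tPiece I α.1) ⟨α, h0, h1⟩

include hI in
lemma finrank_fix_le (a1 a2 : ℕ) :
    finrank k ↥(⨆ α : {α : Fin 3 → ℤ // α (e 0) = (a1 : ℤ) ∧ α (e 1) = (a2 : ℤ)},
        tPiece I α.1) ≤ ∑ a ∈ Finset.range (bnd hI), hE I e (a + a1) a2 := by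
  rw [iSup_fix_eq e hI]
  refine le_trans (finrank_ppn_le e hI a1 a2) ?_
  rw [finsum_stairTerm e hI]
  apply Finset.sum_le_sum
  intro a _
  have h1 : ∀ b ∈ Finset.range (bnd hI), stairTerm (I := I) e (a + a1, b + a2) ≤
      hE I e (a + a1) (b + a2) - hE I e (a + a1) (b + a2 + 1) := by
    intro b _
    unfold stairTerm
    have := le_max_right (hE I e (a + a1 + 1) (b + a2)) (hE I e (a + a1) (b + a2 + 1))
    simp only
    omega
  refine le_trans (Finset.sum_le_sum h1) ?_
  have h2 := sum_tsub_antitone (fun b => hE I e (a + a1) (b + a2))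
    (fun b b' hbb => hE_anti e hI le_rfl (by omega)) (bnd hI)
  simp only [zero_add] at h2
  have h3 : ∀ b ∈ Finset.range (bnd hI), hE I e (a + a1) (b + a2 + 1) =
      hE I e (a + a1) (b + 1 + a2) := by
    intro b _
    congr 1
    omega
  rw [Finset.sum_congr rfl (fun b hb => by rw [h3 b hb])]
  rw [h2]
  exact Nat.sub_le _ _

include hI in
/-- the sign piece negative exactly at `e 2` is bounded by the sums of the sizes of the slices -/
theorem finrank_sig_le (he : e 0 = 0) {N : ℕ} (hN : dbnd hI + bnd hI ≤ N) :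
    finrank k ↥(sigPiece I {e 2}) ≤
      ∑ a1 ∈ Finset.range N, ∑ a ∈ Finset.range (bnd hI), slc I (a + a1) := by
  rw [← sum_fix_pos e hI (N := N) (by omega), Finset.sum_product]
  apply Finset.sum_le_sum
  intro a1 _
  refine le_trans (Finset.sum_le_sum (fun a2 _ => finrank_fix_le e hI a1 a2)) ?_
  rw [Finset.sum_comm]
  apply le_of_eq
  apply Finset.sum_congr rfl
  intro a _
  unfold slc
  rw [finrank_sliceX_eq_sum e he hI (N := N) (by omega)]

end Groth.Agent.Lib.Helper15.HilbT
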