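import Mathlib
import Groth.Agent.Lib.Helper15.HilbS4

/-!
# Strongly stable ideals of the colength of `m^r`: the sign pieces (helper15)
-/

set_option backward.isDefEq.respectTransparency.types false
set_option autoImplicit false
set_option linter.unusedSectionVars false
set_option linter.style.haveILetI false

universe u

namespace Groth.Agent.Lib.Helper15.HilbT

open MvPolynomial W4c1hilbpn Groth.Agent.Lib.Helper8.Hilb Module
open Groth.Agent.Lib.Helper15.HilbS

variable {k : Type u} [Field k] {I : Ideal (MvPolynomial (Fin 3) k)}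
  (hS : IsStronglyStable I) [Module.Finite k (MvPolynomial (Fin 3) k ⧸ I)] {r : ℕ}
  (hd : finrank k (MvPolynomial (Fin 3) k ⧸ I) = Nat.choose (r + 2) 3)

include hS hd in
lemma ss_pow_mem : ptN 1 r 0 0 ∈ exps I := by
  by_contra hm
  have h1 := (choose_le_finrank hS.1 (r := r + 1)
    (fun γ hγ => ss_not_mem hS hm γ (by omega))).2
  have h3 : Nat.choose (r + 1 + 2) 3 = Nat.choose (r + 2) 2 + Nat.choose (r + 2) 3 :=
    Nat.choose_succ_succ' (r + 2) 2
  rw [hd, h3] at h1
  have h2 : 0 < Nat.choose (r + 2) 2 := Nat.choose_pos (by omega)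
  omega

include hS hd in
lemma slc_eq_zero {A : ℕ} (hA : r ≤ A) : slc I A = 0 := by
  rw [slc_eq hS.1]
  unfold sl
  apply Finset.sum_eq_zero
  intro b _
  rw [← Nat.le_zero, ← ptN_mem_iff 1 hS.1]
  exact ptN_mem_mono 1 (ss_pow_mem hS hd) hA (Nat.zero_le b) le_rfl

include hS hd in
lemma shifted_le (a1 : ℕ) :
    ∑ a ∈ Finset.range (bnd hS.1), slc I (a + a1) ≤ ∑ i ∈ Finset.Ico a1 r, slc I i := by
  have h1 : ∑ a ∈ Finset.range (bnd hS.1), slc I (a + a1) =
      ∑ i ∈ Finset.Ico a1 (a1 + bnd hS.1), slc I i := by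
    rw [Finset.sum_Ico_eq_sum_range]
    have : a1 + bnd hS.1 - a1 = bnd hS.1 := by omega
    rw [this]
    apply Finset.sum_congr rfl
    intro a _
    rw [add_comm]
  rw [h1]
  apply Finset.sum_le_sum_of_ne_zero
  intro i hi hne
  rw [Finset.mem_Ico] at hi ⊢
  refine ⟨hi.1, ?_⟩
  by_contra hcon
  exact hne (slc_eq_zero hS hd (by omega))

include hS hd in
lemma shifted_le_tri (a1 : ℕ) :
    ∑ a ∈ Finset.range (bnd hS.1), slc I (a + a1) ≤ tri r a1 := by
  refine le_trans (shifted_le hS hd a1) ?_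
  by_cases h : a1 ≤ r
  · exact slice_tail_le hS hd.le a1 h
  · rw [Finset.Ico_eq_empty (by omega)]
    simp

lemma sum_tri_big {N : ℕ} (hN : r ≤ N) :
    ∑ j ∈ Finset.range N, tri r j = Nat.choose (r + 3) 4 := by
  rw [← sum_tri r]
  symm
  apply Finset.sum_subset
  · intro j hj
    rw [Finset.mem_range] at hj ⊢
    omega
  · intro j _ hj
    rw [Finset.mem_range] at hj
    unfold tri
    rw [Finset.Ico_eq_empty (by omega)]
    simp

include hS hd in
theorem finrank_sig_le_choose (e : Equiv.Perm (Fin 3)) (he : e 0 = 0) :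
    finrank k ↥(sigPiece I {e 2}) ≤ Nat.choose (r + 3) 4 := by
  have h1 := finrank_sig_le e hS.1 he (N := dbnd hS.1 + bnd hS.1 + r) (by omega)
  refine le_trans h1 ?_
  rw [← sum_tri_big (r := r) (N := dbnd hS.1 + bnd hS.1 + r) (by omega)]
  exact Finset.sum_le_sum (fun a1 _ => shifted_le_tri hS hd a1)

include hS hd in
theorem eq_mPow_of_sig_eq (e : Equiv.Perm (Fin 3)) (he : e 0 = 0)
    (h : finrank k ↥(sigPiece I {e 2}) = Nat.choose (r + 3) 4) : I = mPow k 3 r := by
  have h1 := finrank_sig_le e hS.1 he (N := dbnd hS.1 + bnd hS.1 + r) (by omega)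
  have h2 := sum_tri_big (r := r) (N := dbnd hS.1 + bnd hS.1 + r) (by omega)
  have h3 : ∑ a1 ∈ Finset.range (dbnd hS.1 + bnd hS.1 + r),
      ∑ a ∈ Finset.range (bnd hS.1), slc I (a + a1) =
      ∑ j ∈ Finset.range (dbnd hS.1 + bnd hS.1 + r), tri r j := by
    apply le_antisymm
    · exact Finset.sum_le_sum (fun a1 _ => shifted_le_tri hS hd a1)
    · rw [h2, ← h]
      exact h1
  have h4 := (Finset.sum_eq_sum_iff_of_le (fun a1 _ => shifted_le_tri hS hd a1)).1 h3
  apply eq_mPow_of_tail_eq hS hd.le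
  intro j hj
  apply le_antisymm
  · exact slice_tail_le hS hd.le j hj.le
  · rw [← h4 j (Finset.mem_range.2 (by omega))]
    exact shifted_le hS hd j

end Groth.Agent.Lib.Helper15.HilbT
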