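import Mathlib
import Groth.Agent.Lib.Helper15.HilbS5

/-!
# Strongly stable ideals of the colength of `m^r`: the four sign pieces (helper15)
-/

set_option backward.isDefEq.respectTransparency.types false
set_option autoImplicit false
set_option linter.unusedSectionVars false
set_option linter.style.haveILetI false

universe u

namespace Groth.Agent.Lib.Helper15.HilbT

open MvPolynomial W4c1hilbpn Groth.Agent.Lib.Helper8.Hilb Module
open Groth.Agent.Lib.Helper15.HilbS

variable {k : Type u} [Field k] {I : Ideal (MvPolynomial (Fin 3) k)}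
  (hS : IsStronglyStable I) [Module.Finite k (MvPolynomial (Fin 3) k ⧸ I)] {r : ℕ}
  (hd : finrank k (MvPolynomial (Fin 3) k ⧸ I) = Nat.choose (r + 2) 3)

include hS hd in
theorem sig_main (i : Fin 3) (hi : i ≠ 0) :
    (finrank k ↥(sigPiece I {i}) ≤ Nat.choose (r + 3) 4 ∧
      (finrank k ↥(sigPiece I {i}) = Nat.choose (r + 3) 4 ↔ I = mPow k 3 r)) ∧
    (finrank k ↥(sigPiece I ({i}ᶜ : Set (Fin 3))) ≤ Nat.choose (r + 2) 4 ∧
      (finrank k ↥(sigPiece I ({i}ᶜ : Set (Fin 3))) = Nat.choose (r + 2) 4 ↔ I = mPow k 3 r)) := by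
  set e : Equiv.Perm (Fin 3) := Equiv.swap 2 i with he
  have he2 : e 2 = i := Equiv.swap_apply_left 2 i
  have he0 : e 0 = 0 := Equiv.swap_apply_of_ne_of_ne (by decide) (fun h => hi h.symm)
  have hle := finrank_sig_le_choose hS hd e he0
  rw [he2] at hle
  have hiff : finrank k ↥(sigPiece I {i}) = Nat.choose (r + 3) 4 ↔ I = mPow k 3 r := by
    constructor
    · intro h
      rw [← he2] at h
      exact eq_mPow_of_sig_eq hS hd e he0 h
    · intro h
      subst h
      exact finrank_sigPiece_mPow_singleton i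
  have hsing := finrank_sigPiece_singleton hS.1 i
  rw [hd] at hsing
  have hP : Nat.choose (r + 3) 4 = Nat.choose (r + 2) 3 + Nat.choose (r + 2) 4 :=
    Nat.choose_succ_succ' (r + 2) 3
  refine ⟨⟨hle, hiff⟩, by omega, ?_⟩
  rw [← hiff]
  omega

include hS hd in
theorem sig_main_all :
    (finrank k ↥(sigPiece I ({2} : Set (Fin 3))) ≤ Nat.choose (r + 3) 4 ∧
      (finrank k ↥(sigPiece I ({2} : Set (Fin 3))) = Nat.choose (r + 3) 4 ↔ I = mPow k 3 r)) ∧
    (finrank k ↥(sigPiece I ({1} : Set (Fin 3))) ≤ Nat.choose (r + 3) 4 ∧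
      (finrank k ↥(sigPiece I ({1} : Set (Fin 3))) = Nat.choose (r + 3) 4 ↔ I = mPow k 3 r)) ∧
    (finrank k ↥(sigPiece I ({0, 1} : Set (Fin 3))) ≤ Nat.choose (r + 2) 4 ∧
      (finrank k ↥(sigPiece I ({0, 1} : Set (Fin 3))) = Nat.choose (r + 2) 4 ↔
        I = mPow k 3 r)) ∧
    (finrank k ↥(sigPiece I ({0, 2} : Set (Fin 3))) ≤ Nat.choose (r + 2) 4 ∧
      (finrank k ↥(sigPiece I ({0, 2} : Set (Fin 3))) = Nat.choose (r + 2) 4 ↔
        I = mPow k 3 r)) := by
  have h2 := sig_main hS hd 2 (by decide)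
  have h1 := sig_main hS hd 1 (by decide)
  have e2 : ({2}ᶜ : Set (Fin 3)) = {0, 1} := by
    ext l
    fin_cases l <;> simp
  have e1 : ({1}ᶜ : Set (Fin 3)) = {0, 2} := by
    ext l
    fin_cases l <;> simp
  rw [e2] at h2
  rw [e1] at h1
  exact ⟨h2.1, h1.1, h2.2, h1.2⟩

end Groth.Agent.Lib.Helper15.HilbT
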