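import Mathlib
import Groth.Agent.Lib.Helper15.HilbR10

/-!
# The ideals `x_0 (x_0, …, x_{n-1}) + (x_1^{q+1})`: the pieces special to `t = 1` (helper15)
-/

set_option backward.isDefEq.respectTransparency.types false
set_option autoImplicit false
set_option linter.unusedSectionVars false
set_option linter.style.haveILetI false

universe u

namespace Groth.Agent.Lib.Helper15.HilbU

open MvPolynomial W4c1hilbpn Groth.Agent.Lib.Helper8.Hilb Module
open Groth.Agent.Lib.Helper15.HilbG Groth.Agent.Lib.Helper15.HilbB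
open Groth.Agent.Lib.Helper15.HilbQ (v2 sum_v2 inl_val_ne inr_val_ne)

variable {k : Type u} [Field k] {n q : ℕ}

/-- `α = e_h - e_1`, `1 < h < n`: the single good generator `x_1^{q+1}` -/
theorem finrank_T5' (hq : 1 ≤ q) (hn : 3 ≤ n) (h : ℕ) (hh : 1 < h ∧ h < n)
    (α : Fin (n + 1) → ℤ)
    (hα : ∀ l : Fin (n + 1), α l = (if l.val = h then 1 else 0) - (if l.val = 1 then 1 else 0)) :
    finrank k ↥(AG (k := k) (dat k n q 1) α) = 1 := by
  apply finrank_AG_eq_one (Sum.inr ⟨⟨1, by omega⟩, by change 1 ≤ 1 ∧ 1 ≤ 1; omega⟩)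
  · exact ⟨fun l => by tbo [hα], by tbnm [hα]⟩
  · rintro (i | i) hne
    · have hi' := i.2
      intro hg
      by_cases hi : i.1.val = 1
      · apply hg.2
        exact memZ_inl ⟨h, by omega⟩ (by change h < n; omega) (fun l => by tbo [hα])
      · have := hg.1 ⟨1, by omega⟩
        tbo [hα]
    · have hi := inr_val_ne hne
      have := i.2
      omega
  · rintro (i | i) hne
    · have hi' := i.2
      by_cases hi : i.1.val = 1
      · exact ⟨fun l => by tbo [hα], memZ_inl ⟨h, by omega⟩ (by change h < n; omega)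
          (fun l => by tbo [hα])⟩
      · exact ⟨fun l => by tbo [hα], memZ_inl i.1 i.2 (fun l => by tbo [hα])⟩
    · have hi := inr_val_ne hne
      have := i.2
      omega

/-- `α = e_n - e_1`: two classes -/
theorem finrank_T6' (hq : 1 ≤ q) (hn : 3 ≤ n) (α : Fin (n + 1) → ℤ)
    (hα : ∀ l : Fin (n + 1), α l = (if l.val = n then 1 else 0) - (if l.val = 1 then 1 else 0)) :
    finrank k ↥(AG (k := k) (dat k n q 1) α) = 2 := by
  apply finrank_AG_eq' 2
    ![Sum.inl ⟨⟨1, by omega⟩, by change 1 < n; omega⟩,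
      Sum.inr ⟨⟨1, by omega⟩, by change 1 ≤ 1 ∧ 1 ≤ 1; omega⟩]
    (fun j => match j with
      | Sum.inl i => if i.1.val = 1 then some 0 else none
      | Sum.inr _ => some 1)
  · rintro (i | i) s hj
    · simp only at hj
      split_ifs at hj with h1
      have := i.2
      exact ⟨fun l => by tbo [hα], by tbnm [hα]⟩
    · have := i.2
      exact ⟨fun l => by tbo [hα], by tbnm [hα]⟩
  · rintro (i | i) (i' | i') hne
    · simp only at hne
      have hi := i.2
      have hi' := i'.2
      by_cases hc : i.1.val = 1 <;> by_cases hc' : i'.1.val = 1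
      · rw [if_pos hc, if_pos hc'] at hne
        exact absurd rfl hne
      · exact ⟨fun l => by tbo [hα], memZ_inl i'.1 i'.2 (fun l => by tbo [hα])⟩
      · exact ⟨fun l => by tbo [hα], memZ_inl i.1 i.2 (fun l => by tbo [hα])⟩
      · rw [if_neg hc, if_neg hc'] at hne
        exact absurd rfl hne
    · have hi := i.2
      have hi' := i'.2
      exact ⟨fun l => by tbo [hα], memZ_inl i.1 i.2 (fun l => by tbo [hα])⟩
    · have hi := i.2
      have hi' := i'.2
      exact ⟨fun l => by tbo [hα], memZ_inl i'.1 i'.2 (fun l => by tbo [hα])⟩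
    · exact absurd rfl hne
  · rintro (i | i) hj
    · simp only at hj
      split_ifs at hj with h1
      intro hg
      have := hg.1 ⟨1, by omega⟩
      tbo [hα]
    · simp at hj
  · rintro (i | i) s hj
    · simp only at hj
      split_ifs at hj with h1
      cases hj
      intro hin
      have := i.2
      exact absurd hin.2 (by tbnm [hα])
    · cases hj
      intro hin
      have := i.2
      exact absurd hin.2 (by tbnm [hα])
  · intro s
    fin_cases s <;> rfl

/-- `α = δ - (q+1) e_1` with `δ ≥ 0` supported away from `0, 1` and not a power of `x_n`: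
the single good generator `x_1^{q+1}` -/
theorem finrank_Top (hq : 1 ≤ q) (hn : 3 ≤ n) (δ : Fin (n + 1) → ℤ) (hδ0 : ∀ l, 0 ≤ δ l)
    (hδ1 : ∀ l : Fin (n + 1), l.val ≤ 1 → δ l = 0) (l₀ : Fin (n + 1)) (hl₀ : l₀.val < n)
    (hl₀' : 1 ≤ δ l₀) (α : Fin (n + 1) → ℤ)
    (hα : ∀ l : Fin (n + 1), α l = δ l - (if l.val = 1 then (q : ℤ) + 1 else 0)) :
    finrank k ↥(AG (k := k) (dat k n q 1) α) = 1 := by
  have hd0 : δ ⟨0, by omega⟩ = 0 := hδ1 _ (by simp)
  have hd1 : δ ⟨1, by omega⟩ = 0 := hδ1 _ (by simp)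
  have hl2 : 2 ≤ l₀.val := by
    by_contra hcon
    have := hδ1 l₀ (by omega)
    omega
  apply finrank_AG_eq_one (Sum.inr ⟨⟨1, by omega⟩, by change 1 ≤ 1 ∧ 1 ≤ 1; omega⟩)
  · refine ⟨fun l => ?_, not_memZ (by omega) ?_ ?_⟩
    · have := hδ0 l
      tbo [hα]
    · intro i' hi'
      tbo [hα]
    · intro i' h1 h2
      tbo [hα]
  · rintro (i | i) hne
    · intro hg
      have := hg.1 ⟨1, by omega⟩
      have := i.2
      tbo [hα]
    · have hi := inr_val_ne hne
      have := i.2
      omega
  · rintro (i | i) hne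
    · have hi' := i.2
      by_cases hi : i.1.val = 1
      · refine ⟨fun l => ?_, memZ_inl l₀ hl₀ (fun l => ?_)⟩
        · have := hδ0 l
          tbo [hα]
        · have := hδ0 l
          have hc : l.val = l₀.val → δ l = δ l₀ := fun h => by rw [Fin.ext h]
          tbo [hα]
      · refine ⟨fun l => ?_, memZ_inl i.1 i.2 (fun l => ?_)⟩
        · have := hδ0 l
          tbo [hα]
        · have := hδ0 l
          tbo [hα]
    · have hi := inr_val_ne hne
      have := i.2
      omega

end Groth.Agent.Lib.Helper15.HilbU
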