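import Mathlib
import Groth.Agent.Lib.Helper15.HilbU1

/-!
# The ideals `x_0 (x_0, …, x_{n-1}) + (x_1^{q+1})`: the degree zero part of `T(I)` (helper15)
-/

set_option backward.isDefEq.respectTransparency.types false
set_option autoImplicit false
set_option linter.unusedSectionVars false
set_option linter.style.haveILetI false

universe u

namespace Groth.Agent.Lib.Helper15.HilbU

open MvPolynomial W4c1hilbpn Groth.Agent.Lib.Helper8.Hilb Module
open Groth.Agent.Lib.Helper15.HilbG Groth.Agent.Lib.Helper15.HilbB
open Groth.Agent.Lib.Helper15.HilbQ (v2 sum_v2)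
open Groth.Agent.Lib.Helper15.HilbR

variable {k : Type u} [Field k] {n q : ℕ}

/-- the dimension of the piece `e_b - e_a` for `t = 1` -/
def dGL' (n : ℕ) (x : ℕ × ℕ) : ℕ := 1 + (if x.2 = n ∧ x.1 ≤ 1 then 1 else 0)

lemma finrank_GL' (hq : 1 ≤ q) (hn : 3 ≤ n) (x : ℕ × ℕ) (hx : x ∈ TGL n 1) :
    finrank k ↥(AG (k := k) (dat k n q 1) (v2 n x.1 x.2)) = dGL' n x := by
  obtain ⟨a, b⟩ := x
  rw [mem_TGL] at hx
  unfold CondGL at hx
  unfold dGL'
  simp only at hx ⊢
  rcases hx with ⟨rfl, h1, h2⟩ | ⟨rfl, h1, h2⟩ | ⟨h1, h2, h3, h4⟩ | ⟨h1, h2, rfl⟩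
  · by_cases hb : b = n
    · subst hb
      rw [if_pos ⟨rfl, by omega⟩]
      exact finrank_T3 hq le_rfl (by omega) _ (fun l => rfl)
    · rw [if_neg (by omega)]
      by_cases hb1 : b = 1
      · subst hb1
        exact finrank_T1 hq le_rfl (by omega) _ (fun l => rfl)
      · exact finrank_T2 hq le_rfl (by omega) b (by omega) _ (fun l => rfl)
  · by_cases hb : b = n
    · subst hb
      rw [if_pos ⟨rfl, by omega⟩]
      exact finrank_T6' hq hn _ (fun l => rfl)
    · rw [if_neg (by omega)]
      exact finrank_T5' hq hn b (by omega) _ (fun l => rfl)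
  · omega
  · rw [if_neg (by omega)]
    exact finrank_T8 hq le_rfl (by omega) a (by omega) _ (fun l => rfl)

lemma sum_dGL' (hn : 3 ≤ n) : ∑ x ∈ TGL n 1, dGL' n x = 3 * n - 1 := by
  unfold TGL
  rw [Finset.sum_union, Finset.sum_union, Finset.sum_union]
  · rw [Finset.sum_product, Finset.sum_product, Finset.sum_product, Finset.sum_product]
    simp only [Finset.sum_singleton]
    have e1 : ∑ b ∈ Finset.Ico 1 (n + 1), dGL' n (0, b) = n + 1 := by
      unfold dGL'
      rw [Finset.sum_Ico_succ_top (by omega)]
      have h : ∀ b ∈ Finset.Ico 1 n, (1 + (if b = n ∧ 0 ≤ 1 then 1 else 0)) = 1 := by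
        intro b hb
        rw [Finset.mem_Ico] at hb
        rw [if_neg (by omega)]
      rw [Finset.sum_congr rfl h, if_pos ⟨rfl, by omega⟩]
      simp only [Finset.sum_const, Nat.card_Ico, smul_eq_mul]
      omega
    have e2 : ∑ b ∈ Finset.Ico 2 (n + 1), dGL' n (1, b) = n := by
      unfold dGL'
      rw [Finset.sum_Ico_succ_top (by omega)]
      have h : ∀ b ∈ Finset.Ico 2 n, (1 + (if b = n ∧ 1 ≤ 1 then 1 else 0)) = 1 := by
        intro b hb
        rw [Finset.mem_Ico] at hb
        rw [if_neg (by omega)]
      rw [Finset.sum_congr rfl h, if_pos ⟨rfl, by omega⟩]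
      simp only [Finset.sum_const, Nat.card_Ico, smul_eq_mul]
      omega
    have e3 : ∑ a ∈ Finset.Ico 2 (1 + 1), ∑ b ∈ Finset.Ico (1 + 1) (n + 1), dGL' n (a, b) = 0 := by
      rw [Finset.Ico_self, Finset.sum_empty]
    have e4 : ∑ a ∈ Finset.Ico (1 + 1) n, dGL' n (a, n) = n - 2 := by
      unfold dGL'
      have h : ∀ a ∈ Finset.Ico (1 + 1) n, (1 + (if n = n ∧ a ≤ 1 then 1 else 0)) = 1 := by
        intro a ha
        rw [Finset.mem_Ico] at ha
        rw [if_neg (by omega)]
      rw [Finset.sum_congr rfl h]
      simp only [Finset.sum_const, Nat.card_Ico, smul_eq_mul]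
      omega
    rw [e1, e2, e3, e4]
    omega
  · rw [Finset.disjoint_left]
    intro x h1 h2
    simp only [Finset.mem_product, Finset.mem_singleton, Finset.mem_Ico] at h1 h2
    omega
  · rw [Finset.disjoint_left]
    intro x h1 h2
    simp only [Finset.mem_product, Finset.mem_singleton, Finset.mem_Ico] at h1 h2
    omega
  · rw [Finset.disjoint_left]
    intro x h1 h2
    simp only [Finset.mem_union, Finset.mem_product, Finset.mem_singleton, Finset.mem_Ico] at h1 h2
    omega

/-- the excluded index: the power `x_n^{q+1}` -/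
noncomputable def eTop (n q : ℕ) : Σ _ : ℕ, (Fin (n + 1) →₀ ℕ) :=
  ⟨q + 1, Finsupp.single (Fin.last n) (q + 1)⟩

lemma eTop_mem (hn : 2 ≤ n) (hq : 1 ≤ q) : eTop n q ∈ TII n (q + 1) := by
  rw [mem_TII]
  refine ⟨by simp only [eTop]; omega, ?_⟩
  unfold DII eTop
  rw [Finset.mem_finsuppAntidiag]
  have hmem : Fin.last n ∈ supp2 n := by
    simp only [supp2, Finset.mem_filter, Finset.mem_univ, true_and, Fin.val_last]
    exact hn
  constructor
  · rw [Finset.sum_eq_single (Fin.last n)]
    · simp
    · intro l _ hl
      simp [Finsupp.single_apply, Ne.symm hl]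
    · intro h
      exact absurd hmem h
  · intro l hl
    rw [Finsupp.mem_support_iff, Finsupp.single_apply] at hl
    by_cases h : Fin.last n = l
    · rw [← h]
      exact hmem
    · rw [if_neg h] at hl
      exact absurd rfl hl

lemma finrank_IItop (hq : 1 ≤ q) (hn : 3 ≤ n) (x : Σ _ : ℕ, (Fin (n + 1) →₀ ℕ))
    (hx : x ∈ (TII n (q + 1)).erase (eTop n q)) :
    finrank k ↥(AG (k := k) (dat k n q 1) (wII n x)) = 1 := by
  rw [Finset.mem_erase] at hx
  obtain ⟨hxe, hx⟩ := hx
  have hx' := (mem_TII _).1 hx
  by_cases hxq : x.1 ≤ q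
  · exact finrank_TII le_rfl (by omega) x.1 ⟨hx'.1.1, hxq⟩ (fun l => (x.2 l : ℤ))
      (fun l => by positivity) (fun l hl => by rw [DII_zero hx'.2 l hl]; rfl) _ (fun l => rfl)
  · have hx1 : x.1 = q + 1 := by omega
    have hex : ∃ l₀ : Fin (n + 1), l₀.val < n ∧ 1 ≤ x.2 l₀ := by
      by_contra hcon
      push Not at hcon
      apply hxe
      obtain ⟨s, d⟩ := x
      simp only at hx1 hx' hcon
      subst hx1
      unfold eTop
      congr 1
      ext l
      rw [Finsupp.single_apply]
      by_cases hl : Fin.last n = l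
      · rw [if_pos hl, ← hl]
        have h1 := (Finset.mem_finsuppAntidiag.1 hx'.2).1
        rw [Finset.sum_eq_single (Fin.last n)] at h1
        · exact h1
        · intro l' _ hl'
          have : l'.val < n := by
            have := l'.2
            have : l'.val ≠ n := fun h => hl' (Fin.ext (by rw [h, Fin.val_last]))
            omega
          have := hcon l' this
          omega
        · intro h
          exfalso
          apply h
          simp only [supp2, Finset.mem_filter, Finset.mem_univ, true_and, Fin.val_last]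
          omega
      · rw [if_neg hl]
        have : l.val < n := by
          have := l.2
          have : l.val ≠ n := fun h => hl (Fin.ext (by rw [h, Fin.val_last]))
          omega
        have := hcon l this
        omega
    obtain ⟨l₀, hl₀, hl₀'⟩ := hex
    exact finrank_Top hq hn (fun l => (x.2 l : ℤ)) (fun l => by positivity)
      (fun l hl => by rw [DII_zero hx'.2 l hl]; rfl) l₀ hl₀ (by exact_mod_cast hl₀') _
      (fun l => by simp only [wII]; rw [hx1]; push_cast; rfl)

theorem finrank_deg_zero_t1 (hq : 1 ≤ q) (hn : 3 ≤ n) (hcase : 4 ≤ n ∨ 3 ≤ q) :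
    finrank k ↥(⨆ α : {α : Fin (n + 1) → ℤ // ∑ i, α i = 0}, tPiece (tbIdeal k n q 1) α.1) =
      3 * n - 1 + 1 + ((TII n (q + 1)).card - 1) := by
  rw [finrank_iSup_tPiece_gens (dat k n q 1) (isMonomial_tbIdeal k n q 1)
    (fun α => ∑ i, α i = 0)
    (((TGL n 1).image (fun x => v2 n x.1 x.2) ∪ {w12 n q 1}) ∪
      ((TII n (q + 1)).erase (eTop n q)).image (wII n))]
  · rw [Finset.sum_union, Finset.sum_union, Finset.sum_image v2_injOn, Finset.sum_singleton,
      Finset.sum_image ((wII_injOn (by omega)).mono (by
        intro x hx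
        exact Finset.mem_of_mem_erase hx)),
      Finset.sum_congr rfl (finrank_GL' hq hn), Finset.sum_congr rfl (finrank_IItop hq hn),
      sum_dGL' hn,
      finrank_T11 hq le_rfl (by omega) _ (fun l => by simp only [w12]; omega)]
    · simp only [Finset.sum_const, smul_eq_mul, mul_one]
      rw [Finset.card_erase_of_mem (eTop_mem (by omega) hq)]
    · -- first family against `T11`
      rw [Finset.disjoint_singleton_right]
      intro h
      obtain ⟨x, hx, hxy⟩ := Finset.mem_image.1 h
      have hx' := (mem_TGL _).1 hx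
      unfold CondGL at hx'
      have h3 := congrFun hxy ⟨0, by omega⟩
      simp only [v2, w12, if_true] at h3
      omega
    · -- the third family
      rw [Finset.disjoint_left]
      intro α h1 h2
      obtain ⟨y, hy, hxy⟩ := Finset.mem_image.1 h2
      have hy' := (mem_TII _).1 (Finset.mem_of_mem_erase hy)
      have hy0 := DII_zero hy'.2 ⟨0, by omega⟩ (by simp)
      have hy1 := DII_zero hy'.2 ⟨1, by omega⟩ (by simp)
      rcases Finset.mem_union.1 h1 with h | h
      · obtain ⟨x, hx, rfl⟩ := Finset.mem_image.1 h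
        have hx' := (mem_TGL _).1 hx
        unfold CondGL at hx'
        have h3 := congrFun hxy ⟨1, by omega⟩
        simp only [v2, wII, if_true] at h3
        rw [hy1] at h3
        push_cast at h3
        omega
      · rw [Finset.mem_singleton] at h
        subst h
        have h3 := congrFun hxy ⟨0, by omega⟩
        simp only [w12, wII, if_true] at h3
        rw [hy0] at h3
        push_cast at h3
        omega
  · intro α hα
    rcases Finset.mem_union.1 hα with h | h
    · rcases Finset.mem_union.1 h with h | h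
      · obtain ⟨x, hx, rfl⟩ := Finset.mem_image.1 h
        have hx' := (mem_TGL _).1 hx
        unfold CondGL at hx'
        exact sum_v2 (by omega) (by omega)
      · rw [Finset.mem_singleton] at h
        rw [h]
        exact sum_w12 (by omega) (by omega)
    · obtain ⟨x, hx, rfl⟩ := Finset.mem_image.1 h
      exact sum_wII (by omega) x (Finset.mem_of_mem_erase hx)
  · intro α hα hns a ha
    by_contra hne
    apply hns
    rcases vanish hq le_rfl (by omega) α hα a ha hne with h | h | h
    · rcases h with ⟨a', b', hab, hα'⟩ | ⟨s, δ, hs, hδ0, hδ1, hδs, hα'⟩ | h11 | ⟨m, hm, hα'⟩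
      · apply Finset.mem_union_left
        apply Finset.mem_union_left
        rw [Finset.mem_image]
        exact ⟨(a', b'), (mem_TGL _).2 hab, (funext hα').symm⟩
      · apply Finset.mem_union_right
        obtain ⟨x, hx, hx1, -, hxα⟩ := exists_mem_TII (q := q + 1) s δ ⟨hs.1, by omega⟩ hδ0 hδ1
          hδs hα'
        rw [Finset.mem_image]
        refine ⟨x, Finset.mem_erase.2 ⟨?_, hx⟩, hxα⟩
        intro hcon
        rw [hcon] at hx1
        simp only [eTop] at hx1
        omega
      · apply Finset.mem_union_left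
        apply Finset.mem_union_right
        rw [Finset.mem_singleton]
        funext l
        rw [h11]
        simp only [w12]
        omega
      · omega
    · have h1 := h.1
      have h2 := h.2.1
      omega
    · obtain ⟨-, δ, hδ0, hδ1, hδs, ⟨l₀, hl₀, hl₀'⟩, hα'⟩ := h
      apply Finset.mem_union_right
      obtain ⟨x, hx, hx1, hx2, hxα⟩ := exists_mem_TII (α := α) (q := q + 1) (q + 1) δ
        ⟨by omega, le_rfl⟩
        hδ0 hδ1 (by rw [hδs]; push_cast; rfl) (fun l => by rw [hα']; push_cast; rfl)
      rw [Finset.mem_image]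
      refine ⟨x, Finset.mem_erase.2 ⟨?_, hx⟩, hxα⟩
      intro hcon
      have h3 := hx2 l₀
      rw [hcon] at h3
      simp only [eTop] at h3
      rw [Finsupp.single_apply, if_neg] at h3
      · simp only [Nat.cast_zero] at h3
        omega
      · intro h4
        rw [← h4, Fin.val_last] at hl₀
        omega

end Groth.Agent.Lib.Helper15.HilbU
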