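import Mathlib
import Groth.Agent.Lib.Helper15.HilbU2

/-!
# The ideals `x_0 (x_0, …, x_{n-1}) + (x_1^q)`: the dimension of `Hom(I, S/I)_0` (helper15)
-/

set_option backward.isDefEq.respectTransparency.types false
set_option autoImplicit false
set_option linter.unusedSectionVars false
set_option linter.style.haveILetI false

universe u

namespace Groth.Agent.Lib.Helper15.HilbU

open MvPolynomial W4c1hilbpn Groth.Agent.Lib.Helper8.Hilb Module
open Groth.Agent.Lib.Helper15.HilbG Groth.Agent.Lib.Helper15.HilbB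
open Groth.Agent.Lib.Helper15.HilbR

variable {k : Type u} [Field k]

theorem finrank_S13450 (n q : ℕ) (hcase : (n = 3 ∧ 4 ≤ q) ∨ (4 ≤ n ∧ 2 ≤ q)) :
    finrank k ↥(⨆ α : {α : Fin (n + 1) → ℤ // ∑ i, α i = 0},
      tPiece (Ideal.span ({f : MvPolynomial (Fin (n + 1)) k | ∃ i : Fin (n + 1), i.val + 1 ≤ n ∧
        f = X 0 * X i} ∪ {X 1 ^ q})) α.1) =
      2 * n - 1 + Nat.choose (n + q - 1) (n - 1) := by
  obtain ⟨q', rfl⟩ : ∃ q', q = q' + 1 := ⟨q - 1, by omega⟩
  have hn : 3 ≤ n := by omega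
  have h1v : ((1 : Fin (n + 1)) : ℕ) = 1 := by
    rw [Fin.val_one']
    exact Nat.mod_eq_of_lt (by omega)
  have hset : ({X 1 ^ (q' + 1)} : Set (MvPolynomial (Fin (n + 1)) k)) =
      {f : MvPolynomial (Fin (n + 1)) k | ∃ i : Fin (n + 1), 1 ≤ i.val ∧ i.val ≤ 1 ∧
        f = X 1 ^ q' * X i} := by
    ext f
    simp only [Set.mem_singleton_iff, Set.mem_setOf_eq]
    constructor
    · intro hf
      exact ⟨1, by omega, by omega, by rw [hf, pow_succ]⟩
    · rintro ⟨i, hi1, hi2, hf⟩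
      have : i = 1 := Fin.ext (by omega)
      rw [hf, this, pow_succ]
  rw [hset, span_eq (k := k) (n := n) (q := q') (t := 1) (by omega),
    finrank_deg_zero_t1 (by omega) hn (by omega)]
  have h1 := card_TII (n := n) (q := q' + 1) (by omega) (by omega)
  have h2 : 0 < (TII n (q' + 1)).card :=
    Finset.card_pos.2 ⟨eTop n q', eTop_mem (by omega) (by omega)⟩
  have h3 : n + (q' + 1) - 1 = n + q' := by omega
  rw [h3] at h1 ⊢
  omega

end Groth.Agent.Lib.Helper15.HilbU
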