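import Mathlib

set_option autoImplicit false
set_option linter.style.haveILetI false
set_option linter.unusedSectionVars false

namespace Groth.Agent.Lib.Helper15.HodgeS

open MvPowerSeries

variable {σ : Type*}

/-- all coefficients nonnegative -/
def NN (F : MvPowerSeries σ ℤ) : Prop := ∀ d, 0 ≤ coeff d F

lemma NN.add {F G : MvPowerSeries σ ℤ} (hF : NN F) (hG : NN G) : NN (F + G) := fun d => by
  rw [map_add]; exact add_nonneg (hF d) (hG d)

lemma NN.mul {F G : MvPowerSeries σ ℤ} (hF : NN F) (hG : NN G) : NN (F * G) := fun d => by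
  classical
  rw [coeff_mul]
  exact Finset.sum_nonneg fun x _ => mul_nonneg (hF _) (hG _)

lemma NN.one : NN (1 : MvPowerSeries σ ℤ) := fun d => by
  classical
  rw [coeff_one]; split_ifs <;> norm_num

lemma NN.zero : NN (0 : MvPowerSeries σ ℤ) := fun d => by simp

lemma NN.pow {F : MvPowerSeries σ ℤ} (hF : NN F) (n : ℕ) : NN (F ^ n) := by
  induction n with
  | zero => rw [pow_zero]; exact NN.one
  | succ n ih => rw [pow_succ]; exact ih.mul hF

lemma NN.sum {ι : Type*} (s : Finset ι) (F : ι → MvPowerSeries σ ℤ) (hF : ∀ i ∈ s, NN (F i)) :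
    NN (∑ i ∈ s, F i) := fun d => by
  rw [map_sum]; exact Finset.sum_nonneg fun i hi => hF i hi d

lemma NN.prod {ι : Type*} (s : Finset ι) (F : ι → MvPowerSeries σ ℤ) (hF : ∀ i ∈ s, NN (F i)) :
    NN (∏ i ∈ s, F i) := by
  classical
  induction s using Finset.induction_on with
  | empty => rw [Finset.prod_empty]; exact NN.one
  | insert a s ha ih =>
    rw [Finset.prod_insert ha]
    exact (hF a (Finset.mem_insert_self a s)).mul
      (ih fun i hi => hF i (Finset.mem_insert_of_mem hi))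

lemma coeff_add_ne_zero {F G : MvPowerSeries σ ℤ} (hF : NN F) (hG : NN G) (d : σ →₀ ℕ) :
    coeff d (F + G) ≠ 0 ↔ coeff d F ≠ 0 ∨ coeff d G ≠ 0 := by
  rw [map_add]
  have h1 := hF d
  have h2 := hG d
  omega

lemma coeff_mul_ne_zero {F G : MvPowerSeries σ ℤ} (hF : NN F) (hG : NN G) (d : σ →₀ ℕ) :
    coeff d (F * G) ≠ 0 ↔ ∃ e f, e + f = d ∧ coeff e F ≠ 0 ∧ coeff f G ≠ 0 := by
  classical
  rw [coeff_mul, Ne, Finset.sum_eq_zero_iff_of_nonneg (fun x _ => mul_nonneg (hF _) (hG _))]
  push Not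
  constructor
  · rintro ⟨⟨e, f⟩, hx, hne⟩
    rw [Finset.HasAntidiagonal.mem_antidiagonal] at hx
    exact ⟨e, f, hx, left_ne_zero_of_mul hne, right_ne_zero_of_mul hne⟩
  · rintro ⟨e, f, h, h1, h2⟩
    exact ⟨(e, f), by rwa [Finset.HasAntidiagonal.mem_antidiagonal], mul_ne_zero h1 h2⟩

lemma coeff_sum_ne_zero {ι : Type*} (s : Finset ι) (F : ι → MvPowerSeries σ ℤ)
    (hF : ∀ i ∈ s, NN (F i)) (d : σ →₀ ℕ) :
    coeff d (∑ i ∈ s, F i) ≠ 0 ↔ ∃ i ∈ s, coeff d (F i) ≠ 0 := by
  rw [map_sum, Ne, Finset.sum_eq_zero_iff_of_nonneg (fun i hi => hF i hi d)]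
  push Not
  rfl

lemma coeff_prod_ne_zero {ι : Type*} [DecidableEq ι] (s : Finset ι)
    (F : ι → MvPowerSeries σ ℤ) (hF : ∀ i ∈ s, NN (F i)) :
    ∀ d : σ →₀ ℕ, coeff d (∏ i ∈ s, F i) ≠ 0 ↔
      ∃ g : ι → (σ →₀ ℕ), (∀ i ∈ s, coeff (g i) (F i) ≠ 0) ∧ ∑ i ∈ s, g i = d := by
  classical
  induction s using Finset.induction_on with
  | empty =>
    intro d
    rw [Finset.prod_empty, coeff_one]
    constructor
    · intro h
      refine ⟨fun _ => 0, by simp, ?_⟩
      rw [Finset.sum_empty]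
      by_contra hne
      exact h (if_neg (Ne.symm hne))
    · rintro ⟨g, -, hg⟩
      rw [Finset.sum_empty] at hg
      rw [if_pos hg.symm]
      norm_num
  | insert a s ha ih =>
    intro d
    have hFs : ∀ i ∈ s, NN (F i) := fun i hi => hF i (Finset.mem_insert_of_mem hi)
    rw [Finset.prod_insert ha,
      coeff_mul_ne_zero (hF a (Finset.mem_insert_self a s)) (NN.prod s F hFs)]
    constructor
    · rintro ⟨e, f, hef, he, hf⟩
      obtain ⟨g, hg1, hg2⟩ := (ih hFs f).mp hf
      refine ⟨Function.update g a e, ?_, ?_⟩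
      · intro i hi
        rw [Finset.mem_insert] at hi
        rcases hi with rfl | hi
        · rwa [Function.update_self]
        · have hne : i ≠ a := fun h => ha (h ▸ hi)
          rw [Function.update_of_ne hne]
          exact hg1 i hi
      · rw [Finset.sum_insert ha, Function.update_self, ← hef, ← hg2]
        congr 1
        apply Finset.sum_congr rfl
        intro i hi
        have hne : i ≠ a := fun h => ha (h ▸ hi)
        rw [Function.update_of_ne hne]
    · rintro ⟨g, hg1, hg2⟩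
      refine ⟨g a, ∑ i ∈ s, g i, ?_, hg1 a (Finset.mem_insert_self a s), ?_⟩
      · rw [← hg2, Finset.sum_insert ha]
      · exact (ih hFs _).mpr ⟨g, fun i hi => hg1 i (Finset.mem_insert_of_mem hi), rfl⟩

lemma rec_eq {P N H : MvPowerSeries σ ℤ} (h : (1 - P) * H = N) : H = N + P * H := by
  rw [← h]; ring

lemma NN_of_rec {P N H : MvPowerSeries σ ℤ} (hP : NN P) (hP0 : coeff 0 P = 0) (hN : NN N)
    (h : (1 - P) * H = N) : NN H := by
  classical
  have key : ∀ n : ℕ, ∀ d : σ →₀ ℕ, d.degree = n → 0 ≤ coeff d H := by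
    intro n
    induction n using Nat.strong_induction_on with
    | _ n ih =>
      intro d hd
      rw [rec_eq h, map_add, coeff_mul]
      apply add_nonneg (hN d)
      apply Finset.sum_nonneg
      rintro ⟨e, f⟩ hef
      rw [Finset.HasAntidiagonal.mem_antidiagonal] at hef
      dsimp only at hef
      by_cases he : e = 0
      · subst he
        rw [hP0, zero_mul]
      · apply mul_nonneg (hP e)
        have hdeg : f.degree < n := by
          rw [← hd, ← hef, map_add]
          have : e.degree ≠ 0 := fun h0 => he ((Finsupp.degree_eq_zero_iff e).mp h0)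
          omega
        exact ih _ hdeg f rfl
  exact fun d => key _ d rfl

lemma coeff_rec_ne_zero {P N H : MvPowerSeries σ ℤ} (hP : NN P) (hP0 : coeff 0 P = 0)
    (hN : NN N) (h : (1 - P) * H = N) (d : σ →₀ ℕ) :
    coeff d H ≠ 0 ↔ coeff d N ≠ 0 ∨ ∃ e f, e + f = d ∧ coeff e P ≠ 0 ∧ coeff f H ≠ 0 := by
  have hH := NN_of_rec hP hP0 hN h
  conv_lhs => rw [rec_eq h]
  rw [coeff_add_ne_zero hN (hP.mul hH), coeff_mul_ne_zero hP hH]

end Groth.Agent.Lib.Helper15.HodgeS
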