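import Mathlib
import Groth.Agent.Lib.Helper15.HodgeS1

set_option autoImplicit false
set_option linter.style.haveILetI false
set_option linter.unusedSectionVars false

namespace Groth.Agent.Lib.Helper15.HodgeS

open MvPowerSeries Finset

/-- exponent `(p, q)` -/
noncomputable def e2 (p q : ℕ) : Fin 2 →₀ ℕ := Finsupp.single 0 p + Finsupp.single 1 q

@[simp] lemma e2_zero' (p q : ℕ) : e2 p q 0 = p := by simp [e2]
@[simp] lemma e2_one' (p q : ℕ) : e2 p q 1 = q := by simp [e2]

lemma e2_eta (d : Fin 2 →₀ ℕ) : e2 (d 0) (d 1) = d := by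
  ext t; fin_cases t <;> simp [e2]

lemma e2_add (p q p' q' : ℕ) : e2 p q + e2 p' q' = e2 (p + p') (q + q') := by
  ext t; fin_cases t <;> simp

lemma e2_inj {p q p' q' : ℕ} : e2 p q = e2 p' q' ↔ p = p' ∧ q = q' := by
  constructor
  · intro h
    refine ⟨?_, ?_⟩
    · simpa using DFunLike.congr_fun h 0
    · simpa using DFunLike.congr_fun h 1
  · rintro ⟨rfl, rfl⟩; rfl

lemma e2_zero_zero : e2 0 0 = 0 := by
  ext t; fin_cases t <;> simp

lemma term_eq (c u v : ℕ) :
    ((c : MvPowerSeries (Fin 2) ℤ) * X 0 ^ u * X 1 ^ v) = monomial (e2 u v) (c : ℤ) := by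
  have hc : (c : MvPowerSeries (Fin 2) ℤ) = monomial 0 (c : ℤ) := by
    rw [monomial_zero_eq_C_apply]; simp
  rw [hc, X_pow_eq, X_pow_eq, monomial_mul_monomial, monomial_mul_monomial]
  simp [e2]

/-- the series `P_b` -/
noncomputable def Pser (b : ℕ) : MvPowerSeries (Fin 2) ℤ :=
  ∑ u ∈ Finset.range (b + 1), ∑ v ∈ Finset.range (b + 1),
    if 1 ≤ u ∧ 1 ≤ v ∧ u + v ≤ b then
      (b.choose (u + v) : MvPowerSeries (Fin 2) ℤ) * X 0 ^ u * X 1 ^ v else 0

/-- the series `N_b` -/
noncomputable def Nser (b : ℕ) : MvPowerSeries (Fin 2) ℤ :=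
  ∑ u ∈ Finset.range b, ∑ v ∈ Finset.range b,
    if u + v + 1 ≤ b - 1 then
      ((b - 1).choose (u + v + 1) : MvPowerSeries (Fin 2) ℤ) * X 0 ^ u * X 1 ^ v else 0

/-- generic coefficient extraction from a double sum of monomials -/
lemma coeff_double_sum (n : ℕ) (cond : ℕ → ℕ → Prop) [∀ u v, Decidable (cond u v)]
    (c : ℕ → ℕ → ℕ) (hrange : ∀ u v, cond u v → u < n ∧ v < n) (p q : ℕ) :
    coeff (e2 p q) (∑ u ∈ Finset.range n, ∑ v ∈ Finset.range n,
      if cond u v then (c u v : MvPowerSeries (Fin 2) ℤ) * X 0 ^ u * X 1 ^ v else 0) =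
      if cond p q then (c p q : ℤ) else 0 := by
  classical
  rw [map_sum]
  simp_rw [map_sum]
  have hterm : ∀ u v, coeff (e2 p q)
      (if cond u v then (c u v : MvPowerSeries (Fin 2) ℤ) * X 0 ^ u * X 1 ^ v else 0) =
      if (u = p ∧ v = q) then (if cond p q then (c p q : ℤ) else 0) else 0 := by
    intro u v
    by_cases huv : u = p ∧ v = q
    · obtain ⟨rfl, rfl⟩ := huv
      simp only [and_self, if_true]
      split_ifs with h1
      · rw [term_eq, coeff_monomial_same]
      · simp
    · rw [if_neg huv]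
      split_ifs with h1
      · rw [term_eq, coeff_monomial_ne]
        intro h
        rw [e2_inj] at h
        exact huv ⟨h.1.symm, h.2.symm⟩
      · simp
  simp_rw [hterm]
  by_cases hc : cond p q
  · obtain ⟨hp, hq⟩ := hrange p q hc
    rw [Finset.sum_eq_single p, Finset.sum_eq_single q]
    · simp
    · intro v _ hv
      rw [if_neg]
      exact fun h => hv h.2
    · intro h; exact absurd (Finset.mem_range.mpr hq) h
    · intro u _ hu
      apply Finset.sum_eq_zero
      intro v _
      rw [if_neg]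
      exact fun h => hu h.1
    · intro h; exact absurd (Finset.mem_range.mpr hp) h
  · rw [if_neg hc]
    apply Finset.sum_eq_zero
    intro u _
    apply Finset.sum_eq_zero
    intro v _
    simp

lemma coeff_Pser (b p q : ℕ) :
    coeff (e2 p q) (Pser b) = if 1 ≤ p ∧ 1 ≤ q ∧ p + q ≤ b then (b.choose (p + q) : ℤ) else 0 := by
  rw [Pser]
  exact coeff_double_sum (b + 1) (fun u v => 1 ≤ u ∧ 1 ≤ v ∧ u + v ≤ b)
    (fun u v => b.choose (u + v)) (fun u v h => by omega) p q

lemma coeff_Nser (b p q : ℕ) :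
    coeff (e2 p q) (Nser b) =
      if p + q + 1 ≤ b - 1 then ((b - 1).choose (p + q + 1) : ℤ) else 0 := by
  rw [Nser]
  exact coeff_double_sum b (fun u v => u + v + 1 ≤ b - 1)
    (fun u v => (b - 1).choose (u + v + 1)) (fun u v h => by omega) p q

lemma NN_Pser (b : ℕ) : NN (Pser b) := by
  intro d
  rw [← e2_eta d, coeff_Pser]
  split_ifs
  · positivity
  · rfl

lemma NN_Nser (b : ℕ) : NN (Nser b) := by
  intro d
  rw [← e2_eta d, coeff_Nser]
  split_ifs
  · positivity
  · rfl

lemma coeff_zero_Pser (b : ℕ) : coeff 0 (Pser b) = 0 := by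
  rw [← e2_zero_zero, coeff_Pser, if_neg (by omega)]

lemma coeff_Pser_ne_zero (b p q : ℕ) :
    coeff (e2 p q) (Pser b) ≠ 0 ↔ 1 ≤ p ∧ 1 ≤ q ∧ p + q ≤ b := by
  rw [coeff_Pser]
  split_ifs with h
  · simp only [h, and_self, iff_true]
    have : 0 < b.choose (p + q) := Nat.choose_pos h.2.2
    exact_mod_cast this.ne'
  · simp [h]

lemma coeff_Nser_ne_zero (b p q : ℕ) :
    coeff (e2 p q) (Nser b) ≠ 0 ↔ p + q + 1 ≤ b - 1 := by
  rw [coeff_Nser]
  split_ifs with h
  · simp only [h, iff_true]
    have : 0 < (b - 1).choose (p + q + 1) := Nat.choose_pos h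
    exact_mod_cast this.ne'
  · simp [h]

/-- support of the hypersurface series -/
theorem coeff_H_ne_zero (a : ℕ) (H : MvPowerSeries (Fin 2) ℤ)
    (h : (1 - Pser a) * H = Nser a) :
    ∀ p q : ℕ, coeff (e2 p q) H ≠ 0 ↔ ∃ k, k ≤ p ∧ k ≤ q ∧ p + q + 2 ≤ (k + 1) * a := by
  have key : ∀ n p q : ℕ, p + q = n →
      (coeff (e2 p q) H ≠ 0 ↔ ∃ k, k ≤ p ∧ k ≤ q ∧ p + q + 2 ≤ (k + 1) * a) := by
    intro n
    induction n using Nat.strong_induction_on with
    | _ n ih =>
      intro p q hpq
      rw [coeff_rec_ne_zero (NN_Pser a) (coeff_zero_Pser a) (NN_Nser a) h, coeff_Nser_ne_zero]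
      constructor
      · rintro (h1 | ⟨e, f, hef, he, hf⟩)
        · exact ⟨0, by omega, by omega, by omega⟩
        · rw [← e2_eta e, ← e2_eta f, e2_add, e2_inj] at hef
          rw [← e2_eta e, coeff_Pser_ne_zero] at he
          rw [← e2_eta f, ih (f 0 + f 1) (by omega) (f 0) (f 1) rfl] at hf
          obtain ⟨k', hk1, hk2, hk3⟩ := hf
          refine ⟨k' + 1, by omega, by omega, ?_⟩
          have : (k' + 1 + 1) * a = (k' + 1) * a + a := by ring
          omega
      · rintro ⟨k, hk1, hk2, hk3⟩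
        rcases k with _ | k'
        · left; omega
        · right
          have hmul : (k' + 1 + 1) * a = (k' + 1) * a + a := by ring
          have ha2 : 2 ≤ a := by
            by_contra hlt
            have ha1 : a ≤ 1 := by omega
            have : (k' + 1 + 1) * a ≤ (k' + 1 + 1) * 1 := Nat.mul_le_mul_left _ ha1
            omega
          have hge : (k' + 1) * 2 ≤ (k' + 1) * a := Nat.mul_le_mul_left _ ha2
          by_cases hUV : (p - k') + (q - k') ≤ a
          · refine ⟨e2 (p - k') (q - k'), e2 k' k', ?_, ?_, ?_⟩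
            · rw [e2_add, e2_inj]; omega
            · rw [coeff_Pser_ne_zero]; omega
            · rw [ih (k' + k') (by omega) k' k' rfl]
              exact ⟨k', le_rfl, le_rfl, by omega⟩
          · set u := min (p - k') (a - 1) with hu
            have hu1 : u ≤ p - k' := min_le_left _ _
            have hu2 : u ≤ a - 1 := min_le_right _ _
            have hu3 : u = p - k' ∨ u = a - 1 := by
              rcases min_choice (p - k') (a - 1) with h' | h' <;> [left; right] <;> omega
            refine ⟨e2 u (a - u), e2 (p - u) (q - (a - u)), ?_, ?_, ?_⟩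
            · rw [e2_add, e2_inj]; omega
            · rw [coeff_Pser_ne_zero]; omega
            · rw [ih ((p - u) + (q - (a - u))) (by omega) _ _ rfl]
              exact ⟨k', by omega, by omega, by omega⟩
  exact fun p q => key _ p q rfl

end Groth.Agent.Lib.Helper15.HodgeS
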