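import Mathlib
import Groth.Agent.Lib.Helper15.HodgeS2

set_option autoImplicit false
set_option linter.style.haveILetI false
set_option linter.unusedSectionVars false

namespace Groth.Agent.Lib.Helper15.HodgeS

open MvPowerSeries Finset

lemma one_add_mul_eq :
    ((1 + X 0) * (1 + X 1) : MvPowerSeries (Fin 2) ℤ) =
      monomial (e2 0 0) 1 + monomial (e2 1 0) 1 + monomial (e2 0 1) 1 + monomial (e2 1 1) 1 := by
  have h1 : (X 0 : MvPowerSeries (Fin 2) ℤ) = monomial (e2 1 0) 1 := by
    rw [X_def]; congr 1; simp [e2]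
  have h2 : (X 1 : MvPowerSeries (Fin 2) ℤ) = monomial (e2 0 1) 1 := by
    rw [X_def]; congr 1; simp [e2]
  have h3 : (1 : MvPowerSeries (Fin 2) ℤ) = monomial (e2 0 0) 1 := by
    rw [e2_zero_zero, monomial_zero_one]
  have h4 : (monomial (e2 1 0) 1 * monomial (e2 0 1) 1 : MvPowerSeries (Fin 2) ℤ) =
      monomial (e2 1 1) 1 := by
    rw [monomial_mul_monomial, e2_add]; simp
  rw [← h4, ← h1, ← h2, ← h3]; ring

lemma NN_base : NN ((1 + X 0) * (1 + X 1) : MvPowerSeries (Fin 2) ℤ) := by
  classical
  intro d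
  rw [one_add_mul_eq]
  simp only [map_add, coeff_monomial]
  have : ∀ (P : Prop) [Decidable P], (0 : ℤ) ≤ if P then 1 else 0 := by
    intro P _; split_ifs <;> norm_num
  exact add_nonneg (add_nonneg (add_nonneg (this _) (this _)) (this _)) (this _)

lemma coeff_base_ne_zero (e f : ℕ) :
    coeff (e2 e f) ((1 + X 0) * (1 + X 1) : MvPowerSeries (Fin 2) ℤ) ≠ 0 ↔ e ≤ 1 ∧ f ≤ 1 := by
  classical
  rw [one_add_mul_eq]
  simp only [map_add, coeff_monomial, e2_inj]
  rcases e with _ | _ | e <;> rcases f with _ | _ | f <;> simp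

lemma coeff_base_pow_ne_zero (n : ℕ) : ∀ e f : ℕ,
    coeff (e2 e f) (((1 + X 0) * (1 + X 1) : MvPowerSeries (Fin 2) ℤ) ^ n) ≠ 0 ↔ e ≤ n ∧ f ≤ n := by
  classical
  induction n with
  | zero =>
    intro e f
    rw [pow_zero, coeff_one, ← e2_zero_zero]
    simp only [e2_inj]
    constructor
    · intro h
      by_contra hne
      exact h (if_neg (by omega))
    · intro h
      rw [if_pos (by omega)]
      norm_num
  | succ n ih =>
    intro e f
    rw [pow_succ, coeff_mul_ne_zero (NN_base.pow n) NN_base]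
    constructor
    · rintro ⟨d1, d2, hd, h1, h2⟩
      rw [← e2_eta d1, ih] at h1
      rw [← e2_eta d2, coeff_base_ne_zero] at h2
      rw [← e2_eta d1, ← e2_eta d2, e2_add, e2_inj] at hd
      omega
    · rintro ⟨he, hf⟩
      refine ⟨e2 (min e n) (min f n), e2 (e - min e n) (f - min f n), ?_, ?_, ?_⟩
      · rw [e2_add, e2_inj]; omega
      · rw [ih]; omega
      · rw [coeff_base_ne_zero]; omega

/-- filling lemma: distribute a total `t` among slots with given capacities -/
lemma exists_fill {ι : Type*} [DecidableEq ι] (s : Finset ι) (cap : ι → ℕ) :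
    ∀ t : ℕ, t ≤ ∑ i ∈ s, cap i → ∃ x : ι → ℕ, (∀ i ∈ s, x i ≤ cap i) ∧ ∑ i ∈ s, x i = t := by
  induction s using Finset.induction_on with
  | empty =>
    intro t ht
    rw [Finset.sum_empty] at ht
    exact ⟨fun _ => 0, by simp, by simp; omega⟩
  | insert a s ha ih =>
    intro t ht
    rw [Finset.sum_insert ha] at ht
    obtain ⟨x, hx1, hx2⟩ := ih (t - min t (cap a)) (by omega)
    refine ⟨Function.update x a (min t (cap a)), ?_, ?_⟩
    · intro i hi
      rw [Finset.mem_insert] at hi
      rcases hi with rfl | hi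
      · rw [Function.update_self]; exact min_le_right _ _
      · have hne : i ≠ a := fun h => ha (h ▸ hi)
        rw [Function.update_of_ne hne]
        exact hx1 i hi
    · rw [Finset.sum_insert ha, Function.update_self]
      have : ∑ i ∈ s, Function.update x a (min t (cap a)) i = ∑ i ∈ s, x i := by
        apply Finset.sum_congr rfl
        intro i hi
        have hne : i ≠ a := fun h => ha (h ▸ hi)
        rw [Function.update_of_ne hne]
      rw [this, hx2]
      omega

end Groth.Agent.Lib.Helper15.HodgeS
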