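import Mathlib
import Groth.Agent.Lib.Helper15.HodgeS3

set_option autoImplicit false
set_option linter.style.haveILetI false
set_option linter.unusedSectionVars false

namespace Groth.Agent.Lib.Helper15.HodgeS

open MvPowerSeries Finset

lemma sum_e2 {ι : Type*} (s : Finset ι) (u v : ι → ℕ) :
    ∑ i ∈ s, e2 (u i) (v i) = e2 (∑ i ∈ s, u i) (∑ i ∈ s, v i) := by
  classical
  induction s using Finset.induction_on with
  | empty => simp [e2_zero_zero]
  | insert a s ha ih =>
    rw [Finset.sum_insert ha, Finset.sum_insert ha, Finset.sum_insert ha, ih, e2_add]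

theorem main_forward (d : ℕ) (a : Fin d → ℕ) (ha : ∀ i, 1 ≤ a i)
    (Hs : Fin d → MvPowerSeries (Fin 2) ℤ) (p q : ℕ)
    (hH : ∀ i, (1 - Pser (a i)) * Hs i = Nser (a i))
    (P : Finset (Fin d)) (hPne : P.Nonempty)
    (hne : coeff (e2 p q) (((1 + X 0) * (1 + X 1)) ^ (P.card - 1) * ∏ i ∈ P, Hs i) ≠ 0) :
    p + q + d < p * Finset.univ.sup a + ∑ i, a i := by
  classical
  have hNN : ∀ i, NN (Hs i) := fun i =>
    NN_of_rec (NN_Pser _) (coeff_zero_Pser _) (NN_Nser _) (hH i)
  rw [coeff_mul_ne_zero (NN_base.pow _) (NN.prod _ _ (fun i _ => hNN i))] at hne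
  obtain ⟨d1, d2, hd, h1, h2⟩ := hne
  rw [← e2_eta d1, coeff_base_pow_ne_zero] at h1
  rw [coeff_prod_ne_zero P Hs (fun i _ => hNN i)] at h2
  obtain ⟨g, hg1, hg2⟩ := h2
  have hk : ∀ i ∈ P, ∃ k, k ≤ g i 0 ∧ k ≤ g i 1 ∧ g i 0 + g i 1 + 2 ≤ (k + 1) * a i := by
    intro i hi
    have := hg1 i hi
    rwa [← e2_eta (g i), coeff_H_ne_zero (a i) (Hs i) (hH i)] at this
  choose! k hk1 hk2 hk3 using hk
  have hgsum : ∑ i ∈ P, g i = e2 (∑ i ∈ P, g i 0) (∑ i ∈ P, g i 1) := by
    rw [← sum_e2]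
    exact Finset.sum_congr rfl fun i _ => (e2_eta (g i)).symm
  rw [← hg2, hgsum, ← e2_eta d1, e2_add, e2_inj] at hd
  obtain ⟨hp, hq⟩ := hd
  set A := Finset.univ.sup a with hAdef
  have hA : ∀ i, a i ≤ A := fun i => Finset.le_sup (Finset.mem_univ i)
  have hsum : ∑ i ∈ P, (g i 0 + g i 1 + 2) ≤ ∑ i ∈ P, (k i * A + a i) := by
    apply Finset.sum_le_sum
    intro i hi
    have h3 := hk3 i hi
    have e1 : (k i + 1) * a i = k i * a i + a i := by ring
    have e2' : k i * a i ≤ k i * A := Nat.mul_le_mul_left _ (hA i)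
    omega
  rw [Finset.sum_add_distrib, Finset.sum_add_distrib, Finset.sum_add_distrib, Finset.sum_const,
    ← Finset.sum_mul, smul_eq_mul] at hsum
  have hks : ∑ i ∈ P, k i ≤ ∑ i ∈ P, g i 0 := Finset.sum_le_sum hk1
  have hcard : P.card ≤ d := by simpa using Finset.card_le_univ P
  have hPa : ∑ i ∈ P, a i + (d - P.card) ≤ ∑ i, a i := by
    rw [← Finset.sum_sdiff (Finset.subset_univ P)]
    have h1' : (Finset.univ \ P).card ≤ ∑ i ∈ Finset.univ \ P, a i := by
      rw [Finset.card_eq_sum_ones]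
      exact Finset.sum_le_sum fun i _ => ha i
    have h2' : (Finset.univ \ P).card = d - P.card := by
      rw [Finset.card_sdiff_of_subset (Finset.subset_univ P)]; simp
    omega
  have hPpos : 1 ≤ P.card := hPne.card_pos
  have hA1 : 1 ≤ A := by
    obtain ⟨i, _⟩ := hPne
    exact (ha i).trans (hA i)
  have h5 : (∑ i ∈ P, k i) * A ≤ (∑ i ∈ P, g i 0) * A := Nat.mul_le_mul_right _ hks
  have h6 : d1 0 ≤ d1 0 * A := Nat.le_mul_of_pos_right _ hA1
  have h7 : p * A = d1 0 * A + (∑ i ∈ P, g i 0) * A := by rw [← hp]; ring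
  omega

theorem main_backward (d : ℕ) (a : Fin d → ℕ) (ha : ∀ i, 1 ≤ a i)
    (Hs : Fin d → MvPowerSeries (Fin 2) ℤ) (p q : ℕ) (hpq : p ≤ q)
    (hH : ∀ i, (1 - Pser (a i)) * Hs i = Nser (a i))
    (hlt : p + q + d < p * Finset.univ.sup a + ∑ i, a i) :
    ∃ P : Finset (Fin d), P.Nonempty ∧
      coeff (e2 p q) (((1 + X 0) * (1 + X 1)) ^ (P.card - 1) * ∏ i ∈ P, Hs i) ≠ 0 := by
  classical
  have hNN : ∀ i, NN (Hs i) := fun i =>
    NN_of_rec (NN_Pser _) (coeff_zero_Pser _) (NN_Nser _) (hH i)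
  set A := Finset.univ.sup a with hAdef
  have hA : ∀ i, a i ≤ A := fun i => Finset.le_sup (Finset.mem_univ i)
  have hA2 : 2 ≤ A := by
    by_contra hlt2
    have hA1 : A ≤ 1 := by omega
    have hall : ∀ i, a i = 1 := fun i => le_antisymm ((hA i).trans hA1) (ha i)
    have hs : ∑ i, a i = d := by simp [hall]
    have : p * A ≤ p * 1 := Nat.mul_le_mul_left _ hA1
    omega
  have hne : (Finset.univ : Finset (Fin d)).Nonempty := by
    by_contra h
    rw [Finset.not_nonempty_iff_eq_empty] at h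
    have : A = 0 := by rw [hAdef, h]; simp
    omega
  obtain ⟨i0, -, hi0⟩ := Finset.exists_mem_eq_sup Finset.univ hne a
  rw [← hAdef] at hi0
  set P := Finset.univ.filter (fun i => 2 ≤ a i) with hPdef
  have hi0P : i0 ∈ P := by
    rw [hPdef, Finset.mem_filter]; exact ⟨Finset.mem_univ _, by omega⟩
  have hPa2 : ∀ i ∈ P, 2 ≤ a i := fun i hi => (Finset.mem_filter.mp hi).2
  have hsplit : ∑ i, a i = ∑ i ∈ P, a i + (d - P.card) := by
    rw [← Finset.sum_filter_add_sum_filter_not Finset.univ (fun i => 2 ≤ a i) a, ← hPdef]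
    congr 1
    have h1 : ∑ i ∈ Finset.univ.filter (fun i => ¬ 2 ≤ a i), a i =
        (Finset.univ.filter (fun i => ¬ 2 ≤ a i)).card := by
      rw [Finset.card_eq_sum_ones]
      apply Finset.sum_congr rfl
      intro i hi
      have := (Finset.mem_filter.mp hi).2
      have := ha i
      omega
    have h2 := Finset.card_filter_add_card_filter_not
      (s := (Finset.univ : Finset (Fin d))) (fun i => 2 ≤ a i)
    rw [← hPdef, Finset.card_univ, Fintype.card_fin] at h2
    omega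
  have hcard : P.card ≤ d := by simpa using Finset.card_le_univ P
  have hPpos : 1 ≤ P.card := Finset.card_pos.mpr ⟨i0, hi0P⟩
  -- sums over P
  have hSP : ∑ i ∈ P, a i = A + ∑ i ∈ P.erase i0, a i := by
    rw [← Finset.add_sum_erase P a hi0P, hi0]
  have hSE : ∑ i ∈ P.erase i0, (a i - 2) + 2 * (P.card - 1) = ∑ i ∈ P.erase i0, a i := by
    rw [← Finset.card_erase_of_mem hi0P, mul_comm, ← smul_eq_mul, ← Finset.sum_const,
      ← Finset.sum_add_distrib]
    apply Finset.sum_congr rfl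
    intro i hi
    have := hPa2 i (Finset.mem_of_mem_erase hi)
    omega
  have hpA : p * 2 ≤ p * A := Nat.mul_le_mul_left _ hA2
  have hp1A : (p + 1) * A = p * A + A := by ring
  set cap : Fin d → ℕ := fun i => if i = i0 then (p + 1) * A - 2 - 2 * p else a i - 2 with hcap
  have hcapsum : ∑ i ∈ P, cap i = ((p + 1) * A - 2 - 2 * p) + ∑ i ∈ P.erase i0, (a i - 2) := by
    rw [← Finset.add_sum_erase P cap hi0P]
    congr 1
    · simp [hcap]
    · apply Finset.sum_congr rfl
      intro i hi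
      have : i ≠ i0 := Finset.ne_of_mem_erase hi
      simp [hcap, this]
  set f := min (q - p) (P.card - 1) with hf
  have hf1 : f ≤ q - p := min_le_left _ _
  have hf2 : f ≤ P.card - 1 := min_le_right _ _
  have hf3 : f = q - p ∨ f = P.card - 1 := by
    rcases min_choice (q - p) (P.card - 1) with h' | h' <;> [left; right] <;> omega
  obtain ⟨x, hx1, hx2⟩ := exists_fill P cap (q - p - f) (by rw [hcapsum]; omega)
  refine ⟨P, ⟨i0, hi0P⟩, ?_⟩
  rw [coeff_mul_ne_zero (NN_base.pow _) (NN.prod _ _ (fun i _ => hNN i))]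
  refine ⟨e2 0 f, e2 p (q - f), ?_, ?_, ?_⟩
  · rw [e2_add, e2_inj]; omega
  · rw [coeff_base_pow_ne_zero]; omega
  · rw [coeff_prod_ne_zero P Hs (fun i _ => hNN i)]
    refine ⟨fun i => e2 (if i = i0 then p else 0) (x i + if i = i0 then p else 0), ?_, ?_⟩
    · intro i hi
      rw [coeff_H_ne_zero (a i) (Hs i) (hH i)]
      by_cases hi0' : i = i0
      · subst hi0'
        refine ⟨p, by simp, by simp, ?_⟩
        have := hx1 i hi
        simp only [hcap, if_true] at this ⊢
        rw [← hi0]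
        omega
      · refine ⟨0, by omega, by omega, ?_⟩
        have := hx1 i hi
        have h2 := hPa2 i hi
        simp only [hcap, if_neg hi0'] at this ⊢
        omega
    · rw [sum_e2, e2_inj, Finset.sum_add_distrib, hx2, Finset.sum_ite_eq' P i0 (fun _ => p),
        if_pos hi0P]
      omega

theorem main (d : ℕ) (a : Fin d → ℕ) (ha : ∀ i, 1 ≤ a i)
    (Hs : Fin d → MvPowerSeries (Fin 2) ℤ) (p q : ℕ) (hpq : p ≤ q)
    (hH : ∀ i, (1 - Pser (a i)) * Hs i = Nser (a i)) :
    coeff (Finsupp.single 0 p + Finsupp.single 1 q)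
      (∑ P ∈ (Finset.univ : Finset (Fin d)).powerset with P.Nonempty,
        ((1 + X 0) * (1 + X 1)) ^ (P.card - 1) * ∏ i ∈ P, Hs i) ≠ 0 ↔
      p + q + d < p * Finset.univ.sup a + ∑ i, a i := by
  classical
  have hNN : ∀ i, NN (Hs i) := fun i =>
    NN_of_rec (NN_Pser _) (coeff_zero_Pser _) (NN_Nser _) (hH i)
  change coeff (e2 p q) _ ≠ 0 ↔ _
  rw [coeff_sum_ne_zero _ _
    (fun P _ => (NN_base.pow _).mul (NN.prod _ _ (fun i _ => hNN i)))]
  constructor
  · rintro ⟨P, hP, hne⟩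
    rw [Finset.mem_filter] at hP
    exact main_forward d a ha Hs p q hH P hP.2 hne
  · intro hlt
    obtain ⟨P, hPne, hne⟩ := main_backward d a ha Hs p q hpq hH hlt
    exact ⟨P, Finset.mem_filter.mpr ⟨Finset.mem_powerset.mpr (Finset.subset_univ P), hPne⟩, hne⟩

end Groth.Agent.Lib.Helper15.HodgeS
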