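import Mathlib
import Groth.Agent.Lib.Helper15.HodgeS4

set_option autoImplicit false
set_option linter.style.haveILetI false
set_option linter.unusedSectionVars false

namespace Groth.Agent.Lib.Helper15.HodgeS

open MvPowerSeries Finset

theorem level (d : ℕ) (a : Fin d → ℕ) (ha : ∀ i, 1 ≤ a i)
    (i₀ : Fin d) (hi₀ : ∀ i, a i ≤ a i₀)
    (Hs : Fin d → MvPowerSeries (Fin 2) ℤ) (n l : ℕ) (hl : l < n) (hpar : l % 2 = n % 2)
    (hH : ∀ i, (1 - Pser (a i)) * Hs i = Nser (a i)) :
    (∀ p q : ℕ, p + q = n → p ≤ q → l < q - p →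
        coeff (Finsupp.single 0 p + Finsupp.single 1 q)
          (∑ P ∈ (Finset.univ : Finset (Fin d)).powerset with P.Nonempty,
            ((1 + X 0) * (1 + X 1)) ^ (P.card - 1) * ∏ i ∈ P, Hs i) = 0) ↔
      2 * (∑ i ∈ Finset.univ.erase i₀, ((a i : ℤ) - 1)) + ((a i₀ : ℤ) - 2) * ((n : ℤ) - l)
        ≤ 2 * ((l : ℤ) + 1) := by
  classical
  have key := fun p q hpq => main d a ha Hs p q hpq hH
  have hsup : Finset.univ.sup a = a i₀ :=
    le_antisymm (Finset.sup_le fun i _ => hi₀ i) (Finset.le_sup (Finset.mem_univ i₀))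
  rw [hsup] at key
  set A := a i₀ with hA
  set S := ∑ i, a i with hS
  have hsum : ∑ i ∈ Finset.univ.erase i₀, ((a i : ℤ) - 1) = (S : ℤ) - A - ((d : ℤ) - 1) := by
    rw [Finset.sum_sub_distrib, Finset.sum_const, Finset.card_erase_of_mem (Finset.mem_univ i₀),
      Finset.card_univ, Fintype.card_fin]
    have h1 : (S : ℤ) = (A : ℤ) + ∑ i ∈ Finset.univ.erase i₀, (a i : ℤ) := by
      rw [hS, ← Finset.add_sum_erase Finset.univ a (Finset.mem_univ i₀)]
      push_cast
      rfl
    have hd1 : 1 ≤ d := by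
      have := Fin.pos i₀
      omega
    rw [h1]
    simp only [nsmul_eq_mul, mul_one]
    push_cast [Nat.cast_sub hd1]
    ring
  rw [hsum]
  obtain ⟨m, hm⟩ : ∃ m, n = l + 2 * m := ⟨(n - l) / 2, by omega⟩
  have hm1 : 1 ≤ m := by omega
  subst hm
  constructor
  · intro h
    have h0 := h (m - 1) (l + m + 1) (by omega) (by omega) (by omega)
    have h1 := (key (m - 1) (l + m + 1) (by omega)).not.mp (by simpa using h0)
    obtain ⟨m', rfl⟩ : ∃ m', m = m' + 1 := ⟨m - 1, by omega⟩
    simp only [Nat.add_sub_cancel] at h1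
    have h2 : ((m' : ℤ) * A + S) ≤ (m' : ℤ) + (l + (m' + 1) + 1) + d := by
      have : m' * A + S ≤ m' + (l + (m' + 1) + 1) + d := by omega
      exact_mod_cast this
    push_cast
    nlinarith [h2]
  · intro h p q hpq hle hlt
    by_contra hne
    have h1 := (key p q hle).mp hne
    have hp : p ≤ m - 1 := by omega
    have h2 : p * A ≤ (m - 1) * A := Nat.mul_le_mul_right _ hp
    obtain ⟨m', rfl⟩ : ∃ m', m = m' + 1 := ⟨m - 1, by omega⟩
    simp only [Nat.add_sub_cancel] at h2
    have h3 : (l + 2 * (m' + 1) : ℤ) + d < (m' : ℤ) * A + S := by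
      have : l + 2 * (m' + 1) + d < m' * A + S := by omega
      exact_mod_cast this
    push_cast at h
    nlinarith [h, h3]

end Groth.Agent.Lib.Helper15.HodgeS
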