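import Mathlib

/-!
# Closed complement of a locally open-closed piece (helper15), for S9303
-/

set_option autoImplicit false
set_option linter.style.haveILetI false
universe u

namespace Groth.Agent.Lib.Helper15.IdemLocCompl

section generic

variable {A : Type*} [CommRing A] (f : A) (Af : Type*) [CommRing Af] [Algebra A Af]
  [IsLocalization.Away f Af] {C : Type*} [CommRing C] [Algebra A C]
  (Cf : Type*) [CommRing Cf] [Algebra C Cf]
  [IsLocalization (Algebra.algebraMapSubmonoid C (Submonoid.powers f)) Cf]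
  [Algebra Af Cf] [Algebra A Cf] [IsScalarTower A Af Cf] [IsScalarTower A C Cf]
  (e : Af) (he : IsIdempotentElem e) [IsLocalization.Away e Cf]

include he in
lemma map_e : algebraMap Af Cf e = 1 := by
  have h1 : IsUnit (algebraMap Af Cf e) := IsLocalization.Away.algebraMap_isUnit e
  have h2 : algebraMap Af Cf e * algebraMap Af Cf e = algebraMap Af Cf e * 1 := by
    rw [← map_mul, he.eq, mul_one]
  exact h1.mul_left_cancel h2

include he in
lemma map_eq_zero_iff (x : Af) : algebraMap Af Cf x = 0 ↔ e * x = 0 := by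
  rw [IsLocalization.map_eq_zero_iff (Submonoid.powers e) Cf x]
  constructor
  · rintro ⟨⟨_, n, rfl⟩, hm⟩
    simp only at hm
    rcases n with _ | n
    · rw [pow_zero, one_mul] at hm
      rw [hm, mul_zero]
    · rwa [he.pow_succ_eq] at hm
  · intro h
    exact ⟨⟨e, 1, pow_one e⟩, h⟩

include he in
lemma map_surjective : Function.Surjective (algebraMap Af Cf) := by
  intro c
  obtain ⟨⟨x, ⟨_, n, rfl⟩⟩, hx⟩ := IsLocalization.surj (Submonoid.powers e) c
  simp only at hx
  refine ⟨x, ?_⟩
  rw [← hx, map_pow, map_e Af Cf e he, one_pow, mul_one]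

lemma map_A_eq_zero_iff (z : A) : algebraMap A Af z = 0 ↔ ∃ n : ℕ, f ^ n * z = 0 := by
  rw [IsLocalization.map_eq_zero_iff (Submonoid.powers f) Af z]
  constructor
  · rintro ⟨⟨_, n, rfl⟩, hm⟩
    exact ⟨n, hm⟩
  · rintro ⟨n, hn⟩
    exact ⟨⟨f ^ n, n, rfl⟩, hn⟩

lemma map_C_eq_zero_iff (c : C) :
    algebraMap C Cf c = 0 ↔ ∃ n : ℕ, algebraMap A C (f ^ n) * c = 0 := by
  rw [IsLocalization.map_eq_zero_iff (Algebra.algebraMapSubmonoid C (Submonoid.powers f)) Cf c]
  constructor
  · rintro ⟨⟨_, _, ⟨n, rfl⟩, rfl⟩, hm⟩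
    exact ⟨n, hm⟩
  · rintro ⟨n, hn⟩
    exact ⟨⟨algebraMap A C (f ^ n), f ^ n, ⟨n, rfl⟩, rfl⟩, hn⟩

include he Cf in
lemma e_mul_map_of_map_eq_zero (a' : A) (h : algebraMap A C a' = 0) :
    e * algebraMap A Af a' = 0 := by
  rw [← map_eq_zero_iff Af Cf e he, ← IsScalarTower.algebraMap_apply,
    IsScalarTower.algebraMap_apply A C Cf, h, map_zero]

include he Cf in
lemma exists_rep_one_sub_e : ∃ (d : A) (n k : ℕ), algebraMap A C (f ^ n * d) = 0 ∧
    (1 - e) * (algebraMap A Af f) ^ k = algebraMap A Af d := by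
  obtain ⟨k, d, hd⟩ := IsLocalization.Away.surj f (1 - e : Af)
  have h1 : algebraMap Af Cf (algebraMap A Af d) = 0 := by
    rw [← hd, map_mul, map_sub, map_one, map_e Af Cf e he, sub_self, zero_mul]
  rw [← IsScalarTower.algebraMap_apply, IsScalarTower.algebraMap_apply A C Cf,
    map_C_eq_zero_iff f Cf] at h1
  obtain ⟨n, hn⟩ := h1
  exact ⟨d, n, k, by rw [map_mul]; exact hn, hd⟩

include he Cf in
lemma exists_pow_mul_eq_zero (a a' : A) (ha : (1 - e) * algebraMap A Af a = 0)
    (ha' : algebraMap A C a' = 0) : ∃ n : ℕ, f ^ n * (a * a') = 0 := by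
  rw [← map_A_eq_zero_iff f Af, map_mul]
  have h1 := e_mul_map_of_map_eq_zero Af Cf e he a' ha'
  calc algebraMap A Af a * algebraMap A Af a'
      = ((1 - e) * algebraMap A Af a) * algebraMap A Af a' +
          algebraMap A Af a * (e * algebraMap A Af a') := by ring
    _ = 0 := by rw [ha, h1, zero_mul, mul_zero, add_zero]

lemma one_sub_e_mul_eq_zero (d : A) (n k : ℕ)
    (hd : (1 - e) * (algebraMap A Af f) ^ k = algebraMap A Af d) (z : A) (M : ℕ)
    (hz : f ^ M * (z * (f ^ n * d)) = 0) : (1 - e) * algebraMap A Af z = 0 := by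
  have hu : IsUnit (algebraMap A Af f) := IsLocalization.Away.algebraMap_isUnit f
  have h1 : algebraMap A Af (f ^ M * (z * (f ^ n * d))) = 0 := by rw [hz, map_zero]
  simp only [map_mul, map_pow] at h1
  have h2 : algebraMap A Af z * algebraMap A Af d = 0 := by
    have h3 : (algebraMap A Af f) ^ (M + n) * (algebraMap A Af z * algebraMap A Af d) = 0 := by
      rw [← h1, pow_add]; ring
    exact (hu.pow (M + n)).mul_right_eq_zero.mp h3
  rw [← hd] at h2
  have h4 : ((1 - e) * algebraMap A Af z) * (algebraMap A Af f) ^ k = 0 := by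
    rw [← h2]; ring
  exact (hu.pow k).mul_left_eq_zero.mp h4

end generic

section prod

theorem isLocalization_prod {A : Type*} [CommRing A] (f : A) (Af : Type*) [CommRing Af]
    [Algebra A Af] [IsLocalization.Away f Af] {C : Type*} [CommRing C] [Algebra A C]
    (Cf : Type*) [CommRing Cf] [Algebra C Cf]
    [IsLocalization (Algebra.algebraMapSubmonoid C (Submonoid.powers f)) Cf]
    [Algebra Af Cf] [Algebra A Cf] [IsScalarTower A Af Cf] [IsScalarTower A C Cf]
    (e : Af) (he : IsIdempotentElem e) [IsLocalization.Away e Cf]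
    (K : Ideal A) (Bf : Type*) [CommRing Bf] [Algebra (C × (A ⧸ K)) Bf]
    [IsLocalization (Algebra.algebraMapSubmonoid (C × (A ⧸ K)) (Submonoid.powers f)) Bf]
    [Algebra A Bf] [IsScalarTower A (C × (A ⧸ K)) Bf]
    (hK1 : ∀ a ∈ K, (1 - e) * algebraMap A Af a = 0)
    (hK2 : ∀ w : A, (1 - e) * algebraMap A Af w = 0 → ∃ N : ℕ, f ^ N * w ∈ K) :
    IsLocalization (Submonoid.powers f) Bf := by
  have hzeroB : ∀ b : C × (A ⧸ K), algebraMap (C × (A ⧸ K)) Bf b = 0 ↔
      ∃ n : ℕ, algebraMap A (C × (A ⧸ K)) (f ^ n) * b = 0 := by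
    intro b
    rw [IsLocalization.map_eq_zero_iff
      (Algebra.algebraMapSubmonoid (C × (A ⧸ K)) (Submonoid.powers f)) Bf b]
    constructor
    · rintro ⟨⟨_, _, ⟨n, rfl⟩, rfl⟩, hm⟩
      exact ⟨n, hm⟩
    · rintro ⟨n, hn⟩
      exact ⟨⟨algebraMap A (C × (A ⧸ K)) (f ^ n), f ^ n, ⟨n, rfl⟩, rfl⟩, hn⟩
  have hunit : ∀ n : ℕ, IsUnit (algebraMap A Bf (f ^ n)) := by
    intro n
    rw [IsScalarTower.algebraMap_apply A (C × (A ⧸ K)) Bf]
    exact IsLocalization.map_units Bf
      (⟨algebraMap A (C × (A ⧸ K)) (f ^ n), f ^ n, ⟨n, rfl⟩, rfl⟩ :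
        Algebra.algebraMapSubmonoid (C × (A ⧸ K)) (Submonoid.powers f))
  rw [isLocalization_iff]
  refine ⟨?_, ?_, ?_⟩
  · rintro ⟨_, n, rfl⟩
    exact hunit n
  · intro z
    obtain ⟨⟨b, ⟨_, _, ⟨n, rfl⟩, rfl⟩⟩, hz⟩ := IsLocalization.surj
      (Algebra.algebraMapSubmonoid (C × (A ⧸ K)) (Submonoid.powers f)) z
    simp only at hz
    obtain ⟨c, abar⟩ := b
    obtain ⟨a, rfl⟩ := Ideal.Quotient.mk_surjective abar
    obtain ⟨x₀, hx₀⟩ := map_surjective Af Cf e he (algebraMap C Cf c)
    set y : Af := e * x₀ + (1 - e) * algebraMap A Af a with hy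
    obtain ⟨m, a', ha'⟩ := IsLocalization.Away.surj f y
    -- component in `C`
    have hC : ∃ N : ℕ, algebraMap A C (f ^ N) *
        (algebraMap A C (f ^ m) * c - algebraMap A C a') = 0 := by
      rw [← map_C_eq_zero_iff f Cf, map_sub, map_mul, ← hx₀,
        ← IsScalarTower.algebraMap_apply A C Cf, ← IsScalarTower.algebraMap_apply A C Cf,
        IsScalarTower.algebraMap_apply A Af Cf, IsScalarTower.algebraMap_apply A Af Cf,
        ← map_mul, ← map_sub, map_eq_zero_iff Af Cf e he, ← ha', map_pow, hy]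
      have := he.eq
      calc e * ((algebraMap A Af f) ^ m * x₀ -
            (e * x₀ + (1 - e) * algebraMap A Af a) * (algebraMap A Af f) ^ m)
          = (e - e * e) * ((algebraMap A Af f) ^ m * x₀) -
            (e - e * e) * (algebraMap A Af a * (algebraMap A Af f) ^ m) := by ring
        _ = 0 := by rw [this, sub_self, zero_mul, zero_mul, sub_zero]
    -- component in `A ⧸ K`
    have hA : ∃ N : ℕ, f ^ N * (f ^ m * a - a') ∈ K := by
      apply hK2
      rw [map_sub, map_mul, map_pow, ← ha', hy]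
      have := he.eq
      calc (1 - e) * ((algebraMap A Af f) ^ m * algebraMap A Af a -
            (e * x₀ + (1 - e) * algebraMap A Af a) * (algebraMap A Af f) ^ m)
          = (e - e * e) * ((algebraMap A Af f) ^ m * algebraMap A Af a) -
            (e - e * e) * (x₀ * (algebraMap A Af f) ^ m) := by ring
        _ = 0 := by rw [this, sub_self, zero_mul, zero_mul, sub_zero]
    obtain ⟨N₁, hN₁⟩ := hC
    obtain ⟨N₂, hN₂⟩ := hA
    refine ⟨(a', ⟨f ^ (n + m), n + m, rfl⟩), ?_⟩
    simp only
    have hkey : algebraMap (C × (A ⧸ K)) Bf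
        (algebraMap A (C × (A ⧸ K)) (f ^ m) * (c, Ideal.Quotient.mk K a) -
          algebraMap A (C × (A ⧸ K)) a') = 0 := by
      rw [hzeroB]
      refine ⟨N₁ + N₂, ?_⟩
      apply Prod.ext
      · simp only [Prod.fst_mul, Prod.fst_sub, Prod.fst_zero, Prod.algebraMap_apply, Prod.mk.eta]
        rw [pow_add, map_mul, mul_assoc, mul_comm (algebraMap A C (f ^ N₁)), mul_assoc]
        rw [mul_comm _ (algebraMap A C (f ^ N₁)), hN₁, mul_zero]
      · simp only [Prod.snd_mul, Prod.snd_sub, Prod.snd_zero, Prod.algebraMap_apply,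
          Ideal.Quotient.algebraMap_eq]
        rw [← map_mul, ← map_sub, ← map_mul, Ideal.Quotient.eq_zero_iff_mem, pow_add, mul_assoc]
        exact K.mul_mem_left _ hN₂
    rw [map_sub, sub_eq_zero, map_mul, ← IsScalarTower.algebraMap_apply A (C × (A ⧸ K)) Bf,
      ← IsScalarTower.algebraMap_apply A (C × (A ⧸ K)) Bf] at hkey
    rw [← hkey, pow_add, map_mul, ← mul_assoc,
      IsScalarTower.algebraMap_apply A (C × (A ⧸ K)) Bf (f ^ n), hz]
    ring
  · intro x y hxy
    have h0 : algebraMap (C × (A ⧸ K)) Bf (algebraMap A (C × (A ⧸ K)) (x - y)) = 0 := by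
      rw [← IsScalarTower.algebraMap_apply A (C × (A ⧸ K)) Bf, map_sub, hxy, sub_self]
    rw [hzeroB] at h0
    obtain ⟨n, hn⟩ := h0
    rw [← map_mul] at hn
    have hnC : algebraMap A C (f ^ n * (x - y)) = 0 := by
      have := congrArg Prod.fst hn
      simpa using this
    have hnK : f ^ n * (x - y) ∈ K := by
      have := congrArg Prod.snd hn
      simp only [Prod.algebraMap_apply, Ideal.Quotient.algebraMap_eq, Prod.snd_zero] at this
      exact Ideal.Quotient.eq_zero_iff_mem.mp this
    have h1 := e_mul_map_of_map_eq_zero Af Cf e he _ hnC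
    have h2 := hK1 _ hnK
    have h3 : algebraMap A Af (f ^ n * (x - y)) = 0 := by
      calc algebraMap A Af (f ^ n * (x - y))
          = (1 - e) * algebraMap A Af (f ^ n * (x - y)) +
              e * algebraMap A Af (f ^ n * (x - y)) := by ring
        _ = 0 := by rw [h1, h2, add_zero]
    rw [map_A_eq_zero_iff f Af] at h3
    obtain ⟨m, hm⟩ := h3
    refine ⟨⟨f ^ (m + n), m + n, rfl⟩, ?_⟩
    simp only
    rw [← sub_eq_zero, ← mul_sub, pow_add, mul_assoc]
    exact hm

end prod


theorem main (A : Type u) [CommRing A] (I : Ideal A) (hI : I.FG) (C : Type u) [CommRing C]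
    [Algebra A C]
    (h : ∀ f ∈ I, ∃ e : Localization.Away f, IsIdempotentElem e ∧
      IsLocalization.Away e (Localization (Algebra.algebraMapSubmonoid C (Submonoid.powers f)))) :
    ∃ K : Ideal A, ∀ f ∈ I, Function.Bijective
      (algebraMap (Localization.Away f)
        (Localization (Algebra.algebraMapSubmonoid (C × (A ⧸ K)) (Submonoid.powers f)))) := by
  classical
  obtain ⟨S, hS⟩ := hI
  have hSI : ∀ g ∈ S, g ∈ I := fun g hg => hS ▸ Ideal.subset_span hg
  choose e he heloc using h
  let Kf : ∀ f (_ : f ∈ I), Ideal A := fun f hf =>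
    LinearMap.ker ((LinearMap.mulLeft A (1 - e f hf)) ∘ₗ
      (Algebra.linearMap A (Localization.Away f)))
  have hKf : ∀ f hf a, a ∈ Kf f hf ↔
      (1 - e f hf) * algebraMap A (Localization.Away f) a = 0 := fun f hf a => Iff.rfl
  let K : Ideal A := ⨅ g : S, Kf g (hSI g g.2)
  have hKmem : ∀ a, a ∈ K ↔ ∀ g (hg : g ∈ S), a ∈ Kf g (hSI g hg) := by
    intro a
    simp only [K, Ideal.mem_iInf]
    constructor
    · intro h g hg
      exact h ⟨g, hg⟩
    · intro h g
      exact h g g.2
  -- P1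
  have P1 : ∀ f (hf : f ∈ I), ∀ a ∈ K, (1 - e f hf) * algebraMap A (Localization.Away f) a = 0 := by
    intro f hf a ha
    haveI := heloc f hf
    obtain ⟨d, n, k, hd0, hd⟩ := exists_rep_one_sub_e (C := C) f (Localization.Away f)
      (Localization (Algebra.algebraMapSubmonoid C (Submonoid.powers f))) (e f hf) (he f hf)
    -- the annihilator of `a * (f^n * d)`
    let J : Ideal A := LinearMap.ker (LinearMap.mulRight A (a * (f ^ n * d)))
    have hJ : ∀ r, r ∈ J ↔ r * (a * (f ^ n * d)) = 0 := fun r => Iff.rfl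
    have hrad : I ≤ J.radical := by
      rw [← hS, Ideal.span_le]
      intro g hg
      haveI := heloc g (hSI g hg)
      obtain ⟨ng, hng⟩ := exists_pow_mul_eq_zero (C := C) g (Localization.Away g)
        (Localization (Algebra.algebraMapSubmonoid C (Submonoid.powers g))) (e g (hSI g hg))
        (he g (hSI g hg)) a (f ^ n * d) ((hKf _ _ _).mp ((hKmem a).mp ha g hg)) hd0
      exact ⟨ng, (hJ _).mpr hng⟩
    obtain ⟨M, hM⟩ := hrad hf
    exact one_sub_e_mul_eq_zero f (Localization.Away f) (e f hf) d n k hd a M ((hJ _).mp hM)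
  -- P2
  have P2 : ∀ f (hf : f ∈ I) (w : A), (1 - e f hf) * algebraMap A (Localization.Away f) w = 0 →
      ∃ N : ℕ, f ^ N * w ∈ K := by
    intro f hf w hw
    haveI := heloc f hf
    have hstep : ∀ g : S, ∃ N : ℕ, ∀ N' ≥ N, f ^ N' * w ∈ Kf g (hSI g g.2) := by
      intro g
      haveI := heloc g (hSI g g.2)
      obtain ⟨d, n, k, hd0, hd⟩ := exists_rep_one_sub_e (C := C) (g : A) (Localization.Away (g : A))
        (Localization (Algebra.algebraMapSubmonoid C (Submonoid.powers (g : A))))
        (e g (hSI g g.2)) (he g (hSI g g.2))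
      obtain ⟨N, hN⟩ := exists_pow_mul_eq_zero (C := C) f (Localization.Away f)
        (Localization (Algebra.algebraMapSubmonoid C (Submonoid.powers f))) (e f hf)
        (he f hf) w ((g : A) ^ n * d) hw hd0
      refine ⟨N, fun N' hN' => ?_⟩
      rw [hKf]
      refine one_sub_e_mul_eq_zero (g : A) (Localization.Away (g : A)) (e g (hSI g g.2)) d n k hd
        (f ^ N' * w) 0 ?_
      rw [pow_zero, one_mul, mul_assoc]
      obtain ⟨j, rfl⟩ := Nat.exists_eq_add_of_le hN'
      rw [pow_add, mul_comm (f ^ N) (f ^ j), mul_assoc, hN, mul_zero]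
    choose Nf hNf using hstep
    refine ⟨Finset.univ.sup Nf, ?_⟩
    rw [hKmem]
    intro g hg
    exact hNf ⟨g, hg⟩ _ (Finset.le_sup (f := Nf) (Finset.mem_univ (⟨g, hg⟩ : S)))
  refine ⟨K, fun f hf => ?_⟩
  haveI := heloc f hf
  haveI hloc : IsLocalization (Submonoid.powers f)
      (Localization (Algebra.algebraMapSubmonoid (C × (A ⧸ K)) (Submonoid.powers f))) :=
    isLocalization_prod (C := C) f (Localization.Away f)
      (Localization (Algebra.algebraMapSubmonoid C (Submonoid.powers f))) (e f hf) (he f hf) K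
      (Localization (Algebra.algebraMapSubmonoid (C × (A ⧸ K)) (Submonoid.powers f)))
      (P1 f hf) (P2 f hf)
  let ψ := IsLocalization.algEquiv (Submonoid.powers f) (Localization.Away f)
    (Localization (Algebra.algebraMapSubmonoid (C × (A ⧸ K)) (Submonoid.powers f)))
  have heq : algebraMap (Localization.Away f)
      (Localization (Algebra.algebraMapSubmonoid (C × (A ⧸ K)) (Submonoid.powers f))) =
      (ψ : Localization.Away f →+* _) := by
    refine IsLocalization.ringHom_ext (Submonoid.powers f) (RingHom.ext fun a => ?_)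
    show algebraMap (Localization.Away f)
      (Localization (Algebra.algebraMapSubmonoid (C × (A ⧸ K)) (Submonoid.powers f)))
      (algebraMap A (Localization.Away f) a) = ψ (algebraMap A (Localization.Away f) a)
    rw [ψ.commutes, ← IsScalarTower.algebraMap_apply A (Localization.Away f)
      (Localization (Algebra.algebraMapSubmonoid (C × (A ⧸ K)) (Submonoid.powers f)))]
  rw [heq]
  exact ψ.bijective

end Groth.Agent.Lib.Helper15.IdemLocCompl
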