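import Mathlib
import Groth.Prelude.Def_FlatCA
import Groth.Agent.Lib.Helper15.ImpBC

/-!
# Descent of purity along flat local base changes (helper15), S1217
-/

set_option autoImplicit false
set_option linter.style.haveILetI false
set_option linter.unusedSectionVars false
set_option linter.style.longLine false
universe u

open TensorProduct

namespace Groth.Agent.Lib.Helper15.ImpBC2

attribute [local instance] Algebra.TensorProduct.rightAlgebra

section primes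

variable {A A' A₁ : Type u} [CommRing A] [CommRing A'] [CommRing A₁] [Algebra A A'] [Algebra A A₁]
  (p' : Ideal A') [p'.IsPrime] [Module.Flat A (Localization.AtPrime p')]
  (t₁' t₁ : Ideal A₁) [t₁'.IsPrime] [t₁.IsPrime] (hle : t₁' ≤ t₁)
  (L : Type u) [Field L] [Algebra A L] (ψ₁ : A₁ →ₐ[A] L) (ψ' : A' →ₐ[A] L)
  (h₁ : RingHom.ker ψ₁ = t₁) (h' : RingHom.ker ψ' = p')

include hle h₁ h' in
theorem exists_primes :
    ∃ (t₂' t₂ : Ideal (A' ⊗[A] A₁)) (_ : t₂'.IsPrime) (_ : t₂.IsPrime), t₂' ≤ t₂ ∧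
      t₂'.comap (algebraMap A₁ (A' ⊗[A] A₁)) = t₁' ∧
      t₂.comap (algebraMap A₁ (A' ⊗[A] A₁)) = t₁ ∧
      t₂ = RingHom.ker (Algebra.TensorProduct.lift ψ' ψ₁ (fun _ _ => .all _ _) :
        A' ⊗[A] A₁ →ₐ[A] L) := by
  -- the localized map
  have hunit : ∀ y : p'.primeCompl, IsUnit (ψ' y) := by
    intro y
    rw [isUnit_iff_ne_zero]
    intro h0
    have : (y : A') ∈ RingHom.ker ψ' := h0
    rw [h'] at this
    exact y.2 this
  let ψl : Localization.AtPrime p' →ₐ[A] L := IsLocalization.liftAlgHom (M := p'.primeCompl) hunit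
  have hψl : ∀ a : A', ψl (algebraMap A' (Localization.AtPrime p') a) = ψ' a := by
    intro a
    exact IsLocalization.lift_eq _ a
  let Ψ : A₁ ⊗[A] Localization.AtPrime p' →ₐ[A] L :=
    Algebra.TensorProduct.lift ψ₁ ψl (fun _ _ => .all _ _)
  haveI hT₂ : (RingHom.ker Ψ).IsPrime := RingHom.ker_isPrime Ψ
  haveI : (RingHom.ker Ψ).LiesOver t₁ := ⟨by
    ext a
    rw [Ideal.under_def, Ideal.mem_comap, RingHom.mem_ker, ← h₁, RingHom.mem_ker]
    show _ ↔ Ψ (a ⊗ₜ 1) = 0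
    simp [Ψ]⟩
  obtain ⟨T₂', hT₂'le, hT₂'p, hT₂'lo⟩ :=
    Ideal.exists_ideal_le_liesOver_of_le (p := t₁') (q := t₁) (RingHom.ker Ψ) hle
  -- the map from `A' ⊗ A₁`
  let σ : A' ⊗[A] A₁ →ₐ[A] A₁ ⊗[A] Localization.AtPrime p' :=
    Algebra.TensorProduct.lift
      ((Algebra.TensorProduct.includeRight (R := A) (A := A₁)
        (B := Localization.AtPrime p')).comp (IsScalarTower.toAlgHom A A' (Localization.AtPrime p')))
      (Algebra.TensorProduct.includeLeft (R := A) (S := A) (A := A₁)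
        (B := Localization.AtPrime p')) (fun _ _ => .all _ _)
  have hσr : ∀ a : A₁, σ (algebraMap A₁ (A' ⊗[A] A₁) a) = algebraMap A₁ _ a := by
    intro a
    show σ (1 ⊗ₜ a) = a ⊗ₜ 1
    simp [σ]
  refine ⟨T₂'.comap σ.toRingHom, (RingHom.ker Ψ).comap σ.toRingHom, inferInstance, inferInstance,
    Ideal.comap_mono hT₂'le, ?_, ?_, ?_⟩
  · ext a
    rw [Ideal.mem_comap, Ideal.mem_comap]
    show σ _ ∈ T₂' ↔ _
    rw [hσr, hT₂'lo.over, Ideal.under_def, Ideal.mem_comap]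
  · ext a
    rw [Ideal.mem_comap, Ideal.mem_comap]
    show σ _ ∈ RingHom.ker Ψ ↔ _
    rw [hσr, ‹(RingHom.ker Ψ).LiesOver t₁›.over, Ideal.under_def, Ideal.mem_comap]
  · ext z
    rw [Ideal.mem_comap, RingHom.mem_ker, RingHom.mem_ker]
    have : ∀ z, Ψ (σ z) = (Algebra.TensorProduct.lift ψ' ψ₁ (fun _ _ => .all _ _) :
        A' ⊗[A] A₁ →ₐ[A] L) z := by
      intro z
      induction z using TensorProduct.induction_on with
      | zero => simp
      | tmul x y => simp [σ, Ψ, hψl, mul_comm]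
      | add x y hx hy => rw [map_add, map_add, hx, hy, map_add]
    exact (this z) ▸ Iff.rfl

end primes

section convert

variable {A B : Type u} [CommRing A] [CommRing B] [Algebra A B]
  (N : Type u) [AddCommGroup N] [Module B N] (p : Ideal A) [p.IsPrime]
  (A' B' N' : Type u) [CommRing A'] [CommRing B'] [Algebra A A'] [Algebra B B'] [Algebra A' B']
  [Algebra A B'] [IsScalarTower A B B'] [IsScalarTower A A' B'] [Algebra.IsPushout A B A' B']
  [AddCommGroup N'] [Module B' N'] [Module B N'] [IsScalarTower B B' N'] (f : N →ₗ[B] N')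
  (hf : IsBaseChange B' f) (p' : Ideal A') [p'.IsPrime]
  (A₂ B₂ N₂ : Type u) [CommRing A₂] [CommRing B₂] [Algebra A A₂] [Algebra B B₂] [Algebra A₂ B₂]
  [Algebra A B₂] [IsScalarTower A B B₂] [IsScalarTower A A₂ B₂]
  [AddCommGroup N₂] [Module B₂ N₂] [Module B N₂] [IsScalarTower B B₂ N₂] [Module A₂ N₂]
  [IsScalarTower A₂ B₂ N₂]
  (f₂ : N →ₗ[B] N₂) (t₂' t₂ : Ideal A₂) [t₂'.IsPrime] [t₂.IsPrime] (P₂ : Ideal B₂) [P₂.IsPrime]
  (himp : FlatCA.IsImpurity A B N p A₂ B₂ N₂ f₂ t₂' t₂ P₂)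
  [Algebra A' A₂] [IsScalarTower A A' A₂] (hp' : t₂.comap (algebraMap A' A₂) = p')

include hf himp hp' in
theorem impurity_convert :
    ∃ (_ : Algebra B' B₂) (_ : Algebra A' B₂) (_ : IsScalarTower A' B' B₂)
      (_ : IsScalarTower A' A₂ B₂) (_ : Module B' N₂) (_ : IsScalarTower B' B₂ N₂)
      (f₂' : N' →ₗ[B'] N₂), FlatCA.IsImpurity A' B' N' p' A₂ B₂ N₂ f₂' t₂' t₂ P₂ := by
  obtain ⟨hpo, hbc, hle, hlo, hPlo, hass, hcl⟩ := himp
  letI : Algebra A' B₂ := ((algebraMap A₂ B₂).comp (algebraMap A' A₂)).toAlgebra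
  haveI : IsScalarTower A' A₂ B₂ := .of_algebraMap_eq (fun _ => rfl)
  haveI : IsScalarTower A A' B₂ := .of_algebraMap_eq (fun x => by
    change _ = algebraMap A₂ B₂ (algebraMap A' A₂ (algebraMap A A' x))
    rw [← IsScalarTower.algebraMap_apply A A' A₂, ← IsScalarTower.algebraMap_apply A A₂ B₂])
  let φ : B' →ₐ[A] B₂ := Algebra.pushoutDesc B' (IsScalarTower.toAlgHom A B B₂)
    (IsScalarTower.toAlgHom A A' B₂) (fun _ _ => mul_comm _ _)
  letI : Algebra B' B₂ := φ.toRingHom.toAlgebra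
  haveI : IsScalarTower B B' B₂ := .of_algebraMap_eq (fun x =>
    (Algebra.pushoutDesc_left B' (IsScalarTower.toAlgHom A B B₂)
      (IsScalarTower.toAlgHom A A' B₂) (fun _ _ => mul_comm _ _) x).symm)
  haveI : IsScalarTower A' B' B₂ := .of_algebraMap_eq (fun x =>
    (Algebra.pushoutDesc_right B' (IsScalarTower.toAlgHom A B B₂)
      (IsScalarTower.toAlgHom A A' B₂) (fun _ _ => mul_comm _ _) x).symm)
  haveI : IsScalarTower A B' B₂ := .of_algebraMap_eq (fun x => by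
    rw [IsScalarTower.algebraMap_apply A B B₂, IsScalarTower.algebraMap_apply B B' B₂,
      ← IsScalarTower.algebraMap_apply A B B'])
  letI : Module B' N₂ := Module.compHom N₂ (algebraMap B' B₂)
  haveI : IsScalarTower B' B₂ N₂ := ⟨fun b b' n => by
    change (b • b') • n = algebraMap B' B₂ b • (b' • n)
    rw [Algebra.smul_def, mul_smul]⟩
  haveI : IsScalarTower B B' N₂ := ⟨fun b b' n => by
    change algebraMap B' B₂ (b • b') • n = b • (algebraMap B' B₂ b' • n)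
    rw [Algebra.smul_def, map_mul, mul_smul, ← IsScalarTower.algebraMap_apply B B' B₂,
      algebraMap_smul]⟩
  have hpo' : Algebra.IsPushout A' B' A₂ B₂ := by
    haveI : Algebra.IsPushout A A' B B' := Algebra.IsPushout.symm inferInstance
    exact Algebra.IsPushout.symm
      ((Algebra.IsPushout.comp_iff A A' B B' (T := A₂) (T' := B₂)).mp hpo.symm)
  let f₂' : N' →ₗ[B'] N₂ := hf.lift f₂
  have hcomp : (f₂'.restrictScalars B).comp f = f₂ := hf.lift_comp f₂
  have hbc' : IsBaseChange B₂ f₂' := IsBaseChange.of_comp hf (by rw [hcomp]; exact hbc)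
  refine ⟨inferInstance, inferInstance, inferInstance, inferInstance, inferInstance,
    inferInstance, f₂', hpo', hbc', hle, ⟨?_⟩, hPlo, hass, hcl⟩
  rw [Ideal.under_def, hp']

end convert

section field

theorem exists_common_field {A A₁ A' : Type u} [CommRing A] [CommRing A₁] [CommRing A']
    [Algebra A A₁] [Algebra A A']
    (p : Ideal A) [p.IsPrime] (t₁ : Ideal A₁) [t₁.IsPrime] [t₁.LiesOver p]
    (p' : Ideal A') [p'.IsPrime] [p'.LiesOver p] :
    ∃ (L : Type u) (_ : Field L) (_ : Algebra A L) (ψ₁ : A₁ →ₐ[A] L) (ψ' : A' →ₐ[A] L),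
      RingHom.ker ψ₁ = t₁ ∧ RingHom.ker ψ' = p' := by
  let ι₁ : p.ResidueField →+* t₁.ResidueField :=
    Ideal.ResidueField.map p t₁ (algebraMap A A₁) (Ideal.LiesOver.over)
  let ι' : p.ResidueField →+* p'.ResidueField :=
    Ideal.ResidueField.map p p' (algebraMap A A') (Ideal.LiesOver.over)
  letI : Algebra p.ResidueField t₁.ResidueField := ι₁.toAlgebra
  letI : Algebra p.ResidueField p'.ResidueField := ι'.toAlgebra
  haveI : Nontrivial (t₁.ResidueField ⊗[p.ResidueField] p'.ResidueField) :=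
    Algebra.TensorProduct.nontrivial_of_algebraMap_injective_of_flat_left p.ResidueField
      t₁.ResidueField p'.ResidueField (algebraMap p.ResidueField p'.ResidueField).injective
  obtain ⟨M, hM⟩ := Ideal.exists_maximal (t₁.ResidueField ⊗[p.ResidueField] p'.ResidueField)
  letI : Field ((t₁.ResidueField ⊗[p.ResidueField] p'.ResidueField) ⧸ M) :=
    Ideal.Quotient.field M
  let j₁ : t₁.ResidueField →+* (t₁.ResidueField ⊗[p.ResidueField] p'.ResidueField) ⧸ M :=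
    (Ideal.Quotient.mk M).comp (Algebra.TensorProduct.includeLeft (R := p.ResidueField)
      (S := p.ResidueField) (A := t₁.ResidueField) (B := p'.ResidueField)).toRingHom
  let j' : p'.ResidueField →+* (t₁.ResidueField ⊗[p.ResidueField] p'.ResidueField) ⧸ M :=
    (Ideal.Quotient.mk M).comp (Algebra.TensorProduct.includeRight (R := p.ResidueField)
      (A := t₁.ResidueField) (B := p'.ResidueField)).toRingHom
  let g₁ : A₁ →+* (t₁.ResidueField ⊗[p.ResidueField] p'.ResidueField) ⧸ M :=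
    j₁.comp (algebraMap A₁ t₁.ResidueField)
  let g' : A' →+* (t₁.ResidueField ⊗[p.ResidueField] p'.ResidueField) ⧸ M :=
    j'.comp (algebraMap A' p'.ResidueField)
  have hcomm : ∀ a : A, g₁ (algebraMap A A₁ a) = g' (algebraMap A A' a) := by
    intro a
    show Ideal.Quotient.mk M ((algebraMap A₁ t₁.ResidueField (algebraMap A A₁ a)) ⊗ₜ 1) =
      Ideal.Quotient.mk M (1 ⊗ₜ (algebraMap A' p'.ResidueField (algebraMap A A' a)))
    congr 1
    have e1 : algebraMap A₁ t₁.ResidueField (algebraMap A A₁ a) =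
        algebraMap p.ResidueField t₁.ResidueField (algebraMap A p.ResidueField a) :=
      (Ideal.ResidueField.map_algebraMap p t₁ (algebraMap A A₁) (Ideal.LiesOver.over) a).symm
    have e2 : algebraMap A' p'.ResidueField (algebraMap A A' a) =
        algebraMap p.ResidueField p'.ResidueField (algebraMap A p.ResidueField a) :=
      (Ideal.ResidueField.map_algebraMap p p' (algebraMap A A') (Ideal.LiesOver.over) a).symm
    rw [e1, e2, Algebra.algebraMap_eq_smul_one, Algebra.algebraMap_eq_smul_one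
      (A := p'.ResidueField), TensorProduct.smul_tmul]
  letI : Algebra A ((t₁.ResidueField ⊗[p.ResidueField] p'.ResidueField) ⧸ M) :=
    (g₁.comp (algebraMap A A₁)).toAlgebra
  refine ⟨_, inferInstance, inferInstance, { g₁ with commutes' := fun a => rfl },
    { g' with commutes' := fun a => (hcomm a).symm }, ?_, ?_⟩
  · ext x
    rw [RingHom.mem_ker]
    show j₁ (algebraMap A₁ t₁.ResidueField x) = 0 ↔ _
    rw [map_eq_zero_iff _ j₁.injective, Ideal.algebraMap_residueField_eq_zero]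
  · ext x
    rw [RingHom.mem_ker]
    show j' (algebraMap A' p'.ResidueField x) = 0 ↔ _
    rw [map_eq_zero_iff _ j'.injective, Ideal.algebraMap_residueField_eq_zero]

theorem isEtaleNhd_baseChange {A A₁ A' : Type u} [CommRing A] [CommRing A₁] [CommRing A']
    [Algebra A A₁] [Algebra A A']
    (p : Ideal A) [p.IsPrime] (t₁ : Ideal A₁) [t₁.IsPrime] (p' : Ideal A') [p'.IsPrime]
    [p'.LiesOver p] (hEt : FlatCA.IsEtaleNhd A A₁ p t₁) :
    ∃ (ψ₁ : A₁ →ₐ[A] p'.ResidueField), RingHom.ker ψ₁ = t₁ ∧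
      ∀ (t₂ : Ideal (A' ⊗[A] A₁)) [t₂.IsPrime],
        t₂ = RingHom.ker (Algebra.TensorProduct.lift (IsScalarTower.toAlgHom A A' p'.ResidueField)
          ψ₁ (fun _ _ => .all _ _) : A' ⊗[A] A₁ →ₐ[A] p'.ResidueField) →
        FlatCA.IsEtaleNhd A' (A' ⊗[A] A₁) p' t₂ := by
  obtain ⟨hetale, hlo, hbij⟩ := hEt
  let e : p.ResidueField ≃ₐ[A] t₁.ResidueField := AlgEquiv.ofBijective _ hbij
  let ι' : p.ResidueField →ₐ[A] p'.ResidueField :=
    Ideal.ResidueField.mapₐ p p' (Algebra.ofId A A') (Ideal.LiesOver.over)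
  let ψ₁ : A₁ →ₐ[A] p'.ResidueField :=
    ι'.comp ((e.symm : t₁.ResidueField →ₐ[A] p.ResidueField).comp
      (IsScalarTower.toAlgHom A A₁ t₁.ResidueField))
  refine ⟨ψ₁, ?_, ?_⟩
  · ext x
    rw [RingHom.mem_ker]
    show ι' (e.symm (algebraMap A₁ t₁.ResidueField x)) = 0 ↔ _
    rw [map_eq_zero_iff ι' ι'.toRingHom.injective, map_eq_zero_iff e.symm e.symm.injective,
      Ideal.algebraMap_residueField_eq_zero]
  · intro t₂ _ ht₂
    obtain ⟨Λ, hΛ⟩ : ∃ Λ : A' ⊗[A] A₁ →ₐ[A] p'.ResidueField, Λ = Algebra.TensorProduct.lift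
      (IsScalarTower.toAlgHom A A' p'.ResidueField) ψ₁ (fun _ _ => .all _ _) := ⟨_, rfl⟩
    rw [← hΛ] at ht₂
    have hΛl : ∀ a : A', Λ (algebraMap A' (A' ⊗[A] A₁) a) = algebraMap A' p'.ResidueField a := by
      intro a
      rw [hΛ]
      show (Algebra.TensorProduct.lift (IsScalarTower.toAlgHom A A' p'.ResidueField) ψ₁
        (fun _ _ => .all _ _) : A' ⊗[A] A₁ →ₐ[A] p'.ResidueField) (a ⊗ₜ 1) = _
      simp
    have hp' : t₂.comap (algebraMap A' (A' ⊗[A] A₁)) = p' := by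
      ext a
      rw [Ideal.mem_comap, ht₂, RingHom.mem_ker, hΛl, Ideal.algebraMap_residueField_eq_zero]
    haveI := hetale
    have hlo₂ : t₂.LiesOver p' := ⟨hp'.symm⟩
    refine ⟨inferInstance, hlo₂, ?_⟩
    obtain ⟨μ, hμ⟩ : ∃ μ : p'.ResidueField →ₐ[A'] t₂.ResidueField,
      μ = Ideal.ResidueField.mapₐ p' t₂ (Algebra.ofId A' (A' ⊗[A] A₁)) hlo₂.over := ⟨_, rfl⟩
    rw [← hμ]
    let τ : t₂.ResidueField →+* p'.ResidueField :=
      Ideal.ResidueField.lift t₂ Λ.toRingHom (by rw [ht₂]; exact le_rfl) (by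
        intro x hx
        rw [Submonoid.mem_comap, IsUnit.mem_submonoid_iff, isUnit_iff_ne_zero]
        intro h0
        apply hx
        rw [ht₂]
        exact h0)
    have hτμ : ∀ y, τ (μ y) = y := by
      intro y
      have : τ.comp μ.toRingHom = RingHom.id _ := by
        apply Ideal.ResidueField.ringHom_ext
        ext a
        simp only [RingHom.coe_comp, Function.comp_apply, RingHom.id_apply]
        show τ (μ (algebraMap A' p'.ResidueField a)) = _
        rw [hμ, Ideal.ResidueField.mapₐ_apply, Ideal.ResidueField.map_algebraMap]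
        show τ (algebraMap (A' ⊗[A] A₁) t₂.ResidueField (algebraMap A' (A' ⊗[A] A₁) a)) = _
        rw [Ideal.ResidueField.lift_algebraMap]
        exact hΛl a
      exact RingHom.congr_fun this y
    refine ⟨μ.toRingHom.injective, fun y => ⟨τ y, ?_⟩⟩
    apply τ.injective
    rw [hτμ]

end field

section main

variable {A B : Type u} [CommRing A] [CommRing B] [Algebra A B] [Algebra.FiniteType A B]
  (N : Type u) [AddCommGroup N] [Module B N] (p : Ideal A) [p.IsPrime]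
  (A' B' N' : Type u) [CommRing A'] [CommRing B'] [Algebra A A'] [Algebra B B'] [Algebra A' B']
  [Algebra A B'] [IsScalarTower A B B'] [IsScalarTower A A' B'] [Algebra.IsPushout A B A' B']
  [AddCommGroup N'] [Module B' N'] [Module B N'] [IsScalarTower B B' N'] (f : N →ₗ[B] N')
  (hf : IsBaseChange B' f) (p' : Ideal A') [p'.IsPrime] [Module.Flat A (Localization.AtPrime p')]
  (A₁ B₁ N₁ : Type u) [CommRing A₁] [CommRing B₁] [Algebra A A₁] [Algebra B B₁] [Algebra A₁ B₁]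
  [Algebra A B₁] [IsScalarTower A B B₁] [IsScalarTower A A₁ B₁] [AddCommGroup N₁] [Module B₁ N₁]
  [Module B N₁] [IsScalarTower B B₁ N₁] [Module A₁ N₁] [IsScalarTower A₁ B₁ N₁]
  (f₁ : N →ₗ[B] N₁) (t₁' t₁ : Ideal A₁) [t₁'.IsPrime] [t₁.IsPrime] (P₁ : Ideal B₁) [P₁.IsPrime]
  (himp : FlatCA.IsImpurity A B N p A₁ B₁ N₁ f₁ t₁' t₁ P₁)
  (L : Type u) [Field L] [Algebra A L] (ψ₁ : A₁ →ₐ[A] L) (ψ' : A' →ₐ[A] L)
  (h₁ : RingHom.ker ψ₁ = t₁) (h' : RingHom.ker ψ' = p')

include hf himp h₁ h' in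
theorem exists_impurity_baseChange :
    ∃ (B₂ N₂ : Type u) (_ : CommRing B₂) (_ : Algebra B' B₂) (_ : Algebra (A' ⊗[A] A₁) B₂)
      (_ : Algebra A' B₂) (_ : IsScalarTower A' B' B₂) (_ : IsScalarTower A' (A' ⊗[A] A₁) B₂)
      (_ : AddCommGroup N₂) (_ : Module B₂ N₂) (_ : Module B' N₂) (_ : IsScalarTower B' B₂ N₂)
      (_ : Module (A' ⊗[A] A₁) N₂) (_ : IsScalarTower (A' ⊗[A] A₁) B₂ N₂) (f₂ : N' →ₗ[B'] N₂)
      (t₂' t₂ : Ideal (A' ⊗[A] A₁)) (_ : t₂'.IsPrime) (_ : t₂.IsPrime) (P₂ : Ideal B₂)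
      (_ : P₂.IsPrime),
      FlatCA.IsImpurity A' B' N' p' (A' ⊗[A] A₁) B₂ N₂ f₂ t₂' t₂ P₂ ∧
      t₂ = RingHom.ker (Algebra.TensorProduct.lift ψ' ψ₁ (fun _ _ => .all _ _) :
        A' ⊗[A] A₁ →ₐ[A] L) := by
  obtain ⟨t₂', t₂, ht₂'p, ht₂p, hle₂, hc', hc, hker⟩ :=
    exists_primes p' t₁' t₁ himp.2.2.1 L ψ₁ ψ' h₁ h'
  obtain ⟨B₂, N₂, i1, i2, i3, i4, i5, i6, i7, i8, i9, i10, i11, i12, f₂, P₂, hP₂, himp₂⟩ :=
    ImpBC.exists_impurity N p A₁ B₁ N₁ f₁ t₁' t₁ P₁ himp (A' ⊗[A] A₁) t₂' t₂ hle₂ hc' hc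
  have hp' : t₂.comap (algebraMap A' (A' ⊗[A] A₁)) = p' := by
    ext a
    rw [Ideal.mem_comap, hker, RingHom.mem_ker, ← h', RingHom.mem_ker]
    show (Algebra.TensorProduct.lift ψ' ψ₁ (fun _ _ => .all _ _) : A' ⊗[A] A₁ →ₐ[A] L)
      (a ⊗ₜ 1) = 0 ↔ _
    simp
  obtain ⟨j1, j2, j3, j4, j5, j6, f₂', himp₂'⟩ :=
    impurity_convert N p A' B' N' f hf p' (A' ⊗[A] A₁) B₂ N₂ f₂ t₂' t₂ P₂ himp₂ hp'
  exact ⟨B₂, N₂, i1, j1, i3, j2, j3, j4, i7, i8, j5, j6, i11, i12, f₂', t₂', t₂, ht₂'p, ht₂p, P₂,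
    hP₂, himp₂', hker⟩

end main

theorem main1217 {A B : Type u} [CommRing A] [CommRing B] [Algebra A B] [Algebra.FiniteType A B]
    (N : Type u) [AddCommGroup N] [Module B N] (p : Ideal A) [p.IsPrime]
    (A' B' N' : Type u) [CommRing A'] [CommRing B'] [Algebra A A'] [Algebra B B'] [Algebra A' B']
    [Algebra A B'] [IsScalarTower A B B'] [IsScalarTower A A' B'] [Algebra.IsPushout A B A' B']
    [AddCommGroup N'] [Module B' N'] [Module B N'] [IsScalarTower B B' N'] (f : N →ₗ[B] N')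
    (hf : IsBaseChange B' f)
    (p' : Ideal A') [p'.IsPrime] [p'.LiesOver p] [Module.Flat A (Localization.AtPrime p')] :
    (FlatCA.IsPureAlong A' B' N' p' → FlatCA.IsPureAlong A B N p) ∧
    (FlatCA.IsUnivPureAlong A' B' N' p' → FlatCA.IsUnivPureAlong A B N p) := by
  constructor
  · intro hpure A₁ B₁ N₁ _ _ _ _ _ _ _ _ _ _ _ _ _ _ f₁ t₁' t₁ _ _ P₁ _ hEt himp
    obtain ⟨ψ₁, hψ₁, hnhd⟩ := isEtaleNhd_baseChange p t₁ p' hEt
    have hψ' : RingHom.ker (IsScalarTower.toAlgHom A A' p'.ResidueField) = p' := by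
      ext x
      rw [RingHom.mem_ker]
      exact Ideal.algebraMap_residueField_eq_zero
    obtain ⟨B₂, N₂, i1, i2, i3, i4, i5, i6, i7, i8, i9, i10, i11, i12, f₂, t₂', t₂, i13, i14, P₂,
      i15, himp₂, hker⟩ := exists_impurity_baseChange N p A' B' N' f hf p' A₁ B₁ N₁ f₁ t₁' t₁ P₁
        himp p'.ResidueField ψ₁ (IsScalarTower.toAlgHom A A' p'.ResidueField) hψ₁ hψ'
    exact hpure (A' ⊗[A] A₁) B₂ N₂ f₂ t₂' t₂ P₂ (hnhd t₂ hker) himp₂
  · intro huniv A₁ B₁ N₁ _ _ _ _ _ _ _ _ _ _ _ _ _ _ f₁ t₁' t₁ _ _ P₁ _ himp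
    haveI : t₁.LiesOver p := himp.2.2.2.1
    obtain ⟨L, _, _, ψ₁, ψ', h₁, h'⟩ := exists_common_field p t₁ p'
    obtain ⟨B₂, N₂, i1, i2, i3, i4, i5, i6, i7, i8, i9, i10, i11, i12, f₂, t₂', t₂, i13, i14, P₂,
      i15, himp₂, hker⟩ := exists_impurity_baseChange N p A' B' N' f hf p' A₁ B₁ N₁ f₁ t₁' t₁ P₁
        himp L ψ₁ ψ' h₁ h'
    exact huniv (A' ⊗[A] A₁) B₂ N₂ f₂ t₂' t₂ P₂ himp₂

end Groth.Agent.Lib.Helper15.ImpBC2
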