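import Mathlib
import Groth.Prelude.Def_FlatCA
import Groth.Agent.Lib.Helper15.ImpBC

/-!
# Descent of impurities to a finite level (helper15)
-/

set_option autoImplicit false
set_option linter.style.haveILetI false
set_option linter.unusedSectionVars false
set_option linter.style.longLine false
universe u

open TensorProduct

namespace Groth.Agent.Lib.Helper15.ImpDesc

open Groth.Agent.Lib.Helper26 Groth.Agent.Lib.Helper15

attribute [local instance] Algebra.TensorProduct.rightAlgebra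

section fiber

variable {R S : Type u} [CommRing R] [CommRing S] [Algebra R S] (p : Ideal R) [p.IsPrime]

/-- the contraction of the fibre ideal of a prime over `p` is that prime -/
theorem mem_of_includeRight_mem_fiberIdeal (P : Ideal S) [P.IsPrime] [hPo : P.LiesOver p] (s : S)
    (hs : (Algebra.TensorProduct.includeRight (R := R) (A := p.ResidueField) (B := S)) s ∈
      FlatCA.fiberIdeal p P) : s ∈ P := by
  have hover : p = P.comap (Algebra.ofId R S).toRingHom := hPo.over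
  let φ : p.Fiber S →ₐ[R] P.ResidueField :=
    Algebra.TensorProduct.lift (Ideal.ResidueField.mapₐ p P (Algebra.ofId R S) hover)
      (IsScalarTower.toAlgHom R S P.ResidueField) (fun _ _ => .all _ _)
  have hq : FlatCA.fiberIdeal p P ≤ RingHom.ker φ.toRingHom := by
    unfold FlatCA.fiberIdeal
    rw [Ideal.map_le_iff_le_comap]
    intro y hy
    rw [Ideal.mem_comap, RingHom.mem_ker]
    change φ ((1 : p.ResidueField) ⊗ₜ[R] y) = 0
    simp only [φ, Algebra.TensorProduct.lift_tmul, map_one, one_mul]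
    exact Ideal.algebraMap_residueField_eq_zero.mpr hy
  have h1 := hq hs
  rw [RingHom.mem_ker] at h1
  change φ ((1 : p.ResidueField) ⊗ₜ[R] s) = 0 at h1
  simp only [φ, Algebra.TensorProduct.lift_tmul, map_one, one_mul] at h1
  exact Ideal.algebraMap_residueField_eq_zero.mp h1

variable (N : Type u) [AddCommGroup N] [Module S N] [Module R N] [IsScalarTower R S N]

theorem smul_toFiberMod_eq_zero_iff (s : S) (x : N) :
    s • FlatCA.toFiberMod p S N x = 0 ↔ (s • x) ⊗ₜ[R] (1 : p.ResidueField) = 0 := by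
  rw [← map_smul, ← FiberAss.fiberModEquiv_toFiberMod (S := S) p N (s • x)]
  exact ((FiberAss.fiberModEquiv (S := S) p N).map_eq_zero_iff).symm

/-- element-level description of the associated-prime condition -/
theorem exists_witness [Algebra.FiniteType R S] (P : Ideal S) [P.IsPrime] [P.LiesOver p]
    (hass : FlatCA.fiberIdeal p P ∈ associatedPrimes (p.Fiber S) (FlatCA.fiberMod p S N)) :
    ∃ x : N, ∀ b : S, b ∈ P ↔ (b • x) ⊗ₜ[R] (1 : p.ResidueField) = 0 := by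
  haveI : IsNoetherianRing (p.Fiber S) :=
    Algebra.FiniteType.isNoetherianRing p.ResidueField (p.Fiber S)
  obtain ⟨hprime, m, hm⟩ := (isAssociatedPrime_iff).1 hass
  obtain ⟨r, hr, x, hx⟩ := FiberAss.exists_smul_eq_tmul_one p N (FiberAss.fiberModEquiv p N m)
  refine ⟨x, fun b => ?_⟩
  have h1 : b ∈ P ↔ b • m = 0 := by
    rw [← FiberAss.includeRight_smul]
    constructor
    · intro hb
      have : (Algebra.TensorProduct.includeRight (R := R) (A := p.ResidueField) (B := S) b :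
          p.Fiber S) ∈ FlatCA.fiberIdeal p P := Ideal.mem_map_of_mem _ hb
      rw [hm, Submodule.mem_colon_singleton, Submodule.mem_bot] at this
      exact this
    · intro hb
      apply mem_of_includeRight_mem_fiberIdeal p P
      rw [hm, Submodule.mem_colon_singleton, Submodule.mem_bot]
      exact hb
  have h2 : (b • x) ⊗ₜ[R] (1 : p.ResidueField) = b • (x ⊗ₜ[R] (1 : p.ResidueField)) :=
    (TensorProduct.smul_tmul' b x (1 : p.ResidueField)).symm
  rw [h1, h2, ← hx, smul_comm, ← map_smul]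
  constructor
  · intro h
    rw [h, map_zero, smul_zero]
  · intro h
    have := FiberAss.eq_zero_of_smul_eq_zero p N hr _ h
    exact (FiberAss.fiberModEquiv p N).map_eq_zero_iff.1 this

/-- converse: a witness gives an associated prime of the fibre -/
theorem mem_associatedPrimes_of_witness [Algebra.FiniteType R S] (P : Ideal S) [P.IsPrime]
    [hPo : P.LiesOver p] (x : N)
    (hx : ∀ b : S, b ∈ P ↔ (b • x) ⊗ₜ[R] (1 : p.ResidueField) = 0) :
    FlatCA.fiberIdeal p P ∈ associatedPrimes (p.Fiber S) (FlatCA.fiberMod p S N) := by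
  haveI : IsNoetherianRing (p.Fiber S) :=
    Algebra.FiniteType.isNoetherianRing p.ResidueField (p.Fiber S)
  have h1 : P ∈ FlatCA.ass S (FlatCA.fiberMod p S N) := by
    rw [FiberAss.mem_ass_iff]
    refine ⟨inferInstance, FlatCA.toFiberMod p S N x, fun s => ?_⟩
    rw [hx, smul_toFiberMod_eq_zero_iff]
  obtain ⟨Q, hQ, hQc⟩ := (FiberAss.mem_ass_fiberMod_iff p N P hPo.over.symm).1 h1
  have hQe : FlatCA.fiberIdeal p P = Q := by
    unfold FlatCA.fiberIdeal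
    rw [← hQc]
    exact H12UnivInjAss.map_comap_includeRight p Q
  rw [hQe]
  obtain ⟨hQp, m, hm⟩ := hQ
  show IsAssociatedPrime Q _
  rw [isAssociatedPrime_iff]
  refine ⟨hQp, m, ?_⟩
  ext f
  rw [hm, Submodule.mem_annihilator_span_singleton, Submodule.mem_colon_singleton,
    Submodule.mem_bot]

end fiber

section core

variable {A₁ A₂ B₁ B₂ N₁ N₂ : Type u} [CommRing A₁] [CommRing A₂] [Algebra A₁ A₂]
  [CommRing B₁] [CommRing B₂] [Algebra A₁ B₁] [Algebra B₁ B₂] [Algebra A₂ B₂] [Algebra A₁ B₂]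
  [IsScalarTower A₁ B₁ B₂] [IsScalarTower A₁ A₂ B₂]
  [AddCommGroup N₁] [Module B₁ N₁] [Module A₁ N₁] [IsScalarTower A₁ B₁ N₁]
  [AddCommGroup N₂] [Module B₂ N₂] [Module B₁ N₂] [IsScalarTower B₁ B₂ N₂] [Module A₂ N₂]
  [IsScalarTower A₂ B₂ N₂]
  (hpo : Algebra.IsPushout A₁ A₂ B₁ B₂) (g : N₁ →ₗ[B₁] N₂) (hg : IsBaseChange B₂ g)
  (t₁ : Ideal A₁) (t₂ : Ideal A₂) [t₁.IsPrime] [t₂.IsPrime]
  (h12 : t₂.comap (algebraMap A₁ A₂) = t₁)

theorem map_smul_base (_hB₂ : (⊤ : Ideal B₂) = ⊤) (a : A₁) (n : N₁) :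
    g (a • n) = (algebraMap A₁ A₂ a) • g n := by
  rw [← algebraMap_smul B₁ a n, map_smul, ← algebraMap_smul B₂ (algebraMap A₁ B₁ a) (g n),
    ← IsScalarTower.algebraMap_apply A₁ B₁ B₂, IsScalarTower.algebraMap_apply A₁ A₂ B₂,
    algebraMap_smul]

include hpo hg h12 in
theorem witness_descend (P₂ : Ideal B₂) [P₂.IsPrime] (x₁ : N₁)
    (hx : ∀ b : B₂, b ∈ P₂ ↔ (b • g x₁) ⊗ₜ[A₂] (1 : t₂.ResidueField) = 0) (s : B₁) :
    s ∈ P₂.comap (algebraMap B₁ B₂) ↔ (s • x₁) ⊗ₜ[A₁] (1 : t₁.ResidueField) = 0 := by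
  rw [Ideal.mem_comap, hx, algebraMap_smul B₂ s (g x₁), ← map_smul]
  constructor
  · intro h
    by_contra hne
    exact ImpBC.tmul_one_ne_zero hpo g hg t₁ t₂ h12 (s • x₁) hne h
  · intro h
    obtain ⟨r, hr, hrx⟩ := (FiberAss.tmul_one_eq_zero_iff t₁ N₁ (s • x₁)).1 h
    refine (FiberAss.tmul_one_eq_zero_iff t₂ N₂ _).2 ⟨algebraMap A₁ A₂ r, ?_, ?_⟩
    · intro h'
      apply hr
      rw [← h12]
      exact h'
    · have h4 := ImpBC.map_mem_smul_top g hg t₁ t₂ h12 _ hrx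
      rw [map_smul_base (A₂ := A₂) (B₂ := B₂) g rfl] at h4
      exact h4

end core

section rep

/-- for a base change `f : M → N'` along `R → S`, the image spans -/
theorem span_range_eq_top_of_isBaseChange {R S M N' : Type*} [CommRing R] [CommRing S]
    [Algebra R S] [AddCommGroup M] [Module R M] [AddCommGroup N'] [Module R N'] [Module S N']
    [IsScalarTower R S N'] (f : M →ₗ[R] N') (hf : IsBaseChange S f) :
    Submodule.span S (Set.range f) = ⊤ := by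
  rw [eq_top_iff]
  rintro x -
  exact hf.inductionOn x _ (Submodule.zero_mem _) (fun m => Submodule.subset_span ⟨m, rfl⟩)
    (fun s n hn => Submodule.smul_mem _ s hn) (fun _ _ h1 h2 => Submodule.add_mem _ h1 h2)

variable {A B A₂ B₂ N N₂ : Type u} [CommRing A] [CommRing B] [Algebra A B]
  [CommRing A₂] [CommRing B₂] [Algebra A A₂] [Algebra B B₂] [Algebra A₂ B₂]
  [Algebra A B₂] [IsScalarTower A B B₂] [IsScalarTower A A₂ B₂]
  [AddCommGroup N] [Module B N] [AddCommGroup N₂] [Module B₂ N₂]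
  [Module B N₂] [IsScalarTower B B₂ N₂] [Module A₂ N₂] [IsScalarTower A₂ B₂ N₂]

theorem span_range_algebraMap_eq_top (hpo : Algebra.IsPushout A B A₂ B₂) :
    Submodule.span A₂ (Set.range (algebraMap B B₂)) = ⊤ := by
  have h := span_range_eq_top_of_isBaseChange _ hpo.symm.out
  rw [← h]
  congr 1

theorem span_range_eq_top (hpo : Algebra.IsPushout A B A₂ B₂) (f₂ : N →ₗ[B] N₂)
    (hbc : IsBaseChange B₂ f₂) : Submodule.span A₂ (Set.range f₂) = ⊤ := by
  have key : ∀ c : B₂, ∀ x ∈ Submodule.span A₂ (Set.range f₂),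
      c • x ∈ Submodule.span A₂ (Set.range f₂) := by
    intro c
    refine hpo.symm.out.inductionOn c _ ?_ ?_ ?_ ?_
    · intro x _
      rw [zero_smul]
      exact Submodule.zero_mem _
    · intro β x hx
      show (algebraMap B B₂ β) • x ∈ _
      induction hx using Submodule.span_induction with
      | mem y hy =>
        obtain ⟨n, rfl⟩ := hy
        rw [algebraMap_smul, ← map_smul]
        exact Submodule.subset_span ⟨_, rfl⟩
      | zero => rw [smul_zero]; exact Submodule.zero_mem _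
      | add y z _ _ hy hz => rw [smul_add]; exact Submodule.add_mem _ hy hz
      | smul a y _ hy => rw [smul_comm]; exact Submodule.smul_mem _ a hy
    · intro a c hc x hx
      rw [smul_assoc]
      exact Submodule.smul_mem _ a (hc x hx)
    · intro c c' hc hc' x hx
      rw [add_smul]
      exact Submodule.add_mem _ (hc x hx) (hc' x hx)
  rw [eq_top_iff]
  rintro x -
  exact hbc.inductionOn x _ (Submodule.zero_mem _) (fun m => Submodule.subset_span ⟨m, rfl⟩)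
    (fun c n hn => key c n hn) (fun _ _ h1 h2 => Submodule.add_mem _ h1 h2)

end rep

section impurity

variable {A B : Type u} [CommRing A] [CommRing B] [Algebra A B] [Algebra.FiniteType A B]
  (N : Type u) [AddCommGroup N] [Module B N] (p : Ideal A) [p.IsPrime]
  (A₂ B₂ N₂ : Type u) [CommRing A₂] [CommRing B₂] [Algebra A A₂] [Algebra B B₂] [Algebra A₂ B₂]
  [Algebra A B₂] [IsScalarTower A B B₂] [IsScalarTower A A₂ B₂] [AddCommGroup N₂] [Module B₂ N₂]
  [Module B N₂] [IsScalarTower B B₂ N₂] [Module A₂ N₂] [IsScalarTower A₂ B₂ N₂]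
  (f₂ : N →ₗ[B] N₂) (t₂' t₂ : Ideal A₂) [t₂'.IsPrime] [t₂.IsPrime] (P₂ : Ideal B₂) [P₂.IsPrime]
  (himp : FlatCA.IsImpurity A B N p A₂ B₂ N₂ f₂ t₂' t₂ P₂)
  (A₁ : Type u) [CommRing A₁] [Algebra A A₁] [Algebra A₁ A₂] [IsScalarTower A A₁ A₂]

include himp in
theorem isImpurity_descend_aux
    (B₁ N₁ : Type u) [CommRing B₁] [Algebra A₁ B₁] [Algebra B B₁] [Algebra A B₁]
    [IsScalarTower A B B₁] [IsScalarTower A A₁ B₁]
    (hpo₁ : Algebra.IsPushout A B A₁ B₁)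
    [Algebra B₁ B₂] [Algebra A₁ B₂] [IsScalarTower A₁ A₂ B₂] [IsScalarTower A₁ B₁ B₂]
    [IsScalarTower B B₁ B₂]
    [AddCommGroup N₁] [Module B₁ N₁] [Module B N₁] [IsScalarTower B B₁ N₁] [Module A₁ N₁]
    [IsScalarTower A₁ B₁ N₁]
    (f₁ : N →ₗ[B] N₁) (hbc₁ : IsBaseChange B₁ f₁)
    [Module B₁ N₂] [IsScalarTower B₁ B₂ N₂] [IsScalarTower B B₁ N₂]
    (g : N₁ →ₗ[B₁] N₂) (hgf : ∀ n, g (f₁ n) = f₂ n)
    (x₁ : N₁) (hx₁ : ∀ b : B₂, b ∈ P₂ ↔ (b • g x₁) ⊗ₜ[A₂] (1 : t₂'.ResidueField) = 0)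
    (s₁ : A₁) (hs₁ : algebraMap A₁ A₂ s₁ ∉ t₂) (y₁ : B₁) (hy₁ : algebraMap B₁ B₂ y₁ ∈ P₂)
    (hsy : algebraMap A₁ B₁ s₁ - y₁ ∈ (t₂.comap (algebraMap A₁ A₂)).map (algebraMap A₁ B₁)) :
    FlatCA.IsImpurity A B N p A₁ B₁ N₁ f₁ (t₂'.comap (algebraMap A₁ A₂))
      (t₂.comap (algebraMap A₁ A₂)) (P₂.comap (algebraMap B₁ B₂)) := by
  obtain ⟨hpo, hbc, hle, hlo, hPlo, hass, hcl⟩ := himp
  haveI : IsScalarTower A B₁ B₂ := .of_algebraMap_eq (fun x => by
    rw [IsScalarTower.algebraMap_apply A B B₁, ← IsScalarTower.algebraMap_apply B B₁ B₂,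
      ← IsScalarTower.algebraMap_apply A B B₂])
  haveI : Algebra.IsPushout A A₁ B B₁ := hpo₁.symm
  have hpo₁₂ : Algebra.IsPushout A₁ A₂ B₁ B₂ :=
    (Algebra.IsPushout.comp_iff A A₁ B B₁ (T := A₂) (T' := B₂)).mp hpo.symm
  have hg : IsBaseChange B₂ g := by
    refine IsBaseChange.of_comp hbc₁ ?_
    have : ((g : N₁ →ₗ[B] N₂) ∘ₗ f₁) = f₂ := LinearMap.ext hgf
    rw [this]
    exact hbc
  haveI : Algebra.FiniteType A₁ B₁ :=
    Algebra.FiniteType.equiv (inferInstance : Algebra.FiniteType A₁ (A₁ ⊗[A] B))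
      (Algebra.IsPushout.equiv A A₁ B B₁)
  haveI hP₁lo : (P₂.comap (algebraMap B₁ B₂)).LiesOver (t₂'.comap (algebraMap A₁ A₂)) := ⟨by
    rw [Ideal.under_def, Ideal.comap_comap, ← IsScalarTower.algebraMap_eq A₁ B₁ B₂,
      IsScalarTower.algebraMap_eq A₁ A₂ B₂, ← Ideal.comap_comap, ← Ideal.under_def (A := A₂),
      ← hPlo.over]⟩
  refine ⟨hpo₁, hbc₁, Ideal.comap_mono hle, ⟨?_⟩, hP₁lo, ?_, ?_⟩
  · rw [Ideal.under_def, Ideal.comap_comap, ← IsScalarTower.algebraMap_eq A A₁ A₂,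
      ← Ideal.under_def, ← hlo.over]
  · exact mem_associatedPrimes_of_witness _ N₁ _ x₁
      (witness_descend hpo₁₂ g hg _ t₂' rfl P₂ x₁ hx₁)
  · intro Q hQ hPQ hQlo
    have h1 : y₁ ∈ Q := hPQ (Ideal.mem_comap.2 hy₁)
    have h2 : algebraMap A₁ B₁ s₁ - y₁ ∈ Q := by
      have : (t₂.comap (algebraMap A₁ A₂)).map (algebraMap A₁ B₁) ≤ Q := by
        rw [Ideal.map_le_iff_le_comap]
        exact hQlo.over.le
      exact this hsy
    have h3 : algebraMap A₁ B₁ s₁ ∈ Q := by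
      have := Q.add_mem h2 h1
      rwa [sub_add_cancel] at this
    have h4 : s₁ ∈ Q.under A₁ := h3
    rw [← hQlo.over] at h4
    exact hs₁ h4

omit [Algebra A₁ A₂] [IsScalarTower A A₁ A₂] [Algebra A A₁] [CommRing A₁] in
include himp in
/-- the witnesses at the top level -/
theorem exists_level_data :
    ∃ (x₂ : N₂) (c₁ : N →₀ A₂) (s₂ : A₂) (y₂ : B₂) (c₂ : B →₀ A₂),
      (∀ b : B₂, b ∈ P₂ ↔ (b • x₂) ⊗ₜ[A₂] (1 : t₂'.ResidueField) = 0) ∧
      (c₁.sum fun n a => a • f₂ n) = x₂ ∧ s₂ ∉ t₂ ∧ y₂ ∈ P₂ ∧ (∀ β, c₂ β ∈ t₂) ∧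
      (c₂.sum fun β a => a • algebraMap B B₂ β) = algebraMap A₂ B₂ s₂ - y₂ := by
  obtain ⟨hpo, hbc, hle, hlo, hPlo, hass, hcl⟩ := himp
  haveI : Algebra.FiniteType A₂ B₂ := by
    haveI : Algebra.IsPushout A A₂ B B₂ := hpo.symm
    exact Algebra.FiniteType.equiv (inferInstance : Algebra.FiniteType A₂ (A₂ ⊗[A] B))
      (Algebra.IsPushout.equiv A A₂ B B₂)
  obtain ⟨x₂, hx₂⟩ := exists_witness t₂' N₂ P₂ hass
  have hspanN := span_range_eq_top hpo f₂ hbc
  obtain ⟨c₁, hc₁⟩ := (Finsupp.mem_span_range_iff_exists_finsupp (R := A₂) (v := f₂)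
    (x := x₂)).1 (by rw [hspanN]; trivial)
  obtain ⟨s₂, hs₂, y₂, hy₂, hsy₂⟩ : ∃ s₂ ∉ t₂, ∃ y₂ ∈ P₂,
      algebraMap A₂ B₂ s₂ - y₂ ∈ t₂.map (algebraMap A₂ B₂) := by
    by_contra hno
    push Not at hno
    have hdisj : Disjoint ((P₂ ⊔ t₂.map (algebraMap A₂ B₂) : Ideal B₂) : Set B₂)
        ((t₂.primeCompl.map (algebraMap A₂ B₂) : Submonoid B₂) : Set B₂) := by
      rw [Set.disjoint_left]
      rintro z hz ⟨s, hs, rfl⟩
      obtain ⟨y, hy, w, hw, hyw⟩ := Submodule.mem_sup.1 hz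
      apply hno s hs y hy
      rw [← hyw, add_sub_cancel_left]
      exact hw
    obtain ⟨Q, hQ, hJQ, hQM⟩ := Ideal.exists_le_prime_disjoint _ _ hdisj
    refine hcl Q (le_sup_left.trans hJQ) ⟨?_⟩
    apply le_antisymm
    · rw [Ideal.under_def, ← Ideal.map_le_iff_le_comap]
      exact le_sup_right.trans hJQ
    · intro a ha
      by_contra hat
      rw [Set.disjoint_left] at hQM
      exact hQM ha ⟨a, hat, rfl⟩
  have hspanB := span_range_algebraMap_eq_top hpo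
  have hmem : algebraMap A₂ B₂ s₂ - y₂ ∈
      t₂ • Submodule.span A₂ (Set.range (algebraMap B B₂)) := by
    rw [hspanB, Ideal.smul_top_eq_map]
    exact hsy₂
  obtain ⟨c₂, hc₂t, hc₂⟩ := (Submodule.mem_ideal_smul_span_iff_exists_sum t₂
    (algebraMap B B₂) _).1 hmem
  exact ⟨x₂, c₁, s₂, y₂, c₂, hx₂, hc₁, hs₂, hy₂, hc₂t, hc₂⟩

omit [Algebra A₁ A₂] [IsScalarTower A A₁ A₂] [Algebra A A₁] [CommRing A₁] in
include himp in
/-- an impurity descends to every `A`-algebra `A₁ → A₂` whose image contains a suitable finite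
set. -/
theorem exists_finset_descend :
    ∃ T : Finset A₂, ∀ (A₁ : Type u) [CommRing A₁] [Algebra A A₁] [Algebra A₁ A₂]
      [IsScalarTower A A₁ A₂], (∀ a ∈ T, ∃ x : A₁, algebraMap A₁ A₂ x = a) →
      ∃ (B₁ N₁ : Type u) (_ : CommRing B₁) (_ : Algebra B B₁) (_ : Algebra A₁ B₁)
        (_ : Algebra A B₁) (_ : IsScalarTower A B B₁) (_ : IsScalarTower A A₁ B₁)
        (_ : AddCommGroup N₁) (_ : Module B₁ N₁) (_ : Module B N₁) (_ : IsScalarTower B B₁ N₁)
        (_ : Module A₁ N₁) (_ : IsScalarTower A₁ B₁ N₁) (f₁ : N →ₗ[B] N₁) (P₁ : Ideal B₁)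
        (_ : P₁.IsPrime),
        FlatCA.IsImpurity A B N p A₁ B₁ N₁ f₁ (t₂'.comap (algebraMap A₁ A₂))
          (t₂.comap (algebraMap A₁ A₂)) P₁ := by
  classical
  obtain ⟨x₂, c₁, s₂, y₂, c₂, hx₂, hc₁, hs₂, hy₂, hc₂t, hc₂⟩ :=
    exists_level_data N p A₂ B₂ N₂ f₂ t₂' t₂ P₂ himp
  refine ⟨insert s₂ (c₁.support.image c₁ ∪ c₂.support.image c₂), ?_⟩
  intro A₁ _ _ _ _ hT
  let pre : A₂ → A₁ := fun a => if h : ∃ x : A₁, algebraMap A₁ A₂ x = a then h.choose else 0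
  have hpre : ∀ a, (∃ x : A₁, algebraMap A₁ A₂ x = a) → algebraMap A₁ A₂ (pre a) = a := by
    intro a h
    simp only [pre, dif_pos h]
    exact h.choose_spec
  have hpre₁ : ∀ n ∈ c₁.support, algebraMap A₁ A₂ (pre (c₁ n)) = c₁ n := fun n hn =>
    hpre _ (hT _ (Finset.mem_insert_of_mem (Finset.mem_union_left _
      (Finset.mem_image_of_mem _ hn))))
  have hpre₂ : ∀ β ∈ c₂.support, algebraMap A₁ A₂ (pre (c₂ β)) = c₂ β := fun β hβ =>
    hpre _ (hT _ (Finset.mem_insert_of_mem (Finset.mem_union_right _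
      (Finset.mem_image_of_mem _ hβ))))
  have hpres : algebraMap A₁ A₂ (pre s₂) = s₂ := hpre _ (hT _ (Finset.mem_insert_self _ _))
  -- the level-one data
  letI : Algebra A₁ B₂ := ((algebraMap A₂ B₂).comp (algebraMap A₁ A₂)).toAlgebra
  haveI : IsScalarTower A₁ A₂ B₂ := .of_algebraMap_eq (fun _ => rfl)
  haveI : IsScalarTower A A₁ B₂ := .of_algebraMap_eq (fun x => by
    change algebraMap A B₂ x = algebraMap A₂ B₂ (algebraMap A₁ A₂ (algebraMap A A₁ x))
    rw [← IsScalarTower.algebraMap_apply A A₁ A₂, ← IsScalarTower.algebraMap_apply A A₂ B₂])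
  let ψ : A₁ ⊗[A] B →ₐ[A₁] B₂ := Algebra.TensorProduct.lift (Algebra.ofId A₁ B₂)
    (IsScalarTower.toAlgHom A B B₂) (fun _ _ => .all _ _)
  letI : Algebra (A₁ ⊗[A] B) B₂ := ψ.toRingHom.toAlgebra
  haveI : IsScalarTower A₁ (A₁ ⊗[A] B) B₂ := .of_algebraMap_eq' ψ.comp_algebraMap.symm
  haveI : IsScalarTower B (A₁ ⊗[A] B) B₂ := .of_algebraMap_eq (fun b => by
    show algebraMap B B₂ b = ψ (1 ⊗ₜ b)
    simp only [ψ]
    rw [Algebra.TensorProduct.lift_tmul]
    simp)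
  letI : Module (A₁ ⊗[A] B) N₂ := Module.compHom N₂ (algebraMap (A₁ ⊗[A] B) B₂)
  haveI : IsScalarTower (A₁ ⊗[A] B) B₂ N₂ := ⟨fun b b' n => by
    change (b • b') • n = algebraMap _ B₂ b • (b' • n)
    rw [Algebra.smul_def, mul_smul]⟩
  haveI : IsScalarTower B (A₁ ⊗[A] B) N₂ := ⟨fun b b' n => by
    change algebraMap _ B₂ (b • b') • n = b • (algebraMap _ B₂ b' • n)
    rw [Algebra.smul_def, map_mul, mul_smul,
      ← IsScalarTower.algebraMap_apply B (A₁ ⊗[A] B) B₂, algebraMap_smul]⟩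
  let f₁ : N →ₗ[B] (A₁ ⊗[A] B) ⊗[B] N := TensorProduct.mk B (A₁ ⊗[A] B) N 1
  have hbc₁ : IsBaseChange (A₁ ⊗[A] B) f₁ := TensorProduct.isBaseChange B N (A₁ ⊗[A] B)
  let g : (A₁ ⊗[A] B) ⊗[B] N →ₗ[A₁ ⊗[A] B] N₂ := hbc₁.lift f₂
  have hgf : ∀ n, g (f₁ n) = f₂ n := fun n => hbc₁.lift_eq f₂ n
  have hpo₁ : Algebra.IsPushout A B A₁ (A₁ ⊗[A] B) := inferInstance
  -- the witnesses
  let x₁ : (A₁ ⊗[A] B) ⊗[B] N := c₁.sum fun n a => pre a • f₁ n
  have hgx : g x₁ = x₂ := by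
    rw [← hc₁]
    simp only [x₁, Finsupp.sum, map_sum]
    refine Finset.sum_congr rfl fun n hn => ?_
    rw [map_smul_base (A₂ := A₂) (B₂ := B₂) g rfl, hgf, hpre₁ n hn]
  let y₁ : A₁ ⊗[A] B := algebraMap A₁ (A₁ ⊗[A] B) (pre s₂) -
    c₂.sum fun β a => pre a • algebraMap B (A₁ ⊗[A] B) β
  have hy₁ : algebraMap (A₁ ⊗[A] B) B₂ y₁ = y₂ := by
    have h1 : algebraMap (A₁ ⊗[A] B) B₂ (c₂.sum fun β a => pre a • algebraMap B (A₁ ⊗[A] B) β) =
        algebraMap A₂ B₂ s₂ - y₂ := by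
      rw [← hc₂]
      simp only [Finsupp.sum, map_sum]
      refine Finset.sum_congr rfl fun β hβ => ?_
      rw [Algebra.smul_def, map_mul, ← IsScalarTower.algebraMap_apply A₁ (A₁ ⊗[A] B) B₂,
        ← IsScalarTower.algebraMap_apply B (A₁ ⊗[A] B) B₂,
        IsScalarTower.algebraMap_apply A₁ A₂ B₂, hpre₂ β hβ, ← Algebra.smul_def]
    simp only [y₁]
    rw [map_sub, h1, ← IsScalarTower.algebraMap_apply A₁ (A₁ ⊗[A] B) B₂,
      IsScalarTower.algebraMap_apply A₁ A₂ B₂, hpres, sub_sub_cancel]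
  have hsy : algebraMap A₁ (A₁ ⊗[A] B) (pre s₂) - y₁ ∈
      (t₂.comap (algebraMap A₁ A₂)).map (algebraMap A₁ (A₁ ⊗[A] B)) := by
    simp only [y₁]
    rw [sub_sub_cancel]
    refine Ideal.sum_mem _ fun β hβ => ?_
    show pre (c₂ β) • algebraMap B (A₁ ⊗[A] B) β ∈ _
    rw [Algebra.smul_def]
    refine Ideal.mul_mem_right _ _ (Ideal.mem_map_of_mem _ ?_)
    rw [Ideal.mem_comap, hpre₂ β hβ]
    exact hc₂t β
  have key := isImpurity_descend_aux N p A₂ B₂ N₂ f₂ t₂' t₂ P₂ himp A₁ (A₁ ⊗[A] B)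
    ((A₁ ⊗[A] B) ⊗[B] N) hpo₁ f₁ hbc₁ g hgf x₁ (by rw [hgx]; exact hx₂) (pre s₂)
    (by rw [hpres]; exact hs₂) y₁ (by rw [hy₁]; exact hy₂) hsy
  exact ⟨A₁ ⊗[A] B, (A₁ ⊗[A] B) ⊗[B] N, inferInstance, inferInstance, inferInstance,
    inferInstance, inferInstance, inferInstance, inferInstance, inferInstance, inferInstance,
    inferInstance, inferInstance, inferInstance, f₁, _, inferInstance, key⟩

end impurity

end Groth.Agent.Lib.Helper15.ImpDesc
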