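import Mathlib
import Groth.Prelude.Def_FlatCA
import Groth.Agent.Lib.Helper15.ImpDesc

/-!
# Impurities with finitely presented test ring and closed point
-/

set_option autoImplicit false
set_option linter.style.haveILetI false
set_option linter.style.longLine false
universe u

namespace Groth.Agent.Lib.Helper15.ImpFP

open TensorProduct Groth.Agent.Lib.Helper15 Groth.Agent.Lib.Helper26

attribute [local instance] Algebra.TensorProduct.rightAlgebra

theorem exists_sub_mem_of_closure {A' B' : Type u} [CommRing A'] [CommRing B'] [Algebra A' B']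
    (t : Ideal A') [t.IsPrime] (P : Ideal B')
    (hcl : ∀ (Q : Ideal B') [Q.IsPrime], P ≤ Q → ¬ Q.LiesOver t) :
    ∃ s ∉ t, ∃ y ∈ P, algebraMap A' B' s - y ∈ t.map (algebraMap A' B') := by
  by_contra hno
  push Not at hno
  have hdisj : Disjoint ((P ⊔ t.map (algebraMap A' B') : Ideal B') : Set B')
      ((t.primeCompl.map (algebraMap A' B') : Submonoid B') : Set B') := by
    rw [Set.disjoint_left]
    rintro z hz ⟨s, hs, rfl⟩
    obtain ⟨y, hy, w, hw, hyw⟩ := Submodule.mem_sup.1 hz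
    apply hno s hs y hy
    rw [← hyw, add_sub_cancel_left]
    exact hw
  obtain ⟨Q, hQ, hJQ, hQM⟩ := Ideal.exists_le_prime_disjoint _ _ hdisj
  refine hcl Q (le_sup_left.trans hJQ) ⟨?_⟩
  apply le_antisymm
  · rw [Ideal.under_def, ← Ideal.map_le_iff_le_comap]
    exact le_sup_right.trans hJQ
  · intro a ha
    by_contra hat
    rw [Set.disjoint_left] at hQM
    exact hQM ha ⟨a, hat, rfl⟩

theorem exists_closed_point {A A₁ : Type u} [CommRing A] [CommRing A₁] [Algebra A A₁]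
    [Algebra.FiniteType A A₁] (p : Ideal A) [p.IsPrime] (t₁ : Ideal A₁) [t₁.IsPrime]
    [t₁.LiesOver p] (s : A₁) (hs : s ∉ t₁) :
    ∃ (ts : Ideal A₁) (_ : ts.IsPrime), t₁ ≤ ts ∧ ts.LiesOver p ∧ s ∉ ts ∧
      (FlatCA.fiberIdeal p ts).IsMaximal := by
  haveI : IsJacobsonRing (p.Fiber A₁) :=
    isJacobsonRing_of_finiteType (A := p.ResidueField) (B := p.Fiber A₁)
  have hσ : (Algebra.TensorProduct.includeRight (R := A) (A := p.ResidueField) (B := A₁) s :
      p.Fiber A₁) ∉ (FlatCA.fiberIdeal p t₁).jacobson := by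
    rw [← Ideal.radical_eq_jacobson]
    rintro ⟨n, hn⟩
    rw [← map_pow] at hn
    have := ImpDesc.mem_of_includeRight_mem_fiberIdeal p t₁ (s ^ n) hn
    exact hs (Ideal.IsPrime.mem_of_pow_mem inferInstance n this)
  rw [Ideal.jacobson, Submodule.mem_sInf] at hσ
  push Not at hσ
  obtain ⟨M, ⟨hTM, hMmax⟩, hσM⟩ := hσ
  haveI := hMmax.isPrime
  refine ⟨Ideal.comap (Algebra.TensorProduct.includeRight (R := A) (A := p.ResidueField)
    (B := A₁)).toRingHom M, inferInstance, ?_, ⟨?_⟩, ?_, ?_⟩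
  · intro x hx
    exact hTM (Ideal.mem_map_of_mem _ hx)
  · ext a
    rw [Ideal.under_def, Ideal.mem_comap, Ideal.mem_comap]
    constructor
    · intro ha
      have : (Algebra.TensorProduct.includeRight (R := A) (A := p.ResidueField)
          (B := A₁)).toRingHom (algebraMap A A₁ a) = 0 := by
        show (1 : p.ResidueField) ⊗ₜ[A] (algebraMap A A₁ a) = 0
        rw [Algebra.algebraMap_eq_smul_one, TensorProduct.tmul_smul, TensorProduct.smul_tmul',
          Algebra.smul_def, mul_one, Ideal.algebraMap_residueField_eq_zero.2 ha,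
          TensorProduct.zero_tmul]
      rw [this]
      exact M.zero_mem
    · intro ha
      by_contra hat
      have hu := FiberAss.isUnit_includeRight_algebraMap (S := A₁) p hat
      exact hMmax.ne_top (Ideal.eq_top_of_isUnit_mem _ ha hu)
  · exact hσM
  · unfold FlatCA.fiberIdeal
    rw [H12UnivInjAss.map_comap_includeRight]
    exact hMmax

section specialize

variable {A B : Type u} [CommRing A] [CommRing B] [Algebra A B]
  (N : Type u) [AddCommGroup N] [Module B N] (p : Ideal A) [p.IsPrime]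
  (A₁ B₁ N₁ : Type u) [CommRing A₁] [CommRing B₁] [Algebra A A₁] [Algebra B B₁] [Algebra A₁ B₁]
  [Algebra A B₁] [IsScalarTower A B B₁] [IsScalarTower A A₁ B₁] [AddCommGroup N₁] [Module B₁ N₁]
  [Module B N₁] [IsScalarTower B B₁ N₁] [Module A₁ N₁] [IsScalarTower A₁ B₁ N₁]
  (f₁ : N →ₗ[B] N₁) (t₁' t₁ : Ideal A₁) [t₁'.IsPrime] [t₁.IsPrime] (P₁ : Ideal B₁) [P₁.IsPrime]
  (himp : FlatCA.IsImpurity A B N p A₁ B₁ N₁ f₁ t₁' t₁ P₁)

include himp in
theorem exists_specialize [Algebra.FiniteType A A₁] :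
    ∃ (ts : Ideal A₁) (_ : ts.IsPrime), (FlatCA.fiberIdeal p ts).IsMaximal ∧
      FlatCA.IsImpurity A B N p A₁ B₁ N₁ f₁ t₁' ts P₁ := by
  obtain ⟨hpo, hbc, hle, hlo, hPlo, hass, hcl⟩ := himp
  obtain ⟨s, hs, y, hy, hsy⟩ := exists_sub_mem_of_closure t₁ P₁ hcl
  obtain ⟨ts, hts, hle', hlo', hs', hmax⟩ := exists_closed_point p t₁ s hs
  refine ⟨ts, hts, hmax, hpo, hbc, hle.trans hle', hlo', hPlo, hass, ?_⟩
  intro Q hQ hPQ hQlo
  have h1 : y ∈ Q := hPQ hy
  have h2 : algebraMap A₁ B₁ s - y ∈ Q := by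
    have : t₁.map (algebraMap A₁ B₁) ≤ Q := by
      rw [Ideal.map_le_iff_le_comap]
      exact hle'.trans hQlo.over.le
    exact this hsy
  have h3 : algebraMap A₁ B₁ s ∈ Q := by
    have := Q.add_mem h2 h1
    rwa [sub_add_cancel] at this
  have h4 : s ∈ Q.under A₁ := h3
  rw [← hQlo.over] at h4
  exact hs' h4

end specialize

theorem main1245 {A B : Type u} [CommRing A] [CommRing B] [Algebra A B] [Algebra.FiniteType A B]
    (N : Type u) [AddCommGroup N] [Module B N] [Module.Finite B N] (p : Ideal A) [p.IsPrime]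
    (h : FlatCA.HasImpurity A B N p (fun _ _ _ _ => True)) :
    FlatCA.HasImpurity A B N p (fun A' _ _ t => Algebra.FinitePresentation A A' ∧ (FlatCA.fiberIdeal p t).IsMaximal) := by
  obtain ⟨A', B', N', _, _, _, _, _, _, _, _, _, _, _, _, _, _, f, t', t, _, _, P, _, himp, -⟩ := h
  obtain ⟨T, hT⟩ := ImpDesc.exists_finset_descend N p A' B' N' f t' t P himp
  let φ : MvPolynomial {a // a ∈ T} A →ₐ[A] A' := MvPolynomial.aeval (fun a => a.1)
  letI : Algebra (MvPolynomial {a // a ∈ T} A) A' := φ.toRingHom.toAlgebra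
  haveI : IsScalarTower A (MvPolynomial {a // a ∈ T} A) A' :=
    .of_algebraMap_eq' φ.comp_algebraMap.symm
  obtain ⟨B₁, N₁, i1, i2, i3, i4, i5, i6, i7, i8, i9, i10, i11, i12, f₁, P₁, hP₁, himp₁⟩ :=
    hT (MvPolynomial {a // a ∈ T} A) (fun a ha => ⟨MvPolynomial.X ⟨a, ha⟩, by
      show φ (MvPolynomial.X ⟨a, ha⟩) = a
      simp [φ]⟩)
  obtain ⟨ts, hts, hmax, himp₂⟩ := exists_specialize N p (MvPolynomial {a // a ∈ T} A) B₁ N₁ f₁
    _ _ P₁ himp₁
  exact ⟨MvPolynomial {a // a ∈ T} A, B₁, N₁, inferInstance, i1, inferInstance, i2, i3, i4, i5,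
    i6, i7, i8, i9, i10, i11, i12, f₁, _, ts, inferInstance, hts, P₁, hP₁, himp₂,
    inferInstance, hmax⟩

end Groth.Agent.Lib.Helper15.ImpFP
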