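import Mathlib
import Groth.Prelude.Def_FlatCA
import Groth.Agent.Lib.Helper15.ImpDesc
import Groth.Agent.Lib.Helper15.ImpFP

/-!
# Purity is insensitive to closed immersions of the ambient affine scheme (helper15)
-/

set_option autoImplicit false
set_option linter.style.haveILetI false
set_option linter.unusedSectionVars false
set_option linter.style.longLine false
universe u

open TensorProduct

namespace Groth.Agent.Lib.Helper15.ImpCl

open Groth.Agent.Lib.Helper26 Groth.Agent.Lib.Helper15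

attribute [local instance] Algebra.TensorProduct.rightAlgebra

section transfer

variable {A' B₁ B₂ N₁ N₂ : Type u} [CommRing A'] [CommRing B₁] [CommRing B₂]
  [Algebra A' B₁] [Algebra A' B₂] [Algebra B₁ B₂] [IsScalarTower A' B₁ B₂]
  (hπ : Function.Surjective (algebraMap B₁ B₂))
  [AddCommGroup N₁] [Module B₁ N₁] [Module A' N₁] [IsScalarTower A' B₁ N₁]
  [AddCommGroup N₂] [Module B₂ N₂] [Module A' N₂] [IsScalarTower A' B₂ N₂]
  (θ : N₁ ≃ₗ[A'] N₂) (hθ : ∀ (b : B₁) (n : N₁), θ (b • n) = algebraMap B₁ B₂ b • θ n)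
  (t' t : Ideal A') [t'.IsPrime] [t.IsPrime]
  [Algebra.FiniteType A' B₁] [Algebra.FiniteType A' B₂]

include hθ in
theorem tmul_eq_zero_iff (b : B₁) (x : N₁) :
    (b • x) ⊗ₜ[A'] (1 : t'.ResidueField) = 0 ↔
      (algebraMap B₁ B₂ b • θ x) ⊗ₜ[A'] (1 : t'.ResidueField) = 0 := by
  rw [← hθ]
  have h := (TensorProduct.congr θ (LinearEquiv.refl A' t'.ResidueField)).map_eq_zero_iff
    (x := (b • x) ⊗ₜ[A'] (1 : t'.ResidueField))
  rw [TensorProduct.congr_tmul, LinearEquiv.refl_apply] at h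
  exact h.symm

include hπ hθ in
/-- from the quotient ring to the big ring -/
theorem transfer_comap (P₂ : Ideal B₂) [P₂.IsPrime] [hlo : P₂.LiesOver t']
    (hass : FlatCA.fiberIdeal t' P₂ ∈ associatedPrimes (t'.Fiber B₂) (FlatCA.fiberMod t' B₂ N₂))
    (hcl : ∀ (Q : Ideal B₂) [Q.IsPrime], P₂ ≤ Q → ¬ Q.LiesOver t) :
    (P₂.comap (algebraMap B₁ B₂)).LiesOver t' ∧
    FlatCA.fiberIdeal t' (P₂.comap (algebraMap B₁ B₂)) ∈
      associatedPrimes (t'.Fiber B₁) (FlatCA.fiberMod t' B₁ N₁) ∧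
    ∀ (Q : Ideal B₁) [Q.IsPrime], P₂.comap (algebraMap B₁ B₂) ≤ Q → ¬ Q.LiesOver t := by
  have hlo₁ : (P₂.comap (algebraMap B₁ B₂)).LiesOver t' := ⟨by
    rw [Ideal.under_def, Ideal.comap_comap, ← IsScalarTower.algebraMap_eq A' B₁ B₂]
    exact hlo.over⟩
  refine ⟨hlo₁, ?_, ?_⟩
  · obtain ⟨x₂, hx₂⟩ := ImpDesc.exists_witness t' N₂ P₂ hass
    refine ImpDesc.mem_associatedPrimes_of_witness t' N₁ _ (θ.symm x₂) fun b => ?_
    rw [Ideal.mem_comap, hx₂, tmul_eq_zero_iff θ hθ t', LinearEquiv.apply_symm_apply]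
  · intro Q hQ hPQ hQlo
    have hker : RingHom.ker (algebraMap B₁ B₂) ≤ Q := fun b hb =>
      hPQ (by rw [Ideal.mem_comap, (RingHom.mem_ker).1 hb]; exact P₂.zero_mem)
    have hQ₂ : (Q.map (algebraMap B₁ B₂)).IsPrime := Ideal.map_isPrime_of_surjective hπ hker
    have hQc : (Q.map (algebraMap B₁ B₂)).comap (algebraMap B₁ B₂) = Q := by
      rw [Ideal.comap_map_of_surjective _ hπ, sup_eq_left]
      exact hker
    refine hcl (Q.map (algebraMap B₁ B₂)) ?_ ⟨?_⟩
    · rw [← Ideal.map_comap_of_surjective _ hπ P₂]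
      exact Ideal.map_mono hPQ
    · rw [Ideal.under_def, IsScalarTower.algebraMap_eq A' B₁ B₂, ← Ideal.comap_comap, hQc]
      exact hQlo.over

include hπ hθ in
/-- from the big ring to the quotient ring -/
theorem transfer_map (P₁ : Ideal B₁) [P₁.IsPrime] [hlo : P₁.LiesOver t']
    (hass : FlatCA.fiberIdeal t' P₁ ∈ associatedPrimes (t'.Fiber B₁) (FlatCA.fiberMod t' B₁ N₁))
    (hcl : ∀ (Q : Ideal B₁) [Q.IsPrime], P₁ ≤ Q → ¬ Q.LiesOver t) :
    ∃ (P₂ : Ideal B₂) (_ : P₂.IsPrime), P₂.LiesOver t' ∧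
    FlatCA.fiberIdeal t' P₂ ∈ associatedPrimes (t'.Fiber B₂) (FlatCA.fiberMod t' B₂ N₂) ∧
    ∀ (Q : Ideal B₂) [Q.IsPrime], P₂ ≤ Q → ¬ Q.LiesOver t := by
  obtain ⟨x₁, hx₁⟩ := ImpDesc.exists_witness t' N₁ P₁ hass
  have hker : RingHom.ker (algebraMap B₁ B₂) ≤ P₁ := fun b hb => by
    rw [hx₁, tmul_eq_zero_iff θ hθ t', (RingHom.mem_ker).1 hb, zero_smul, TensorProduct.zero_tmul]
  have hP₂ : (P₁.map (algebraMap B₁ B₂)).IsPrime := Ideal.map_isPrime_of_surjective hπ hker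
  have hPc : (P₁.map (algebraMap B₁ B₂)).comap (algebraMap B₁ B₂) = P₁ := by
    rw [Ideal.comap_map_of_surjective _ hπ, sup_eq_left]
    exact hker
  have hlo₂ : (P₁.map (algebraMap B₁ B₂)).LiesOver t' := ⟨by
    rw [Ideal.under_def, IsScalarTower.algebraMap_eq A' B₁ B₂, ← Ideal.comap_comap, hPc]
    exact hlo.over⟩
  refine ⟨P₁.map (algebraMap B₁ B₂), hP₂, hlo₂, ?_, ?_⟩
  · refine ImpDesc.mem_associatedPrimes_of_witness t' N₂ _ (θ x₁) fun b₂ => ?_
    obtain ⟨b, rfl⟩ := hπ b₂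
    rw [← tmul_eq_zero_iff θ hθ t', ← hx₁, ← Ideal.mem_comap, hPc]
  · intro Q hQ hPQ hQlo
    refine hcl (Q.comap (algebraMap B₁ B₂)) ?_ ⟨?_⟩
    · rw [← hPc]
      exact Ideal.comap_mono hPQ
    · rw [Ideal.under_def, Ideal.comap_comap, ← IsScalarTower.algebraMap_eq A' B₁ B₂]
      exact hQlo.over

end transfer

section compare

variable {A B C A' : Type u} [CommRing A] [CommRing B] [CommRing C] [CommRing A']
  [Algebra A B] [Algebra B C] [Algebra A C] [IsScalarTower A B C] [Algebra A A']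
  (hBC : Function.Surjective (algebraMap B C))
  (B₁ C₂ : Type u) [CommRing B₁] [CommRing C₂]
  [Algebra B B₁] [Algebra A' B₁] [Algebra A B₁] [IsScalarTower A B B₁] [IsScalarTower A A' B₁]
  [Algebra C C₂] [Algebra A' C₂] [Algebra A C₂] [IsScalarTower A C C₂] [IsScalarTower A A' C₂]
  [Algebra B₁ C₂] [Algebra B C₂] [IsScalarTower B C C₂] [IsScalarTower B B₁ C₂]
  [IsScalarTower A' B₁ C₂]
  (hpoB : Algebra.IsPushout A B A' B₁) (hpoC : Algebra.IsPushout A C A' C₂)
  (N : Type u) [AddCommGroup N] [Module C N] [Module B N] [IsScalarTower B C N]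
  (N₁ N₂ : Type u) [AddCommGroup N₁] [Module B₁ N₁] [Module B N₁] [IsScalarTower B B₁ N₁]
  [Module A' N₁] [IsScalarTower A' B₁ N₁]
  [AddCommGroup N₂] [Module C₂ N₂] [Module C N₂] [IsScalarTower C C₂ N₂] [Module A' N₂]
  [IsScalarTower A' C₂ N₂]
  (f₁ : N →ₗ[B] N₁) (hbc₁ : IsBaseChange B₁ f₁) (f₂ : N →ₗ[C] N₂) (hbc₂ : IsBaseChange C₂ f₂)

include hBC hpoC in
theorem surjective_algebraMap : Function.Surjective (algebraMap B₁ C₂) := by
  have hspan := ImpDesc.span_range_algebraMap_eq_top hpoC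
  intro c
  have hc : c ∈ Submodule.span A' (Set.range (algebraMap C C₂)) := by rw [hspan]; trivial
  induction hc using Submodule.span_induction with
  | mem y hy =>
    obtain ⟨c₀, rfl⟩ := hy
    obtain ⟨b₀, rfl⟩ := hBC c₀
    exact ⟨algebraMap B B₁ b₀, by
      rw [← IsScalarTower.algebraMap_apply B B₁ C₂, IsScalarTower.algebraMap_apply B C C₂]⟩
  | zero => exact ⟨0, map_zero _⟩
  | add y z _ _ hy hz =>
    obtain ⟨y', rfl⟩ := hy
    obtain ⟨z', rfl⟩ := hz
    exact ⟨y' + z', map_add _ _ _⟩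
  | smul a y _ hy =>
    obtain ⟨y', rfl⟩ := hy
    exact ⟨a • y', map_smul (IsScalarTower.toAlgHom A' B₁ C₂) a y'⟩

include hpoB hpoC hbc₁ hbc₂ in
theorem exists_equiv :
    ∃ θ : N₁ ≃ₗ[A'] N₂, ∀ (b : B₁) (n : N₁), θ (b • n) = algebraMap B₁ C₂ b • θ n := by
  haveI : IsScalarTower A B₁ C₂ := .of_algebraMap_eq (fun x => by
    rw [IsScalarTower.algebraMap_apply A A' B₁, ← IsScalarTower.algebraMap_apply A' B₁ C₂,
      ← IsScalarTower.algebraMap_apply A A' C₂])
  haveI : Algebra.IsPushout A B A' B₁ := hpoB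
  have hpo' : Algebra.IsPushout B C B₁ C₂ :=
    (Algebra.IsPushout.comp_iff A B A' B₁ (T := C) (T' := C₂)).mp hpoC
  haveI : Algebra.IsPushout B B₁ C C₂ := hpo'.symm
  let e₂ : C₂ ⊗[C] N ≃ₗ[B₁] B₁ ⊗[B] N := Algebra.IsPushout.cancelBaseChange B B₁ C C₂ N
  let e₁ : B₁ ⊗[B] N ≃ₗ[B₁] N₁ := hbc₁.equiv
  let e₃ : C₂ ⊗[C] N ≃ₗ[C₂] N₂ := hbc₂.equiv
  refine ⟨(e₁.symm.restrictScalars A') ≪≫ₗ (e₂.symm.restrictScalars A') ≪≫ₗ
    (e₃.restrictScalars A'), fun b n => ?_⟩
  show e₃ (e₂.symm (e₁.symm (b • n))) = algebraMap B₁ C₂ b • e₃ (e₂.symm (e₁.symm n))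
  rw [map_smul, map_smul, ← algebraMap_smul C₂ b (e₂.symm (e₁.symm n)), map_smul]

end compare

section directions

variable {A B C : Type u} [CommRing A] [CommRing B] [CommRing C] [Algebra A B] [Algebra B C]
  [Algebra A C] [IsScalarTower A B C] [Algebra.FiniteType A B]
  (hBC : Function.Surjective (algebraMap B C))
  (N : Type u) [AddCommGroup N] [Module C N] [Module B N] [IsScalarTower B C N]
  (p : Ideal A) [p.IsPrime]

include hBC in
theorem finiteType_quot : Algebra.FiniteType A C :=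
  Algebra.FiniteType.of_surjective (IsScalarTower.toAlgHom A B C) hBC

include hBC in
/-- an impurity of `N` as a `C`-module gives one as a `B`-module, over the same test ring. -/
theorem exists_impurity_of_quotient
    (A' C' N' : Type u) [CommRing A'] [CommRing C'] [Algebra A A'] [Algebra C C'] [Algebra A' C']
    [Algebra A C'] [IsScalarTower A C C'] [IsScalarTower A A' C']
    [AddCommGroup N'] [Module C' N'] [Module C N'] [IsScalarTower C C' N'] [Module A' N']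
    [IsScalarTower A' C' N']
    (f : N →ₗ[C] N') (t' t : Ideal A') [t'.IsPrime] [t.IsPrime] (P : Ideal C') [P.IsPrime]
    (himp : FlatCA.IsImpurity A C N p A' C' N' f t' t P) :
    ∃ (B₁ N₁ : Type u) (_ : CommRing B₁) (_ : Algebra B B₁) (_ : Algebra A' B₁)
      (_ : Algebra A B₁) (_ : IsScalarTower A B B₁) (_ : IsScalarTower A A' B₁)
      (_ : AddCommGroup N₁) (_ : Module B₁ N₁) (_ : Module B N₁) (_ : IsScalarTower B B₁ N₁)
      (_ : Module A' N₁) (_ : IsScalarTower A' B₁ N₁) (f₁ : N →ₗ[B] N₁) (P₁ : Ideal B₁)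
      (_ : P₁.IsPrime), FlatCA.IsImpurity A B N p A' B₁ N₁ f₁ t' t P₁ := by
  obtain ⟨hpo, hbc, hle, hlo, hPlo, hass, hcl⟩ := himp
  haveI : Algebra.FiniteType A C := finiteType_quot hBC
  haveI : Algebra.FiniteType A' C' := by
    haveI : Algebra.IsPushout A A' C C' := hpo.symm
    exact Algebra.FiniteType.equiv (inferInstance : Algebra.FiniteType A' (A' ⊗[A] C))
      (Algebra.IsPushout.equiv A A' C C')
  letI : Algebra B C' := ((algebraMap C C').comp (algebraMap B C)).toAlgebra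
  haveI : IsScalarTower B C C' := .of_algebraMap_eq (fun _ => rfl)
  haveI : IsScalarTower A B C' := .of_algebraMap_eq (fun x => by
    change algebraMap A C' x = algebraMap C C' (algebraMap B C (algebraMap A B x))
    rw [← IsScalarTower.algebraMap_apply A B C, ← IsScalarTower.algebraMap_apply A C C'])
  let ψ : A' ⊗[A] B →ₐ[A'] C' := Algebra.TensorProduct.lift (Algebra.ofId A' C')
    (IsScalarTower.toAlgHom A B C') (fun _ _ => .all _ _)
  letI : Algebra (A' ⊗[A] B) C' := ψ.toRingHom.toAlgebra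
  haveI : IsScalarTower A' (A' ⊗[A] B) C' := .of_algebraMap_eq' ψ.comp_algebraMap.symm
  haveI : IsScalarTower B (A' ⊗[A] B) C' := .of_algebraMap_eq (fun b => by
    show algebraMap B C' b = ψ (1 ⊗ₜ b)
    simp only [ψ]
    rw [Algebra.TensorProduct.lift_tmul]
    simp)
  have hpoB : Algebra.IsPushout A B A' (A' ⊗[A] B) := inferInstance
  have hπ := surjective_algebraMap hBC (A' ⊗[A] B) C' hpo
  obtain ⟨θ, hθ⟩ := exists_equiv (A' ⊗[A] B) C' hpoB hpo N ((A' ⊗[A] B) ⊗[B] N) N'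
    (TensorProduct.mk B (A' ⊗[A] B) N 1) (TensorProduct.isBaseChange B N (A' ⊗[A] B)) f hbc
  obtain ⟨hlo₁, hass₁, hcl₁⟩ := transfer_comap hπ θ hθ t' t P hass hcl
  exact ⟨A' ⊗[A] B, (A' ⊗[A] B) ⊗[B] N, inferInstance, inferInstance, inferInstance,
    inferInstance, inferInstance, inferInstance, inferInstance, inferInstance, inferInstance,
    inferInstance, inferInstance, inferInstance, TensorProduct.mk B (A' ⊗[A] B) N 1, _,
    inferInstance, hpoB, TensorProduct.isBaseChange B N (A' ⊗[A] B), hle, hlo, hlo₁, hass₁, hcl₁⟩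

include hBC in
/-- an impurity of `N` as a `B`-module gives one as a `C`-module, over the same test ring. -/
theorem exists_impurity_to_quotient
    (A' B' N' : Type u) [CommRing A'] [CommRing B'] [Algebra A A'] [Algebra B B'] [Algebra A' B']
    [Algebra A B'] [IsScalarTower A B B'] [IsScalarTower A A' B']
    [AddCommGroup N'] [Module B' N'] [Module B N'] [IsScalarTower B B' N'] [Module A' N']
    [IsScalarTower A' B' N']
    (f : N →ₗ[B] N') (t' t : Ideal A') [t'.IsPrime] [t.IsPrime] (P : Ideal B') [P.IsPrime]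
    (himp : FlatCA.IsImpurity A B N p A' B' N' f t' t P) :
    ∃ (C₂ N₂ : Type u) (_ : CommRing C₂) (_ : Algebra C C₂) (_ : Algebra A' C₂)
      (_ : Algebra A C₂) (_ : IsScalarTower A C C₂) (_ : IsScalarTower A A' C₂)
      (_ : AddCommGroup N₂) (_ : Module C₂ N₂) (_ : Module C N₂) (_ : IsScalarTower C C₂ N₂)
      (_ : Module A' N₂) (_ : IsScalarTower A' C₂ N₂) (f₂ : N →ₗ[C] N₂) (P₂ : Ideal C₂)
      (_ : P₂.IsPrime), FlatCA.IsImpurity A C N p A' C₂ N₂ f₂ t' t P₂ := by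
  obtain ⟨hpo, hbc, hle, hlo, hPlo, hass, hcl⟩ := himp
  haveI : Algebra.FiniteType A C := finiteType_quot hBC
  haveI : Algebra.FiniteType A' B' := by
    haveI : Algebra.IsPushout A A' B B' := hpo.symm
    exact Algebra.FiniteType.equiv (inferInstance : Algebra.FiniteType A' (A' ⊗[A] B))
      (Algebra.IsPushout.equiv A A' B B')
  letI : Algebra B (A' ⊗[A] C) :=
    ((algebraMap C (A' ⊗[A] C)).comp (algebraMap B C)).toAlgebra
  haveI : IsScalarTower B C (A' ⊗[A] C) := .of_algebraMap_eq (fun _ => rfl)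
  haveI : IsScalarTower A B (A' ⊗[A] C) := .of_algebraMap_eq (fun x => by
    change algebraMap A (A' ⊗[A] C) x = algebraMap C (A' ⊗[A] C) (algebraMap B C (algebraMap A B x))
    rw [← IsScalarTower.algebraMap_apply A B C, ← IsScalarTower.algebraMap_apply A C (A' ⊗[A] C)])
  haveI : Algebra.IsPushout A B A' B' := hpo
  let ψ : B' →ₐ[A] A' ⊗[A] C := Algebra.pushoutDesc B'
    (IsScalarTower.toAlgHom A B (A' ⊗[A] C)) (IsScalarTower.toAlgHom A A' (A' ⊗[A] C))
    (fun _ _ => mul_comm _ _)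
  letI : Algebra B' (A' ⊗[A] C) := ψ.toRingHom.toAlgebra
  haveI : IsScalarTower B B' (A' ⊗[A] C) := .of_algebraMap_eq (fun b => by
    show algebraMap B (A' ⊗[A] C) b = ψ (algebraMap B B' b)
    simp only [ψ]
    rw [Algebra.pushoutDesc_left]
    rfl)
  haveI : IsScalarTower A' B' (A' ⊗[A] C) := .of_algebraMap_eq (fun a => by
    show algebraMap A' (A' ⊗[A] C) a = ψ (algebraMap A' B' a)
    simp only [ψ]
    rw [Algebra.pushoutDesc_right]
    rfl)
  have hpoC : Algebra.IsPushout A C A' (A' ⊗[A] C) := inferInstance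
  have hπ := surjective_algebraMap hBC B' (A' ⊗[A] C) hpoC
  obtain ⟨θ, hθ⟩ := exists_equiv B' (A' ⊗[A] C) hpo hpoC N N' ((A' ⊗[A] C) ⊗[C] N) f hbc
    (TensorProduct.mk C (A' ⊗[A] C) N 1) (TensorProduct.isBaseChange C N (A' ⊗[A] C))
  obtain ⟨P₂, hP₂, hlo₂, hass₂, hcl₂⟩ := transfer_map hπ θ hθ t' t P hass hcl
  exact ⟨A' ⊗[A] C, (A' ⊗[A] C) ⊗[C] N, inferInstance, inferInstance, inferInstance,
    inferInstance, inferInstance, inferInstance, inferInstance, inferInstance, inferInstance,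
    inferInstance, inferInstance, inferInstance, TensorProduct.mk C (A' ⊗[A] C) N 1, P₂, hP₂,
    hpoC, TensorProduct.isBaseChange C N (A' ⊗[A] C), hle, hlo, hlo₂, hass₂, hcl₂⟩

end directions

theorem main8999 {A B C : Type u} [CommRing A] [CommRing B] [CommRing C] [Algebra A B] [Algebra B C] [Algebra A C] [IsScalarTower A B C] [Algebra.FiniteType A B] (hBC : Function.Surjective (algebraMap B C)) (N : Type u) [AddCommGroup N] [Module C N] [Module B N] [IsScalarTower B C N] [Module.Finite C N] (p : Ideal A) [p.IsPrime] : (FlatCA.IsPureAlong A C N p ↔ FlatCA.IsPureAlong A B N p) ∧ (FlatCA.IsUnivPureAlong A C N p ↔ FlatCA.IsUnivPureAlong A B N p) := by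
  refine ⟨⟨fun h => ?_, fun h => ?_⟩, ⟨fun h => ?_, fun h => ?_⟩⟩
  · intro A' B' N' _ _ _ _ _ _ _ _ _ _ _ _ _ _ f t' t _ _ P _ hEt himp
    obtain ⟨C₂, N₂, _, _, _, _, _, _, _, _, _, _, _, _, f₂, P₂, _, himp₂⟩ :=
      exists_impurity_to_quotient hBC N p A' B' N' f t' t P himp
    exact h A' C₂ N₂ f₂ t' t P₂ hEt himp₂
  · intro A' C' N' _ _ _ _ _ _ _ _ _ _ _ _ _ _ f t' t _ _ P _ hEt himp
    obtain ⟨B₁, N₁, _, _, _, _, _, _, _, _, _, _, _, _, f₁, P₁, _, himp₁⟩ :=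
      exists_impurity_of_quotient hBC N p A' C' N' f t' t P himp
    exact h A' B₁ N₁ f₁ t' t P₁ hEt himp₁
  · intro A' B' N' _ _ _ _ _ _ _ _ _ _ _ _ _ _ f t' t _ _ P _ himp
    obtain ⟨C₂, N₂, _, _, _, _, _, _, _, _, _, _, _, _, f₂, P₂, _, himp₂⟩ :=
      exists_impurity_to_quotient hBC N p A' B' N' f t' t P himp
    exact h A' C₂ N₂ f₂ t' t P₂ himp₂
  · intro A' C' N' _ _ _ _ _ _ _ _ _ _ _ _ _ _ f t' t _ _ P _ himp
    obtain ⟨B₁, N₁, _, _, _, _, _, _, _, _, _, _, _, _, f₁, P₁, _, himp₁⟩ :=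
      exists_impurity_of_quotient hBC N p A' C' N' f t' t P himp
    exact h A' B₁ N₁ f₁ t' t P₁ himp₁

end Groth.Agent.Lib.Helper15.ImpCl
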