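import Mathlib
import Groth.Prelude.Def_FlatCA
import Groth.Agent.Lib.Helper15.ImpDesc

/-!
# An impurity over a directed colimit of rings descends to some stage
-/

set_option autoImplicit false
set_option linter.style.longLine false
universe u

namespace Groth.Agent.Lib.Helper15.ImpColim

open TensorProduct Groth.Agent.Lib.Helper15

theorem exists_index {ι : Type u} [Preorder ι] (G : ι → Type u) [∀ i, CommRing (G i)]
    (g : ∀ i j, i ≤ j → G i →+* G j) (A' : Type u) [CommRing A'] [∀ i, Algebra (G i) A']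
    (hcolim : FlatCA.IsDirectedColimitRing G g A') (T : Finset A') :
    ∃ i, ∀ a ∈ T, ∃ x : G i, algebraMap (G i) A' x = a := by
  classical
  obtain ⟨hdir, hne, _, _, hcompat, hsurj, _⟩ := hcolim
  induction T using Finset.induction_on with
  | empty => exact ⟨hne.some, by simp⟩
  | insert a T _ ih =>
    obtain ⟨i, hi⟩ := ih
    obtain ⟨j, x, hx⟩ := hsurj a
    obtain ⟨k, hik, hjk⟩ := hdir.directed i j
    refine ⟨k, fun b hb => ?_⟩
    rcases Finset.mem_insert.1 hb with rfl | hb
    · exact ⟨g j k hjk x, by rw [← hx]; exact RingHom.congr_fun (hcompat j k hjk) x⟩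
    · obtain ⟨y, hy⟩ := hi b hb
      exact ⟨g i k hik y, by rw [← hy]; exact RingHom.congr_fun (hcompat i k hik) y⟩

theorem main1296 {A B : Type u} [CommRing A] [CommRing B] [Algebra A B] [Algebra.FiniteType A B]
    (N : Type u) [AddCommGroup N] [Module B N] [Module.Finite B N] (p : Ideal A) [p.IsPrime]
    {ι : Type u} [Preorder ι] (G : ι → Type u) [∀ i, CommRing (G i)] [∀ i, Algebra A (G i)]
    (g : ∀ i j, i ≤ j → G i →ₐ[A] G j)
    (A' : Type u) [CommRing A'] [Algebra A A'] [∀ i, Algebra (G i) A'] [∀ i, IsScalarTower A (G i) A']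
    (hcolim : FlatCA.IsDirectedColimitRing G (fun i j h => (g i j h).toRingHom) A')
    (B' N' : Type u) [CommRing B'] [Algebra B B'] [Algebra A' B'] [Algebra A B'] [IsScalarTower A B B'] [IsScalarTower A A' B']
    [AddCommGroup N'] [Module B' N'] [Module B N'] [IsScalarTower B B' N'] [Module A' N'] [IsScalarTower A' B' N']
    (f : N →ₗ[B] N') (t' t : Ideal A') [t'.IsPrime] [t.IsPrime] (P : Ideal B') [P.IsPrime]
    (himp : FlatCA.IsImpurity A B N p A' B' N' f t' t P) :
    ∃ i : ι, FlatCA.HasImpurity A B N p (fun A'' _ _ t'' => ∃ e : A'' ≃ₐ[A] G i, t''.map e = t.comap (algebraMap (G i) A')) := by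
  obtain ⟨T, hT⟩ := ImpDesc.exists_finset_descend N p A' B' N' f t' t P himp
  obtain ⟨i, hi⟩ := exists_index G _ A' hcolim T
  obtain ⟨B₁, N₁, i1, i2, i3, i4, i5, i6, i7, i8, i9, i10, i11, i12, f₁, P₁, hP₁, himp₁⟩ :=
    hT (G i) hi
  refine ⟨i, G i, B₁, N₁, inferInstance, i1, inferInstance, i2, i3, i4, i5, i6, i7, i8, i9, i10,
    i11, i12, f₁, t'.comap (algebraMap (G i) A'), t.comap (algebraMap (G i) A'), inferInstance,
    inferInstance, P₁, hP₁, himp₁, AlgEquiv.refl, ?_⟩
  apply le_antisymm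
  · rw [Ideal.map_le_iff_le_comap]
    intro x hx
    exact hx
  · intro x hx
    exact Ideal.mem_map_of_mem (AlgEquiv.refl : G i ≃ₐ[A] G i) hx

end Groth.Agent.Lib.Helper15.ImpColim
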