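import Mathlib
import Groth.Prelude.Def_FlatCA
import Groth.Agent.Lib.Helper15.ImpDesc

/-!
# Pushing an impurity forward along a finite map of test rings (helper15)
-/

set_option autoImplicit false
set_option linter.style.haveILetI false
set_option linter.unusedSectionVars false
set_option linter.style.longLine false
universe u

open TensorProduct

namespace Groth.Agent.Lib.Helper15.ImpFin

open Groth.Agent.Lib.Helper26 Groth.Agent.Lib.Helper15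

attribute [local instance] Algebra.TensorProduct.rightAlgebra

section fieldDescent

variable {A₁ B₁ N₁ K L : Type u} [CommRing A₁] [CommRing B₁] [Algebra A₁ B₁]
  [AddCommGroup N₁] [Module A₁ N₁] [Module B₁ N₁] [IsScalarTower A₁ B₁ N₁]
  [Field K] [Field L] [Algebra A₁ K] [Algebra A₁ L] [Algebra K L] [IsScalarTower A₁ K L]

/-- descent of prime annihilators along a field extension -/
theorem exists_of_field_ext (P : Ideal B₁) [P.IsPrime] (w : N₁ ⊗[A₁] L)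
    (hw : ∀ b : B₁, b ∈ P ↔ b • w = 0) :
    ∃ m : N₁ ⊗[A₁] K, ∀ b : B₁, b ∈ P ↔ b • m = 0 := by
  classical
  let bas := Module.Free.chooseBasis K L
  let coord : ∀ i, L →ₗ[A₁] K := fun i => (bas.coord i).restrictScalars A₁
  let incl : ∀ i, K →ₗ[A₁] L := fun i =>
    (LinearMap.toSpanSingleton K L (bas i)).restrictScalars A₁
  let m : ∀ i, N₁ ⊗[A₁] L →ₗ[B₁] N₁ ⊗[A₁] K := fun i =>
    TensorProduct.AlgebraTensorModule.lTensor B₁ N₁ (coord i)
  let ι : ∀ i, N₁ ⊗[A₁] K →ₗ[B₁] N₁ ⊗[A₁] L := fun i =>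
    TensorProduct.AlgebraTensorModule.lTensor B₁ N₁ (incl i)
  have hrec : ∀ w : N₁ ⊗[A₁] L, ∃ S : Finset _, ∀ S', S ⊆ S' → w = ∑ i ∈ S', ι i (m i w) := by
    intro w
    induction w using TensorProduct.induction_on with
    | zero => exact ⟨∅, fun S' _ => by simp⟩
    | tmul n c =>
      refine ⟨(bas.repr c).support, fun S' hS' => ?_⟩
      simp only [m, ι, TensorProduct.AlgebraTensorModule.lTensor_tmul]
      rw [← TensorProduct.tmul_sum]
      congr 1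
      have h1 := bas.linearCombination_repr c
      rw [Finsupp.linearCombination_apply,
        Finsupp.sum_of_support_subset (bas.repr c) hS' (fun i a => a • bas i)
          (fun i _ => zero_smul _ _)] at h1
      conv_lhs => rw [← h1]
      rfl
    | add w₁ w₂ h₁ h₂ =>
      obtain ⟨S₁, h₁⟩ := h₁
      obtain ⟨S₂, h₂⟩ := h₂
      refine ⟨S₁ ∪ S₂, fun S' hS' => ?_⟩
      have e₁ := h₁ S' (Finset.subset_union_left.trans hS')
      have e₂ := h₂ S' (Finset.subset_union_right.trans hS')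
      calc w₁ + w₂ = ∑ i ∈ S', ι i (m i w₁) + ∑ i ∈ S', ι i (m i w₂) := by rw [← e₁, ← e₂]
        _ = ∑ i ∈ S', ι i (m i (w₁ + w₂)) := by
          simp only [map_add, Finset.sum_add_distrib]
  obtain ⟨S, hS⟩ := hrec w
  have hS' := hS S subset_rfl
  have h1 : ∀ i, ∀ b ∈ P, b • m i w = 0 := fun i b hb => by
    rw [← map_smul, (hw b).1 hb, map_zero]
  by_contra hcon
  push Not at hcon
  have h2 : ∀ i ∈ S, ∃ b ∉ P, b • m i w = 0 := by
    intro i _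
    by_contra hno
    push Not at hno
    obtain ⟨b, hb⟩ := hcon (m i w)
    rcases hb with ⟨hbP, hb0⟩ | ⟨hbP, hb0⟩
    · exact hb0 (h1 i b hbP)
    · exact hno b hbP hb0
  choose! β hβP hβ using h2
  have h3 : (∏ i ∈ S, β i) • w = 0 := by
    conv_lhs => rw [hS']
    rw [Finset.smul_sum]
    refine Finset.sum_eq_zero fun i hi => ?_
    rw [← Finset.mul_prod_erase S β hi, mul_comm, mul_smul,
      ← (ι i).map_smul (β i) (m i w), hβ i hi, map_zero, smul_zero]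
  have h4 : ∏ i ∈ S, β i ∈ P := (hw _).2 h3
  obtain ⟨i, hi, hiP⟩ := (Ideal.IsPrime.prod_mem_iff).1 h4
  exact hβP i hi hiP

end fieldDescent

section core

variable {A₁ A₂ B₁ B₂ N₁ N₂ : Type u} [CommRing A₁] [CommRing A₂] [Algebra A₁ A₂]
  [CommRing B₁] [CommRing B₂] [Algebra A₁ B₁] [Algebra B₁ B₂] [Algebra A₂ B₂] [Algebra A₁ B₂]
  [IsScalarTower A₁ B₁ B₂] [IsScalarTower A₁ A₂ B₂]
  [AddCommGroup N₁] [Module B₁ N₁] [Module A₁ N₁] [IsScalarTower A₁ B₁ N₁]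
  [AddCommGroup N₂] [Module B₂ N₂] [Module B₁ N₂] [IsScalarTower B₁ B₂ N₂] [Module A₂ N₂]
  [IsScalarTower A₂ B₂ N₂]
  (hpo : Algebra.IsPushout A₁ A₂ B₁ B₂) (g : N₁ →ₗ[B₁] N₂) (hg : IsBaseChange B₂ g)
  (t₁ : Ideal A₁) (t₂ : Ideal A₂) [t₁.IsPrime] [t₂.IsPrime]
  (h12 : t₂.comap (algebraMap A₁ A₂) = t₁)

include hpo hg h12 in
theorem witness_descend_field (P₂ : Ideal B₂) [P₂.IsPrime] (x₂ : N₂)
    (hx : ∀ b : B₂, b ∈ P₂ ↔ (b • x₂) ⊗ₜ[A₂] (1 : t₂.ResidueField) = 0) :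
    ∃ x₁ : N₁, ∀ s : B₁, s ∈ P₂.comap (algebraMap B₁ B₂) ↔
      (s • x₁) ⊗ₜ[A₁] (1 : t₁.ResidueField) = 0 := by
  haveI : Algebra.IsPushout A₁ A₂ B₁ B₂ := hpo
  let e1 : B₂ ⊗[B₁] N₁ ≃ₗ[A₂] A₂ ⊗[A₁] N₁ := Algebra.IsPushout.cancelBaseChange A₁ A₂ B₁ B₂ N₁
  let e2 : B₂ ⊗[B₁] N₁ ≃ₗ[A₂] N₂ := hg.equiv.restrictScalars A₂
  let e : N₂ ≃ₗ[A₂] A₂ ⊗[A₁] N₁ := e2.symm ≪≫ₗ e1
  have he : ∀ n, e (g n) = 1 ⊗ₜ n := by
    intro n
    show e1 (e2.symm (g n)) = _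
    have : e2.symm (g n) = 1 ⊗ₜ n := hg.equiv_symm_apply n
    rw [this]
    exact Algebra.IsPushout.cancelBaseChange_tmul A₁ A₂ B₁ B₂ N₁ n
  let Θ : N₂ ⊗[A₂] t₂.ResidueField ≃ₗ[A₂] t₂.ResidueField ⊗[A₁] N₁ :=
    (TensorProduct.congr e (LinearEquiv.refl A₂ t₂.ResidueField)) ≪≫ₗ
      (TensorProduct.comm A₂ _ _) ≪≫ₗ
      (TensorProduct.AlgebraTensorModule.cancelBaseChange A₁ A₂ A₂ t₂.ResidueField N₁)
  let Ξ : N₂ ⊗[A₂] t₂.ResidueField → N₁ ⊗[A₁] t₂.ResidueField :=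
    fun y => TensorProduct.comm A₁ _ _ (Θ y)
  have hΞadd : ∀ y y', Ξ (y + y') = Ξ y + Ξ y' := fun y y' => by simp only [Ξ, map_add]
  have hΞ0 : Ξ 0 = 0 := by simp only [Ξ, map_zero]
  have hΞinj : ∀ y, Ξ y = 0 → y = 0 := fun y hy =>
    Θ.injective (by
      rw [map_zero]
      exact (TensorProduct.comm A₁ _ _).injective (by rw [map_zero]; exact hy))
  have hΞf : ∀ (a : A₂) (n : N₁) (c : t₂.ResidueField),
      Ξ ((a • g n) ⊗ₜ c) = n ⊗ₜ (a • c) := by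
    intro a n c
    simp only [Ξ, Θ, LinearEquiv.trans_apply, TensorProduct.congr_tmul, LinearEquiv.refl_apply,
      map_smul, he, TensorProduct.comm_tmul]
    rw [TensorProduct.smul_tmul', smul_eq_mul, mul_one,
      TensorProduct.AlgebraTensorModule.cancelBaseChange_tmul, TensorProduct.comm_tmul]
  have hesymm : ∀ (a : A₂) (n : N₁), e.symm (a ⊗ₜ n) = a • g n := by
    intro a n
    apply e.injective
    rw [e.apply_symm_apply, map_smul, he, TensorProduct.smul_tmul', smul_eq_mul, mul_one]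
  have hΞeq : ∀ (b : B₁) (y), Ξ (algebraMap B₁ B₂ b • y) = b • Ξ y := by
    intro b y
    induction y using TensorProduct.induction_on with
    | zero => rw [smul_zero, hΞ0, smul_zero]
    | add y y' h h' => rw [smul_add, hΞadd, hΞadd, h, h', smul_add]
    | tmul n₂ c =>
      obtain ⟨u, rfl⟩ := e.symm.surjective n₂
      induction u using TensorProduct.induction_on with
      | zero => rw [map_zero, TensorProduct.zero_tmul, smul_zero, hΞ0, smul_zero]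
      | add u u' h h' =>
        rw [map_add, TensorProduct.add_tmul, smul_add, hΞadd, hΞadd, h, h', smul_add]
      | tmul a n =>
        rw [hesymm, TensorProduct.smul_tmul', smul_comm, algebraMap_smul, ← map_smul, hΞf, hΞf,
          TensorProduct.smul_tmul']
  obtain ⟨w, hwdef⟩ : ∃ w, w = Ξ (x₂ ⊗ₜ 1) := ⟨_, rfl⟩
  have hw : ∀ b : B₁, b ∈ P₂.comap (algebraMap B₁ B₂) ↔ b • w = 0 := by
    intro b
    rw [Ideal.mem_comap, hx, hwdef, ← hΞeq, TensorProduct.smul_tmul']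
    constructor
    · intro h
      rw [h, hΞ0]
    · intro h
      exact hΞinj _ h
  let ιf : t₁.ResidueField →+* t₂.ResidueField :=
    Ideal.ResidueField.map t₁ t₂ (algebraMap A₁ A₂) h12.symm
  letI : Algebra t₁.ResidueField t₂.ResidueField := ιf.toAlgebra
  haveI : IsScalarTower A₁ t₁.ResidueField t₂.ResidueField := .of_algebraMap_eq (fun a => by
    show algebraMap A₁ t₂.ResidueField a = ιf (algebraMap A₁ t₁.ResidueField a)
    rw [Ideal.ResidueField.map_algebraMap, ← IsScalarTower.algebraMap_apply])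
  obtain ⟨m, hm⟩ := exists_of_field_ext (K := t₁.ResidueField) (L := t₂.ResidueField)
    (P₂.comap (algebraMap B₁ B₂)) w hw
  obtain ⟨r, hr, x₁, hx₁⟩ := FiberAss.exists_smul_eq_tmul_one t₁ N₁ m
  refine ⟨x₁, fun s => ?_⟩
  rw [hm, ← TensorProduct.smul_tmul', ← hx₁, smul_comm]
  constructor
  · intro h
    rw [h, smul_zero]
  · intro h
    exact FiberAss.eq_zero_of_smul_eq_zero t₁ N₁ hr _ h

end core

section impurity

variable {A B : Type u} [CommRing A] [CommRing B] [Algebra A B] [Algebra.FiniteType A B]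
  (N : Type u) [AddCommGroup N] [Module B N] (p : Ideal A) [p.IsPrime]
  (A₂ B₂ N₂ : Type u) [CommRing A₂] [CommRing B₂] [Algebra A A₂] [Algebra B B₂] [Algebra A₂ B₂]
  [Algebra A B₂] [IsScalarTower A B B₂] [IsScalarTower A A₂ B₂] [AddCommGroup N₂] [Module B₂ N₂]
  [Module B N₂] [IsScalarTower B B₂ N₂] [Module A₂ N₂] [IsScalarTower A₂ B₂ N₂]
  (f₂ : N →ₗ[B] N₂) (t₂' t₂ : Ideal A₂) [t₂'.IsPrime] [t₂.IsPrime] (P₂ : Ideal B₂) [P₂.IsPrime]
  (himp : FlatCA.IsImpurity A B N p A₂ B₂ N₂ f₂ t₂' t₂ P₂)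
  (A₁ : Type u) [CommRing A₁] [Algebra A A₁] [Algebra A₁ A₂] [IsScalarTower A A₁ A₂]

include himp in
theorem isImpurity_finite_aux
    (B₁ N₁ : Type u) [CommRing B₁] [Algebra A₁ B₁] [Algebra B B₁] [Algebra A B₁]
    [IsScalarTower A B B₁] [IsScalarTower A A₁ B₁]
    (hpo₁ : Algebra.IsPushout A B A₁ B₁)
    [Algebra B₁ B₂] [Algebra A₁ B₂] [IsScalarTower A₁ A₂ B₂] [IsScalarTower A₁ B₁ B₂]
    [IsScalarTower B B₁ B₂]
    [AddCommGroup N₁] [Module B₁ N₁] [Module B N₁] [IsScalarTower B B₁ N₁] [Module A₁ N₁]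
    [IsScalarTower A₁ B₁ N₁]
    (f₁ : N →ₗ[B] N₁) (hbc₁ : IsBaseChange B₁ f₁)
    [Module B₁ N₂] [IsScalarTower B₁ B₂ N₂] [IsScalarTower B B₁ N₂]
    (g : N₁ →ₗ[B₁] N₂) (hgf : ∀ n, g (f₁ n) = f₂ n)
    [Algebra.IsIntegral A₁ A₂]
    (huniq : ∀ Q : Ideal A₂, Q.IsPrime →
      Q.comap (algebraMap A₁ A₂) = t₂.comap (algebraMap A₁ A₂) → Q = t₂) :
    FlatCA.IsImpurity A B N p A₁ B₁ N₁ f₁ (t₂'.comap (algebraMap A₁ A₂))
      (t₂.comap (algebraMap A₁ A₂)) (P₂.comap (algebraMap B₁ B₂)) := by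
  obtain ⟨hpo, hbc, hle, hlo, hPlo, hass, hcl⟩ := himp
  haveI : IsScalarTower A B₁ B₂ := .of_algebraMap_eq (fun x => by
    rw [IsScalarTower.algebraMap_apply A B B₁, ← IsScalarTower.algebraMap_apply B B₁ B₂,
      ← IsScalarTower.algebraMap_apply A B B₂])
  haveI : Algebra.IsPushout A A₁ B B₁ := hpo₁.symm
  have hpo₁₂ : Algebra.IsPushout A₁ A₂ B₁ B₂ :=
    (Algebra.IsPushout.comp_iff A A₁ B B₁ (T := A₂) (T' := B₂)).mp hpo.symm
  have hg : IsBaseChange B₂ g := by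
    refine IsBaseChange.of_comp hbc₁ ?_
    have : ((g : N₁ →ₗ[B] N₂) ∘ₗ f₁) = f₂ := LinearMap.ext hgf
    rw [this]
    exact hbc
  haveI : Algebra.FiniteType A₁ B₁ :=
    Algebra.FiniteType.equiv (inferInstance : Algebra.FiniteType A₁ (A₁ ⊗[A] B))
      (Algebra.IsPushout.equiv A A₁ B B₁)
  haveI : Algebra.FiniteType A₂ B₂ := by
    haveI : Algebra.IsPushout A A₂ B B₂ := hpo.symm
    exact Algebra.FiniteType.equiv (inferInstance : Algebra.FiniteType A₂ (A₂ ⊗[A] B))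
      (Algebra.IsPushout.equiv A A₂ B B₂)
  haveI hP₁lo : (P₂.comap (algebraMap B₁ B₂)).LiesOver (t₂'.comap (algebraMap A₁ A₂)) := ⟨by
    rw [Ideal.under_def, Ideal.comap_comap, ← IsScalarTower.algebraMap_eq A₁ B₁ B₂,
      IsScalarTower.algebraMap_eq A₁ A₂ B₂, ← Ideal.comap_comap, ← Ideal.under_def (A := A₂),
      ← hPlo.over]⟩
  refine ⟨hpo₁, hbc₁, Ideal.comap_mono hle, ⟨?_⟩, hP₁lo, ?_, ?_⟩
  · rw [Ideal.under_def, Ideal.comap_comap, ← IsScalarTower.algebraMap_eq A A₁ A₂,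
      ← Ideal.under_def, ← hlo.over]
  · obtain ⟨x₂, hx₂⟩ := ImpDesc.exists_witness t₂' N₂ P₂ hass
    obtain ⟨x₁, hx₁⟩ := witness_descend_field hpo₁₂ g hg _ t₂' rfl P₂ x₂ hx₂
    exact ImpDesc.mem_associatedPrimes_of_witness _ N₁ _ x₁ hx₁
  · intro Q hQ hPQ hQlo
    haveI : Algebra.IsPushout A₁ A₂ B₁ B₂ := hpo₁₂
    haveI : Algebra.IsIntegral B₁ B₂ := Algebra.IsPushout.isIntegral (R := A₁) (S := A₂) (A := B₁) (SA := B₂)
    obtain ⟨Q₂, hPQ₂, hQ₂p, hQ₂c⟩ :=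
      Ideal.exists_ideal_over_prime_of_isIntegral_of_isPrime Q P₂ hPQ
    have h1 : (Q₂.comap (algebraMap A₂ B₂)).comap (algebraMap A₁ A₂) =
        t₂.comap (algebraMap A₁ A₂) := by
      rw [Ideal.comap_comap, ← IsScalarTower.algebraMap_eq A₁ A₂ B₂,
        IsScalarTower.algebraMap_eq A₁ B₁ B₂, ← Ideal.comap_comap, hQ₂c]
      exact hQlo.over.symm
    have h2 := huniq _ (hQ₂p.comap _) h1
    exact hcl Q₂ hPQ₂ ⟨h2.symm⟩

include himp in
/-- an impurity over `A₂`, integral over `A₁` with `t₂` the only prime over its contraction,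
descends to `A₁`. -/
theorem exists_impurity_of_integral [Algebra.IsIntegral A₁ A₂]
    (huniq : ∀ Q : Ideal A₂, Q.IsPrime →
      Q.comap (algebraMap A₁ A₂) = t₂.comap (algebraMap A₁ A₂) → Q = t₂) :
    ∃ (B₁ N₁ : Type u) (_ : CommRing B₁) (_ : Algebra B B₁) (_ : Algebra A₁ B₁)
        (_ : Algebra A B₁) (_ : IsScalarTower A B B₁) (_ : IsScalarTower A A₁ B₁)
        (_ : AddCommGroup N₁) (_ : Module B₁ N₁) (_ : Module B N₁) (_ : IsScalarTower B B₁ N₁)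
        (_ : Module A₁ N₁) (_ : IsScalarTower A₁ B₁ N₁) (f₁ : N →ₗ[B] N₁) (P₁ : Ideal B₁)
        (_ : P₁.IsPrime),
        FlatCA.IsImpurity A B N p A₁ B₁ N₁ f₁ (t₂'.comap (algebraMap A₁ A₂))
          (t₂.comap (algebraMap A₁ A₂)) P₁ := by
  letI : Algebra A₁ B₂ := ((algebraMap A₂ B₂).comp (algebraMap A₁ A₂)).toAlgebra
  haveI : IsScalarTower A₁ A₂ B₂ := .of_algebraMap_eq (fun _ => rfl)
  haveI : IsScalarTower A A₁ B₂ := .of_algebraMap_eq (fun x => by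
    change algebraMap A B₂ x = algebraMap A₂ B₂ (algebraMap A₁ A₂ (algebraMap A A₁ x))
    rw [← IsScalarTower.algebraMap_apply A A₁ A₂, ← IsScalarTower.algebraMap_apply A A₂ B₂])
  let ψ : A₁ ⊗[A] B →ₐ[A₁] B₂ := Algebra.TensorProduct.lift (Algebra.ofId A₁ B₂)
    (IsScalarTower.toAlgHom A B B₂) (fun _ _ => .all _ _)
  letI : Algebra (A₁ ⊗[A] B) B₂ := ψ.toRingHom.toAlgebra
  haveI : IsScalarTower A₁ (A₁ ⊗[A] B) B₂ := .of_algebraMap_eq' ψ.comp_algebraMap.symm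
  haveI : IsScalarTower B (A₁ ⊗[A] B) B₂ := .of_algebraMap_eq (fun b => by
    show algebraMap B B₂ b = ψ (1 ⊗ₜ b)
    simp only [ψ]
    rw [Algebra.TensorProduct.lift_tmul]
    simp)
  letI : Module (A₁ ⊗[A] B) N₂ := Module.compHom N₂ (algebraMap (A₁ ⊗[A] B) B₂)
  haveI : IsScalarTower (A₁ ⊗[A] B) B₂ N₂ := ⟨fun b b' n => by
    change (b • b') • n = algebraMap _ B₂ b • (b' • n)
    rw [Algebra.smul_def, mul_smul]⟩
  haveI : IsScalarTower B (A₁ ⊗[A] B) N₂ := ⟨fun b b' n => by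
    change algebraMap _ B₂ (b • b') • n = b • (algebraMap _ B₂ b' • n)
    rw [Algebra.smul_def, map_mul, mul_smul,
      ← IsScalarTower.algebraMap_apply B (A₁ ⊗[A] B) B₂, algebraMap_smul]⟩
  let f₁ : N →ₗ[B] (A₁ ⊗[A] B) ⊗[B] N := TensorProduct.mk B (A₁ ⊗[A] B) N 1
  have hbc₁ : IsBaseChange (A₁ ⊗[A] B) f₁ := TensorProduct.isBaseChange B N (A₁ ⊗[A] B)
  let g : (A₁ ⊗[A] B) ⊗[B] N →ₗ[A₁ ⊗[A] B] N₂ := hbc₁.lift f₂
  have hgf : ∀ n, g (f₁ n) = f₂ n := fun n => hbc₁.lift_eq f₂ n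
  have hpo₁ : Algebra.IsPushout A B A₁ (A₁ ⊗[A] B) := inferInstance
  have key := isImpurity_finite_aux N p A₂ B₂ N₂ f₂ t₂' t₂ P₂ himp A₁ (A₁ ⊗[A] B)
    ((A₁ ⊗[A] B) ⊗[B] N) hpo₁ f₁ hbc₁ g hgf huniq
  exact ⟨A₁ ⊗[A] B, (A₁ ⊗[A] B) ⊗[B] N, inferInstance, inferInstance, inferInstance,
    inferInstance, inferInstance, inferInstance, inferInstance, inferInstance, inferInstance,
    inferInstance, inferInstance, inferInstance, f₁, _, inferInstance, key⟩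

end impurity

end Groth.Agent.Lib.Helper15.ImpFin
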