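import Mathlib
import Groth.Prelude.Def_FlatCA
import Groth.Prelude.Def_Hensel
import Groth.Agent.Lib.Helper15.ImpDesc
import Groth.Agent.Lib.Helper4.HznColimEt

/-!
# An impurity over the henselization descends to an elementary étale neighbourhood
-/

set_option autoImplicit false
set_option linter.style.longLine false
universe u

namespace Groth.Agent.Lib.Helper15.ImpHens

open TensorProduct IsLocalRing Groth.Agent.Lib.Helper15 Groth.Agent.Lib.Helper4

theorem exists_etale_finset (R : Type u) [CommRing R] (p : Ideal R) [p.IsPrime] (Rh : Type u)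
    [CommRing Rh] [IsLocalRing Rh] [Algebra (Localization.AtPrime p) Rh]
    [IsLocalHom (algebraMap (Localization.AtPrime p) Rh)]
    [hH : Hensel.IsHenselization (Localization.AtPrime p) Rh] [Algebra R Rh]
    [IsScalarTower R (Localization.AtPrime p) Rh] (T : Finset Rh) :
    ∃ (E : Type u) (_ : CommRing E) (_ : Algebra R E) (_ : Algebra.Etale R E) (β : E →ₐ[R] Rh),
      ∀ a ∈ T, ∃ x : E, β x = a := by
  classical
  induction T using Finset.induction_on with
  | empty => exact ⟨R, inferInstance, inferInstance, inferInstance, Algebra.ofId R Rh, by simp⟩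
  | insert a T _ ih =>
    obtain ⟨E₁, _, _, _, β₁, h₁⟩ := ih
    obtain ⟨E₂, _, _, _, β₂, x₂, hx₂⟩ := Hzn.exists_etale_algHom_of_isIndEtale R Rh
      (Hzn.isIndEtale_atPrime_henselization R p Rh) a
    haveI : Algebra.Etale R (E₁ ⊗[R] E₂) := Algebra.Etale.comp R E₁ (E₁ ⊗[R] E₂)
    refine ⟨E₁ ⊗[R] E₂, inferInstance, inferInstance, inferInstance,
      Algebra.TensorProduct.lift β₁ β₂ (fun _ _ => .all _ _), fun b hb => ?_⟩
    rcases Finset.mem_insert.1 hb with rfl | hb
    · exact ⟨1 ⊗ₜ x₂, by rw [Algebra.TensorProduct.lift_tmul, map_one, one_mul]; exact hx₂⟩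
    · obtain ⟨y, hy⟩ := h₁ b hb
      exact ⟨y ⊗ₜ 1, by rw [Algebra.TensorProduct.lift_tmul, map_one, mul_one]; exact hy⟩

theorem main1248 {A B : Type u} [CommRing A] [CommRing B] [Algebra A B] [Algebra.FiniteType A B]
    (N : Type u) [AddCommGroup N] [Module B N] [Module.Finite B N] (p : Ideal A) [p.IsPrime]
    (h : FlatCA.HasImpurity A B N p (fun A' _ _ t => ∃ (_ : IsLocalRing A') (_ : Algebra (Localization.AtPrime p) A')
        (_ : IsScalarTower A (Localization.AtPrime p) A') (_ : IsLocalHom (algebraMap (Localization.AtPrime p) A')),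
        Hensel.IsHenselization (Localization.AtPrime p) A' ∧ t = maximalIdeal A')) :
    FlatCA.HasImpurity A B N p (fun A' _ _ t => ∃ _ : t.IsPrime, FlatCA.IsEtaleNhd A A' p t) := by
  obtain ⟨A', B', N', _, _, _, _, _, _, _, _, _, _, _, _, _, _, f, t', t, _, _, P, _, himp,
    _, _, _, _, hH, rfl⟩ := h
  obtain ⟨T, hT⟩ := ImpDesc.exists_finset_descend N p A' B' N' f t' (maximalIdeal A') P himp
  obtain ⟨E, _, _, _, β, hβ⟩ := exists_etale_finset A p A' T
  letI : Algebra E A' := β.toRingHom.toAlgebra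
  haveI : IsScalarTower A E A' := .of_algebraMap_eq' β.comp_algebraMap.symm
  obtain ⟨B₁, N₁, i1, i2, i3, i4, i5, i6, i7, i8, i9, i10, i11, i12, f₁, P₁, hP₁, himp₁⟩ :=
    hT E hβ
  have hq : p = ((maximalIdeal A').comap (algebraMap E A')).comap (algebraMap A E) :=
    Hzn.comap_comap_eq β
  refine ⟨E, B₁, N₁, inferInstance, i1, inferInstance, i2, i3, i4, i5, i6, i7, i8, i9, i10,
    i11, i12, f₁, t'.comap (algebraMap E A'), (maximalIdeal A').comap (algebraMap E A'),
    inferInstance, inferInstance, P₁, hP₁, himp₁, inferInstance, inferInstance, ⟨hq⟩, ?_⟩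
  exact Hzn.bijective_residueField_map_comap β _ rfl hq

end Groth.Agent.Lib.Helper15.ImpHens
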