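import Mathlib
import Groth.Prelude.Def_FlatCA
import Groth.Agent.Lib.Helper15.ImpDesc
import Groth.Agent.Lib.Helper15.ImpFP

/-!
# Fibre ideals: closed points of fibres and a quasi-finiteness criterion (helper15)
-/

set_option autoImplicit false
set_option linter.style.haveILetI false
set_option linter.unusedSectionVars false
set_option linter.style.longLine false
universe u

open TensorProduct

namespace Groth.Agent.Lib.Helper15.ImpN0

open Groth.Agent.Lib.Helper26 Groth.Agent.Lib.Helper15

attribute [local instance] Algebra.TensorProduct.rightAlgebra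

variable {A D : Type u} [CommRing A] [CommRing D] [Algebra A D] (p : Ideal A) [p.IsPrime]

theorem comap_fiberIdeal (t : Ideal D) [t.IsPrime] [t.LiesOver p] :
    (FlatCA.fiberIdeal p t).comap (Algebra.TensorProduct.includeRight (R := A)
      (A := p.ResidueField) (B := D)).toRingHom = t := by
  apply le_antisymm
  · intro s hs
    exact ImpDesc.mem_of_includeRight_mem_fiberIdeal p t s hs
  · exact Ideal.le_comap_map

theorem fiberIdeal_ne_top (t : Ideal D) [t.IsPrime] [t.LiesOver p] :
    FlatCA.fiberIdeal p t ≠ ⊤ := by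
  intro h
  have h1 : (1 : D) ∈ (FlatCA.fiberIdeal p t).comap (Algebra.TensorProduct.includeRight (R := A)
      (A := p.ResidueField) (B := D)).toRingHom := by
    rw [h]; trivial
  rw [comap_fiberIdeal] at h1
  exact (Ideal.IsPrime.ne_top inferInstance) ((Ideal.eq_top_iff_one t).2 h1)

theorem liesOver_comap (M : Ideal (p.Fiber D)) [hM : M.IsPrime] :
    (M.comap (Algebra.TensorProduct.includeRight (R := A)
      (A := p.ResidueField) (B := D)).toRingHom).LiesOver p := by
  refine ⟨?_⟩
  ext a
  rw [Ideal.under_def, Ideal.mem_comap, Ideal.mem_comap]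
  constructor
  · intro ha
    have : (Algebra.TensorProduct.includeRight (R := A) (A := p.ResidueField)
        (B := D)).toRingHom (algebraMap A D a) = 0 := by
      show (1 : p.ResidueField) ⊗ₜ[A] (algebraMap A D a) = 0
      rw [Algebra.algebraMap_eq_smul_one, TensorProduct.tmul_smul, TensorProduct.smul_tmul',
        Algebra.smul_def, mul_one, Ideal.algebraMap_residueField_eq_zero.2 ha,
        TensorProduct.zero_tmul]
    rw [this]
    exact M.zero_mem
  · intro ha
    by_contra hat
    have hu := FiberAss.isUnit_includeRight_algebraMap (S := D) p hat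
    exact hM.ne_top (Ideal.eq_top_of_isUnit_mem _ ha hu)

theorem closed_of_isMaximal (t : Ideal D) [t.IsPrime] [t.LiesOver p]
    (hmax : (FlatCA.fiberIdeal p t).IsMaximal) (r : Ideal D) [r.IsPrime] [r.LiesOver p]
    (htr : t ≤ r) : r = t := by
  have h1 : FlatCA.fiberIdeal p t ≤ FlatCA.fiberIdeal p r := Ideal.map_mono htr
  have h2 := hmax.eq_of_le (fiberIdeal_ne_top p r) h1
  rw [← comap_fiberIdeal p r, ← h2, comap_fiberIdeal p t]

theorem isMaximal_of_closed (t : Ideal D) [t.IsPrime] [t.LiesOver p]
    (hcl : ∀ (r : Ideal D) [r.IsPrime], r.LiesOver p → t ≤ r → r = t) :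
    (FlatCA.fiberIdeal p t).IsMaximal := by
  obtain ⟨M, hM, hle⟩ := Ideal.exists_le_maximal _ (fiberIdeal_ne_top p t)
  haveI := hM.isPrime
  have h1 := hcl (M.comap (Algebra.TensorProduct.includeRight (R := A)
      (A := p.ResidueField) (B := D)).toRingHom) (liesOver_comap p M) (by
    rw [← comap_fiberIdeal p t]
    exact Ideal.comap_mono hle)
  have h2 : FlatCA.fiberIdeal p t = M := by
    unfold FlatCA.fiberIdeal
    rw [← h1]
    exact H12UnivInjAss.map_comap_includeRight p M
  rw [h2]
  exact hM

theorem quasiFiniteAt_of_closed_of_minimal [Algebra.FiniteType A D] (t : Ideal D) [t.IsPrime]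
    [t.LiesOver p] (hmax : (FlatCA.fiberIdeal p t).IsMaximal)
    (hmin : ∀ (r : Ideal D) [r.IsPrime], r.LiesOver p → r ≤ t → r = t) :
    Algebra.QuasiFiniteAt A t := by
  haveI hT : (FlatCA.fiberIdeal p t).IsPrime := hmax.isPrime
  haveI : IsNoetherianRing (p.Fiber D) :=
    Algebra.FiniteType.isNoetherianRing p.ResidueField (p.Fiber D)
  haveI : IsJacobsonRing (p.Fiber D) :=
    isJacobsonRing_of_finiteType (A := p.ResidueField) (B := p.Fiber D)
  let x : PrimeSpectrum (p.Fiber D) := ⟨FlatCA.fiberIdeal p t, hT⟩
  have hopen : IsOpen ({x} : Set (PrimeSpectrum (p.Fiber D))) := by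
    have h20 : (IsClosed ({x} : Set (PrimeSpectrum (p.Fiber D))) ∧
        StableUnderGeneralization ({x} : Set (PrimeSpectrum (p.Fiber D)))) →
        IsOpen ({x} : Set (PrimeSpectrum (p.Fiber D))) :=
      ((PrimeSpectrum.isOpen_singleton_tfae_of_isNoetherian_of_isJacobsonRing x).out 2 0).mp
    refine h20 ⟨?_, ?_⟩
    · rw [PrimeSpectrum.isClosed_singleton_iff_isMaximal]
      exact hmax
    · intro a b hba ha
      rw [Set.mem_singleton_iff] at ha ⊢
      subst ha
      have hle : b.asIdeal ≤ FlatCA.fiberIdeal p t := (PrimeSpectrum.le_iff_specializes b x).2 hba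
      have h1 := hmin (b.asIdeal.comap (Algebra.TensorProduct.includeRight (R := A)
        (A := p.ResidueField) (B := D)).toRingHom) (liesOver_comap p b.asIdeal) (by
          rw [← comap_fiberIdeal p t]
          exact Ideal.comap_mono hle)
      apply PrimeSpectrum.ext
      show b.asIdeal = FlatCA.fiberIdeal p t
      unfold FlatCA.fiberIdeal
      rw [← h1]
      exact (H12UnivInjAss.map_comap_includeRight p b.asIdeal).symm
  haveI : Algebra.QuasiFiniteAt p.ResidueField x.asIdeal :=
    Algebra.QuasiFiniteAt.of_isOpen_singleton (R := p.ResidueField) x hopen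
  exact Algebra.QuasiFiniteAt.of_quasiFiniteAt_residueField p t (FlatCA.fiberIdeal p t)
    (comap_fiberIdeal p t)

end Groth.Agent.Lib.Helper15.ImpN0
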