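import Mathlib
import Groth.Prelude.Def_FlatCA
import Groth.Agent.Lib.Helper15.ImpDesc
import Groth.Agent.Lib.Helper25.GFMod
import Groth.Agent.Lib.Helper9.GenExact

/-!
# Generic associated points of fibres (helper15)

Over a Noetherian domain `D`, an associated point of the generic fibre of a finite module over a
finite type `D`-algebra spreads out to associated points of the fibres over a nonempty open.
-/

set_option autoImplicit false
set_option linter.style.haveILetI false
set_option linter.unusedSectionVars false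
set_option linter.style.longLine false
universe u

open TensorProduct

namespace Groth.Agent.Lib.Helper15.ImpN1

open Groth.Agent.Lib.Helper26 Groth.Agent.Lib.Helper15 Groth.Agent.Lib.Helper25.GFMod
  Groth.Agent.Lib.Helper9

variable {D S : Type u} [CommRing D] [IsDomain D] [IsNoetherianRing D] [CommRing S] [Algebra D S]
  [Algebra.FiniteType D S]
  (M : Type u) [AddCommGroup M] [Module S M] [Module D M] [IsScalarTower D S M]

/-- (a) clear denominators: the generic witness can be chosen with annihilator exactly `P` -/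
theorem exists_ann_eq (P : Ideal S) [P.IsPrime] (x : M)
    (hx : ∀ b : S, b ∈ P ↔ (b • x) ⊗ₜ[D] (1 : (⊥ : Ideal D).ResidueField) = 0) :
    ∃ x' : M, ∀ b : S, b ∈ P ↔ b • x' = 0 := by
  classical
  haveI : IsNoetherianRing S := Algebra.FiniteType.isNoetherianRing D S
  obtain ⟨T, hT⟩ : P.FG := IsNoetherian.noetherian P
  have h1 : ∀ y : M, y ⊗ₜ[D] (1 : (⊥ : Ideal D).ResidueField) = 0 ↔ ∃ r : D, r ≠ 0 ∧ r • y = 0 := by
    intro y
    rw [FiberAss.tmul_one_eq_zero_iff]
    constructor
    · rintro ⟨r, hr, hry⟩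
      rw [Submodule.bot_smul, Submodule.mem_bot] at hry
      exact ⟨r, fun h => hr (by rw [h]; exact Submodule.zero_mem _), hry⟩
    · rintro ⟨r, hr, hry⟩
      refine ⟨r, fun h => hr ((Submodule.mem_bot D).1 h), ?_⟩
      rw [hry]
      exact Submodule.zero_mem _
  have h2 : ∀ b ∈ T, ∃ r : D, r ≠ 0 ∧ r • (b • x) = 0 := by
    intro b hb
    have : b ∈ P := by
      rw [← hT]
      exact Submodule.subset_span hb
    exact (h1 _).1 ((hx b).1 this)
  choose! d hd0 hd using h2
  refine ⟨(∏ b ∈ T, d b) • x, fun b => ?_⟩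
  constructor
  · intro hb
    have hle : P ≤ (Submodule.span S {(∏ b ∈ T, d b) • x}).annihilator := by
      rw [← hT, Ideal.span_le]
      intro c hc
      rw [SetLike.mem_coe, Submodule.mem_annihilator_span_singleton]
      obtain ⟨e, he⟩ := Finset.dvd_prod_of_mem d hc
      rw [he, smul_comm, mul_comm, mul_smul, hd c hc, smul_zero]
    have := hle hb
    rwa [Submodule.mem_annihilator_span_singleton] at this
  · intro hb
    rw [hx, h1]
    refine ⟨∏ b ∈ T, d b, ?_, ?_⟩
    · rw [Finset.prod_ne_zero_iff]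
      exact hd0
    · rw [smul_comm]
      exact hb

/-- a `D`-linear functional on `E` detecting an element of `E ⊗ κ`, from freeness of `E_g` -/
theorem exists_tmul_one_ne_zero {E : Type u} [AddCommGroup E] [Module D E] (g : D)
    [Module.Free (Localization.Away g) (LocalizedModule (Submonoid.powers g) E)]
    [Nontrivial (LocalizedModule (Submonoid.powers g) E)]
    (𝔮 : Ideal D) [𝔮.IsPrime] (hg𝔮 : g ∉ 𝔮) :
    ∃ m : E, m ⊗ₜ[D] (1 : 𝔮.ResidueField) ≠ 0 := by
  set Sg := Submonoid.powers g with hSg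
  set κ := 𝔮.ResidueField with hκ
  have hgκ : algebraMap D κ g ≠ 0 := by
    rwa [ne_eq, Ideal.algebraMap_residueField_eq_zero]
  let b := Module.Free.chooseBasis (Localization.Away g) (LocalizedModule Sg E)
  obtain ⟨i⟩ := b.index_nonempty
  obtain ⟨⟨m, s⟩, hms⟩ := IsLocalizedModule.surj Sg (LocalizedModule.mkLinearMap Sg E) (b i)
  have hunit : ∀ y : Sg, IsUnit ((Algebra.ofId D κ) y) := by
    rintro ⟨_, k, rfl⟩
    rw [isUnit_iff_ne_zero]
    show algebraMap D κ (g ^ k) ≠ 0
    rw [map_pow]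
    exact pow_ne_zero _ hgκ
  let ψ : Localization.Away g →ₐ[D] κ := IsLocalization.liftAlgHom (M := Sg) hunit
  let c : LocalizedModule Sg E →ₗ[D] Localization.Away g := (b.coord i).restrictScalars D
  let l : E →ₗ[D] κ := ψ.toLinearMap ∘ₗ c ∘ₗ (LocalizedModule.mkLinearMap Sg E)
  let Λ : E ⊗[D] κ →ₗ[D] κ := (LinearMap.mul' D κ) ∘ₗ (l.rTensor κ)
  refine ⟨m, fun h0 => ?_⟩
  have h1 : Λ (m ⊗ₜ[D] (1 : κ)) = 0 := by rw [h0, map_zero]
  have h2 : Λ (m ⊗ₜ[D] (1 : κ)) = algebraMap D κ (s : D) := by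
    show l m * 1 = _
    rw [mul_one]
    show ψ (b.coord i (LocalizedModule.mkLinearMap Sg E m)) = _
    simp only at hms
    rw [← hms, Submonoid.smul_def, ← algebraMap_smul (Localization.Away g) (s : D) (b i),
      map_smul, Module.Basis.coord_apply, Module.Basis.repr_self, Finsupp.single_eq_same, smul_eq_mul, mul_one,
      AlgHom.commutes]
  rw [h2] at h1
  obtain ⟨_, k, rfl⟩ := s
  simp only at h1
  rw [map_pow] at h1
  exact pow_ne_zero _ hgκ h1

variable [Module.Finite S M]

set_option maxHeartbeats 800000 in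
/-- generic associated points -/
theorem exists_generic (P : Ideal S) [P.IsPrime] (hP0 : P.under D = ⊥) (x' : M)
    (hx' : ∀ b : S, b ∈ P ↔ b • x' = 0) :
    ∃ g : D, g ≠ 0 ∧ ∀ (𝔮 : Ideal D) [𝔮.IsPrime], g ∉ 𝔮 →
      ∃ (P' : Ideal S) (_ : P'.IsPrime), P ≤ P' ∧ P'.LiesOver 𝔮 ∧
        ∃ y : M, ∀ b : S, b ∈ P' ↔ (b • y) ⊗ₜ[D] (1 : 𝔮.ResidueField) = 0 := by
  haveI : IsNoetherianRing S := Algebra.FiniteType.isNoetherianRing D S
  let E : Submodule S M := Submodule.span S {x'}
  haveI : IsNoetherian S M := isNoetherian_of_isNoetherianRing_of_finite S M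
  haveI : Module.Finite S E := Module.IsNoetherian.finite S E
  obtain ⟨g₁, -, hg₁, hGF₁⟩ := exists_GF D S E 1 one_ne_zero
  obtain ⟨g, hdvd, hg, hGF₂⟩ := exists_GF D S (M ⧸ E) g₁ hg₁
  have hGF₁' := hGF₁.mono hdvd
  refine ⟨g, hg, fun 𝔮 _ hg𝔮 => ?_⟩
  set Sg := Submonoid.powers g with hSg
  set κ := 𝔮.ResidueField with hκ
  have hgκ : algebraMap D κ g ≠ 0 := by
    rwa [ne_eq, Ideal.algebraMap_residueField_eq_zero]
  let ι : E →ₗ[D] M := E.subtype.restrictScalars D
  let π : M →ₗ[D] M ⧸ E := E.mkQ.restrictScalars D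
  let ιg := IsLocalizedModule.map Sg (LocalizedModule.mkLinearMap Sg E)
    (LocalizedModule.mkLinearMap Sg M) ι
  let πg := IsLocalizedModule.map Sg (LocalizedModule.mkLinearMap Sg M)
    (LocalizedModule.mkLinearMap Sg (M ⧸ E)) π
  have hιg : Function.Injective ιg :=
    IsLocalizedModule.map_injective Sg _ _ ι E.injective_subtype
  have hπg : Function.Surjective πg :=
    IsLocalizedModule.map_surjective Sg _ _ π E.mkQ_surjective
  have hex : Function.Exact ιg πg :=
    LocalizedModule.map_exact Sg ι π (LinearMap.exact_subtype_mkQ E)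
  haveI : Module.Free (Localization.Away g) (LocalizedModule Sg (M ⧸ E)) := (hGF₂ g dvd_rfl).1
  haveI : Module.Flat D (LocalizedModule Sg (M ⧸ E)) :=
    Module.Flat.trans D (Localization.Away g) _
  have hinj1 : Function.Injective (ιg.lTensor κ) :=
    GenExact.lTensor_injective_of_flat_coker ιg πg hιg hex hπg κ
  have hinj2 := GenExact.lTensor_mkLinearMap_injective g κ hgκ E
  have hcomp : ιg ∘ₗ LocalizedModule.mkLinearMap Sg E = LocalizedModule.mkLinearMap Sg M ∘ₗ ι :=
    IsLocalizedModule.map_comp Sg _ _ ι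
  have hinj3 : Function.Injective (ι.lTensor κ) := by
    have h3 : (LinearMap.lTensor κ (LocalizedModule.mkLinearMap Sg M)) ∘ₗ (ι.lTensor κ) =
        (ιg.lTensor κ) ∘ₗ (LinearMap.lTensor κ (LocalizedModule.mkLinearMap Sg E)) := by
      rw [← LinearMap.lTensor_comp, ← LinearMap.lTensor_comp, hcomp]
    have h := hinj1.comp hinj2
    rw [← LinearMap.coe_comp, ← h3, LinearMap.coe_comp] at h
    exact Function.Injective.of_comp h
  have hinj4 : Function.Injective (ι.rTensor κ) :=
    (LinearMap.lTensor_inj_iff_rTensor_inj κ ι).1 hinj3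
  -- nonvanishing
  let xE : E := ⟨x', Submodule.mem_span_singleton_self x'⟩
  haveI hfreeE : Module.Free (Localization.Away g) (LocalizedModule Sg E) := (hGF₁' g dvd_rfl).1
  have hne : LocalizedModule.mkLinearMap Sg E xE ≠ 0 := by
    intro h0
    obtain ⟨⟨_, k, rfl⟩, hc⟩ := (IsLocalizedModule.eq_zero_iff Sg
      (LocalizedModule.mkLinearMap Sg E)).1 h0
    have h1 : (g ^ k) • x' = 0 := by
      have := congrArg Subtype.val hc
      simpa [xE, Submonoid.smul_def] using this
    rw [← algebraMap_smul S (g ^ k) x', ← hx'] at h1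
    have h2 : g ^ k ∈ P.under D := h1
    rw [hP0, Ideal.mem_bot] at h2
    exact hg (pow_eq_zero_iff (n := k) (by
      intro hk
      rw [hk, pow_zero] at h2
      exact one_ne_zero h2) |>.1 h2)
  haveI : Nontrivial (LocalizedModule Sg E) := ⟨_, 0, hne⟩
  obtain ⟨m, hm⟩ := exists_tmul_one_ne_zero (E := E) g 𝔮 hg𝔮
  haveI : Nontrivial (E ⊗[D] κ) := ⟨_, 0, hm⟩
  obtain ⟨P', hP'⟩ := associatedPrimes.nonempty S (E ⊗[D] κ)
  obtain ⟨hP'prime, ē, hē⟩ := (isAssociatedPrime_iff).1 hP'
  have hmem : ∀ b : S, b ∈ P' ↔ b • ē = 0 := by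
    intro b
    rw [hē, Submodule.mem_colon_singleton, Submodule.mem_bot]
  have hē0 : ē ≠ 0 := by
    intro h0
    apply hP'prime.ne_top
    rw [Ideal.eq_top_iff_one, hmem, h0, smul_zero]
  obtain ⟨r, hr, e, he⟩ := FiberAss.exists_smul_eq_tmul_one 𝔮 E ē
  -- the chain of equivalences
  have hchain : ∀ b : S, b ∈ P' ↔ (b • (e : M)) ⊗ₜ[D] (1 : κ) = 0 := by
    intro b
    rw [hmem]
    have h1 : b • ē = 0 ↔ (b • e) ⊗ₜ[D] (1 : κ) = 0 := by
      constructor
      · intro h
        have : r • (b • ē) = 0 := by rw [h, smul_zero]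
        rw [smul_comm, he, TensorProduct.smul_tmul'] at this
        exact this
      · intro h
        apply FiberAss.eq_zero_of_smul_eq_zero 𝔮 E hr
        rw [smul_comm, he, TensorProduct.smul_tmul']
        exact h
    rw [h1]
    have h2 : ι.rTensor κ ((b • e) ⊗ₜ[D] (1 : κ)) = (b • (e : M)) ⊗ₜ[D] (1 : κ) := rfl
    rw [← h2]
    exact (map_eq_zero_iff _ hinj4).symm
  have hkill : ∀ d ∈ 𝔮, ∀ z : E ⊗[D] κ, d • z = 0 := by
    intro d hd z
    induction z using TensorProduct.induction_on with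
    | zero => rw [smul_zero]
    | tmul n a =>
      rw [TensorProduct.smul_tmul', TensorProduct.smul_tmul, Algebra.smul_def,
        Ideal.algebraMap_residueField_eq_zero.2 hd, zero_mul, TensorProduct.tmul_zero]
    | add x y hx hy => rw [smul_add, hx, hy, add_zero]
  refine ⟨P', hP'prime, ?_, ⟨?_⟩, (e : M), hchain⟩
  · intro b hb
    rw [hchain]
    have : b • (e : M) = 0 := by
      obtain ⟨e, hemem⟩ := e
      obtain ⟨s, rfl⟩ := Submodule.mem_span_singleton.1 hemem
      show b • s • x' = 0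
      rw [smul_comm, (hx' b).1 hb, smul_zero]
    rw [this, TensorProduct.zero_tmul]
  · ext d
    rw [Ideal.under_def, Ideal.mem_comap, hmem, algebraMap_smul]
    constructor
    · intro hd
      exact hkill d hd ē
    · intro hd
      by_contra hd'
      exact hē0 (FiberAss.eq_zero_of_smul_eq_zero 𝔮 E hd' ē hd)

end Groth.Agent.Lib.Helper15.ImpN1
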