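import Mathlib

/-!
# A prime of "dimension one at `t`" avoiding a given element (helper15)
-/

set_option autoImplicit false
set_option linter.style.haveILetI false
set_option linter.unusedSectionVars false
set_option linter.style.longLine false
universe u

namespace Groth.Agent.Lib.Helper15.ImpN2

section domain

variable {R : Type u} [CommRing R] [IsDomain R] [IsNoetherianRing R]

/-- in a Noetherian domain, below a prime minimal over a principal ideal there is only `⊥` -/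
theorem eq_bot_of_lt_minimal (I : Ideal R) [I.IsPrincipal] (𝔫 : Ideal R)
    (h𝔫 : 𝔫 ∈ I.minimalPrimes) (a : Ideal R) [a.IsPrime] (ha : a < 𝔫) : a = ⊥ := by
  haveI : 𝔫.IsPrime := h𝔫.1.1
  have h1 := Ideal.height_le_one_of_isPrincipal_of_mem_minimalPrimes I 𝔫 h𝔫
  have h2 := (Ideal.height_le_iff (p := 𝔫) (n := 1)).1 (by exact_mod_cast h1) a inferInstance ha
  rw [Nat.cast_one, ENat.lt_one_iff_eq_zero] at h2
  exact Ideal.height_eq_zero_iff_eq_bot.1 h2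

theorem key (t r : Ideal R) [t.IsPrime] [r.IsPrime] (hr0 : r ≠ ⊥) (hrt : r < t) (g : R)
    (hg : g ≠ 0) : ∃ 𝔫 : Ideal R, 𝔫.IsPrime ∧ 𝔫 ≠ ⊥ ∧ 𝔫 ≤ t ∧ g ∉ 𝔫 := by
  classical
  by_cases hgt : g ∈ t
  swap
  · exact ⟨r, inferInstance, hr0, hrt.le, fun h => hgt (hrt.le h)⟩
  have hfin : (Ideal.span {g}).minimalPrimes.Finite :=
    Ideal.finite_minimalPrimes_of_isNoetherianRing R _
  have hgle : Ideal.span {g} ≤ t := by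
    rw [Ideal.span_singleton_le_iff_mem]
    exact hgt
  obtain ⟨𝔫₀, h𝔫₀, h𝔫₀t⟩ := Ideal.exists_minimalPrimes_le hgle
  have hnot : ¬ ((t : Set R) ⊆ ⋃ 𝔫 ∈ (↑hfin.toFinset : Set (Ideal R)), ((id 𝔫 : Ideal R) : Set R)) := by
    intro hsub
    rw [Ideal.subset_union_prime (⊥ : Ideal R) ⊥ (fun 𝔫 h𝔫 _ _ => by
      rw [Set.Finite.mem_toFinset] at h𝔫
      exact h𝔫.1.1)] at hsub
    obtain ⟨𝔫, h𝔫, ht𝔫⟩ := hsub
    rw [Set.Finite.mem_toFinset] at h𝔫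
    have := eq_bot_of_lt_minimal (Ideal.span {g}) 𝔫 h𝔫 r (lt_of_lt_of_le hrt ht𝔫)
    exact hr0 this
  obtain ⟨y, hyt, hy⟩ := Set.not_subset.1 hnot
  have hy' : ∀ 𝔫 ∈ (Ideal.span {g}).minimalPrimes, y ∉ 𝔫 := by
    intro 𝔫 h𝔫 hy𝔫
    apply hy
    simp only [Set.mem_iUnion]
    exact ⟨𝔫, by simpa using h𝔫, hy𝔫⟩
  have hyle : Ideal.span {y} ≤ t := by
    rw [Ideal.span_singleton_le_iff_mem]
    exact hyt
  obtain ⟨𝔫, h𝔫, h𝔫t⟩ := Ideal.exists_minimalPrimes_le hyle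
  have hy𝔫 : y ∈ 𝔫 := h𝔫.1.2 (Ideal.mem_span_singleton_self y)
  haveI : 𝔫.IsPrime := h𝔫.1.1
  refine ⟨𝔫, inferInstance, ?_, h𝔫t, ?_⟩
  · intro h0
    rw [h0, Ideal.mem_bot] at hy𝔫
    apply hy' 𝔫₀ h𝔫₀
    rw [hy𝔫]
    exact 𝔫₀.zero_mem
  · intro hg𝔫
    have hle : Ideal.span {g} ≤ 𝔫 := by
      rw [Ideal.span_singleton_le_iff_mem]
      exact hg𝔫
    obtain ⟨𝔫₁, h𝔫₁, h𝔫₁le⟩ := Ideal.exists_minimalPrimes_le hle
    haveI : 𝔫₁.IsPrime := h𝔫₁.1.1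
    have hg𝔫₁ : g ∈ 𝔫₁ := h𝔫₁.1.2 (Ideal.mem_span_singleton_self g)
    rcases eq_or_lt_of_le h𝔫₁le with h | h
    · apply hy' 𝔫₁ h𝔫₁
      rw [h]
      exact hy𝔫
    · have := eq_bot_of_lt_minimal (Ideal.span {y}) 𝔫 h𝔫 𝔫₁ h
      rw [this, Ideal.mem_bot] at hg𝔫₁
      exact hg hg𝔫₁

end domain

/-- a prime `𝔮 ≤ t` avoiding `g` such that there is no prime strictly between `𝔮` and `t` -/
theorem exists_prime {D : Type u} [CommRing D] [IsDomain D] [IsNoetherianRing D] (t : Ideal D)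
    [t.IsPrime] (g : D) (hg : g ≠ 0) :
    ∃ 𝔮 : Ideal D, 𝔮.IsPrime ∧ 𝔮 ≤ t ∧ g ∉ 𝔮 ∧
      ∀ r : Ideal D, r.IsPrime → 𝔮 < r → r ≤ t → r = t := by
  obtain ⟨𝔮, ⟨h𝔮p, h𝔮t, hg𝔮⟩, hmax⟩ := (set_has_maximal_iff_noetherian (R := D) (M := D)).2
    inferInstance {𝔮 : Ideal D | 𝔮.IsPrime ∧ 𝔮 ≤ t ∧ g ∉ 𝔮}
    ⟨⊥, Ideal.bot_prime, bot_le, fun h => hg ((Ideal.mem_bot).1 h)⟩
  refine ⟨𝔮, h𝔮p, h𝔮t, hg𝔮, fun r hr h𝔮r hrt => ?_⟩
  by_contra hne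
  have hrt' : r < t := lt_of_le_of_ne hrt hne
  have hsurj : Function.Surjective (Ideal.Quotient.mk 𝔮) := Ideal.Quotient.mk_surjective
  have hker : RingHom.ker (Ideal.Quotient.mk 𝔮) = 𝔮 := Ideal.mk_ker
  haveI : IsDomain (D ⧸ 𝔮) := Ideal.Quotient.isDomain 𝔮
  haveI : (r.map (Ideal.Quotient.mk 𝔮)).IsPrime :=
    Ideal.map_isPrime_of_surjective hsurj (by rw [hker]; exact h𝔮r.le)
  haveI : (t.map (Ideal.Quotient.mk 𝔮)).IsPrime :=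
    Ideal.map_isPrime_of_surjective hsurj (by rw [hker]; exact h𝔮t)
  have hr0 : r.map (Ideal.Quotient.mk 𝔮) ≠ ⊥ := by
    intro h0
    rw [Ideal.map_eq_bot_iff_le_ker, hker] at h0
    exact not_le_of_gt h𝔮r h0
  have hlt : r.map (Ideal.Quotient.mk 𝔮) < t.map (Ideal.Quotient.mk 𝔮) := by
    refine lt_of_le_of_ne (Ideal.map_mono hrt) (fun h => hne ?_)
    rw [← Ideal.comap_map_mk h𝔮r.le, h, Ideal.comap_map_mk h𝔮t]
  have hg0 : Ideal.Quotient.mk 𝔮 g ≠ 0 := by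
    rw [ne_eq, Ideal.Quotient.eq_zero_iff_mem]
    exact hg𝔮
  obtain ⟨𝔫, h𝔫p, h𝔫0, h𝔫t, hg𝔫⟩ := key _ _ hr0 hlt _ hg0
  have h1 : 𝔮 ≤ 𝔫.comap (Ideal.Quotient.mk 𝔮) := by
    intro z hz
    rw [Ideal.mem_comap, Ideal.Quotient.eq_zero_iff_mem.2 hz]
    exact 𝔫.zero_mem
  have h2 : 𝔮 ≠ 𝔫.comap (Ideal.Quotient.mk 𝔮) := by
    intro h
    apply h𝔫0
    rw [← Ideal.map_comap_of_surjective _ hsurj 𝔫, ← h, Ideal.map_quotient_self]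
  apply hmax (𝔫.comap (Ideal.Quotient.mk 𝔮)) ⟨Ideal.comap_isPrime _ _, ?_, hg𝔫⟩ (lt_of_le_of_ne h1 h2)
  rw [← Ideal.comap_map_mk h𝔮t]
  exact Ideal.comap_mono h𝔫t

end Groth.Agent.Lib.Helper15.ImpN2
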