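import Mathlib
import Groth.Prelude.Def_FlatCA
import Groth.Agent.Lib.Helper26.FiberAss

/-!
# Maps from projective modules to flat modules over a local ring which are injective modulo the
maximal ideal are universally injective (helper15)
-/

set_option autoImplicit false
universe u

namespace Groth.Agent.Lib.Helper15.ProjUnivInj

open TensorProduct IsLocalRing

variable {R : Type u} [CommRing R] [IsLocalRing R]

/-- finite free case, elementwise form -/
theorem eq_zero_of_sum_tmul_eq_zero {N' : Type u} [AddCommGroup N'] [Module R N'] [Module.Flat R N']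
    {Q : Type u} [AddCommGroup Q] [Module R Q] {ι : Type u} [Fintype ι]
    (q : ι → Q) (y : ι → N')
    (hy : ∀ c : ι → R, ∑ i, c i • y i ∈ (maximalIdeal R) • (⊤ : Submodule R N') →
      ∀ i, c i ∈ maximalIdeal R)
    (hsum : ∑ i, q i ⊗ₜ[R] y i = 0) : ∀ i, q i = 0 := by
  classical
  obtain ⟨k, a, y', h1, h2⟩ := vanishesTrivially_of_sum_tmul_eq_zero_of_rTensor_injective R
    (Module.Flat.rTensor_preserves_injective_linearMap _ (Submodule.injective_subtype _)) hsum
  let κ := ResidueField R
  let res : R →+* κ := residue R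
  let f : (ι → κ) →ₗ[κ] (Fin k → κ) := Matrix.vecMulLinear (Matrix.of fun i j => res (a i j))
  have hfapp : ∀ (c : ι → κ) (j : Fin k), f c j = ∑ i, c i * res (a i j) := by
    intro c j
    simp [f, Matrix.vecMulLinear_apply, Matrix.vecMul, dotProduct]
  have hf : LinearMap.ker f = ⊥ := by
    rw [LinearMap.ker_eq_bot']
    intro c hc
    choose c' hc' using fun i => residue_surjective (c i)
    have hmem : ∀ j, ∑ i, c' i * a i j ∈ maximalIdeal R := by
      intro j
      rw [← residue_eq_zero_iff, map_sum]
      have := congrFun hc j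
      rw [hfapp] at this
      simp only [map_mul, hc']
      exact this
    have hin : ∑ i, c' i • y i ∈ maximalIdeal R • (⊤ : Submodule R N') := by
      have e : ∑ i, c' i • y i = ∑ j, (∑ i, c' i * a i j) • y' j := by
        simp_rw [h1, Finset.smul_sum, smul_smul, Finset.sum_smul]
        rw [Finset.sum_comm]
      rw [e]
      exact Submodule.sum_mem _ fun j _ => Submodule.smul_mem_smul (hmem j) Submodule.mem_top
    have h3 := hy c' hin
    ext i
    rw [← hc' i]
    exact (residue_eq_zero_iff _).2 (h3 i)
  obtain ⟨g, hg⟩ := LinearMap.exists_leftInverse_of_injective f hf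
  choose b hb using fun (j : Fin k) (l : ι) => residue_surjective (g (Pi.single j 1) l)
  let C : Matrix ι ι R := Matrix.of fun i l => ∑ j, a i j * b j l
  have hC : C.map res = 1 := by
    ext i l
    have e1 : f (Pi.single i 1) = ∑ j, res (a i j) • (Pi.single j 1 : Fin k → κ) := by
      ext j'
      rw [hfapp]
      simp [Finset.sum_apply, Pi.single_apply]
    have e2 := congrArg (fun φ => φ (Pi.single i 1)) hg
    simp only [LinearMap.comp_apply, LinearMap.id_apply] at e2
    rw [e1, map_sum] at e2
    have e3 := congrFun e2 l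
    simp only [map_smul, Finset.sum_apply, Pi.smul_apply, smul_eq_mul] at e3
    have hb' : ∀ (j : Fin k) (l : ι), res (b j l) = g (Pi.single j 1) l := hb
    simp only [Matrix.map_apply, C, Matrix.of_apply, map_sum, map_mul, hb', Matrix.one_apply]
    rw [e3, Pi.single_apply]
    simp [eq_comm]
  have hdet : IsUnit C.det := by
    have h1' : res C.det = 1 := by
      rw [RingHom.map_det]
      have : res.mapMatrix C = C.map res := rfl
      rw [this, hC, Matrix.det_one]
    by_contra hnu
    have : C.det ∈ maximalIdeal R := (mem_maximalIdeal _).2 hnu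
    rw [← residue_eq_zero_iff] at this
    rw [this] at h1'
    exact zero_ne_one h1'
  have hCq : ∀ l, ∑ i, C i l • q i = 0 := by
    intro l
    have e : ∑ i, C i l • q i = ∑ j, b j l • ∑ i, a i j • q i := by
      simp only [C, Matrix.of_apply, Finset.sum_smul, Finset.smul_sum, smul_smul]
      rw [Finset.sum_comm]
      refine Finset.sum_congr rfl fun j _ => Finset.sum_congr rfl fun i _ => ?_
      rw [mul_comm]
    rw [e]
    simp only [h2, smul_zero, Finset.sum_const_zero]
  intro p
  have e1 : C.det • q p = ∑ i, ((C * C.adjugate) i p) • q i := by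
    rw [Matrix.mul_adjugate]
    simp [Matrix.smul_apply, Matrix.one_apply, ite_smul, Finset.sum_ite_eq']
  have e2 : ∑ i, ((C * C.adjugate) i p) • q i = ∑ l, C.adjugate l p • ∑ i, C i l • q i := by
    simp only [Matrix.mul_apply, Finset.sum_smul, Finset.smul_sum, smul_smul]
    rw [Finset.sum_comm]
    refine Finset.sum_congr rfl fun l _ => Finset.sum_congr rfl fun i _ => ?_
    rw [mul_comm]
  have e3 : C.det • q p = 0 := by
    rw [e1, e2]
    simp only [hCq, smul_zero, Finset.sum_const_zero]
  have := congrArg (fun z => (hdet.unit⁻¹ : Rˣ) • z) e3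
  simpa [Units.smul_def, smul_smul] using this

omit [IsLocalRing R] in
theorem flat_prod (M N : Type u) [AddCommGroup M] [Module R M] [AddCommGroup N] [Module R N]
    [Module.Flat R M] [Module.Flat R N] : Module.Flat R (M × N) := by
  rw [Module.Flat.iff_rTensor_injective']
  intro I
  have h1 : Function.Injective ((LinearMap.rTensor M I.subtype).prodMap
      (LinearMap.rTensor N I.subtype)) := by
    rw [LinearMap.coe_prodMap]
    exact Function.Injective.prodMap
      (Module.Flat.rTensor_preserves_injective_linearMap _ (Submodule.injective_subtype _))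
      (Module.Flat.rTensor_preserves_injective_linearMap _ (Submodule.injective_subtype _))
  have h2 : ∀ z : I ⊗[R] (M × N),
      TensorProduct.prodRight R R R M N (LinearMap.rTensor (M × N) I.subtype z) =
      ((LinearMap.rTensor M I.subtype).prodMap (LinearMap.rTensor N I.subtype))
        (TensorProduct.prodRight R R I M N z) := by
    intro z
    induction z using TensorProduct.induction_on with
    | zero => rw [map_zero, map_zero, map_zero, map_zero]
    | tmul x y => simp
    | add x y hx hy =>
      rw [map_add, map_add, hx, hy, map_add, map_add]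
  intro z z' hzz'
  have := congrArg (TensorProduct.prodRight R R R M N) hzz'
  rw [h2, h2] at this
  exact (TensorProduct.prodRight R R I M N).injective (h1 this)

omit [IsLocalRing R] in
theorem map_mem_smul_top {M M' : Type*} [AddCommGroup M] [Module R M] [AddCommGroup M']
    [Module R M'] (f : M →ₗ[R] M') (I : Ideal R) {x : M} (hx : x ∈ I • (⊤ : Submodule R M)) :
    f x ∈ I • (⊤ : Submodule R M') := by
  refine Submodule.smul_induction_on hx (fun a ha n _ => ?_) (fun x y hx hy => ?_)
  · rw [map_smul]
    exact Submodule.smul_mem_smul ha Submodule.mem_top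
  · rw [map_add]
    exact add_mem hx hy

/-- free case -/
theorem lTensor_injective_of_free {β : Type u} {N' : Type u} [AddCommGroup N'] [Module R N']
    [Module.Flat R N'] (v : (β →₀ R) →ₗ[R] N')
    (hv : ∀ x, v x ∈ (maximalIdeal R) • (⊤ : Submodule R N') →
      x ∈ (maximalIdeal R) • (⊤ : Submodule R (β →₀ R)))
    (Q : Type u) [AddCommGroup Q] [Module R Q] : Function.Injective (v.lTensor Q) := by
  classical
  rw [injective_iff_map_eq_zero]
  intro x hx
  set fQ : β →₀ Q := finsuppScalarRight R R Q β x with hfQ
  have hx' : x = ∑ b : fQ.support, fQ b ⊗ₜ[R] (Finsupp.single (b : β) (1 : R)) := by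
    have h1 : x = (finsuppScalarRight R R Q β).symm fQ := by rw [hfQ, LinearEquiv.symm_apply_apply]
    have h2 : fQ = ∑ b : fQ.support, Finsupp.single (b : β) (fQ b) := by
      conv_lhs => rw [← Finsupp.sum_single fQ]
      rw [Finsupp.sum, ← Finset.sum_coe_sort]
    rw [h1]
    conv_lhs => rw [h2]
    rw [map_sum]
    refine Finset.sum_congr rfl fun b _ => ?_
    exact finsuppScalarRight_symm_apply_single (b : β) (fQ b)
  have hsum : ∑ b : fQ.support, fQ b ⊗ₜ[R] v (Finsupp.single (b : β) (1 : R)) = 0 := by
    rw [← hx, hx', map_sum]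
    rfl
  have key := eq_zero_of_sum_tmul_eq_zero (fun b : fQ.support => fQ b)
    (fun b : fQ.support => v (Finsupp.single (b : β) (1 : R))) ?_ hsum
  · rw [hx']
    refine Finset.sum_eq_zero fun b _ => ?_
    rw [key b, zero_tmul]
  · intro c hc
    have e : ∑ i : fQ.support, c i • v (Finsupp.single (i : β) (1 : R)) =
        v (∑ i : fQ.support, c i • Finsupp.single (i : β) (1 : R)) := by
      rw [map_sum]
      simp only [map_smul]
    rw [e] at hc
    have h3 := hv _ hc
    intro i
    have h4 := map_mem_smul_top (Finsupp.lapply (i : β) : (β →₀ R) →ₗ[R] R) _ h3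
    rw [smul_eq_mul, Ideal.mul_top] at h4
    have h5 : (Finsupp.lapply (i : β) : (β →₀ R) →ₗ[R] R)
        (∑ j : fQ.support, c j • Finsupp.single (j : β) (1 : R)) = c i := by
      rw [map_sum]
      simp only [map_smul, Finsupp.lapply_apply, Finsupp.single_apply, smul_eq_mul, mul_ite,
        mul_one, mul_zero]
      rw [Finset.sum_eq_single i]
      · simp
      · intro j _ hji
        rw [if_neg]
        exact fun h => hji (Subtype.ext h)
      · intro h
        exact absurd (Finset.mem_univ i) h
    rw [h5] at h4
    exact h4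

/-- projective case -/
theorem lTensor_injective_of_projective {N N' : Type u} [AddCommGroup N] [Module R N]
    [Module.Projective R N] [AddCommGroup N'] [Module R N'] [Module.Flat R N'] (u : N →ₗ[R] N')
    (hu : ∀ x, u x ∈ (maximalIdeal R) • (⊤ : Submodule R N') →
      x ∈ (maximalIdeal R) • (⊤ : Submodule R N))
    (Q : Type u) [AddCommGroup Q] [Module R Q] : Function.Injective (u.lTensor Q) := by
  classical
  obtain ⟨s, hs⟩ := Module.projective_def'.1 (inferInstance : Module.Projective R N)
  set π : (N →₀ R) →ₗ[R] N := Finsupp.linearCombination R id with hπ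
  have hπs : ∀ n, π (s n) = n := fun n => congrArg (fun φ => φ n) hs
  let v : (N →₀ R) →ₗ[R] N' × (N →₀ R) := (u ∘ₗ π).prod (LinearMap.id - s ∘ₗ π)
  haveI : Module.Flat R (N' × (N →₀ R)) := flat_prod N' (N →₀ R)
  have hv : ∀ x, v x ∈ (maximalIdeal R) • (⊤ : Submodule R (N' × (N →₀ R))) →
      x ∈ (maximalIdeal R) • (⊤ : Submodule R (N →₀ R)) := by
    intro x hx
    have h1 := map_mem_smul_top (LinearMap.fst R N' (N →₀ R)) _ hx
    have h2 := map_mem_smul_top (LinearMap.snd R N' (N →₀ R)) _ hx
    have h1' : u (π x) ∈ (maximalIdeal R) • (⊤ : Submodule R N') := h1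
    have h2' : x - s (π x) ∈ (maximalIdeal R) • (⊤ : Submodule R (N →₀ R)) := h2
    have h3 := map_mem_smul_top s _ (hu _ h1')
    have : x = (x - s (π x)) + s (π x) := by abel
    rw [this]
    exact add_mem h2' h3
  have hvinj := lTensor_injective_of_free v hv Q
  have hvs : v ∘ₗ s = (LinearMap.inl R N' (N →₀ R)) ∘ₗ u := by
    ext n
    · simp [v, hπs]
    · simp [v, hπs]
  rw [injective_iff_map_eq_zero]
  intro z hz
  have h1 : (v.lTensor Q) ((s.lTensor Q) z) = 0 := by
    rw [← LinearMap.comp_apply, ← LinearMap.lTensor_comp, hvs, LinearMap.lTensor_comp,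
      LinearMap.comp_apply, hz, map_zero]
  have h2 : (s.lTensor Q) z = 0 := by
    apply hvinj
    rw [h1, map_zero]
  have h3 : (π.lTensor Q) ((s.lTensor Q) z) = z := by
    rw [← LinearMap.comp_apply, ← LinearMap.lTensor_comp, hs, LinearMap.lTensor_id,
      LinearMap.id_apply]
  rw [← h3, h2, map_zero]

open Groth.Agent.Lib.Helper26 in
theorem main9011 {S : Type u} [CommRing S] [Algebra R S] (N : Type u) [AddCommGroup N]
    [Module S N] [Module R N] [IsScalarTower R S N] [Module.Projective R N] :
    (∀ s ∈ FlatCA.nzdFiber R S N,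
      FlatCA.UnivInj R ((LinearMap.lsmul S N s).restrictScalars R)) ∧
    FlatCA.UnivInj R
      ((LocalizedModule.mkLinearMap (FlatCA.nzdFiber R S N) N).restrictScalars R) := by
  have hu : ∀ s ∈ FlatCA.nzdFiber R S N, ∀ x : N,
      s • x ∈ maximalIdeal R • (⊤ : Submodule R N) →
      x ∈ maximalIdeal R • (⊤ : Submodule R N) := by
    intro s hs x hx
    have h1 : (s • x) ⊗ₜ[R] (1 : (maximalIdeal R).ResidueField) = 0 :=
      (FiberAss.tmul_one_eq_zero_iff (maximalIdeal R) N (s • x)).2
        ⟨1, fun h => (maximalIdeal.isMaximal R).ne_top ((Ideal.eq_top_iff_one _).2 h),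
          by rwa [one_smul]⟩
    have h2 : s • FlatCA.toFiberMod (maximalIdeal R) S N x = 0 := by
      apply (FiberAss.fiberModEquiv (maximalIdeal R) N).injective
      rw [map_smul, FiberAss.fiberModEquiv_toFiberMod, map_zero, TensorProduct.smul_tmul', h1]
    have h3 := (mem_nonZeroSMulDivisors_iff.1 hs) _ h2
    have h4 : x ⊗ₜ[R] (1 : (maximalIdeal R).ResidueField) = 0 := by
      rw [← FiberAss.fiberModEquiv_toFiberMod (S := S) (maximalIdeal R) N x, h3, map_zero]
    obtain ⟨r, hr, hrx⟩ := (FiberAss.tmul_one_eq_zero_iff (maximalIdeal R) N x).1 h4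
    have hru : IsUnit r := by
      by_contra h
      exact hr ((mem_maximalIdeal r).2 h)
    obtain ⟨r', rfl⟩ := hru
    have := Submodule.smul_mem _ (↑r'⁻¹ : R) hrx
    rwa [smul_smul, Units.inv_mul, one_smul] at this
  have part1 : ∀ s ∈ FlatCA.nzdFiber R S N,
      FlatCA.UnivInj R ((LinearMap.lsmul S N s).restrictScalars R) := by
    intro s hs Q _ _
    exact lTensor_injective_of_projective _ (fun x hx => hu s hs x hx) Q
  refine ⟨part1, ?_⟩
  intro Q _ _
  let g : N →ₗ[S] LocalizedModule (FlatCA.nzdFiber R S N) N :=
    LocalizedModule.mkLinearMap (FlatCA.nzdFiber R S N) N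
  haveI : IsLocalizedModule (FlatCA.nzdFiber R S N)
      (TensorProduct.AlgebraTensorModule.rTensor R Q g) := inferInstance
  rw [injective_iff_map_eq_zero]
  intro z hz
  have key : ∀ z' : Q ⊗[R] N,
      (TensorProduct.AlgebraTensorModule.rTensor R Q g) (TensorProduct.comm R Q N z') =
      TensorProduct.comm R Q (LocalizedModule (FlatCA.nzdFiber R S N) N)
        (((g.restrictScalars R).lTensor Q) z') := by
    intro z'
    induction z' using TensorProduct.induction_on with
    | zero => simp
    | tmul q n => simp
    | add a b ha hb => simp only [map_add, ha, hb]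
  have hw : (TensorProduct.AlgebraTensorModule.rTensor R Q g) (TensorProduct.comm R Q N z) = 0 := by
    rw [key]
    have : ((g.restrictScalars R).lTensor Q) z = 0 := hz
    rw [this, map_zero]
  obtain ⟨⟨s, hs⟩, hsw⟩ := (IsLocalizedModule.eq_zero_iff (FlatCA.nzdFiber R S N) _).1 hw
  have key2 : ∀ z' : Q ⊗[R] N,
      TensorProduct.comm R Q N ((((LinearMap.lsmul S N s).restrictScalars R).lTensor Q) z') =
      s • TensorProduct.comm R Q N z' := by
    intro z'
    induction z' using TensorProduct.induction_on with
    | zero => simp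
    | tmul q n => simp [TensorProduct.smul_tmul']
    | add a b ha hb => simp only [map_add, ha, hb, smul_add]
  have h5 : (((LinearMap.lsmul S N s).restrictScalars R).lTensor Q) z = 0 := by
    apply (TensorProduct.comm R Q N).injective
    rw [map_zero, key2]
    exact hsw
  exact (injective_iff_map_eq_zero _).1 (part1 s hs Q) z h5

end Groth.Agent.Lib.Helper15.ProjUnivInj
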