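import Mathlib
import Groth.Prelude.Def_FlatCA
import Groth.Agent.Lib.Helper26.FiberAss
import Groth.Agent.Lib.Helper15.ProjUnivInj

/-!
# A finite module which is projective over the base is universally pure (affine form)

Core linear algebra lemma: for a projective `A`-module `F`, primes `t' ≤ t` of `A`, an endomorphism
`φ` of `F` with `φ(F) ⊆ tF`, and `s ∉ t`, the endomorphism `φ ⊗ κ(t')` of `F ⊗ κ(t')` has no
nonzero eigenvector with eigenvalue `s`.
-/

set_option autoImplicit false
universe u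

open TensorProduct

namespace Groth.Agent.Lib.Helper15.ProjPure

open Groth.Agent.Lib.Helper26 Groth.Agent.Lib.Helper15

section core

variable {A : Type u} [CommRing A]

theorem rTensor_aeval_apply {L K : Type u} [AddCommGroup L] [Module A L] [AddCommGroup K]
    [Module A K] (ψ : L →ₗ[A] L) (s : A) (y : L ⊗[A] K) (hy : ψ.rTensor K y = s • y)
    (q : Polynomial A) :
    (Polynomial.aeval ψ q).rTensor K y = (q.eval s) • y := by
  have hpow : ∀ n : ℕ, (ψ ^ n).rTensor K y = s ^ n • y := by
    intro n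
    induction n with
    | zero => simp [Module.End.one_eq_id]
    | succ n ih =>
      rw [pow_succ, Module.End.mul_eq_comp, LinearMap.rTensor_comp, LinearMap.comp_apply, hy,
        map_smul, ih, smul_smul, pow_succ, mul_comm]
  induction q using Polynomial.induction_on' with
  | add p q hp hq =>
    rw [map_add, LinearMap.rTensor_add, LinearMap.add_apply, hp, hq, Polynomial.eval_add, add_smul]
  | monomial n a =>
    rw [Polynomial.aeval_monomial, Polynomial.eval_monomial, ← Algebra.smul_def,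
      LinearMap.rTensor_smul, LinearMap.smul_apply, hpow, smul_smul]

theorem eq_zero_of_finite {L : Type u} [AddCommGroup L] [Module A L] [Module.Finite A L]
    (t' t : Ideal A) [t'.IsPrime] [t.IsPrime] (hle : t' ≤ t)
    (ψ : L →ₗ[A] L) (hψ : LinearMap.range ψ ≤ t • (⊤ : Submodule A L)) (s : A) (hs : s ∉ t)
    (y : L ⊗[A] t'.ResidueField) (hy : ψ.rTensor _ y = s • y) : y = 0 := by
  obtain ⟨p, hmonic, -, hcoeff, hzero⟩ :=
    LinearMap.exists_monic_and_natDegree_eq_and_coeff_mem_pow_and_aeval_eq_zero A ψ t hψ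
  have h1 := rTensor_aeval_apply ψ s y hy p
  rw [hzero, LinearMap.rTensor_zero, LinearMap.zero_apply] at h1
  have h2 : p.eval s ∉ t := by
    intro h
    rw [Polynomial.eval_eq_sum_range, Finset.sum_range_succ, hmonic.coeff_natDegree, one_mul] at h
    have h6 : ∑ k ∈ Finset.range p.natDegree, p.coeff k * s ^ k ∈ t :=
      Ideal.sum_mem _ fun k hk => Ideal.mul_mem_right _ _
        (Ideal.pow_le_self (by have := Finset.mem_range.1 hk; omega) (hcoeff k))
    have h7 : s ^ p.natDegree ∈ t := (Ideal.add_mem_iff_right _ h6).1 h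
    exact hs (Ideal.IsPrime.mem_of_pow_mem inferInstance _ h7)
  exact FiberAss.eq_zero_of_smul_eq_zero t' L (fun h => h2 (hle h)) y h1.symm

theorem exists_finset_mem_range {β K : Type u} [AddCommGroup K] [Module A K]
    (z : (β →₀ A) ⊗[A] K) :
    ∃ J : Finset β, z ∈ LinearMap.range
      ((Finsupp.supported A A (↑J : Set β)).subtype.rTensor K) := by
  classical
  have mono : ∀ (J₁ J₂ : Finset β), J₁ ⊆ J₂ →
      LinearMap.range ((Finsupp.supported A A (↑J₁ : Set β)).subtype.rTensor K) ≤
      LinearMap.range ((Finsupp.supported A A (↑J₂ : Set β)).subtype.rTensor K) := by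
    intro J₁ J₂ h
    have hle : Finsupp.supported A A (↑J₁ : Set β) ≤ Finsupp.supported A A (↑J₂ : Set β) :=
      Finsupp.supported_mono (by exact_mod_cast h)
    have : (Finsupp.supported A A (↑J₁ : Set β)).subtype =
        (Finsupp.supported A A (↑J₂ : Set β)).subtype ∘ₗ Submodule.inclusion hle := by
      ext x; rfl
    rw [this, LinearMap.rTensor_comp]
    exact LinearMap.range_comp_le_range _ _
  induction z using TensorProduct.induction_on with
  | zero => exact ⟨∅, zero_mem _⟩
  | tmul g c =>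
    refine ⟨g.support, ⟨(⟨g, ?_⟩ : Finsupp.supported A A (↑g.support : Set β)) ⊗ₜ c, ?_⟩⟩
    · rw [Finsupp.mem_supported]
    · simp
  | add z₁ z₂ h₁ h₂ =>
    obtain ⟨J₁, h₁⟩ := h₁
    obtain ⟨J₂, h₂⟩ := h₂
    exact ⟨J₁ ∪ J₂, add_mem (mono _ _ Finset.subset_union_left h₁)
      (mono _ _ Finset.subset_union_right h₂)⟩

theorem map_mem_smul_top' {M M' : Type*} [AddCommMonoid M] [Module A M] [AddCommMonoid M']
    [Module A M'] (f : M →ₗ[A] M') (I : Ideal A) {x : M} (hx : x ∈ I • (⊤ : Submodule A M)) :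
    f x ∈ I • (⊤ : Submodule A M') := by
  refine Submodule.smul_induction_on hx (fun a ha n _ => ?_) (fun x y hx hy => ?_)
  · rw [map_smul]
    exact Submodule.smul_mem_smul ha Submodule.mem_top
  · rw [map_add]
    exact add_mem hx hy

theorem exists_finite_retract {β K : Type u} [AddCommGroup K] [Module A K]
    (z : (β →₀ A) ⊗[A] K) :
    ∃ (L : Type u) (_ : AddCommGroup L) (_ : Module A L) (_ : Module.Finite A L)
      (ι : L →ₗ[A] (β →₀ A)) (π : (β →₀ A) →ₗ[A] L),
      π ∘ₗ ι = LinearMap.id ∧ z ∈ LinearMap.range (ι.rTensor K) := by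
  classical
  obtain ⟨J, hJ⟩ := exists_finset_mem_range z
  exact ⟨Finsupp.supported A A (↑J : Set β), inferInstance, inferInstance,
    Module.Finite.equiv (Finsupp.supportedEquivFinsupp (M := A) (R := A) (↑J : Set β)).symm,
    (Finsupp.supported A A (↑J : Set β)).subtype, Finsupp.restrictDom A A (↑J : Set β),
    Finsupp.restrictDom_comp_subtype _, hJ⟩

theorem eq_zero_of_finsupp {β : Type u} (t' t : Ideal A) [t'.IsPrime] [t.IsPrime] (hle : t' ≤ t)
    (φ : (β →₀ A) →ₗ[A] (β →₀ A)) (hφ : ∀ x, φ x ∈ t • (⊤ : Submodule A (β →₀ A)))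
    (s : A) (hs : s ∉ t)
    (z : (β →₀ A) ⊗[A] t'.ResidueField) (hz : φ.rTensor _ z = s • z) : z = 0 := by
  obtain ⟨L, _, _, _, ι, π, hπ, y, rfl⟩ := exists_finite_retract z
  obtain ⟨ψ, hψdef⟩ : ∃ ψ : L →ₗ[A] L, ψ = π ∘ₗ φ ∘ₗ ι := ⟨_, rfl⟩
  have hy : ψ.rTensor t'.ResidueField y = s • y := by
    have e1 : ψ.rTensor t'.ResidueField y =
        (π.rTensor t'.ResidueField)
        ((φ.rTensor t'.ResidueField) ((ι.rTensor t'.ResidueField) y)) := by
      rw [hψdef]
      simp only [LinearMap.rTensor_comp, LinearMap.comp_apply]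
    rw [e1, hz, map_smul, ← LinearMap.comp_apply, ← LinearMap.rTensor_comp, hπ,
      LinearMap.rTensor_id, LinearMap.id_apply]
  have hψ : LinearMap.range ψ ≤ t • (⊤ : Submodule A L) := by
    rintro _ ⟨l, rfl⟩
    rw [hψdef]
    exact map_mem_smul_top' π t (hφ (ι l))
  rw [eq_zero_of_finite t' t hle ψ hψ s hs y hy, map_zero]

theorem eq_zero_of_projective {F : Type u} [AddCommGroup F] [Module A F] [Module.Projective A F]
    (t' t : Ideal A) [t'.IsPrime] [t.IsPrime] (hle : t' ≤ t)
    (φ : F →ₗ[A] F) (hφ : ∀ x, φ x ∈ t • (⊤ : Submodule A F)) (s : A) (hs : s ∉ t)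
    (z : F ⊗[A] t'.ResidueField) (hz : φ.rTensor _ z = s • z) : z = 0 := by
  obtain ⟨i, hi⟩ := Module.projective_def'.1 ‹Module.Projective A F›
  set r : (F →₀ A) →ₗ[A] F := Finsupp.linearCombination A (id : F → F) with hr
  have h0 := eq_zero_of_finsupp t' t hle (i ∘ₗ φ ∘ₗ r)
    (fun x => map_mem_smul_top' i t (hφ _)) s hs (i.rTensor _ z) (by
      have e1 : ((i ∘ₗ φ ∘ₗ r).rTensor t'.ResidueField) ((i.rTensor t'.ResidueField) z) =
          (i.rTensor t'.ResidueField) ((φ.rTensor t'.ResidueField)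
            (((r ∘ₗ i).rTensor t'.ResidueField) z)) := by
        simp only [LinearMap.rTensor_comp, LinearMap.comp_apply]
      rw [e1, hi, LinearMap.rTensor_id, LinearMap.id_apply, hz, map_smul])
  have h : (r.rTensor t'.ResidueField) ((i.rTensor t'.ResidueField) z) = z := by
    rw [← LinearMap.comp_apply, ← LinearMap.rTensor_comp, hi, LinearMap.rTensor_id,
      LinearMap.id_apply]
  rw [← h, h0, map_zero]

end core

section main

attribute [local instance] Algebra.TensorProduct.rightAlgebra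

theorem main9005 {A B : Type u} [CommRing A] [CommRing B] [Algebra A B] (N : Type u)
    [AddCommGroup N] [Module B N] [Module A N] [IsScalarTower A B N] [Module.Projective A N] :
    FlatCA.IsUnivPure A B N := by
  intro p _ A' B' N' _ _ _ _ _ _ _ _ _ _ _ _ _ _ f t' t _ _ P _ himp
  obtain ⟨hpo, hbc, hle, hlo, hPlo, hass, hcl⟩ := himp
  -- projectivity of `N'` over `A'`
  haveI : Algebra.IsPushout A A' B B' := hpo.symm
  let e1 : B' ⊗[B] N ≃ₗ[A'] A' ⊗[A] N := Algebra.IsPushout.cancelBaseChange A A' B B' N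
  let e2 : B' ⊗[B] N ≃ₗ[A'] N' := hbc.equiv.restrictScalars A'
  haveI : Module.Projective A' N' := Module.Projective.of_equiv (e1.symm ≪≫ₗ e2)
  -- an element of `A' \ t` in `P + tB'`
  have hdisj : ¬ Disjoint ((P ⊔ t.map (algebraMap A' B') : Ideal B') : Set B')
      (Algebra.algebraMapSubmonoid B' t.primeCompl : Set B') := by
    intro hd
    obtain ⟨P', hP'prime, hP'le, hP'disj⟩ := Ideal.exists_le_prime_disjoint _ _ hd
    haveI := hP'prime
    refine hcl P' (le_sup_left.trans hP'le) ⟨?_⟩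
    ext a
    rw [Ideal.under_def, Ideal.mem_comap]
    constructor
    · intro ha
      exact hP'le (Ideal.mem_sup_right (Ideal.mem_map_of_mem _ ha))
    · intro ha
      by_contra hat
      exact Set.disjoint_left.1 hP'disj ha ⟨a, hat, rfl⟩
  obtain ⟨x, hx1, ⟨s, hs, rfl⟩⟩ := Set.not_disjoint_iff.1 hdisj
  obtain ⟨g, hg, b, hb, hgb⟩ := Submodule.mem_sup.1 hx1
  -- the associated prime
  obtain ⟨hprime, m, hm⟩ := hass
  have hgm : (Algebra.TensorProduct.includeRight (R := A') (A := t'.ResidueField) (B := B') g :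
      t'.Fiber B') ∈ FlatCA.fiberIdeal t' P := Ideal.mem_map_of_mem _ hg
  rw [hm] at hgm
  obtain ⟨n, hn⟩ := Ideal.mem_radical_iff.1 hgm
  rw [Submodule.mem_colon_singleton, Submodule.mem_bot, ← map_pow,
    FiberAss.includeRight_smul] at hn
  have hm0 : m ≠ 0 := by
    rintro rfl
    apply hprime.ne_top
    rw [hm, Ideal.radical_eq_top, Ideal.eq_top_iff_one, Submodule.mem_colon_singleton, smul_zero]
    exact Submodule.zero_mem _
  -- transfer to `N' ⊗ κ(t')`
  set y := FiberAss.fiberModEquiv t' N' m with hy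
  have hy0 : y ≠ 0 := fun h => hm0 ((FiberAss.fiberModEquiv t' N').injective (by rw [← hy, h, map_zero]))
  have hgy : g ^ n • y = 0 := by rw [hy, ← map_smul, hn, map_zero]
  -- the element `b' = s^n - g^n ∈ tB'`
  obtain ⟨b', hb'⟩ : ∃ b' : B', b' = algebraMap A' B' s ^ n - g ^ n := ⟨_, rfl⟩
  have hb't : b' ∈ t.map (algebraMap A' B') := by
    have h1 : algebraMap A' B' s - g = b := by rw [← hgb]; ring
    have h2 : algebraMap A' B' s - g ∣ b' := hb' ▸ sub_dvd_pow_sub_pow _ _ n
    rw [h1] at h2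
    exact Ideal.mem_of_dvd _ h2 hb
  have hsn : s ^ n ∉ t := fun h => hs (Ideal.IsPrime.mem_of_pow_mem inferInstance _ h)
  have hb'y : b' • y = s ^ n • y := by
    rw [hb', sub_smul, hgy, sub_zero, ← map_pow, algebraMap_smul]
  have hmem : ∀ c ∈ t.map (algebraMap A' B'), ∀ x : N', c • x ∈ t • (⊤ : Submodule A' N') := by
    intro c hc
    refine Submodule.span_induction
      (p := fun c _ => ∀ x : N', c • x ∈ t • (⊤ : Submodule A' N')) ?_ ?_ ?_ ?_ hc
    · rintro _ ⟨a, ha, rfl⟩ x
      rw [algebraMap_smul]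
      exact Submodule.smul_mem_smul ha trivial
    · intro x
      rw [zero_smul]
      exact zero_mem _
    · intro c₁ c₂ _ _ h₁ h₂ x
      rw [add_smul]
      exact add_mem (h₁ x) (h₂ x)
    · intro c₁ c₂ _ h₂ x
      rw [smul_eq_mul, mul_comm, mul_smul]
      exact h₂ _
  let φ : N' →ₗ[A'] N' := (LinearMap.lsmul B' N' b').restrictScalars A'
  have hφ : ∀ w : N' ⊗[A'] t'.ResidueField, b' • w = (φ.rTensor t'.ResidueField) w := by
    intro w
    induction w using TensorProduct.induction_on with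
    | zero => simp
    | tmul x c => rw [TensorProduct.smul_tmul', LinearMap.rTensor_tmul]; rfl
    | add x y hx hy => rw [smul_add, hx, hy, map_add]
  exact hy0 (eq_zero_of_projective t' t hle φ (fun x => hmem b' hb't x) (s ^ n) hsn y
    (by rw [← hφ, hb'y]))

end main

end Groth.Agent.Lib.Helper15.ProjPure
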