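import Mathlib
import Groth.Prelude.Def_FlatCA
import Groth.Agent.Lib.Helper15.ImpBC
import Groth.Agent.Lib.Helper15.ImpBC2
import Groth.Agent.Lib.Helper15.ImpN0
import Groth.Agent.Lib.Helper15.ProjPure

/-!
# No impurity with both points of the test ring in the same fibre (helper15)
-/

set_option autoImplicit false
set_option linter.style.haveILetI false
set_option linter.unusedSectionVars false
set_option linter.style.longLine false
universe u

open TensorProduct

namespace Groth.Agent.Lib.Helper15.ImpN3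

open Groth.Agent.Lib.Helper26 Groth.Agent.Lib.Helper15

attribute [local instance] Algebra.TensorProduct.rightAlgebra

theorem fiberIdeal_isPrime {A D : Type u} [CommRing A] [CommRing D] [Algebra A D] (p : Ideal A)
    [p.IsPrime] (t : Ideal D) [ht : t.IsPrime] [hlo : t.LiesOver p] :
    (FlatCA.fiberIdeal p t).IsPrime := by
  let Q := PrimeSpectrum.primesOverOrderIsoFiber A D p ⟨t, ⟨ht, hlo⟩⟩
  have h1 : Q.asIdeal.comap (Algebra.TensorProduct.includeRight (R := A)
      (A := p.ResidueField) (B := D)).toRingHom = t := by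
    have := (PrimeSpectrum.primesOverOrderIsoFiber A D p).symm_apply_apply ⟨t, ⟨ht, hlo⟩⟩
    exact congrArg Subtype.val this
  have h2 : FlatCA.fiberIdeal p t = Q.asIdeal := by
    unfold FlatCA.fiberIdeal
    rw [← h1]
    exact H12UnivInjAss.map_comap_includeRight p Q.asIdeal
  rw [h2]
  exact Q.isPrime

section main

variable {A B : Type u} [CommRing A] [CommRing B] [Algebra A B] [Algebra.FiniteType A B]
  (N : Type u) [AddCommGroup N] [Module B N] (p : Ideal A) [p.IsPrime]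
  (A₁ B₁ N₁ : Type u) [CommRing A₁] [CommRing B₁] [Algebra A A₁] [Algebra B B₁] [Algebra A₁ B₁]
  [Algebra A B₁] [IsScalarTower A B B₁] [IsScalarTower A A₁ B₁] [AddCommGroup N₁] [Module B₁ N₁]
  [Module B N₁] [IsScalarTower B B₁ N₁] [Module A₁ N₁] [IsScalarTower A₁ B₁ N₁]
  (f₁ : N →ₗ[B] N₁) (t₁' t₁ : Ideal A₁) [t₁'.IsPrime] [t₁.IsPrime] (P₁ : Ideal B₁) [P₁.IsPrime]
  (himp : FlatCA.IsImpurity A B N p A₁ B₁ N₁ f₁ t₁' t₁ P₁)

include himp in
theorem not_liesOver : ¬ t₁'.LiesOver p := by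
  intro hlo'
  haveI hlo : t₁.LiesOver p := himp.2.2.2.1
  haveI := fiberIdeal_isPrime p t₁'
  haveI := fiberIdeal_isPrime p t₁
  obtain ⟨B₂, N₂, i1, i2, i3, i4, i5, i6, i7, i8, i9, i10, i11, i12, f₂, P₂, hP₂, himp₂⟩ :=
    ImpBC.exists_impurity N p A₁ B₁ N₁ f₁ t₁' t₁ P₁ himp (p.Fiber A₁)
      (FlatCA.fiberIdeal p t₁') (FlatCA.fiberIdeal p t₁) (Ideal.map_mono himp.2.2.1)
      (ImpN0.comap_fiberIdeal p t₁') (ImpN0.comap_fiberIdeal p t₁)
  obtain ⟨j1, j2, j3, j4, j5, j6, f₂', himp₃⟩ :=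
    ImpBC2.impurity_convert N p p.ResidueField (p.ResidueField ⊗[A] B)
      ((p.ResidueField ⊗[A] B) ⊗[B] N) (TensorProduct.mk B (p.ResidueField ⊗[A] B) N 1)
      (TensorProduct.isBaseChange B N (p.ResidueField ⊗[A] B))
      ((FlatCA.fiberIdeal p t₁).comap (algebraMap p.ResidueField (p.Fiber A₁)))
      (p.Fiber A₁) B₂ N₂ f₂ (FlatCA.fiberIdeal p t₁') (FlatCA.fiberIdeal p t₁) P₂ himp₂ rfl
  exact ProjPure.main9005 (A := p.ResidueField) (B := p.ResidueField ⊗[A] B)
    ((p.ResidueField ⊗[A] B) ⊗[B] N) _ (p.Fiber A₁) B₂ N₂ f₂' _ _ P₂ himp₃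

end main

end Groth.Agent.Lib.Helper15.ImpN3
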