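import Mathlib
import Groth.Prelude.Def_FlatCA
import Groth.Agent.Lib.Helper15.ImpBC
import Groth.Agent.Lib.Helper15.ImpFP
import Groth.Agent.Lib.Helper15.ImpN0
import Groth.Agent.Lib.Helper15.ImpN1
import Groth.Agent.Lib.Helper15.ImpN2
import Groth.Agent.Lib.Helper15.ImpN3

/-!
# Noetherian base: an impurity can be realised on a finite type, quasi-finite test ring (helper15)
-/

set_option autoImplicit false
set_option linter.style.haveILetI false
set_option linter.unusedSectionVars false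
set_option linter.style.longLine false
universe u

open TensorProduct

namespace Groth.Agent.Lib.Helper15.ImpN4

open Groth.Agent.Lib.Helper26 Groth.Agent.Lib.Helper15

attribute [local instance] Algebra.TensorProduct.rightAlgebra

theorem liesOver_comap_mk {A D : Type u} [CommRing A] [CommRing D] [Algebra A D] (p : Ideal A)
    (𝔮 : Ideal D) (r : Ideal (D ⧸ 𝔮)) (h : r.LiesOver p) :
    (r.comap (Ideal.Quotient.mk 𝔮)).LiesOver p := by
  refine ⟨?_⟩
  rw [h.over, Ideal.under_def, Ideal.under_def, Ideal.comap_comap]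
  rfl

section step

variable {A B : Type u} [CommRing A] [CommRing B] [Algebra A B] [Algebra.FiniteType A B]
  (N : Type u) [AddCommGroup N] [Module B N] [Module.Finite B N] (p : Ideal A) [p.IsPrime]
  (D B₂ N₂ : Type u) [CommRing D] [IsDomain D] [IsNoetherianRing D] [CommRing B₂] [Algebra A D]
  [Algebra.FiniteType A D] [Algebra B B₂] [Algebra D B₂]
  [Algebra A B₂] [IsScalarTower A B B₂] [IsScalarTower A D B₂] [AddCommGroup N₂] [Module B₂ N₂]
  [Module B N₂] [IsScalarTower B B₂ N₂] [Module D N₂] [IsScalarTower D B₂ N₂]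
  (f₂ : N →ₗ[B] N₂) (t₂ : Ideal D) [t₂.IsPrime] (P₂ : Ideal B₂) [P₂.IsPrime]
  (himp : FlatCA.IsImpurity A B N p D B₂ N₂ f₂ ⊥ t₂ P₂)
  (hcl : ∀ (r : Ideal D) [r.IsPrime], r.LiesOver p → t₂ ≤ r → r = t₂)

include himp hcl in
theorem step_domain :
    FlatCA.HasImpurity A B N p (fun A' _ _ t => ∃ _ : t.IsPrime, Algebra.FiniteType A A' ∧
      Algebra.QuasiFiniteAt A t) := by
  obtain ⟨hpo, hbc, hle, hlo, hPlo, hass, hclP⟩ := himp
  haveI : Algebra.FiniteType D B₂ := by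
    haveI : Algebra.IsPushout A D B B₂ := hpo.symm
    exact Algebra.FiniteType.equiv (inferInstance : Algebra.FiniteType D (D ⊗[A] B))
      (Algebra.IsPushout.equiv A D B B₂)
  haveI : Module.Finite B₂ N₂ := Module.Finite.equiv hbc.equiv
  haveI : P₂.LiesOver (⊥ : Ideal D) := hPlo
  obtain ⟨x, hx⟩ := ImpDesc.exists_witness (⊥ : Ideal D) N₂ P₂ hass
  obtain ⟨x', hx'⟩ := ImpN1.exists_ann_eq N₂ P₂ x hx
  obtain ⟨g, hg, hgen⟩ := ImpN1.exists_generic N₂ P₂ hPlo.over.symm x' hx'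
  obtain ⟨𝔮, h𝔮p, h𝔮t, hg𝔮, h𝔮max⟩ := ImpN2.exists_prime t₂ g hg
  haveI := h𝔮p
  obtain ⟨P', hP'p, hPP', hP'lo, y, hy⟩ := hgen 𝔮 hg𝔮
  haveI := hP'p
  haveI := hP'lo
  have hass' := ImpDesc.mem_associatedPrimes_of_witness 𝔮 N₂ P' y hy
  have himp' : FlatCA.IsImpurity A B N p D B₂ N₂ f₂ 𝔮 t₂ P' :=
    ⟨hpo, hbc, h𝔮t, hlo, hP'lo, hass', fun Q hQ hle' hQlo => hclP Q (hPP'.trans hle') hQlo⟩
  have hnlo : ¬ 𝔮.LiesOver p := ImpN3.not_liesOver N p D B₂ N₂ f₂ 𝔮 t₂ P' himp'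
  -- pass to the quotient by `𝔮`
  have hsurj : Function.Surjective (Ideal.Quotient.mk 𝔮) := Ideal.Quotient.mk_surjective
  haveI : (t₂.map (Ideal.Quotient.mk 𝔮)).IsPrime :=
    Ideal.map_isPrime_of_surjective hsurj (by rw [Ideal.mk_ker]; exact h𝔮t)
  obtain ⟨B₃, N₃, i1, i2, i3, i4, i5, i6, i7, i8, i9, i10, i11, i12, f₃, P₃, hP₃, himp₃⟩ :=
    ImpBC.exists_impurity N p D B₂ N₂ f₂ 𝔮 t₂ P' himp' (D ⧸ 𝔮) ⊥
      (t₂.map (Ideal.Quotient.mk 𝔮)) bot_le
      (by rw [← RingHom.ker_eq_comap_bot]; exact Ideal.mk_ker) (Ideal.comap_map_mk h𝔮t)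
  haveI hlo₃ : (t₂.map (Ideal.Quotient.mk 𝔮)).LiesOver p := himp₃.2.2.2.1
  have hft : Algebra.FiniteType A (D ⧸ 𝔮) :=
    Algebra.FiniteType.of_surjective (Ideal.Quotient.mkₐ A 𝔮) (Ideal.Quotient.mkₐ_surjective A 𝔮)
  refine ⟨D ⧸ 𝔮, B₃, N₃, inferInstance, i1, inferInstance, i2, i3, i4, i5, i6, i7, i8, i9, i10,
    i11, i12, f₃, ⊥, t₂.map (Ideal.Quotient.mk 𝔮), inferInstance, inferInstance, P₃, hP₃, himp₃,
    inferInstance, hft, ?_⟩
  have hback : ∀ r : Ideal (D ⧸ 𝔮), r.comap (Ideal.Quotient.mk 𝔮) = t₂ →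
      r = t₂.map (Ideal.Quotient.mk 𝔮) := by
    intro r hr
    rw [← hr, Ideal.map_comap_of_surjective _ hsurj]
  have hmax : (FlatCA.fiberIdeal p (t₂.map (Ideal.Quotient.mk 𝔮))).IsMaximal := by
    apply ImpN0.isMaximal_of_closed
    intro r hr hrlo hler
    apply hback
    haveI : (r.comap (Ideal.Quotient.mk 𝔮)).IsPrime := Ideal.comap_isPrime _ _
    apply hcl _ (liesOver_comap_mk p 𝔮 r hrlo)
    rw [← Ideal.comap_map_mk h𝔮t]
    exact Ideal.comap_mono hler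
  apply ImpN0.quasiFiniteAt_of_closed_of_minimal p _ hmax
  intro r hr hrlo hler
  apply hback
  haveI : (r.comap (Ideal.Quotient.mk 𝔮)).IsPrime := Ideal.comap_isPrime _ _
  have hlo' := liesOver_comap_mk p 𝔮 r hrlo
  have h1 : 𝔮 ≤ r.comap (Ideal.Quotient.mk 𝔮) := by
    intro z hz
    rw [Ideal.mem_comap, Ideal.Quotient.eq_zero_iff_mem.2 hz]
    exact r.zero_mem
  have h2 : 𝔮 ≠ r.comap (Ideal.Quotient.mk 𝔮) := by
    intro h
    apply hnlo
    rw [h]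
    exact hlo'
  apply h𝔮max _ inferInstance (lt_of_le_of_ne h1 h2)
  rw [← Ideal.comap_map_mk h𝔮t]
  exact Ideal.comap_mono hler

end step

theorem main1247 {A B : Type u} [CommRing A] [IsNoetherianRing A] [CommRing B] [Algebra A B]
    [Algebra.FiniteType A B]
    (N : Type u) [AddCommGroup N] [Module B N] [Module.Finite B N] (p : Ideal A) [p.IsPrime]
    (h : FlatCA.HasImpurity A B N p (fun _ _ _ _ => True)) :
    FlatCA.HasImpurity A B N p (fun A' _ _ t => ∃ _ : t.IsPrime, Algebra.FiniteType A A' ∧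
      Algebra.QuasiFiniteAt A t) := by
  obtain ⟨A₁, B₁, N₁, _, _, _, _, _, _, _, _, _, _, _, _, _, _, f₁, t₁', t₁, _, _, P₁, _, himp₁,
    hfp, hmax₁⟩ := ImpFP.main1245 N p h
  haveI : Algebra.FiniteType A A₁ := Algebra.FiniteType.of_finitePresentation
  haveI : IsNoetherianRing A₁ := Algebra.FiniteType.isNoetherianRing A A₁
  haveI hlo₁ : t₁.LiesOver p := himp₁.2.2.2.1
  have hle₁ : t₁' ≤ t₁ := himp₁.2.2.1
  have hsurj : Function.Surjective (Ideal.Quotient.mk t₁') := Ideal.Quotient.mk_surjective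
  haveI : (t₁.map (Ideal.Quotient.mk t₁')).IsPrime :=
    Ideal.map_isPrime_of_surjective hsurj (by rw [Ideal.mk_ker]; exact hle₁)
  obtain ⟨B₂, N₂, i1, i2, i3, i4, i5, i6, i7, i8, i9, i10, i11, i12, f₂, P₂, hP₂, himp₂⟩ :=
    ImpBC.exists_impurity N p A₁ B₁ N₁ f₁ t₁' t₁ P₁ himp₁ (A₁ ⧸ t₁') ⊥
      (t₁.map (Ideal.Quotient.mk t₁')) bot_le
      (by rw [← RingHom.ker_eq_comap_bot]; exact Ideal.mk_ker) (Ideal.comap_map_mk hle₁)
  haveI : Algebra.FiniteType A (A₁ ⧸ t₁') :=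
    Algebra.FiniteType.of_surjective (Ideal.Quotient.mkₐ A t₁') (Ideal.Quotient.mkₐ_surjective A t₁')
  refine step_domain N p (A₁ ⧸ t₁') B₂ N₂ f₂ (t₁.map (Ideal.Quotient.mk t₁')) P₂ himp₂ ?_
  intro r hr hrlo hler
  haveI : (r.comap (Ideal.Quotient.mk t₁')).IsPrime := Ideal.comap_isPrime _ _
  haveI := liesOver_comap_mk p t₁' r hrlo
  have := ImpN0.closed_of_isMaximal p t₁ hmax₁ (r.comap (Ideal.Quotient.mk t₁')) (by
    rw [← Ideal.comap_map_mk hle₁]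
    exact Ideal.comap_mono hler)
  rw [← this, Ideal.map_comap_of_surjective _ hsurj]

end Groth.Agent.Lib.Helper15.ImpN4
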