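import Mathlib
import Groth.Prelude.Def_FlatCA
import Groth.Agent.Lib.Helper15.ImpBC
import Groth.Agent.Lib.Helper15.ImpFin

/-!
# An impurity over a quasi-finite test ring gives one over an elementary étale neighbourhood
-/

set_option autoImplicit false
set_option linter.style.haveILetI false
set_option linter.style.longLine false
universe u

namespace Groth.Agent.Lib.Helper15.ImpQF

open TensorProduct Groth.Agent.Lib.Helper15

attribute [local instance] Algebra.TensorProduct.rightAlgebra

theorem main1246 {A B : Type u} [CommRing A] [CommRing B] [Algebra A B] [Algebra.FiniteType A B]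
    (N : Type u) [AddCommGroup N] [Module B N] [Module.Finite B N] (p : Ideal A) [p.IsPrime]
    (h : FlatCA.HasImpurity A B N p (fun A' _ _ t => ∃ _ : t.IsPrime, Algebra.FiniteType A A' ∧ Algebra.QuasiFiniteAt A t)) :
    FlatCA.HasImpurity A B N p (fun A' _ _ t => ∃ _ : t.IsPrime, FlatCA.IsEtaleNhd A A' p t) := by
  obtain ⟨A', B', N', _, _, _, _, _, _, _, _, _, _, _, _, _, _, f, t', t, _, _, P, _, himp,
    _, hft, hqf⟩ := h
  haveI : t.LiesOver p := himp.2.2.2.1
  have hle : t' ≤ t := himp.2.2.1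
  obtain ⟨R', _, _, hEt, Pr, hPrp, hPrlo, e, he, P', hP', hP'lo, hP'q, heP', hbij, hfin, huniq⟩ :=
    Algebra.exists_etale_isIdempotentElem_forall_liesOver_eq p t
  -- the localization
  let e₀ : A' ⊗[A] R' ≃ₐ[A'] R' ⊗[A] A' :=
    { Algebra.TensorProduct.comm A A' R' with
      commutes' := fun r => by
        show (Algebra.TensorProduct.comm A A' R') (r ⊗ₜ 1) = 1 ⊗ₜ r
        simp }
  haveI : Algebra.Etale A' (R' ⊗[A] A') := Algebra.Etale.of_equiv e₀
  haveI : Module.Flat A' (R' ⊗[A] A') := inferInstance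
  haveI : IsScalarTower A' (R' ⊗[A] A') (Localization.Away e) := inferInstance
  haveI : IsScalarTower A A' (Localization.Away e) := .of_algebraMap_eq (fun a => by
    rw [IsScalarTower.algebraMap_apply A (R' ⊗[A] A') (Localization.Away e),
      IsScalarTower.algebraMap_apply A A' (R' ⊗[A] A'),
      ← IsScalarTower.algebraMap_apply A' (R' ⊗[A] A') (Localization.Away e)])
  haveI : Module.Flat (R' ⊗[A] A') (Localization.Away e) :=
    IsLocalization.flat _ (Submonoid.powers e)
  haveI : Module.Flat A' (Localization.Away e) :=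
    Module.Flat.trans A' (R' ⊗[A] A') (Localization.Away e)
  have hdisj : Disjoint (Submonoid.powers e : Set (R' ⊗[A] A')) (P' : Set (R' ⊗[A] A')) := by
    rwa [Ideal.disjoint_powers_iff_notMem_of_isPrime]
  obtain ⟨t₂, ht₂def⟩ : ∃ t₂, t₂ = P'.map (algebraMap (R' ⊗[A] A') (Localization.Away e)) :=
    ⟨_, rfl⟩
  haveI ht₂p : t₂.IsPrime := by
    rw [ht₂def]
    exact IsLocalization.isPrime_of_isPrime_disjoint (Submonoid.powers e) _ P' hP' hdisj
  have ht₂c : t₂.comap (algebraMap (R' ⊗[A] A') (Localization.Away e)) = P' := by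
    rw [ht₂def]
    exact IsLocalization.under_map_of_isPrime_disjoint (Submonoid.powers e) _ hP' hdisj
  have ht₂t : t₂.comap (algebraMap A' (Localization.Away e)) = t := by
    rw [IsScalarTower.algebraMap_eq A' (R' ⊗[A] A') (Localization.Away e), ← Ideal.comap_comap,
      ht₂c]
    exact hP'q
  haveI : t₂.LiesOver t := ⟨ht₂t.symm⟩
  obtain ⟨t₂', hle₂, ht₂'p, ht₂'lo⟩ :=
    Ideal.exists_ideal_le_liesOver_of_le (p := t') (q := t) t₂ hle
  obtain ⟨B₂, N₂, i1, i2, i3, i4, i5, i6, i7, i8, i9, i10, i11, i12, f₂, P₂, hP₂, himp₂⟩ :=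
    ImpBC.exists_impurity N p A' B' N' f t' t P himp (Localization.Away e) t₂' t₂ hle₂
      ht₂'lo.over.symm ht₂t
  -- the finite pushforward
  haveI : Algebra.IsIntegral R' (Localization.Away e) := Algebra.IsIntegral.of_finite _ _
  have hPr : Pr = t₂.comap (algebraMap R' (Localization.Away e)) := by
    rw [IsScalarTower.algebraMap_eq R' (R' ⊗[A] A') (Localization.Away e), ← Ideal.comap_comap,
      ht₂c]
    exact hP'lo.over
  have huniq' : ∀ Q : Ideal (Localization.Away e), Q.IsPrime →
      Q.comap (algebraMap R' (Localization.Away e)) =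
        t₂.comap (algebraMap R' (Localization.Away e)) → Q = t₂ := by
    intro Q hQ hQc
    have h1 : Q.comap (algebraMap (R' ⊗[A] A') (Localization.Away e)) = P' := by
      apply huniq _ (hQ.comap _)
      · refine ⟨?_⟩
        rw [hPr, ← hQc, Ideal.under_def, Ideal.comap_comap,
          ← IsScalarTower.algebraMap_eq R' (R' ⊗[A] A') (Localization.Away e)]
      · intro heQ
        have hu : IsUnit (algebraMap (R' ⊗[A] A') (Localization.Away e) e) :=
          IsLocalization.Away.algebraMap_isUnit e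
        exact hQ.ne_top (Ideal.eq_top_of_isUnit_mem _ heQ hu)
    rw [ht₂def, ← h1]
    exact (IsLocalization.map_under (Submonoid.powers e) _ Q).symm
  obtain ⟨B₁, N₁, j1, j2, j3, j4, j5, j6, j7, j8, j9, j10, j11, j12, f₁, P₁, hP₁, himp₁⟩ :=
    ImpFin.exists_impurity_of_integral N p (Localization.Away e) B₂ N₂ f₂ t₂' t₂ P₂ himp₂ R'
      huniq'
  subst hPr
  exact ⟨R', B₁, N₁, inferInstance, j1, inferInstance, j2, j3, j4, j5, j6, j7, j8, j9, j10,
    j11, j12, f₁, _, _, inferInstance, inferInstance, P₁, hP₁, himp₁, inferInstance, hEt,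
    hPrlo, hbij⟩

end Groth.Agent.Lib.Helper15.ImpQF
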