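import Mathlib
import Groth.Prelude.Def_FlatCA
import Groth.Agent.Lib.Helper15.ImpQF

/-!
# Purity along a fibre passes to quasi-finite base changes
-/

set_option autoImplicit false
set_option linter.style.haveILetI false
set_option linter.style.longLine false
universe u

namespace Groth.Agent.Lib.Helper15.ImpQF2

open TensorProduct Groth.Agent.Lib.Helper15

theorem quasiFiniteAt_trans {R S T : Type u} [CommRing R] [CommRing S] [CommRing T] [Algebra R S]
    [Algebra S T] [Algebra R T] [IsScalarTower R S T] (p : Ideal S) [p.IsPrime] (q : Ideal T)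
    [q.IsPrime] [q.LiesOver p] [Algebra.QuasiFiniteAt R p] [Algebra.QuasiFiniteAt S q] :
    Algebra.QuasiFiniteAt R q := by
  letI := Localization.AtPrime.algebraOfLiesOver p q
  haveI : IsScalarTower S (Localization.AtPrime p) (Localization.AtPrime q) := inferInstance
  haveI : IsScalarTower R (Localization.AtPrime p) (Localization.AtPrime q) := inferInstance
  haveI : Algebra.QuasiFinite (Localization.AtPrime p) (Localization.AtPrime q) :=
    Algebra.QuasiFinite.of_restrictScalars S _ _
  exact Algebra.QuasiFinite.trans R (Localization.AtPrime p) (Localization.AtPrime q)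

section restrict

variable {A B : Type u} [CommRing A] [CommRing B] [Algebra A B]
  (N : Type u) [AddCommGroup N] [Module B N] (p : Ideal A) [p.IsPrime]
  (A' B' N' : Type u) [CommRing A'] [CommRing B'] [Algebra A A'] [Algebra B B'] [Algebra A' B']
  [Algebra A B'] [IsScalarTower A B B'] [IsScalarTower A A' B']
  [AddCommGroup N'] [Module B' N'] [Module B N'] [IsScalarTower B B' N'] (f : N →ₗ[B] N')
  (hpo : Algebra.IsPushout A B A' B') (hf : IsBaseChange B' f)
  (p' : Ideal A') [p'.IsPrime] [p'.LiesOver p]
  (A'' B'' N'' : Type u) [CommRing A''] [CommRing B''] [Algebra A' A''] [Algebra B' B'']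
  [Algebra A'' B''] [Algebra A' B''] [IsScalarTower A' B' B''] [IsScalarTower A' A'' B'']
  [AddCommGroup N''] [Module B'' N''] [Module B' N''] [IsScalarTower B' B'' N''] [Module A'' N'']
  [IsScalarTower A'' B'' N'']
  (f'' : N' →ₗ[B'] N'') (t' t : Ideal A'') [t'.IsPrime] [t.IsPrime] (P : Ideal B'') [P.IsPrime]
  (himp : FlatCA.IsImpurity A' B' N' p' A'' B'' N'' f'' t' t P)

include hpo hf himp in
/-- an impurity of the base change `N'` above `p'` is an impurity of `N` above `p`. -/
theorem exists_impurity_restrict :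
    ∃ (_ : Algebra A A'') (_ : IsScalarTower A A' A'') (_ : Algebra B B'') (_ : Algebra A B'')
      (_ : IsScalarTower A B B'') (_ : IsScalarTower A A'' B'') (_ : Module B N'')
      (_ : IsScalarTower B B'' N'') (f₂ : N →ₗ[B] N''),
      FlatCA.IsImpurity A B N p A'' B'' N'' f₂ t' t P := by
  obtain ⟨hpo₂, hbc₂, hle, hlo, hPlo, hass, hcl⟩ := himp
  letI : Algebra A A'' := ((algebraMap A' A'').comp (algebraMap A A')).toAlgebra
  haveI : IsScalarTower A A' A'' := .of_algebraMap_eq (fun _ => rfl)
  letI : Algebra B B'' := ((algebraMap B' B'').comp (algebraMap B B')).toAlgebra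
  haveI : IsScalarTower B B' B'' := .of_algebraMap_eq (fun _ => rfl)
  letI : Algebra A B'' := ((algebraMap A'' B'').comp (algebraMap A A'')).toAlgebra
  haveI : IsScalarTower A A'' B'' := .of_algebraMap_eq (fun _ => rfl)
  haveI : IsScalarTower A A' B'' := .of_algebraMap_eq (fun x => by
    change algebraMap A'' B'' (algebraMap A' A'' (algebraMap A A' x)) = _
    rw [← IsScalarTower.algebraMap_apply A' A'' B''])
  haveI : IsScalarTower A B' B'' := .of_algebraMap_eq (fun x => by
    rw [IsScalarTower.algebraMap_apply A A' B'', IsScalarTower.algebraMap_apply A' B' B'',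
      ← IsScalarTower.algebraMap_apply A A' B'])
  haveI : IsScalarTower A B B'' := .of_algebraMap_eq (fun x => by
    rw [IsScalarTower.algebraMap_apply A B' B'', IsScalarTower.algebraMap_apply A B B',
      ← IsScalarTower.algebraMap_apply B B' B''])
  letI : Module B N'' := Module.compHom N'' (algebraMap B B')
  haveI : IsScalarTower B B' N'' := ⟨fun b b' n => by
    change (b • b') • n = algebraMap B B' b • (b' • n)
    rw [Algebra.smul_def, mul_smul]⟩
  haveI : IsScalarTower B B'' N'' := ⟨fun b b'' n => by
    change (b • b'') • n = algebraMap B B' b • (b'' • n)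
    rw [Algebra.smul_def, IsScalarTower.algebraMap_apply B B' B'', ← Algebra.smul_def,
      smul_assoc]⟩
  have hpo₃ : Algebra.IsPushout A B A'' B'' := by
    haveI : Algebra.IsPushout A A' B B' := hpo.symm
    exact Algebra.IsPushout.symm
      ((Algebra.IsPushout.comp_iff A A' B B' (T := A'') (T' := B'')).mpr hpo₂.symm)
  have hbc₃ : IsBaseChange B'' ((f''.restrictScalars B).comp f) := IsBaseChange.comp hf hbc₂
  refine ⟨inferInstance, inferInstance, inferInstance, inferInstance, inferInstance,
    inferInstance, inferInstance, inferInstance, (f''.restrictScalars B).comp f,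
    hpo₃, hbc₃, hle, ⟨?_⟩, hPlo, hass, hcl⟩
  rw [Ideal.under_def, IsScalarTower.algebraMap_eq A A' A'', ← Ideal.comap_comap,
    ← Ideal.under_def (A := A'), ← hlo.over, ← Ideal.under_def]
  exact Ideal.LiesOver.over

end restrict

theorem main1226 {A B : Type u} [CommRing A] [CommRing B] [Algebra A B] [Algebra.FiniteType A B]
    (N : Type u) [AddCommGroup N] [Module B N] [Module.Finite B N] (p : Ideal A) [p.IsPrime]
    (A' B' N' : Type u) [CommRing A'] [CommRing B'] [Algebra A A'] [Algebra B B'] [Algebra A' B'] [Algebra A B']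
    [IsScalarTower A B B'] [IsScalarTower A A' B'] [Algebra.IsPushout A B A' B']
    [AddCommGroup N'] [Module B' N'] [Module B N'] [IsScalarTower B B' N'] (f : N →ₗ[B] N') (hf : IsBaseChange B' f)
    (p' : Ideal A') [p'.IsPrime] [p'.LiesOver p] [Algebra.FiniteType A A'] [Algebra.QuasiFiniteAt A p']
    (h : FlatCA.IsPureAlong A B N p) : FlatCA.IsPureAlong A' B' N' p' := by
  intro A'' B'' N'' _ _ _ _ _ _ _ _ _ _ _ _ _ _ f'' t' t _ _ P _ hEt himp
  obtain ⟨hEt₁, hlo, hbij⟩ := hEt
  obtain ⟨i1, i2, i3, i4, i5, i6, i7, i8, f₂, himp₂⟩ :=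
    exists_impurity_restrict N p A' B' N' f inferInstance hf p' A'' B'' N'' f'' t' t P himp
  haveI : Algebra.FiniteType A A'' := Algebra.FiniteType.trans (S := A')
    (inferInstance : Algebra.FiniteType A A') (inferInstance : Algebra.FiniteType A' A'')
  haveI : Algebra.QuasiFiniteAt A' t := inferInstance
  haveI : Algebra.QuasiFiniteAt A t := quasiFiniteAt_trans (R := A) p' t
  have h1 : FlatCA.HasImpurity A B N p (fun A' _ _ t => ∃ _ : t.IsPrime,
      Algebra.FiniteType A A' ∧ Algebra.QuasiFiniteAt A t) :=
    ⟨A'', B'', N'', inferInstance, inferInstance, i1, i3, inferInstance, i4, i5, i6,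
      inferInstance, inferInstance, i7, i8, inferInstance, inferInstance, f₂, t', t,
      inferInstance, inferInstance, P, inferInstance, himp₂, inferInstance, inferInstance,
      inferInstance⟩
  obtain ⟨A₁, B₁, N₁, _, _, _, _, _, _, _, _, _, _, _, _, _, _, f₁, t₁', t₁, _, _, P₁, _, himp₁,
    _, hEt'⟩ := ImpQF.main1246 N p h1
  exact h A₁ B₁ N₁ f₁ t₁' t₁ P₁ hEt' himp₁

end Groth.Agent.Lib.Helper15.ImpQF2
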