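import Mathlib
import Groth.Prelude.Def_FlatCA
import Groth.Prelude.Def_Hensel
import Groth.Agent.Lib.Helper15.ImpBC
import Groth.Agent.Lib.Helper15.ImpBC2
import Groth.Agent.Lib.Helper15.ImpQF
import Groth.Agent.Lib.Helper15.ImpQF2
import Groth.Agent.Lib.Helper15.ImpHens
import Groth.Agent.Lib.Helper15.HensImp
import Groth.Agent.Lib.Helper15.ImpN4

/-!
# Purity and universal purity along a fibre agree when the local ring of the base is Noetherian
-/

set_option autoImplicit false
set_option linter.style.haveILetI false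
set_option linter.unusedSectionVars false
set_option linter.style.longLine false
universe u

open TensorProduct IsLocalRing

namespace Groth.Agent.Lib.Helper15.ImpLoc

open Groth.Agent.Lib.Helper26 Groth.Agent.Lib.Helper15

attribute [local instance] Algebra.TensorProduct.rightAlgebra

/-- transport of the henselization property along `R ≅ R_𝔪` -/
theorem isHenselization_of_atPrime_maximalIdeal (R H : Type u) [CommRing R] [IsLocalRing R]
    [CommRing H] [IsLocalRing H] [Algebra R H]
    [Algebra (Localization.AtPrime (maximalIdeal R)) H]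
    [IsScalarTower R (Localization.AtPrime (maximalIdeal R)) H]
    [IsLocalHom (algebraMap (Localization.AtPrime (maximalIdeal R)) H)]
    (hH : Hensel.IsHenselization (Localization.AtPrime (maximalIdeal R)) H) :
    ∃ (_ : IsLocalHom (algebraMap R H)), Hensel.IsHenselization R H := by
  let R' := Localization.AtPrime (maximalIdeal R)
  have hle : (maximalIdeal R).primeCompl ≤ IsUnit.submonoid R := by
    intro x hx
    by_contra hnu
    exact hx ((mem_maximalIdeal x).2 hnu)
  let e : R ≃ₐ[R] R' := IsLocalization.atUnits R (maximalIdeal R).primeCompl hle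
  have he : ∀ x : R, e x = algebraMap R R' x := fun x => by
    have := e.commutes x
    simpa using this
  have hcomp : algebraMap R H = (algebraMap R' H).comp (algebraMap R R') :=
    IsScalarTower.algebraMap_eq R R' H
  have hloc : IsLocalHom (algebraMap R H) := by
    refine ⟨fun a ha => ?_⟩
    rw [hcomp, RingHom.comp_apply] at ha
    have h1 : IsUnit (algebraMap R R' a) := isUnit_of_map_unit (algebraMap R' H) _ ha
    rw [← he] at h1
    have := h1.map e.symm
    simpa using this
  refine ⟨hloc, ⟨hH.henselian, fun T _ _ f hf => ?_⟩⟩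
  let f' : R' →+* T := f.comp e.symm.toRingEquiv.toRingHom
  have hf' : IsLocalHom f' := by
    refine ⟨fun a ha => ?_⟩
    have h1 : IsUnit (e.symm a) := by
      haveI := hf
      exact isUnit_of_map_unit f _ ha
    have := h1.map e
    simpa using this
  obtain ⟨g, hg, hguniq⟩ := hH.universal T f' hf'
  have hf'e : ∀ x : R, f' (algebraMap R R' x) = f x := by
    intro x
    rw [← he]
    show f (e.symm (e x)) = f x
    rw [AlgEquiv.symm_apply_apply]
  refine ⟨g, ?_, ?_⟩
  · show g.comp (algebraMap R H) = f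
    ext x
    rw [hcomp, RingHom.comp_apply, RingHom.comp_apply, ← RingHom.comp_apply g, hg, hf'e]
  · intro g₂ hg₂
    apply hguniq
    ext y
    obtain ⟨x, rfl⟩ := e.surjective y
    rw [he, hf'e, RingHom.comp_apply]
    have h1 : algebraMap R' H (algebraMap R R' x) = algebraMap R H x := by
      rw [hcomp, RingHom.comp_apply]
    rw [h1, ← RingHom.comp_apply, hg₂]


section toLocalA

variable {A B : Type u} [CommRing A] [CommRing B] [Algebra A B] [Algebra.FiniteType A B]
  (N : Type u) [AddCommGroup N] [Module B N] (p : Ideal A) [p.IsPrime]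
  (A₁ B₁ N₁ : Type u) [CommRing A₁] [CommRing B₁] [Algebra A A₁] [Algebra B B₁] [Algebra A₁ B₁]
  [Algebra A B₁] [IsScalarTower A B B₁] [IsScalarTower A A₁ B₁] [AddCommGroup N₁] [Module B₁ N₁]
  [Module B N₁] [IsScalarTower B B₁ N₁] [Module A₁ N₁] [IsScalarTower A₁ B₁ N₁]
  (f₁ : N →ₗ[B] N₁) (t₁' t₁ : Ideal A₁) [t₁'.IsPrime] [t₁.IsPrime] (P₁ : Ideal B₁) [P₁.IsPrime]
  (himp : FlatCA.IsImpurity A B N p A₁ B₁ N₁ f₁ t₁' t₁ P₁)

include himp in
/-- localize the test ring at `t` -/
theorem to_local_aux :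
    ∃ (B₂ N₂ : Type u) (_ : CommRing B₂) (_ : Algebra B B₂)
      (_ : Algebra (Localization.AtPrime t₁) B₂) (_ : Algebra A B₂)
      (_ : IsScalarTower A B B₂) (_ : IsScalarTower A (Localization.AtPrime t₁) B₂)
      (_ : AddCommGroup N₂) (_ : Module B₂ N₂) (_ : Module B N₂) (_ : IsScalarTower B B₂ N₂)
      (_ : Module (Localization.AtPrime t₁) N₂)
      (_ : IsScalarTower (Localization.AtPrime t₁) B₂ N₂) (f₂ : N →ₗ[B] N₂)
      (r' : Ideal (Localization.AtPrime t₁)) (_ : r'.IsPrime) (P₂ : Ideal B₂) (_ : P₂.IsPrime),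
      FlatCA.IsImpurity A B N p (Localization.AtPrime t₁) B₂ N₂ f₂ r'
        (maximalIdeal (Localization.AtPrime t₁)) P₂ := by
  haveI hlo : t₁.LiesOver p := himp.2.2.2.1
  have hle : t₁' ≤ t₁ := himp.2.2.1
  have hdisj : Disjoint (t₁.primeCompl : Set A₁) (t₁' : Set A₁) := by
    rw [Set.disjoint_left]
    intro x hx hx'
    exact hx (hle hx')
  haveI hr' : (t₁'.map (algebraMap A₁ (Localization.AtPrime t₁))).IsPrime :=
    IsLocalization.isPrime_of_isPrime_disjoint t₁.primeCompl (Localization.AtPrime t₁) t₁'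
      inferInstance hdisj
  obtain ⟨B₂, N₂, i1, i2, i3, i4, i5, i6, i7, i8, i9, i10, i11, i12, f₂, P₂, hP₂, himp₂⟩ :=
    ImpBC.exists_impurity N p A₁ B₁ N₁ f₁ t₁' t₁ P₁ himp (Localization.AtPrime t₁)
      (t₁'.map (algebraMap A₁ (Localization.AtPrime t₁)))
      (maximalIdeal (Localization.AtPrime t₁)) (le_maximalIdeal hr'.ne_top)
      (IsLocalization.under_map_of_isPrime_disjoint t₁.primeCompl (Localization.AtPrime t₁)
        inferInstance hdisj)
      (Localization.AtPrime.under_maximalIdeal (I := t₁))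
  exact ⟨B₂, N₂, i1, i2, i3, i4, i5, i6, i7, i8, i9, i10, i11, i12, f₂, _, hr', P₂, hP₂, himp₂⟩

end toLocalA

section toLocalB

variable {A B : Type u} [CommRing A] [CommRing B] [Algebra A B] [Algebra.FiniteType A B]
  (N : Type u) [AddCommGroup N] [Module B N] (p : Ideal A) [p.IsPrime]
  (R : Type u) [CommRing R] [IsLocalRing R] [Algebra A R]
  (A₂ B₂ N₂ : Type u) [CommRing A₂] [IsLocalRing A₂] [CommRing B₂] [Algebra A A₂] [Algebra B B₂]
  [Algebra A₂ B₂]
  [Algebra A B₂] [IsScalarTower A B B₂] [IsScalarTower A A₂ B₂] [AddCommGroup N₂] [Module B₂ N₂]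
  [Module B N₂] [IsScalarTower B B₂ N₂] [Module A₂ N₂] [IsScalarTower A₂ B₂ N₂]
  (f₂ : N →ₗ[B] N₂) (r' : Ideal A₂) [r'.IsPrime] (P₂ : Ideal B₂) [P₂.IsPrime]
  (himp : FlatCA.IsImpurity A B N p A₂ B₂ N₂ f₂ r' (maximalIdeal A₂) P₂)
  [Algebra R A₂] [IsScalarTower A R A₂] [IsLocalHom (algebraMap R A₂)]

include himp in
theorem to_local_aux2 :
    FlatCA.HasImpurity R (R ⊗[A] B) ((R ⊗[A] B) ⊗[B] N) (maximalIdeal R)
      (fun _ _ _ _ => True) := by
  have hp' : (maximalIdeal A₂).comap (algebraMap R A₂) = maximalIdeal R :=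
    IsLocalRing.maximalIdeal_comap (algebraMap R A₂)
  obtain ⟨j1, j2, j3, j4, j5, j6, f₂', himp₃⟩ :=
    ImpBC2.impurity_convert N p R (R ⊗[A] B) ((R ⊗[A] B) ⊗[B] N)
      (TensorProduct.mk B (R ⊗[A] B) N 1) (TensorProduct.isBaseChange B N (R ⊗[A] B))
      (maximalIdeal R) A₂ B₂ N₂ f₂ r' (maximalIdeal A₂) P₂ himp hp'
  exact ⟨A₂, B₂, N₂, inferInstance, inferInstance, inferInstance, j1, inferInstance, j2, j3, j4,
    inferInstance, inferInstance, j5, j6, inferInstance, inferInstance, f₂', _, _, inferInstance,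
    inferInstance, P₂, inferInstance, himp₃, trivial⟩

end toLocalB

section chain

variable {A B : Type u} [CommRing A] [CommRing B] [Algebra A B] [Algebra.FiniteType A B]
  (N : Type u) [AddCommGroup N] [Module B N] [Module.Finite B N] (p : Ideal A) [p.IsPrime]
  (R : Type u) [CommRing R] [IsLocalRing R] [IsNoetherianRing R] [Algebra A R]
  [(maximalIdeal R).LiesOver p]

theorem chain (h : FlatCA.HasImpurity R (R ⊗[A] B) ((R ⊗[A] B) ⊗[B] N) (maximalIdeal R)
      (fun _ _ _ _ => True)) :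
    FlatCA.HasImpurity A B N p (fun A' _ _ t => ∃ (_ : IsLocalRing A') (_ : Algebra R A')
      (_ : IsScalarTower A R A') (_ : IsLocalHom (algebraMap R A')),
      Hensel.IsHenselization R A' ∧ t = maximalIdeal A') := by
  have h1 := ImpN4.main1247 ((R ⊗[A] B) ⊗[B] N) (maximalIdeal R) h
  have h2 := ImpQF.main1246 ((R ⊗[A] B) ⊗[B] N) (maximalIdeal R) h1
  have h3 := HensImp.main9000 ((R ⊗[A] B) ⊗[B] N) (maximalIdeal R) h2
  obtain ⟨H, B₃, N₃, _, _, _, _, _, _, _, _, _, _, _, _, _, _, f₃, t', t, _, _, P, _, himp,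
    hloc, _, _, _, hH, rfl⟩ := h3
  obtain ⟨hlh', hH'⟩ := isHenselization_of_atPrime_maximalIdeal R H hH
  obtain ⟨k1, k2, k3, k4, k5, k6, k7, k8, f₄, himp₄⟩ :=
    ImpQF2.exists_impurity_restrict N p R (R ⊗[A] B) ((R ⊗[A] B) ⊗[B] N)
      (TensorProduct.mk B (R ⊗[A] B) N 1) (inferInstance : Algebra.IsPushout A B R (R ⊗[A] B))
      (TensorProduct.isBaseChange B N (R ⊗[A] B)) (maximalIdeal R) H B₃ N₃ f₃ t'
      (maximalIdeal H) P himp
  exact ⟨H, B₃, N₃, inferInstance, inferInstance, k1, k3, inferInstance, k4, k5, k6,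
    inferInstance, inferInstance, k7, k8, inferInstance, inferInstance, f₄, t', _, inferInstance,
    inferInstance, P, inferInstance, himp₄, hloc, inferInstance, k2, hlh', hH', rfl⟩

end chain

theorem main8998 {A B : Type u} [CommRing A] [CommRing B] [Algebra A B] [Algebra.FiniteType A B]
    (N : Type u) [AddCommGroup N] [Module B N] [Module.Finite B N] (p : Ideal A) [p.IsPrime]
    [IsNoetherianRing (Localization.AtPrime p)] :
    FlatCA.IsPureAlong A B N p ↔ FlatCA.IsUnivPureAlong A B N p := by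
  constructor
  · intro hpure A₁ B₁ N₁ _ _ _ _ _ _ _ _ _ _ _ _ _ _ f₁ t₁' t₁ _ _ P₁ _ himp
    obtain ⟨B₂, N₂, i1, i2, i3, i4, i5, i6, i7, i8, i9, i10, i11, i12, f₂, r', hr', P₂, hP₂,
      himp₂⟩ := to_local_aux N p A₁ B₁ N₁ f₁ t₁' t₁ P₁ himp
    haveI hlo : t₁.LiesOver p := himp.2.2.2.1
    letI := Localization.AtPrime.algebraOfLiesOver p t₁
    haveI : IsScalarTower A (Localization.AtPrime p) (Localization.AtPrime t₁) := inferInstance
    haveI : IsLocalHom (algebraMap (Localization.AtPrime p) (Localization.AtPrime t₁)) :=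
      Localization.isLocalHom_localRingHom p t₁ (algebraMap A A₁) Ideal.LiesOver.over
    have h1 := to_local_aux2 N p (Localization.AtPrime p) (Localization.AtPrime t₁) B₂ N₂ f₂ r'
      P₂ himp₂
    haveI : (maximalIdeal (Localization.AtPrime p)).LiesOver p :=
      ⟨(Localization.AtPrime.under_maximalIdeal (I := p)).symm⟩
    have h2 := chain N p (Localization.AtPrime p) h1
    have h3 := ImpHens.main1248 N p h2
    obtain ⟨A', B', N', _, _, _, _, _, _, _, _, _, _, _, _, _, _, f, t', t, _, _, P, _, himp',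
      _, het⟩ := h3
    exact hpure A' B' N' f t' t P het himp'
  · intro h A' B' N' _ _ _ _ _ _ _ _ _ _ _ _ _ _ f t' t _ _ P _ _ himp
    exact h A' B' N' f t' t P himp

end Groth.Agent.Lib.Helper15.ImpLoc
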