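import Mathlib
import Groth.Agent.Lib.Helper15.PrimeFactors

/-!
# Lemmas about `CSAGal.IsIndex` (helper15)
-/

set_option autoImplicit false
universe u v w
open scoped TensorProduct

namespace Groth.Agent.Lib.Helper15.CSA


section index

variable {k : Type u} [Field k] {A : Type v} [Ring A] [Algebra k A]
  [Algebra.IsCentral k A] [IsSimpleRing A] [FiniteDimensional k A]

/-- Unpack `IsIndex` for a central simple algebra, with centrality and finiteness of `D`. -/
theorem isIndex_exists_central {d : ℕ} (h : CSAGal.IsIndex k A d) :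
    ∃ (m : ℕ) (D : Type v) (_ : DivisionRing D) (_ : Algebra k D) (_ : Algebra.IsCentral k D)
      (_ : FiniteDimensional k D), 0 < m ∧ Module.finrank k D = d ^ 2 ∧
        Nonempty (A ≃ₐ[k] Matrix (Fin m) (Fin m) D) := by
  obtain ⟨hd0, m, D, iD, aD, hm, hdim, ⟨iso⟩⟩ := h
  have : NeZero m := ⟨hm.ne'⟩
  have hDf : FiniteDimensional k D := by
    apply Module.finite_of_finrank_pos
    rw [hdim]; positivity
  have hDc : Algebra.IsCentral k D :=
    @isCentral_of_matrix k _ D _ _ m _ (IsCSA.central ((IsCSA.mk' A).of_algEquiv iso))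
  exact ⟨m, D, iD, aD, hDc, hDf, hm, hdim, ⟨iso⟩⟩

variable (k A) in
/-- Every central simple algebra has an index. -/
theorem exists_isIndex : ∃ d, CSAGal.IsIndex k A d := by
  obtain ⟨m, hm, D, _, _, hDc, hDf, ⟨iso⟩⟩ := exists_algEquiv_matrix_central_division k A
  obtain ⟨d, hd⟩ := exists_finrank_eq_sq k D
  have hd0 : 0 < d := by
    have : 0 < Module.finrank k D := Module.finrank_pos
    rw [hd] at this
    exact Nat.pos_of_ne_zero (by rintro rfl; simp at this)
  exact ⟨d, hd0, m, D, inferInstance, inferInstance, Nat.pos_of_ne_zero (NeZero.ne m), hd, ⟨iso⟩⟩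

/-- The index is unique. -/
theorem isIndex_unique {d d' : ℕ} (h : CSAGal.IsIndex k A d) (h' : CSAGal.IsIndex k A d') :
    d = d' := by
  obtain ⟨m, D, _, _, hDc, hDf, hm, hdim, ⟨iso⟩⟩ := isIndex_exists_central h
  obtain ⟨m', D', _, _, hDc', hDf', hm', hdim', ⟨iso'⟩⟩ := isIndex_exists_central h'
  have : NeZero m := ⟨hm.ne'⟩
  have : NeZero m' := ⟨hm'.ne'⟩
  obtain ⟨-, ⟨eD⟩⟩ := matrix_division_unique k D D' m m' (iso.symm.trans iso')
  have h1 : d ^ 2 = d' ^ 2 := by rw [← hdim, ← hdim', eD.toLinearEquiv.finrank_eq]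
  exact Nat.pow_left_injective (n := 2) (by norm_num) h1

/-- Transport of the index along an isomorphism (possibly changing universes). -/
theorem isIndex_of_algEquiv {B : Type w} [Ring B] [Algebra k B] (e : A ≃ₐ[k] B) {d : ℕ}
    (h : CSAGal.IsIndex k A d) : CSAGal.IsIndex k B d := by
  have hB : IsCSA k B := (IsCSA.mk' A).of_algEquiv e
  obtain ⟨hBc, hBs, hBf⟩ := hB
  obtain ⟨d', h'⟩ := exists_isIndex k B
  obtain ⟨m, D, _, _, hDc, hDf, hm, hdim, ⟨iso⟩⟩ := isIndex_exists_central h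
  obtain ⟨m', D', _, _, hDc', hDf', hm', hdim', ⟨iso'⟩⟩ := isIndex_exists_central h'
  have : NeZero m := ⟨hm.ne'⟩
  have : NeZero m' := ⟨hm'.ne'⟩
  obtain ⟨-, ⟨eD⟩⟩ := matrix_division_unique k D D' m m' ((iso.symm.trans e).trans iso')
  have h1 : d ^ 2 = d' ^ 2 := by rw [← hdim, ← hdim', eD.toLinearEquiv.finrank_eq]
  have h2 : d = d' := Nat.pow_left_injective (n := 2) (by norm_num) h1
  rw [h2]
  exact h'

/-- `ind(A_K) ∣ ind(A) ∣ [K:k]·ind(A_K)`. -/
theorem isIndex_baseChange_dvd (K : Type w) [Field K] [Algebra k K] [FiniteDimensional k K]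
    {d d' : ℕ} (h : CSAGal.IsIndex k A d) (h' : CSAGal.IsIndex K (K ⊗[k] A) d') :
    d' ∣ d ∧ d ∣ Module.finrank k K * d' := by
  have hc' : Algebra.IsCentral K (K ⊗[k] A) := isCentral_baseChange k K A
  have hs' : IsSimpleRing (K ⊗[k] A) := isSimpleRing_baseChange k K A
  obtain ⟨m, D, _, _, hDc, hDf, hm, hdim, ⟨iso⟩⟩ := isIndex_exists_central h
  obtain ⟨m', D', _, _, hDc', hDf', hm', hdim', ⟨iso'⟩⟩ := isIndex_exists_central h'
  exact index_baseChange k K A D m iso d hdim D' m' iso' d' hdim'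

/-- If `A^{⊗n}` is split, `[K:k]` is coprime to `n` and `ind(A_K) ∣ n`, then `ind(A) ∣ n`. -/
theorem isIndex_dvd_of_coprime (K : Type w) [Field K] [Algebra k K] [FiniteDimensional k K]
    {d d' n : ℕ} (h : CSAGal.IsIndex k A d) (h' : CSAGal.IsIndex K (K ⊗[k] A) d')
    (hn : IsSplit k (CSAGal.tpow k A n)) (hcop : Nat.Coprime n (Module.finrank k K))
    (hd'n : d' ∣ n) : d ∣ n := by
  obtain ⟨-, h2⟩ := isIndex_baseChange_dvd K h h'
  obtain ⟨m, D, _, _, hDc, hDf, hm, hdim, ⟨iso⟩⟩ := isIndex_exists_central h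
  have hcop' : Nat.Coprime d (Module.finrank k K) := by
    apply Nat.coprime_of_dvd
    intro p hp hpd hpK
    have hpn : p ∣ n := prime_dvd_of_isSplit_tpow k A D m iso d hdim n hn p hp hpd
    have := Nat.dvd_gcd hpn hpK
    rw [hcop] at this
    exact hp.one_lt.ne' (Nat.dvd_one.mp this)
  have h3 : d ∣ Module.finrank k K * n := h2.trans (Nat.mul_dvd_mul_left _ hd'n)
  exact hcop'.dvd_of_dvd_mul_left h3

/-- The period divides the index. -/
theorem isIndex_isSplit_tpow {d : ℕ} (h : CSAGal.IsIndex k A d) :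
    IsSplit k (CSAGal.tpow k A d) := by
  obtain ⟨m, D, _, _, hDc, hDf, hm, hdim, ⟨iso⟩⟩ := isIndex_exists_central h
  exact isSplit_tpow_index k A D m iso d hdim

end index

end Groth.Agent.Lib.Helper15.CSA
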