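import Mathlib
import Groth.Agent.Lib.Helper15.IndexLemmas
import Groth.Agent.Lib.Helper15.MaxSubfield
import Groth.Agent.Lib.Helper8.SepSub

/-!
# Maximal subfields; index of tensor powers; index and Brauer equivalence (helper15)
-/

set_option autoImplicit false
universe u v w
open scoped TensorProduct

namespace Groth.Agent.Lib.Helper15.CSA

open Groth.Agent.Lib.Helper8.DivSub Groth.Agent.Lib.Helper5.DoubleCentralizer
open scoped IsMulCommutative

/-- Transport of splitting along an isomorphism. -/
theorem splits_of_algEquiv' {k : Type*} [Field k] {A A' : Type*} [Ring A] [Algebra k A] [Ring A']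
    [Algebra k A'] {K : Type*} [Field K] [Algebra k K] (e : A ≃ₐ[k] A')
    (h : Curves.Splits k A K) : Curves.Splits k A' K := by
  obtain ⟨n, hn, ⟨ψ⟩⟩ := h
  exact ⟨n, hn, ⟨(Algebra.TensorProduct.congr (AlgEquiv.refl : K ≃ₐ[K] K) e.symm).trans ψ⟩⟩

/-- If `K` splits `D` then `K` splits `M_m(D)`. -/
theorem splits_matrix' {k : Type u} [Field k] {D : Type v} [Ring D] [Algebra k D]
    {K : Type w} [Field K] [Algebra k K] (m : ℕ) (hm : m ≠ 0) (h : Curves.Splits k D K) :
    Curves.Splits k (Matrix (Fin m) (Fin m) D) K := by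
  obtain ⟨t, ht, ⟨eD⟩⟩ := h
  exact ⟨m * t, Nat.mul_ne_zero hm ht,
    ⟨(baseChangeMatrixEquiv k K D m).trans
      ((AlgEquiv.mapMatrix eD).trans (matrixMatrixEquiv K K m t))⟩⟩

/-- A central division algebra of dimension `d²` contains a separable maximal subfield, i.e. there
is a finite separable field extension `L/k` with a `k`-embedding `L → D` and `[L:k]² = dim D`. -/
theorem exists_maximal_subfield (k : Type u) [Field k] (D : Type v) [DivisionRing D] [Algebra k D]
    [Algebra.IsCentral k D] [FiniteDimensional k D] :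
    ∃ (L : Type v) (_ : Field L) (_ : Algebra k L) (_ : FiniteDimensional k L)
      (_ : Algebra.IsSeparable k L) (_ : L →ₐ[k] D),
      Module.finrank k D = Module.finrank k L ^ 2 := by
  obtain ⟨L, hcomm, hmax, hsep⟩ :=
    Groth.Agent.Lib.Helper8.SepSub.exists_separable_maximal_comm k D
  have : IsSimpleRing L := isSimpleRing_subalgebra k D L
  have hC := centralizer_eq_of_maximal_comm k D L hcomm hmax
  have hfr := finrank_eq_mul_centralizer k D L
  rw [hC] at hfr
  have : IsMulCommutative L := .of_setLike_mul_comm hcomm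
  let _ : Field L := Field.ofIsUnitOrEqZero (fun a => by
    by_cases ha : a = 0
    · exact Or.inr ha
    · left
      have ha' : (a : D) ≠ 0 := fun h => ha (Subtype.ext h)
      exact isUnit_iff_exists_inv.mpr ⟨⟨(a : D)⁻¹, inv_mem_subalgebra k D L a a.2 ha'⟩,
        Subtype.ext (mul_inv_cancel₀ ha')⟩)
  refine ⟨L, inferInstance, inferInstance, inferInstance, hsep, L.val, ?_⟩
  rw [hfr, pow_two]

section tpowsplit

variable {k : Type u} [Field k]

/-- Tensor powers of split algebras are split. -/
theorem IsSplit.tpow {B : Type v} [Ring B] [Algebra k B] (h : IsSplit k B) (r : ℕ) :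
    IsSplit k (CSAGal.tpow k B r) := by
  induction r with
  | zero => exact isSplit_tpow_zero
  | succ r ih =>
    exact isSplit_tpow_add ih (h.of_algEquiv (tpowOneEquiv k B).symm)

/-- If `L` splits `A` then `L` splits all tensor powers of `A`. -/
theorem splits_tpow (L : Type w) [Field L] [Algebra k L] {A : Type v} [Ring A] [Algebra k A]
    (h : Curves.Splits k A L) (r : ℕ) : Curves.Splits k (CSAGal.tpow k A r) L := by
  have h1 : IsSplit L (L ⊗[k] A) := h
  obtain ⟨n, hn, ⟨ψ⟩⟩ := h1.tpow r
  obtain ⟨φ⟩ := nonempty_tpow_baseChange k L A r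
  exact ⟨n, hn, ⟨φ.symm.trans ψ⟩⟩

end tpowsplit

section index

variable {k : Type u} [Field k] {A : Type v} [Ring A] [Algebra k A]
  [Algebra.IsCentral k A] [IsSimpleRing A] [FiniteDimensional k A]

/-- A central simple algebra of index `d` is split by a separable extension of degree `d`. -/
theorem isIndex_exists_splitting_field {d : ℕ} (h : CSAGal.IsIndex k A d) :
    ∃ (L : Type v) (_ : Field L) (_ : Algebra k L) (_ : FiniteDimensional k L)
      (_ : Algebra.IsSeparable k L), Module.finrank k L = d ∧ Curves.Splits k A L := by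
  obtain ⟨m, D, _, _, hDc, hDf, hm, hdim, ⟨iso⟩⟩ := isIndex_exists_central h
  obtain ⟨L, _, _, hLf, hLs, ι, hL⟩ := exists_maximal_subfield k D
  have hLd : Module.finrank k L = d := by
    have : Module.finrank k L ^ 2 = d ^ 2 := by rw [← hL, hdim]
    exact Nat.pow_left_injective (n := 2) (by norm_num) this
  refine ⟨L, inferInstance, inferInstance, hLf, hLs, hLd, ?_⟩
  have h1 : Curves.Splits k D L := splits_of_algHom_of_finrank_sq k L D ι hL
  exact splits_of_algEquiv' iso.symm (splits_matrix' m hm.ne' h1)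

/-- If a field `L` of degree `n` over `k` splits `B`, then the index of `B` divides `n`. -/
theorem isIndex_dvd_of_splits {B : Type v} [Ring B] [Algebra k B] [Algebra.IsCentral k B]
    [IsSimpleRing B] [FiniteDimensional k B] (L : Type w) [Field L] [Algebra k L]
    [FiniteDimensional k L] {d : ℕ} (h : CSAGal.IsIndex k B d) (hs : Curves.Splits k B L) :
    d ∣ Module.finrank k L := by
  obtain ⟨m, D, _, _, hDc, hDf, hm, hdim, ⟨iso⟩⟩ := isIndex_exists_central h
  have : NeZero m := ⟨hm.ne'⟩
  have hsM : Curves.Splits k (Matrix (Fin m) (Fin m) D) L :=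
    splits_of_algEquiv' iso hs
  obtain ⟨t, ht, ⟨eD⟩⟩ := splits_of_splits_matrix k L D m hsM
  obtain ⟨hdimD, hdvd⟩ := dvd_of_splits_division k L D t eD
  have htd : t = d := by
    have : t ^ 2 = d ^ 2 := by rw [← hdimD, hdim]
    exact Nat.pow_left_injective (n := 2) (by norm_num) this
  rw [← htd]
  exact hdvd

/-- The index of a tensor power divides the index. -/
theorem isIndex_tpow_dvd {d d' : ℕ} (r : ℕ) (h : CSAGal.IsIndex k A d)
    (h' : CSAGal.IsIndex k (CSAGal.tpow k A r) d') : d' ∣ d := by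
  obtain ⟨L, _, _, hLf, -, hLd, hLs⟩ := isIndex_exists_splitting_field h
  obtain ⟨hc, hs, hf⟩ := (IsCSA.mk' A).tpow (k := k) r
  have := isIndex_dvd_of_splits L h' (splits_tpow L hLs r)
  rwa [hLd] at this

/-- Brauer equivalent central simple algebras have the same index. -/
theorem isIndex_of_brEq {B : Type w} [Ring B] [Algebra k B] [Algebra.IsCentral k B]
    [IsSimpleRing B] [FiniteDimensional k B] {d : ℕ} (h : CSAGal.IsIndex k A d)
    (hBr : BrEq k A B) : CSAGal.IsIndex k B d := by
  obtain ⟨d', h'⟩ := exists_isIndex k B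
  obtain ⟨m, D, _, _, hDc, hDf, hm, hdim, ⟨iso⟩⟩ := isIndex_exists_central h
  obtain ⟨m', D', _, _, hDc', hDf', hm', hdim', ⟨iso'⟩⟩ := isIndex_exists_central h'
  obtain ⟨a, b, ha, hb, ⟨φ⟩⟩ := hBr
  have : NeZero (a * m) := ⟨Nat.mul_ne_zero ha hm.ne'⟩
  have : NeZero (b * m') := ⟨Nat.mul_ne_zero hb hm'.ne'⟩
  have Φ : Matrix (Fin (a * m)) (Fin (a * m)) D ≃ₐ[k] Matrix (Fin (b * m')) (Fin (b * m')) D' :=
    (matrixMatrixEquiv k D a m).symm.trans <|
      (AlgEquiv.mapMatrix iso.symm).trans <| φ.trans <|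
        (AlgEquiv.mapMatrix iso').trans (matrixMatrixEquiv k D' b m')
  obtain ⟨-, ⟨eD⟩⟩ := matrix_division_unique k D D' (a * m) (b * m') Φ
  have h1 : d ^ 2 = d' ^ 2 := by rw [← hdim, ← hdim', eD.toLinearEquiv.finrank_eq]
  have h2 : d = d' := Nat.pow_left_injective (n := 2) (by norm_num) h1
  rw [h2]
  exact h'

end index

end Groth.Agent.Lib.Helper15.CSA
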