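import Mathlib

set_option linter.style.haveILetI false
set_option autoImplicit false

open TensorProduct Polynomial

namespace Groth.Agent.Lib.Helper15.InvNorm

universe u

section universal

variable (R G : Type u) [CommRing R] [Group G] [Fintype G] [MulSemiringAction G R]
variable {κ : Type} [Fintype κ] (r : κ → R)

/-- the "universal norm polynomial" `∏_σ (X - Σ y_k σ(r_k))`. -/
noncomputable def Q : (MvPolynomial κ R)[X] :=
  ∏ σ : G, (X - C (∑ k, MvPolynomial.X k * MvPolynomial.C (σ • r k)))

theorem Q_monic : (Q R G r).Monic :=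
  monic_prod_of_monic _ _ fun _ _ => monic_X_sub_C _

theorem Q_map_act (τ : G) :
    (Q R G r).map (MvPolynomial.map (MulSemiringAction.toRingHom G R τ)) = Q R G r := by
  unfold Q
  rw [Polynomial.map_prod]
  calc _ = ∏ σ : G, (fun ρ => (X - C (∑ k, MvPolynomial.X k * MvPolynomial.C (ρ • r k)) :
        (MvPolynomial κ R)[X])) (τ * σ) := by
        refine Finset.prod_congr rfl fun σ _ => ?_
        simp [mul_smul, Polynomial.map_sum]
    _ = _ := Fintype.prod_equiv (Equiv.mulLeft τ) _ _ (fun σ => rfl)

theorem Q_mem_lifts :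
    Q R G r ∈ Polynomial.lifts (MvPolynomial.map (FixedPoints.subring R G).subtype
      : MvPolynomial κ (FixedPoints.subring R G) →+* MvPolynomial κ R) := by
  rw [Polynomial.lifts_iff_coeff_lifts]
  intro i
  rw [MvPolynomial.mem_range_map_iff_coeffs_subset]
  intro c hc
  rw [Finset.mem_coe, MvPolynomial.mem_coeffs_iff] at hc
  obtain ⟨μ, -, rfl⟩ := hc
  refine ⟨⟨_, fun τ => ?_⟩, rfl⟩
  have h := congrArg (fun p => MvPolynomial.coeff μ (Polynomial.coeff p i)) (Q_map_act R G r τ)
  simp only [Polynomial.coeff_map, MvPolynomial.coeff_map,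
    MulSemiringAction.toRingHom_apply] at h
  exact h

theorem exists_Q0 : ∃ Q0 : (MvPolynomial κ (FixedPoints.subring R G))[X],
    Q0.map (MvPolynomial.map (FixedPoints.subring R G).subtype) = Q R G r ∧ Q0.Monic := by
  obtain ⟨Q0, hQ0⟩ := (Polynomial.mem_lifts _).1 (Q_mem_lifts R G r)
  refine ⟨Q0, hQ0, ?_⟩
  apply Polynomial.monic_of_injective
    (MvPolynomial.map_injective _ (FixedPoints.subring R G).subtype_injective)
  rw [hQ0]
  exact Q_monic R G r

theorem Q_natDegree [Nontrivial R] : (Q R G r).natDegree = Fintype.card G := by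
  unfold Q
  rw [Polynomial.natDegree_prod_of_monic _ _ fun _ _ => monic_X_sub_C _]
  rw [Finset.sum_congr rfl (fun σ _ => natDegree_X_sub_C _)]
  simp

end universal


section aux

theorem aeval_mem_of_constantCoeff_eq_zero {S₀ A : Type*} [CommRing S₀] [CommRing A] [Algebra S₀ A]
    {κ : Type*} (a : κ → A) (J : Ideal A) (ha : ∀ k, a k ∈ J) (p : MvPolynomial κ S₀)
    (hp : MvPolynomial.constantCoeff p = 0) : MvPolynomial.aeval a p ∈ J := by
  rw [MvPolynomial.aeval_def, MvPolynomial.eval₂_eq]
  refine Ideal.sum_mem _ fun d hd => ?_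
  have hd0 : d ≠ 0 := by
    rintro rfl
    rw [MvPolynomial.mem_support_iff] at hd
    exact hd hp
  obtain ⟨k, hk⟩ : ∃ k, d k ≠ 0 := by
    by_contra h
    push Not at h
    exact hd0 (Finsupp.ext h)
  apply Ideal.mul_mem_left
  have hk' : k ∈ d.support := Finsupp.mem_support_iff.2 hk
  exact Ideal.prod_mem (I := J) hk' (Ideal.pow_mem_of_mem J (ha k) _ (Nat.pos_of_ne_zero hk))

end aux

section lemmaL

variable (R G : Type u) [CommRing R] [Group G] [Fintype G] [MulSemiringAction G R]
variable (A : Type u) [CommRing A] [Algebra (FixedPoints.subring R G) A]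
variable {κ : Type} [Fintype κ] (r : κ → R) (a : κ → A)

theorem lemmaL : ∃ P : A[X], P.Monic ∧
    P.map (algebraMap A (A ⊗[FixedPoints.subring R G] R)) =
      ∏ σ : G, (X - C (∑ k, a k ⊗ₜ[FixedPoints.subring R G] (σ • r k))) ∧
    ∀ J : Ideal A, (∀ k, a k ∈ J) → ∀ i, i < Fintype.card G → P.coeff i ∈ J := by
  obtain ⟨Q0, hQ0, hmon⟩ := exists_Q0 R G r
  let ev : MvPolynomial κ (FixedPoints.subring R G) →+* A :=
    (MvPolynomial.aeval a : MvPolynomial κ (FixedPoints.subring R G) →ₐ[_] A).toRingHom
  refine ⟨Q0.map ev, hmon.map _, ?_, ?_⟩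
  · let Φ : MvPolynomial κ R →+* A ⊗[FixedPoints.subring R G] R :=
      MvPolynomial.eval₂Hom
        (Algebra.TensorProduct.includeRight : R →ₐ[FixedPoints.subring R G] _).toRingHom
        (fun k => a k ⊗ₜ 1)
    have hcomp : (algebraMap A (A ⊗[FixedPoints.subring R G] R)).comp ev =
        Φ.comp (MvPolynomial.map (FixedPoints.subring R G).subtype) := by
      apply MvPolynomial.ringHom_ext
      · intro s
        simp only [ev, Φ, RingHom.comp_apply, AlgHom.toRingHom_eq_coe, RingHom.coe_coe,
          MvPolynomial.aeval_C, MvPolynomial.map_C, MvPolynomial.eval₂Hom_C,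
          Algebra.TensorProduct.algebraMap_apply, Algebra.TensorProduct.includeRight_apply,
          Subring.subtype_apply]
        show (algebraMap (FixedPoints.subring R G) A s) ⊗ₜ[FixedPoints.subring R G] (1 : R)
          = (1 : A) ⊗ₜ[FixedPoints.subring R G] (s : R)
        rw [Algebra.algebraMap_eq_smul_one (A := A) s, TensorProduct.smul_tmul, Subring.smul_def,
          smul_eq_mul, mul_one]
      · intro k
        simp only [ev, Φ, RingHom.comp_apply, AlgHom.toRingHom_eq_coe, RingHom.coe_coe,
          MvPolynomial.aeval_X, MvPolynomial.map_X, MvPolynomial.eval₂Hom_X',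
          Algebra.TensorProduct.algebraMap_apply]
        rfl
    rw [Polynomial.map_map, hcomp, ← Polynomial.map_map, hQ0]
    unfold Q
    rw [Polynomial.map_prod]
    refine Finset.prod_congr rfl fun σ _ => ?_
    rw [Polynomial.map_sub, Polynomial.map_X, Polynomial.map_C, map_sum]
    congr 2
    refine Finset.sum_congr rfl fun k _ => ?_
    rw [map_mul]
    simp only [Φ, MvPolynomial.eval₂Hom_X', MvPolynomial.eval₂Hom_C, AlgHom.toRingHom_eq_coe,
      RingHom.coe_coe, Algebra.TensorProduct.includeRight_apply,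
      Algebra.TensorProduct.tmul_mul_tmul, mul_one, one_mul]
  · intro J hJ i hi
    have hconst : MvPolynomial.constantCoeff (Q0.coeff i) = 0 := by
      have h1 : (Q0.map (MvPolynomial.constantCoeff
          (R := FixedPoints.subring R G) (σ := κ))).map (FixedPoints.subring R G).subtype
          = X ^ Fintype.card G := by
        have hc : ((FixedPoints.subring R G).subtype).comp (MvPolynomial.constantCoeff
            (R := FixedPoints.subring R G) (σ := κ)) =
            (MvPolynomial.constantCoeff (R := R) (σ := κ)).comp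
              (MvPolynomial.map (FixedPoints.subring R G).subtype) := by
          refine RingHom.ext fun p => ?_
          rw [RingHom.comp_apply, RingHom.comp_apply, MvPolynomial.constantCoeff_map]
        rw [Polynomial.map_map, hc, ← Polynomial.map_map, hQ0]
        unfold Q
        rw [Polynomial.map_prod]
        have : ∀ σ : G, Polynomial.map (MvPolynomial.constantCoeff (R := R) (σ := κ))
            (X - C (∑ k, MvPolynomial.X k * MvPolynomial.C (σ • r k))) = X := by
          intro σ
          rw [Polynomial.map_sub, Polynomial.map_X, Polynomial.map_C, map_sum]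
          simp
        rw [Finset.prod_congr rfl (fun σ _ => this σ)]
        simp
      have h2 := congrArg (fun p => Polynomial.coeff p i) h1
      simp only [Polynomial.coeff_map, Polynomial.coeff_X_pow, if_neg hi.ne,
        Subring.subtype_apply] at h2
      exact Subtype.ext h2
    rw [Polynomial.coeff_map]
    exact aeval_mem_of_constantCoeff_eq_zero a J hJ _ hconst

end lemmaL


section repr

theorem exists_repr {S₀ M N : Type*} [CommRing S₀] [AddCommGroup M] [Module S₀ M]
    [AddCommGroup N] [Module S₀ N] (z : M ⊗[S₀] N) :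
    ∃ (κ : Type) (_ : Fintype κ) (m : κ → M) (n : κ → N), z = ∑ k, m k ⊗ₜ[S₀] n k := by
  induction z using TensorProduct.induction_on with
  | zero => exact ⟨Empty, inferInstance, Empty.elim, Empty.elim, by simp⟩
  | tmul m n => exact ⟨Unit, inferInstance, fun _ => m, fun _ => n, by simp⟩
  | add x y hx hy =>
    obtain ⟨κ₁, _, m₁, n₁, rfl⟩ := hx
    obtain ⟨κ₂, _, m₂, n₂, rfl⟩ := hy
    exact ⟨κ₁ ⊕ κ₂, inferInstance, Sum.elim m₁ m₂, Sum.elim n₁ n₂, by
      rw [Fintype.sum_sum_type]; simp⟩

theorem exists_repr_of_rTensor_eq_zero {S₀ M N Q : Type*} [CommRing S₀] [AddCommGroup M]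
    [AddCommGroup N] [AddCommGroup Q] [Module S₀ M] [Module S₀ N] [Module S₀ Q]
    (g : M →ₗ[S₀] N) (hg : Function.Surjective g) (x : M ⊗[S₀] Q)
    (h : LinearMap.rTensor Q g x = 0) :
    ∃ (κ : Type) (_ : Fintype κ) (j : κ → M) (q : κ → Q),
      (∀ k, g (j k) = 0) ∧ x = ∑ k, j k ⊗ₜ[S₀] q k := by
  have hex := rTensor_exact Q (LinearMap.exact_subtype_ker_map g) hg
  obtain ⟨z, hz⟩ := (hex _).1 h
  obtain ⟨κ, _, j, q, rfl⟩ := exists_repr z
  refine ⟨κ, inferInstance, fun k => (j k : M), q, fun k => (j k).2, ?_⟩
  rw [← hz, map_sum]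
  simp only [LinearMap.rTensor_tmul, Submodule.subtype_apply]

end repr

section main

variable (R G A : Type u) [CommRing R] [Group G] [Fintype G]
    [MulSemiringAction G R] [CommRing A] [Algebra (FixedPoints.subring R G) A]

theorem part1 (b : TensorProduct (FixedPoints.subring R G) A R)
    (hb : ∀ σ : G, Algebra.TensorProduct.map (AlgHom.id (FixedPoints.subring R G) A)
        (MulSemiringAction.toAlgHom (FixedPoints.subring R G) R σ) b = b) :
    ∃ P : Polynomial A, P.Monic ∧
      Polynomial.map (algebraMap A (TensorProduct (FixedPoints.subring R G) A R)) P =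
        (Polynomial.X - Polynomial.C b) ^ Fintype.card G := by
  obtain ⟨κ, _, a, r, rfl⟩ := exists_repr b
  obtain ⟨P, hP, hmap, -⟩ := lemmaL R G A r a
  refine ⟨P, hP, ?_⟩
  rw [hmap]
  have : ∀ σ : G, (X - C (∑ k, a k ⊗ₜ[FixedPoints.subring R G] (σ • r k)) :
      (A ⊗[FixedPoints.subring R G] R)[X]) = X - C (∑ k, a k ⊗ₜ[FixedPoints.subring R G] r k) := by
    intro σ
    congr 2
    have := hb σ
    rw [map_sum] at this
    simpa using this
  rw [Finset.prod_congr rfl (fun σ _ => this σ), Finset.prod_const, Finset.card_univ]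

theorem part2_aux (P : Type u) [CommRing P] [Algebra (FixedPoints.subring R G) P]
    (hinj : Function.Injective (algebraMap P (P ⊗[FixedPoints.subring R G] R)))
    (π : P →ₐ[FixedPoints.subring R G] A) (hπ : Function.Surjective π) (f : P)
    (ha : algebraMap A (TensorProduct (FixedPoints.subring R G) A R) (π f) = 0)
    (i : ℕ) (hi : i < Fintype.card G) :
    ((Polynomial.X - Polynomial.C (π f)) ^ Fintype.card G).coeff i = 0 := by
  classical
  -- exactness
  have h0 : (LinearMap.rTensor R π.toLinearMap) (f ⊗ₜ[FixedPoints.subring R G] (1 : R)) = 0 := by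
    rw [LinearMap.rTensor_tmul, AlgHom.toLinearMap_apply]
    rw [Algebra.TensorProduct.algebraMap_apply] at ha
    exact ha
  obtain ⟨κ, _, j, r, hj, hz⟩ := exists_repr_of_rTensor_eq_zero π.toLinearMap hπ _ h0
  -- apply lemma L over `P`
  obtain ⟨G₀, hG₀, hmap, hcoef⟩ := lemmaL R G P r j
  have hinv : ∀ σ : G, (∑ k, (j k : P) ⊗ₜ[FixedPoints.subring R G] (σ • r k)) =
      f ⊗ₜ[FixedPoints.subring R G] (1 : R) := by
    intro σ
    have := congrArg (LinearMap.lTensor P
      (MulSemiringAction.toAlgHom (FixedPoints.subring R G) R σ).toLinearMap) hz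
    rw [map_sum] at this
    simpa using this.symm
  have hG₀' : G₀ = (X - C f) ^ Fintype.card G := by
    apply Polynomial.map_injective _ hinj
    have e1 : Polynomial.map (algebraMap P (P ⊗[FixedPoints.subring R G] R))
        ((Polynomial.X : Polynomial P) - Polynomial.C f)
        = ((Polynomial.X : Polynomial (TensorProduct (FixedPoints.subring R G) P R)) -
          Polynomial.C (f ⊗ₜ[FixedPoints.subring R G] (1 : R))) := by
      rw [Polynomial.map_sub, Polynomial.map_X, Polynomial.map_C]
      rfl
    rw [hmap, Finset.prod_congr rfl (fun σ _ => by rw [hinv σ]), Finset.prod_const,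
      Finset.card_univ, Polynomial.map_pow, e1]
  have hker : ∀ k, (j k : P) ∈ RingHom.ker (π : P →+* A) := fun k => hj k
  have hc := hcoef (RingHom.ker (π : P →+* A)) hker i hi
  rw [RingHom.mem_ker, hG₀'] at hc
  have : ((X - C (π f)) ^ Fintype.card G : A[X]) =
      ((X - C f) ^ Fintype.card G).map (π : P →+* A) := by
    rw [Polynomial.map_pow, Polynomial.map_sub, Polynomial.map_X, Polynomial.map_C]
    rfl
  rw [this, Polynomial.coeff_map]
  exact hc

theorem part2 (a : A) (ha : algebraMap A (TensorProduct (FixedPoints.subring R G) A R) a = 0)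
    (i : ℕ) (hi : i < Fintype.card G) :
    ((Polynomial.X - Polynomial.C a) ^ Fintype.card G).coeff i = 0 := by
  have hinj : Function.Injective (algebraMap (MvPolynomial A (FixedPoints.subring R G))
      ((MvPolynomial A (FixedPoints.subring R G)) ⊗[FixedPoints.subring R G] R)) :=
    Algebra.TensorProduct.includeLeft_injective (S := FixedPoints.subring R G)
      (A := MvPolynomial A (FixedPoints.subring R G)) (B := R) (R := FixedPoints.subring R G)
      Subtype.val_injective
  have hπ : Function.Surjective (MvPolynomial.aeval id :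
      MvPolynomial A (FixedPoints.subring R G) →ₐ[FixedPoints.subring R G] A) :=
    fun x => ⟨MvPolynomial.X x, MvPolynomial.aeval_X id x⟩
  have := part2_aux R G A (MvPolynomial A (FixedPoints.subring R G)) hinj
    (MvPolynomial.aeval id) hπ (MvPolynomial.X a)
  rw [MvPolynomial.aeval_X, id] at this
  exact this ha i hi

end main

end Groth.Agent.Lib.Helper15.InvNorm
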