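import Mathlib
import Groth.Agent.Lib.Helper15.GammaSpan

/-!
# Iversen's homomorphism `Γ^{e+1}(B) ⊗ B → Γ^e(B) ⊗ B` is surjective (helper15)
-/

set_option autoImplicit false
universe u
open scoped TensorProduct
open MvPolynomial

namespace Groth.Agent.Lib.Helper15.Iversen

open Groth.Agent.Lib.Helper15.LawFree Groth.Agent.Lib.Helper15.GammaSpan

open scoped Classical

variable {A B Cd Ce : Type u} [CommRing A] [CommRing B] [Algebra A B]
  [CommRing Cd] [Algebra A Cd] [CommRing Ce] [Algebra A Ce] (e : ℕ)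
  (γd : PolLaw.MulLaw A B Cd (e + 1)) (γe : PolLaw.MulLaw A B Ce e)
  (ω : Cd ⊗[A] B →ₐ[A] Ce ⊗[A] B)
  (hω : ∀ (S : Type u) [CommSemiring S] [Algebra A S] (x y : S ⊗[A] B),
    ω.toLinearMap.lTensor S
      ((Algebra.TensorProduct.includeLeft : Cd →ₐ[A] Cd ⊗[A] B).toLinearMap.lTensor S
          (γd.law.toFun' S x) *
        (Algebra.TensorProduct.includeRight : B →ₐ[A] Cd ⊗[A] B).toLinearMap.lTensor S y) =
    (Algebra.TensorProduct.includeLeft : Ce →ₐ[A] Ce ⊗[A] B).toLinearMap.lTensor S
        (γe.law.toFun' S x) *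
      (Algebra.TensorProduct.includeRight : B →ₐ[A] Ce ⊗[A] B).toLinearMap.lTensor S (x * y))

include hω in
theorem one_tmul_mem (y : B) : (1 : Ce) ⊗ₜ[A] y ∈ ω.range := by
  have h := hω A 1 ((1 : A) ⊗ₜ[A] y)
  rw [(γd.mult A).1, (γe.mult A).1, one_mul, Algebra.TensorProduct.one_def,
    Algebra.TensorProduct.one_def] at h
  simp only [LinearMap.lTensor_tmul, AlgHom.toLinearMap_apply,
    Algebra.TensorProduct.includeLeft_apply, Algebra.TensorProduct.includeRight_apply,
    Algebra.TensorProduct.tmul_mul_tmul, one_mul, mul_one] at h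
  have h2 := congrArg (TensorProduct.lid A (Ce ⊗[A] B)) h
  rw [TensorProduct.lid_tmul, TensorProduct.lid_tmul, one_smul, one_smul] at h2
  exact ⟨_, h2⟩

include hω in
theorem key (J : Finset (B →₀ ℕ)) (β₀ : (B →₀ ℕ) →₀ ℕ) :
    (∑ α ∈ Finset.finsuppAntidiag J e, ∑ i ∈ J,
      (if α + Finsupp.single i 1 = β₀ then
        gco (MvPolynomial.basisMonomials B A) (G₀ γe).law α ⊗ₜ[A]
          (π (A := A) (B := B)) (MvPolynomial.basisMonomials B A i) else 0)) ∈ ω.range := by
  set S := MvPolynomial (B →₀ ℕ) A with hS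
  set x : S ⊗[A] MvPolynomial B A :=
    el (MvPolynomial.basisMonomials B A) J (X : (B →₀ ℕ) → S) with hx
  have h := hω S ((π (A := A) (B := B)).toLinearMap.lTensor S x) 1
  rw [mul_one, ← G₀_apply, ← G₀_apply,
    law_el_eq (MvPolynomial.basisMonomials B A) (G₀ γe).law (G₀ γe).homog] at h
  have h1 : (Algebra.TensorProduct.includeRight : B →ₐ[A] Cd ⊗[A] B).toLinearMap.lTensor S 1 = 1 := by
    rw [PolLaw.lTensor_algHom_apply, map_one]
  rw [h1, mul_one] at h
  have h2 := congrArg (tcoeff β₀ (N := Ce ⊗[A] B)) h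
  unfold tcoeff at h2
  rw [ext_lTensor] at h2
  have h3 : (π (A := A) (B := B)).toLinearMap.lTensor S x =
      ∑ i ∈ J, (X i : S) ⊗ₜ[A] (π (A := A) (B := B)) (MvPolynomial.basisMonomials B A i) := by
    rw [hx]
    unfold el
    rw [map_sum]
    refine Finset.sum_congr rfl fun i _ => ?_
    rw [LinearMap.lTensor_tmul]
    rfl
  rw [h3] at h2
  simp only [map_sum, LinearMap.lTensor_tmul, AlgHom.toLinearMap_apply,
    Algebra.TensorProduct.includeLeft_apply, Algebra.TensorProduct.includeRight_apply,
    Finset.sum_mul_sum, Algebra.TensorProduct.tmul_mul_tmul, one_mul, mul_one, ext_tmul,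
    lcoeff_apply] at h2
  refine ⟨_, h2.trans ?_⟩
  refine Finset.sum_congr rfl fun α _ => Finset.sum_congr rfl fun i _ => ?_
  rw [mon_X, X, monomial_mul, mul_one, coeff_monomial]
  split_ifs <;> simp

include hω in
theorem gco_tmul_one_mem : ∀ (n : ℕ) (α₀ : (B →₀ ℕ) →₀ ℕ), α₀.degree = e → e - α₀ 0 = n →
    gco (MvPolynomial.basisMonomials B A) (G₀ γe).law α₀ ⊗ₜ[A] (1 : B) ∈ ω.range := by
  intro n
  induction n using Nat.strong_induction_on with
  | _ n ih =>
    intro α₀ hdeg hn
    set J : Finset (B →₀ ℕ) := insert 0 α₀.support with hJ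
    have h0J : (0 : B →₀ ℕ) ∈ J := Finset.mem_insert_self _ _
    have hα₀ : α₀ ∈ Finset.finsuppAntidiag J e :=
      (mem_finsuppAntidiag_iff J e α₀).mpr ⟨hdeg, Finset.subset_insert _ _⟩
    have hk := key e γd γe ω hω J (α₀ + Finsupp.single 0 1)
    rw [Finset.sum_comm, ← Finset.add_sum_erase J _ h0J] at hk
    have hfirst : (∑ α ∈ Finset.finsuppAntidiag J e,
        (if α + Finsupp.single 0 1 = α₀ + Finsupp.single 0 1 then
          gco (MvPolynomial.basisMonomials B A) (G₀ γe).law α ⊗ₜ[A]
            (π (A := A) (B := B)) (MvPolynomial.basisMonomials B A 0) else 0)) =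
        gco (MvPolynomial.basisMonomials B A) (G₀ γe).law α₀ ⊗ₜ[A] (1 : B) := by
      simp only [add_left_inj]
      rw [Finset.sum_ite_eq' _ α₀, if_pos hα₀]
      congr 1
      simp [MvPolynomial.coe_basisMonomials]
    rw [hfirst] at hk
    have hrest : (∑ i ∈ J.erase 0, ∑ α ∈ Finset.finsuppAntidiag J e,
        (if α + Finsupp.single i 1 = α₀ + Finsupp.single 0 1 then
          gco (MvPolynomial.basisMonomials B A) (G₀ γe).law α ⊗ₜ[A]
            (π (A := A) (B := B)) (MvPolynomial.basisMonomials B A i) else 0)) ∈ ω.range := by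
      refine Subalgebra.sum_mem _ fun i hi => Subalgebra.sum_mem _ fun α hα => ?_
      split_ifs with hif
      · have hi0 : i ≠ 0 := (Finset.mem_erase.mp hi).1
        have hα0 : α 0 = α₀ 0 + 1 := by
          have := congrArg (fun f : (B →₀ ℕ) →₀ ℕ => f 0) hif
          simp only [Finsupp.add_apply, Finsupp.single_apply, if_neg hi0, if_pos rfl,
            add_zero] at this
          exact this
        have hdegα : α.degree = e := ((mem_finsuppAntidiag_iff J e α).mp hα).1
        have hle : α 0 ≤ e := by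
          rw [← hdegα]
          exact Finsupp.le_degree 0 α
        have h1 := ih (e - α 0) (by omega) α hdegα rfl
        have h2 := one_tmul_mem e γd γe ω hω
          ((π (A := A) (B := B)) (MvPolynomial.basisMonomials B A i))
        have h3 := Subalgebra.mul_mem _ h1 h2
        rw [Algebra.TensorProduct.tmul_mul_tmul, mul_one, one_mul] at h3
        exact h3
      · exact Subalgebra.zero_mem _
    have := Subalgebra.sub_mem _ hk hrest
    rw [add_sub_cancel_right] at this
    exact this

include hω in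
/-- **Iversen's homomorphism is surjective** -/
theorem surjective (hγe : PolLaw.IsGammaD γe) : Function.Surjective ω := by
  have hC : ∀ c : Ce, c ⊗ₜ[A] (1 : B) ∈ ω.range := by
    intro c
    have hc : c ∈ Cm (MvPolynomial.basisMonomials B A) (G₀ γe) := by
      rw [Cm_eq_top γe hγe]
      trivial
    unfold Cm at hc
    induction hc using Submodule.span_induction with
    | mem x hx =>
      obtain ⟨α, rfl⟩ := hx
      by_cases hdeg : α.degree = e
      · exact gco_tmul_one_mem e γd γe ω hω _ α hdeg rfl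
      · rw [gco_eq_zero_of_degree_ne _ _ (G₀ γe).homog α hdeg, TensorProduct.zero_tmul]
        exact Subalgebra.zero_mem _
    | zero =>
      rw [TensorProduct.zero_tmul]
      exact Subalgebra.zero_mem _
    | add x y _ _ hx hy =>
      rw [TensorProduct.add_tmul]
      exact Subalgebra.add_mem _ hx hy
    | smul a x _ hx =>
      rw [← TensorProduct.smul_tmul']
      exact Subalgebra.smul_mem _ hx a
  rw [← AlgHom.range_eq_top, eq_top_iff]
  intro z _
  induction z using TensorProduct.induction_on with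
  | zero => exact Subalgebra.zero_mem _
  | tmul c b =>
    have h := Subalgebra.mul_mem _ (hC c) (one_tmul_mem e γd γe ω hω b)
    rw [Algebra.TensorProduct.tmul_mul_tmul, mul_one, one_mul] at h
    exact h
  | add x y hx hy => exact Subalgebra.add_mem _ (hx trivial) (hy trivial)

end Groth.Agent.Lib.Helper15.Iversen
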