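import Mathlib
import Groth.Agent.Lib.Helper15.PolyLine
import Groth.Agent.Lib.Helper15.GammaFinite

/-!
# The kernel of a multiplicative law commutes with localization, `B` finite (helper15)
-/

set_option autoImplicit false
universe u
open scoped TensorProduct
open Polynomial

namespace Groth.Agent.Lib.Helper15.KerBCLoc

open Groth.Agent.Lib.Helper15.PolLawPoly Groth.Agent.Lib.Helper15.LawReduced
  Groth.Agent.Lib.Helper15.PolyLine

variable {A : Type u} [CommRing A] {B : Type u} [CommRing B] [Algebra A B]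
  (M : Submonoid A) (A' : Type u) [CommRing A'] [Algebra A A'] [IsLocalization M A']

section torsion

variable (Q : Type u) [CommRing Q] [Algebra A Q]

variable (A) in
/-- the canonical map `Q → A' ⊗ Q` -/
noncomputable abbrev jj : Q →ₐ[A] A' ⊗[A] Q := Algebra.TensorProduct.includeRight

theorem rid_map (z : Q ⊗[A] A) :
    Algebra.TensorProduct.rid A A (A' ⊗[A] Q)
      (Algebra.TensorProduct.map (jj A A' Q) (AlgHom.id A A) z) =
      jj A A' Q (Algebra.TensorProduct.rid A A Q z) := by
  induction z using TensorProduct.induction_on with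
  | zero => simp
  | tmul q a =>
    rw [Algebra.TensorProduct.map_tmul, Algebra.TensorProduct.rid_tmul,
      Algebra.TensorProduct.rid_tmul, AlgHom.id_apply, map_smul]
  | add x y hx hy => rw [map_add, map_add, map_add, map_add, hx, hy]

include M in
theorem exists_smul_eq (z z' : Q ⊗[A] A)
    (h : Algebra.TensorProduct.map (jj A A' Q) (AlgHom.id A A) z =
      Algebra.TensorProduct.map (jj A A' Q) (AlgHom.id A A) z') :
    ∃ m : M, (m : A) • z = (m : A) • z' := by
  have h1 := congrArg (Algebra.TensorProduct.rid A A (A' ⊗[A] Q)) h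
  rw [rid_map, rid_map] at h1
  have h2 : TensorProduct.mk A A' Q 1 (Algebra.TensorProduct.rid A A Q z) =
      TensorProduct.mk A A' Q 1 (Algebra.TensorProduct.rid A A Q z') := h1
  rw [IsLocalizedModule.eq_iff_exists M] at h2
  obtain ⟨c, hc⟩ := h2
  refine ⟨c, ?_⟩
  apply (Algebra.TensorProduct.rid A A Q).injective
  rw [map_smul, map_smul]
  exact hc

end torsion

section main

variable {d : ℕ} (F : PolLaw.MulLaw A B A d)

/-- membership of `1 ⊗ b` in `kerBC`, tested on `A' ⊗ Q` -/
theorem kerBC_test (b : B) (hb : (1 : A') ⊗ₜ[A] b ∈ PolLaw.kerBC F.law A')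
    (Q : Type u) [CommRing Q] [Algebra A Q] (x w : Q ⊗[A] B) :
    Algebra.TensorProduct.map (jj A A' Q) (AlgHom.id A A)
        (F.law.toFun' Q (x + w * ((1 : Q) ⊗ₜ[A] b))) =
      Algebra.TensorProduct.map (jj A A' Q) (AlgHom.id A A) (F.law.toFun' Q x) := by
  rw [compat, compat, map_add, map_mul, Algebra.TensorProduct.map_tmul, map_one, AlgHom.id_apply]
  have h := hb (A' ⊗[A] Q) (Algebra.TensorProduct.map (jj A A' Q) (AlgHom.id A B) x)
    (Algebra.TensorProduct.map (jj A A' Q) (AlgHom.id A B) w)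
  rw [Algebra.TensorProduct.map_tmul, map_one, AlgHom.id_apply] at h
  exact h

include M in
/-- for each `P`, `x`, `w` there is `m ∈ M` with `F (x + w (1 ⊗ m b)) = F x` -/
theorem exists_smul (b : B) (hb : (1 : A') ⊗ₜ[A] b ∈ PolLaw.kerBC F.law A')
    (P : Type u) [CommRing P] [Algebra A P] (x w : P ⊗[A] B) :
    ∃ m : M, F.law.toFun' P (x + w * ((1 : P) ⊗ₜ[A] ((m : A) • b))) = F.law.toFun' P x := by
  set y : P ⊗[A] B := w * ((1 : P) ⊗ₜ[A] b) with hy
  have h1 := kerBC_test A' F b hb P[X]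
    (Algebra.TensorProduct.map (ι (A := A) (P := P)) (AlgHom.id A B) x)
    (((X : P[X]) ⊗ₜ[A] (1 : B)) *
      Algebra.TensorProduct.map (ι (A := A) (P := P)) (AlgHom.id A B) w)
  have h2 : Algebra.TensorProduct.map (ι (A := A) (P := P)) (AlgHom.id A B) x +
      ((X : P[X]) ⊗ₜ[A] (1 : B)) *
        Algebra.TensorProduct.map (ι (A := A) (P := P)) (AlgHom.id A B) w *
        ((1 : P[X]) ⊗ₜ[A] b) = line x y := by
    unfold line
    rw [hy, map_mul, Algebra.TensorProduct.map_tmul, map_one, AlgHom.id_apply, mul_assoc]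
  rw [h2] at h1
  obtain ⟨m, hm⟩ := exists_smul_eq M A' P[X] _ _ h1
  refine ⟨m, ?_⟩
  have h3 := congrArg (polyT P A) hm
  rw [map_smul, map_smul, polyT_const] at h3
  have h4 : w * ((1 : P) ⊗ₜ[A] ((m : A) • b)) = (m : A) • y := by
    rw [hy, TensorProduct.tmul_smul, mul_smul_comm]
  rw [h4]
  apply eq_of_G_const F x ((m : A) • y)
  intro k hk
  have h5 : G F x ((m : A) • y) =
      (G F x y).comp (Polynomial.C (algebraMap A (P ⊗[A] A) (m : A)) * X) := by
    have h6 := G_comp F (Polynomial.C (algebraMap A P (m : A)) * X) x y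
    have h7 : (Polynomial.C (algebraMap A P (m : A)) * X : P[X]).map
        (Algebra.TensorProduct.includeLeft : P →ₐ[A] P ⊗[A] A).toRingHom =
        Polynomial.C (algebraMap A (P ⊗[A] A) (m : A)) * X := by
      rw [Polynomial.map_mul, Polynomial.map_C, Polynomial.map_X]
      congr 2
    rw [h7] at h6
    rw [h6]
    unfold G line
    congr 3
    rw [map_smul, mul_smul_comm, ← smul_mul_assoc, TensorProduct.smul_tmul', Algebra.smul_def,
      Polynomial.algebraMap_apply]
  rw [h5, Polynomial.comp_C_mul_X_coeff]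
  have h8 := congrArg (fun p : (P ⊗[A] A)[X] => p.coeff k) h3
  beta_reduce at h8
  rw [Polynomial.coeff_smul, Polynomial.coeff_smul, Polynomial.coeff_C, if_neg (by omega),
    smul_zero, Algebra.smul_def] at h8
  obtain ⟨k', rfl⟩ : ∃ k', k = k' + 1 := ⟨k - 1, by omega⟩
  unfold G
  rw [pow_succ, ← mul_assoc, mul_right_comm,
    mul_comm ((polyT P A (F.law.toFun' P[X] (line x y))).coeff (k' + 1)), h8, zero_mul]

end main

section final

variable {d : ℕ} (F : PolLaw.MulLaw A B A d) {n : ℕ} (bb : Fin n → B)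
  (hbb : Submodule.span A (Set.range bb) = ⊤)

local notation "PP" => MvPolynomial (Fin n ⊕ Fin n) A

/-- generic elements -/
noncomputable def xg : PP ⊗[A] B := ∑ i, (MvPolynomial.X (Sum.inl i) : PP) ⊗ₜ[A] bb i

noncomputable def wg : PP ⊗[A] B := ∑ i, (MvPolynomial.X (Sum.inr i) : PP) ⊗ₜ[A] bb i

include hbb in
theorem mem_ker_of_generic (c : B)
    (h : F.law.toFun' PP (xg bb + wg bb * ((1 : PP) ⊗ₜ[A] c)) = F.law.toFun' PP (xg bb)) :
    c ∈ PolLaw.ker F.law := by
  intro S _ _ x w
  obtain ⟨s, rfl⟩ := GammaFinite.exists_coords bb hbb S x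
  obtain ⟨t, rfl⟩ := GammaFinite.exists_coords bb hbb S w
  have h1 := congrArg (Algebra.TensorProduct.map
    (MvPolynomial.aeval (Sum.elim s t) : PP →ₐ[A] S) (AlgHom.id A A)) h
  rw [compat, compat, map_add, map_mul] at h1
  have hx : Algebra.TensorProduct.map
      (MvPolynomial.aeval (Sum.elim s t) : PP →ₐ[A] S) (AlgHom.id A B) (xg bb) =
      ∑ i, s i ⊗ₜ[A] bb i := by
    unfold xg
    rw [map_sum]
    refine Finset.sum_congr rfl fun i _ => ?_
    rw [Algebra.TensorProduct.map_tmul, MvPolynomial.aeval_X, Sum.elim_inl, AlgHom.id_apply]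
  have hw : Algebra.TensorProduct.map
      (MvPolynomial.aeval (Sum.elim s t) : PP →ₐ[A] S) (AlgHom.id A B) (wg bb) =
      ∑ i, t i ⊗ₜ[A] bb i := by
    unfold wg
    rw [map_sum]
    refine Finset.sum_congr rfl fun i _ => ?_
    rw [Algebra.TensorProduct.map_tmul, MvPolynomial.aeval_X, Sum.elim_inr, AlgHom.id_apply]
  rw [hx, hw, Algebra.TensorProduct.map_tmul, map_one, AlgHom.id_apply] at h1
  exact h1

include M in
theorem main [Module.Finite A B] :
    (PolLaw.ker F.law).map (Algebra.TensorProduct.includeRight : B →ₐ[A] A' ⊗[A] B) =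
      PolLaw.kerBC F.law A' := by
  apply le_antisymm
  · rw [Ideal.map_le_iff_le_comap]
    intro b hb
    rw [Ideal.mem_comap]
    intro R _ _ _ _ x w
    rw [Algebra.TensorProduct.includeRight_apply, Algebra.TensorProduct.map_tmul, map_one,
      AlgHom.id_apply]
    exact hb R x w
  · intro b' hb'
    obtain ⟨n, bb, hbb⟩ := Module.Finite.exists_fin (R := A) (M := B)
    obtain ⟨⟨b, m⟩, hm⟩ := IsLocalizedModule.surj M (TensorProduct.mk A A' B 1) b'
    have hm2 : (m : A) • b' = (1 : A') ⊗ₜ[A] b := hm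
    have h1 : (1 : A') ⊗ₜ[A] b ∈ PolLaw.kerBC F.law A' := by
      rw [← hm2]
      exact Submodule.smul_of_tower_mem _ _ hb'
    obtain ⟨m', hm'⟩ := exists_smul M A' F b h1 (MvPolynomial (Fin n ⊕ Fin n) A) (xg bb) (wg bb)
    have h2 := mem_ker_of_generic F bb hbb _ hm'
    have hu : IsUnit (algebraMap A (A' ⊗[A] B) ((m' : A) * (m : A))) := by
      rw [IsScalarTower.algebraMap_apply A A' (A' ⊗[A] B)]
      exact (IsLocalization.map_units A' (m' * m)).map _
    rw [← Ideal.unit_mul_mem_iff_mem _ hu]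
    have h3 : algebraMap A (A' ⊗[A] B) ((m' : A) * (m : A)) * b' =
        (Algebra.TensorProduct.includeRight : B →ₐ[A] A' ⊗[A] B) ((m' : A) • b) := by
      rw [← Algebra.smul_def, mul_smul, hm2, Algebra.TensorProduct.includeRight_apply,
        TensorProduct.tmul_smul]
    rw [h3]
    exact Ideal.mem_map_of_mem _ h2

end final

end Groth.Agent.Lib.Helper15.KerBCLoc
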