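import Mathlib
import Groth.Agent.Lib.Helper15.KerBCLoc
import Groth.Agent.Lib.Helper15.LawCH2

/-!
# The kernel of a law is the contraction of the kernel of an injective base change (helper15)
-/

set_option autoImplicit false
universe u
open scoped TensorProduct

namespace Groth.Agent.Lib.Helper15.KerBCInj

open Groth.Agent.Lib.Helper15.LawReduced

variable {A : Type u} [CommRing A] {B : Type u} [CommRing B] [Algebra A B]
  {d : ℕ} (F : PolLaw.MulLaw A B A d)

theorem mem_ker_of_mem_kerBC (A' : Type u) [CommRing A'] [Algebra A A']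
    (hinj : Function.Injective (algebraMap A A')) (b : B)
    (hb : (1 : A') ⊗ₜ[A] b ∈ PolLaw.kerBC F.law A') : b ∈ PolLaw.ker F.law := by
  apply LawCHKer.mem_ker_of_ring
  intro R _ _ x w
  let φ : MvPolynomial R A →ₐ[A] R := MvPolynomial.aeval id
  have hφ : Function.Surjective φ := fun r => ⟨MvPolynomial.X r, by simp [φ]⟩
  have hsurj : Function.Surjective (Algebra.TensorProduct.map φ (AlgHom.id A B)) :=
    Algebra.TensorProduct.map_surjective φ (AlgHom.id A B) hφ Function.surjective_id
  obtain ⟨x', rfl⟩ := hsurj x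
  obtain ⟨w', rfl⟩ := hsurj w
  have h1 : F.law.toFun' (MvPolynomial R A) (x' + w' * ((1 : MvPolynomial R A) ⊗ₜ[A] b)) =
      F.law.toFun' (MvPolynomial R A) x' := by
    have h2 := KerBCLoc.kerBC_test A' F b hb (MvPolynomial R A) x' w'
    have h3 := congrArg (Algebra.TensorProduct.rid A A (A' ⊗[A] MvPolynomial R A)) h2
    rw [KerBCLoc.rid_map, KerBCLoc.rid_map] at h3
    have h4 := Algebra.TensorProduct.includeRight_injective (R := A) (A := A')
      (B := MvPolynomial R A) hinj h3
    exact (Algebra.TensorProduct.rid A A (MvPolynomial R A)).injective h4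
  have h5 := congrArg (Algebra.TensorProduct.map φ (AlgHom.id A A)) h1
  rw [compat, compat, map_add, map_mul, Algebra.TensorProduct.map_tmul, map_one,
    AlgHom.id_apply] at h5
  exact h5

theorem comap_kerBC (A' : Type u) [CommRing A'] [Algebra A A']
    (hinj : Function.Injective (algebraMap A A')) :
    (PolLaw.kerBC F.law A').comap
      (Algebra.TensorProduct.includeRight : B →ₐ[A] A' ⊗[A] B) = PolLaw.ker F.law := by
  apply le_antisymm
  · intro b hb
    exact mem_ker_of_mem_kerBC F A' hinj b hb
  · rw [← Ideal.map_le_iff_le_comap]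
    exact LawCH2.map_ker_le_kerBC F A'

end Groth.Agent.Lib.Helper15.KerBCInj
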