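import Mathlib

/-!
# A ring extension splitting a monic polynomial (helper15)
-/

set_option autoImplicit false
universe u
open Polynomial

namespace Groth.Agent.Lib.Helper15.SplitRing

theorem of_injective_of_monic {A : Type u} [CommRing A] (g : A[X]) (hg : g.Monic)
    (hdeg : 0 < g.natDegree) : Function.Injective (AdjoinRoot.of g) := by
  rw [injective_iff_map_eq_zero]
  intro a ha
  nontriviality A
  have h1 : (AdjoinRoot.modByMonicHom hg (AdjoinRoot.of g a)).coeff 0 = a := by
    have h2 : AdjoinRoot.of g a = AdjoinRoot.mk g (C a) := rfl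
    rw [h2, AdjoinRoot.modByMonicHom_mk, (Polynomial.modByMonic_eq_self_iff hg).mpr,
      Polynomial.coeff_C_zero]
    rw [Polynomial.degree_eq_natDegree hg.ne_zero]
    exact lt_of_le_of_lt Polynomial.degree_C_le (by exact_mod_cast hdeg)
  rw [ha, map_zero, Polynomial.coeff_zero] at h1
  exact h1.symm

theorem exists_splitting : ∀ (n : ℕ) (A : Type u) [CommRing A] (g : A[X]), g.Monic →
    g.natDegree = n →
    ∃ (A'' : Type u) (_ : CommRing A'') (φ : A →+* A'') (t : Fin n → A''),
      Function.Injective φ ∧ g.map φ = ∏ j, (X - C (t j)) := by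
  intro n
  induction n with
  | zero =>
    intro A _ g hg hn
    have h1 : g = 1 := (Polynomial.Monic.natDegree_eq_zero hg).mp hn
    refine ⟨A, inferInstance, RingHom.id A, Fin.elim0, Function.injective_id, ?_⟩
    rw [h1, Polynomial.map_one, Finset.univ_eq_empty, Finset.prod_empty]
  | succ n ih =>
    intro A _ g hg hn
    have hinj0 : Function.Injective (AdjoinRoot.of g) := of_injective_of_monic g hg (by omega)
    haveI : Nontrivial A := by
      by_contra hnt
      rw [not_nontrivial_iff_subsingleton] at hnt
      have : g.natDegree = 0 := by rw [Subsingleton.elim g 0, Polynomial.natDegree_zero]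
      omega
    haveI : Nontrivial (AdjoinRoot g) := hinj0.nontrivial
    have hroot : (g.map (AdjoinRoot.of g)).IsRoot (AdjoinRoot.root g) := AdjoinRoot.isRoot_root g
    have hmul := (Polynomial.mul_divByMonic_eq_iff_isRoot).mpr hroot
    set g₁ := (g.map (AdjoinRoot.of g)) /ₘ (X - C (AdjoinRoot.root g)) with hg₁
    have hgm : (g.map (AdjoinRoot.of g)).Monic := hg.map _
    have hg₁m : g₁.Monic := by
      apply Polynomial.Monic.of_mul_monic_left (Polynomial.monic_X_sub_C (AdjoinRoot.root g))
      rw [hmul]
      exact hgm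
    have hg₁d : g₁.natDegree = n := by
      rw [hg₁, Polynomial.natDegree_divByMonic _ (Polynomial.monic_X_sub_C _),
        hg.natDegree_map, Polynomial.natDegree_X_sub_C, hn]
      rfl
    obtain ⟨A'', instA'', φ₁, t', hinj, hsplit⟩ := ih (AdjoinRoot g) g₁ hg₁m hg₁d
    refine ⟨A'', instA'', φ₁.comp (AdjoinRoot.of g), Fin.cons (φ₁ (AdjoinRoot.root g)) t',
      hinj.comp hinj0, ?_⟩
    rw [← Polynomial.map_map, ← hmul, Polynomial.map_mul, hsplit, Fin.prod_univ_succ,
      Polynomial.map_sub, Polynomial.map_X, Polynomial.map_C]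
    simp only [Fin.cons_zero, Fin.cons_succ]

end Groth.Agent.Lib.Helper15.SplitRing
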