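import Mathlib
import Groth.Agent.Lib.Helper15.KerBCInj
import Groth.Agent.Lib.Helper15.SplitRing

/-!
# The kernel of a multiplicative law commutes with monogenic étale base change (helper15)
-/

set_option autoImplicit false
universe u
open scoped TensorProduct
open Polynomial

namespace Groth.Agent.Lib.Helper15.KerBCEtale

open Groth.Agent.Lib.Helper15.LawReduced

section units

variable {R : Type u} [CommRing R] {n : ℕ} (t : Fin n → R)

theorem isUnit_sub_of_separable (hsep : (∏ j, (X - C (t j))).Separable) {i j : Fin n}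
    (hij : i ≠ j) : IsUnit (t i - t j) := by
  classical
  rw [← Finset.mul_prod_erase Finset.univ _ (Finset.mem_univ i),
    ← Finset.mul_prod_erase (Finset.univ.erase i) _
      (Finset.mem_erase.mpr ⟨hij.symm, Finset.mem_univ j⟩)] at hsep
  obtain ⟨u, v, huv⟩ := IsCoprime.of_mul_right_left hsep.isCoprime
  have h := congrArg (Polynomial.eval (t i)) huv
  simp only [Polynomial.eval_add, Polynomial.eval_mul, Polynomial.eval_sub, Polynomial.eval_X,
    Polynomial.eval_C, sub_self, mul_zero, zero_add, Polynomial.eval_one] at h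
  exact IsUnit.of_mul_eq_one _ (by rw [mul_comm]; exact h)

theorem isUnit_det_vandermonde (hsep : (∏ j, (X - C (t j))).Separable) :
    IsUnit (Matrix.vandermonde t).det := by
  rw [Matrix.det_vandermonde]
  apply IsUnit.prod_univ_iff.mpr
  intro i
  apply IsUnit.prod_iff.mpr
  intro j hj
  exact isUnit_sub_of_separable t hsep (Finset.mem_Ioi.mp hj).ne'

end units

variable {A : Type u} [CommRing A] {B : Type u} [CommRing B] [Algebra A B]
  {C : Type u} [CommRing C] [Algebra A C]

/-- functoriality of the kernel of the base change -/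
theorem kerBC_map (F : B →ₚₗ[A] C) {A' A'' : Type u} [CommRing A'] [Algebra A A'] [CommRing A'']
    [Algebra A A''] (φ : A' →ₐ[A] A'') (b' : A' ⊗[A] B) (hb' : b' ∈ PolLaw.kerBC F A') :
    Algebra.TensorProduct.map φ (AlgHom.id A B) b' ∈ PolLaw.kerBC F A'' := by
  intro R _ _ _ _ x w
  letI : Algebra A' R := ((algebraMap A'' R).comp (φ : A' →+* A'')).toAlgebra
  haveI : IsScalarTower A A' R := IsScalarTower.of_algebraMap_eq (fun a => by
    change algebraMap A R a = algebraMap A'' R (φ (algebraMap A A' a))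
    rw [φ.commutes, ← IsScalarTower.algebraMap_apply])
  have h := hb' R x w
  have h2 : (IsScalarTower.toAlgHom A A'' R).comp φ = IsScalarTower.toAlgHom A A' R := by
    apply AlgHom.ext
    intro a
    rfl
  rw [LawReduced.map_map, h2]
  exact h

section main

variable {d : ℕ} (F : PolLaw.MulLaw A B A d) (g : A[X]) (hg : g.Monic)

include hg in
/-- coordinates with respect to the power basis -/
theorem exists_repr (b' : AdjoinRoot g ⊗[A] B) :
    ∃ c : Fin g.natDegree → B,
      b' = ∑ i : Fin g.natDegree, ((AdjoinRoot.root g) ^ (i : ℕ)) ⊗ₜ[A] c i := by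
  have hbasis : ∀ i, AdjoinRoot.powerBasisAux' hg i = (AdjoinRoot.root g) ^ (i : ℕ) :=
    fun i => (AdjoinRoot.powerBasis' hg).basis_eq_pow i
  induction b' using TensorProduct.induction_on with
  | zero => exact ⟨0, by simp⟩
  | tmul a' b =>
    refine ⟨fun i => (AdjoinRoot.powerBasisAux' hg).repr a' i • b, ?_⟩
    conv_lhs => rw [← (AdjoinRoot.powerBasisAux' hg).sum_repr a']
    rw [TensorProduct.sum_tmul]
    refine Finset.sum_congr rfl fun i _ => ?_
    rw [TensorProduct.smul_tmul, hbasis]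
  | add x y hx hy =>
    obtain ⟨c, rfl⟩ := hx
    obtain ⟨c', rfl⟩ := hy
    refine ⟨c + c', ?_⟩
    rw [← Finset.sum_add_distrib]
    refine Finset.sum_congr rfl fun i _ => ?_
    rw [Pi.add_apply, TensorProduct.tmul_add]

include hg in
theorem main (hsep : g.Separable) :
    (PolLaw.ker F.law).map (Algebra.TensorProduct.includeRight : B →ₐ[A] AdjoinRoot g ⊗[A] B) =
      PolLaw.kerBC F.law (AdjoinRoot g) := by
  classical
  apply le_antisymm (LawCH2.map_ker_le_kerBC F _)
  intro b' hb'
  obtain ⟨c, hc⟩ := exists_repr g hg b'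
  obtain ⟨A'', instA'', φ, t, hφ, hsplit⟩ := SplitRing.exists_splitting g.natDegree A g hg rfl
  letI : Algebra A A'' := φ.toAlgebra
  have hφ' : Function.Injective (algebraMap A A'') := hφ
  have hroot : ∀ j, g.eval₂ (Algebra.ofId A A'' : A →+* A'') (t j) = 0 := by
    intro j
    rw [Polynomial.eval₂_eq_eval_map]
    change (g.map φ).eval (t j) = 0
    rw [hsplit, Polynomial.eval_prod]
    apply Finset.prod_eq_zero (Finset.mem_univ j)
    simp
  let ψ : Fin g.natDegree → (AdjoinRoot g →ₐ[A] A'') :=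
    fun j => AdjoinRoot.liftAlgHom g (Algebra.ofId A A'') (t j) (hroot j)
  have hψ : ∀ j, ψ j (AdjoinRoot.root g) = t j :=
    fun j => AdjoinRoot.liftAlgHom_root g (Algebra.ofId A A'') (t j) (hroot j)
  have hz : ∀ j, ∑ i : Fin g.natDegree, ((t j) ^ (i : ℕ)) ⊗ₜ[A] c i ∈ PolLaw.kerBC F.law A'' := by
    intro j
    have h1 := kerBC_map F.law (ψ j) b' hb'
    rw [hc, map_sum] at h1
    have h2 : ∀ i : Fin g.natDegree, Algebra.TensorProduct.map (ψ j) (AlgHom.id A B)
        (((AdjoinRoot.root g) ^ (i : ℕ)) ⊗ₜ[A] c i) = ((t j) ^ (i : ℕ)) ⊗ₜ[A] c i := by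
      intro i
      rw [Algebra.TensorProduct.map_tmul, map_pow, hψ, AlgHom.id_apply]
    rw [Finset.sum_congr rfl (fun i _ => h2 i)] at h1
    exact h1
  have hsep'' : (∏ j, (X - C (t j))).Separable := by
    rw [← hsplit]
    exact hsep.map
  have hdet := isUnit_det_vandermonde t hsep''
  have hWV : (Matrix.vandermonde t)⁻¹ * (Matrix.vandermonde t) = 1 :=
    Matrix.nonsing_inv_mul _ hdet
  have hk : ∀ k, (1 : A'') ⊗ₜ[A] c k ∈ PolLaw.kerBC F.law A'' := by
    intro k
    have h1 : ∑ j, (((Matrix.vandermonde t)⁻¹ k j) ⊗ₜ[A] (1 : B)) *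
        ∑ i : Fin g.natDegree, ((t j) ^ (i : ℕ)) ⊗ₜ[A] c i ∈ PolLaw.kerBC F.law A'' :=
      Ideal.sum_mem _ (fun j _ => Ideal.mul_mem_left _ _ (hz j))
    have h2 : ∑ j, (((Matrix.vandermonde t)⁻¹ k j) ⊗ₜ[A] (1 : B)) *
        ∑ i : Fin g.natDegree, ((t j) ^ (i : ℕ)) ⊗ₜ[A] c i = (1 : A'') ⊗ₜ[A] c k := by
      simp_rw [Finset.mul_sum, Algebra.TensorProduct.tmul_mul_tmul, one_mul]
      rw [Finset.sum_comm]
      simp_rw [← TensorProduct.sum_tmul]
      have h3 : ∀ i : Fin g.natDegree, ∑ j, (Matrix.vandermonde t)⁻¹ k j * t j ^ (i : ℕ) =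
          (1 : Matrix (Fin g.natDegree) (Fin g.natDegree) A'') k i := by
        intro i
        rw [← hWV, Matrix.mul_apply]
        rfl
      simp_rw [h3, Matrix.one_apply]
      rw [Finset.sum_eq_single k]
      · rw [if_pos rfl]
      · intro i _ hik
        rw [if_neg (Ne.symm hik), TensorProduct.zero_tmul]
      · intro h
        exact absurd (Finset.mem_univ k) h
    rw [h2] at h1
    exact h1
  have hck : ∀ k, c k ∈ PolLaw.ker F.law :=
    fun k => KerBCInj.mem_ker_of_mem_kerBC F A'' hφ' (c k) (hk k)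
  rw [hc]
  apply Ideal.sum_mem
  intro i _
  have h4 : ((AdjoinRoot.root g) ^ (i : ℕ)) ⊗ₜ[A] c i =
      (((AdjoinRoot.root g) ^ (i : ℕ)) ⊗ₜ[A] (1 : B)) *
        (Algebra.TensorProduct.includeRight : B →ₐ[A] AdjoinRoot g ⊗[A] B) (c i) := by
    rw [Algebra.TensorProduct.includeRight_apply, Algebra.TensorProduct.tmul_mul_tmul, mul_one,
      one_mul]
  rw [h4]
  exact Ideal.mul_mem_left _ _ (Ideal.mem_map_of_mem _ (hck i))

end main

end Groth.Agent.Lib.Helper15.KerBCEtale
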