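import Mathlib
import Groth.Agent.Lib.Helper15.LawDeriv
import Groth.Agent.Lib.Helper15.KerBCLoc

/-!
# The kernel of a multiplicative law commutes with flat base change in characteristic zero,
`B` finite (helper15)
-/

set_option autoImplicit false
universe u
open scoped TensorProduct
open Polynomial

namespace Groth.Agent.Lib.Helper15.KerBCFlat

open Groth.Agent.Lib.Helper15.PolLawPoly Groth.Agent.Lib.Helper15.LawReduced
  Groth.Agent.Lib.Helper15.PolyLine Groth.Agent.Lib.Helper15.LawDeriv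
  Groth.Agent.Lib.Helper15.KerBCLoc

variable {A : Type u} [CommRing A] {B : Type u} [CommRing B] [Algebra A B]
  {d : ℕ} (F : PolLaw.MulLaw A B A d) {n : ℕ} (bb : Fin n → B)
  (hbb : Submodule.span A (Set.range bb) = ⊤)

local notation "PP" => MvPolynomial (Fin n ⊕ Fin n) A

theorem smul_eq_tmul_mul {S : Type u} [CommRing S] [Algebra A S] {M : Type u} [CommRing M]
    [Algebra A M] (a : A) (z : S ⊗[A] M) : a • z = ((algebraMap A S a) ⊗ₜ[A] (1 : M)) * z := by
  rw [Algebra.smul_def, Algebra.TensorProduct.algebraMap_apply]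

theorem add_mul_assoc' {S : Type u} [CommRing S] (a b c e : S) :
    a + b * c * e = a + b * (c * e) := by rw [mul_assoc]

/-- the linear map cutting out the kernel -/
noncomputable def L : B →ₗ[A] PP ⊗[A] A where
  toFun b := D F (xg bb) (wg bb * ((1 : PP) ⊗ₜ[A] b))
  map_add' b b' := by rw [TensorProduct.tmul_add, mul_add, D_add]
  map_smul' a b := by
    have h1 : wg bb * ((1 : PP) ⊗ₜ[A] (a • b)) =
        ((algebraMap A PP a) ⊗ₜ[A] (1 : B)) * (wg bb * ((1 : PP) ⊗ₜ[A] b)) := by
      rw [TensorProduct.tmul_smul, mul_smul_comm, smul_eq_tmul_mul]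
    rw [h1, D_smul, RingHom.id_apply, smul_eq_tmul_mul]

theorem L_apply (b : B) : L F bb b = D F (xg bb) (wg bb * ((1 : PP) ⊗ₜ[A] b)) := rfl

include hbb in
/-- (i): the kernel of `L` lies in the kernel of `F` -/
theorem mem_ker_of_L_eq_zero (hchar : ∀ k : ℕ, 0 < k → IsUnit ((k : ℕ) : A)) (b : B)
    (hb : L F bb b = 0) : b ∈ PolLaw.ker F.law := by
  apply mem_ker_of_generic F bb hbb b
  apply eq_of_D_eq_zero F
  · intro k hk
    have : ((k : ℕ) : PP ⊗[A] A) = algebraMap A (PP ⊗[A] A) ((k : ℕ) : A) := by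
      rw [map_natCast]
    rw [this]
    exact (hchar k hk).map _
  · obtain ⟨y, hy⟩ : ∃ y : PP ⊗[A] B, y = wg bb * ((1 : PP) ⊗ₜ[A] b) := ⟨_, rfl⟩
    rw [← hy]
    obtain ⟨s, hs⟩ := GammaFinite.exists_coords bb hbb (Polynomial PP) (line (xg bb) y)
    let ψ : PP →ₐ[A] Polynomial PP :=
      MvPolynomial.aeval (Sum.elim s (fun j => Polynomial.C (MvPolynomial.X (Sum.inr j))))
    have hx : Algebra.TensorProduct.map ψ (AlgHom.id A B) (xg bb) = line (xg bb) y := by
      rw [hs]
      unfold xg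
      rw [map_sum]
      refine Finset.sum_congr rfl fun i _ => ?_
      rw [Algebra.TensorProduct.map_tmul, MvPolynomial.aeval_X, Sum.elim_inl, AlgHom.id_apply]
    have hw : Algebra.TensorProduct.map ψ (AlgHom.id A B) (wg bb) =
        Algebra.TensorProduct.map (ι (A := A) (P := PP)) (AlgHom.id A B) (wg bb) := by
      unfold wg
      rw [map_sum, map_sum]
      refine Finset.sum_congr rfl fun i _ => ?_
      rw [Algebra.TensorProduct.map_tmul, Algebra.TensorProduct.map_tmul, MvPolynomial.aeval_X,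
        Sum.elim_inr]
      rfl
    have hy' : Algebra.TensorProduct.map ψ (AlgHom.id A B) y =
        Algebra.TensorProduct.map (ι (A := A) (P := PP)) (AlgHom.id A B) y := by
      rw [hy, map_mul, map_mul, hw, Algebra.TensorProduct.map_tmul, Algebra.TensorProduct.map_tmul,
        map_one, map_one]
    rw [← hx, ← hy', ← D_map, hy, ← L_apply, hb, map_zero]

section bc

variable (A' : Type u) [CommRing A'] [Algebra A A']

local notation "RR" => A' ⊗[A] MvPolynomial (Fin n ⊕ Fin n) A

/-- `PP → A' ⊗ PP` -/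
noncomputable abbrev jP : PP →ₐ[A] RR := Algebra.TensorProduct.includeRight

/-- the image of `z : A' ⊗ B` in `RR ⊗ B` -/
noncomputable abbrev zR (z : A' ⊗[A] B) : RR ⊗[A] B :=
  Algebra.TensorProduct.map (IsScalarTower.toAlgHom A A' RR) (AlgHom.id A B) z

/-- the derivative over `A' ⊗ PP` in the direction of `z` -/
noncomputable def Lam (z : A' ⊗[A] B) : RR ⊗[A] A :=
  D F (Algebra.TensorProduct.map (jP A') (AlgHom.id A B) (xg bb))
    (Algebra.TensorProduct.map (jP A') (AlgHom.id A B) (wg bb) * zR A' z)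

/-- (ii-a) -/
theorem Lam_eq_zero (b' : A' ⊗[A] B) (hb' : b' ∈ PolLaw.kerBC F.law A') : Lam F bb A' b' = 0 := by
  unfold Lam D
  obtain ⟨x, hx⟩ : ∃ x : RR ⊗[A] B,
    x = Algebra.TensorProduct.map (jP A') (AlgHom.id A B) (xg bb) := ⟨_, rfl⟩
  obtain ⟨w, hw⟩ : ∃ w : RR ⊗[A] B,
    w = Algebra.TensorProduct.map (jP A') (AlgHom.id A B) (wg bb) := ⟨_, rfl⟩
  rw [← hx, ← hw]
  have h1 := hb' (Polynomial RR)
    (Algebra.TensorProduct.map (ι (A := A) (P := RR)) (AlgHom.id A B) x)
    (((X : Polynomial RR) ⊗ₜ[A] (1 : B)) *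
      Algebra.TensorProduct.map (ι (A := A) (P := RR)) (AlgHom.id A B) w)
  have h2 : Algebra.TensorProduct.map (IsScalarTower.toAlgHom A A' (Polynomial RR)) (AlgHom.id A B) b' =
      Algebra.TensorProduct.map (ι (A := A) (P := RR)) (AlgHom.id A B) (zR A' b') := by
    rw [LawReduced.map_map]
    congr 2
  have h3 : Algebra.TensorProduct.map (ι (A := A) (P := RR)) (AlgHom.id A B) x +
      ((X : Polynomial RR) ⊗ₜ[A] (1 : B)) *
        Algebra.TensorProduct.map (ι (A := A) (P := RR)) (AlgHom.id A B) w *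
        Algebra.TensorProduct.map (ι (A := A) (P := RR)) (AlgHom.id A B) (zR A' b') =
      line x (w * zR A' b') := by
    unfold line
    rw [map_mul]
    exact add_mul_assoc' _ _ _ _
  rw [h2, h3] at h1
  unfold G
  rw [h1, polyT_const, Polynomial.coeff_C, if_neg one_ne_zero]

/-- the reassociation `A' ⊗ (PP ⊗ A) ≃ (A' ⊗ PP) ⊗ A` -/
noncomputable abbrev Th : A' ⊗[A] (PP ⊗[A] A) →ₗ[A] RR ⊗[A] A :=
  (TensorProduct.assoc A A' PP A).symm.toLinearMap

theorem assoc_symm_tmul {Q : Type u} [CommRing Q] [Algebra A Q] {M : Type u} [CommRing M]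
    [Algebra A M] (a' : A') (l : Q ⊗[A] M) :
    (TensorProduct.assoc A A' Q M).symm (a' ⊗ₜ[A] l) = ((a' ⊗ₜ[A] (1 : Q)) ⊗ₜ[A] (1 : M)) *
      Algebra.TensorProduct.map
        (Algebra.TensorProduct.includeRight : Q →ₐ[A] A' ⊗[A] Q) (AlgHom.id A M) l := by
  induction l using TensorProduct.induction_on with
  | zero => rw [TensorProduct.tmul_zero, map_zero, map_zero, mul_zero]
  | tmul p a =>
    rw [Algebra.TensorProduct.map_tmul, AlgHom.id_apply, Algebra.TensorProduct.tmul_mul_tmul,
      one_mul, Algebra.TensorProduct.includeRight_apply, Algebra.TensorProduct.tmul_mul_tmul,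
      mul_one, one_mul]
    rfl
  | add x y hx hy => rw [TensorProduct.tmul_add, map_add, hx, hy, map_add, mul_add]

theorem Th_tmul (a' : A') (l : PP ⊗[A] A) :
    Th A' (a' ⊗ₜ[A] l) = ((a' ⊗ₜ[A] (1 : PP)) ⊗ₜ[A] (1 : A)) *
      Algebra.TensorProduct.map (jP A') (AlgHom.id A A) l :=
  assoc_symm_tmul A' a' l

/-- (ii-b) -/
theorem Th_lTensor (z : A' ⊗[A] B) : Th A' ((L F bb).lTensor A' z) = Lam F bb A' z := by
  induction z using TensorProduct.induction_on with
  | zero =>
    unfold Lam zR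
    rw [map_zero, map_zero, map_zero, mul_zero, D_zero]
  | tmul a' c =>
    rw [LinearMap.lTensor_tmul, Th_tmul, L_apply, D_map, map_mul, Algebra.TensorProduct.map_tmul,
      map_one, AlgHom.id_apply, ← D_smul]
    unfold Lam zR
    congr 1
    rw [Algebra.TensorProduct.map_tmul, AlgHom.id_apply, mul_left_comm,
      Algebra.TensorProduct.tmul_mul_tmul, mul_one, one_mul]
    rfl
  | add z z' hz hz' =>
    rw [map_add, map_add, hz, hz']
    unfold Lam zR
    rw [map_add, mul_add, D_add]

theorem lTensor_eq_zero (b' : A' ⊗[A] B) (hb' : b' ∈ PolLaw.kerBC F.law A') :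
    (L F bb).lTensor A' b' = 0 := by
  have h := Th_lTensor F bb A' b'
  rw [Lam_eq_zero F bb A' b' hb'] at h
  exact (TensorProduct.assoc A A' PP A).symm.injective (h.trans (map_zero _).symm)

end bc

include hbb in
theorem main (hchar : ∀ k : ℕ, 0 < k → IsUnit ((k : ℕ) : A))
    (A' : Type u) [CommRing A'] [Algebra A A'] [Module.Flat A A'] :
    (PolLaw.ker F.law).map (Algebra.TensorProduct.includeRight : B →ₐ[A] A' ⊗[A] B) =
      PolLaw.kerBC F.law A' := by
  apply le_antisymm
  · rw [Ideal.map_le_iff_le_comap]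
    intro b hb
    rw [Ideal.mem_comap]
    intro R _ _ _ _ x w
    rw [Algebra.TensorProduct.includeRight_apply, Algebra.TensorProduct.map_tmul, map_one,
      AlgHom.id_apply]
    exact hb R x w
  · intro b' hb'
    have h1 := lTensor_eq_zero F bb A' b' hb'
    have hex : Function.Exact ((LinearMap.ker (L F bb)).subtype.lTensor A')
        ((L F bb).lTensor A') :=
      Module.Flat.lTensor_exact A' (LinearMap.exact_subtype_ker_map (L F bb))
    obtain ⟨κ, rfl⟩ := (hex b').mp h1
    clear h1 hb'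
    induction κ using TensorProduct.induction_on with
    | zero => rw [map_zero]; exact Ideal.zero_mem _
    | tmul a' k =>
      rw [LinearMap.lTensor_tmul]
      have hk : (k : B) ∈ PolLaw.ker F.law :=
        mem_ker_of_L_eq_zero F bb hbb hchar k k.2
      have : a' ⊗ₜ[A] ((LinearMap.ker (L F bb)).subtype k) =
          (a' ⊗ₜ[A] (1 : B)) *
            (Algebra.TensorProduct.includeRight : B →ₐ[A] A' ⊗[A] B) (k : B) := by
        rw [Algebra.TensorProduct.includeRight_apply, Algebra.TensorProduct.tmul_mul_tmul, mul_one,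
          one_mul]
        rfl
      rw [this]
      exact Ideal.mul_mem_left _ _ (Ideal.mem_map_of_mem _ hk)
    | add κ κ' h h' =>
      rw [map_add]
      exact Ideal.add_mem _ h h'

end Groth.Agent.Lib.Helper15.KerBCFlat
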