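import Mathlib
import Groth.Agent.Lib.Helper15.LawReduced
import Groth.Agent.Lib.Helper15.GammaFinite

/-!
# The kernel of a multiplicative law commutes with filtered direct limits, `B` finite (helper15)
-/

set_option autoImplicit false
universe u
open scoped TensorProduct

namespace Groth.Agent.Lib.Helper15.KerBCLim

open Groth.Agent.Lib.Helper15.LawReduced

variable {A : Type u} [CommRing A] {B : Type u} [CommRing B] [Algebra A B]

theorem rid_map {Q Q' : Type u} [CommRing Q] [Algebra A Q] [CommRing Q'] [Algebra A Q']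
    (g : Q →ₐ[A] Q') (z : Q ⊗[A] A) :
    Algebra.TensorProduct.rid A A Q' (Algebra.TensorProduct.map g (AlgHom.id A A) z) =
      g (Algebra.TensorProduct.rid A A Q z) := by
  induction z using TensorProduct.induction_on with
  | zero => simp
  | tmul q a =>
    rw [Algebra.TensorProduct.map_tmul, Algebra.TensorProduct.rid_tmul,
      Algebra.TensorProduct.rid_tmul, AlgHom.id_apply, map_smul]
  | add x y hx hy => rw [map_add, map_add, map_add, map_add, hx, hy]

section generic

variable {d : ℕ} (F : PolLaw.MulLaw A B A d) {n : ℕ} (bb : Fin n → B)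
  (hbb : Submodule.span A (Set.range bb) = ⊤)

variable (A'' : Type u) [CommRing A''] [Algebra A A'']

variable (A n) in
/-- constants -/
noncomputable def cc : A'' →ₐ[A] MvPolynomial (Fin n ⊕ Fin n) A'' :=
  IsScalarTower.toAlgHom A A'' (MvPolynomial (Fin n ⊕ Fin n) A'')

noncomputable def xg : MvPolynomial (Fin n ⊕ Fin n) A'' ⊗[A] B :=
  ∑ i, (MvPolynomial.X (Sum.inl i) : MvPolynomial (Fin n ⊕ Fin n) A'') ⊗ₜ[A] bb i

noncomputable def wg : MvPolynomial (Fin n ⊕ Fin n) A'' ⊗[A] B :=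
  ∑ i, (MvPolynomial.X (Sum.inr i) : MvPolynomial (Fin n ⊕ Fin n) A'') ⊗ₜ[A] bb i

noncomputable def lhs (b'' : A'' ⊗[A] B) : MvPolynomial (Fin n ⊕ Fin n) A'' ⊗[A] A :=
  F.law.toFun' _ (xg bb A'' + wg bb A'' *
    Algebra.TensorProduct.map (cc A n A'') (AlgHom.id A B) b'')

noncomputable def rhs : MvPolynomial (Fin n ⊕ Fin n) A'' ⊗[A] A :=
  F.law.toFun' _ (xg bb A'')

variable {A''} {A''' : Type u} [CommRing A'''] [Algebra A A'''] (f : A'' →ₐ[A] A''')

variable (n) in
noncomputable abbrev mm : MvPolynomial (Fin n ⊕ Fin n) A'' →ₐ[A] MvPolynomial (Fin n ⊕ Fin n) A''' :=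
  MvPolynomial.mapAlgHom f

theorem mm_xg : Algebra.TensorProduct.map (mm n f) (AlgHom.id A B) (xg bb A'') = xg bb A''' := by
  unfold xg
  rw [map_sum]
  refine Finset.sum_congr rfl fun i _ => ?_
  rw [Algebra.TensorProduct.map_tmul, AlgHom.id_apply]
  congr 1
  simp [mm]

theorem mm_wg : Algebra.TensorProduct.map (mm n f) (AlgHom.id A B) (wg bb A'') = wg bb A''' := by
  unfold wg
  rw [map_sum]
  refine Finset.sum_congr rfl fun i _ => ?_
  rw [Algebra.TensorProduct.map_tmul, AlgHom.id_apply]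
  congr 1
  simp [mm]

theorem mm_comp_cc : (mm n f).comp (cc A n A'') = (cc A n A''').comp f := by
  apply AlgHom.ext
  intro a
  simp [mm, cc, MvPolynomial.algebraMap_eq]

theorem mm_lhs (b'' : A'' ⊗[A] B) :
    Algebra.TensorProduct.map (mm n f) (AlgHom.id A A) (lhs F bb A'' b'') =
      lhs F bb A''' (Algebra.TensorProduct.map f (AlgHom.id A B) b'') := by
  unfold lhs
  rw [compat, map_add, map_mul, mm_xg, mm_wg, LawReduced.map_map, LawReduced.map_map, mm_comp_cc]

theorem mm_rhs :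
    Algebra.TensorProduct.map (mm n f) (AlgHom.id A A) (rhs F bb A'') = rhs F bb A''' := by
  unfold rhs
  rw [compat, mm_xg]

theorem lhs_eq_rhs_of_mem (b'' : A'' ⊗[A] B) (h : b'' ∈ PolLaw.kerBC F.law A'') :
    lhs F bb A'' b'' = rhs F bb A'' := by
  unfold lhs rhs
  exact h (MvPolynomial (Fin n ⊕ Fin n) A'') (xg bb A'') (wg bb A'')

include hbb in
theorem mem_of_lhs_eq_rhs (b'' : A'' ⊗[A] B) (h : lhs F bb A'' b'' = rhs F bb A'') :
    b'' ∈ PolLaw.kerBC F.law A'' := by
  intro R _ _ _ _ x w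
  obtain ⟨s, rfl⟩ := GammaFinite.exists_coords bb hbb R x
  obtain ⟨t, rfl⟩ := GammaFinite.exists_coords bb hbb R w
  let ψ : MvPolynomial (Fin n ⊕ Fin n) A'' →ₐ[A] R :=
    (MvPolynomial.aeval (Sum.elim s t) : MvPolynomial (Fin n ⊕ Fin n) A'' →ₐ[A''] R).restrictScalars A
  have h1 := congrArg (Algebra.TensorProduct.map ψ (AlgHom.id A A)) h
  unfold lhs rhs at h1
  rw [compat, compat, map_add, map_mul, LawReduced.map_map] at h1
  have hx : Algebra.TensorProduct.map ψ (AlgHom.id A B) (xg bb A'') = ∑ i, s i ⊗ₜ[A] bb i := by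
    unfold xg
    rw [map_sum]
    refine Finset.sum_congr rfl fun i _ => ?_
    rw [Algebra.TensorProduct.map_tmul, AlgHom.id_apply]
    congr 1
    simp [ψ]
  have hw : Algebra.TensorProduct.map ψ (AlgHom.id A B) (wg bb A'') = ∑ i, t i ⊗ₜ[A] bb i := by
    unfold wg
    rw [map_sum]
    refine Finset.sum_congr rfl fun i _ => ?_
    rw [Algebra.TensorProduct.map_tmul, AlgHom.id_apply]
    congr 1
    simp [ψ]
  have hc : ψ.comp (cc A n A'') = IsScalarTower.toAlgHom A A'' R := by
    apply AlgHom.ext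
    intro a
    simp [ψ, cc, MvPolynomial.algebraMap_eq]
  rw [hx, hw, hc] at h1
  exact h1

end generic

section limit

variable {A' : Type u} [CommRing A'] [Algebra A A'] {ι : Type u} [Preorder ι]
  [IsDirected ι (fun i j => i ≤ j)] [Nonempty ι]
  (Ai : ι → Type u) [∀ i, CommRing (Ai i)] [∀ i, Algebra A (Ai i)]
  (t : ∀ i j : ι, i ≤ j → (Ai i →ₐ[A] Ai j)) (φ : ∀ i : ι, Ai i →ₐ[A] A')
  (hcomp : ∀ (i j : ι) (h : i ≤ j), (φ j).comp (t i j h) = φ i)
  (hsurj : ∀ a : A', ∃ (i : ι) (x : Ai i), φ i x = a)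
  (hzero : ∀ (i : ι) (x : Ai i), φ i x = 0 → ∃ (j : ι) (h : i ≤ j), t i j h x = 0)
  (htrans : ∀ (i j k : ι) (hij : i ≤ j) (hjk : j ≤ k),
    (t j k hjk).comp (t i j hij) = t i k (hij.trans hjk))

include hcomp hsurj in
theorem exists_stage (z : A' ⊗[A] B) :
    ∃ (i : ι) (zi : Ai i ⊗[A] B), Algebra.TensorProduct.map (φ i) (AlgHom.id A B) zi = z := by
  induction z using TensorProduct.induction_on with
  | zero => exact ⟨Classical.arbitrary ι, 0, map_zero _⟩
  | tmul a b =>
    obtain ⟨i, x, rfl⟩ := hsurj a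
    exact ⟨i, x ⊗ₜ b, by rw [Algebra.TensorProduct.map_tmul, AlgHom.id_apply]⟩
  | add z₁ z₂ h₁ h₂ =>
    obtain ⟨i₁, y₁, rfl⟩ := h₁
    obtain ⟨i₂, y₂, rfl⟩ := h₂
    obtain ⟨k, hk₁, hk₂⟩ := exists_ge_ge i₁ i₂
    refine ⟨k, Algebra.TensorProduct.map (t i₁ k hk₁) (AlgHom.id A B) y₁ +
      Algebra.TensorProduct.map (t i₂ k hk₂) (AlgHom.id A B) y₂, ?_⟩
    rw [map_add, LawReduced.map_map, LawReduced.map_map, hcomp, hcomp]

include hzero htrans in
theorem exists_map_eq_zero {σ : Type} (i : ι) (p : MvPolynomial σ (Ai i))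
    (hp : MvPolynomial.map (φ i).toRingHom p = 0) :
    ∃ (j : ι) (h : i ≤ j), MvPolynomial.map (t i j h).toRingHom p = 0 := by
  have h1 : ∀ m : σ →₀ ℕ, ∃ (j : ι) (h : i ≤ j), t i j h (p.coeff m) = 0 := by
    intro m
    apply hzero
    have := congrArg (MvPolynomial.coeff m) hp
    rwa [MvPolynomial.coeff_map, MvPolynomial.coeff_zero] at this
  choose jm hjm hjm0 using h1
  classical
  obtain ⟨k, hk⟩ := Finset.exists_le (insert i (p.support.image jm))
  have hik : i ≤ k := hk i (Finset.mem_insert_self _ _)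
  refine ⟨k, hik, ?_⟩
  apply MvPolynomial.ext
  intro m
  rw [MvPolynomial.coeff_map, MvPolynomial.coeff_zero]
  by_cases hm : m ∈ p.support
  · have hmk : jm m ≤ k := hk _ (Finset.mem_insert_of_mem (Finset.mem_image_of_mem _ hm))
    have := htrans i (jm m) k (hjm m) hmk
    show t i k hik (p.coeff m) = 0
    rw [← this, AlgHom.comp_apply, hjm0, map_zero]
  · rw [MvPolynomial.notMem_support_iff] at hm
    show t i k hik (p.coeff m) = 0
    rw [hm, map_zero]

include hzero htrans in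
theorem exists_map_eq {n : ℕ} (i : ι) (z z' : MvPolynomial (Fin n ⊕ Fin n) (Ai i) ⊗[A] A)
    (h : Algebra.TensorProduct.map (mm n (φ i)) (AlgHom.id A A) z =
      Algebra.TensorProduct.map (mm n (φ i)) (AlgHom.id A A) z') :
    ∃ (j : ι) (hij : i ≤ j), Algebra.TensorProduct.map (mm n (t i j hij)) (AlgHom.id A A) z =
      Algebra.TensorProduct.map (mm n (t i j hij)) (AlgHom.id A A) z' := by
  have h1 := congrArg (Algebra.TensorProduct.rid A A _) h
  rw [rid_map, rid_map, ← sub_eq_zero, ← map_sub] at h1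
  obtain ⟨j, hij, hj⟩ := exists_map_eq_zero Ai t φ hzero htrans i _ h1
  refine ⟨j, hij, ?_⟩
  apply (Algebra.TensorProduct.rid A A _).injective
  rw [rid_map, rid_map, ← sub_eq_zero, ← map_sub]
  exact hj

variable {d : ℕ} (F : PolLaw.MulLaw A B A d)

include hcomp hsurj hzero htrans in
theorem main [Module.Finite A B] :
    PolLaw.kerBC F.law A' =
      ⨆ i : ι, (PolLaw.kerBC F.law (Ai i)).map
        (Algebra.TensorProduct.map (φ i) (AlgHom.id A B)) := by
  apply le_antisymm
  · intro b' hb'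
    obtain ⟨n, bb, hbb⟩ := Module.Finite.exists_fin (R := A) (M := B)
    obtain ⟨i, bi, rfl⟩ := exists_stage Ai t φ hcomp hsurj b'
    have h1 := lhs_eq_rhs_of_mem F bb _ hb'
    rw [← mm_lhs F bb (φ i), ← mm_rhs F bb (φ i)] at h1
    obtain ⟨j, hij, hj⟩ := exists_map_eq Ai t φ hzero htrans i _ _ h1
    rw [mm_lhs, mm_rhs] at hj
    have h2 := mem_of_lhs_eq_rhs F bb hbb _ hj
    have h3 : Algebra.TensorProduct.map (φ i) (AlgHom.id A B) bi =
        Algebra.TensorProduct.map (φ j) (AlgHom.id A B)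
          (Algebra.TensorProduct.map (t i j hij) (AlgHom.id A B) bi) := by
      rw [LawReduced.map_map, hcomp]
    rw [h3]
    exact (le_iSup (fun i => (PolLaw.kerBC F.law (Ai i)).map
        (Algebra.TensorProduct.map (φ i) (AlgHom.id A B))) j) (Ideal.mem_map_of_mem _ h2)
  · apply iSup_le
    intro i
    rw [Ideal.map_le_iff_le_comap]
    intro bi hbi
    rw [Ideal.mem_comap]
    intro R _ _ _ _ x w
    letI : Algebra (Ai i) R := ((algebraMap A' R).comp (φ i).toRingHom).toAlgebra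
    haveI : IsScalarTower A (Ai i) R := IsScalarTower.of_algebraMap_eq (fun a => by
      rw [RingHom.algebraMap_toAlgebra]
      simp [← IsScalarTower.algebraMap_apply])
    have h1 := hbi R x w
    have h2 : IsScalarTower.toAlgHom A (Ai i) R = (IsScalarTower.toAlgHom A A' R).comp (φ i) := by
      apply AlgHom.ext
      intro a
      rfl
    rw [h2, ← LawReduced.map_map] at h1
    exact h1

end limit

end Groth.Agent.Lib.Helper15.KerBCLim
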