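import Mathlib
import Groth.Agent.Lib.Helper15.PolyLine

/-!
# The kernel of a multiplicative law commutes with polynomial base change (helper15)
-/

set_option autoImplicit false
universe u
open scoped TensorProduct
open Polynomial

namespace Groth.Agent.Lib.Helper15.KerBCPoly

open Groth.Agent.Lib.Helper15.PolLawPoly Groth.Agent.Lib.Helper15.LawReduced
  Groth.Agent.Lib.Helper15.PolyLine

variable {A : Type u} [CommRing A] {B : Type u} [CommRing B] [Algebra A B]
  {C : Type u} [CommRing C] [Algebra A C]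

/-- specialisation `X ↦ s` on `A[X] ⊗ B` -/
noncomputable def φs (S : Type u) [CommSemiring S] [Algebra A S] (s : S) :
    A[X] ⊗[A] B →ₐ[A] S ⊗[A] B :=
  Algebra.TensorProduct.map (Polynomial.aeval s : A[X] →ₐ[A] S) (AlgHom.id A B)

/-- the explicit form of membership in `kerBC F A[X]` -/
def K (F : B →ₚₗ[A] C) (b' : A[X] ⊗[A] B) : Prop :=
  ∀ (S : Type u) [CommSemiring S] [Algebra A S] (s : S) (x w : S ⊗[A] B),
    F.toFun' S (x + w * φs S s b') = F.toFun' S x

theorem mem_kerBC_iff (F : B →ₚₗ[A] C) (b' : A[X] ⊗[A] B) :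
    b' ∈ PolLaw.kerBC F A[X] ↔ K F b' := by
  constructor
  · intro h S _ _ s x w
    letI : Algebra A[X] S := (Polynomial.aeval s : A[X] →ₐ[A] S).toRingHom.toAlgebra
    haveI : IsScalarTower A A[X] S := IsScalarTower.of_algebraMap_eq (fun a => by
      rw [RingHom.algebraMap_toAlgebra]
      simp)
    have h1 := h S x w
    have h2 : IsScalarTower.toAlgHom A A[X] S = (Polynomial.aeval s : A[X] →ₐ[A] S) := by
      apply Polynomial.algHom_ext
      rw [IsScalarTower.coe_toAlgHom', RingHom.algebraMap_toAlgebra]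
      rfl
    rw [h2] at h1
    exact h1
  · intro h R _ _ _ _ x w
    have h1 := h R (algebraMap A[X] R X) x w
    have h2 : IsScalarTower.toAlgHom A A[X] R =
        (Polynomial.aeval (algebraMap A[X] R X) : A[X] →ₐ[A] R) := by
      apply Polynomial.algHom_ext
      simp
    rw [h2]
    exact h1

section rep

/-- every element of `A[X] ⊗ B` is `∑_{k<n} X^k ⊗ c_k` -/
theorem exists_repr (b' : A[X] ⊗[A] B) :
    ∃ (n : ℕ) (c : ℕ → B), b' = ∑ k ∈ Finset.range n, ((X : A[X]) ^ k) ⊗ₜ[A] c k := by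
  induction b' using TensorProduct.induction_on with
  | zero => exact ⟨0, fun _ => 0, by simp⟩
  | tmul p b =>
    refine ⟨p.natDegree + 1, fun k => p.coeff k • b, ?_⟩
    conv_lhs => rw [p.as_sum_range_C_mul_X_pow, TensorProduct.sum_tmul]
    refine Finset.sum_congr rfl fun k _ => ?_
    rw [← Polynomial.smul_eq_C_mul, TensorProduct.smul_tmul]
  | add x y hx hy =>
    obtain ⟨n, c, rfl⟩ := hx
    obtain ⟨n', c', rfl⟩ := hy
    refine ⟨max n n', fun k => (if k < n then c k else 0) + (if k < n' then c' k else 0), ?_⟩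
    simp only [TensorProduct.tmul_add, Finset.sum_add_distrib]
    congr 1
    · rw [← Finset.sum_subset (Finset.range_mono (le_max_left n n'))]
      · refine Finset.sum_congr rfl fun k hk => ?_
        rw [if_pos (Finset.mem_range.mp hk)]
      · intro k _ hk
        rw [if_neg (fun h => hk (Finset.mem_range.mpr h)), TensorProduct.tmul_zero]
    · rw [← Finset.sum_subset (Finset.range_mono (le_max_right n n'))]
      · refine Finset.sum_congr rfl fun k hk => ?_
        rw [if_pos (Finset.mem_range.mp hk)]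
      · intro k _ hk
        rw [if_neg (fun h => hk (Finset.mem_range.mpr h)), TensorProduct.tmul_zero]

theorem φs_repr (S : Type u) [CommSemiring S] [Algebra A S] (s : S) (n : ℕ) (c : ℕ → B) :
    φs S s (∑ k ∈ Finset.range n, ((X : A[X]) ^ k) ⊗ₜ[A] c k) =
      ∑ k ∈ Finset.range n, (s ^ k) ⊗ₜ[A] c k := by
  unfold φs
  rw [map_sum]
  refine Finset.sum_congr rfl fun k _ => ?_
  rw [Algebra.TensorProduct.map_tmul, map_pow, Polynomial.aeval_X, AlgHom.id_apply]

theorem repr_succ (n : ℕ) (c : ℕ → B) :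
    (∑ k ∈ Finset.range (n + 1), ((X : A[X]) ^ k) ⊗ₜ[A] c k) =
      (1 : A[X]) ⊗ₜ[A] c 0 + ((X : A[X]) ⊗ₜ[A] (1 : B)) *
        ∑ k ∈ Finset.range n, ((X : A[X]) ^ k) ⊗ₜ[A] c (k + 1) := by
  rw [Finset.sum_range_succ', pow_zero, add_comm, Finset.mul_sum]
  congr 1
  refine Finset.sum_congr rfl fun k _ => ?_
  rw [Algebra.TensorProduct.tmul_mul_tmul, one_mul, pow_succ']

end rep

section main

variable {d : ℕ} (F : PolLaw.MulLaw A B A d)

/-- Step A: the constant coefficient is in the kernel -/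
theorem c0_mem (c₀ : B) (b'' : A[X] ⊗[A] B)
    (hK : K F.law ((1 : A[X]) ⊗ₜ[A] c₀ + ((X : A[X]) ⊗ₜ[A] (1 : B)) * b'')) :
    c₀ ∈ PolLaw.ker F.law := by
  intro S _ _ x w
  have h := hK S 0 x w
  unfold φs at h
  rw [map_add, map_mul, Algebra.TensorProduct.map_tmul, Algebra.TensorProduct.map_tmul, map_one,
    Polynomial.aeval_X, TensorProduct.zero_tmul, zero_mul, add_zero, AlgHom.id_apply] at h
  exact h

theorem isRegular_X_tmul (S : Type u) (s : S) :
    IsLeftRegular ((MvPolynomial.X s : MvPolynomial S A) ⊗ₜ[A] (1 : A)) := by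
  intro q q' h
  have h' : ((MvPolynomial.X s : MvPolynomial S A) ⊗ₜ[A] (1 : A)) * q =
      ((MvPolynomial.X s : MvPolynomial S A) ⊗ₜ[A] (1 : A)) * q' := h
  have h1 := congrArg (Algebra.TensorProduct.rid A A (MvPolynomial S A)) h'
  rw [map_mul, map_mul, Algebra.TensorProduct.rid_tmul, one_smul] at h1
  have h2 : Algebra.TensorProduct.rid A A (MvPolynomial S A) q =
      Algebra.TensorProduct.rid A A (MvPolynomial S A) q' := by
    apply MvPolynomial.ext
    intro m
    have := congrArg (MvPolynomial.coeff (Finsupp.single s 1 + m)) h1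
    rwa [MvPolynomial.coeff_X_mul, MvPolynomial.coeff_X_mul] at this
  exact (Algebra.TensorProduct.rid A A (MvPolynomial S A)).injective h2

/-- Step B: dividing by `X` -/
theorem K_div_X (c₀ : B) (b'' : A[X] ⊗[A] B)
    (hK : K F.law ((1 : A[X]) ⊗ₜ[A] c₀ + ((X : A[X]) ⊗ₜ[A] (1 : B)) * b'')) :
    K F.law b'' := by
  have h0 := c0_mem F c₀ b'' hK
  -- (**)
  have hstar : ∀ (S : Type u) [CommSemiring S] [Algebra A S] (s : S) (x w : S ⊗[A] B),
      F.law.toFun' S (x + w * ((s ⊗ₜ[A] (1 : B)) * φs S s b'')) = F.law.toFun' S x := by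
    intro S _ _ s x w
    have h := hK S s x w
    have h' := h0 S (x + w * ((s ⊗ₜ[A] (1 : B)) * φs S s b'')) w
    have e : φs S s ((1 : A[X]) ⊗ₜ[A] c₀ + ((X : A[X]) ⊗ₜ[A] (1 : B)) * b'') =
        (1 : S) ⊗ₜ[A] c₀ + (s ⊗ₜ[A] (1 : B)) * φs S s b'' := by
      rw [map_add, map_mul]
      unfold φs
      rw [Algebra.TensorProduct.map_tmul, Algebra.TensorProduct.map_tmul, map_one,
        Polynomial.aeval_X, AlgHom.id_apply, AlgHom.id_apply]
    rw [e, mul_add, ← add_assoc, add_right_comm] at h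
    rw [← h', h]
  -- over polynomial rings, with `s` a variable
  have hpoly : ∀ (S : Type u) (s : S) (xt wt : MvPolynomial S A ⊗[A] B),
      F.law.toFun' _ (xt + wt * φs (MvPolynomial S A) (MvPolynomial.X s) b'') =
        F.law.toFun' _ xt := by
    intro S s xt wt
    set P := MvPolynomial S A with hP
    set ρ : P := MvPolynomial.X s with hρ
    set y : P ⊗[A] B := wt * φs P ρ b'' with hy
    apply eq_of_G_const F xt y
    intro k hk
    -- use (**) over `P[t]`
    have h1 := hstar P[X] (Polynomial.C ρ)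
      (Algebra.TensorProduct.map (ι (A := A) (P := P)) (AlgHom.id A B) xt)
      (((X : P[X]) ⊗ₜ[A] (1 : B)) *
        Algebra.TensorProduct.map (ι (A := A) (P := P)) (AlgHom.id A B) wt)
    have h2 : φs P[X] (Polynomial.C ρ) b'' =
        Algebra.TensorProduct.map (ι (A := A) (P := P)) (AlgHom.id A B) (φs P ρ b'') := by
      unfold φs
      rw [LawReduced.map_map]
      congr 2
      apply Polynomial.algHom_ext
      simp [ι]
    have h3 : Algebra.TensorProduct.map (ι (A := A) (P := P)) (AlgHom.id A B) xt +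
        ((X : P[X]) ⊗ₜ[A] (1 : B)) *
          Algebra.TensorProduct.map (ι (A := A) (P := P)) (AlgHom.id A B) wt *
          ((Polynomial.C ρ) ⊗ₜ[A] (1 : B) * φs P[X] (Polynomial.C ρ) b'') =
        Algebra.TensorProduct.map (ι (A := A) (P := P)) (AlgHom.id A B) xt +
          ((Polynomial.C ρ * X : P[X]) ⊗ₜ[A] (1 : B)) *
            Algebra.TensorProduct.map (ι (A := A) (P := P)) (AlgHom.id A B) y := by
      rw [h2, hy, map_mul]
      have : ((Polynomial.C ρ * X : P[X]) ⊗ₜ[A] (1 : B)) =
          ((Polynomial.C ρ : P[X]) ⊗ₜ[A] (1 : B)) * ((X : P[X]) ⊗ₜ[A] (1 : B)) := by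
        rw [Algebra.TensorProduct.tmul_mul_tmul, mul_one]
      rw [this]
      ring
    rw [h3] at h1
    have h4 := congrArg (polyT P A) h1
    rw [← G_comp, polyT_const] at h4
    have h5 := congrArg (fun p : (P ⊗[A] A)[X] => p.coeff k) h4
    beta_reduce at h5
    rw [Polynomial.map_mul, Polynomial.map_C, Polynomial.map_X, Polynomial.comp_C_mul_X_coeff,
      Polynomial.coeff_C, if_neg (by omega)] at h5
    have hreg : IsLeftRegular (((MvPolynomial.X s : MvPolynomial S A) ⊗ₜ[A] (1 : A)) ^ k) :=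
      (isRegular_X_tmul S s).pow k
    apply hreg
    show ((MvPolynomial.X s : MvPolynomial S A) ⊗ₜ[A] (1 : A)) ^ k * (G F xt y).coeff k =
      ((MvPolynomial.X s : MvPolynomial S A) ⊗ₜ[A] (1 : A)) ^ k * 0
    rw [mul_zero, mul_comm]
    exact h5
  -- general test algebras
  intro S _ _ s x w
  obtain ⟨xt, hxt⟩ := exists_lift (A := A) (B := B) S x
  obtain ⟨wt, hwt⟩ := exists_lift (A := A) (B := B) S w
  rw [PolLaw.rTensor_algHom_apply] at hxt hwt
  have h := hpoly S s xt wt
  have h2 := congrArg (Algebra.TensorProduct.map (evS (A := A) S) (AlgHom.id A A)) h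
  rw [compat, compat, map_add, map_mul, hxt, hwt] at h2
  have h3 : Algebra.TensorProduct.map (evS (A := A) S) (AlgHom.id A B)
      (φs (MvPolynomial S A) (MvPolynomial.X s) b'') = φs S s b'' := by
    unfold φs
    rw [LawReduced.map_map]
    congr 2
    apply Polynomial.algHom_ext
    simp [evS]
  rw [h3] at h2
  exact h2

/-- all coefficients of an element of `kerBC` lie in the kernel -/
theorem coeff_mem : ∀ (n : ℕ) (c : ℕ → B),
    K F.law (∑ k ∈ Finset.range n, ((X : A[X]) ^ k) ⊗ₜ[A] c k) →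
      ∀ k < n, c k ∈ PolLaw.ker F.law := by
  intro n
  induction n with
  | zero => intro c _ k hk; omega
  | succ n ih =>
    intro c hK k hk
    rw [repr_succ] at hK
    rcases Nat.eq_zero_or_pos k with h | h
    · rw [h]
      exact c0_mem F _ _ hK
    · have := ih (fun k => c (k + 1)) (K_div_X F _ _ hK) (k - 1) (by omega)
      rwa [Nat.sub_add_cancel h] at this

theorem main :
    (PolLaw.ker F.law).map (Algebra.TensorProduct.includeRight : B →ₐ[A] A[X] ⊗[A] B) =
      PolLaw.kerBC F.law A[X] := by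
  apply le_antisymm
  · rw [Ideal.map_le_iff_le_comap]
    intro b hb
    rw [Ideal.mem_comap, mem_kerBC_iff]
    intro S _ _ s x w
    have : φs S s ((Algebra.TensorProduct.includeRight : B →ₐ[A] A[X] ⊗[A] B) b) =
        (1 : S) ⊗ₜ[A] b := by
      unfold φs
      rw [Algebra.TensorProduct.includeRight_apply, Algebra.TensorProduct.map_tmul, map_one,
        AlgHom.id_apply]
    rw [this]
    exact hb S x w
  · intro b' hb'
    obtain ⟨n, c, rfl⟩ := exists_repr b'
    rw [mem_kerBC_iff] at hb'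
    have hc := coeff_mem F n c hb'
    refine Ideal.sum_mem _ fun k hk => ?_
    have : ((X : A[X]) ^ k) ⊗ₜ[A] c k = (((X : A[X]) ^ k) ⊗ₜ[A] (1 : B)) *
        (Algebra.TensorProduct.includeRight : B →ₐ[A] A[X] ⊗[A] B) (c k) := by
      rw [Algebra.TensorProduct.includeRight_apply, Algebra.TensorProduct.tmul_mul_tmul, mul_one,
        one_mul]
    rw [this]
    exact Ideal.mul_mem_left _ _ (Ideal.mem_map_of_mem _ (hc k (Finset.mem_range.mp hk)))

end main

end Groth.Agent.Lib.Helper15.KerBCPoly
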