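import Mathlib
import Groth.Agent.Lib27.LGProj

set_option autoImplicit false
universe u v w v' w'
open scoped TensorProduct

namespace Groth.Agent.Lib.Helper15.LGAz1

open LGRing Groth.Agent.Lib27.LGProj

variable {R : Type u} [CommRing R]

section Poly

variable {a b r : ℕ}

/-- `∑ Pᵢ X Qᵢ` -/
def Psi {p q : ℕ} (S : Type w) [CommRing S] [Algebra R S]
    (P : Fin r → Matrix (Fin p) (Fin p) R) (Q : Fin r → Matrix (Fin q) (Fin q) R)
    (X : Matrix (Fin p) (Fin q) S) : Matrix (Fin p) (Fin q) S :=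
  ∑ i, (P i).map (algebraMap R S) * X * (Q i).map (algebraMap R S)

variable (S : Type w) [CommRing S] [Algebra R S]
  (P : Fin r → Matrix (Fin b) (Fin b) R) (Q : Fin r → Matrix (Fin a) (Fin a) R)
  (Q' : Fin r → Matrix (Fin a) (Fin a) R) (P' : Fin r → Matrix (Fin b) (Fin b) R)
  (eN : Matrix (Fin b) (Fin b) R)

/-- `Ψ(X) Ψ'(Y) + 1 - e_N` -/
def Phi (X : Matrix (Fin b) (Fin a) S) (Y : Matrix (Fin a) (Fin b) S) : Matrix (Fin b) (Fin b) S :=
  Psi S P Q X * Psi S Q' P' Y + 1 - eN.map (algebraMap R S)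

/-- the polynomial -/
noncomputable def F : MvPolynomial (Var a b) R :=
  (Phi (MvPolynomial (Var a b) R) P Q Q' P' eN (matX _ MvPolynomial.X) (matY _ MvPolynomial.X)).det

theorem Psi_map {p q : ℕ} {S' : Type w'} [CommRing S'] [Algebra R S'] (f : S →ₐ[R] S')
    (P : Fin r → Matrix (Fin p) (Fin p) R) (Q : Fin r → Matrix (Fin q) (Fin q) R)
    (X : Matrix (Fin p) (Fin q) S) :
    (Psi S P Q X).map f = Psi S' P Q (X.map f) := by
  ext i j
  simp [Psi, Matrix.mul_apply, Matrix.map_apply, Matrix.sum_apply, map_sum]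

theorem aeval_F (t : Var a b → S) :
    MvPolynomial.aeval t (F P Q Q' P' eN) =
      (Phi S P Q Q' P' eN (matX S t) (matY S t)).det := by
  unfold F
  rw [AlgHom.map_det]
  congr 1
  unfold Phi
  rw [AlgHom.mapMatrix_apply, Matrix.map_sub (hf := map_sub _), Matrix.map_add (hf := map_add _),
    Matrix.map_mul, Psi_map, Psi_map,
    matX_map, matY_map, Matrix.map_one _ (map_zero _) (map_one _), map_map_C']

end Poly

section Avg

variable {E : Type v} [Ring E] [Algebra R E]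
  {M : Type w} {N : Type w'} [AddCommGroup M] [Module R M] [AddCommGroup N] [Module R N]
  {r : ℕ} (ρM : E →ₐ[R] Module.End R M) (ρN : E →ₐ[R] Module.End R N) (x y : Fin r → E)

/-- the averaging operator `φ ↦ ∑ xᵢ φ yᵢ` -/
def avg (φ : M →ₗ[R] N) : M →ₗ[R] N := ∑ i, ρN (x i) ∘ₗ φ ∘ₗ ρM (y i)

/-- the bilinear map `(u, v) ↦ u φ v` -/
def bil (φ : M →ₗ[R] N) : E →ₗ[R] Eᵐᵒᵖ →ₗ[R] (M →ₗ[R] N) :=
  LinearMap.mk₂ R (fun u v => ρN u ∘ₗ φ ∘ₗ ρM v.unop)
    (fun u u' v => by rw [map_add, LinearMap.add_comp])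
    (fun c u v => by rw [map_smul, LinearMap.smul_comp])
    (fun u v v' => by
      rw [MulOpposite.unop_add, map_add, LinearMap.comp_add, LinearMap.comp_add])
    (fun c u v => by
      rw [MulOpposite.unop_smul, map_smul, LinearMap.comp_smul, LinearMap.comp_smul])

theorem avg_equivariant
    (hsep : ∀ u : E, ∑ i, (u * x i) ⊗ₜ[R] MulOpposite.op (y i) =
      ∑ i, x i ⊗ₜ[R] MulOpposite.op (y i * u))
    (φ : M →ₗ[R] N) (u : E) : ρN u ∘ₗ avg ρM ρN x y φ = avg ρM ρN x y φ ∘ₗ ρM u := by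
  have h := congrArg (TensorProduct.lift (bil ρM ρN φ)) (hsep u)
  rw [map_sum, map_sum] at h
  simp only [TensorProduct.lift.tmul, bil, LinearMap.mk₂_apply, MulOpposite.unop_op, map_mul] at h
  unfold avg
  apply LinearMap.ext
  intro v
  have h' := LinearMap.congr_fun h v
  simp only [LinearMap.sum_apply, LinearMap.comp_apply, Module.End.mul_apply] at h'
  simp only [LinearMap.sum_apply, LinearMap.comp_apply, map_sum]
  exact h'

theorem avg_of_equivariant (hxy : ∑ i, x i * y i = 1) (φ : M →ₗ[R] N)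
    (hφ : ∀ u : E, ρN u ∘ₗ φ = φ ∘ₗ ρM u) : avg ρM ρN x y φ = φ := by
  unfold avg
  have : ∀ i, ρN (x i) ∘ₗ φ ∘ₗ ρM (y i) = ρN (x i * y i) ∘ₗ φ := by
    intro i
    rw [← hφ (y i), ← LinearMap.comp_assoc, map_mul]
    rfl
  simp_rw [this]
  apply LinearMap.ext
  intro v
  simp only [LinearMap.sum_apply, LinearMap.comp_apply]
  rw [← LinearMap.sum_apply, ← map_sum, hxy, map_one]
  rfl

end Avg

section Points

variable {E : Type v} [Ring E] [Algebra R E]
  {M : Type w} {N : Type w'} [AddCommGroup M] [Module R M] [AddCommGroup N] [Module R N]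
  {a b r : ℕ}
  (πM : (Fin a → R) →ₗ[R] M) (sM : M →ₗ[R] (Fin a → R)) (hM : πM ∘ₗ sM = LinearMap.id)
  (πN : (Fin b → R) →ₗ[R] N) (sN : N →ₗ[R] (Fin b → R)) (hN : πN ∘ₗ sN = LinearMap.id)
  (ρM : E →ₐ[R] Module.End R M) (ρN : E →ₐ[R] Module.End R N) (x y : Fin r → E)

/-- matrix of `s φ π` -/
noncomputable def mat {n : ℕ} {L : Type*} [AddCommGroup L] [Module R L]
    (π : (Fin n → R) →ₗ[R] L) (s : L →ₗ[R] (Fin n → R)) (φ : Module.End R L) :
    Matrix (Fin n) (Fin n) R := LinearMap.toMatrix' (s ∘ₗ φ ∘ₗ π)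

theorem map_id_eq {p q : ℕ} (e : Matrix (Fin p) (Fin q) R) : e.map (algebraMap R R) = e := by
  ext i j; simp

include hM hN in
theorem exists_of_isUnit
    (hsep : ∀ u : E, ∑ i, (u * x i) ⊗ₜ[R] MulOpposite.op (y i) =
      ∑ i, x i ⊗ₜ[R] MulOpposite.op (y i * u))
    (X : Matrix (Fin b) (Fin a) R) (Y : Matrix (Fin a) (Fin b) R)
    (hu : IsUnit (Phi R (fun i => mat πN sN (ρN (x i))) (fun i => mat πM sM (ρM (y i)))
      (fun i => mat πM sM (ρM (x i))) (fun i => mat πN sN (ρN (y i)))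
      (LinearMap.toMatrix' (sN ∘ₗ πN)) X Y).det) :
    ∃ (f : M →ₗ[R] N) (g : N →ₗ[R] M), (∀ u, ρN u ∘ₗ f = f ∘ₗ ρM u) ∧
      (∀ u, ρM u ∘ₗ g = g ∘ₗ ρN u) ∧ Function.Bijective (f ∘ₗ g) := by
  set φ : M →ₗ[R] N := πN ∘ₗ Matrix.toLin' X ∘ₗ sM with hφ
  set ψ : N →ₗ[R] M := πM ∘ₗ Matrix.toLin' Y ∘ₗ sN with hψ
  refine ⟨avg ρM ρN x y φ, avg ρN ρM x y ψ, avg_equivariant ρM ρN x y hsep φ,
    avg_equivariant ρN ρM x y hsep ψ, ?_⟩
  have h1 : Matrix.toLin' (Psi R (fun i => mat πN sN (ρN (x i))) (fun i => mat πM sM (ρM (y i))) X) =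
      sN ∘ₗ avg ρM ρN x y φ ∘ₗ πM := by
    unfold Psi
    simp_rw [map_id_eq]
    rw [map_sum]
    simp_rw [Matrix.toLin'_mul, mat, Matrix.toLin'_toMatrix']
    apply LinearMap.ext
    intro v
    simp only [avg, LinearMap.sum_apply, LinearMap.comp_apply, map_sum, hφ]
  have h2 : Matrix.toLin' (Psi R (fun i => mat πM sM (ρM (x i))) (fun i => mat πN sN (ρN (y i))) Y) =
      sM ∘ₗ avg ρN ρM x y ψ ∘ₗ πN := by
    unfold Psi
    simp_rw [map_id_eq]
    rw [map_sum]
    simp_rw [Matrix.toLin'_mul, mat, Matrix.toLin'_toMatrix']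
    apply LinearMap.ext
    intro v
    simp only [avg, LinearMap.sum_apply, LinearMap.comp_apply, map_sum, hψ]
  have h3 : Matrix.toLin' (Phi R (fun i => mat πN sN (ρN (x i))) (fun i => mat πM sM (ρM (y i)))
      (fun i => mat πM sM (ρM (x i))) (fun i => mat πN sN (ρN (y i)))
      (LinearMap.toMatrix' (sN ∘ₗ πN)) X Y) =
      sN ∘ₗ (avg ρM ρN x y φ ∘ₗ avg ρN ρM x y ψ) ∘ₗ πN + (LinearMap.id - sN ∘ₗ πN) := by
    unfold Phi
    rw [map_id_eq, map_sub, map_add, Matrix.toLin'_one, Matrix.toLin'_mul, h1, h2,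
      Matrix.toLin'_toMatrix']
    apply LinearMap.ext
    intro v
    simp only [LinearMap.add_apply, LinearMap.sub_apply, LinearMap.comp_apply, LinearMap.id_apply,
      π_s_apply πM sM hM]
    abel
  have b1 := bijective_toLin'_of_isUnit_det _ hu
  rw [h3] at b1
  exact bijective_of_extend πN sN hN _ b1

end Points

section KPoint

variable (k : Type w) [CommRing k] [Algebra R k]

theorem mat_map {n : ℕ} {L : Type*} [AddCommGroup L] [Module R L]
    (π : (Fin n → R) →ₗ[R] L) (s : L →ₗ[R] (Fin n → R)) (φ : Module.End R L) :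
    (mat π s φ).map (algebraMap R k) =
      LinearMap.toMatrix' (sk k s ∘ₗ φ.baseChange k ∘ₗ πk k π) := by
  ext i j
  unfold mat
  rw [LinearMap.toMatrix'_apply, Matrix.map_apply, LinearMap.toMatrix'_apply]
  unfold πk sk
  simp only [LinearMap.comp_apply, LinearEquiv.coe_coe]
  rw [TensorProduct.piScalarRight_symm_single, LinearMap.baseChange_tmul, LinearMap.baseChange_tmul,
    LinearMap.baseChange_tmul, TensorProduct.piScalarRight_apply,
    TensorProduct.piScalarRightHom_tmul, Algebra.algebraMap_eq_smul_one]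

theorem baseChange_sum {L L' : Type*} [AddCommGroup L] [Module R L] [AddCommGroup L'] [Module R L']
    {ι : Type*} (s : Finset ι) (f : ι → (L →ₗ[R] L')) :
    (∑ i ∈ s, f i).baseChange k = ∑ i ∈ s, (f i).baseChange k :=
  map_sum (LinearMap.baseChangeHom R k L L') f s

variable {E : Type v} [Ring E] [Algebra R E]
  {M : Type w'} {N : Type v'} [AddCommGroup M] [Module R M] [AddCommGroup N] [Module R N]
  {a b r : ℕ}
  (πM : (Fin a → R) →ₗ[R] M) (sM : M →ₗ[R] (Fin a → R)) (hM : πM ∘ₗ sM = LinearMap.id)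
  (πN : (Fin b → R) →ₗ[R] N) (sN : N →ₗ[R] (Fin b → R)) (hN : πN ∘ₗ sN = LinearMap.id)
  (ρM : E →ₐ[R] Module.End R M) (ρN : E →ₐ[R] Module.End R N) (x y : Fin r → E)

include hM hN in
theorem exists_point_of_fibre (hxy : ∑ i, x i * y i = 1)
    (f : k ⊗[R] M →ₗ[k] k ⊗[R] N) (g : k ⊗[R] N →ₗ[k] k ⊗[R] M)
    (hf : ∀ u : E, (ρN u).baseChange k ∘ₗ f = f ∘ₗ (ρM u).baseChange k)
    (hg : ∀ u : E, (ρM u).baseChange k ∘ₗ g = g ∘ₗ (ρN u).baseChange k)
    (hfg : f ∘ₗ g = LinearMap.id) :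
    ∃ t : Var a b → k, MvPolynomial.aeval t
      (F (fun i => mat πN sN (ρN (x i))) (fun i => mat πM sM (ρM (y i)))
        (fun i => mat πM sM (ρM (x i))) (fun i => mat πN sN (ρN (y i)))
        (LinearMap.toMatrix' (sN ∘ₗ πN))) = 1 := by
  set X : Matrix (Fin b) (Fin a) k := LinearMap.toMatrix' (sk k sN ∘ₗ f ∘ₗ πk k πM) with hX
  set Y : Matrix (Fin a) (Fin b) k := LinearMap.toMatrix' (sk k sM ∘ₗ g ∘ₗ πk k πN) with hY
  refine ⟨Sum.elim (fun p => X p.1 p.2) (fun p => Y p.1 p.2), ?_⟩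
  rw [aeval_F]
  have hmX : matX k (Sum.elim (fun p => X p.1 p.2) (fun p => Y p.1 p.2)) = X := by ext i j; rfl
  have hmY : matY k (Sum.elim (fun p => X p.1 p.2) (fun p => Y p.1 p.2)) = Y := by ext i j; rfl
  rw [hmX, hmY]
  -- the averaging is trivial on equivariant maps
  have avgf : ∑ i, (ρN (x i)).baseChange k ∘ₗ f ∘ₗ (ρM (y i)).baseChange k = f := by
    have : ∀ i, (ρN (x i)).baseChange k ∘ₗ f ∘ₗ (ρM (y i)).baseChange k =
        (ρN (x i * y i)).baseChange k ∘ₗ f := by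
      intro i
      rw [← hf (y i), ← LinearMap.comp_assoc, ← LinearMap.baseChange_comp, map_mul]
      rfl
    simp_rw [this]
    apply LinearMap.ext
    intro v
    simp only [LinearMap.sum_apply, LinearMap.comp_apply]
    rw [← LinearMap.sum_apply, ← baseChange_sum, ← map_sum, hxy, map_one]
    show (LinearMap.id : N →ₗ[R] N).baseChange k (f v) = f v
    rw [LinearMap.baseChange_id, LinearMap.id_apply]
  have avgg : ∑ i, (ρM (x i)).baseChange k ∘ₗ g ∘ₗ (ρN (y i)).baseChange k = g := by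
    have : ∀ i, (ρM (x i)).baseChange k ∘ₗ g ∘ₗ (ρN (y i)).baseChange k =
        (ρM (x i * y i)).baseChange k ∘ₗ g := by
      intro i
      rw [← hg (y i), ← LinearMap.comp_assoc, ← LinearMap.baseChange_comp, map_mul]
      rfl
    simp_rw [this]
    apply LinearMap.ext
    intro v
    simp only [LinearMap.sum_apply, LinearMap.comp_apply]
    rw [← LinearMap.sum_apply, ← baseChange_sum, ← map_sum, hxy, map_one]
    show (LinearMap.id : M →ₗ[R] M).baseChange k (g v) = g v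
    rw [LinearMap.baseChange_id, LinearMap.id_apply]
  have h1 : Psi k (fun i => mat πN sN (ρN (x i))) (fun i => mat πM sM (ρM (y i))) X = X := by
    unfold Psi
    simp_rw [mat_map, hX, ← LinearMap.toMatrix'_comp]
    rw [← map_sum]
    congr 1
    apply LinearMap.ext
    intro v
    simp only [LinearMap.sum_apply, LinearMap.comp_apply, πk_sk_apply k πN sN hN,
      πk_sk_apply k πM sM hM]
    rw [← map_sum]
    have := LinearMap.congr_fun avgf (πk k πM v)
    simp only [LinearMap.sum_apply, LinearMap.comp_apply] at this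
    rw [this]
  have h2 : Psi k (fun i => mat πM sM (ρM (x i))) (fun i => mat πN sN (ρN (y i))) Y = Y := by
    unfold Psi
    simp_rw [mat_map, hY, ← LinearMap.toMatrix'_comp]
    rw [← map_sum]
    congr 1
    apply LinearMap.ext
    intro v
    simp only [LinearMap.sum_apply, LinearMap.comp_apply, πk_sk_apply k πN sN hN,
      πk_sk_apply k πM sM hM]
    rw [← map_sum]
    have := LinearMap.congr_fun avgg (πk k πN v)
    simp only [LinearMap.sum_apply, LinearMap.comp_apply] at this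
    rw [this]
  have h3 : Phi k (fun i => mat πN sN (ρN (x i))) (fun i => mat πM sM (ρM (y i)))
      (fun i => mat πM sM (ρM (x i))) (fun i => mat πN sN (ρN (y i)))
      (LinearMap.toMatrix' (sN ∘ₗ πN)) X Y = 1 := by
    unfold Phi
    rw [h1, h2, ← toMatrix'_sk_πk, hX, hY, ← LinearMap.toMatrix'_comp]
    have : (sk k sN ∘ₗ f ∘ₗ πk k πM) ∘ₗ sk k sM ∘ₗ g ∘ₗ πk k πN = sk k sN ∘ₗ πk k πN := by
      apply LinearMap.ext
      intro v
      simp only [LinearMap.comp_apply, πk_sk_apply k πM sM hM]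
      have := LinearMap.congr_fun hfg (πk k πN v)
      rw [LinearMap.comp_apply, LinearMap.id_apply] at this
      rw [this]
    rw [this]
    abel
  rw [h3, Matrix.det_one]

end KPoint

/-- **LG principle for equivariant maps**: over an LG-ring, a split equivariant surjection on every
closed fibre gives an equivariant pair `(f, g)` with `f ∘ g` bijective. -/
theorem exists_equivariant_pair (hR : IsLGRing R) {E : Type v} [Ring E] [Algebra R E]
    {r : ℕ} (x y : Fin r → E) (hxy : ∑ i, x i * y i = 1)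
    (hsep : ∀ u : E, ∑ i, (u * x i) ⊗ₜ[R] MulOpposite.op (y i) =
      ∑ i, x i ⊗ₜ[R] MulOpposite.op (y i * u))
    (M : Type w) (N : Type w') [AddCommGroup M] [Module R M] [Module.Finite R M]
    [Module.Projective R M] [AddCommGroup N] [Module R N] [Module.Finite R N]
    [Module.Projective R N]
    (ρM : E →ₐ[R] Module.End R M) (ρN : E →ₐ[R] Module.End R N)
    (h : ∀ (m : Ideal R) [m.IsMaximal],
      ∃ (f : (R ⧸ m) ⊗[R] M →ₗ[R ⧸ m] (R ⧸ m) ⊗[R] N)
        (g : (R ⧸ m) ⊗[R] N →ₗ[R ⧸ m] (R ⧸ m) ⊗[R] M),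
        (∀ u : E, (ρN u).baseChange (R ⧸ m) ∘ₗ f = f ∘ₗ (ρM u).baseChange (R ⧸ m)) ∧
        (∀ u : E, (ρM u).baseChange (R ⧸ m) ∘ₗ g = g ∘ₗ (ρN u).baseChange (R ⧸ m)) ∧
        f ∘ₗ g = LinearMap.id) :
    ∃ (f : M →ₗ[R] N) (g : N →ₗ[R] M), (∀ u, ρN u ∘ₗ f = f ∘ₗ ρM u) ∧
      (∀ u, ρM u ∘ₗ g = g ∘ₗ ρN u) ∧ Function.Bijective (f ∘ₗ g) := by
  obtain ⟨a, πM, sM, hM⟩ := exists_presentation (R := R) M
  obtain ⟨b, πN, sN, hN⟩ := exists_presentation (R := R) N
  have hrep : RepresentsUnit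
      (F (fun i => mat πN sN (ρN (x i))) (fun i => mat πM sM (ρM (y i)))
        (fun i => mat πM sM (ρM (x i))) (fun i => mat πN sN (ρN (y i)))
        (LinearMap.toMatrix' (sN ∘ₗ πN))) R := by
    apply representsUnit_of_finite hR
    intro m hm
    obtain ⟨f, g, hf, hg, hfg⟩ := h m
    obtain ⟨t, ht⟩ := exists_point_of_fibre (R ⧸ m) πM sM hM πN sN hN ρM ρN x y hxy f g hf hg hfg
    exact ⟨t, by rw [ht]; exact isUnit_one⟩
  obtain ⟨t, ht⟩ := hrep
  rw [aeval_F] at ht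
  exact exists_of_isUnit πM sM hM πN sN hN ρM ρN x y hsep _ _ ht

end Groth.Agent.Lib.Helper15.LGAz1
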