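import Mathlib

set_option autoImplicit false
set_option linter.style.haveILetI false
universe u v w w'

namespace Groth.Agent.Lib.Helper15.LGAz2

section simple

variable {D : Type v} [Ring D] [IsSimpleRing D] [IsArtinianRing D]

/-- all simple modules over a simple artinian ring are isomorphic -/
theorem nonempty_linearEquiv_of_isSimpleModule (S : Type w) (S' : Type w') [AddCommGroup S] [Module D S]
    [AddCommGroup S'] [Module D S'] [IsSimpleModule D S] [IsSimpleModule D S'] :
    Nonempty (S ≃ₗ[D] S') := by
  have h : IsIsotypic D D := IsSimpleRing.isIsotypic D D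
  obtain ⟨I, ⟨e⟩⟩ := IsSemisimpleRing.exists_linearEquiv_ideal_of_isSimpleModule D S
  obtain ⟨I', ⟨e'⟩⟩ := IsSemisimpleRing.exists_linearEquiv_ideal_of_isSimpleModule D S'
  have := IsSimpleModule.congr e.symm
  have := IsSimpleModule.congr e'.symm
  exact ⟨e.trans <| (h _ _).some.symm.trans e'.symm⟩

end simple

section field

variable {K : Type u} [Field K] {D : Type v} [Ring D] [Algebra K D] [IsSimpleRing D]
  [FiniteDimensional K D]
  {V : Type w} {W : Type w'} [AddCommGroup V] [Module K V] [FiniteDimensional K V]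
  [AddCommGroup W] [Module K W] [FiniteDimensional K W]

/-- extension by zero `(Fin b → S) → (Fin a → S)` -/
def extZero (R : Type*) [Semiring R] (S : Type*) [AddCommMonoid S] [Module R S] (a b : ℕ) :
    (Fin b → S) →ₗ[R] (Fin a → S) :=
  LinearMap.pi fun i => if h : i.val < b then LinearMap.proj ⟨i.val, h⟩ else 0

theorem funLeft_extZero (R : Type*) [Semiring R] (S : Type*) [AddCommMonoid S] [Module R S] {a b : ℕ}
    (hba : b ≤ a) (h : Fin b → S) :
    LinearMap.funLeft R S (Fin.castLE hba) (extZero R S a b h) = h := by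
  funext j
  simp [extZero, LinearMap.funLeft_apply]

theorem exists_split_surj (ρV : D →ₐ[K] Module.End K V) (ρW : D →ₐ[K] Module.End K W)
    (hdim : Module.finrank K W ≤ Module.finrank K V) :
    ∃ (f : V →ₗ[K] W) (g : W →ₗ[K] V), (∀ d, ρW d ∘ₗ f = f ∘ₗ ρV d) ∧
      (∀ d, ρV d ∘ₗ g = g ∘ₗ ρW d) ∧ f ∘ₗ g = LinearMap.id := by
  letI mV : Module D V := Module.compHom V (ρV : D →+* Module.End K V)
  letI mW : Module D W := Module.compHom W (ρW : D →+* Module.End K W)
  have smulV : ∀ (d : D) (v : V), d • v = ρV d v := fun _ _ => rfl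
  have smulW : ∀ (d : D) (w : W), d • w = ρW d w := fun _ _ => rfl
  haveI : IsScalarTower K D V := ⟨fun c d v => by
    rw [smulV, smulV, map_smul, LinearMap.smul_apply]⟩
  haveI : IsScalarTower K D W := ⟨fun c d v => by
    rw [smulW, smulW, map_smul, LinearMap.smul_apply]⟩
  haveI : IsArtinianRing D := IsArtinianRing.of_finite K D
  haveI : Module.Finite D V := Module.Finite.of_restrictScalars_finite K D V
  haveI : Module.Finite D W := Module.Finite.of_restrictScalars_finite K D W
  rcases subsingleton_or_nontrivial W with hW | hW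
  · refine ⟨0, 0, fun d => ?_, fun d => ?_, ?_⟩
    · rw [LinearMap.comp_zero, LinearMap.zero_comp]
    · rw [LinearMap.comp_zero, LinearMap.zero_comp]
    · apply LinearMap.ext; intro w; exact Subsingleton.elim _ _
  have hVnt : Nontrivial V := by
    have h1 : 0 < Module.finrank K W := Module.finrank_pos
    exact Module.nontrivial_of_finrank_pos (R := K) (lt_of_lt_of_le h1 hdim)
  obtain ⟨a, _, SV, hSV, ⟨eV⟩⟩ := (IsSimpleRing.isIsotypic D V).linearEquiv_fun
  obtain ⟨b, _, SW, hSW, ⟨eW⟩⟩ := (IsSimpleRing.isIsotypic D W).linearEquiv_fun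
  obtain ⟨e₀⟩ := nonempty_linearEquiv_of_isSimpleModule (D := D) SV SW
  -- dimension count
  haveI : Module.Finite K SW :=
    Module.Finite.of_injective ((SW.subtype).restrictScalars K) Subtype.val_injective
  have hs : 0 < Module.finrank K SW := by
    haveI := IsSimpleModule.nontrivial D SW
    exact Module.finrank_pos
  have dV : Module.finrank K V = a * Module.finrank K SW := by
    have e1 : V ≃ₗ[K] (Fin a → SW) :=
      (eV.trans (LinearEquiv.piCongrRight fun _ => e₀)).restrictScalars K
    rw [e1.finrank_eq, Module.finrank_pi_fintype]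
    simp
  have dW : Module.finrank K W = b * Module.finrank K SW := by
    have e1 : W ≃ₗ[K] (Fin b → SW) := eW.restrictScalars K
    rw [e1.finrank_eq, Module.finrank_pi_fintype]
    simp
  have hba : b ≤ a := by
    rw [dV, dW] at hdim
    exact Nat.le_of_mul_le_mul_right hdim hs
  -- the maps
  let e1 : V ≃ₗ[D] (Fin a → SW) := eV.trans (LinearEquiv.piCongrRight fun _ => e₀)
  let f : V →ₗ[D] W := eW.symm.toLinearMap ∘ₗ LinearMap.funLeft D SW (Fin.castLE hba) ∘ₗ e1.toLinearMap
  let g : W →ₗ[D] V := e1.symm.toLinearMap ∘ₗ extZero D SW a b ∘ₗ eW.toLinearMap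
  refine ⟨f.restrictScalars K, g.restrictScalars K, fun d => ?_, fun d => ?_, ?_⟩
  · apply LinearMap.ext
    intro v
    show ρW d (f v) = f (ρV d v)
    rw [← smulW, ← smulV, map_smul]
  · apply LinearMap.ext
    intro w
    show ρV d (g w) = g (ρW d w)
    rw [← smulW, ← smulV, map_smul]
  · apply LinearMap.ext
    intro w
    show f (g w) = w
    simp only [f, g, LinearMap.comp_apply, LinearEquiv.coe_coe, LinearEquiv.apply_symm_apply]
    rw [funLeft_extZero, LinearEquiv.symm_apply_apply]

end field

end Groth.Agent.Lib.Helper15.LGAz2
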