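import Mathlib
import Groth.Agent.Lib.Helper15.LGAz1
import Groth.Agent.Lib.Helper15.LGAz2
import Groth.Agent.Lib.Helper15.AzumayaInner

set_option autoImplicit false
set_option linter.style.haveILetI false
universe u v w w'
open scoped TensorProduct

namespace Groth.Agent.Lib.Helper15.LGAz3

open LGRing Groth.Agent.Lib27.LGProj Groth.Agent.Lib.Helper15

variable {R : Type u} [CommRing R]

/-- a separability family of an Azumaya algebra -/
theorem exists_sepFamily (E : Type v) [Ring E] [Algebra R E] [IsAzumaya R E] :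
    ∃ (r : ℕ) (x y : Fin r → E), ∑ i, x i * y i = 1 ∧
      ∀ u : E, ∑ i, (u * x i) ⊗ₜ[R] MulOpposite.op (y i) =
        ∑ i, x i ⊗ₜ[R] MulOpposite.op (y i * u) := by
  obtain ⟨e, he1, he2⟩ := Azumaya.exists_sepElement (R := R) (A := E)
  obtain ⟨r, x, z, rfl⟩ := TensorProduct.exists_sum_tmul_eq e
  refine ⟨r, x, fun i => (z i).unop, ?_, fun u => ?_⟩
  · rw [map_sum, LinearMap.sum_apply] at he2
    simp only [AlgHom.mulLeftRight_apply, mul_one] at he2
    exact he2
  · have := he1 u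
    rw [Finset.mul_sum, Finset.mul_sum] at this
    simp only [Algebra.TensorProduct.tmul_mul_tmul, one_mul] at this
    simp only [MulOpposite.op_mul, MulOpposite.op_unop]
    exact this

section act

variable (k : Type w) [CommRing k] [Algebra R k] {E : Type v} [Ring E] [Algebra R E]
  {M : Type w'} [AddCommGroup M] [Module R M]

/-- the base-changed action -/
noncomputable def actK (ρ : E →ₐ[R] Module.End R M) : k ⊗[R] E →ₐ[k] Module.End k (k ⊗[R] M) :=
  Algebra.TensorProduct.lift (Algebra.ofId k _) ((Module.End.baseChangeHom R k M).comp ρ)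
    (fun s x => show Commute (Algebra.ofId k (Module.End k (k ⊗[R] M)) s)
      (((Module.End.baseChangeHom R k M).comp ρ) x) from Algebra.commute_algebraMap_left s _)

theorem actK_one_tmul (ρ : E →ₐ[R] Module.End R M) (u : E) :
    actK k ρ ((1 : k) ⊗ₜ[R] u) = (ρ u).baseChange k := by
  rw [actK, Algebra.TensorProduct.lift_tmul, map_one, one_mul]
  rfl

end act

/-- **LG principle over Azumaya algebras, surjective version.** -/
theorem exists_pair_of_azumaya (hR : IsLGRing R) (E : Type v) [Ring E] [Algebra R E] [IsAzumaya R E]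
    (M : Type w) (N : Type w') [AddCommGroup M] [Module R M] [Module.Finite R M]
    [Module.Projective R M] [AddCommGroup N] [Module R N] [Module.Finite R N]
    [Module.Projective R N]
    (ρM : E →ₐ[R] Module.End R M) (ρN : E →ₐ[R] Module.End R N)
    (hrank : ∀ (m : Ideal R) [hm : m.IsMaximal],
      Module.rankAtStalk N ⟨m, hm.isPrime⟩ ≤ Module.rankAtStalk M ⟨m, hm.isPrime⟩) :
    ∃ (f : M →ₗ[R] N) (g : N →ₗ[R] M), (∀ u, ρN u ∘ₗ f = f ∘ₗ ρM u) ∧
      (∀ u, ρM u ∘ₗ g = g ∘ₗ ρN u) ∧ Function.Bijective (f ∘ₗ g) := by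
  obtain ⟨r, x, y, hxy, hsep⟩ := exists_sepFamily (R := R) E
  apply LGAz1.exists_equivariant_pair hR x y hxy hsep M N ρM ρN
  intro m hm
  letI := Ideal.Quotient.field m
  haveI : IsAzumaya (R ⧸ m) ((R ⧸ m) ⊗[R] E) := Azumaya.isAzumaya_baseChange R (R ⧸ m) E
  haveI : IsSimpleRing ((R ⧸ m) ⊗[R] E) := Azumaya.isSimpleRing_of_isAzumaya (R ⧸ m) _
  have hdim : Module.finrank (R ⧸ m) ((R ⧸ m) ⊗[R] N) ≤
      Module.finrank (R ⧸ m) ((R ⧸ m) ⊗[R] M) := by
    rw [finrank_fibre_eq_rankAtStalk m N, finrank_fibre_eq_rankAtStalk m M]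
    exact hrank m
  obtain ⟨f, g, hf, hg, hfg⟩ :=
    LGAz2.exists_split_surj (actK (R ⧸ m) ρM) (actK (R ⧸ m) ρN) hdim
  refine ⟨f, g, fun u => ?_, fun u => ?_, hfg⟩
  · have := hf ((1 : R ⧸ m) ⊗ₜ[R] u)
    rwa [actK_one_tmul, actK_one_tmul] at this
  · have := hg ((1 : R ⧸ m) ⊗ₜ[R] u)
    rwa [actK_one_tmul, actK_one_tmul] at this

/-- **LG principle over Azumaya algebras, isomorphism version.** -/
theorem exists_equiv_of_azumaya (hR : IsLGRing R) (E : Type v) [Ring E] [Algebra R E]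
    [IsAzumaya R E]
    (M : Type w) (N : Type w') [AddCommGroup M] [Module R M] [Module.Finite R M]
    [Module.Projective R M] [AddCommGroup N] [Module R N] [Module.Finite R N]
    [Module.Projective R N]
    (ρM : E →ₐ[R] Module.End R M) (ρN : E →ₐ[R] Module.End R N)
    (hrank : ∀ (m : Ideal R) [hm : m.IsMaximal],
      Module.rankAtStalk M ⟨m, hm.isPrime⟩ = Module.rankAtStalk N ⟨m, hm.isPrime⟩) :
    ∃ f : M ≃ₗ[R] N, ∀ u, ρN u ∘ₗ f.toLinearMap = f.toLinearMap ∘ₗ ρM u := by
  obtain ⟨f, g, hf, -, hfg⟩ := exists_pair_of_azumaya hR E M N ρM ρN (fun m hm => (hrank m).ge)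
  have hs : Function.Surjective f := by
    have : Function.Surjective (f ∘ g) := hfg.2
    exact this.of_comp
  have hb := Module.bijective_of_surjective_of_rankAtStalk_eq hs (fun m hm => hrank m)
  exact ⟨LinearEquiv.ofBijective f hb, hf⟩

end Groth.Agent.Lib.Helper15.LGAz3
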