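import Mathlib
import Groth.Agent.Lib.Helper15.LGAz3

set_option autoImplicit false
set_option linter.style.haveILetI false
universe u v w w'
open scoped TensorProduct

namespace Groth.Agent.Lib.Helper15.LGAz4

open LGRing Groth.Agent.Lib.Helper15

variable {R : Type u} [CommRing R] {A : Type v} [Ring A] [Algebra R A]

theorem projective_pi [Module.Projective R A] (n : ℕ) : Module.Projective R (Fin n → A) := by
  classical
  exact Module.Projective.of_equiv
    (DFinsupp.linearEquivFunOnFintype (R := R) (ι := Fin n) (M := fun _ => A))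

/-- transitivity of projectivity (finite case) -/
theorem projective_trans [Module.Projective R A] (M : Type w) [AddCommGroup M] [Module A M]
    [Module R M] [IsScalarTower R A M] [Module.Finite A M] [Module.Projective A M] :
    Module.Projective R M := by
  obtain ⟨n, π, hπ⟩ := Module.Finite.exists_fin' A M
  obtain ⟨s, hs⟩ := Module.projective_lifting_property π LinearMap.id hπ
  have := projective_pi (R := R) (A := A) n
  exact Module.Projective.of_split (s.restrictScalars R) (π.restrictScalars R)
    (by ext x; exact LinearMap.congr_fun hs x)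

section modules

variable {M : Type w} {N : Type w'} [AddCommGroup M] [Module A M] [Module R M] [IsScalarTower R A M]
  [AddCommGroup N] [Module A N] [Module R N] [IsScalarTower R A N]

/-- an equivariant `R`-linear map is `A`-linear -/
def toA (f : M →ₗ[R] N)
    (hf : ∀ u : A, Algebra.lsmul R R N u ∘ₗ f = f ∘ₗ Algebra.lsmul R R M u) : M →ₗ[A] N where
  toFun := f
  map_add' := f.map_add
  map_smul' a x := (LinearMap.congr_fun (hf a) x).symm

theorem toA_apply (f : M →ₗ[R] N)
    (hf : ∀ u : A, Algebra.lsmul R R N u ∘ₗ f = f ∘ₗ Algebra.lsmul R R M u) (x : M) :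
    toA f hf x = f x := rfl

variable [IsAzumaya R A] [Module.Finite A M] [Module.Projective A M]
  [Module.Finite A N] [Module.Projective A N]

/-- over an LG ring, `N` is a split quotient of `M` if its rank is at most that of `M` -/
theorem exists_pair_of_modules (hR : IsLGRing R)
    (hrank : ∀ (m : Ideal R) [hm : m.IsMaximal],
      Module.rankAtStalk N ⟨m, hm.isPrime⟩ ≤ Module.rankAtStalk M ⟨m, hm.isPrime⟩) :
    ∃ (f : M →ₗ[A] N) (g : N →ₗ[A] M), Function.Bijective (f ∘ₗ g) := by
  haveI : Module.Finite R M := Module.Finite.trans A M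
  haveI : Module.Finite R N := Module.Finite.trans A N
  haveI : Module.Projective R M := projective_trans (R := R) (A := A) M
  haveI : Module.Projective R N := projective_trans (R := R) (A := A) N
  obtain ⟨f, g, hf, hg, hfg⟩ := LGAz3.exists_pair_of_azumaya hR A M N
    (Algebra.lsmul R R M) (Algebra.lsmul R R N) hrank
  exact ⟨toA f hf, toA g hg, hfg⟩

end modules

section indecomposable

variable {P : Type w} {Q : Type w'} [AddCommGroup P] [Module A P] [AddCommGroup Q] [Module A Q]

theorem nonempty_equiv_of_indecomposable [Nontrivial Q]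
    (hP : ∀ e : Module.End A P, IsIdempotentElem e → e = 0 ∨ e = 1)
    (f : P →ₗ[A] Q) (g : Q →ₗ[A] P) (h : Function.Bijective (f ∘ₗ g)) : Nonempty (P ≃ₗ[A] Q) := by
  let c : Q ≃ₗ[A] Q := LinearEquiv.ofBijective (f ∘ₗ g) h
  let g' : Q →ₗ[A] P := g ∘ₗ c.symm.toLinearMap
  have hfg' : ∀ q, f (g' q) = q := by
    intro q
    show (f ∘ₗ g) (c.symm q) = q
    exact c.apply_symm_apply q
  have hid : IsIdempotentElem (g' ∘ₗ f : Module.End A P) := by
    apply LinearMap.ext
    intro p
    show g' (f (g' (f p))) = g' (f p)
    rw [hfg']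
  rcases hP _ hid with h0 | h1
  · exfalso
    obtain ⟨q, hq⟩ := exists_ne (0 : Q)
    apply hq
    have := LinearMap.congr_fun h0 (g' q)
    rw [LinearMap.comp_apply, hfg', LinearMap.zero_apply] at this
    rw [← hfg' q, this, map_zero]
  · refine ⟨LinearEquiv.ofLinear f g' ?_ ?_⟩
    · apply LinearMap.ext; intro q; exact hfg' q
    · exact h1

end indecomposable

end Groth.Agent.Lib.Helper15.LGAz4
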