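import Mathlib
import Groth.Agent.Lib.Helper15.LGAz3
import Groth.Agent.Lib.Helper15.AzumayaTensor

set_option autoImplicit false
set_option linter.style.haveILetI false
universe u v v' w w'
open scoped TensorProduct

namespace Groth.Agent.Lib.Helper15.LGAz5

open LGRing Groth.Agent.Lib.Helper15

variable {R : Type u} [CommRing R]

section trace

variable (R) (P : Type w) [AddCommGroup P] [Module R P] [Module.Finite R P] [Module.Projective R P]
  [FaithfulSMul R P]

theorem exists_trace_one :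
    ∃ (n : ℕ) (p : Fin n → P) (f : Fin n → Module.Dual R P), ∑ j, f j (p j) = 1 := by
  have hT := Azumaya.traceIdeal_eq_top_of_faithful (R := R) (P := P)
  have h1 : (1 : R) ∈ Azumaya.traceIdeal R P := by rw [hT]; trivial
  have key : ∀ s ∈ Azumaya.traceIdeal R P,
      ∃ (n : ℕ) (p : Fin n → P) (f : Fin n → Module.Dual R P), ∑ j, f j (p j) = s := by
    intro s hs
    refine Submodule.span_induction
      (p := fun s _ => ∃ (n : ℕ) (p : Fin n → P) (f : Fin n → Module.Dual R P),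
        ∑ j, f j (p j) = s) ?_ ?_ ?_ ?_ hs
    · rintro _ ⟨f, x, rfl⟩
      exact ⟨1, fun _ => x, fun _ => f, by simp⟩
    · exact ⟨0, IsEmpty.elim inferInstance, IsEmpty.elim inferInstance, by simp⟩
    · rintro y z _ _ ⟨n, p, f, rfl⟩ ⟨n', p', f', rfl⟩
      refine ⟨n + n', Fin.addCases p p', Fin.addCases f f', ?_⟩
      simp [Fin.sum_univ_add]
    · rintro c y _ ⟨n, p, f, rfl⟩
      refine ⟨n, p, fun j => c • f j, ?_⟩
      simp [Finset.mul_sum]
  exact key 1 h1

end trace

section actions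

variable (A : Type v) [Ring A] [Algebra R A] (P : Type w) [AddCommGroup P] [Module R P]

/-- the action of `A ⊗ End P` on `A ⊗ P` -/
noncomputable def rho : A ⊗[R] Module.End R P →ₐ[R] Module.End R (A ⊗[R] P) :=
  (Module.endTensorEndAlgHom (R := R) (S := R) (A := R) (M := A) (N := P)).comp
    (Algebra.TensorProduct.map (Algebra.lmul R A) (AlgHom.id R (Module.End R P)))

theorem rho_tmul_tmul (a : A) (φ : Module.End R P) (x : A) (p : P) :
    rho A P (a ⊗ₜ[R] φ) (x ⊗ₜ[R] p) = (a * x) ⊗ₜ[R] φ p := rfl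

/-- right multiplication by `A` on `A ⊗ P` -/
noncomputable def rmul : Aᵐᵒᵖ →ₐ[R] Module.End R (A ⊗[R] P) :=
  (Module.endTensorEndAlgHom (R := R) (S := R) (A := R) (M := A) (N := P)).comp
    ((Algebra.TensorProduct.includeLeft : Module.End R A →ₐ[R] Module.End R A ⊗[R] Module.End R P).comp
      ((AlgHom.mulLeftRight R A).comp
        (Algebra.TensorProduct.includeRight : Aᵐᵒᵖ →ₐ[R] A ⊗[R] Aᵐᵒᵖ)))

theorem rmul_tmul (a : Aᵐᵒᵖ) (x : A) (p : P) :
    rmul A P a (x ⊗ₜ[R] p) = (x * a.unop) ⊗ₜ[R] p := by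
  show ((AlgHom.mulLeftRight R A) ((1 : A) ⊗ₜ[R] a) x) ⊗ₜ[R] p = _
  rw [AlgHom.mulLeftRight_apply, one_mul]

theorem rmul_comm_rho (a : Aᵐᵒᵖ) (u : A ⊗[R] Module.End R P) :
    rmul A P a * rho A P u = rho A P u * rmul A P a := by
  induction u using TensorProduct.induction_on with
  | zero => rw [map_zero, mul_zero, zero_mul]
  | tmul b φ =>
    apply TensorProduct.ext'
    intro x p
    rw [Module.End.mul_apply, Module.End.mul_apply, rho_tmul_tmul, rmul_tmul, rmul_tmul,
      rho_tmul_tmul, mul_assoc]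
  | add u u' hu hu' => rw [map_add, mul_add, add_mul, hu, hu']

end actions

section centralizer

variable (A : Type v) [Ring A] [Algebra R A] (P : Type w) [AddCommGroup P] [Module R P]

/-- `x ⊗ p ↦ f p • x` -/
noncomputable def sig (f : Module.Dual R P) : A ⊗[R] P →ₗ[R] A :=
  (TensorProduct.rid R A).toLinearMap ∘ₗ f.lTensor A

theorem sig_tmul (f : Module.Dual R P) (x : A) (p : P) : sig A P f (x ⊗ₜ[R] p) = f p • x := by
  unfold sig
  rw [LinearMap.comp_apply, LinearMap.lTensor_tmul]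
  exact TensorProduct.rid_tmul _ _

theorem rho_smulRight (f : Module.Dual R P) (p : P) (z : A ⊗[R] P) :
    rho A P ((1 : A) ⊗ₜ[R] f.smulRight p) z = sig A P f z ⊗ₜ[R] p := by
  induction z using TensorProduct.induction_on with
  | zero => rw [map_zero, map_zero, TensorProduct.zero_tmul]
  | tmul x q =>
    rw [rho_tmul_tmul, one_mul, sig_tmul, LinearMap.smulRight_apply, TensorProduct.tmul_smul,
      TensorProduct.smul_tmul']
  | add z z' hz hz' => rw [map_add, hz, hz', map_add, TensorProduct.add_tmul]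

theorem sig_rho (f : Module.Dual R P) (a : A) (z : A ⊗[R] P) :
    sig A P f (rho A P (a ⊗ₜ[R] (LinearMap.id : Module.End R P)) z) = a * sig A P f z := by
  induction z using TensorProduct.induction_on with
  | zero => rw [map_zero, map_zero, mul_zero]
  | tmul x q =>
    rw [rho_tmul_tmul, sig_tmul, sig_tmul, LinearMap.id_apply, mul_smul_comm]
  | add z z' hz hz' => rw [map_add, map_add, hz, hz', map_add, mul_add]

variable [Module.Finite R P] [Module.Projective R P] [FaithfulSMul R P]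

theorem rmul_injective : Function.Injective (rmul (R := R) A P) := by
  obtain ⟨n, p, f, hpf⟩ := exists_trace_one R P
  intro a a' h
  apply MulOpposite.unop_injective
  have key : ∀ b : Aᵐᵒᵖ, ∑ j, sig A P (f j) (rmul (R := R) A P b ((1 : A) ⊗ₜ[R] p j)) = b.unop := by
    intro b
    simp_rw [rmul_tmul, sig_tmul, one_mul]
    rw [← Finset.sum_smul, hpf, one_smul]
  rw [← key a, ← key a', h]

theorem exists_rmul_eq (ψ : Module.End R (A ⊗[R] P))
    (hψ : ∀ u, ψ * rho A P u = rho A P u * ψ) : ∃ a, rmul (R := R) A P a = ψ := by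
  obtain ⟨n, p, f, hpf⟩ := exists_trace_one R P
  have hc : ∀ u z, ψ (rho A P u z) = rho A P u (ψ z) := fun u z => LinearMap.congr_fun (hψ u) z
  refine ⟨MulOpposite.op (∑ j, sig A P (f j) (ψ ((1 : A) ⊗ₜ[R] p j))), ?_⟩
  apply TensorProduct.ext'
  intro x q
  rw [rmul_tmul, MulOpposite.unop_op]
  have h1 : x ⊗ₜ[R] q = ∑ j, rho A P ((1 : A) ⊗ₜ[R] (f j).smulRight q) (x ⊗ₜ[R] p j) := by
    simp_rw [rho_tmul_tmul, one_mul, LinearMap.smulRight_apply]
    rw [← TensorProduct.tmul_sum, ← Finset.sum_smul, hpf, one_smul]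
  have h2 : ∀ j, ψ (x ⊗ₜ[R] p j) =
      rho A P (x ⊗ₜ[R] (LinearMap.id : Module.End R P)) (ψ ((1 : A) ⊗ₜ[R] p j)) := by
    intro j
    rw [← hc, rho_tmul_tmul, mul_one, LinearMap.id_apply]
  conv_rhs => rw [h1]
  rw [map_sum]
  simp_rw [hc, rho_smulRight, h2, sig_rho]
  rw [← TensorProduct.sum_tmul, ← Finset.mul_sum]

theorem range_rmul :
    (rmul (R := R) A P).range = Subalgebra.centralizer R (Set.range (rho (R := R) A P)) := by
  apply le_antisymm
  · rintro _ ⟨a, rfl⟩
    rw [Subalgebra.mem_centralizer_iff]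
    rintro _ ⟨u, rfl⟩
    exact (rmul_comm_rho A P a u).symm
  · intro ψ hψ
    rw [Subalgebra.mem_centralizer_iff] at hψ
    obtain ⟨a, ha⟩ := exists_rmul_eq A P ψ (fun u => (hψ _ ⟨u, rfl⟩).symm)
    exact ⟨a, ha⟩

end centralizer

section conj

theorem centralizer_map {X Y : Type*} [Ring X] [Algebra R X] [Ring Y] [Algebra R Y]
    (e : X ≃ₐ[R] Y) (S : Set X) :
    (Subalgebra.centralizer R S).map (e : X →ₐ[R] Y) = Subalgebra.centralizer R (e '' S) := by
  ext y
  rw [Subalgebra.mem_map, Subalgebra.mem_centralizer_iff]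
  constructor
  · rintro ⟨x, hx, rfl⟩
    rw [Subalgebra.mem_centralizer_iff] at hx
    rintro _ ⟨s, hs, rfl⟩
    show e s * e x = e x * e s
    rw [← map_mul, ← map_mul, hx s hs]
  · intro hy
    refine ⟨e.symm y, ?_, e.apply_symm_apply y⟩
    rw [Subalgebra.mem_centralizer_iff]
    intro s hs
    apply e.injective
    rw [map_mul, map_mul, e.apply_symm_apply]
    exact hy _ ⟨s, hs, rfl⟩

theorem nonempty_algEquiv_of_centralizers {A B X Y : Type*} [Ring A] [Algebra R A] [Ring B]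
    [Algebra R B] [Ring X] [Algebra R X] [Ring Y] [Algebra R Y]
    (rA : Aᵐᵒᵖ →ₐ[R] X) (hA : Function.Injective rA) (SX : Set X)
    (hAc : rA.range = Subalgebra.centralizer R SX)
    (rB : Bᵐᵒᵖ →ₐ[R] Y) (hB : Function.Injective rB) (SY : Set Y)
    (hBc : rB.range = Subalgebra.centralizer R SY)
    (c : X ≃ₐ[R] Y) (hc : c '' SX = SY) : Nonempty (A ≃ₐ[R] B) := by
  have e1 : Aᵐᵒᵖ ≃ₐ[R] rA.range := AlgEquiv.ofInjective rA hA
  have e2 : rA.range ≃ₐ[R] Subalgebra.centralizer R SX := Subalgebra.equivOfEq _ _ hAc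
  have e3 : Subalgebra.centralizer R SX ≃ₐ[R] (Subalgebra.centralizer R SX).map (c : X →ₐ[R] Y) :=
    c.subalgebraMap _
  have e4 : (Subalgebra.centralizer R SX).map (c : X →ₐ[R] Y) ≃ₐ[R] Subalgebra.centralizer R SY :=
    Subalgebra.equivOfEq _ _ (by rw [centralizer_map, hc])
  have e5 : Subalgebra.centralizer R SY ≃ₐ[R] rB.range := Subalgebra.equivOfEq _ _ hBc.symm
  have e6 : rB.range ≃ₐ[R] Bᵐᵒᵖ := (AlgEquiv.ofInjective rB hB).symm
  exact ⟨AlgEquiv.unop (((((e1.trans e2).trans e3).trans e4).trans e5).trans e6)⟩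

end conj

/-- **Brauer-equivalent Azumaya algebras of the same degree over an LG ring are isomorphic.** -/
theorem nonempty_algEquiv_of_brauer (hR : IsLGRing R)
    (A : Type v) (B : Type v') [Ring A] [Algebra R A] [IsAzumaya R A] [Ring B] [Algebra R B]
    [IsAzumaya R B]
    (P : Type w) (Q : Type w') [AddCommGroup P] [Module R P] [Module.Finite R P]
    [Module.Projective R P] [FaithfulSMul R P] [AddCommGroup Q] [Module R Q] [Module.Finite R Q]
    [Module.Projective R Q] [FaithfulSMul R Q]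
    (e : A ⊗[R] Module.End R P ≃ₐ[R] B ⊗[R] Module.End R Q)
    (hrank : ∀ (m : Ideal R) [hm : m.IsMaximal],
      Module.rankAtStalk (A ⊗[R] P) ⟨m, hm.isPrime⟩ = Module.rankAtStalk (B ⊗[R] Q) ⟨m, hm.isPrime⟩) :
    Nonempty (A ≃ₐ[R] B) := by
  haveI : IsAzumaya R (Module.End R P) := Azumaya.isAzumaya_end (R := R) (P := P)
  haveI : IsAzumaya R (A ⊗[R] Module.End R P) :=
    Azumaya.isAzumaya_tensorProduct R A (Module.End R P)
  obtain ⟨θ, hθ⟩ := LGAz3.exists_equiv_of_azumaya hR (A ⊗[R] Module.End R P) (A ⊗[R] P) (B ⊗[R] Q)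
    (rho A P) ((rho B Q).comp e.toAlgHom) hrank
  have hconj : ∀ u, θ.conjAlgEquiv R (rho A P u) = rho B Q (e u) := by
    intro u
    rw [LinearEquiv.conjAlgEquiv_apply, ← LinearMap.comp_assoc]
    have := hθ u
    rw [AlgHom.comp_apply] at this
    rw [← this, LinearMap.comp_assoc]
    apply LinearMap.ext
    intro z
    simp
  refine nonempty_algEquiv_of_centralizers (X := Module.End R (A ⊗[R] P))
    (Y := Module.End R (B ⊗[R] Q)) (rmul A P) (rmul_injective A P) _ (range_rmul A P)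
    (rmul B Q) (rmul_injective B Q) _ (range_rmul B Q) (θ.conjAlgEquiv R) ?_
  ext ψ
  constructor
  · rintro ⟨_, ⟨u, rfl⟩, rfl⟩
    exact ⟨e u, (hconj u).symm⟩
  · rintro ⟨v, rfl⟩
    refine ⟨rho A P (e.symm v), ⟨_, rfl⟩, ?_⟩
    rw [hconj, e.apply_symm_apply]

end Groth.Agent.Lib.Helper15.LGAz5
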