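import Mathlib

set_option autoImplicit false
set_option linter.style.haveILetI false
universe u
open Matrix

namespace Groth.Agent.Lib.Helper15.LaurentCocycle

/-! ### coface maps on exponents -/

abbrev Z (p : ℕ) := Fin p → ℤ

def d0 : Z 2 →+ Z 3 := (Matrix.mulVecLin (!![0, 0; 1, 0; 0, 1] : Matrix (Fin 3) (Fin 2) ℤ)).toAddMonoidHom
def d1 : Z 2 →+ Z 3 := (Matrix.mulVecLin (!![1, 0; 1, 0; 0, 1] : Matrix (Fin 3) (Fin 2) ℤ)).toAddMonoidHom
def d2 : Z 2 →+ Z 3 := (Matrix.mulVecLin (!![1, 0; 0, 1; 0, 1] : Matrix (Fin 3) (Fin 2) ℤ)).toAddMonoidHom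
def d3 : Z 2 →+ Z 3 := (Matrix.mulVecLin (!![1, 0; 0, 1; 0, 0] : Matrix (Fin 3) (Fin 2) ℤ)).toAddMonoidHom
def e0 : Z 1 →+ Z 2 := (Matrix.mulVecLin (!![0; 1] : Matrix (Fin 2) (Fin 1) ℤ)).toAddMonoidHom
def e1 : Z 1 →+ Z 2 := (Matrix.mulVecLin (!![1; 1] : Matrix (Fin 2) (Fin 1) ℤ)).toAddMonoidHom
def e2 : Z 1 →+ Z 2 := (Matrix.mulVecLin (!![1; 0] : Matrix (Fin 2) (Fin 1) ℤ)).toAddMonoidHom

theorem d0_apply (a : Z 2) : d0 a = ![0, a 0, a 1] := by
  ext i; fin_cases i <;> simp [d0, Matrix.mulVec, dotProduct, Fin.sum_univ_two]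
theorem d1_apply (a : Z 2) : d1 a = ![a 0, a 0, a 1] := by
  ext i; fin_cases i <;> simp [d1, Matrix.mulVec, dotProduct, Fin.sum_univ_two]
theorem d2_apply (a : Z 2) : d2 a = ![a 0, a 1, a 1] := by
  ext i; fin_cases i <;> simp [d2, Matrix.mulVec, dotProduct, Fin.sum_univ_two]
theorem d3_apply (a : Z 2) : d3 a = ![a 0, a 1, 0] := by
  ext i; fin_cases i <;> simp [d3, Matrix.mulVec, dotProduct, Fin.sum_univ_two]
theorem e0_apply (a : Z 1) : e0 a = ![0, a 0] := by
  ext i; fin_cases i <;> simp [e0, Matrix.mulVec, dotProduct]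
theorem e1_apply (a : Z 1) : e1 a = ![a 0, a 0] := by
  ext i; fin_cases i <;> simp [e1, Matrix.mulVec, dotProduct]
theorem e2_apply (a : Z 1) : e2 a = ![a 0, 0] := by
  ext i; fin_cases i <;> simp [e2, Matrix.mulVec, dotProduct]

theorem d1e0 : d1.comp e0 = d0.comp e0 := by
  ext a i; fin_cases i <;> simp [d0_apply, d1_apply, e0_apply]
theorem d2e0 : d2.comp e0 = d0.comp e1 := by
  ext a i; fin_cases i <;> simp [d0_apply, d2_apply, e0_apply, e1_apply]
theorem d3e0 : d3.comp e0 = d0.comp e2 := by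
  ext a i; fin_cases i <;> simp [d0_apply, d3_apply, e0_apply, e2_apply]
theorem d2e1 : d2.comp e1 = d1.comp e1 := by
  ext a i; fin_cases i <;> simp [d1_apply, d2_apply, e1_apply]
theorem d3e1 : d3.comp e1 = d1.comp e2 := by
  ext a i; fin_cases i <;> simp [d1_apply, d3_apply, e1_apply, e2_apply]
theorem d3e2 : d3.comp e2 = d2.comp e2 := by
  ext a i; fin_cases i <;> simp [d2_apply, d3_apply, e2_apply]

theorem d0_injective : Function.Injective d0 := by
  intro a b h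
  rw [d0_apply, d0_apply] at h
  ext i; fin_cases i
  · simpa using congrFun h 1
  · simpa using congrFun h 2
theorem e0_injective : Function.Injective e0 := by
  intro a b h
  rw [e0_apply, e0_apply] at h
  ext i; fin_cases i
  simpa using congrFun h 1

/-! ### units of a group algebra over a domain -/

theorem exists_single_of_mul_eq_one {D : Type*} [CommRing D] [IsDomain D] {G : Type*}
    [AddCommMonoid G] [TwoUniqueSums G] (f g : AddMonoidAlgebra D G) (hfg : f * g = 1) :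
    ∃ a : G, ∃ c : D, c ≠ 0 ∧ f = AddMonoidAlgebra.single a c := by
  classical
  have hf0 : f ≠ 0 := by
    rintro rfl
    rw [zero_mul] at hfg
    exact zero_ne_one hfg
  have hg0 : g ≠ 0 := by
    rintro rfl
    rw [mul_zero] at hfg
    exact zero_ne_one hfg
  have hfs : f.coeff.support.Nonempty := by
    rw [Finsupp.support_nonempty_iff]
    intro h; exact hf0 (AddMonoidAlgebra.coeff_injective h)
  have hgs : g.coeff.support.Nonempty := by
    rw [Finsupp.support_nonempty_iff]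
    intro h; exact hg0 (AddMonoidAlgebra.coeff_injective h)
  have hcard : ¬ 1 < f.coeff.support.card * g.coeff.support.card := by
    intro hlt
    obtain ⟨p1, hp1, p2, hp2, hne, hu1, hu2⟩ := TwoUniqueSums.uniqueAdd_of_one_lt_card hlt
    rw [Finset.mem_product] at hp1 hp2
    have h1 : (f * g).coeff (p1.1 + p1.2) ≠ 0 := by
      rw [AddMonoidAlgebra.coeff_mul_add_of_uniqueAdd hu1]
      exact mul_ne_zero (Finsupp.mem_support_iff.1 hp1.1) (Finsupp.mem_support_iff.1 hp1.2)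
    have h2 : (f * g).coeff (p2.1 + p2.2) ≠ 0 := by
      rw [AddMonoidAlgebra.coeff_mul_add_of_uniqueAdd hu2]
      exact mul_ne_zero (Finsupp.mem_support_iff.1 hp2.1) (Finsupp.mem_support_iff.1 hp2.2)
    rw [hfg, AddMonoidAlgebra.one_def, AddMonoidAlgebra.coeff_single] at h1 h2
    have z1 : p1.1 + p1.2 = 0 := by
      by_contra hz
      exact h1 (Finsupp.single_eq_of_ne hz)
    have z2 : p2.1 + p2.2 = 0 := by
      by_contra hz
      exact h2 (Finsupp.single_eq_of_ne hz)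
    have := hu1 hp2.1 hp2.2 (z2.trans z1.symm)
    exact hne (Prod.ext this.1 this.2).symm
  have hf1 : f.coeff.support.card = 1 := by
    have h1 := Finset.card_pos.2 hfs
    have h2 := Finset.card_pos.2 hgs
    by_contra hne
    have : 2 ≤ f.coeff.support.card := by omega
    apply hcard
    calc 1 < 2 * 1 := by norm_num
      _ ≤ f.coeff.support.card * g.coeff.support.card := Nat.mul_le_mul this h2
  obtain ⟨a, ha⟩ := Finset.card_eq_one.1 hf1
  refine ⟨a, f.coeff a, ?_, ?_⟩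
  · rw [← Finsupp.mem_support_iff, ha]; exact Finset.mem_singleton_self a
  · apply AddMonoidAlgebra.coeff_injective
    rw [AddMonoidAlgebra.coeff_single]
    exact (Finsupp.support_subset_singleton.1 ha.subset)

/-! ### the ring maps and the multiplicative coboundaries -/

noncomputable section maps
variable (A : Type u) [CommRing A]

abbrev L (p : ℕ) := AddMonoidAlgebra A (Z p)

def D0 : L A 2 →+* L A 3 := AddMonoidAlgebra.mapDomainRingHom A d0
def D1 : L A 2 →+* L A 3 := AddMonoidAlgebra.mapDomainRingHom A d1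
def D2 : L A 2 →+* L A 3 := AddMonoidAlgebra.mapDomainRingHom A d2
def D3 : L A 2 →+* L A 3 := AddMonoidAlgebra.mapDomainRingHom A d3
def E0 : L A 1 →+* L A 2 := AddMonoidAlgebra.mapDomainRingHom A e0
def E1 : L A 1 →+* L A 2 := AddMonoidAlgebra.mapDomainRingHom A e1
def E2 : L A 1 →+* L A 2 := AddMonoidAlgebra.mapDomainRingHom A e2

theorem D1E0 : (D1 A).comp (E0 A) = (D0 A).comp (E0 A) := by
  simp only [D0, D1, E0, ← AddMonoidAlgebra.mapDomainRingHom_comp, d1e0]
theorem D2E0 : (D2 A).comp (E0 A) = (D0 A).comp (E1 A) := by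
  simp only [D0, D2, E0, E1, ← AddMonoidAlgebra.mapDomainRingHom_comp, d2e0]
theorem D3E0 : (D3 A).comp (E0 A) = (D0 A).comp (E2 A) := by
  simp only [D0, D3, E0, E2, ← AddMonoidAlgebra.mapDomainRingHom_comp, d3e0]
theorem D2E1 : (D2 A).comp (E1 A) = (D1 A).comp (E1 A) := by
  simp only [D1, D2, E1, ← AddMonoidAlgebra.mapDomainRingHom_comp, d2e1]
theorem D3E1 : (D3 A).comp (E1 A) = (D1 A).comp (E2 A) := by
  simp only [D1, D3, E1, E2, ← AddMonoidAlgebra.mapDomainRingHom_comp, d3e1]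
theorem D3E2 : (D3 A).comp (E2 A) = (D2 A).comp (E2 A) := by
  simp only [D2, D3, E2, ← AddMonoidAlgebra.mapDomainRingHom_comp, d3e2]

def bd2 : (L A 2)ˣ →* (L A 3)ˣ :=
  Units.map (D0 A).toMonoidHom * (Units.map (D1 A).toMonoidHom)⁻¹ * Units.map (D2 A).toMonoidHom *
    (Units.map (D3 A).toMonoidHom)⁻¹

def bd1 : (L A 1)ˣ →* (L A 2)ˣ :=
  Units.map (E0 A).toMonoidHom * (Units.map (E1 A).toMonoidHom)⁻¹ * Units.map (E2 A).toMonoidHom

theorem bd2_apply (ξ : (L A 2)ˣ) : bd2 A ξ = Units.map (D0 A).toMonoidHom ξ *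
    (Units.map (D1 A).toMonoidHom ξ)⁻¹ * Units.map (D2 A).toMonoidHom ξ *
    (Units.map (D3 A).toMonoidHom ξ)⁻¹ := rfl

theorem bd1_apply (η : (L A 1)ˣ) : bd1 A η = Units.map (E0 A).toMonoidHom η *
    (Units.map (E1 A).toMonoidHom η)⁻¹ * Units.map (E2 A).toMonoidHom η := rfl

theorem comm_group_identity {G : Type*} [CommGroup G] (p q r s t w : G) :
    (p * q⁻¹ * r) * (p * s⁻¹ * t)⁻¹ * (q * s⁻¹ * w) * (r * t⁻¹ * w)⁻¹ = 1 := by
  apply Additive.ofMul.injective
  simp only [ofMul_mul, ofMul_inv, ofMul_one]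
  abel

theorem umap_comp {R S T : Type*} [Monoid R] [Monoid S] [Monoid T] (f : S →* T) (g : R →* S)
    (x : Rˣ) : Units.map f (Units.map g x) = Units.map (f.comp g) x := rfl

theorem bd2_bd1 (η : (L A 1)ˣ) : bd2 A (bd1 A η) = 1 := by
  rw [bd2_apply, bd1_apply]
  simp only [map_mul, map_inv, umap_comp]
  have h1 : (D1 A).toMonoidHom.comp (E0 A).toMonoidHom = (D0 A).toMonoidHom.comp (E0 A).toMonoidHom :=
    congrArg RingHom.toMonoidHom (D1E0 A)
  have h2 : (D2 A).toMonoidHom.comp (E0 A).toMonoidHom = (D0 A).toMonoidHom.comp (E1 A).toMonoidHom :=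
    congrArg RingHom.toMonoidHom (D2E0 A)
  have h3 : (D3 A).toMonoidHom.comp (E0 A).toMonoidHom = (D0 A).toMonoidHom.comp (E2 A).toMonoidHom :=
    congrArg RingHom.toMonoidHom (D3E0 A)
  have h4 : (D2 A).toMonoidHom.comp (E1 A).toMonoidHom = (D1 A).toMonoidHom.comp (E1 A).toMonoidHom :=
    congrArg RingHom.toMonoidHom (D2E1 A)
  have h5 : (D3 A).toMonoidHom.comp (E1 A).toMonoidHom = (D1 A).toMonoidHom.comp (E2 A).toMonoidHom :=
    congrArg RingHom.toMonoidHom (D3E1 A)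
  have h6 : (D3 A).toMonoidHom.comp (E2 A).toMonoidHom = (D2 A).toMonoidHom.comp (E2 A).toMonoidHom :=
    congrArg RingHom.toMonoidHom (D3E2 A)
  rw [h1, h2, h3, h4, h5, h6]
  exact comm_group_identity _ _ _ _ _ _

/-! ### coefficient ideals -/

/-- elements all of whose coefficients lie in `I` -/
def JI (I : Ideal A) (p : ℕ) : Ideal (L A p) :=
  RingHom.ker (AddMonoidAlgebra.mapRingHom (Z p) (Ideal.Quotient.mk I))

variable {A}

theorem mem_JI_iff (I : Ideal A) (p : ℕ) (f : L A p) : f ∈ JI A I p ↔ ∀ g, f.coeff g ∈ I := by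
  rw [JI, RingHom.mem_ker]
  constructor
  · intro h g
    have := congrArg (fun z => z.coeff g) h
    simp only [AddMonoidAlgebra.coeff_mapRingHom] at this
    exact Ideal.Quotient.eq_zero_iff_mem.1 this
  · intro h
    apply AddMonoidAlgebra.coeff_injective
    ext g
    rw [AddMonoidAlgebra.coeff_mapRingHom]
    exact Ideal.Quotient.eq_zero_iff_mem.2 (h g)

theorem JI_mono {I I' : Ideal A} (h : I ≤ I') (p : ℕ) : JI A I p ≤ JI A I' p := by
  intro f hf
  rw [mem_JI_iff] at hf ⊢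
  exact fun g => h (hf g)

theorem JI_bot (p : ℕ) : JI A (⊥ : Ideal A) p = ⊥ := by
  rw [eq_bot_iff]
  intro f hf
  rw [mem_JI_iff] at hf
  rw [Ideal.mem_bot]
  apply AddMonoidAlgebra.coeff_injective
  ext g
  exact (Ideal.mem_bot).1 (hf g)

theorem JI_mul_le (I I' : Ideal A) (p : ℕ) : JI A I p * JI A I' p ≤ JI A (I * I') p := by
  classical
  rw [Ideal.mul_le]
  intro f hf f' hf'
  rw [mem_JI_iff] at hf hf' ⊢
  intro g
  rw [AddMonoidAlgebra.coeff_mul]
  refine Ideal.sum_mem _ fun a _ => Ideal.sum_mem _ fun b _ => ?_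
  show (if a + b = g then f.coeff a * f'.coeff b else 0) ∈ I * I'
  split_ifs
  · exact Ideal.mul_mem_mul (hf a) (hf' b)
  · exact Ideal.zero_mem _

theorem mapDomain_mem_JI (I : Ideal A) {p q : ℕ} (φ : Z p →+ Z q) (f : L A p)
    (hf : f ∈ JI A I p) : AddMonoidAlgebra.mapDomainRingHom A φ f ∈ JI A I q := by
  rw [JI, RingHom.mem_ker] at hf ⊢
  have := congrArg (fun F => F f)
    (AddMonoidAlgebra.mapRingHom_comp_mapDomainRingHom (Ideal.Quotient.mk I) φ)
  simp only [RingHom.comp_apply] at this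
  rw [this, hf, map_zero]

theorem comapDomain_mem_JI (I : Ideal A) {p q : ℕ} (φ : Z p → Z q) (hφ : Function.Injective φ)
    (f : L A q) (hf : f ∈ JI A I q) : AddMonoidAlgebra.comapDomain φ hφ f ∈ JI A I p := by
  rw [mem_JI_iff] at hf ⊢
  intro g
  rw [AddMonoidAlgebra.coeff_comapDomain, Finsupp.comapDomain_apply]
  exact hf _

/-! ### first-order logarithm -/

theorem log_mul {S : Type*} [CommRing S] {J K : Ideal S} (hJK : J * J ≤ K) {u v a b : S}
    (ha : a ∈ J) (hb : b ∈ J) (hu : u - 1 - a ∈ K) (hv : v - 1 - b ∈ K) :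
    u * v - 1 - (a + b) ∈ K := by
  have : u * v - 1 - (a + b) = a * b + (u - 1 - a) * v + (1 + a) * (v - 1 - b) := by ring
  rw [this]
  exact K.add_mem (K.add_mem (hJK (Ideal.mul_mem_mul ha hb)) (K.mul_mem_right _ hu))
    (K.mul_mem_left _ hv)

theorem log_inv {S : Type*} [CommRing S] {J K : Ideal S} (hJK : J * J ≤ K) {u : Sˣ} {a : S}
    (ha : a ∈ J) (hu : (u : S) - 1 - a ∈ K) :
    ((u⁻¹ : Sˣ) : S) - 1 - (-a) ∈ K := by
  have h : ((u⁻¹ : Sˣ) : S) * (u : S) = 1 := Units.inv_mul u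
  have : ((u⁻¹ : Sˣ) : S) - 1 - (-a) =
      ((u⁻¹ : Sˣ) : S) * (-((u : S) - 1 - a) + (a * a + a * ((u : S) - 1 - a))) := by
    linear_combination (1 - a) * h
  rw [this]
  refine K.mul_mem_left _ (K.add_mem (K.neg_mem hu) (K.add_mem (hJK (Ideal.mul_mem_mul ha ha))
    (K.mul_mem_left _ hu)))

/-! ### the contracting homotopy -/

variable (A)

def hh : L A 2 →+ L A 1 := AddMonoidAlgebra.comapDomainAddMonoidHom e0 e0_injective
def hh' : L A 3 →+ L A 2 := AddMonoidAlgebra.comapDomainAddMonoidHom d0 d0_injective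

variable {A}

theorem comapDomain_single_of_notMem_range {p q : ℕ} (φ : Z p → Z q) (hφ : Function.Injective φ)
    (n : Z q) (r : A) (hn : n ∉ Set.range φ) :
    AddMonoidAlgebra.comapDomain φ hφ (AddMonoidAlgebra.single n r) = 0 := by
  apply AddMonoidAlgebra.coeff_injective
  ext m
  rw [AddMonoidAlgebra.coeff_comapDomain, Finsupp.comapDomain_apply, AddMonoidAlgebra.coeff_single]
  have : n ≠ φ m := fun h => hn ⟨m, h.symm⟩
  simp [Finsupp.single_apply, this]

theorem hh_single_e0 (b : Z 1) (r : A) :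
    hh A (AddMonoidAlgebra.single (e0 b) r) = AddMonoidAlgebra.single b r :=
  AddMonoidAlgebra.comapDomain_single_map _ e0_injective b r

theorem hh'_single_d0 (b : Z 2) (r : A) :
    hh' A (AddMonoidAlgebra.single (d0 b) r) = AddMonoidAlgebra.single b r :=
  AddMonoidAlgebra.comapDomain_single_map _ d0_injective b r

theorem hh_single_of_ne (g : Z 2) (r : A) (hg : g 0 ≠ 0) :
    hh A (AddMonoidAlgebra.single g r) = 0 := by
  refine comapDomain_single_of_notMem_range e0 e0_injective g r ?_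
  rintro ⟨b, hb⟩
  rw [e0_apply] at hb
  exact hg (by rw [← hb]; rfl)

theorem hh'_single_of_ne (g : Z 3) (r : A) (hg : g 0 ≠ 0) :
    hh' A (AddMonoidAlgebra.single g r) = 0 := by
  refine comapDomain_single_of_notMem_range d0 d0_injective g r ?_
  rintro ⟨b, hb⟩
  rw [d0_apply] at hb
  exact hg (by rw [← hb]; rfl)

theorem homotopy_single (g : Z 2) (r : A) :
    AddMonoidAlgebra.single g r =
      E0 A (hh A (AddMonoidAlgebra.single g r)) - E1 A (hh A (AddMonoidAlgebra.single g r)) +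
        E2 A (hh A (AddMonoidAlgebra.single g r)) +
      hh' A (D0 A (AddMonoidAlgebra.single g r) - D1 A (AddMonoidAlgebra.single g r) +
        D2 A (AddMonoidAlgebra.single g r) - D3 A (AddMonoidAlgebra.single g r)) := by
  simp only [D0, D1, D2, D3, E0, E1, E2, AddMonoidAlgebra.mapDomainRingHom_apply,
    AddMonoidAlgebra.mapDomain_single, map_add, map_sub]
  by_cases hg : g 0 = 0
  · obtain ⟨b, rfl⟩ : ∃ b : Z 1, g = e0 b := by
      refine ⟨![g 1], ?_⟩
      rw [e0_apply]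
      ext i; fin_cases i
      · exact hg
      · rfl
    have h1 : d1 (e0 b) = d0 (e0 b) := DFunLike.congr_fun d1e0 b
    have h2 : d2 (e0 b) = d0 (e1 b) := DFunLike.congr_fun d2e0 b
    have h3 : d3 (e0 b) = d0 (e2 b) := DFunLike.congr_fun d3e0 b
    rw [h1, h2, h3, hh_single_e0, hh'_single_d0, hh'_single_d0, hh'_single_d0]
    simp only [AddMonoidAlgebra.mapDomain_single]
    abel
  · have h1 : (d1 g) 0 ≠ 0 := by rw [d1_apply]; exact hg
    have h2 : (d2 g) 0 ≠ 0 := by rw [d2_apply]; exact hg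
    have h3 : (d3 g) 0 ≠ 0 := by rw [d3_apply]; exact hg
    rw [hh_single_of_ne g r hg, hh'_single_d0, hh'_single_of_ne _ r h1, hh'_single_of_ne _ r h2,
      hh'_single_of_ne _ r h3]
    simp

theorem homotopy (x : L A 2) :
    x = E0 A (hh A x) - E1 A (hh A x) + E2 A (hh A x) +
      hh' A (D0 A x - D1 A x + D2 A x - D3 A x) := by
  induction x using AddMonoidAlgebra.induction_linear with
  | zero => simp
  | add x y hx hy =>
    have : E0 A (hh A (x + y)) - E1 A (hh A (x + y)) + E2 A (hh A (x + y)) +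
        hh' A (D0 A (x + y) - D1 A (x + y) + D2 A (x + y) - D3 A (x + y)) =
        (E0 A (hh A x) - E1 A (hh A x) + E2 A (hh A x) +
          hh' A (D0 A x - D1 A x + D2 A x - D3 A x)) +
        (E0 A (hh A y) - E1 A (hh A y) + E2 A (hh A y) +
          hh' A (D0 A y - D1 A y + D2 A y - D3 A y)) := by
      simp only [map_add, map_sub]
      abel
    rw [this, ← hx, ← hy]
  | single g r => exact homotopy_single g r

/-! ### the nilpotent step -/

theorem JI_pow_le (I : Ideal A) (p n : ℕ) : (JI A I p) ^ n ≤ JI A (I ^ n) p := by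
  induction n with
  | zero =>
    intro f _
    rw [mem_JI_iff]
    intro g
    rw [pow_zero, Ideal.one_eq_top]; trivial
  | succ n ih =>
    rw [pow_succ, pow_succ]
    exact (Ideal.mul_mono_left ih).trans (JI_mul_le _ _ _)

theorem isNilpotent_of_mem_JI (I : Ideal A) (n : ℕ) (hn : I ^ n = ⊥) (p k : ℕ) (hk : 1 ≤ k)
    (y : L A p) (hy : y ∈ JI A (I ^ k) p) : IsNilpotent y := by
  refine ⟨n, ?_⟩
  have h1 : y ^ n ∈ (JI A (I ^ k) p) ^ n := Ideal.pow_mem_pow hy n
  have h2 := JI_pow_le (I ^ k) p n h1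
  have h3 : (I ^ k) ^ n = ⊥ := by
    rw [← pow_mul, mul_comm, pow_mul, hn]
    exact zero_pow (by omega)
  rw [h3, JI_bot] at h2
  exact (Ideal.mem_bot).1 h2

theorem coe_umap {R S : Type*} [Semiring R] [Semiring S] (f : R →+* S) (u : Rˣ) :
    ((Units.map f.toMonoidHom u : Sˣ) : S) = f (u : R) := rfl

theorem nil_step (I : Ideal A) (n : ℕ) (hn : I ^ n = ⊥) (k : ℕ) (hk : 1 ≤ k) (ξ : (L A 2)ˣ)
    (hξ : bd2 A ξ = 1) (hx : (ξ : L A 2) - 1 ∈ JI A (I ^ k) 2) :
    ∃ η : (L A 1)ˣ, ((ξ * (bd1 A η)⁻¹ : (L A 2)ˣ) : L A 2) - 1 ∈ JI A (I ^ (2 * k)) 2 := by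
  set x : L A 2 := (ξ : L A 2) - 1 with hxdef
  have hξx : (ξ : L A 2) = 1 + x := by rw [hxdef]; ring
  have hJK : ∀ p, JI A (I ^ k) p * JI A (I ^ k) p ≤ JI A (I ^ (2 * k)) p := by
    intro p
    refine (JI_mul_le _ _ _).trans (JI_mono (le_of_eq ?_) p)
    rw [← pow_add, two_mul]
  -- step (1): the additive coboundary of x is small
  have ha0 : D0 A x ∈ JI A (I ^ k) 3 := mapDomain_mem_JI _ d0 x hx
  have ha1 : D1 A x ∈ JI A (I ^ k) 3 := mapDomain_mem_JI _ d1 x hx
  have ha2 : D2 A x ∈ JI A (I ^ k) 3 := mapDomain_mem_JI _ d2 x hx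
  have ha3 : D3 A x ∈ JI A (I ^ k) 3 := mapDomain_mem_JI _ d3 x hx
  have hu : ∀ (F : L A 2 →+* L A 3),
      ((Units.map F.toMonoidHom ξ : (L A 3)ˣ) : L A 3) - 1 - F x ∈ JI A (I ^ (2 * k)) 3 := by
    intro F
    rw [coe_umap, hξx, map_add, map_one]
    have : (1 : L A 3) + F x - 1 - F x = 0 := by ring
    rw [this]; exact Ideal.zero_mem _
  have hdx : D0 A x - D1 A x + D2 A x - D3 A x ∈ JI A (I ^ (2 * k)) 3 := by
    have s1 := log_mul (hJK 3) ha0 (neg_mem ha1) (hu (D0 A)) (log_inv (hJK 3) ha1 (hu (D1 A)))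
    have s2 := log_mul (hJK 3) (Ideal.add_mem _ ha0 (neg_mem ha1)) ha2 s1 (hu (D2 A))
    have s3 := log_mul (hJK 3) (Ideal.add_mem _ (Ideal.add_mem _ ha0 (neg_mem ha1)) ha2)
      (neg_mem ha3) s2 (log_inv (hJK 3) ha3 (hu (D3 A)))
    have hb : ((bd2 A ξ : (L A 3)ˣ) : L A 3) = 1 := by rw [hξ]; rfl
    rw [bd2_apply] at hb
    simp only [Units.val_mul] at hb
    rw [hb] at s3
    have : D0 A x - D1 A x + D2 A x - D3 A x =
        -((1 : L A 3) - 1 - (D0 A x + -D1 A x + D2 A x + -D3 A x)) := by ring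
    rw [this]
    exact neg_mem s3
  -- the correction
  set y : L A 1 := hh A x with hy
  have hyJ : y ∈ JI A (I ^ k) 1 := comapDomain_mem_JI _ e0 e0_injective x hx
  have hyu : IsUnit (1 + y) := (isNilpotent_of_mem_JI I n hn 1 k hk y hyJ).isUnit_one_add
  obtain ⟨η, hη⟩ := hyu
  refine ⟨η, ?_⟩
  have hb0 : E0 A y ∈ JI A (I ^ k) 2 := mapDomain_mem_JI _ e0 y hyJ
  have hb1 : E1 A y ∈ JI A (I ^ k) 2 := mapDomain_mem_JI _ e1 y hyJ
  have hb2 : E2 A y ∈ JI A (I ^ k) 2 := mapDomain_mem_JI _ e2 y hyJ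
  have hv : ∀ (F : L A 1 →+* L A 2),
      ((Units.map F.toMonoidHom η : (L A 2)ˣ) : L A 2) - 1 - F y ∈ JI A (I ^ (2 * k)) 2 := by
    intro F
    rw [coe_umap, hη, map_add, map_one]
    have : (1 : L A 2) + F y - 1 - F y = 0 := by ring
    rw [this]; exact Ideal.zero_mem _
  have t1 := log_mul (hJK 2) hb0 (neg_mem hb1) (hv (E0 A)) (log_inv (hJK 2) hb1 (hv (E1 A)))
  have t2 := log_mul (hJK 2) (Ideal.add_mem _ hb0 (neg_mem hb1)) hb2 t1 (hv (E2 A))
  have hbJ : E0 A y + -E1 A y + E2 A y ∈ JI A (I ^ k) 2 :=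
    Ideal.add_mem _ (Ideal.add_mem _ hb0 (neg_mem hb1)) hb2
  have t2' : ((bd1 A η : (L A 2)ˣ) : L A 2) - 1 - (E0 A y + -E1 A y + E2 A y) ∈
      JI A (I ^ (2 * k)) 2 := by
    rw [bd1_apply]
    simp only [Units.val_mul]
    exact t2
  have t3 := log_inv (hJK 2) hbJ t2'
  have hξ0 : (ξ : L A 2) - 1 - x ∈ JI A (I ^ (2 * k)) 2 := by
    rw [hξx]
    have : (1 : L A 2) + x - 1 - x = 0 := by ring
    rw [this]; exact Ideal.zero_mem _
  have t4 := log_mul (hJK 2) hx (neg_mem hbJ) hξ0 t3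
  have hhom := homotopy x
  have hsmall : x + -(E0 A y + -E1 A y + E2 A y) ∈ JI A (I ^ (2 * k)) 2 := by
    have : x + -(E0 A y + -E1 A y + E2 A y) = hh' A (D0 A x - D1 A x + D2 A x - D3 A x) := by
      conv_lhs => rw [hhom]
      rw [← hy]
      abel
    rw [this]
    exact comapDomain_mem_JI _ d0 d0_injective _ hdx
  have := Ideal.add_mem _ t4 hsmall
  rw [Units.val_mul]
  convert this using 1
  ring

theorem nil_induction (I : Ideal A) (n : ℕ) (hn : I ^ n = ⊥) (m : ℕ) :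
    ∀ k : ℕ, 1 ≤ k → n ≤ k * 2 ^ m → ∀ ξ : (L A 2)ˣ, bd2 A ξ = 1 →
      (ξ : L A 2) - 1 ∈ JI A (I ^ k) 2 → ∃ η : (L A 1)ˣ, ξ = bd1 A η := by
  induction m with
  | zero =>
    intro k hk hnk ξ _ hx
    rw [pow_zero, mul_one] at hnk
    have h0 : I ^ k = ⊥ := by
      rw [eq_bot_iff, ← hn]
      exact Ideal.pow_le_pow_right hnk
    rw [h0, JI_bot, Ideal.mem_bot, sub_eq_zero] at hx
    refine ⟨1, ?_⟩
    rw [map_one]
    exact Units.ext hx
  | succ m ih =>
    intro k hk hnk ξ hξ hx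
    obtain ⟨η₁, h1⟩ := nil_step I n hn k hk ξ hξ hx
    have h2 : bd2 A (ξ * (bd1 A η₁)⁻¹) = 1 := by
      rw [map_mul, map_inv, hξ, bd2_bd1, inv_one, mul_one]
    have hnk' : n ≤ (2 * k) * 2 ^ m := by
      rw [pow_succ] at hnk
      calc n ≤ k * (2 ^ m * 2) := hnk
        _ = (2 * k) * 2 ^ m := by ring
    obtain ⟨η₂, h3⟩ := ih (2 * k) (by omega) hnk' _ h2 h1
    refine ⟨η₂ * η₁, ?_⟩
    rw [map_mul, ← h3, inv_mul_cancel_right]

/-! ### reduction modulo primes -/

theorem rel_of_cocycle (ξ : (L A 2)ˣ) (hξ : bd2 A ξ = 1) :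
    D0 A ξ * D2 A ξ = D1 A ξ * D3 A ξ := by
  rw [bd2_apply] at hξ
  have h : Units.map (D0 A).toMonoidHom ξ * Units.map (D2 A).toMonoidHom ξ =
      Units.map (D1 A).toMonoidHom ξ * Units.map (D3 A).toMonoidHom ξ := by
    have h1 := hξ
    rw [mul_inv_eq_one] at h1
    rw [← h1]
    apply Additive.ofMul.injective
    simp only [ofMul_mul, ofMul_inv]
    abel
  exact congrArg Units.val h

theorem coeff_mod_prime (P : Ideal A) [P.IsPrime] (ξ : (L A 2)ˣ) (hξ : bd2 A ξ = 1) :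
    (∀ g : Z 2, g ≠ 0 → (ξ : L A 2).coeff g ∈ P) ∧ (ξ : L A 2).coeff 0 ∉ P := by
  let ρ₂ := AddMonoidAlgebra.mapRingHom (Z 2) (Ideal.Quotient.mk P)
  let ρ₃ := AddMonoidAlgebra.mapRingHom (Z 3) (Ideal.Quotient.mk P)
  have hunit : ρ₂ (ξ : L A 2) * ρ₂ ((ξ⁻¹ : (L A 2)ˣ) : L A 2) = 1 := by
    rw [← map_mul, Units.mul_inv, map_one]
  obtain ⟨a, c, hc, hac⟩ := exists_single_of_mul_eq_one _ _ hunit
  have hrel := congrArg ρ₃ (rel_of_cocycle ξ hξ)
  have hnat : ∀ φ : Z 2 →+ Z 3, ρ₃ (AddMonoidAlgebra.mapDomainRingHom A φ (ξ : L A 2)) =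
      AddMonoidAlgebra.single (φ a) c := by
    intro φ
    have := congrArg (fun F => F (ξ : L A 2))
      (AddMonoidAlgebra.mapRingHom_comp_mapDomainRingHom (Ideal.Quotient.mk P) φ)
    simp only [RingHom.comp_apply] at this
    rw [this]
    change AddMonoidAlgebra.mapDomainRingHom (A ⧸ P) φ (ρ₂ (ξ : L A 2)) = _
    rw [hac, AddMonoidAlgebra.mapDomainRingHom_apply, AddMonoidAlgebra.mapDomain_single]
  rw [map_mul, map_mul] at hrel
  simp only [D0, D1, D2, D3] at hrel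
  rw [hnat, hnat, hnat, hnat, AddMonoidAlgebra.single_mul_single,
    AddMonoidAlgebra.single_mul_single] at hrel
  have hcc : c * c ≠ 0 := mul_ne_zero hc hc
  have hexp : d0 a + d2 a = d1 a + d3 a := (AddMonoidAlgebra.single_left_inj hcc).1 hrel
  have ha : a = 0 := by
    rw [d0_apply, d1_apply, d2_apply, d3_apply] at hexp
    have h0 := congrFun hexp 0
    have h2 := congrFun hexp 2
    simp at h0 h2
    ext i; fin_cases i
    · simpa using h0
    · simpa using h2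
  subst ha
  have hcoeff : ∀ g : Z 2, Ideal.Quotient.mk P ((ξ : L A 2).coeff g) =
      (AddMonoidAlgebra.single (0 : Z 2) c).coeff g := by
    intro g
    rw [← hac, AddMonoidAlgebra.coeff_mapRingHom]
  constructor
  · intro g hg
    have := hcoeff g
    rw [AddMonoidAlgebra.coeff_single, Finsupp.single_eq_of_ne hg] at this
    exact Ideal.Quotient.eq_zero_iff_mem.1 this
  · intro h0
    have := hcoeff 0
    rw [AddMonoidAlgebra.coeff_single, Finsupp.single_eq_same,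
      Ideal.Quotient.eq_zero_iff_mem.2 h0] at this
    exact hc this.symm

/-! ### constants -/

variable (A) in
def cst (p : ℕ) : Aˣ →* (L A p)ˣ :=
  Units.map (AddMonoidAlgebra.singleZeroRingHom (R := A) (M := Z p)).toMonoidHom

theorem coe_cst (p : ℕ) (u : Aˣ) : ((cst A p u : (L A p)ˣ) : L A p) =
    AddMonoidAlgebra.single 0 (u : A) := rfl

theorem umap_cst {p q : ℕ} (φ : Z p →+ Z q) (u : Aˣ) :
    Units.map (AddMonoidAlgebra.mapDomainRingHom A φ).toMonoidHom (cst A p u) = cst A q u := by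
  apply Units.ext
  rw [coe_umap, coe_cst, coe_cst, AddMonoidAlgebra.mapDomainRingHom_apply,
    AddMonoidAlgebra.mapDomain_single, map_zero]

theorem bd1_cst (u : Aˣ) : bd1 A (cst A 1 u) = cst A 2 u := by
  rw [bd1_apply]
  simp only [E0, E1, E2, umap_cst]
  rw [mul_inv_cancel, one_mul]

theorem bd2_cst (u : Aˣ) : bd2 A (cst A 2 u) = 1 := by
  rw [bd2_apply]
  simp only [D0, D1, D2, D3, umap_cst]
  rw [mul_inv_cancel, one_mul, mul_inv_cancel]

theorem main (ξ : (L A 2)ˣ) (hξ : bd2 A ξ = 1) : ∃ η : (L A 1)ˣ, ξ = bd1 A η := by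
  classical
  -- the constant coefficient is a unit
  have hunit0 : IsUnit ((ξ : L A 2).coeff 0) := by
    by_contra hnu
    obtain ⟨M, hM, hmem⟩ := exists_max_ideal_of_mem_nonunits hnu
    haveI := hM.isPrime
    exact (coeff_mod_prime M ξ hξ).2 hmem
  have hnil : ∀ g : Z 2, g ≠ 0 → (ξ : L A 2).coeff g ∈ nilradical A := by
    intro g hg
    rw [nilradical_eq_sInf, Ideal.mem_sInf]
    intro P hP
    haveI : P.IsPrime := hP
    exact (coeff_mod_prime P ξ hξ).1 g hg
  obtain ⟨u, hu⟩ := hunit0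
  set ξ' : (L A 2)ˣ := ξ * (cst A 2 u)⁻¹ with hξ'
  have hξ'c : bd2 A ξ' = 1 := by
    rw [hξ', map_mul, map_inv, hξ, bd2_cst, inv_one, mul_one]
  set ν : L A 2 := (ξ' : L A 2) - 1 with hν
  have hcoeff : ∀ g : Z 2, ν.coeff g ∈ nilradical A := by
    intro g
    have h1 : (ξ' : L A 2) = (ξ : L A 2) * AddMonoidAlgebra.single 0 ((u⁻¹ : Aˣ) : A) := by
      rw [hξ', Units.val_mul, ← map_inv, coe_cst]
    rw [hν, AddMonoidAlgebra.coeff_sub, h1, Finsupp.sub_apply,
      AddMonoidAlgebra.coeff_mul_single_zero, AddMonoidAlgebra.one_def,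
      AddMonoidAlgebra.coeff_single]
    by_cases hg : g = 0
    · subst hg
      rw [← hu, Finsupp.single_eq_same, Units.mul_inv, sub_self]
      exact Ideal.zero_mem _
    · rw [Finsupp.single_eq_of_ne hg, sub_zero]
      exact Ideal.mul_mem_right _ _ (hnil g hg)
  let I : Ideal A := Ideal.span ((ν.coeff.support.image ν.coeff : Finset A) : Set A)
  have hIfg : I.FG := ⟨_, rfl⟩
  have hIle : I ≤ nilradical A := by
    rw [Ideal.span_le]
    intro a ha
    rw [Finset.mem_coe, Finset.mem_image] at ha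
    obtain ⟨g, _, rfl⟩ := ha
    exact hcoeff g
  obtain ⟨n, hn⟩ := (Ideal.FG.isNilpotent_iff_le_nilradical hIfg).2 hIle
  rw [Ideal.zero_eq_bot] at hn
  have hνI : ν ∈ JI A (I ^ 1) 2 := by
    rw [pow_one, mem_JI_iff]
    intro g
    by_cases hg : g ∈ ν.coeff.support
    · exact Ideal.subset_span (Finset.mem_coe.2 (Finset.mem_image_of_mem _ hg))
    · rw [Finsupp.notMem_support_iff.1 hg]
      exact Ideal.zero_mem _
  have hn2 : n ≤ 1 * 2 ^ n := by
    rw [one_mul]; exact (Nat.lt_two_pow_self).le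
  obtain ⟨η', hη'⟩ := nil_induction I n hn n 1 le_rfl hn2 ξ' hξ'c hνI
  refine ⟨η' * cst A 1 u, ?_⟩
  rw [map_mul, bd1_cst, ← hη', hξ', inv_mul_cancel_right]

end maps

end Groth.Agent.Lib.Helper15.LaurentCocycle
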