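import Mathlib

/-!
# The spectrum of an algebra integral over a field is totally disconnected (helper15)
-/

set_option autoImplicit false
universe u
open Polynomial

namespace Groth.Agent.Lib.Helper15.ZeroDim

variable {K : Type u} [Field K] {T : Type u} [CommRing T] [Algebra K T]

include K in
/-- separating idempotents in an algebra integral over a field -/
theorem exists_idempotent_sep [Algebra.IsIntegral K T] (P Q : Ideal T) [P.IsPrime] [Q.IsPrime]
    (a : T) (haP : a ∈ P) (haQ : a ∉ Q) :
    ∃ e : T, IsIdempotentElem e ∧ e ∉ P ∧ e ∈ Q := by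
  obtain ⟨m, hm, hma⟩ := Algebra.IsIntegral.isIntegral (R := K) (A := T) a
  rw [← Polynomial.aeval_def] at hma
  have hm0 : X * m ≠ 0 := mul_ne_zero Polynomial.X_ne_zero hm.ne_zero
  obtain ⟨m₁, hm₁, hnd⟩ := Polynomial.exists_eq_pow_rootMultiplicity_mul_and_not_dvd (X * m) hm0 0
  rw [Polynomial.C_0, sub_zero] at hm₁ hnd
  obtain ⟨r, hr⟩ : ∃ r, r = Polynomial.rootMultiplicity 0 (X * m) := ⟨_, rfl⟩
  rw [← hr] at hm₁
  have hrpos : 0 < r := by
    rw [hr, Polynomial.rootMultiplicity_pos hm0]
    simp
  have hcop : IsCoprime ((X : K[X]) ^ r) m₁ :=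
    ((Polynomial.irreducible_X (R := K)).coprime_iff_not_dvd.mpr hnd).pow_left
  obtain ⟨u, v, huv⟩ := hcop
  have hkill : Polynomial.aeval a (X ^ r * m₁) = 0 := by
    rw [← hm₁, map_mul, hma, mul_zero]
  refine ⟨Polynomial.aeval a (v * m₁), ?_, ?_, ?_⟩
  · have h1 : Polynomial.aeval a (v * m₁) * (1 - Polynomial.aeval a (v * m₁)) = 0 := by
      have h2 : (1 : T) - Polynomial.aeval a (v * m₁) = Polynomial.aeval a (u * X ^ r) := by
        rw [← map_one (Polynomial.aeval (R := K) a), ← huv, map_add]
        ring
      rw [h2, ← map_mul]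
      have h3 : v * m₁ * (u * X ^ r) = u * v * (X ^ r * m₁) := by ring
      rw [h3, map_mul, hkill, mul_zero]
    unfold IsIdempotentElem
    rw [mul_sub, mul_one, sub_eq_zero] at h1
    exact h1.symm
  · intro he
    have h2 : (1 : T) - Polynomial.aeval a (v * m₁) = Polynomial.aeval a (u * X ^ r) := by
      rw [← map_one (Polynomial.aeval (R := K) a), ← huv, map_add]
      ring
    have h3 : Polynomial.aeval a (u * X ^ r) ∈ P := by
      rw [map_mul, map_pow, Polynomial.aeval_X]
      exact Ideal.mul_mem_left _ _ (Ideal.pow_mem_of_mem _ haP r hrpos)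
    rw [← h2] at h3
    have h4 := Ideal.add_mem _ he h3
    rw [add_sub_cancel] at h4
    exact (Ideal.IsPrime.ne_top inferInstance) ((Ideal.eq_top_iff_one P).mpr h4)
  · have h1 : Polynomial.aeval a (v * m₁) * a ^ r = 0 := by
      have : Polynomial.aeval a (v * m₁) * a ^ r = Polynomial.aeval a (v * (X ^ r * m₁)) := by
        rw [map_mul, map_mul, map_mul, map_pow, Polynomial.aeval_X]
        ring
      rw [this, map_mul, hkill, mul_zero]
    have h2 : Polynomial.aeval a (v * m₁) * a ^ r ∈ Q := by rw [h1]; exact Ideal.zero_mem _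
    rcases (Ideal.IsPrime.mem_or_mem inferInstance h2) with h | h
    · exact h
    · exact absurd (Ideal.IsPrime.mem_of_pow_mem inferInstance r h) haQ

include K in
theorem isMaximal_of_isIntegral [Algebra.IsIntegral K T] (P : Ideal T) [P.IsPrime] :
    P.IsMaximal := by
  have : (P.comap (algebraMap K T)).IsMaximal := by
    have h : P.comap (algebraMap K T) = ⊥ := by
      rcases Ideal.eq_bot_or_top (P.comap (algebraMap K T)) with h | h
      · exact h
      · exact absurd h (Ideal.IsPrime.ne_top inferInstance)
    rw [h]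
    exact Ideal.bot_isMaximal
  exact Ideal.isMaximal_of_isIntegral_of_isMaximal_comap P this

variable (K) in
theorem totallySeparatedSpace [Algebra.IsIntegral K T] :
    TotallySeparatedSpace (PrimeSpectrum T) := by
  rw [totallySeparatedSpace_iff_exists_isClopen]
  intro x y hxy
  have hxmax : x.asIdeal.IsMaximal := isMaximal_of_isIntegral (K := K) x.asIdeal
  have hnle : ¬ x.asIdeal ≤ y.asIdeal := by
    intro hle
    have := hxmax.eq_of_le (Ideal.IsPrime.ne_top inferInstance) hle
    exact hxy (PrimeSpectrum.ext this)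
  obtain ⟨a, haP, haQ⟩ := Set.not_subset.mp hnle
  obtain ⟨e, he, heP, heQ⟩ := exists_idempotent_sep (K := K) x.asIdeal y.asIdeal a haP haQ
  refine ⟨PrimeSpectrum.basicOpen e, PrimeSpectrum.isClopen_iff.mpr ⟨e, he, rfl⟩, ?_, ?_⟩
  · exact heP
  · intro h
    exact h heQ

variable (K) in
theorem mk_bijective [Algebra.IsIntegral K T] :
    Function.Bijective
      (ConnectedComponents.mk : PrimeSpectrum T → ConnectedComponents (PrimeSpectrum T)) := by
  haveI := totallySeparatedSpace K (T := T)
  refine ⟨fun x y h => ?_, ConnectedComponents.surjective_coe⟩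
  rw [ConnectedComponents.coe_eq_coe, connectedComponent_eq_singleton,
    connectedComponent_eq_singleton] at h
  exact Set.singleton_injective h

variable (K) in
/-- for an algebra integral over a field, points of the spectrum are its connected components -/
theorem card_primeSpectrum [Algebra.IsIntegral K T] :
    Nat.card (PrimeSpectrum T) = Nat.card (ConnectedComponents (PrimeSpectrum T)) :=
  Nat.card_eq_of_bijective _ (mk_bijective K)

variable (K) in
theorem finite_primeSpectrum [Algebra.IsIntegral K T]
    [Finite (ConnectedComponents (PrimeSpectrum T))] : Finite (PrimeSpectrum T) :=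
  Finite.of_injective _ (mk_bijective K (T := T)).1

end Groth.Agent.Lib.Helper15.ZeroDim
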