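import Mathlib
import Groth.Agent.Lib.Helper15.LawImage
import Groth.Agent.Lib.Helper15.ZeroDim
import Groth.Agent.Lib.Helper15.LawCHKer

/-!
# Multiplicative laws over a field: the image has finite spectrum of at most `d` closed points (helper15)
-/

set_option autoImplicit false
universe u
open scoped TensorProduct

namespace Groth.Agent.Lib.Helper15.LawField

theorem isIntegral_image {A : Type u} [CommRing A] {B : Type u} [CommRing B] [Algebra A B]
    {d : ℕ} (F : PolLaw.MulLaw A B A d) :
    Algebra.IsIntegral A (PolLaw.image F.law) := by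
  constructor
  intro q
  obtain ⟨b, rfl⟩ := Ideal.Quotient.mk_surjective q
  let χ := Groth.Agent.Lib.Helper15.LawCHKer.chiB F b
  refine ⟨Polynomial.C ((-1 : A) ^ d) * χ, ?_, ?_⟩
  · apply Polynomial.monic_of_natDegree_le_of_coeff_eq_one d
    · refine (Polynomial.natDegree_C_mul_le _ _).trans ?_
      exact Groth.Agent.Lib.Helper15.LawCHKer.chiB_natDegree_le F b
    · rw [Polynomial.coeff_C_mul, Groth.Agent.Lib.Helper15.LawCHKer.chiB_coeff_d, ← mul_pow]
      norm_num
  · have h1 : Polynomial.aeval (Ideal.Quotient.mk (PolLaw.ker F.law) b) χ = 0 := by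
      have h2 := Polynomial.aeval_algHom_apply (Ideal.Quotient.mkₐ A (PolLaw.ker F.law)) b χ
      have h3 : (Ideal.Quotient.mkₐ A (PolLaw.ker F.law)) b =
          Ideal.Quotient.mk (PolLaw.ker F.law) b := rfl
      rw [h3] at h2
      rw [h2]
      exact Ideal.Quotient.eq_zero_iff_mem.mpr
        (Groth.Agent.Lib.Helper15.LawCHKer.aeval_chiB_mem_ker F b)
    rw [← Polynomial.aeval_def, map_mul, h1, mul_zero]

variable {k : Type u} [Field k] {B : Type u} [CommRing B] [Algebra k B] {d : ℕ}
  (F : PolLaw.MulLaw k B k d)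

theorem field_main : Finite (PrimeSpectrum (PolLaw.image F.law)) ∧
    Nat.card (PrimeSpectrum (PolLaw.image F.law)) ≤ d ∧
    ∀ P : PrimeSpectrum (PolLaw.image F.law), P.asIdeal.IsMaximal := by
  haveI := isIntegral_image F
  obtain ⟨hfin, hcard⟩ := LawImage.main F
  refine ⟨ZeroDim.finite_primeSpectrum k, ?_, ?_⟩
  · rw [ZeroDim.card_primeSpectrum k]
    exact hcard
  · intro P
    exact ZeroDim.isMaximal_of_isIntegral (K := k) P.asIdeal

end Groth.Agent.Lib.Helper15.LawField
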