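import Mathlib
import Groth.Agent.Lib.Helper15.LawField
import Groth.Agent.Lib.Helper15.KerBCInj
import Groth.Agent.Lib.Helper15.BCLaw

/-!
# Going down for the image of a family of zero-cycles (helper15)
-/

set_option autoImplicit false
universe u
open scoped TensorProduct

namespace Groth.Agent.Lib.Helper15.LawGoingDown

variable {A : Type u} [CommRing A] {B : Type u} [CommRing B] [Algebra A B]
  {d : ℕ} (F : PolLaw.MulLaw A B A d)

theorem includeRight_comp_algebraMap (A' : Type u) [CommRing A'] [Algebra A A'] :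
    ((Algebra.TensorProduct.includeRight : B →ₐ[A] A' ⊗[A] B) : B →+* A' ⊗[A] B).comp
      (algebraMap A B) = (algebraMap A' (A' ⊗[A] B)).comp (algebraMap A A') := by
  ext a
  rw [RingHom.comp_apply, RingHom.comp_apply, Algebra.TensorProduct.algebraMap_apply]
  change (1 : A') ⊗ₜ[A] (algebraMap A B a) = _
  rw [Algebra.algebraMap_eq_smul_one, Algebra.algebraMap_eq_smul_one (R := A),
    TensorProduct.tmul_smul, TensorProduct.smul_tmul']
  rfl

/-- over a domain, minimal primes over the kernel contract to zero -/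
theorem comap_eq_bot_of_minimal [IsDomain A] {P : Ideal B}
    (hP : P ∈ (PolLaw.ker F.law).minimalPrimes) : P.comap (algebraMap A B) = ⊥ := by
  classical
  have hinj : Function.Injective (algebraMap A (FractionRing A)) :=
    IsFractionRing.injective A (FractionRing A)
  have hcomap := Groth.Agent.Lib.Helper15.KerBCInj.comap_kerBC F (FractionRing A) hinj
  have hP' := hP
  rw [← hcomap] at hP'
  obtain ⟨Q', hQ'prime, hQ'le, hQ'eq⟩ := Ideal.exists_comap_eq_of_mem_minimalPrimes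
    ((Algebra.TensorProduct.includeRight : B →ₐ[A] (FractionRing A) ⊗[A] B) :
      B →+* (FractionRing A) ⊗[A] B) P hP'
  rw [← hQ'eq, Ideal.comap_comap, includeRight_comp_algebraMap, ← Ideal.comap_comap]
  have hbot : Q'.comap (algebraMap (FractionRing A) ((FractionRing A) ⊗[A] B)) = ⊥ := by
    rcases Ideal.eq_bot_or_top
      (Q'.comap (algebraMap (FractionRing A) ((FractionRing A) ⊗[A] B))) with h | h
    · exact h
    · exfalso
      exact (Ideal.comap_isPrime (algebraMap (FractionRing A) ((FractionRing A) ⊗[A] B))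
        Q').ne_top h
  rw [hbot, ← RingHom.ker_eq_comap_bot]
  exact (RingHom.injective_iff_ker_eq_bot _).mp hinj

/-- a prime containing the extension of `ker F` contains `kerBC` -/
theorem kerBC_le_of_prime (A' : Type u) [CommRing A'] [Algebra A A'] (Q : Ideal (A' ⊗[A] B))
    [Q.IsPrime] (h : (PolLaw.ker F.law).map
      (Algebra.TensorProduct.includeRight : B →ₐ[A] A' ⊗[A] B) ≤ Q) :
    PolLaw.kerBC F.law A' ≤ Q := by
  have h1 : (PolLaw.kerBC F.law A').radical ≤ Q := by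
    rw [LawCH2.radical_kerBC F A']
    exact (Ideal.IsPrime.radical_le_iff ‹Q.IsPrime›).mpr h
  exact Ideal.le_radical.trans h1

/-- going down for `Spec (B ⧸ ker F) → Spec A` -/
theorem goingDown (Q : Ideal B) [Q.IsPrime] (hQ : PolLaw.ker F.law ≤ Q) (q : Ideal A) [q.IsPrime]
    (hq : q ≤ Q.comap (algebraMap A B)) :
    ∃ Q₀ : Ideal B, Q₀.IsPrime ∧ PolLaw.ker F.law ≤ Q₀ ∧ Q₀ ≤ Q ∧
      Q₀.comap (algebraMap A B) = q := by
  classical
  let c : B →ₐ[A] (A ⧸ q) ⊗[A] B := Algebra.TensorProduct.includeRight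
  -- the map `(A/q) ⊗ B → B/Q`
  let g₁ : A ⧸ q →ₐ[A] B ⧸ Q := Ideal.Quotient.liftₐ q (Algebra.ofId A (B ⧸ Q)) (by
    intro a ha
    have h1 : algebraMap A B a ∈ Q := hq ha
    change algebraMap A (B ⧸ Q) a = 0
    rw [IsScalarTower.algebraMap_apply A B (B ⧸ Q)]
    exact Ideal.Quotient.eq_zero_iff_mem.mpr h1)
  let ψ : (A ⧸ q) ⊗[A] B →ₐ[A] B ⧸ Q :=
    Algebra.TensorProduct.productMap g₁ (Ideal.Quotient.mkₐ A Q)
  let Q₁ : Ideal ((A ⧸ q) ⊗[A] B) := RingHom.ker (ψ : (A ⧸ q) ⊗[A] B →+* B ⧸ Q)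
  haveI hQ₁ : Q₁.IsPrime := RingHom.ker_isPrime _
  have hcQ₁ : Q₁.comap (c : B →+* (A ⧸ q) ⊗[A] B) = Q := by
    ext b
    rw [Ideal.mem_comap, RingHom.mem_ker]
    change ψ ((1 : A ⧸ q) ⊗ₜ[A] b) = 0 ↔ _
    rw [Algebra.TensorProduct.productMap_apply_tmul, map_one, one_mul]
    exact Ideal.Quotient.eq_zero_iff_mem
  have hle₁ : PolLaw.kerBC F.law (A ⧸ q) ≤ Q₁ := by
    apply kerBC_le_of_prime F (A ⧸ q) Q₁
    rw [Ideal.map_le_iff_le_comap]
    exact hQ.trans hcQ₁.ge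
  have hker₁ : PolLaw.ker (BCLaw.bcLaw (A ⧸ q) F).law = PolLaw.kerBC F.law (A ⧸ q) :=
    BCLaw.ker_bcLaw (A' := A ⧸ q) F
  obtain ⟨P₁, hP₁min, hP₁le⟩ := Ideal.exists_minimalPrimes_le (hker₁.le.trans hle₁)
  have hP₁bot := comap_eq_bot_of_minimal (BCLaw.bcLaw (A ⧸ q) F) hP₁min
  haveI : P₁.IsPrime := hP₁min.1.1
  refine ⟨P₁.comap (c : B →+* (A ⧸ q) ⊗[A] B), Ideal.comap_isPrime _ _, ?_, ?_, ?_⟩
  · have h1 : PolLaw.ker F.law ≤ (PolLaw.kerBC F.law (A ⧸ q)).comap
        (c : B →+* (A ⧸ q) ⊗[A] B) := by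
      rw [← Ideal.map_le_iff_le_comap]
      exact LawCH2.map_ker_le_kerBC F (A ⧸ q)
    refine h1.trans (Ideal.comap_mono ?_)
    rw [← hker₁]
    exact hP₁min.1.2
  · rw [← hcQ₁]
    exact Ideal.comap_mono hP₁le
  · rw [Ideal.comap_comap, includeRight_comp_algebraMap, ← Ideal.comap_comap, hP₁bot,
      ← RingHom.ker_eq_comap_bot]
    exact Ideal.mk_ker

end Groth.Agent.Lib.Helper15.LawGoingDown
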