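import Mathlib

/-!
# Transfer of spectra along surjections with the same radical kernel (helper15)
-/

set_option autoImplicit false
universe u

namespace Groth.Agent.Lib.Helper15.SpecTransfer

variable {R S T : Type u} [CommRing R] [CommRing S] [CommRing T]

/-- two quotients of `R` by ideals with the same radical have the same spectrum -/
noncomputable def equivOfRadical (f : R →+* S) (g : R →+* T) (hf : Function.Surjective f)
    (hg : Function.Surjective g)
    (h : (RingHom.ker f).radical = (RingHom.ker g).radical) :
    PrimeSpectrum S ≃ PrimeSpectrum T :=
  (Equiv.ofInjective _ (PrimeSpectrum.comap_injective_of_surjective f hf)).trans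
    ((Equiv.setCongr (by
      rw [range_comap_of_surjective _ f hf,
        range_comap_of_surjective _ g hg, ← PrimeSpectrum.zeroLocus_radical, h,
        PrimeSpectrum.zeroLocus_radical])).trans
    (Equiv.ofInjective _ (PrimeSpectrum.comap_injective_of_surjective g hg)).symm)

theorem comap_equivOfRadical (f : R →+* S) (g : R →+* T) (hf : Function.Surjective f)
    (hg : Function.Surjective g)
    (h : (RingHom.ker f).radical = (RingHom.ker g).radical) (P : PrimeSpectrum S) :
    PrimeSpectrum.comap g (equivOfRadical f g hf hg h P) = PrimeSpectrum.comap f P := by
  unfold equivOfRadical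
  simp only [Equiv.trans_apply]
  erw [Equiv.apply_ofInjective_symm (PrimeSpectrum.comap_injective_of_surjective g hg)]
  rfl

theorem comap_equivOfRadical_symm (f : R →+* S) (g : R →+* T) (hf : Function.Surjective f)
    (hg : Function.Surjective g)
    (h : (RingHom.ker f).radical = (RingHom.ker g).radical) (P' : PrimeSpectrum T) :
    PrimeSpectrum.comap f ((equivOfRadical f g hf hg h).symm P') = PrimeSpectrum.comap g P' := by
  rw [← comap_equivOfRadical f g hf hg h, Equiv.apply_symm_apply]

theorem continuous_equivOfRadical_symm (f : R →+* S) (g : R →+* T) (hf : Function.Surjective f)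
    (hg : Function.Surjective g)
    (h : (RingHom.ker f).radical = (RingHom.ker g).radical) :
    Continuous (equivOfRadical f g hf hg h).symm := by
  rw [(PrimeSpectrum.isClosedEmbedding_comap_of_surjective S f hf).isInducing.continuous_iff]
  have : (PrimeSpectrum.comap f) ∘ (equivOfRadical f g hf hg h).symm = PrimeSpectrum.comap g := by
    funext P'
    exact comap_equivOfRadical_symm f g hf hg h P'
  rw [this]
  exact PrimeSpectrum.continuous_comap g

theorem continuous_equivOfRadical (f : R →+* S) (g : R →+* T) (hf : Function.Surjective f)
    (hg : Function.Surjective g)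
    (h : (RingHom.ker f).radical = (RingHom.ker g).radical) :
    Continuous (equivOfRadical f g hf hg h) := by
  rw [(PrimeSpectrum.isClosedEmbedding_comap_of_surjective T g hg).isInducing.continuous_iff]
  have : (PrimeSpectrum.comap g) ∘ (equivOfRadical f g hf hg h) = PrimeSpectrum.comap f := by
    funext P'
    exact comap_equivOfRadical f g hf hg h P'
  rw [this]
  exact PrimeSpectrum.continuous_comap f

end Groth.Agent.Lib.Helper15.SpecTransfer
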