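import Mathlib
import Groth.Agent.Lib.Helper15.LawCH2
import Groth.Agent.Lib.Helper15.LawField
import Groth.Agent.Lib.Helper15.BCLaw
import Groth.Agent.Lib.Helper15.LawGoingDown
import Groth.Agent.Lib.Helper15.SpecTransfer

/-!
# The image of a family of zero-cycles is open over the base (helper15)

The image of the basic open `D(b)` of `Spec (B ⧸ ker F)` in `Spec A` is the union of the basic opens
of the lower coefficients of the characteristic polynomial of `b`.
-/

set_option autoImplicit false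
universe u
open scoped TensorProduct
open Polynomial

namespace Groth.Agent.Lib.Helper15.LawOpen

open Groth.Agent.Lib.Helper15.PolLawPoly Groth.Agent.Lib.Helper15.LawReduced
  Groth.Agent.Lib.Helper15.LawCH Groth.Agent.Lib.Helper15.LawCHKer
  Groth.Agent.Lib.Helper15.LawCH2 Groth.Agent.Lib.Helper15.PolyLine

variable {A : Type u} [CommRing A] {B : Type u} [CommRing B] [Algebra A B]
  {d : ℕ} (F : PolLaw.MulLaw A B A d)

/-- a polynomial over a field of degree `≤ d` with `d`-th coefficient `(-1)^d` dividing a power of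
`X` is `(-X)^d` -/
theorem eq_neg_X_pow {K : Type u} [Field K] (p : K[X]) (d m : ℕ) (hdeg : p.natDegree ≤ d)
    (hco : p.coeff d = (-1) ^ d) (hdvd : p ∣ X ^ m) : p = (-X) ^ d := by
  obtain ⟨i, -, hi⟩ := (dvd_prime_pow Polynomial.prime_X m).mp hdvd
  obtain ⟨u, hu⟩ := hi.symm
  obtain ⟨c, hc, hcu⟩ := Polynomial.isUnit_iff.mp u.isUnit
  rw [← hcu] at hu
  have hc0 : c ≠ 0 := hc.ne_zero
  have hne : ((-1 : K) ^ d) ≠ 0 := pow_ne_zero _ (neg_ne_zero.mpr one_ne_zero)
  have hid : i = d := by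
    by_contra hne'
    rw [← hu, Polynomial.coeff_X_pow_mul'] at hco
    have hdeg' : p.natDegree = i := by
      rw [← hu, Polynomial.natDegree_mul (pow_ne_zero _ Polynomial.X_ne_zero)
        (Polynomial.C_ne_zero.mpr hc0), Polynomial.natDegree_X_pow, Polynomial.natDegree_C,
        add_zero]
    rw [hdeg'] at hdeg
    rw [if_pos hdeg] at hco
    have hlt : 0 < d - i := Nat.sub_pos_of_lt (lt_of_le_of_ne hdeg hne')
    rw [Polynomial.coeff_C, if_neg hlt.ne'] at hco
    exact hne hco.symm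
  subst hid
  rw [← hu, Polynomial.coeff_X_pow_mul', if_pos le_rfl, Nat.sub_self, Polynomial.coeff_C_zero]
    at hco
  rw [← hu, hco, neg_pow (X : K[X]), mul_comm]
  congr 1
  rw [map_pow, map_neg, map_one]

/-- the characteristic polynomial of an element nilpotent modulo the kernel of the base change
to a field -/
theorem chi_of_pow_mem_kerBC (K : Type u) [Field K] [Algebra A K] (y : K ⊗[A] B) (n : ℕ)
    (hy : y ^ n ∈ PolLaw.kerBC F.law K) : chi F K y = (-X) ^ d := by
  apply eq_neg_X_pow (chi F K y) d (n * d) (chi_natDegree_le' F K y) (chi_coeff_d' F K y)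
  have hrid : ∀ z : K[X] ⊗[A] A, TensorProduct.rid A K[X] z =
      Algebra.TensorProduct.rid A A K[X] z := fun z => rfl
  set Y : K[X] ⊗[A] B := Algebra.TensorProduct.map (ι (A := A) (P := K)) (AlgHom.id A B) y with hY
  set Xt : K[X] ⊗[A] B := (X : K[X]) ⊗ₜ[A] (1 : B) with hXt
  obtain ⟨G, hG⟩ := sub_dvd_pow_sub_pow Y Xt n
  have h1 := hy K[X] (-(Xt ^ n)) 1
  have h0 : IsScalarTower.toAlgHom A K K[X] = ι (A := A) (P := K) := by
    apply AlgHom.ext
    intro a
    rfl
  rw [h0, one_mul, map_pow, ← hY, neg_add_eq_sub] at h1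
  have h2 : -(Xt ^ n) = (-(X : K[X]) ^ n) • (1 : K[X] ⊗[A] B) := by
    rw [hXt, Algebra.TensorProduct.one_def, TensorProduct.smul_tmul', smul_eq_mul, mul_one,
      Algebra.TensorProduct.tmul_pow, one_pow, TensorProduct.neg_tmul]
  have h3 : F.law.toFun' K[X] (Y ^ n - Xt ^ n) = ((-(X : K[X]) ^ n) ^ d) ⊗ₜ[A] (1 : A) := by
    rw [h1, h2, F.homog, (F.mult _).1, Algebra.TensorProduct.one_def, TensorProduct.smul_tmul',
      smul_eq_mul, mul_one]
  rw [hG, (F.mult _).2] at h3
  have h4 := congrArg (Algebra.TensorProduct.rid A A K[X]) h3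
  rw [map_mul, Algebra.TensorProduct.rid_tmul, one_smul] at h4
  have h5 : chi F K y = Algebra.TensorProduct.rid A A K[X] (F.law.toFun' K[X] (Y - Xt)) := by
    unfold chi cel
    rw [hrid]
  rw [← h5] at h4
  have h6 : (-(X : K[X]) ^ n) ^ d = (X : K[X]) ^ (n * d) * ((-1 : K[X]) ^ d) := by
    rw [pow_mul, ← mul_pow, mul_neg_one]
  rw [h6] at h4
  have hunit : IsUnit ((-1 : K[X]) ^ d) := (isUnit_one.neg).pow d
  have h7 : chi F K y ∣ (X : K[X]) ^ (n * d) * ((-1 : K[X]) ^ d) := ⟨_, h4.symm⟩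
  exact (hunit.dvd_mul_right).mp h7

/-- a prime of `K ⊗ B` (`K` a field) contracts to `⊥` in `K` -/
theorem comap_algebraMap_eq_bot (K : Type u) [Field K] [Algebra A K] (Q' : Ideal (K ⊗[A] B))
    [Q'.IsPrime] : Q'.comap (algebraMap K (K ⊗[A] B)) = ⊥ := by
  rcases Ideal.eq_bot_or_top (Q'.comap (algebraMap K (K ⊗[A] B))) with h | h
  · exact h
  · exfalso
    exact (Ideal.comap_isPrime (algebraMap K (K ⊗[A] B)) Q').ne_top h

/-- the points of `Spec A` below `D(b) ∩ V(ker F)` -/
theorem exists_prime_iff (b : B) (p : Ideal A) [p.IsPrime] :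
    (∃ Q : Ideal B, Q.IsPrime ∧ PolLaw.ker F.law ≤ Q ∧ Q.comap (algebraMap A B) = p ∧ b ∉ Q) ↔
      ∃ i < d, (chiB F b).coeff i ∉ p := by
  classical
  constructor
  · rintro ⟨Q, hQp, hQker, hQp', hbQ⟩
    by_contra hcon
    push Not at hcon
    apply hbQ
    have hCH : Polynomial.aeval b (chiB F b) ∈ Q := hQker (aeval_chiB_mem_ker F b)
    rw [Polynomial.aeval_eq_sum_range' (Nat.lt_succ_of_le (chiB_natDegree_le F b)),
      Finset.sum_range_succ, chiB_coeff_d] at hCH
    have hsum : ∑ i ∈ Finset.range d, (chiB F b).coeff i • b ^ i ∈ Q := by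
      apply Ideal.sum_mem
      intro i hi
      rw [Algebra.smul_def]
      apply Ideal.mul_mem_right
      have h1 : (chiB F b).coeff i ∈ Q.comap (algebraMap A B) := by
        rw [hQp']
        exact hcon i (Finset.mem_range.mp hi)
      exact h1
    have h2 := (Ideal.add_mem_iff_right Q hsum).mp hCH
    have h3 : b ^ d ∈ Q := by
      have h4 := Q.smul_mem (algebraMap A B ((-1 : A) ^ d)) h2
      rw [smul_eq_mul, Algebra.smul_def, ← mul_assoc, ← map_mul, ← mul_pow] at h4
      simpa using h4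
    exact hQp.mem_of_pow_mem d h3
  · rintro ⟨i, hid, hci⟩
    by_contra hcon
    push Not at hcon
    apply hci
    have hrad : (1 : p.ResidueField) ⊗ₜ[A] b ∈ (PolLaw.kerBC F.law p.ResidueField).radical := by
      rw [radical_kerBC, Ideal.radical_eq_sInf, Ideal.mem_sInf]
      rintro Q' ⟨hQ'le, hQ'p⟩
      have hb := hcon (Q'.comap ((Algebra.TensorProduct.includeRight :
          B →ₐ[A] p.ResidueField ⊗[A] B) : B →+* p.ResidueField ⊗[A] B))
        (Ideal.comap_isPrime _ _) (Ideal.map_le_iff_le_comap.mp hQ'le) (by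
          rw [Ideal.comap_comap, LawGoingDown.includeRight_comp_algebraMap, ← Ideal.comap_comap,
            comap_algebraMap_eq_bot, ← RingHom.ker_eq_comap_bot]
          exact Ideal.ker_algebraMap_residueField p)
      exact hb
    obtain ⟨n, hn⟩ := hrad
    have hchi := chi_of_pow_mem_kerBC F p.ResidueField _ n hn
    rw [chi_one_tmul] at hchi
    have hco := congrArg (fun q => Polynomial.coeff q i) hchi
    simp only [Polynomial.coeff_map] at hco
    rw [neg_pow, ← map_one (Polynomial.C : p.ResidueField →+* _), ← map_neg, ← map_pow,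
      Polynomial.coeff_C_mul, Polynomial.coeff_X_pow, if_neg hid.ne, mul_zero] at hco
    exact Ideal.algebraMap_residueField_eq_zero.mp hco

/-- the image of a basic open of `Spec (B ⧸ ker F)` in `Spec A` -/
theorem image_basicOpen (b : B) :
    PrimeSpectrum.comap (algebraMap A (PolLaw.image F.law)) ''
      (PrimeSpectrum.basicOpen (Ideal.Quotient.mk (PolLaw.ker F.law) b) :
        Set (PrimeSpectrum (PolLaw.image F.law))) =
    ⋃ i : Fin d, (PrimeSpectrum.basicOpen ((chiB F b).coeff i) : Set (PrimeSpectrum A)) := by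
  ext p
  constructor
  · rintro ⟨P, hP, rfl⟩
    have h := (exists_prime_iff F b
      (PrimeSpectrum.comap (algebraMap A (PolLaw.image F.law)) P).asIdeal).mp
      ⟨P.asIdeal.comap (Ideal.Quotient.mk (PolLaw.ker F.law)), Ideal.comap_isPrime _ _, by
        intro z hz
        rw [Ideal.mem_comap, Ideal.Quotient.eq_zero_iff_mem.mpr hz]
        exact Ideal.zero_mem _, by
        rw [Ideal.comap_comap]
        rfl, hP⟩
    obtain ⟨i, hid, hi⟩ := h
    exact Set.mem_iUnion.mpr ⟨⟨i, hid⟩, hi⟩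
  · intro hp
    obtain ⟨⟨i, hid⟩, hi⟩ := Set.mem_iUnion.mp hp
    obtain ⟨Q, hQp, hQker, hQeq, hbQ⟩ := (exists_prime_iff F b p.asIdeal).mpr ⟨i, hid, hi⟩
    have hsurj : Function.Surjective (Ideal.Quotient.mk (PolLaw.ker F.law)) :=
      Ideal.Quotient.mk_surjective
    have hkerle : RingHom.ker (Ideal.Quotient.mk (PolLaw.ker F.law)) ≤ Q := by
      rw [Ideal.mk_ker]
      exact hQker
    have hcm : (Q.map (Ideal.Quotient.mk (PolLaw.ker F.law))).comap
        (Ideal.Quotient.mk (PolLaw.ker F.law)) = Q := by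
      rw [Ideal.comap_map_of_surjective _ hsurj, ← RingHom.ker_eq_comap_bot]
      exact sup_eq_left.mpr hkerle
    refine ⟨⟨Q.map (Ideal.Quotient.mk (PolLaw.ker F.law)),
      Ideal.map_isPrime_of_surjective hsurj hkerle⟩, ?_, ?_⟩
    · intro hmem
      apply hbQ
      rw [← hcm]
      exact hmem
    · apply PrimeSpectrum.ext
      change (Q.map (Ideal.Quotient.mk (PolLaw.ker F.law))).comap
        (algebraMap A (PolLaw.image F.law)) = p.asIdeal
      have h2 : (algebraMap A (PolLaw.image F.law)) =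
          (Ideal.Quotient.mk (PolLaw.ker F.law)).comp (algebraMap A B) := rfl
      rw [h2, ← Ideal.comap_comap, hcm, hQeq]

/-- `Spec (B ⧸ ker F) → Spec A` is an open map -/
theorem isOpenMap_comap :
    IsOpenMap (PrimeSpectrum.comap (algebraMap A (PolLaw.image F.law))) := by
  rw [PrimeSpectrum.isTopologicalBasis_basic_opens.isOpenMap_iff]
  rintro _ ⟨t, rfl⟩
  obtain ⟨b, rfl⟩ := Ideal.Quotient.mk_surjective t
  rw [image_basicOpen]
  exact isOpen_iUnion fun i => (PrimeSpectrum.basicOpen _).isOpen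

section bc

variable (A' : Type u) [CommRing A'] [Algebra A A']

/-- `A' ⊗ B → A' ⊗ (B ⧸ ker F)` -/
noncomputable def fT : A' ⊗[A] B →ₐ[A] A' ⊗[A] PolLaw.image F.law :=
  Algebra.TensorProduct.map (AlgHom.id A A') (Ideal.Quotient.mkₐ A (PolLaw.ker F.law))

theorem fT_surjective : Function.Surjective (fT F A') :=
  Algebra.TensorProduct.map_surjective (AlgHom.id A A') _ Function.surjective_id
    (Ideal.Quotient.mkₐ_surjective A _)

theorem ker_fT : RingHom.ker (fT F A' : A' ⊗[A] B →+* A' ⊗[A] PolLaw.image F.law) =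
    (PolLaw.ker F.law).map (Algebra.TensorProduct.includeRight : B →ₐ[A] A' ⊗[A] B) := by
  have h1 := Algebra.TensorProduct.lTensor_ker (A := A')
    (Ideal.Quotient.mkₐ A (PolLaw.ker F.law)) (Ideal.Quotient.mkₐ_surjective A _)
  have h2 : RingHom.ker (Ideal.Quotient.mkₐ A (PolLaw.ker F.law)) = PolLaw.ker F.law :=
    Ideal.Quotient.mkₐ_ker A _
  rw [h2] at h1
  exact h1

theorem fT_comp_algebraMap :
    (fT F A' : A' ⊗[A] B →+* A' ⊗[A] PolLaw.image F.law).comp (algebraMap A' (A' ⊗[A] B)) =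
      algebraMap A' (A' ⊗[A] PolLaw.image F.law) := by
  ext a
  rw [RingHom.comp_apply, Algebra.TensorProduct.algebraMap_apply,
    Algebra.TensorProduct.algebraMap_apply]
  change fT F A' (a ⊗ₜ[A] (1 : B)) = _
  unfold fT
  rw [Algebra.TensorProduct.map_tmul, map_one]
  rfl

/-- `A' ⊗ B → (A' ⊗ B) ⧸ ker F_{A'}` -/
noncomputable def gT : A' ⊗[A] B →+* PolLaw.image (BCLaw.bcLaw A' F).law :=
  Ideal.Quotient.mk (PolLaw.ker (BCLaw.bcLaw A' F).law)

theorem gT_surjective : Function.Surjective (gT F A') := Ideal.Quotient.mk_surjective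

theorem ker_gT : RingHom.ker (gT F A') = PolLaw.kerBC F.law A' := by
  unfold gT
  rw [Ideal.mk_ker]
  exact BCLaw.ker_bcLaw (A' := A') F

theorem radical_eq : (RingHom.ker (fT F A' : A' ⊗[A] B →+* A' ⊗[A] PolLaw.image F.law)).radical =
    (RingHom.ker (gT F A')).radical := by
  rw [ker_gT, radical_kerBC F A', ker_fT]

/-- the spectra of `A' ⊗ (B ⧸ ker F)` and of the image of the base-changed law agree -/
noncomputable def eT : PrimeSpectrum (A' ⊗[A] PolLaw.image F.law) ≃
    PrimeSpectrum (PolLaw.image (BCLaw.bcLaw A' F).law) :=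
  SpecTransfer.equivOfRadical
    (fT F A' : A' ⊗[A] B →+* A' ⊗[A] PolLaw.image F.law) (gT F A') (fT_surjective F A')
    (gT_surjective F A') (radical_eq F A')

theorem comap_eT (P : PrimeSpectrum (A' ⊗[A] PolLaw.image F.law)) :
    PrimeSpectrum.comap (algebraMap A' (PolLaw.image (BCLaw.bcLaw A' F).law)) (eT F A' P) =
      PrimeSpectrum.comap (algebraMap A' (A' ⊗[A] PolLaw.image F.law)) P := by
  have h1 := SpecTransfer.comap_equivOfRadical
    (fT F A' : A' ⊗[A] B →+* A' ⊗[A] PolLaw.image F.law) (gT F A') (fT_surjective F A')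
    (gT_surjective F A') (radical_eq F A') P
  have h2 : algebraMap A' (PolLaw.image (BCLaw.bcLaw A' F).law) =
      (gT F A').comp (algebraMap A' (A' ⊗[A] B)) := rfl
  rw [h2, ← fT_comp_algebraMap, PrimeSpectrum.comap_comp_apply, PrimeSpectrum.comap_comp_apply]
  exact congrArg _ h1

/-- `Spec (A' ⊗ (B ⧸ ker F)) → Spec A'` is an open map -/
theorem isOpenMap_comap_baseChange :
    IsOpenMap (PrimeSpectrum.comap (algebraMap A' (A' ⊗[A] PolLaw.image F.law))) := by
  intro U hU
  have h1 : PrimeSpectrum.comap (algebraMap A' (A' ⊗[A] PolLaw.image F.law)) '' U =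
      PrimeSpectrum.comap (algebraMap A' (PolLaw.image (BCLaw.bcLaw A' F).law)) ''
        ((eT F A').symm ⁻¹' U) := by
    ext p
    constructor
    · rintro ⟨P, hP, rfl⟩
      refine ⟨eT F A' P, ?_, comap_eT F A' P⟩
      rw [Set.mem_preimage, Equiv.symm_apply_apply]
      exact hP
    · rintro ⟨P', hP', rfl⟩
      refine ⟨(eT F A').symm P', hP', ?_⟩
      rw [← comap_eT, Equiv.apply_symm_apply]
  rw [h1]
  apply isOpenMap_comap (BCLaw.bcLaw A' F)
  exact hU.preimage (SpecTransfer.continuous_equivOfRadical_symm _ _ _ _ _)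

end bc

end Groth.Agent.Lib.Helper15.LawOpen
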