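import Mathlib

/-!
# Symmetric tensors: combinatorics of orbits of `Fin n → α` under permutations (helper15)
-/

set_option autoImplicit false
set_option linter.style.haveILetI false

namespace Groth.Agent.Lib.Helper15.MacMahon

open Finset

variable {n : ℕ} {α : Type*}

/-- the multiset of values of a tuple -/
def ms (j : Fin n → α) : Sym α n :=
  ⟨(Finset.univ : Finset (Fin n)).val.map j, by simp⟩

lemma ms_val (j : Fin n → α) : ((ms j : Sym α n) : Multiset α) = (Finset.univ : Finset (Fin n)).val.map j := rfl

lemma ms_comp_perm (j : Fin n → α) (σ : Equiv.Perm (Fin n)) : ms (j ∘ σ) = ms j := by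
  apply Sym.coe_injective
  rw [ms_val, ms_val]
  have := Multiset.map_univ_val_equiv σ
  conv_rhs => rw [← this, Multiset.map_map]

lemma exists_ms_eq (s : Sym α n) : ∃ j : Fin n → α, ms j = s := by
  obtain ⟨m, hm⟩ := s
  have hl : m.toList.length = n := by rw [Multiset.length_toList, hm]
  refine ⟨fun k => m.toList.get (Fin.cast hl.symm k), ?_⟩
  apply Sym.coe_injective
  rw [ms_val]
  change Multiset.map _ _ = m
  subst hl
  simp only [Fin.cast_refl]
  rw [Fin.univ_val_map]
  have : (List.ofFn fun x : Fin m.toList.length => m.toList.get (id x)) = m.toList :=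
    List.ofFn_get _
  rw [this, Multiset.coe_toList]

/-- a chosen tuple with given multiset of values -/
noncomputable def rep (s : Sym α n) : Fin n → α := (exists_ms_eq s).choose

@[simp] lemma ms_rep (s : Sym α n) : ms (rep s) = s := (exists_ms_eq s).choose_spec

/-- tuples with the same multiset of values differ by a permutation -/
lemma exists_perm_of_ms_eq [DecidableEq α] {j j' : Fin n → α} (h : ms j = ms j') :
    ∃ σ : Equiv.Perm (Fin n), j' = j ∘ σ := by
  have hcount : ∀ a : α, Fintype.card {k // j' k = a} = Fintype.card {k // j k = a} := by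
    intro a
    have h1 := congrArg (fun s : Sym α n => Multiset.count a (s : Multiset α)) h
    simp only [ms_val, Multiset.count_map] at h1
    rw [Fintype.card_subtype, Fintype.card_subtype]
    have e1 : (Finset.univ.filter fun k => j' k = a).card =
        (Multiset.filter (fun k => a = j' k) (Finset.univ : Finset (Fin n)).val).card := by
      rw [Finset.card_def, Finset.filter_val]
      congr 1
      apply Multiset.filter_congr
      intro x _
      exact eq_comm
    have e2 : (Finset.univ.filter fun k => j k = a).card =
        (Multiset.filter (fun k => a = j k) (Finset.univ : Finset (Fin n)).val).card := by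
      rw [Finset.card_def, Finset.filter_val]
      congr 1
      apply Multiset.filter_congr
      intro x _
      exact eq_comm
    rw [e1, e2, h1]
  let e : ∀ a : α, {k // j' k = a} ≃ {k // j k = a} := fun a => Fintype.equivOfCardEq (hcount a)
  let σ : Equiv.Perm (Fin n) :=
    (Equiv.sigmaFiberEquiv j').symm.trans ((Equiv.sigmaCongrRight e).trans (Equiv.sigmaFiberEquiv j))
  refine ⟨σ, ?_⟩
  funext k
  have : j (σ k) = j' k := by
    change j ((e (j' k) ⟨k, rfl⟩ : {k' // j k' = j' k}) : Fin n) = j' k
    exact (e (j' k) ⟨k, rfl⟩).2
  exact this.symm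

/-- the canonical representative of the orbit of a tuple -/
noncomputable def can (j : Fin n → α) : Fin n → α := rep (ms j)

lemma ms_can (j : Fin n → α) : ms (can j) = ms j := ms_rep _

lemma can_comp_perm (j : Fin n → α) (σ : Equiv.Perm (Fin n)) : can (j ∘ σ) = can j := by
  rw [can, can, ms_comp_perm]

lemma can_rep (s : Sym α n) : can (rep s) = rep s := by rw [can, ms_rep]

lemma exists_perm_can [DecidableEq α] (j : Fin n → α) :
    ∃ σ : Equiv.Perm (Fin n), can j = j ∘ σ :=
  exists_perm_of_ms_eq (ms_can j).symm

end Groth.Agent.Lib.Helper15.MacMahon
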