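import Mathlib
import Groth.Agent.Lib.Helper15.MacMahon1

/-!
# Symmetric tensors of a free module: basis and trace formula (helper15)
-/

set_option autoImplicit false
set_option linter.style.haveILetI false

namespace Groth.Agent.Lib.Helper15.MacMahon

open TensorProduct PiTensorProduct Module

variable {A : Type*} [CommRing A] {M : Type*} [AddCommGroup M] [Module A M] {r : ℕ}

/-- symmetric tensors -/
abbrev symT (A : Type*) [CommRing A] (M : Type*) [AddCommGroup M] [Module A M] (n : ℕ) :
    Submodule A (⨂[A] _i : Fin n, M) :=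
  ⨅ σ : Equiv.Perm (Fin n),
    LinearMap.eqLocus ((PiTensorProduct.reindex A (fun _ : Fin n => M) σ).toLinearMap) LinearMap.id

/-- the universal trace polynomial -/
noncomputable def Tn (n : ℕ) (U : Matrix (Fin r) (Fin r) A) : A :=
  ∑ j : Fin n → Fin r, ∏ k, U (can j k) (j k)

lemma Tn_map {A' : Type*} [CommRing A'] (φ : A →+* A') (n : ℕ) (U : Matrix (Fin r) (Fin r) A) :
    Tn n (U.map φ) = φ (Tn n U) := by
  simp [Tn, map_sum, map_prod]

variable (b : Basis (Fin r) A M)

/-- the tensor basis -/
noncomputable def E (n : ℕ) : Basis (Fin n → Fin r) A (⨂[A] _i : Fin n, M) :=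
  Basis.piTensorProduct (fun _ => b)

lemma E_apply (n : ℕ) (j : Fin n → Fin r) : E b n j = ⨂ₜ[A] k, b (j k) := by
  rw [E, Basis.piTensorProduct_apply]

lemma reindex_E (n : ℕ) (σ : Equiv.Perm (Fin n)) (j : Fin n → Fin r) :
    PiTensorProduct.reindex A (fun _ : Fin n => M) σ (E b n j) = E b n (j ∘ σ.symm) := by
  rw [E_apply, E_apply, PiTensorProduct.reindex_tprod]
  rfl

lemma repr_reindex (n : ℕ) (σ : Equiv.Perm (Fin n)) (v : ⨂[A] _i : Fin n, M)
    (j : Fin n → Fin r) :
    (E b n).repr (PiTensorProduct.reindex A (fun _ : Fin n => M) σ v) j =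
      (E b n).repr v (j ∘ σ) := by
  have h : ((E b n).coord j) ∘ₗ (PiTensorProduct.reindex A (fun _ : Fin n => M) σ).toLinearMap =
      (E b n).coord (j ∘ σ) := by
    apply (E b n).ext
    intro i
    simp only [LinearMap.comp_apply, LinearEquiv.coe_coe, Basis.coord_apply, reindex_E,
      Basis.repr_self, Finsupp.single_apply]
    congr 1
    apply propext
    constructor
    · intro h
      rw [← h]
      funext k
      simp
    · intro h
      rw [h]
      funext k
      simp
  exact LinearMap.congr_fun h v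

lemma mem_symT_iff (n : ℕ) (v : ⨂[A] _i : Fin n, M) :
    v ∈ symT A M n ↔ ∀ (σ : Equiv.Perm (Fin n)) (j : Fin n → Fin r),
      (E b n).repr v (j ∘ σ) = (E b n).repr v j := by
  simp only [symT, Submodule.mem_iInf, LinearMap.mem_eqLocus, LinearEquiv.coe_coe,
    LinearMap.id_apply]
  constructor
  · intro h σ j
    rw [← repr_reindex, h σ]
  · intro h σ
    apply (E b n).ext_elem
    intro j
    rw [repr_reindex, h σ j]

/-- orbit sums -/
noncomputable def osum (n : ℕ) (s : Sym (Fin r) n) : ⨂[A] _i : Fin n, M :=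
  ∑ j ∈ Finset.univ.filter (fun j : Fin n → Fin r => ms j = s), E b n j

lemma repr_osum (n : ℕ) (s : Sym (Fin r) n) (j : Fin n → Fin r) :
    (E b n).repr (osum b n s) j = if ms j = s then 1 else 0 := by
  classical
  rw [osum, map_sum, Finsupp.finset_sum_apply]
  simp only [Basis.repr_self, Finsupp.single_apply]
  rw [Finset.sum_ite_eq']
  simp

lemma osum_mem (n : ℕ) (s : Sym (Fin r) n) : osum b n s ∈ symT A M n := by
  rw [mem_symT_iff b]
  intro σ j
  rw [repr_osum, repr_osum, ms_comp_perm]

lemma repr_can_of_mem (n : ℕ) {v : ⨂[A] _i : Fin n, M} (hv : v ∈ symT A M n)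
    (j : Fin n → Fin r) : (E b n).repr v (can j) = (E b n).repr v j := by
  obtain ⟨σ, hσ⟩ := exists_perm_can j
  rw [hσ]
  exact (mem_symT_iff b n v).mp hv σ j

/-- coordinates on symmetric tensors -/
noncomputable def symEquiv (n : ℕ) : symT A M n ≃ₗ[A] (Sym (Fin r) n → A) where
  toFun v s := (E b n).repr v.1 (rep s)
  map_add' v w := by
    funext s
    simp
  map_smul' c v := by
    funext s
    simp
  invFun c := ∑ s, c s • (⟨osum b n s, osum_mem b n s⟩ : symT A M n)
  left_inv v := by
    classical
    apply Subtype.ext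
    apply (E b n).ext_elem
    intro j
    rw [Submodule.coe_sum, map_sum, Finsupp.finset_sum_apply]
    simp only [Submodule.coe_smul, map_smul, Finsupp.smul_apply, repr_osum, smul_eq_mul,
      mul_ite, mul_one, mul_zero]
    rw [Finset.sum_ite_eq]
    simp only [Finset.mem_univ, if_true]
    exact repr_can_of_mem b n v.2 j
  right_inv c := by
    classical
    funext s'
    change (E b n).repr (∑ s, c s • (⟨osum b n s, osum_mem b n s⟩ : symT A M n) : symT A M n).1
      (rep s') = c s'
    rw [Submodule.coe_sum, map_sum, Finsupp.finset_sum_apply]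
    simp only [Submodule.coe_smul, map_smul, Finsupp.smul_apply, repr_osum, smul_eq_mul,
      mul_ite, mul_one, mul_zero, ms_rep]
    rw [Finset.sum_ite_eq]
    simp

/-- the basis of orbit sums -/
noncomputable def symBasis (n : ℕ) : Basis (Sym (Fin r) n) A (symT A M n) :=
  Basis.ofEquivFun (symEquiv b n)

lemma symBasis_repr (n : ℕ) (v : symT A M n) (s : Sym (Fin r) n) :
    (symBasis b n).repr v s = (E b n).repr v.1 (rep s) := by
  rw [symBasis, Basis.ofEquivFun_repr_apply]
  rfl

lemma symBasis_apply (n : ℕ) (s : Sym (Fin r) n) :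
    ((symBasis b n s : symT A M n) : ⨂[A] _i : Fin n, M) = osum b n s := by
  classical
  rw [symBasis, Basis.coe_ofEquivFun]
  change ((symEquiv b n).symm (Function.update 0 s 1) : symT A M n).1 = _
  change ((∑ s', (Function.update (0 : Sym (Fin r) n → A) s 1) s' •
    (⟨osum b n s', osum_mem b n s'⟩ : symT A M n) : symT A M n)).1 = _
  rw [Finset.sum_eq_single s]
  · simp
  · intro s' _ hs'
    simp [Function.update_of_ne hs']
  · intro h
    exact absurd (Finset.mem_univ s) h

theorem trace_symT (n : ℕ) (u : M →ₗ[A] M) (γ : symT A M n →ₗ[A] symT A M n)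
    (hγ : ∀ x : symT A M n, ((γ x : symT A M n) : ⨂[A] _i : Fin n, M) =
      PiTensorProduct.map (fun _ : Fin n => u) (x : ⨂[A] _i : Fin n, M)) :
    LinearMap.trace A _ γ = Tn n (LinearMap.toMatrix b b u) := by
  classical
  rw [LinearMap.trace_eq_matrix_trace A (symBasis b n) γ, Matrix.trace]
  simp only [Matrix.diag_apply, LinearMap.toMatrix_apply, symBasis_repr, hγ, symBasis_apply]
  rw [Tn]
  have key : ∀ s : Sym (Fin r) n,
      (E b n).repr (PiTensorProduct.map (fun _ : Fin n => u) (osum b n s)) (rep s) =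
        ∑ j ∈ Finset.univ.filter (fun j : Fin n → Fin r => ms j = s),
          ∏ k, LinearMap.toMatrix b b u (can j k) (j k) := by
    intro s
    rw [osum, map_sum, map_sum, Finsupp.finset_sum_apply]
    apply Finset.sum_congr rfl
    intro j hj
    rw [Finset.mem_filter] at hj
    rw [E_apply, PiTensorProduct.map_tprod, E, Basis.piTensorProduct_repr_tprod_apply]
    apply Finset.prod_congr rfl
    intro k _
    rw [LinearMap.toMatrix_apply, can, hj.2]
  simp_rw [key]
  rw [Finset.sum_fiberwise]

end Groth.Agent.Lib.Helper15.MacMahon
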