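import Mathlib
import Groth.Agent.Lib.Helper15.MacMahon2

/-!
# The determinant side and the diagonal case (helper15)
-/

set_option autoImplicit false
set_option linter.style.haveILetI false

namespace Groth.Agent.Lib.Helper15.MacMahon

open TensorProduct Module Polynomial

variable {A : Type*} [CommRing A] {M : Type*} [AddCommGroup M] [Module A M] {r : ℕ}

/-- `det(1 - t u)` computed in a basis -/
theorem det_one_sub_eq_charpolyRev (b : Basis (Fin r) A M) (u : M →ₗ[A] M) :
    LinearMap.det (LinearMap.id - (X : A[X]) • u.baseChange A[X]) =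
      (LinearMap.toMatrix b b u).charpolyRev := by
  classical
  rw [← LinearMap.det_toMatrix (Algebra.TensorProduct.basis A[X] b), Matrix.charpolyRev]
  congr 1
  have h1 := LinearMap.toMatrix_baseChange A[X] u b b
  have h2 : LinearMap.toMatrix (Algebra.TensorProduct.basis A[X] b)
      (Algebra.TensorProduct.basis A[X] b) (LinearMap.id : A[X] ⊗[A] M →ₗ[A[X]] A[X] ⊗[A] M) = 1 :=
    LinearMap.toMatrix_id _
  have h3 := map_sub (LinearMap.toMatrix (Algebra.TensorProduct.basis A[X] b)
      (Algebra.TensorProduct.basis A[X] b)) (LinearMap.id : A[X] ⊗[A] M →ₗ[A[X]] A[X] ⊗[A] M)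
      ((X : A[X]) • u.baseChange A[X])
  rw [h3, map_smul, h1, h2]
  rfl

lemma charpolyRev_map {A' : Type*} [CommRing A'] (φ : A →+* A') (U : Matrix (Fin r) (Fin r) A) :
    (U.map φ).charpolyRev = U.charpolyRev.map φ := by
  classical
  rw [Matrix.charpolyRev, Matrix.charpolyRev, ← Polynomial.coe_mapRingHom, RingHom.map_det]
  congr 1
  apply Matrix.ext
  intro i j
  rw [RingHom.mapMatrix_apply, Matrix.map_apply, Matrix.sub_apply, Matrix.sub_apply,
    Matrix.smul_apply, Matrix.smul_apply, Matrix.map_apply, Matrix.map_apply, Matrix.map_apply,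
    map_sub, smul_eq_mul, smul_eq_mul, map_mul, Polynomial.coe_mapRingHom, Polynomial.map_X,
    Polynomial.map_C]
  congr 1
  by_cases hij : i = j
  · subst hij
    simp
  · simp [hij]

/-- the goal identity, as a statement about a matrix -/
def Good (U : Matrix (Fin r) (Fin r) A) : Prop :=
  (↑U.charpolyRev : PowerSeries A) * PowerSeries.mk (fun n => Tn n U) = 1

lemma good_map {A' : Type*} [CommRing A'] (φ : A →+* A') {U : Matrix (Fin r) (Fin r) A}
    (h : Good U) : Good (U.map φ) := by
  classical
  unfold Good at h ⊢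
  have h1 := congrArg (PowerSeries.map φ) h
  rw [map_mul, map_one] at h1
  have e1 : PowerSeries.map φ (↑U.charpolyRev : PowerSeries A) =
      (↑(U.map φ).charpolyRev : PowerSeries A') := by
    rw [← Polynomial.polynomial_map_coe, charpolyRev_map]
  have e2 : PowerSeries.map φ (PowerSeries.mk (fun n => Tn n U)) =
      PowerSeries.mk (fun n => Tn n (U.map φ)) := by
    ext n
    simp [Tn_map]
  rw [e1, e2] at h1
  exact h1

lemma good_of_map_injective {A' : Type*} [CommRing A'] (φ : A →+* A')
    (hφ : Function.Injective φ) {U : Matrix (Fin r) (Fin r) A} (h : Good (U.map φ)) : Good U := by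
  classical
  unfold Good at h ⊢
  have hinj : Function.Injective (PowerSeries.map φ) := by
    intro f g hfg
    ext n
    apply hφ
    have := congrArg (PowerSeries.coeff n) hfg
    simpa using this
  apply hinj
  rw [map_mul, map_one]
  have e1 : PowerSeries.map φ (↑U.charpolyRev : PowerSeries A) =
      (↑(U.map φ).charpolyRev : PowerSeries A') := by
    rw [← Polynomial.polynomial_map_coe, charpolyRev_map]
  have e2 : PowerSeries.map φ (PowerSeries.mk (fun n => Tn n U)) =
      PowerSeries.mk (fun n => Tn n (U.map φ)) := by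
    ext n
    simp [Tn_map]
  rw [e1, e2]
  exact h

section diagonal

variable (d : Fin r → A)

lemma Tn_diagonal (n : ℕ) :
    Tn n (Matrix.diagonal d) = ∑ s : Sym (Fin r) n, ((s : Multiset (Fin r)).map d).prod := by
  classical
  rw [Tn]
  have h1 : ∀ j : Fin n → Fin r, ∏ k, Matrix.diagonal d (can j k) (j k) =
      if can j = j then ∏ k, d (j k) else 0 := by
    intro j
    split_ifs with h
    · apply Finset.prod_congr rfl
      intro k _
      rw [h, Matrix.diagonal_apply_eq]
    · obtain ⟨k, hk⟩ : ∃ k, can j k ≠ j k := by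
        by_contra hcon
        push Not at hcon
        exact h (funext hcon)
      exact Finset.prod_eq_zero (Finset.mem_univ k) (Matrix.diagonal_apply_ne _ hk)
  simp_rw [h1]
  rw [← Finset.sum_filter]
  symm
  apply Finset.sum_bij' (fun s _ => rep s) (fun j _ => ms j)
  · intro s _
    rw [Finset.mem_filter]
    exact ⟨Finset.mem_univ _, can_rep s⟩
  · intro j _
    exact Finset.mem_univ _
  · intro s _
    exact ms_rep s
  · intro j hj
    rw [Finset.mem_filter] at hj
    exact hj.2
  · intro s _
    have : (s : Multiset (Fin r)) = (Finset.univ : Finset (Fin n)).val.map (rep s) := by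
      rw [← ms_val, ms_rep]
    rw [this, Multiset.map_map]
    rfl

lemma sum_sym_eq (n : ℕ) :
    ∑ s : Sym (Fin r) n, ((s : Multiset (Fin r)).map d).prod =
      ∑ l ∈ Finset.finsuppAntidiag (Finset.univ : Finset (Fin r)) n, ∏ i, d i ^ l i := by
  classical
  have hcard : ∀ l ∈ Finset.finsuppAntidiag (Finset.univ : Finset (Fin r)) n,
      Multiset.card (Finsupp.toMultiset l) = n := by
    intro l hl
    rw [Finset.mem_finsuppAntidiag] at hl
    rw [Finsupp.card_toMultiset, Finsupp.sum_fintype _ _ (fun _ => rfl)]
    exact hl.1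
  refine Finset.sum_bij' (fun (s : Sym (Fin r) n) _ => Multiset.toFinsupp (s : Multiset (Fin r)))
    (fun l hl => (⟨Finsupp.toMultiset l, hcard l hl⟩ : Sym (Fin r) n)) ?_ ?_ ?_ ?_ ?_
  · intro s _
    rw [Finset.mem_finsuppAntidiag]
    refine ⟨?_, Finset.subset_univ _⟩
    simp only [Multiset.toFinsupp_apply]
    rw [Multiset.sum_count_eq_card (fun a _ => Finset.mem_univ a)]
    exact s.2
  · intro l _
    exact Finset.mem_univ _
  · intro s _
    apply Sym.coe_injective
    exact Multiset.toFinsupp_toMultiset _
  · intro l _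
    exact Finsupp.toMultiset_toFinsupp l
  · intro s _
    rw [Finset.prod_multiset_map_count]
    simp only [Multiset.toFinsupp_apply]
    apply Finset.prod_subset (Finset.subset_univ _)
    intro a _ ha
    rw [Multiset.mem_toFinset] at ha
    rw [Multiset.count_eq_zero_of_notMem ha, pow_zero]

lemma geom_mul (a : A) :
    (1 - PowerSeries.C a * PowerSeries.X) * PowerSeries.mk (fun n => a ^ n) = 1 := by
  ext n
  rw [sub_mul, one_mul, map_sub, PowerSeries.coeff_mk, mul_assoc, PowerSeries.coeff_C_mul]
  cases n with
  | zero => simp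
  | succ m =>
    rw [PowerSeries.coeff_succ_X_mul, PowerSeries.coeff_mk, PowerSeries.coeff_one]
    simp [pow_succ, mul_comm]

theorem good_diagonal : Good (Matrix.diagonal d) := by
  classical
  unfold Good
  have h1 : (Matrix.diagonal d).charpolyRev = ∏ i, (1 - X * C (d i)) := by
    rw [Matrix.charpolyRev]
    have : (1 - (X : A[X]) • (Matrix.diagonal d).map C) =
        Matrix.diagonal (fun i => 1 - X * C (d i)) := by
      ext i j
      by_cases hij : i = j
      · subst hij
        simp
      · simp [hij]
    rw [this, Matrix.det_diagonal]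
  have h2 : PowerSeries.mk (fun n => Tn n (Matrix.diagonal d)) =
      ∏ i, PowerSeries.mk (fun n => d i ^ n) := by
    ext n
    rw [PowerSeries.coeff_mk, Tn_diagonal, sum_sym_eq, PowerSeries.coeff_prod]
    apply Finset.sum_congr rfl
    intro l _
    apply Finset.prod_congr rfl
    intro i _
    rw [PowerSeries.coeff_mk]
  have h3 : ((∏ i, (1 - X * C (d i)) : A[X]) : PowerSeries A) =
      ∏ i, (((1 - X * C (d i)) : A[X]) : PowerSeries A) :=
    map_prod (Polynomial.coeToPowerSeries.ringHom (R := A)) (fun i => 1 - X * C (d i)) Finset.univ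
  rw [h1, h2, h3, ← Finset.prod_mul_distrib]
  apply Finset.prod_eq_one
  intro i _
  rw [Polynomial.coe_sub, Polynomial.coe_one, Polynomial.coe_mul, Polynomial.coe_X,
    Polynomial.coe_C, mul_comm PowerSeries.X]
  exact geom_mul (d i)

end diagonal

end Groth.Agent.Lib.Helper15.MacMahon
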