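import Mathlib
import Groth.Agent.Lib.Helper15.MacMahon3

/-!
# MacMahon's identity for all matrices (helper15)
-/

set_option autoImplicit false
set_option linter.style.haveILetI false

namespace Groth.Agent.Lib.Helper15.MacMahon

open TensorProduct Module Polynomial

variable {A : Type*} [CommRing A] {M : Type*} [AddCommGroup M] [Module A M] {r : ℕ}

/-- the endomorphism of symmetric tensors induced by `u` -/
noncomputable def gam (n : ℕ) (u : M →ₗ[A] M) : symT A M n →ₗ[A] symT A M n :=
  (PiTensorProduct.map (fun _ : Fin n => u)).restrict (p := symT A M n) (q := symT A M n) (by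
    intro x hx
    simp only [symT, Submodule.mem_iInf, LinearMap.mem_eqLocus, LinearEquiv.coe_coe,
      LinearMap.id_apply] at hx ⊢
    intro σ
    have := PiTensorProduct.map_reindex (R := A) (fun _ : Fin n => u) σ x
    rw [← this, hx σ])

lemma Tn_toMatrix_eq (b b' : Basis (Fin r) A M) (u : M →ₗ[A] M) (n : ℕ) :
    Tn n (LinearMap.toMatrix b b u) = Tn n (LinearMap.toMatrix b' b' u) := by
  rw [← trace_symT b n u (gam n u) (fun x => rfl), trace_symT b' n u (gam n u) (fun x => rfl)]

lemma charpolyRev_toMatrix_eq (b b' : Basis (Fin r) A M) (u : M →ₗ[A] M) :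
    (LinearMap.toMatrix b b u).charpolyRev = (LinearMap.toMatrix b' b' u).charpolyRev := by
  rw [← det_one_sub_eq_charpolyRev b u, det_one_sub_eq_charpolyRev b' u]

lemma good_toMatrix_iff (b b' : Basis (Fin r) A M) (u : M →ₗ[A] M) :
    Good (LinearMap.toMatrix b b u) ↔ Good (LinearMap.toMatrix b' b' u) := by
  unfold Good
  rw [charpolyRev_toMatrix_eq b b' u]
  simp_rw [Tn_toMatrix_eq b b' u]

theorem good_of_separable {K : Type*} [Field K] [IsAlgClosed K] (U : Matrix (Fin r) (Fin r) K)
    (hU : U.charpoly.Separable) : Good U := by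
  classical
  set u : (Fin r → K) →ₗ[K] (Fin r → K) := Matrix.toLin' U with hu
  have hχ : u.charpoly = U.charpoly := Matrix.charpoly_toLin' U
  have hcard : Multiset.card U.charpoly.roots = r := by
    rw [Polynomial.splits_iff_card_roots.mp (IsAlgClosed.splits _),
      Matrix.charpoly_natDegree_eq_dim, Fintype.card_fin]
  have hnd : U.charpoly.roots.Nodup := Polynomial.nodup_roots hU
  have hcard' : Fintype.card U.charpoly.roots.toFinset = r := by
    rw [Fintype.card_coe, Multiset.toFinset_card_of_nodup hnd, hcard]
  let e : Fin r ≃ U.charpoly.roots.toFinset := (Fintype.equivFinOfCardEq hcard').symm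
  let d : Fin r → K := fun i => (e i : K)
  have hd : Function.Injective d := Subtype.coe_injective.comp e.injective
  have hroot : ∀ i, U.charpoly.IsRoot (d i) := by
    intro i
    have := (e i).2
    rw [Multiset.mem_toFinset] at this
    exact Polynomial.isRoot_of_mem_roots this
  have hev : ∀ i, Module.End.HasEigenvalue u (d i) := fun i =>
    (Module.End.hasEigenvalue_iff_isRoot_charpoly u (d i)).mpr (hχ ▸ hroot i)
  choose v hv using fun i => (hev i).exists_hasEigenvector
  have hli := Module.End.eigenvectors_linearIndependent' u d hd v hv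
  let b' : Basis (Fin r) K (Fin r → K) :=
    basisOfLinearIndependentOfCardEqFinrank' v hli (by simp)
  have hb' : ∀ i, b' i = v i := by
    intro i
    simp [b']
  have hdiag : LinearMap.toMatrix b' b' u = Matrix.diagonal d := by
    ext i j
    rw [LinearMap.toMatrix_apply, hb', (hv j).apply_eq_smul, map_smul, ← hb', Basis.repr_self,
      Finsupp.smul_apply, Finsupp.single_apply, Matrix.diagonal_apply]
    by_cases hij : i = j
    · subst hij
      simp
    · simp [hij, Ne.symm hij]
  have h0 : LinearMap.toMatrix (Pi.basisFun K (Fin r)) (Pi.basisFun K (Fin r)) u = U := by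
    rw [hu, LinearMap.toMatrix_eq_toMatrix', LinearMap.toMatrix'_toLin']
  rw [← h0, good_toMatrix_iff _ b' u, hdiag]
  exact good_diagonal d

section generic

/-- separability criterion via an explicit resultant -/
lemma separable_map_iff {R K : Type*} [CommRing R] [Field K] [CharZero K] (φ : R →+* K)
    (f : R[X]) (hf : f.Monic) :
    (f.map φ).Separable ↔
      φ (resultant f (derivative f) f.natDegree (f.natDegree - 1)) ≠ 0 := by
  rw [← resultant_map_map, ← derivative_map]
  obtain ⟨g, hg⟩ : ∃ g, g = f.map φ := ⟨_, rfl⟩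
  rw [← hg]
  have hgm : g.Monic := hg ▸ hf.map φ
  have hdeg : g.natDegree = f.natDegree := hg ▸ hf.natDegree_map φ
  have hdeg' : (derivative g).natDegree = f.natDegree - 1 := by
    rw [← hdeg]
    exact natDegree_derivative g
  rw [← hdeg, ← hdeg] at *
  rw [← hdeg', Ne, resultant_eq_zero_iff, Polynomial.separable_def]
  constructor
  · intro h hcon
    exact hcon.2 h
  · intro h
    by_contra hcon
    exact h ⟨Or.inl hgm.ne_zero, hcon⟩

/-- the coefficient ring of the generic matrix -/
abbrev A₀ (r : ℕ) := MvPolynomial (Fin r × Fin r) ℤ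

/-- the generic matrix -/
noncomputable abbrev U₀ (r : ℕ) : Matrix (Fin r) (Fin r) (A₀ r) :=
  Matrix.mvPolynomialX (Fin r) (Fin r) ℤ

lemma U₀_map_eval {B : Type*} [CommRing B] (U : Matrix (Fin r) (Fin r) B) :
    (U₀ r).map (MvPolynomial.eval₂Hom (Int.castRingHom B) (fun p => U p.1 p.2)) = U := by
  ext i j
  simp [Matrix.mvPolynomialX]

lemma resultant_generic_ne_zero (r : ℕ) :
    resultant (U₀ r).charpoly (derivative (U₀ r).charpoly) r (r - 1) ≠ 0 := by
  classical
  let D : Matrix (Fin r) (Fin r) ℚ := Matrix.diagonal (fun i => ((i : ℕ) : ℚ))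
  let ev : A₀ r →+* ℚ := MvPolynomial.eval₂Hom (Int.castRingHom ℚ) (fun p => D p.1 p.2)
  have h1 : ((U₀ r).charpoly.map ev) = D.charpoly := by
    rw [← Matrix.charpoly_map, U₀_map_eval]
  have hsep : ((U₀ r).charpoly.map ev).Separable := by
    rw [h1, Matrix.charpoly_diagonal]
    refine (Polynomial.separable_prod_X_sub_C_iff).mpr ?_
    intro i j h
    have h' : ((i : ℕ) : ℚ) = ((j : ℕ) : ℚ) := h
    exact Fin.ext (by exact_mod_cast h')
  have h2 := (separable_map_iff ev _ (Matrix.charpoly_monic _)).mp hsep
  rw [Matrix.charpoly_natDegree_eq_dim, Fintype.card_fin] at h2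
  intro h0
  rw [h0, map_zero] at h2
  exact h2 rfl

theorem good_generic (r : ℕ) : Good (U₀ r) := by
  classical
  let K := AlgebraicClosure (FractionRing (A₀ r))
  let φ : A₀ r →+* K :=
    (algebraMap (FractionRing (A₀ r)) K).comp (algebraMap (A₀ r) (FractionRing (A₀ r)))
  have hφ : Function.Injective φ :=
    (algebraMap (FractionRing (A₀ r)) K).injective.comp (IsFractionRing.injective _ _)
  haveI : CharZero K := charZero_of_injective_ringHom hφ
  apply good_of_map_injective φ hφ
  apply good_of_separable
  rw [Matrix.charpoly_map, separable_map_iff φ _ (Matrix.charpoly_monic _),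
    Matrix.charpoly_natDegree_eq_dim, Fintype.card_fin]
  intro h
  exact resultant_generic_ne_zero r (hφ (h.trans (map_zero φ).symm))

theorem good_all (U : Matrix (Fin r) (Fin r) A) : Good U := by
  rw [← U₀_map_eval U]
  exact good_map _ (good_generic r)

end generic

/-- MacMahon's identity for a finite free module -/
theorem macmahon [Module.Free A M] [Module.Finite A M] (u : M →ₗ[A] M)
    (γ : ∀ n : ℕ, symT A M n →ₗ[A] symT A M n)
    (hγ : ∀ (n : ℕ) (x : symT A M n), ((γ n x : symT A M n) : PiTensorProduct A (fun _ : Fin n => M)) =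
      PiTensorProduct.map (fun _ : Fin n => u) (x : PiTensorProduct A (fun _ : Fin n => M))) :
    (↑(LinearMap.det ((LinearMap.id : A[X] ⊗[A] M →ₗ[A[X]] A[X] ⊗[A] M) -
      (X : A[X]) • u.baseChange A[X])) : PowerSeries A) *
      PowerSeries.mk (fun n => LinearMap.trace A _ (γ n)) = 1 := by
  rcases subsingleton_or_nontrivial A with hA | hA
  · exact Subsingleton.elim _ _
  · let b := Module.finBasis A M
    rw [det_one_sub_eq_charpolyRev b u]
    simp_rw [fun n => trace_symT b n u (γ n) (hγ n)]
    exact good_all _

end Groth.Agent.Lib.Helper15.MacMahon
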