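import Mathlib

set_option linter.style.haveILetI false
set_option autoImplicit false

open TensorProduct

namespace Groth.Agent.Lib.Helper15.MaxEtaleSub

universe u

section general

variable (k : Type u) [Field k] {B : Type u} [CommRing B] [Algebra k B]

/-- finite étale subalgebras -/
def FinEt (E : Subalgebra k B) : Prop := Module.Finite k E ∧ Algebra.Etale k E

variable {k}

/-- the range of an algebra map from a finite étale algebra is finite étale -/
theorem finEt_range {C : Type u} [CommRing C] [Algebra k C] [Module.Finite k C]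
    [Algebra.Etale k C] (f : C →ₐ[k] B) : FinEt k f.range := by
  have hfin : Module.Finite k f.range :=
    Module.Finite.of_surjective f.rangeRestrict.toLinearMap f.rangeRestrict_surjective
  refine ⟨hfin, ?_⟩
  have hunr : Algebra.FormallyUnramified k f.range :=
    Algebra.FormallyUnramified.of_surjective f.rangeRestrict f.rangeRestrict_surjective
  have hfe : Algebra.FormallyEtale k f.range :=
    Algebra.FormallyEtale.of_formallyUnramified_of_field k f.range
  have hfp : Algebra.FinitePresentation k f.range :=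
    Algebra.FinitePresentation.of_finiteType.1 inferInstance
  exact ⟨hfe, hfp⟩

theorem finEt_sup {E₁ E₂ : Subalgebra k B} (h₁ : FinEt k E₁) (h₂ : FinEt k E₂) :
    FinEt k (E₁ ⊔ E₂) := by
  obtain ⟨hf1, he1⟩ := h₁
  obtain ⟨hf2, he2⟩ := h₂
  have hE : Algebra.Etale k (E₁ ⊗[k] E₂) := Algebra.Etale.comp k E₁ (E₁ ⊗[k] E₂)
  have := finEt_range (Algebra.TensorProduct.productMap E₁.val E₂.val)
  rwa [Algebra.TensorProduct.productMap_range, Subalgebra.range_val, Subalgebra.range_val] at this

theorem finEt_bot : FinEt k (Algebra.ofId k B).range := finEt_range _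

/-- the subalgebra generated by an idempotent is finite étale -/
theorem finEt_adjoin_idempotent {f : B} (hf : IsIdempotentElem f) :
    FinEt k (Algebra.adjoin k {f}) := by
  have hf' : f * f = f := hf
  let g : (Fin 2 → k) →ₐ[k] B := AlgHom.ofLinearMap
    { toFun := fun c => c 0 • f + c 1 • (1 - f)
      map_add' := fun c d => by simp only [Pi.add_apply, add_smul]; abel
      map_smul' := fun a c => by simp only [Pi.smul_apply, smul_eq_mul, mul_smul, smul_add,
        RingHom.id_apply] }
    (by simp)
    (fun c d => by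
      simp only [LinearMap.coe_mk, AddHom.coe_mk, Pi.mul_apply]
      have h1 : f * (1 - f) = 0 := by rw [mul_sub, mul_one, hf', sub_self]
      have h2 : (1 - f) * (1 - f) = 1 - f := by
        ring_nf
        rw [pow_two, hf']
        ring
      simp only [add_mul, mul_add, smul_mul_smul_comm, hf', h1, h2, mul_comm (1 - f) f, smul_zero,
        add_zero, zero_add])
  haveI : Algebra.Etale k (Fin 2 → k) :=
    ⟨(Algebra.FormallyEtale.pi_iff (fun _ : Fin 2 => k)).2 fun _ => inferInstance,
      Algebra.FinitePresentation.of_finiteType.1 inferInstance⟩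
  have hr := finEt_range g
  have heq : g.range = Algebra.adjoin k {f} := by
    apply le_antisymm
    · rintro _ ⟨c, rfl⟩
      have hfm : f ∈ Algebra.adjoin k {f} := Algebra.subset_adjoin rfl
      exact Subalgebra.add_mem _ (Subalgebra.smul_mem _ hfm _)
        (Subalgebra.smul_mem _ (Subalgebra.sub_mem _ (Subalgebra.one_mem _) hfm) _)
    · rw [Algebra.adjoin_le_iff, Set.singleton_subset_iff]
      refine ⟨![1, 0], ?_⟩
      simp [g]
  rwa [heq] at hr

end general

section bound

theorem exists_vN {E : Type*} [CommRing E] [IsArtinianRing E] [IsReduced E] (x : E) :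
    ∃ y, x = x * x * y := by
  let F : ℕ →o (Ideal E)ᵒᵈ :=
    ⟨fun n => OrderDual.toDual (Ideal.span {x ^ n}), monotone_nat_of_le_succ fun n => by
      show Ideal.span {x ^ (n + 1)} ≤ Ideal.span {x ^ n}
      rw [Ideal.span_singleton_le_span_singleton]
      exact ⟨x, by rw [pow_succ]⟩⟩
  obtain ⟨n, hn⟩ := IsArtinian.monotone_stabilizes F
  have h1 : Ideal.span {x ^ n} = Ideal.span {x ^ (n + 1)} :=
    congrArg OrderDual.ofDual (hn (n + 1) (Nat.le_succ n))
  have h2 : x ^ n ∈ Ideal.span {x ^ (n + 1)} := by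
    rw [← h1]; exact Ideal.subset_span rfl
  obtain ⟨y, hy⟩ := Ideal.mem_span_singleton'.1 h2
  refine ⟨y, ?_⟩
  have h3 : x ^ n * (1 - x * y) = 0 := by
    have : x ^ n * (1 - x * y) = x ^ n - y * x ^ (n + 1) := by ring
    rw [this, hy, sub_self]
  have h4 : IsNilpotent (x - x * x * y) := by
    refine ⟨n + 1, ?_⟩
    have e1 : x - x * x * y = x * (1 - x * y) := by ring
    have : (x * (1 - x * y)) ^ (n + 1) = x * (x ^ n * (1 - x * y)) * (1 - x * y) ^ n := by
      rw [mul_pow, pow_succ, pow_succ]; ring
    rw [e1, this, h3, mul_zero, zero_mul]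
  have := IsReduced.eq_zero _ h4
  exact sub_eq_zero.1 this

variable {k : Type u} [Field k] {B : Type u} [CommRing B] [Algebra k B] [Algebra.FiniteType k B]

theorem exists_bound : ∃ N : ℕ, ∀ E : Subalgebra k B, FinEt k E → Module.finrank k E ≤ N := by
  classical
  haveI : IsNoetherianRing B := Algebra.FiniteType.isNoetherianRing k B
  have hfinS : (minimalPrimes B).Finite := minimalPrimes.finite_of_isNoetherianRing B
  haveI : Fintype ↥(minimalPrimes B) := hfinS.fintype
  have hmax : ∀ i : ↥(minimalPrimes B), ∃ m : Ideal B, m.IsMaximal ∧ i.1 ≤ m := by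
    intro i
    have hp : i.1.IsPrime := Ideal.minimalPrimes_isPrime i.2
    exact Ideal.exists_le_maximal i.1 hp.ne_top
  choose mI hmI hle using hmax
  letI : ∀ i, Field (B ⧸ mI i) := fun i => @Ideal.Quotient.field _ _ (mI i) (hmI i)
  haveI : ∀ i, Module.Finite k (B ⧸ mI i) := fun i =>
    finite_of_finite_type_of_isJacobsonRing k (B ⧸ mI i)
  let Φ : B →ₐ[k] (∀ i, B ⧸ mI i) := Pi.algHom k _ (fun i => Ideal.Quotient.mkₐ k (mI i))
  refine ⟨Module.finrank k (∀ i, B ⧸ mI i), ?_⟩
  rintro E ⟨hEf, hEe⟩
  haveI : IsArtinianRing E := IsArtinianRing.of_finite k E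
  haveI : IsReduced E := Algebra.FormallyUnramified.isReduced_of_field k E
  apply LinearMap.finrank_le_finrank_of_injective (f := (Φ.comp E.val).toLinearMap)
  rw [← LinearMap.ker_eq_bot, LinearMap.ker_eq_bot']
  intro x hx
  have hxm : ∀ i, (x : B) ∈ mI i := by
    intro i
    have := congrFun hx i
    simpa [Φ, Ideal.Quotient.eq_zero_iff_mem] using this
  obtain ⟨y, hy⟩ := exists_vN x
  set e : E := x * y with he
  have hee : e * e = e := by
    calc e * e = (x * x * y) * y := by rw [he]; ring
      _ = e := by rw [← hy]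
  have heB : ((e : B) * (1 - (e : B))) = 0 := by
    have : (e : B) * (e : B) = (e : B) := by
      have := congrArg (fun z : E => (z : B)) hee
      simpa using this
    rw [mul_sub, mul_one, this, sub_self]
  have hem : ∀ i, (e : B) ∈ mI i := by
    intro i
    rw [he, Subalgebra.coe_mul]
    exact Ideal.mul_mem_right _ _ (hxm i)
  have heP : ∀ P ∈ minimalPrimes B, (e : B) ∈ P := by
    intro P hP
    have hp : P.IsPrime := Ideal.minimalPrimes_isPrime hP
    have h0 : (e : B) * (1 - (e : B)) ∈ P := by rw [heB]; exact P.zero_mem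
    rcases hp.mem_or_mem h0 with h1 | h1
    · exact h1
    · exfalso
      have h2 : (1 : B) ∈ mI ⟨P, hP⟩ := by
        have : (1 : B) = (e : B) + (1 - (e : B)) := by ring
        rw [this]
        exact Ideal.add_mem _ (hem ⟨P, hP⟩) (hle ⟨P, hP⟩ h1)
      exact (hmI ⟨P, hP⟩).ne_top ((Ideal.eq_top_iff_one _).2 h2)
  have hrad : (e : B) ∈ (⊥ : Ideal B).radical := by
    rw [← Ideal.sInf_minimalPrimes, Ideal.mem_sInf]
    intro P hP
    exact heP P hP
  obtain ⟨n, hn⟩ := hrad
  rw [Ideal.mem_bot] at hn
  have he0 : (e : B) = 0 := by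
    rcases Nat.eq_zero_or_pos n with h0 | hpos
    · rw [h0, pow_zero] at hn
      have : (e : B) = (e : B) * 1 := (mul_one _).symm
      rw [this, hn, mul_zero]
    · have hid : IsIdempotentElem (e : B) := by
        have := congrArg (fun z : E => (z : B)) hee
        simp only [Subalgebra.coe_mul] at this
        exact this
      obtain ⟨n', rfl⟩ := Nat.exists_eq_succ_of_ne_zero hpos.ne'
      rwa [hid.pow_succ_eq] at hn
  have he0' : e = 0 := Subtype.ext he0
  calc x = x * x * y := hy
    _ = x * e := by rw [he]; ring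
    _ = 0 := by rw [he0', mul_zero]

end bound

section main

variable (k : Type u) [Field k] (B : Type u) [CommRing B] [Algebra k B] [Algebra.FiniteType k B]

theorem exists_largest (A : Subalgebra k B) :
    ∃ E : Subalgebra k B, E ≤ A ∧ FinEt k E ∧
      ∀ E' : Subalgebra k B, E' ≤ A → FinEt k E' → E' ≤ E := by
  classical
  set S : Set ℕ := {n | ∃ E : Subalgebra k B, E ≤ A ∧ FinEt k E ∧ Module.finrank k E = n} with hS
  have hne : S.Nonempty := by
    refine ⟨_, (Algebra.ofId k B).range, ?_, finEt_bot, rfl⟩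
    rintro _ ⟨c, rfl⟩
    exact A.algebraMap_mem c
  obtain ⟨N, hN⟩ := exists_bound (k := k) (B := B)
  have hbdd : BddAbove S := ⟨N, by rintro _ ⟨E, -, hE, rfl⟩; exact hN E hE⟩
  obtain ⟨E, hEA, hE, hEn⟩ := Nat.sSup_mem hne hbdd
  refine ⟨E, hEA, hE, fun E' hE'A hE' => ?_⟩
  have hsup : FinEt k (E ⊔ E') := finEt_sup hE hE'
  have hle : Module.finrank k ↥(E ⊔ E') ≤ Module.finrank k E := by
    rw [hEn]
    exact le_csSup hbdd ⟨E ⊔ E', sup_le hEA hE'A, hsup, rfl⟩
  haveI : FiniteDimensional k ↥(E ⊔ E') := hsup.1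
  have heq : E = E ⊔ E' := Subalgebra.eq_of_le_of_finrank_le le_sup_left hle
  rw [heq]
  exact le_sup_right

theorem main (A : Subalgebra k B) :
    ∃ (E : Subalgebra k B) (hE : E ≤ A), Module.Finite k E ∧ Algebra.Etale k E ∧
      (∀ E' : Subalgebra k B, E' ≤ A → Module.Finite k E' → Algebra.Etale k E' → E' ≤ E) ∧
      Function.Surjective (PrimeSpectrum.comap (Subalgebra.inclusion hE).toRingHom) ∧
      ∀ p q : PrimeSpectrum A, PrimeSpectrum.comap (Subalgebra.inclusion hE).toRingHom p =
          PrimeSpectrum.comap (Subalgebra.inclusion hE).toRingHom q ↔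
        connectedComponent p = connectedComponent q := by
  classical
  obtain ⟨E, hEA, ⟨hEf, hEe⟩, hlargest⟩ := exists_largest k B A
  refine ⟨E, hEA, hEf, hEe, fun E' h1 h2 h3 => hlargest E' h1 ⟨h2, h3⟩, ?_⟩
  set ι : E →+* A := (Subalgebra.inclusion hEA).toRingHom with hι
  have hinj : Function.Injective ι := Subalgebra.inclusion_injective hEA
  set φ : PrimeSpectrum A → PrimeSpectrum E := PrimeSpectrum.comap ι with hφ
  have hφcont : Continuous φ := PrimeSpectrum.continuous_comap ι
  haveI : IsArtinianRing E := IsArtinianRing.of_finite k E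
  have hsurj : Function.Surjective φ := by
    have hd : DenseRange φ := by
      rw [hφ, PrimeSpectrum.denseRange_comap_iff_ker_le_nilRadical,
        (RingHom.injective_iff_ker_eq_bot ι).1 hinj]
      exact bot_le
    intro x
    have := hd x
    rwa [closure_discrete] at this
  -- the fibres are preconnected
  have hfib : ∀ x : PrimeSpectrum E, IsPreconnected (φ ⁻¹' {x}) := by
    intro x
    rw [isPreconnected_closed_iff]
    intro t t' ht ht' hsub hnt hnt'
    by_contra hcon
    rw [Set.not_nonempty_iff_eq_empty] at hcon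
    set F := φ ⁻¹' {x} with hF
    have hFclopen : IsClopen F := (isClopen_discrete {x}).preimage hφcont
    set W := F ∩ t with hW
    have hWclosed : IsClosed W := hFclopen.1.inter ht
    have hWeq : W = F ∩ t'ᶜ := by
      ext p
      constructor
      · rintro ⟨hpF, hpt⟩
        refine ⟨hpF, fun hpt' => ?_⟩
        have : p ∈ F ∩ (t ∩ t') := ⟨hpF, hpt, hpt'⟩
        rw [hcon] at this
        exact this
      · rintro ⟨hpF, hpt'⟩
        refine ⟨hpF, ?_⟩
        rcases hsub hpF with h | h
        · exact h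
        · exact absurd h hpt'
    have hWopen : IsOpen W := by
      rw [hWeq]; exact hFclopen.2.inter ht'.isOpen_compl
    obtain ⟨f, hf, hWf⟩ := PrimeSpectrum.isClopen_iff.1 ⟨hWclosed, hWopen⟩
    have hfB : IsIdempotentElem ((f : A) : B) := by
      have := congrArg (fun z : A => (z : B)) hf.eq
      simp only [Subalgebra.coe_mul] at this
      exact this
    have hadj := finEt_adjoin_idempotent (k := k) hfB
    have hadjA : Algebra.adjoin k {((f : A) : B)} ≤ A :=
      Algebra.adjoin_le (by simpa using f.2)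
    have hfE : ((f : A) : B) ∈ E := hlargest _ hadjA hadj (Algebra.subset_adjoin rfl)
    set f₀ : E := ⟨(f : B), hfE⟩ with hf₀
    have hιf : ι f₀ = f := Subtype.ext rfl
    have hW' : ∀ p, p ∈ W ↔ φ p ∈ (PrimeSpectrum.basicOpen f₀ : Set (PrimeSpectrum E)) := by
      intro p
      rw [hWf]
      simp only [SetLike.mem_coe, PrimeSpectrum.mem_basicOpen, hφ, PrimeSpectrum.comap_asIdeal,
        Ideal.mem_comap, hιf]
    obtain ⟨p₁, hp₁⟩ := hnt
    obtain ⟨p₂, hp₂F, hp₂t'⟩ := hnt'
    have hxD : x ∈ (PrimeSpectrum.basicOpen f₀ : Set (PrimeSpectrum E)) := by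
      have := (hW' p₁).1 hp₁
      rwa [show φ p₁ = x from hp₁.1] at this
    have hp₂W : p₂ ∈ W := (hW' p₂).2 (by rw [show φ p₂ = x from hp₂F]; exact hxD)
    rw [hWeq] at hp₂W
    exact hp₂W.2 hp₂t'
  refine ⟨hsurj, fun p q => ⟨fun hpq => ?_, fun hpq => ?_⟩⟩
  · have hp : p ∈ φ ⁻¹' {φ p} := rfl
    have hq : q ∈ φ ⁻¹' {φ p} := hpq.symm
    exact connectedComponent_eq ((hfib (φ p)).subset_connectedComponent hp hq)
  · have hq : q ∈ connectedComponent p := by rw [hpq]; exact mem_connectedComponent
    have himg : IsPreconnected (φ '' connectedComponent p) :=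
      isPreconnected_connectedComponent.image φ hφcont.continuousOn
    exact himg.subsingleton ⟨p, mem_connectedComponent, rfl⟩ ⟨q, hq, rfl⟩

end main

end Groth.Agent.Lib.Helper15.MaxEtaleSub
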