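import Mathlib
import Groth.Prelude.Def_GSzMilK

/-!
# Milnor K-theory: symbol calculus (helper15)
-/

set_option autoImplicit false
universe u v w

namespace Groth.Agent.Lib.Helper15.MilKL

open MilK

section steinberg

variable {F : Type u} [Field F] {M : Type w} [AddCommGroup M]

/-- An abstract Steinberg symbol on `F` with values in an additive group. -/
structure IsStSymb (s : Fˣ → Fˣ → M) : Prop where
  mul_left : ∀ a a' b, s (a * a') b = s a b + s a' b
  mul_right : ∀ a b b', s a (b * b') = s a b + s a b'
  steinberg : ∀ a b : Fˣ, (a : F) + (b : F) = 1 → s a b = 0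

namespace IsStSymb

variable {s : Fˣ → Fˣ → M} (hs : IsStSymb s)
include hs

theorem one_left (b : Fˣ) : s 1 b = 0 := by
  have := hs.mul_left 1 1 b
  rw [one_mul] at this
  simpa using this

theorem one_right (a : Fˣ) : s a 1 = 0 := by
  have := hs.mul_right a 1 1
  rw [one_mul] at this
  simpa using this

theorem inv_left (a b : Fˣ) : s a⁻¹ b = - s a b := by
  have := hs.mul_left a a⁻¹ b
  rw [mul_inv_cancel, hs.one_left] at this
  exact eq_neg_of_add_eq_zero_right this.symm

theorem inv_right (a b : Fˣ) : s a b⁻¹ = - s a b := by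
  have := hs.mul_right a b b⁻¹
  rw [mul_inv_cancel, hs.one_right] at this
  exact eq_neg_of_add_eq_zero_right this.symm

theorem div_right (a b c : Fˣ) : s a (b / c) = s a b - s a c := by
  rw [div_eq_mul_inv, hs.mul_right, hs.inv_right, sub_eq_add_neg]

theorem div_left (a b c : Fˣ) : s (a / b) c = s a c - s b c := by
  rw [div_eq_mul_inv, hs.mul_left, hs.inv_left, sub_eq_add_neg]

/-- `{a, -a} = 0`. -/
theorem neg_self (a : Fˣ) : s a (-a) = 0 := by
  by_cases h1 : a = 1
  · subst h1
    exact hs.one_left _
  have ha1 : (a : F) ≠ 1 := fun h => h1 (Units.ext h)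
  have h2 : (1 : F) - a ≠ 0 := sub_ne_zero.mpr (Ne.symm ha1)
  have h3 : (1 : F) - (a : F)⁻¹ ≠ 0 := by
    rw [sub_ne_zero]
    intro h
    apply ha1
    have : (a : F) = ((a : F)⁻¹)⁻¹ := (inv_inv _).symm
    rw [this, ← h, inv_one]
  have hneg : -a = Units.mk0 _ h2 / Units.mk0 _ h3 := by
    apply Units.ext
    rw [Units.val_neg, Units.val_div_eq_div_val, Units.val_mk0, Units.val_mk0]
    field_simp
    ring
  rw [hneg, hs.div_right, hs.steinberg a (Units.mk0 _ h2) (by simp), zero_sub, ← hs.inv_left]
  exact hs.steinberg a⁻¹ (Units.mk0 _ h3) (by simp)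

/-- `{a, a} = {a, -1}`. -/
theorem self_eq (a : Fˣ) : s a a = s a (-1) := by
  have h : s a a = s a ((-1) * (-a)) := by
    rw [show (-1 : Fˣ) * (-a) = a by simp]
  rw [h, hs.mul_right, hs.neg_self, add_zero]

/-- Anticommutativity. -/
theorem swap (a b : Fˣ) : s a b + s b a = 0 := by
  have h := hs.neg_self (a * b)
  have h2 : -(a * b) = (-a) * b := by simp
  have h3 : -(a * b) = a * (-b) := by simp
  rw [hs.mul_left] at h
  have e1 : s a (-(a * b)) = s a b := by
    rw [h2, hs.mul_right, hs.neg_self, zero_add]
  have e2 : s b (-(a * b)) = s b a := by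
    rw [h3, hs.mul_right, hs.neg_self, add_zero]
  rwa [e1, e2] at h

theorem swap' (a b : Fˣ) : s b a = - s a b :=
  eq_neg_of_add_eq_zero_right (hs.swap a b)

theorem two_nsmul_neg_one (a : Fˣ) : s a (-1) + s a (-1) = 0 := by
  rw [← hs.mul_right]
  simpa using hs.one_right a

/-- `{b, c} + {b + c, -(b/c)} = 0`. -/
theorem add_div (b c : Fˣ) (h : (b : F) + (c : F) ≠ 0) :
    s b c + s (Units.mk0 _ h) (-(b / c)) = 0 := by
  set t : Fˣ := Units.mk0 _ h with ht
  have hst : s (b / t) (c / t) = 0 := by
    apply hs.steinberg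
    rw [Units.val_div_eq_div_val, Units.val_div_eq_div_val, ht, Units.val_mk0, ← _root_.add_div,
      div_self h]
  rw [hs.div_left, hs.div_right, hs.div_right, hs.self_eq t, hs.swap' t b] at hst
  have h5 : -(b / c) = b * c⁻¹ * (-1) := by
    rw [div_eq_mul_inv]; simp
  rw [h5, hs.mul_right, hs.mul_right, hs.inv_right]
  calc s b c + (s t b + -s t c + s t (-1)) = s b c - -s t b - (s t c - s t (-1)) := by abel
    _ = 0 := hst

end IsStSymb

end steinberg

section symbol
variable {F : Type u} [Field F]

theorem ofMul_update {n : ℕ} (x : Fin n → Fˣ) (i : Fin n) (c : Fˣ) :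
    (fun j => Additive.ofMul (Function.update x i c j)) =
      Function.update (fun j => Additive.ofMul (x j)) i (Additive.ofMul c) := by
  funext j
  exact Function.apply_update (fun _ => Additive.ofMul) x i c j

theorem symbol_update_mul {n : ℕ} (x : Fin n → Fˣ) (i : Fin n) (a b : Fˣ) :
    (symbol (Function.update x i (a * b)) : K F n) =
      symbol (Function.update x i a) + symbol (Function.update x i b) := by
  unfold symbol
  rw [ofMul_update, ofMul_update, ofMul_update, ofMul_mul, MultilinearMap.map_update_add, map_add]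

/-- The symbol as a Steinberg symbol in the positions `i < j`. -/
theorem isStSymb_symbol {n : ℕ} (x : Fin n → Fˣ) (i j : Fin n) (hij : i < j) :
    IsStSymb (fun a b => (symbol (Function.update (Function.update x i a) j b) : K F n)) where
  mul_left a a' b := by
    have hne : i ≠ j := ne_of_lt hij
    show symbol (Function.update (Function.update x i (a * a')) j b) =
      symbol (Function.update (Function.update x i a) j b) +
        symbol (Function.update (Function.update x i a') j b)
    rw [Function.update_comm hne (a * a') b x, Function.update_comm hne a b x,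
      Function.update_comm hne a' b x, symbol_update_mul]
  mul_right a b b' := symbol_update_mul _ j b b'
  steinberg a b hab := by
    apply symbol_eq_zero_of_isSteinberg
    refine ⟨i, j, hij, ?_⟩
    rw [Function.update_self, Function.update_of_ne (ne_of_lt hij), Function.update_self]
    exact hab

end symbol

section two
variable {F : Type u} [Field F]

theorem update_update_two (x : Fin 2 → Fˣ) (a b : Fˣ) :
    Function.update (Function.update x 0 a) 1 b = ![a, b] := by
  funext k
  fin_cases k <;> simp

theorem isStSymb_two : IsStSymb (fun a b => (symbol ![a, b] : K F 2)) := by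
  have h := isStSymb_symbol (F := F) (![1, 1] : Fin 2 → Fˣ) 0 1 (by decide)
  simp only [update_update_two] at h
  exact h

end two

section finite
variable {F : Type u} [Field F] {M : Type w} [AddCommGroup M]

namespace IsStSymb
variable {s : Fˣ → Fˣ → M} (hs : IsStSymb s)
include hs

theorem pow_left (a b : Fˣ) (k : ℕ) : s (a ^ k) b = k • s a b := by
  induction k with
  | zero => simp [hs.one_left]
  | succ k ih => rw [pow_succ, hs.mul_left, ih, succ_nsmul]

theorem pow_right (a b : Fˣ) (k : ℕ) : s a (b ^ k) = k • s a b := by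
  induction k with
  | zero => simp [hs.one_right]
  | succ k ih => rw [pow_succ, hs.mul_right, ih, succ_nsmul]

/-- Steinberg symbols on finite fields are trivial. -/
theorem eq_zero_of_finite [Finite F] (a b : Fˣ) : s a b = 0 := by
  classical
  have := Fintype.ofFinite F
  obtain ⟨g, hg⟩ := IsCyclic.exists_generator (α := Fˣ)
  have hpow : ∀ x : Fˣ, ∃ k : ℕ, x = g ^ k := by
    intro x
    obtain ⟨k, hk⟩ := (mem_powers_iff_mem_zpowers).mpr (hg x)
    exact ⟨k, hk.symm⟩
  have hkl : ∀ x y : Fˣ, ∃ m : ℕ, s x y = m • s g g := by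
    intro x y
    obtain ⟨k, rfl⟩ := hpow x
    obtain ⟨l, rfl⟩ := hpow y
    exact ⟨k * l, by rw [hs.pow_left, hs.pow_right, mul_smul]⟩
  suffices hgg : s g g = 0 by
    obtain ⟨m, hm⟩ := hkl a b
    rw [hm, hgg, smul_zero]
  have h2 : 2 • s g g = 0 := by
    rw [two_nsmul, hs.self_eq]
    exact hs.two_nsmul_neg_one g
  have h2' : ∀ x y : Fˣ, 2 • s x y = 0 := by
    intro x y
    obtain ⟨m, hm⟩ := hkl x y
    rw [hm, smul_comm, h2, smul_zero]
  by_cases hchar : ringChar F = 2
  · have : CharP F 2 := ringChar.of_eq hchar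
    have h1 : (-1 : Fˣ) = 1 := by
      apply Units.ext
      simp [CharTwo.neg_eq]
    rw [hs.self_eq, h1, hs.one_right]
  · obtain ⟨c, hc⟩ := FiniteField.exists_nonsquare hchar
    have hc0 : c ≠ 0 := fun h => hc (h ▸ IsSquare.zero)
    have hcard := FiniteField.odd_card_of_char_ne_two hchar
    obtain ⟨u, v, huv⟩ := FiniteField.exists_root_sum_quadratic
      (f := (Polynomial.X ^ 2 : Polynomial F)) (g := Polynomial.X ^ 2 - Polynomial.C c⁻¹)
      (Polynomial.degree_X_pow 2) (Polynomial.degree_X_pow_sub_C (by norm_num) _) hcard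
    simp only [Polynomial.eval_pow, Polynomial.eval_X, Polynomial.eval_sub, Polynomial.eval_C] at huv
    have huv' : c * u ^ 2 + c * v ^ 2 = 1 := by
      have : u ^ 2 + v ^ 2 = c⁻¹ := by linear_combination huv
      rw [← mul_add, this, mul_inv_cancel₀ hc0]
    have hcinv : ¬ IsSquare c⁻¹ := fun h => hc (by simpa using h.inv)
    have hu0 : u ≠ 0 := by
      rintro rfl
      apply hcinv
      refine ⟨v, ?_⟩
      have : (0 : F) ^ 2 + v ^ 2 = c⁻¹ := by linear_combination huv
      rw [← this]; ring
    have hv0 : v ≠ 0 := by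
      rintro rfl
      apply hcinv
      refine ⟨u, ?_⟩
      have : u ^ 2 + (0 : F) ^ 2 = c⁻¹ := by linear_combination huv
      rw [← this]; ring
    let cU : Fˣ := Units.mk0 c hc0
    let uU : Fˣ := Units.mk0 u hu0
    let vU : Fˣ := Units.mk0 v hv0
    have hst : s (cU * uU ^ 2) (cU * vU ^ 2) = 0 := by
      apply hs.steinberg
      simpa [cU, uU, vU] using huv'
    rw [hs.mul_left, hs.mul_right, hs.mul_right, hs.pow_right, hs.pow_left, hs.pow_left, hs.pow_right,
      h2', h2', h2', smul_zero, add_zero, add_zero, add_zero] at hst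
    -- `s c c = 0` with `c = g ^ k`, `k` odd
    obtain ⟨k, hk⟩ := hpow cU
    have hkodd : Odd k := by
      rcases Nat.even_or_odd k with he | ho
      · exfalso
        obtain ⟨r, hr⟩ := he
        apply hc
        refine ⟨((g ^ r : Fˣ) : F), ?_⟩
        have : cU = g ^ r * g ^ r := by rw [hk, hr, pow_add]
        have h3 := congrArg (fun x : Fˣ => (x : F)) this
        simpa [cU] using h3
      · exact ho
    rw [hk, hs.pow_left, hs.pow_right, ← mul_smul] at hst
    obtain ⟨r, hr⟩ := hkodd
    have : k * k = 2 * (2 * r * r + 2 * r) + 1 := by rw [hr]; ring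
    rw [this, add_smul, mul_smul, smul_comm, h2, smul_zero, zero_add, one_smul] at hst
    exact hst

end IsStSymb
end finite

section gen
variable {F : Type u} [Field F]

/-- Induction principle: `K F n` is generated by symbols. -/
theorem K_induction {n : ℕ} {P : K F n → Prop} (hsymb : ∀ x : Fin n → Fˣ, P (symbol x))
    (hadd : ∀ a b, P a → P b → P (a + b)) (hneg : ∀ a, P a → P (-a)) (a : K F n) : P a := by
  obtain ⟨t, rfl⟩ := mk_surjective F n a
  have h0 : P 0 := by
    have := hadd _ _ (hsymb (fun _ => 1)) (hneg _ (hsymb (fun _ => 1)))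
    rwa [add_neg_cancel] at this
  have hz : ∀ (r : ℤ) (b : K F n), P b → P (r • b) := by
    intro r b hb
    induction r using Int.induction_on with
    | zero => rwa [zero_smul]
    | succ i ih => rw [add_smul, one_smul]; exact hadd _ _ ih hb
    | pred i ih => rw [sub_smul, one_smul, sub_eq_add_neg]; exact hadd _ _ ih (hneg _ hb)
  induction t using PiTensorProduct.induction_on with
  | smul_tprod r f =>
    rw [map_zsmul, mk_tprod]
    exact hz r _ (hsymb _)
  | add x y hx hy => rw [map_add]; exact hadd _ _ hx hy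

/-- Additive maps out of `K F n` agreeing on symbols are equal. -/
theorem hom_ext {n : ℕ} {M : Type w} [AddCommGroup M] {f g : K F n →+ M}
    (h : ∀ x : Fin n → Fˣ, f (symbol x) = g (symbol x)) : f = g := by
  ext a
  induction a using K_induction with
  | hsymb x => exact h x
  | hadd a b ha hb => rw [map_add, map_add, ha, hb]
  | hneg a ha => rw [map_neg, map_neg, ha]

theorem update_update_self {n : ℕ} (x : Fin n → Fˣ) (i j : Fin n) :
    Function.update (Function.update x i (x i)) j (x j) = x := by
  rw [Function.update_eq_self, Function.update_eq_self]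

end gen

section perm
variable {F : Type u} [Field F]

theorem update_update_swap {n : ℕ} (x : Fin n → Fˣ) (i j : Fin n) (hij : i ≠ j) :
    Function.update (Function.update x i (x j)) j (x i) = x ∘ Equiv.swap i j := by
  funext k
  by_cases hkj : k = j
  · subst hkj
    simp
  · by_cases hki : k = i
    · subst hki
      simp [Function.update_of_ne hkj]
    · simp [Function.update_of_ne hkj, Function.update_of_ne hki, Equiv.swap_apply_of_ne_of_ne hki hkj]

theorem symbol_comp_swap {n : ℕ} (x : Fin n → Fˣ) (i j : Fin n) (hij : i ≠ j) :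
    (symbol (x ∘ Equiv.swap i j) : K F n) = - symbol x := by
  wlog hlt : i < j generalizing i j
  · have hlt' : j < i := lt_of_le_of_ne (not_lt.mp hlt) (Ne.symm hij)
    rw [Equiv.swap_comm]
    exact this j i (Ne.symm hij) hlt'
  have hs := isStSymb_symbol x i j hlt
  have h := hs.swap' (x i) (x j)
  simp only [update_update_self, update_update_swap x i j hij] at h
  exact h

theorem symbol_comp_perm {n : ℕ} (σ : Equiv.Perm (Fin n)) (x : Fin n → Fˣ) :
    (symbol (x ∘ σ) : K F n) = ((Equiv.Perm.sign σ : ℤˣ) : ℤ) • symbol x := by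
  induction σ using Equiv.Perm.swap_induction_on generalizing x with
  | one => simp
  | swap_mul f i j hij ih =>
    have h1 : x ∘ ⇑(Equiv.swap i j * f) = (x ∘ Equiv.swap i j) ∘ f := by
      funext k; simp
    rw [h1, ih, symbol_comp_swap x i j hij, Equiv.Perm.sign_mul, Equiv.Perm.sign_swap hij]
    simp

end perm

section rot

theorem rot_pow_val (k j : ℕ) (i : Fin k) : ((finRotate k ^ j) i).val = (i.val + j) % k := by
  induction j with
  | zero => simp [Nat.mod_eq_of_lt i.isLt]
  | succ j ih =>
    rw [pow_succ', Equiv.Perm.mul_apply]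
    obtain ⟨k', rfl⟩ : ∃ k', k = k' + 1 := ⟨k - 1, by have := i.isLt; omega⟩
    rw [coe_finRotate]
    split_ifs with h
    · have h1 : ((finRotate (k' + 1) ^ j) i).val = k' := by rw [h]; rfl
      rw [ih] at h1
      have hdm := Nat.div_add_mod (i.val + j) (k' + 1)
      rw [← add_assoc, ← hdm, h1, add_assoc, Nat.mul_add_mod]
      simp
    · have h1 : ((finRotate (k' + 1) ^ j) i).val ≠ k' := fun hh => h (Fin.ext hh)
      have h2 : ((finRotate (k' + 1) ^ j) i).val < k' + 1 := Fin.isLt _
      rw [ih] at h1 h2 ⊢
      have hdm := Nat.div_add_mod (i.val + j) (k' + 1)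
      conv_rhs => rw [← add_assoc, ← hdm, add_assoc, Nat.mul_add_mod,
        Nat.mod_eq_of_lt (by omega : (i.val + j) % (k' + 1) + 1 < k' + 1)]

variable {F : Type u} [Field F]

theorem append_eq_append_comp_rot {n m : ℕ} (a : Fin n → Fˣ) (b : Fin m → Fˣ) :
    Fin.append a b = ((Fin.append b a) ∘ Fin.cast (Nat.add_comm n m)) ∘ (finRotate (n + m) ^ m) := by
  funext i
  simp only [Function.comp_apply]
  induction i using Fin.addCases with
  | left i' =>
    rw [Fin.append_left]
    have hv : (Fin.cast (Nat.add_comm n m) ((finRotate (n + m) ^ m) (Fin.castAdd m i'))) =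
        Fin.natAdd m i' := by
      apply Fin.ext
      simp only [Fin.val_cast, rot_pow_val, Fin.val_castAdd, Fin.val_natAdd]
      rw [Nat.mod_eq_of_lt (by have := i'.isLt; omega)]
      omega
    rw [hv, Fin.append_right]
  | right j' =>
    rw [Fin.append_right]
    have hv : (Fin.cast (Nat.add_comm n m) ((finRotate (n + m) ^ m) (Fin.natAdd n j'))) =
        Fin.castAdd n j' := by
      apply Fin.ext
      simp only [Fin.val_cast, rot_pow_val, Fin.val_castAdd, Fin.val_natAdd]
      have : n + j'.val + m = j'.val + (n + m) := by omega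
      rw [this, Nat.add_mod_right, Nat.mod_eq_of_lt (by have := j'.isLt; omega)]
    rw [hv, Fin.append_left]

theorem sign_rot (n m : ℕ) :
    ((Equiv.Perm.sign (finRotate (n + m) ^ m) : ℤˣ) : ℤ) = (-1) ^ (n * m) := by
  rw [map_pow, sign_finRotate]
  simp only [Units.val_pow_eq_pow_val, Units.val_neg, Units.val_one]
  rw [← pow_mul]
  rcases Nat.eq_zero_or_pos m with rfl | hm
  · simp
  have h : (n + m - 1) * m = n * m + m * (m - 1) := by
    have : n + m - 1 = n + (m - 1) := by omega
    rw [this]; ring
  rw [h, pow_add, (Nat.even_mul_pred_self m).neg_one_pow, mul_one]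

theorem symbol_append_comm {n m : ℕ} (a : Fin n → Fˣ) (b : Fin m → Fˣ) :
    (symbol (Fin.append a b) : K F (n + m)) =
      ((-1 : ℤ) ^ (n * m)) • symbol ((Fin.append b a) ∘ Fin.cast (Nat.add_comm n m)) := by
  rw [append_eq_append_comp_rot, symbol_comp_perm, sign_rot]

end rot

section lam
variable {F : Type u} [Field F]

/-- The multilinear map `y ↦ {a, y₁, …, yₙ}`. -/
noncomputable def lamM (a : Fˣ) (n : ℕ) :
    MultilinearMap ℤ (fun _ : Fin n => Additive Fˣ) (K F (n + 1)) :=
  (mk F (n + 1)).toIntLinearMap.compMultilinearMap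
    ((PiTensorProduct.tprod ℤ (s := fun _ : Fin (n + 1) => Additive Fˣ)).curryLeft
      (Additive.ofMul a))

theorem lamM_apply (a : Fˣ) {n : ℕ} (y : Fin n → Additive Fˣ) :
    lamM a n y = symbol (Fin.cons a fun i => (y i).toMul) := by
  simp only [lamM, LinearMap.compMultilinearMap_apply, MultilinearMap.curryLeft_apply,
    AddMonoidHom.coe_toIntLinearMap, symbol]
  congr 2

/-- Left multiplication by the symbol `{a}`: `{y₁, …, yₙ} ↦ {a, y₁, …, yₙ}`. -/
noncomputable def lam (a : Fˣ) (n : ℕ) : K F n →+ K F (n + 1) :=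
  MilK.lift (lamM a n) (by
    intro x hx
    rw [lamM_apply]
    apply symbol_eq_zero_of_isSteinberg
    obtain ⟨i, j, hij, h⟩ := hx
    refine ⟨i.succ, j.succ, Fin.succ_lt_succ_iff.mpr hij, ?_⟩
    simpa using h)

@[simp]
theorem lam_symbol (a : Fˣ) {n : ℕ} (y : Fin n → Fˣ) :
    lam a n (symbol y) = symbol (Fin.cons a y) := by
  rw [lam, lift_symbol, lamM_apply]
  rfl

theorem cons_cons_eq_update {n : ℕ} (y : Fin n → Fˣ) (a b : Fˣ) :
    (Fin.cons a (Fin.cons b y) : Fin (n + 1 + 1) → Fˣ) =
      Function.update (Function.update (Fin.cons 1 (Fin.cons 1 y) : Fin (n + 1 + 1) → Fˣ) 0 a) 1 b := by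
  funext i
  refine Fin.cases ?_ (fun j => ?_) i
  · simp
  · refine Fin.cases ?_ (fun l => ?_) j
    · simp
    · have h1 : (l.succ.succ : Fin (n + 1 + 1)) ≠ 1 := by
        intro h
        have := congrArg Fin.val h
        simp at this
      have h0 : (l.succ.succ : Fin (n + 1 + 1)) ≠ 0 := Fin.succ_ne_zero _
      rw [Function.update_of_ne h1, Function.update_of_ne h0]
      simp

/-- `(a, b) ↦ {a}·{b}·z` is a Steinberg symbol. -/
theorem isStSymb_lam {n : ℕ} (z : K F n) :
    IsStSymb (fun a b : Fˣ => lam a (n + 1) (lam b n z)) := by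
  induction z using K_induction with
  | hsymb y =>
    have h := isStSymb_symbol (Fin.cons 1 (Fin.cons 1 y) : Fin (n + 1 + 1) → Fˣ) 0 1 (by
      rw [Fin.lt_def]; simp)
    simp only [← cons_cons_eq_update] at h
    simpa only [lam_symbol] using h
  | hadd z z' hz hz' =>
    refine ⟨fun a a' b => ?_, fun a b b' => ?_, fun a b hab => ?_⟩
    · simp only [map_add]
      rw [hz.mul_left, hz'.mul_left]; abel
    · simp only [map_add]
      rw [hz.mul_right, hz'.mul_right]; abel
    · simp only [map_add]
      rw [hz.steinberg a b hab, hz'.steinberg a b hab, add_zero]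
  | hneg z hz =>
    refine ⟨fun a a' b => ?_, fun a b b' => ?_, fun a b hab => ?_⟩
    · simp only [map_neg]
      rw [hz.mul_left]; abel
    · simp only [map_neg]
      rw [hz.mul_right]; abel
    · simp only [map_neg]
      rw [hz.steinberg a b hab, neg_zero]

theorem lam_mul (a b : Fˣ) {n : ℕ} (z : K F n) : lam (a * b) n z = lam a n z + lam b n z := by
  induction z using K_induction with
  | hsymb y =>
    simp only [lam_symbol]
    have : ∀ c : Fˣ, (Fin.cons c y : Fin (n + 1) → Fˣ) = Function.update (Fin.cons 1 y) 0 c := by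
      intro c
      rw [Fin.update_cons_zero]
    rw [this, this a, this b, symbol_update_mul]
  | hadd z z' hz hz' => simp only [map_add, hz, hz']; abel
  | hneg z hz => simp only [map_neg, hz]; abel

theorem lam_one {n : ℕ} (z : K F n) : lam (1 : Fˣ) n z = 0 := by
  have := lam_mul (1 : Fˣ) 1 z
  rw [one_mul] at this
  simpa using this

end lam

end Groth.Agent.Lib.Helper15.MilKL
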