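import Mathlib
import Groth.Agent.Lib.Helper15.MilK

/-!
# Milnor K-theory: tame symbols and specialization maps of a discrete valuation ring (helper15)
-/

set_option autoImplicit false
universe u v w

namespace Groth.Agent.Lib.Helper15.MilKL

open MilK

section dvr
variable (A : Type u) [CommRing A] [IsDomain A] [IsDiscreteValuationRing A]
  (L : Type v) [Field L] [Algebra A L] [IsFractionRing A L] (ϖ : A) (hϖ : Irreducible ϖ)

/-- `(e, u) ↦ ϖ ^ e * u`. -/
noncomputable def decompHom : Multiplicative ℤ × Aˣ →* Lˣ :=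
  MonoidHom.coprod (zpowersHom Lˣ (unitFrac A L ϖ hϖ.ne_zero)) (unitToFrac A L)

omit [IsDomain A] [IsDiscreteValuationRing A] in
theorem decompHom_apply (e : ℤ) (u : Aˣ) :
    decompHom A L ϖ hϖ (Multiplicative.ofAdd e, u) =
      unitFrac A L ϖ hϖ.ne_zero ^ e * unitToFrac A L u := by
  simp [decompHom]

theorem eq_one_of_zpow_mul_eq_one (e : ℤ) (u : Aˣ)
    (h : unitFrac A L ϖ hϖ.ne_zero ^ e * unitToFrac A L u = 1) : e = 0 ∧ u = 1 := by
  have hinj := IsFractionRing.injective A L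
  have h' := congrArg (fun x : Lˣ => (x : L)) h
  simp only [Units.val_mul, Units.val_zpow_eq_zpow_val, coe_unitFrac, Units.val_one] at h'
  have hu : ((unitToFrac A L u : Lˣ) : L) = algebraMap A L (u : A) := rfl
  rw [hu] at h'
  have hϖL : algebraMap A L ϖ ≠ 0 := fun h0 =>
    hϖ.ne_zero (hinj (by rw [h0, map_zero]))
  rcases le_or_gt 0 e with he | he
  · obtain ⟨m, rfl⟩ := Int.eq_ofNat_of_zero_le he
    rw [zpow_natCast, ← map_pow, ← map_mul, ← map_one (algebraMap A L)] at h'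
    have h2 : (u : A) * ϖ ^ m = ((1 : Aˣ) : A) * ϖ ^ 0 := by
      rw [mul_comm, hinj h']; simp
    have hm := IsDiscreteValuationRing.unit_mul_pow_congr_pow hϖ hϖ u 1 m 0 h2
    subst hm
    exact ⟨rfl, IsDiscreteValuationRing.unit_mul_pow_congr_unit hϖ u 1 0 0 h2⟩
  · exfalso
    obtain ⟨m, hm⟩ := Int.exists_eq_neg_ofNat he.le
    have hm0 : m ≠ 0 := by rintro rfl; simp at hm; omega
    rw [hm, zpow_neg, zpow_natCast, inv_mul_eq_one₀ (pow_ne_zero _ hϖL), ← map_pow] at h'
    have h2 : ((1 : Aˣ) : A) * ϖ ^ m = (u : A) * ϖ ^ 0 := by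
      rw [hinj h']; simp
    exact hm0 (IsDiscreteValuationRing.unit_mul_pow_congr_pow hϖ hϖ 1 u m 0 h2)

theorem decompHom_injective : Function.Injective (decompHom A L ϖ hϖ) := by
  rw [injective_iff_map_eq_one]
  rintro ⟨e, u⟩ h
  have h2 := decompHom_apply A L ϖ hϖ e.toAdd u
  rw [ofAdd_toAdd, h] at h2
  obtain ⟨h3, h4⟩ := eq_one_of_zpow_mul_eq_one A L ϖ hϖ _ _ h2.symm
  ext
  · exact h3
  · rw [h4]; rfl

theorem decompHom_surjective : Function.Surjective (decompHom A L ϖ hϖ) := by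
  intro x
  obtain ⟨n, u, hx⟩ := IsDiscreteValuationRing.exists_units_eq_smul_zpow_of_irreducible
    (K := L) hϖ x.ne_zero
  refine ⟨(Multiplicative.ofAdd n, u), ?_⟩
  rw [decompHom_apply]
  apply Units.ext
  rw [hx, Units.val_mul, Units.val_zpow_eq_zpow_val, coe_unitFrac, mul_comm, Units.smul_def,
    Algebra.smul_def]
  rfl

/-- The decomposition `Lˣ ≃ ℤ × Aˣ` attached to a uniformizer. -/
noncomputable def decompEquiv : Multiplicative ℤ × Aˣ ≃* Lˣ :=
  MulEquiv.ofBijective (decompHom A L ϖ hϖ)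
    ⟨decompHom_injective A L ϖ hϖ, decompHom_surjective A L ϖ hϖ⟩

/-- The valuation `Lˣ → ℤ`. -/
noncomputable def valZ : Lˣ →* Multiplicative ℤ :=
  (MonoidHom.fst _ _).comp (decompEquiv A L ϖ hϖ).symm.toMonoidHom

/-- The unit part `Lˣ → Aˣ` with respect to a uniformizer. -/
noncomputable def unitPart : Lˣ →* Aˣ :=
  (MonoidHom.snd _ _).comp (decompEquiv A L ϖ hϖ).symm.toMonoidHom

/-- The angular component `Lˣ → κˣ` with respect to a uniformizer. -/
noncomputable def ac : Lˣ →* (IsLocalRing.ResidueField A)ˣ :=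
  (unitResidue A).comp (unitPart A L ϖ hϖ)

theorem decomp_eq (x : Lˣ) :
    x = unitFrac A L ϖ hϖ.ne_zero ^ (valZ A L ϖ hϖ x).toAdd * unitToFrac A L (unitPart A L ϖ hϖ x) := by
  have h := (decompEquiv A L ϖ hϖ).apply_symm_apply x
  have h2 := decompHom_apply A L ϖ hϖ (valZ A L ϖ hϖ x).toAdd (unitPart A L ϖ hϖ x)
  rw [← h2]
  exact h.symm

theorem valZ_unitPart_of_eq (x : Lˣ) (e : ℤ) (u : Aˣ)
    (hx : x = unitFrac A L ϖ hϖ.ne_zero ^ e * unitToFrac A L u) :
    (valZ A L ϖ hϖ x).toAdd = e ∧ unitPart A L ϖ hϖ x = u := by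
  have h1 : decompEquiv A L ϖ hϖ (Multiplicative.ofAdd e, u) = x := by
    rw [hx, ← decompHom_apply A L ϖ hϖ]; rfl
  have h2 : (decompEquiv A L ϖ hϖ).symm x = (Multiplicative.ofAdd e, u) := by
    rw [← h1, MulEquiv.symm_apply_apply]
  constructor
  · show ((decompEquiv A L ϖ hϖ).symm x).1.toAdd = e
    rw [h2]; rfl
  · show ((decompEquiv A L ϖ hϖ).symm x).2 = u
    rw [h2]

end dvr

section dvr2
variable (A : Type u) [CommRing A] [IsDomain A] [IsDiscreteValuationRing A]
  (L : Type v) [Field L] [Algebra A L] [IsFractionRing A L] (ϖ : A) (hϖ : Irreducible ϖ)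

include hϖ in
theorem residue_uniformizer : IsLocalRing.residue A ϖ = 0 := by
  rw [IsLocalRing.residue_eq_zero_iff]
  exact (IsLocalRing.mem_maximalIdeal _).mpr hϖ.not_isUnit

/-- A unit of `A` from an element with nonzero residue. -/
theorem exists_unit_of_residue_ne_zero (t : A) (ht : IsLocalRing.residue A t ≠ 0) :
    ∃ w : Aˣ, (w : A) = t := by
  have : IsUnit t := by
    rw [← IsLocalRing.notMem_maximalIdeal, ← IsLocalRing.residue_eq_zero_iff]
    exact ht
  exact ⟨this.unit, rfl⟩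

theorem coe_ac (x : Lˣ) :
    ((ac A L ϖ hϖ x : (IsLocalRing.ResidueField A)ˣ) : IsLocalRing.ResidueField A) =
      IsLocalRing.residue A ((unitPart A L ϖ hϖ x : Aˣ) : A) := rfl

theorem val_decomp (x : Lˣ) :
    (x : L) = algebraMap A L ϖ ^ (valZ A L ϖ hϖ x).toAdd *
      algebraMap A L ((unitPart A L ϖ hϖ x : Aˣ) : A) := by
  have h := congrArg (fun z : Lˣ => (z : L)) (decomp_eq A L ϖ hϖ x)
  simp only [Units.val_mul, Units.val_zpow_eq_zpow_val, coe_unitFrac] at h
  exact h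

theorem valZ_unitPart_of_val_eq (x : Lˣ) (e : ℤ) (u : Aˣ)
    (hx : (x : L) = algebraMap A L ϖ ^ e * algebraMap A L (u : A)) :
    (valZ A L ϖ hϖ x).toAdd = e ∧ unitPart A L ϖ hϖ x = u := by
  apply valZ_unitPart_of_eq
  apply Units.ext
  rw [hx, Units.val_mul, Units.val_zpow_eq_zpow_val, coe_unitFrac]
  rfl

/-- `v(x) > 0`, `x + y = 1`: `y` is a unit with residue `1`. -/
theorem of_val_pos (x y : Lˣ) (h : (x : L) + (y : L) = 1)
    (hx : 0 < (valZ A L ϖ hϖ x).toAdd) :
    (valZ A L ϖ hϖ y).toAdd = 0 ∧ ac A L ϖ hϖ y = 1 := by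
  obtain ⟨m, hm⟩ := Int.eq_ofNat_of_zero_le hx.le
  have hm0 : m ≠ 0 := by rintro rfl; rw [Nat.cast_zero] at hm; omega
  set u := unitPart A L ϖ hϖ x
  have hxv := val_decomp A L ϖ hϖ x
  rw [hm, zpow_natCast, ← map_pow, ← map_mul] at hxv
  have hres : IsLocalRing.residue A (1 - ϖ ^ m * (u : A)) = 1 := by
    rw [map_sub, map_one, map_mul, map_pow, residue_uniformizer A ϖ hϖ, zero_pow hm0, zero_mul,
      sub_zero]
  obtain ⟨w, hw⟩ := exists_unit_of_residue_ne_zero A (1 - ϖ ^ m * (u : A)) (by rw [hres]; exact one_ne_zero)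
  have hy : (y : L) = algebraMap A L ϖ ^ (0 : ℤ) * algebraMap A L (w : A) := by
    rw [zpow_zero, one_mul, hw, map_sub, map_one, ← hxv]
    linear_combination h
  obtain ⟨h1, h2⟩ := valZ_unitPart_of_val_eq A L ϖ hϖ y 0 w hy
  refine ⟨h1, ?_⟩
  apply Units.ext
  rw [coe_ac, h2, hw, hres]
  rfl

/-- `v(x) < 0`, `x + y = 1`: `v(y) = v(x)` and `ac y = - ac x`. -/
theorem of_val_neg (x y : Lˣ) (h : (x : L) + (y : L) = 1)
    (hx : (valZ A L ϖ hϖ x).toAdd < 0) :
    (valZ A L ϖ hϖ y).toAdd = (valZ A L ϖ hϖ x).toAdd ∧ ac A L ϖ hϖ y = - ac A L ϖ hϖ x := by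
  obtain ⟨m, hm⟩ := Int.exists_eq_neg_ofNat hx.le
  have hm0 : m ≠ 0 := by rintro rfl; rw [Nat.cast_zero] at hm; omega
  set u := unitPart A L ϖ hϖ x
  have hxv := val_decomp A L ϖ hϖ x
  have hinj := IsFractionRing.injective A L
  have hϖL : algebraMap A L ϖ ≠ 0 := fun h0 =>
    hϖ.ne_zero (hinj (by rw [h0, map_zero]))
  have hres : IsLocalRing.residue A (ϖ ^ m - (u : A)) = - IsLocalRing.residue A (u : A) := by
    rw [map_sub, map_pow, residue_uniformizer A ϖ hϖ, zero_pow hm0, zero_sub]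
  have hures : IsLocalRing.residue A (u : A) ≠ 0 := by
    intro h0
    have : (u : A) ∈ IsLocalRing.maximalIdeal A := (IsLocalRing.residue_eq_zero_iff _).mp h0
    exact (IsLocalRing.mem_maximalIdeal _).mp this u.isUnit
  obtain ⟨w, hw⟩ := exists_unit_of_residue_ne_zero A (ϖ ^ m - (u : A))
    (by rw [hres]; exact neg_ne_zero.mpr hures)
  have hy : (y : L) = algebraMap A L ϖ ^ (valZ A L ϖ hϖ x).toAdd * algebraMap A L (w : A) := by
    rw [hw, map_sub, map_pow, mul_sub, ← hxv, hm, zpow_neg, zpow_natCast,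
      inv_mul_cancel₀ (pow_ne_zero _ hϖL)]
    linear_combination h
  obtain ⟨h1, h2⟩ := valZ_unitPart_of_val_eq A L ϖ hϖ y _ w hy
  refine ⟨h1, ?_⟩
  apply Units.ext
  rw [Units.val_neg, coe_ac, coe_ac, h2, hw, hres]

end dvr2

section dvr3
variable (A : Type u) [CommRing A] [IsDomain A] [IsDiscreteValuationRing A]
  (L : Type v) [Field L] [Algebra A L] [IsFractionRing A L] (ϖ : A) (hϖ : Irreducible ϖ)

theorem valZ_unitToFrac (u : Aˣ) : (valZ A L ϖ hϖ (unitToFrac A L u)).toAdd = 0 :=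
  (valZ_unitPart_of_eq A L ϖ hϖ _ 0 u (by simp)).1

theorem unitPart_unitToFrac (u : Aˣ) : unitPart A L ϖ hϖ (unitToFrac A L u) = u :=
  (valZ_unitPart_of_eq A L ϖ hϖ _ 0 u (by simp)).2

theorem ac_unitToFrac (u : Aˣ) : ac A L ϖ hϖ (unitToFrac A L u) = unitResidue A u := by
  show unitResidue A (unitPart A L ϖ hϖ (unitToFrac A L u)) = _
  rw [unitPart_unitToFrac]

theorem valZ_unitFrac : (valZ A L ϖ hϖ (unitFrac A L ϖ hϖ.ne_zero)).toAdd = 1 :=
  (valZ_unitPart_of_eq A L ϖ hϖ _ 1 1 (by simp)).1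

theorem unitPart_unitFrac : unitPart A L ϖ hϖ (unitFrac A L ϖ hϖ.ne_zero) = 1 :=
  (valZ_unitPart_of_eq A L ϖ hϖ _ 1 1 (by simp)).2

theorem ac_unitFrac : ac A L ϖ hϖ (unitFrac A L ϖ hϖ.ne_zero) = 1 := by
  show unitResidue A (unitPart A L ϖ hϖ _) = _
  rw [unitPart_unitFrac, map_one]

theorem valZ_zpow_mul (e : ℤ) (u : Aˣ) :
    (valZ A L ϖ hϖ (unitFrac A L ϖ hϖ.ne_zero ^ e * unitToFrac A L u)).toAdd = e :=
  (valZ_unitPart_of_eq A L ϖ hϖ _ e u rfl).1

theorem ac_zpow_mul (e : ℤ) (u : Aˣ) :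
    ac A L ϖ hϖ (unitFrac A L ϖ hϖ.ne_zero ^ e * unitToFrac A L u) = unitResidue A u := by
  show unitResidue A (unitPart A L ϖ hϖ _) = _
  rw [(valZ_unitPart_of_eq A L ϖ hϖ _ e u rfl).2]

/-- The four cases of the Steinberg relation in the fraction field of a DVR. -/
theorem steinberg_cases (x y : Lˣ) (h : (x : L) + (y : L) = 1) :
    ((valZ A L ϖ hϖ x).toAdd = 0 ∧ ac A L ϖ hϖ x = 1) ∨
    ((valZ A L ϖ hϖ y).toAdd = 0 ∧ ac A L ϖ hϖ y = 1) ∨
    ((valZ A L ϖ hϖ x).toAdd = 0 ∧ (valZ A L ϖ hϖ y).toAdd = 0 ∧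
      ((ac A L ϖ hϖ x : (IsLocalRing.ResidueField A)ˣ) : IsLocalRing.ResidueField A) +
        ((ac A L ϖ hϖ y : (IsLocalRing.ResidueField A)ˣ) : IsLocalRing.ResidueField A) = 1) ∨
    ((valZ A L ϖ hϖ y).toAdd = (valZ A L ϖ hϖ x).toAdd ∧ ac A L ϖ hϖ y = - ac A L ϖ hϖ x) := by
  have h' : (y : L) + (x : L) = 1 := by rw [add_comm]; exact h
  rcases lt_trichotomy (valZ A L ϖ hϖ x).toAdd 0 with hx | hx | hx
  · exact Or.inr (Or.inr (Or.inr (of_val_neg A L ϖ hϖ x y h hx)))
  · rcases lt_trichotomy (valZ A L ϖ hϖ y).toAdd 0 with hy | hy | hy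
    · exfalso
      have := (of_val_neg A L ϖ hϖ y x h' hy).1
      omega
    · refine Or.inr (Or.inr (Or.inl ⟨hx, hy, ?_⟩))
      have hxv := val_decomp A L ϖ hϖ x
      have hyv := val_decomp A L ϖ hϖ y
      rw [hx, zpow_zero, one_mul] at hxv
      rw [hy, zpow_zero, one_mul] at hyv
      rw [hxv, hyv, ← map_add, ← map_one (algebraMap A L)] at h
      have h2 := IsFractionRing.injective A L h
      rw [coe_ac, coe_ac, ← map_add, h2, map_one]
    · exact Or.inl (of_val_pos A L ϖ hϖ y x h' hy)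
  · exact Or.inr (Or.inl (of_val_pos A L ϖ hϖ x y h hx))

end dvr3

section lop
variable {k : Type u} [Field k]

/-- The operator "left multiplication by `e ξ + {a}`" on pairs `(S, D)` representing `S + ξ D`. -/
noncomputable def Lop (e : ℤ) (a : kˣ) (n : ℕ) : K k (n + 1) × K k n →+ K k (n + 1 + 1) × K k (n + 1) :=
  AddMonoidHom.prod ((lam a (n + 1)).comp (AddMonoidHom.fst _ _))
    (e • AddMonoidHom.fst _ _ + e • (lam (-1) n).comp (AddMonoidHom.snd _ _) -
      (lam a n).comp (AddMonoidHom.snd _ _))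

theorem Lop_apply (e : ℤ) (a : kˣ) (n : ℕ) (p : K k (n + 1) × K k n) :
    Lop e a n p = (lam a (n + 1) p.1, e • p.1 + e • lam (-1) n p.2 - lam a n p.2) := rfl

theorem Lop_zero_one (n : ℕ) (p : K k (n + 1) × K k n) : Lop 0 (1 : kˣ) n p = 0 := by
  rw [Lop_apply, lam_one, lam_one]
  simp

theorem Lop_add_mul (e e' : ℤ) (a a' : kˣ) (n : ℕ) (p : K k (n + 1) × K k n) :
    Lop (e + e') (a * a') n p = Lop e a n p + Lop e' a' n p := by
  simp only [Lop_apply, lam_mul, Prod.mk_add_mk, add_smul]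
  congr 1
  abel

theorem two_eps {n : ℕ} (z : K k n) : lam (-1 : kˣ) n z + lam (-1 : kˣ) n z = 0 := by
  rw [← lam_mul]
  simp [lam_one]

theorem Lop_anticomm (e e' : ℤ) (a a' : kˣ) (n : ℕ) (p : K k (n + 1) × K k n) :
    Lop e a (n + 1) (Lop e' a' n p) + Lop e' a' (n + 1) (Lop e a n p) = 0 := by
  obtain ⟨S, D⟩ := p
  have hS := isStSymb_lam S
  have hD := isStSymb_lam D
  have e1 := two_eps S
  have e2 := two_eps (lam (-1 : kˣ) n D)
  have e3 := hD.swap a (-1)
  have e4 := hD.swap a' (-1)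
  have e5 := hD.swap a a'
  have e6 := hS.swap a a'
  beta_reduce at e3 e4 e5 e6
  simp only [Lop_apply, Prod.mk_add_mk, map_add, map_sub, map_zsmul]
  refine Prod.ext ?_ ?_
  · exact e6
  · show _ = (0 : K k (n + 1 + 1))
    linear_combination (norm := module) (e * e') • e1 + (e * e') • e2 - e' • e3 - e • e4 + e5

end lop

section lop2
variable {k : Type u} [Field k]

theorem even_smul_eps {n : ℕ} (z : K k n) (c : ℤ) (hc : Even c) : c • lam (-1 : kˣ) n z = 0 := by
  obtain ⟨m, rfl⟩ := hc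
  rw [← two_mul, mul_comm, mul_smul, two_smul, two_eps, smul_zero]

theorem Lop_steinberg_units (a a' : kˣ) (h : (a : k) + (a' : k) = 1) (n : ℕ)
    (p : K k (n + 1) × K k n) : Lop 0 a (n + 1) (Lop 0 a' n p) = 0 := by
  obtain ⟨S, D⟩ := p
  have hS := (isStSymb_lam S).steinberg a a' h
  have hD := (isStSymb_lam D).steinberg a a' h
  beta_reduce at hS hD
  simp only [Lop_apply, zero_smul, zero_add, zero_sub, map_neg, neg_neg, hS, hD]
  rfl

theorem Lop_steinberg_neg (f : ℤ) (a : kˣ) (n : ℕ) (p : K k (n + 1) × K k n) :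
    Lop f a (n + 1) (Lop f (-a) n p) = 0 := by
  obtain ⟨S, D⟩ := p
  have hS := isStSymb_lam S
  have hD := isStSymb_lam D
  have e1 : (f + f * f) • lam (-1 : kˣ) (n + 1) S = 0 := by
    apply even_smul_eps
    have := Int.even_mul_succ_self f
    rwa [mul_add, mul_one, add_comm] at this
  have e2 : (f * f - f) • lam (-1 : kˣ) (n + 1) (lam (-1 : kˣ) n D) = 0 := by
    apply even_smul_eps
    have := Int.even_mul_pred_self f
    rwa [mul_sub, mul_one] at this
  have e3 : lam (-a) (n + 1) S = lam (-1 : kˣ) (n + 1) S + lam a (n + 1) S := by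
    rw [← lam_mul]; simp
  have e4 := hD.mul_right (-1) (-1) a
  have e5 := hD.swap a (-1)
  have e6 := hD.neg_self a
  have e7 := hS.neg_self a
  beta_reduce at e4 e5 e6 e7
  have e8 : (-1 : kˣ) * a = -a := by simp
  rw [e8] at e4
  simp only [Lop_apply, map_add, map_sub, map_zsmul]
  refine Prod.ext ?_ ?_
  · exact e7
  · show _ = (0 : K k (n + 1 + 1))
    linear_combination (norm := module) e1 + e2 + f • e3 - f • e4 - f • e5 + e6

end lop2

section psi
variable (A : Type u) [CommRing A] [IsDomain A] [IsDiscreteValuationRing A]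
  (L : Type v) [Field L] [Algebra A L] [IsFractionRing A L] (ϖ : A) (hϖ : Irreducible ϖ)

local notation "κ" => IsLocalRing.ResidueField A

/-- The unit symbol of degree `0`. -/
noncomputable def u0 (k : Type*) [Field k] : K k 0 := symbol (fun _ => 1)

theorem symbol_zero_eq {k : Type*} [Field k] (y : Fin 0 → kˣ) : symbol y = u0 k := by
  unfold u0
  congr 1
  exact Subsingleton.elim _ _

/-- The operator attached to an element of `Lˣ`, additively. -/
noncomputable def LopHom (n : ℕ) :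
    Additive Lˣ →+ ((K κ (n + 1) × K κ n) →+ (K κ (n + 1 + 1) × K κ (n + 1))) where
  toFun g := Lop (valZ A L ϖ hϖ g.toMul).toAdd (ac A L ϖ hϖ g.toMul) n
  map_zero' := by
    ext p : 1
    simp only [toMul_zero, map_one, toAdd_one]
    exact Lop_zero_one n p
  map_add' g g' := by
    ext p : 1
    simp only [toMul_add, map_mul, toAdd_mul]
    exact Lop_add_mul _ _ _ _ n p

/-- The base case: `x ↦ ({ac x}, v(x))`. -/
noncomputable def baseHom : Additive Lˣ →+ (K κ 1 × K κ 0) where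
  toFun g := (lam (ac A L ϖ hϖ g.toMul) 0 (u0 κ), (valZ A L ϖ hϖ g.toMul).toAdd • u0 κ)
  map_zero' := by
    simp only [toMul_zero, map_one, toAdd_one, zero_smul, lam_one]
    rfl
  map_add' g g' := by
    simp only [toMul_add, map_mul, toAdd_mul, lam_mul, add_smul]
    rfl

/-- The multilinear map underlying `(s, ∂)`. -/
noncomputable def Psi : (n : ℕ) →
    MultilinearMap ℤ (fun _ : Fin (n + 1) => Additive Lˣ) (K κ (n + 1) × K κ n)
  | 0 => MultilinearMap.ofSubsingleton ℤ (Additive Lˣ) (K κ 1 × K κ 0) (0 : Fin 1)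
      (baseHom A L ϖ hϖ).toIntLinearMap
  | n + 1 => LinearMap.uncurryLeft
      { toFun := fun g => ((LopHom A L ϖ hϖ n g).toIntLinearMap).compMultilinearMap (Psi n)
        map_add' := fun g g' => by
          refine MultilinearMap.ext (fun x => ?_)
          simp only [LinearMap.compMultilinearMap_apply, MultilinearMap.add_apply,
            AddMonoidHom.coe_toIntLinearMap, map_add, AddMonoidHom.add_apply]
        map_smul' := fun c g => by
          refine MultilinearMap.ext (fun x => ?_)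
          simp only [LinearMap.compMultilinearMap_apply, MultilinearMap.smul_apply,
            AddMonoidHom.coe_toIntLinearMap, map_zsmul, RingHom.id_apply]
          rfl }

theorem Psi_zero (x : Fin 1 → Additive Lˣ) :
    Psi A L ϖ hϖ 0 x = (lam (ac A L ϖ hϖ (x 0).toMul) 0 (u0 κ),
      (valZ A L ϖ hϖ (x 0).toMul).toAdd • u0 κ) := rfl

theorem Psi_succ (n : ℕ) (x : Fin (n + 1 + 1) → Additive Lˣ) :
    Psi A L ϖ hϖ (n + 1) x =
      Lop (valZ A L ϖ hϖ (x 0).toMul).toAdd (ac A L ϖ hϖ (x 0).toMul) n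
        (Psi A L ϖ hϖ n (Fin.tail x)) := rfl

end psi

section kill
variable (A : Type u) [CommRing A] [IsDomain A] [IsDiscreteValuationRing A]
  (L : Type v) [Field L] [Algebra A L] [IsFractionRing A L] (ϖ : A) (hϖ : Irreducible ϖ)

local notation "κ" => IsLocalRing.ResidueField A

/-- The operator attached to `x : Lˣ`. -/
noncomputable abbrev LopX (x : Lˣ) (n : ℕ) :
    (K κ (n + 1) × K κ n) →+ (K κ (n + 1 + 1) × K κ (n + 1)) :=
  Lop (valZ A L ϖ hϖ x).toAdd (ac A L ϖ hϖ x) n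

/-- Operators attached to a Steinberg pair compose to zero. -/
theorem LopX_steinberg (x y : Lˣ) (h : (x : L) + (y : L) = 1) (n : ℕ)
    (p : K κ (n + 1) × K κ n) :
    LopX A L ϖ hϖ x (n + 1) (LopX A L ϖ hϖ y n p) = 0 := by
  unfold LopX
  rcases steinberg_cases A L ϖ hϖ x y h with ⟨h1, h2⟩ | ⟨h1, h2⟩ | ⟨h1, h2, h3⟩ | ⟨h1, h2⟩
  · rw [h1, h2]; exact Lop_zero_one _ _
  · rw [h1, h2, Lop_zero_one, map_zero]
  · rw [h1, h2]; exact Lop_steinberg_units _ _ h3 n p
  · rw [h1, h2]; exact Lop_steinberg_neg _ _ n p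

/-- The base case of the Steinberg relation. -/
theorem LopX_base_steinberg (x y : Lˣ) (h : (x : L) + (y : L) = 1) :
    LopX A L ϖ hϖ x 0 (lam (ac A L ϖ hϖ y) 0 (u0 κ), (valZ A L ϖ hϖ y).toAdd • u0 κ) = 0 := by
  unfold LopX
  have hs := isStSymb_lam (u0 κ)
  rcases steinberg_cases A L ϖ hϖ x y h with ⟨h1, h2⟩ | ⟨h1, h2⟩ | ⟨h1, h2, h3⟩ | ⟨h1, h2⟩
  · rw [h1, h2]; exact Lop_zero_one _ _
  · rw [h1, h2, lam_one, zero_smul]; exact map_zero _
  · rw [h1, h2, Lop_apply]
    have := hs.steinberg _ _ h3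
    beta_reduce at this
    simp only [zero_smul, map_zero, add_zero, sub_zero, this]
    rfl
  · rw [h1, h2, Lop_apply]
    have e7 := hs.neg_self (ac A L ϖ hϖ x)
    beta_reduce at e7
    set f := (valZ A L ϖ hϖ x).toAdd
    set a := ac A L ϖ hϖ x
    have e1 : (f + f * f) • lam (-1 : κˣ) 0 (u0 κ) = 0 := by
      apply even_smul_eps
      have := Int.even_mul_succ_self f
      rwa [mul_add, mul_one, add_comm] at this
    have e3 : lam (-a) 0 (u0 κ) = lam (-1 : κˣ) 0 (u0 κ) + lam a 0 (u0 κ) := by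
      rw [← lam_mul]; simp
    simp only [map_zsmul]
    refine Prod.ext e7 ?_
    show _ = (0 : K κ (0 + 1))
    linear_combination (norm := module) e1 + f • e3

end kill

section theta
variable (A : Type u) [CommRing A] [IsDomain A] [IsDiscreteValuationRing A]
  (L : Type v) [Field L] [Algebra A L] [IsFractionRing A L] (ϖ : A) (hϖ : Irreducible ϖ)

local notation "κ" => IsLocalRing.ResidueField A

theorem Psi_succ' (n : ℕ) (x : Fin (n + 1 + 1) → Additive Lˣ) :
    Psi A L ϖ hϖ (n + 1) x = LopX A L ϖ hϖ (x 0).toMul n (Psi A L ϖ hϖ n (Fin.tail x)) := rfl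

/-- If `x₀ + z j = 1` for some entry of `z`, then the operator of `x₀` kills `Ψ z`. -/
theorem LopX_Psi_eq_zero (n : ℕ) (z : Fin (n + 1) → Additive Lˣ) (j : Fin (n + 1)) (x0 : Lˣ)
    (h : (x0 : L) + ((z j).toMul : L) = 1) :
    LopX A L ϖ hϖ x0 n (Psi A L ϖ hϖ n z) = 0 := by
  induction n with
  | zero =>
    have hj : j = 0 := Fin.ext (by have := j.isLt; omega)
    subst hj
    rw [Psi_zero]
    exact LopX_base_steinberg A L ϖ hϖ x0 (z 0).toMul h
  | succ n ih =>
    rw [Psi_succ']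
    revert h
    refine Fin.cases ?_ (fun j' => ?_) j
    · intro h
      exact LopX_steinberg A L ϖ hϖ x0 (z 0).toMul h n _
    · intro h
      have h1 := Lop_anticomm (valZ A L ϖ hϖ x0).toAdd (valZ A L ϖ hϖ (z 0).toMul).toAdd
        (ac A L ϖ hϖ x0) (ac A L ϖ hϖ (z 0).toMul) n (Psi A L ϖ hϖ n (Fin.tail z))
      have h2 := ih (Fin.tail z) j' h
      unfold LopX at h2 ⊢
      rw [h2, map_zero, add_zero] at h1
      exact h1

/-- `Ψ` vanishes on Steinberg tuples. -/
theorem Psi_steinberg (n : ℕ) (x : Fin (n + 1) → Lˣ) (hx : IsSteinberg L x) :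
    Psi A L ϖ hϖ n (fun i => Additive.ofMul (x i)) = 0 := by
  induction n with
  | zero =>
    obtain ⟨i, j, hij, -⟩ := hx
    exfalso
    have hi : i = 0 := Fin.ext (by have := i.isLt; omega)
    have hj : j = 0 := Fin.ext (by have := j.isLt; omega)
    rw [hi, hj] at hij
    exact lt_irrefl _ hij
  | succ n ih =>
    obtain ⟨i, j, hij, h⟩ := hx
    rw [Psi_succ']
    revert hij h
    refine Fin.cases ?_ (fun i' => ?_) i
    · refine Fin.cases ?_ (fun j' => ?_) j
      · intro hij; exact absurd hij (lt_irrefl _)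
      · intro _ h
        exact LopX_Psi_eq_zero A L ϖ hϖ n _ j' (x 0) h
    · refine Fin.cases ?_ (fun j' => ?_) j
      · intro hij; exact absurd hij (Fin.not_lt_zero _)
      · intro hij h
        have := ih (fun i => x i.succ) ⟨i', j', Fin.succ_lt_succ_iff.mp hij, h⟩
        have e : Fin.tail (fun i => Additive.ofMul (x i)) = fun i => Additive.ofMul (x i.succ) := rfl
        rw [e, this, map_zero]

/-- The combined specialization / tame symbol map `K_{n+1}(L) → K_{n+1}(κ) × K_n(κ)`. -/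
noncomputable def Theta (n : ℕ) : K L (n + 1) →+ K κ (n + 1) × K κ n :=
  MilK.lift (Psi A L ϖ hϖ n) (Psi_steinberg A L ϖ hϖ n)

theorem Theta_symbol (n : ℕ) (x : Fin (n + 1) → Lˣ) :
    Theta A L ϖ hϖ n (symbol x) = Psi A L ϖ hϖ n (fun i => Additive.ofMul (x i)) :=
  lift_symbol _ _ x

/-- The recursion: `Θ ({x}·ρ) = L_x (Θ ρ)`. -/
theorem Theta_lam (n : ℕ) (x : Lˣ) (ρ : K L (n + 1)) :
    Theta A L ϖ hϖ (n + 1) (lam x (n + 1) ρ) = LopX A L ϖ hϖ x n (Theta A L ϖ hϖ n ρ) := by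
  induction ρ using K_induction with
  | hsymb y =>
    rw [lam_symbol, Theta_symbol, Theta_symbol, Psi_succ']
    rfl
  | hadd a b ha hb => simp only [map_add, ha, hb]
  | hneg a ha => simp only [map_neg, ha]

theorem Theta_zero_symbol (x : Fin 1 → Lˣ) :
    Theta A L ϖ hϖ 0 (symbol x) =
      (lam (ac A L ϖ hϖ (x 0)) 0 (u0 κ), (valZ A L ϖ hϖ (x 0)).toAdd • u0 κ) := by
  rw [Theta_symbol, Psi_zero]
  rfl

end theta

section tame
variable (A : Type u) [CommRing A] [IsDomain A] [IsDiscreteValuationRing A]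
  (L : Type v) [Field L] [Algebra A L] [IsFractionRing A L] (ϖ : A) (hϖ : Irreducible ϖ)

local notation "κ" => IsLocalRing.ResidueField A

/-- The tame symbol `K_{n+1}(L) → K_n(κ)`. -/
noncomputable def tameMap (n : ℕ) : K L (n + 1) →+ K κ n :=
  (AddMonoidHom.snd _ _).comp (Theta A L ϖ hϖ n)

/-- The specialization map `K_{n+1}(L) → K_{n+1}(κ)` (positive degrees). -/
noncomputable def specMapSucc (n : ℕ) : K L (n + 1) →+ K κ (n + 1) :=
  (AddMonoidHom.fst _ _).comp (Theta A L ϖ hϖ n)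

theorem Theta_eq (n : ℕ) (ρ : K L (n + 1)) :
    Theta A L ϖ hϖ n ρ = (specMapSucc A L ϖ hϖ n ρ, tameMap A L ϖ hϖ n ρ) := rfl

theorem tameMap_lam (n : ℕ) (x : Lˣ) (ρ : K L (n + 1)) :
    tameMap A L ϖ hϖ (n + 1) (lam x (n + 1) ρ) =
      (valZ A L ϖ hϖ x).toAdd • specMapSucc A L ϖ hϖ n ρ +
        (valZ A L ϖ hϖ x).toAdd • lam (-1) n (tameMap A L ϖ hϖ n ρ) -
          lam (ac A L ϖ hϖ x) n (tameMap A L ϖ hϖ n ρ) := by
  show (Theta A L ϖ hϖ (n + 1) (lam x (n + 1) ρ)).2 = _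
  rw [Theta_lam, Theta_eq, Lop_apply]

theorem specMapSucc_lam (n : ℕ) (x : Lˣ) (ρ : K L (n + 1)) :
    specMapSucc A L ϖ hϖ (n + 1) (lam x (n + 1) ρ) =
      lam (ac A L ϖ hϖ x) (n + 1) (specMapSucc A L ϖ hϖ n ρ) := by
  show (Theta A L ϖ hϖ (n + 1) (lam x (n + 1) ρ)).1 = _
  rw [Theta_lam, Theta_eq, Lop_apply]

theorem tameMap_zero_symbol (x : Fin 1 → Lˣ) :
    tameMap A L ϖ hϖ 0 (symbol x) = (valZ A L ϖ hϖ (x 0)).toAdd • u0 κ := by
  show (Theta A L ϖ hϖ 0 (symbol x)).2 = _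
  rw [Theta_zero_symbol]

theorem specMapSucc_zero_symbol (x : Fin 1 → Lˣ) :
    specMapSucc A L ϖ hϖ 0 (symbol x) = lam (ac A L ϖ hϖ (x 0)) 0 (u0 κ) := by
  show (Theta A L ϖ hϖ 0 (symbol x)).1 = _
  rw [Theta_zero_symbol]

theorem symbol_eq_lam_tail {F : Type*} [Field F] {n : ℕ} (x : Fin (n + 1) → Fˣ) :
    symbol x = lam (x 0) n (symbol (Fin.tail x)) := by
  rw [lam_symbol, Fin.cons_self_tail]

/-- The specialization map on symbols. -/
theorem specMapSucc_symbol (n : ℕ) (x : Fin (n + 1) → Lˣ) :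
    specMapSucc A L ϖ hϖ n (symbol x) = symbol (fun i => ac A L ϖ hϖ (x i)) := by
  induction n with
  | zero =>
    rw [specMapSucc_zero_symbol, u0, lam_symbol]
    congr 1
    funext i
    have hi : i = 0 := Fin.ext (by have := i.isLt; omega)
    subst hi
    rfl
  | succ n ih =>
    rw [symbol_eq_lam_tail x, specMapSucc_lam, ih, lam_symbol]
    congr 1
    funext i
    refine Fin.cases ?_ (fun j => ?_) i
    · rfl
    · rfl

/-- The tame symbol vanishes on symbols of units. -/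
theorem tameMap_symbol_units (n : ℕ) (x : Fin (n + 1) → Lˣ)
    (hx : ∀ i, (valZ A L ϖ hϖ (x i)).toAdd = 0) : tameMap A L ϖ hϖ n (symbol x) = 0 := by
  induction n with
  | zero => rw [tameMap_zero_symbol, hx 0, zero_smul]
  | succ n ih =>
    rw [symbol_eq_lam_tail x, tameMap_lam, hx 0, ih (Fin.tail x) (fun i => hx i.succ)]
    simp

/-- The value of the tame symbol on `{x₀, u₁, …, uₙ}` with `uᵢ` units. -/
theorem tameMap_cons_units (n : ℕ) (x0 : Lˣ) (y : Fin n → Lˣ)
    (hy : ∀ i, (valZ A L ϖ hϖ (y i)).toAdd = 0) :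
    tameMap A L ϖ hϖ n (symbol (Fin.cons x0 y)) =
      (valZ A L ϖ hϖ x0).toAdd • symbol (fun i => ac A L ϖ hϖ (y i)) := by
  cases n with
  | zero =>
    rw [tameMap_zero_symbol, symbol_zero_eq]
    rfl
  | succ n =>
    rw [← lam_symbol, tameMap_lam, tameMap_symbol_units A L ϖ hϖ n y hy, specMapSucc_symbol]
    simp

end tame

section tame2
variable (A : Type u) [CommRing A] [IsDomain A] [IsDiscreteValuationRing A]
  (L : Type v) [Field L] [Algebra A L] [IsFractionRing A L] (ϖ : A) (hϖ : Irreducible ϖ)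

local notation "κ" => IsLocalRing.ResidueField A

theorem valZ_unitFrac_of_irreducible (ϖ' : A) (hϖ' : Irreducible ϖ') :
    (valZ A L ϖ hϖ (unitFrac A L ϖ' hϖ'.ne_zero)).toAdd = 1 := by
  obtain ⟨w, hw⟩ := IsDiscreteValuationRing.associated_of_irreducible A hϖ hϖ'
  refine (valZ_unitPart_of_eq A L ϖ hϖ _ 1 w ?_).1
  apply Units.ext
  rw [Units.val_mul, zpow_one, coe_unitFrac, coe_unitFrac, ← hw, map_mul]
  rfl

/-- The constructed map is a tame symbol. -/
theorem isTameSymbol_tameMap (n : ℕ) : IsTameSymbol A L n (tameMap A L ϖ hϖ n) := by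
  intro ϖ' hϖ' u
  rw [tameMap_cons_units A L ϖ hϖ n _ _ (fun i => valZ_unitToFrac A L ϖ hϖ (u i)),
    valZ_unitFrac_of_irreducible A L ϖ hϖ ϖ' hϖ', one_smul]
  congr 1
  funext i
  exact ac_unitToFrac A L ϖ hϖ (u i)

end tame2

section lamhom
variable {F : Type u} [Field F]

/-- `a ↦ {a}·z` as an additive map. -/
noncomputable def lamHom (n : ℕ) (z : K F n) : Additive Fˣ →+ K F (n + 1) where
  toFun a := lam a.toMul n z
  map_zero' := lam_one z
  map_add' _ _ := lam_mul _ _ z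

theorem lam_zpow (a : Fˣ) (e : ℤ) {n : ℕ} (z : K F n) : lam (a ^ e) n z = e • lam a n z := by
  have := map_zsmul (lamHom n z) e (Additive.ofMul a)
  simpa [lamHom] using this

theorem lam_inv (a : Fˣ) {n : ℕ} (z : K F n) : lam a⁻¹ n z = - lam a n z := by
  have := lam_zpow a (-1) z
  simpa using this

end lamhom

section gen
variable (A : Type u) [CommRing A] [IsDomain A] [IsDiscreteValuationRing A]
  (L : Type v) [Field L] [Algebra A L] [IsFractionRing A L]

/-- The symbol of a tuple of units of `A`. -/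
noncomputable def unitSymbol {n : ℕ} (u : Fin n → Aˣ) : K L n :=
  symbol (fun i => unitToFrac A L (u i))

theorem lam_unitSymbol {n : ℕ} (v : Aˣ) (u : Fin n → Aˣ) :
    lam (unitToFrac A L v) n (unitSymbol A L u) = unitSymbol A L (Fin.cons v u) := by
  rw [unitSymbol, lam_symbol, unitSymbol]
  congr 1
  funext i
  refine Fin.cases ?_ (fun j => ?_) i <;> simp

/-- The generators `{ϖ', u₁, …, uₙ}` (`ϖ'` a uniformizer, `uᵢ` units). -/
def tameGen (n : ℕ) : Set (K L (n + 1)) :=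
  {z | ∃ (ϖ' : A) (hϖ' : Irreducible ϖ') (u : Fin n → Aˣ),
    z = symbol (Fin.cons (unitFrac A L ϖ' hϖ'.ne_zero) (fun i => unitToFrac A L (u i)))}

theorem lam_unitFrac_mem_tameGen {n : ℕ} (ϖ' : A) (hϖ' : Irreducible ϖ') (u : Fin n → Aˣ) :
    lam (unitFrac A L ϖ' hϖ'.ne_zero) n (unitSymbol A L u) ∈ tameGen A L n :=
  ⟨ϖ', hϖ', u, by rw [unitSymbol, lam_symbol]⟩

theorem lam_unitToFrac_mem {n : ℕ} (ϖ' : A) (hϖ' : Irreducible ϖ') (v : Aˣ) (u : Fin n → Aˣ) :
    lam (unitToFrac A L v) n (unitSymbol A L u) ∈ AddSubgroup.closure (tameGen A L n) := by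
  have hirr : Irreducible (ϖ' * (v : A)) := (irreducible_mul_units v).mpr hϖ'
  have h1 : unitFrac A L (ϖ' * (v : A)) hirr.ne_zero =
      unitFrac A L ϖ' hϖ'.ne_zero * unitToFrac A L v := by
    apply Units.ext
    rw [Units.val_mul, coe_unitFrac, coe_unitFrac, map_mul]
    rfl
  have h2 : lam (unitToFrac A L v) n (unitSymbol A L u) =
      lam (unitFrac A L (ϖ' * (v : A)) hirr.ne_zero) n (unitSymbol A L u) -
        lam (unitFrac A L ϖ' hϖ'.ne_zero) n (unitSymbol A L u) := by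
    rw [h1, lam_mul]; abel
  rw [h2]
  exact AddSubgroup.sub_mem _
    (AddSubgroup.subset_closure (lam_unitFrac_mem_tameGen A L _ hirr u))
    (AddSubgroup.subset_closure (lam_unitFrac_mem_tameGen A L _ hϖ' u))

/-- `{x, u₁, …, uₙ}` lies in the subgroup generated by `tameGen`. -/
theorem lam_unitSymbol_mem {n : ℕ} (x : Lˣ) (u : Fin n → Aˣ) :
    lam x n (unitSymbol A L u) ∈ AddSubgroup.closure (tameGen A L n) := by
  obtain ⟨ϖ, hϖ⟩ := IsDiscreteValuationRing.exists_irreducible A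
  rw [decomp_eq A L ϖ hϖ x, lam_mul, lam_zpow]
  exact AddSubgroup.add_mem _
    (AddSubgroup.zsmul_mem _ (AddSubgroup.subset_closure
      (lam_unitFrac_mem_tameGen A L ϖ hϖ u)) _)
    (lam_unitToFrac_mem A L ϖ hϖ _ u)

theorem closure_tameGen (n : ℕ) : AddSubgroup.closure (tameGen A L n) = ⊤ := by
  induction n with
  | zero =>
    rw [eq_top_iff]
    intro z hz
    clear hz
    induction z using K_induction with
    | hsymb y =>
      rw [symbol_eq_lam_tail y]
      have : symbol (Fin.tail y) = unitSymbol A L (fun i : Fin 0 => (1 : Aˣ)) := by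
        rw [symbol_zero_eq, unitSymbol, symbol_zero_eq]
      rw [this]
      exact lam_unitSymbol_mem A L (y 0) _
    | hadd a b ha hb => exact AddSubgroup.add_mem _ ha hb
    | hneg a ha => exact AddSubgroup.neg_mem _ ha
  | succ n ih =>
    have key : ∀ (x : Lˣ) (ρ : K L (n + 1)), ρ ∈ AddSubgroup.closure (tameGen A L n) →
        lam x (n + 1) ρ ∈ AddSubgroup.closure (tameGen A L (n + 1)) := by
      intro x ρ hρ
      induction hρ using AddSubgroup.closure_induction with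
      | mem ρ hρ =>
        obtain ⟨ϖ', hϖ', u, rfl⟩ := hρ
        have hU : symbol (Fin.cons (unitFrac A L ϖ' hϖ'.ne_zero) (fun i => unitToFrac A L (u i))) =
            lam (unitFrac A L ϖ' hϖ'.ne_zero) n (unitSymbol A L u) := by
          rw [unitSymbol, lam_symbol]
        rw [hU]
        have hs := isStSymb_lam (unitSymbol A L u)
        rw [decomp_eq A L ϖ' hϖ' x, lam_mul, lam_zpow]
        refine AddSubgroup.add_mem _ (AddSubgroup.zsmul_mem _ ?_ _) ?_
        · have h1 := hs.self_eq (unitFrac A L ϖ' hϖ'.ne_zero)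
          beta_reduce at h1
          rw [h1]
          have h2 : (-1 : Lˣ) = unitToFrac A L (-1) := by
            apply Units.ext
            simp [unitToFrac]
          rw [h2, lam_unitSymbol]
          exact AddSubgroup.subset_closure (lam_unitFrac_mem_tameGen A L ϖ' hϖ' _)
        · have h1 := hs.swap' (unitFrac A L ϖ' hϖ'.ne_zero)
            (unitToFrac A L (unitPart A L ϖ' hϖ' x))
          beta_reduce at h1
          rw [h1, lam_unitSymbol]
          exact AddSubgroup.neg_mem _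
            (AddSubgroup.subset_closure (lam_unitFrac_mem_tameGen A L ϖ' hϖ' _))
      | zero => rw [map_zero]; exact AddSubgroup.zero_mem _
      | add a b _ _ ha hb => rw [map_add]; exact AddSubgroup.add_mem _ ha hb
      | neg a _ ha => rw [map_neg]; exact AddSubgroup.neg_mem _ ha
    rw [eq_top_iff]
    intro z hz
    clear hz
    induction z using K_induction with
    | hsymb y =>
      rw [symbol_eq_lam_tail y]
      exact key _ _ (by rw [ih]; exact AddSubgroup.mem_top _)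
    | hadd a b ha hb => exact AddSubgroup.add_mem _ ha hb
    | hneg a ha => exact AddSubgroup.neg_mem _ ha

/-- Uniqueness of tame symbols. -/
theorem isTameSymbol_unique (n : ℕ) (d d' : K L (n + 1) →+ K (IsLocalRing.ResidueField A) n)
    (hd : IsTameSymbol A L n d) (hd' : IsTameSymbol A L n d') : d = d' := by
  refine AddMonoidHom.eq_of_eqOn_dense (closure_tameGen A L n) ?_
  rintro z ⟨ϖ', hϖ', u, rfl⟩
  rw [hd ϖ' hϖ' u, hd' ϖ' hϖ' u]

end gen

section spec
variable (A : Type u) [CommRing A] [IsDomain A] [IsDiscreteValuationRing A]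
  (L : Type v) [Field L] [Algebra A L] [IsFractionRing A L] (ϖ : A) (hϖ : Irreducible ϖ)

local notation "κ" => IsLocalRing.ResidueField A

/-- The specialization map in all degrees. -/
noncomputable def specMap : (n : ℕ) → K L n →+ K κ n
  | 0 => (K0 κ).symm.toAddMonoidHom.comp (K0 L).toAddMonoidHom
  | n + 1 => specMapSucc A L ϖ hϖ n

theorem specMap_symbol (n : ℕ) (x : Fin n → Lˣ) :
    specMap A L ϖ hϖ n (symbol x) = symbol (fun i => ac A L ϖ hϖ (x i)) := by
  cases n with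
  | zero =>
    show (K0 κ).symm (K0 L (symbol x)) = _
    rw [K0_symbol, AddEquiv.symm_apply_eq, K0_symbol]
  | succ n => exact specMapSucc_symbol A L ϖ hϖ n x

theorem isSpecMap_specMap (n : ℕ) : IsSpecMap A L ϖ hϖ n (specMap A L ϖ hϖ n) := by
  intro e u
  rw [specMap_symbol]
  congr 1
  funext i
  exact ac_zpow_mul A L ϖ hϖ (e i) (u i)

theorem isSpecMap_unique (n : ℕ) (s s' : K L n →+ K κ n)
    (hs : IsSpecMap A L ϖ hϖ n s) (hs' : IsSpecMap A L ϖ hϖ n s') : s = s' := by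
  apply hom_ext
  intro x
  have hx : x = fun i => unitFrac A L ϖ hϖ.ne_zero ^ (valZ A L ϖ hϖ (x i)).toAdd *
      unitToFrac A L (unitPart A L ϖ hϖ (x i)) := by
    funext i
    exact decomp_eq A L ϖ hϖ (x i)
  rw [hx, hs, hs']

end spec

section castmul
variable {F : Type u} [Field F]

/-- The product with a degree one symbol on the left, transported to degree `n + 1`, is `lam`. -/
theorem cast_mul_symbol_one (a : Fˣ) {n : ℕ} (ρ : K F n) :
    MilK.cast F (Nat.add_comm 1 n) (MilK.mul F 1 n (symbol ![a]) ρ) = lam a n ρ := by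
  induction ρ using K_induction with
  | hsymb y =>
    rw [mul_symbol_symbol, cast_symbol, lam_symbol, Fin.append_left_eq_cons]
    congr 1
  | hadd x y hx hy => simp only [map_add, hx, hy]
  | hneg x hx => simp only [map_neg, hx]

end castmul

section tame3
variable (A : Type u) [CommRing A] [IsDomain A] [IsDiscreteValuationRing A]
  (L : Type v) [Field L] [Algebra A L] [IsFractionRing A L] (ϖ : A) (hϖ : Irreducible ϖ)

local notation "κ" => IsLocalRing.ResidueField A

/-- Uniform formula for the tame symbol of `{x}·ρ`, in terms of `specMap`. -/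
theorem tameMap_lam_zero (x : Lˣ) (ρ : K L 0) :
    tameMap A L ϖ hϖ 0 (lam x 0 ρ) = (valZ A L ϖ hϖ x).toAdd • specMap A L ϖ hϖ 0 ρ := by
  induction ρ using K_induction with
  | hsymb y =>
    rw [lam_symbol, tameMap_zero_symbol, specMap_symbol, symbol_zero_eq]
    rfl
  | hadd a b ha hb => simp only [map_add, ha, hb, smul_add]
  | hneg a ha => simp only [map_neg, ha, smul_neg]

theorem valZ_neg_unitFrac : (valZ A L ϖ hϖ (-unitFrac A L ϖ hϖ.ne_zero)).toAdd = 1 := by
  refine (valZ_unitPart_of_eq A L ϖ hϖ _ 1 (-1) ?_).1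
  apply Units.ext
  simp [unitToFrac]

theorem ac_neg_unitFrac : ac A L ϖ hϖ (-unitFrac A L ϖ hϖ.ne_zero) = -1 := by
  have h : unitPart A L ϖ hϖ (-unitFrac A L ϖ hϖ.ne_zero) = -1 := by
    refine (valZ_unitPart_of_eq A L ϖ hϖ _ 1 (-1) ?_).2
    apply Units.ext
    simp [unitToFrac]
  show unitResidue A (unitPart A L ϖ hϖ _) = _
  rw [h]
  apply Units.ext
  simp [unitResidue]

/-- `s_π(ρ) = ∂({-π}·ρ)`. -/
theorem tameMap_lam_neg_uniformizer (n : ℕ) (ρ : K L n) :
    tameMap A L ϖ hϖ n (lam (-unitFrac A L ϖ hϖ.ne_zero) n ρ) = specMap A L ϖ hϖ n ρ := by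
  cases n with
  | zero => rw [tameMap_lam_zero, valZ_neg_unitFrac, one_smul]
  | succ n =>
    rw [tameMap_lam, valZ_neg_unitFrac, ac_neg_unitFrac, one_smul, one_smul]
    show _ = specMapSucc A L ϖ hϖ n ρ
    abel

end tame3

end Groth.Agent.Lib.Helper15.MilKL
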