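import Mathlib
import Groth.Prelude.Def_EtMil
import Groth.Agent.Lib.Helper12.Mil5
import Groth.Agent.Lib.Helper15.AzumayaDescent
import Groth.Agent.Lib.Helper15.AzumayaFibre

set_option autoImplicit false
set_option linter.style.haveILetI false
set_option linter.unusedSectionVars false

universe u
open TensorProduct

namespace Groth.Agent.Lib.Helper15.MilnorAzumaya

open Groth.Agent.Lib.Helper26.FibreSquareKer Groth.Agent.Lib.Helper12.Mil
open Groth.Agent.Lib.Helper15.Azumaya

variable {B' B A' A : Type u} [CommRing B'] [CommRing B] [CommRing A'] [CommRing A]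
  [Algebra B' B] [Algebra B' A'] [Algebra B A] [Algebra A' A] [Algebra B' A]
  [IsScalarTower B' B A] [IsScalarTower B' A' A]

/-- every prime of `B'` comes from `B` or from `A'` -/
theorem exists_prime_over (hsq : EtMil.IsFibreSquare B' B A' A) (p : Ideal B') [hp : p.IsPrime] :
    (∃ q : Ideal B, q.IsPrime ∧ q.comap (algebraMap B' B) = p) ∨
    (∃ q : Ideal A', q.IsPrime ∧ q.comap (algebraMap B' A') = p) := by
  by_cases h : RingHom.ker (algebraMap B' B) ≤ p
  · left
    have hs := surjective_algebraMap hsq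
    refine ⟨p.map (algebraMap B' B), Ideal.map_isPrime_of_surjective hs h, ?_⟩
    rw [Ideal.comap_map_of_surjective _ hs, sup_eq_left]
    exact h
  · right
    obtain ⟨j, hjk, hjp⟩ := SetLike.not_le_iff_exists.mp h
    have hj0 : algebraMap B' B j = 0 := hjk
    rw [← Ideal.comap_map_eq_self_iff_of_isPrime]
    apply le_antisymm _ Ideal.le_comap_map
    have key : ∀ y ∈ p.map (algebraMap B' A'), ∃ z ∈ p, algebraMap B' B z = 0 ∧
        algebraMap B' A' z = algebraMap B' A' j * y := by
      intro y hy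
      induction hy using Submodule.span_induction with
      | mem y hy =>
        obtain ⟨p₀, hp₀, rfl⟩ := hy
        exact ⟨j * p₀, p.mul_mem_left _ hp₀, by rw [map_mul, hj0, zero_mul], by rw [map_mul]⟩
      | zero => exact ⟨0, p.zero_mem, map_zero _, by rw [map_zero, mul_zero]⟩
      | add y₁ y₂ _ _ h₁ h₂ =>
        obtain ⟨z₁, hz₁, hz₁', hz₁''⟩ := h₁
        obtain ⟨z₂, hz₂, hz₂', hz₂''⟩ := h₂
        exact ⟨z₁ + z₂, p.add_mem hz₁ hz₂, by rw [map_add, hz₁', hz₂', add_zero],
          by rw [map_add, hz₁'', hz₂'', mul_add]⟩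
      | smul a' y _ hy =>
        obtain ⟨z, hz, hz', hz''⟩ := hy
        have hker : algebraMap A' A (a' * algebraMap B' A' z) = 0 := by
          rw [map_mul, algebraMap_mem_ker z hz', mul_zero]
        obtain ⟨z', hz'0, hz'1⟩ := exists_lift_of_mem_ker hsq _ hker
        have hker2 : algebraMap A' A (algebraMap B' A' j * a') = 0 := by
          rw [map_mul, algebraMap_mem_ker j hj0, zero_mul]
        obtain ⟨w, hw0, hw1⟩ := exists_lift_of_mem_ker hsq _ hker2
        have hjz : j * z' = w * z := by
          apply ext_of_fibreSquare hsq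
          · rw [map_mul, map_mul, hj0, hw0, zero_mul, zero_mul]
          · rw [map_mul, map_mul, hz'1, hw1]; ring
        have hz'p : z' ∈ p := by
          have : j * z' ∈ p := hjz ▸ p.mul_mem_left _ hz
          exact (hp.mem_or_mem this).resolve_left hjp
        refine ⟨z', hz'p, hz'0, ?_⟩
        rw [hz'1, hz'', smul_eq_mul]; ring
    intro x hx
    obtain ⟨z, hz, hz0, hz1⟩ := key _ (Ideal.mem_comap.mp hx)
    have : z = j * x := by
      apply ext_of_fibreSquare hsq
      · rw [hz0, map_mul, hj0, zero_mul]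
      · rw [hz1, map_mul]
    rw [this] at hz
    exact (hp.mem_or_mem hz).resolve_left hjp

/-- Azumaya algebras descend along a Milnor square -/
theorem isAzumaya_of_fibreSquare (hsq : EtMil.IsFibreSquare B' B A' A)
    (D' : Type u) [Ring D'] [Algebra B' D']
    [h1 : IsAzumaya B (B ⊗[B'] D')] [h2 : IsAzumaya A' (A' ⊗[B'] D')] : IsAzumaya B' D' := by
  haveI : Module.Finite B' D' := Groth.Agent.Lib.Lead.Milnor.finite_of_baseChange hsq D'
  haveI : Module.Flat B' D' := flat_of_fibreSquare hsq D'
  haveI : Module.FinitePresentation B (B ⊗[B'] D') := Module.finitePresentation_of_projective B _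
  haveI : Module.FinitePresentation A' (A' ⊗[B'] D') :=
    Module.finitePresentation_of_projective A' _
  haveI : Module.FinitePresentation B' D' := finitePresentation_of_fibreSquare hsq D'
  haveI : Module.Projective B' D' := Module.Flat.projective_of_finitePresentation
  rw [isAzumaya_iff_fibres]
  intro p hp
  rcases exists_prime_over hsq p with ⟨q, hq, rfl⟩ | ⟨q, hq, rfl⟩
  · exact csa_fibre_of_csa_fibre_baseChange B' B D' q
      ((isAzumaya_iff_fibres B (B ⊗[B'] D')).mp h1 q)
  · exact csa_fibre_of_csa_fibre_baseChange B' A' D' q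
      ((isAzumaya_iff_fibres A' (A' ⊗[B'] D')).mp h2 q)

theorem isAzumaya_iff (hsq : EtMil.IsFibreSquare B' B A' A)
    (D' : Type u) [Ring D'] [Algebra B' D'] :
    IsAzumaya B' D' ↔ IsAzumaya B (B ⊗[B'] D') ∧ IsAzumaya A' (A' ⊗[B'] D') := by
  constructor
  · intro h
    exact ⟨isAzumaya_baseChange B' B D', isAzumaya_baseChange B' A' D'⟩
  · rintro ⟨h1, h2⟩
    exact isAzumaya_of_fibreSquare hsq D'

section glue
variable (hsq : EtMil.IsFibreSquare B' B A' A)
    (N : Type u) [Ring N] [Algebra B N] [Algebra B' N] [IsScalarTower B' B N]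
    (M' : Type u) [Ring M'] [Algebra A' M'] [Algebra B' M'] [IsScalarTower B' A' M']
    (φ : A ⊗[B] N ≃ₐ[A] A ⊗[A'] M')
    (D' : Type u) [Ring D'] [Algebra B' D'] (π₁ : D' →ₐ[B'] N) (π₂ : D' →ₐ[B'] M')
    (hinj : ∀ d : D', π₁ d = 0 → π₂ d = 0 → d = 0)
    (himg : ∀ (n : N) (m' : M'),
      φ ((1 : A) ⊗ₜ[B] n) = (1 : A) ⊗ₜ[A'] m' ↔ ∃ d : D', π₁ d = n ∧ π₂ d = m')

/-- `D'` is the glued module -/
noncomputable def toGlue : D' ≃ₗ[B'] EtMil.glue B' φ.toLinearEquiv :=
  LinearEquiv.ofBijective
    { toFun := fun d => ⟨(π₁ d, π₂ d), (himg _ _).mpr ⟨d, rfl, rfl⟩⟩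
      map_add' := fun d d' => Subtype.ext (by simp)
      map_smul' := fun c d => Subtype.ext (by simp) }
    ⟨by
      intro d d' h
      have h1 : π₁ d = π₁ d' := congrArg (fun x : EtMil.glue B' φ.toLinearEquiv => x.1.1) h
      have h2 : π₂ d = π₂ d' := congrArg (fun x : EtMil.glue B' φ.toLinearEquiv => x.1.2) h
      rw [← sub_eq_zero]
      apply hinj
      · rw [map_sub, h1, sub_self]
      · rw [map_sub, h2, sub_self],
    by
      rintro ⟨⟨n, m'⟩, h⟩
      obtain ⟨d, rfl, rfl⟩ := (himg n m').mp h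
      exact ⟨d, rfl⟩⟩

theorem toGlue_apply (d : D') :
    ((toGlue N M' φ D' π₁ π₂ hinj himg d : EtMil.glue B' φ.toLinearEquiv) : N × M') =
      (π₁ d, π₂ d) := rfl

/-- `B ⊗ D' ≃ N` as algebras -/
noncomputable def fstAlgEquiv : B ⊗[B'] D' ≃ₐ[B] N :=
  AlgEquiv.ofBijective
    (Algebra.TensorProduct.lift (Algebra.ofId B N) π₁
      (fun b d => Algebra.commute_algebraMap_left b (π₁ d)))
    (by
      have h : ⇑(Algebra.TensorProduct.lift (Algebra.ofId B N) π₁
          (fun b d => Algebra.commute_algebraMap_left b (π₁ d))) =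
          (fstEquiv φ.toLinearEquiv hsq) ∘
            (LinearEquiv.lTensor B (toGlue N M' φ D' π₁ π₂ hinj himg)) := by
        funext z
        induction z using TensorProduct.induction_on with
        | zero => simp
        | tmul b d =>
          rw [Algebra.TensorProduct.lift_tmul, Function.comp_apply, LinearEquiv.lTensor_tmul,
            fstEquiv_tmul, toGlue_apply, Algebra.smul_def]
          rfl
        | add z₁ z₂ h₁ h₂ =>
          rw [map_add, h₁, h₂, Function.comp_apply, Function.comp_apply, Function.comp_apply,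
            map_add, map_add]
      rw [h]
      exact (fstEquiv φ.toLinearEquiv hsq).bijective.comp (LinearEquiv.bijective _))

/-- `A' ⊗ D' ≃ M'` as algebras -/
noncomputable def sndAlgEquiv : A' ⊗[B'] D' ≃ₐ[A'] M' :=
  AlgEquiv.ofBijective
    (Algebra.TensorProduct.lift (Algebra.ofId A' M') π₂
      (fun b d => Algebra.commute_algebraMap_left b (π₂ d)))
    (by
      have h : ⇑(Algebra.TensorProduct.lift (Algebra.ofId A' M') π₂
          (fun b d => Algebra.commute_algebraMap_left b (π₂ d))) =
          (sndEquiv φ.toLinearEquiv hsq) ∘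
            (LinearEquiv.lTensor A' (toGlue N M' φ D' π₁ π₂ hinj himg)) := by
        funext z
        induction z using TensorProduct.induction_on with
        | zero => simp
        | tmul b d =>
          rw [Algebra.TensorProduct.lift_tmul, Function.comp_apply, LinearEquiv.lTensor_tmul]
          show _ = LinearMap.liftBaseChange A' (EtMil.glueSnd B' φ.toLinearEquiv)
            (b ⊗ₜ[B'] (toGlue N M' φ D' π₁ π₂ hinj himg d))
          rw [LinearMap.liftBaseChange_tmul, Algebra.smul_def]
          rfl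
        | add z₁ z₂ h₁ h₂ =>
          rw [map_add, h₁, h₂, Function.comp_apply, Function.comp_apply, Function.comp_apply,
            map_add, map_add]
      rw [h]
      exact (sndEquiv φ.toLinearEquiv hsq).bijective.comp (LinearEquiv.bijective _))

include hsq φ π₁ π₂ hinj himg in
theorem isAzumaya_glue [IsAzumaya B N] [IsAzumaya A' M'] : IsAzumaya B' D' := by
  haveI : IsAzumaya B (B ⊗[B'] D') :=
    IsAzumaya.of_AlgEquiv B N (B ⊗[B'] D') (fstAlgEquiv hsq N M' φ D' π₁ π₂ hinj himg).symm
  haveI : IsAzumaya A' (A' ⊗[B'] D') :=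
    IsAzumaya.of_AlgEquiv A' M' (A' ⊗[B'] D') (sndAlgEquiv hsq N M' φ D' π₁ π₂ hinj himg).symm
  exact isAzumaya_of_fibreSquare hsq D'

end glue

end Groth.Agent.Lib.Helper15.MilnorAzumaya
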