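import Mathlib

/-!
# Morita-type criterion: a ring with a full rank one element is an endomorphism ring (helper15)

If `e ∈ B` satisfies `e x e = e`, `e B e ⊆ R e` and `B e B = B`, then `B ≃ End_R (B f)` with
`f = x e` idempotent.
-/

set_option autoImplicit false

namespace Groth.Agent.Lib.Helper15.MoritaRankOne

section morita

variable {R : Type*} [CommRing R] {B : Type*} [Ring B] [Algebra R B]

/-- the left ideal `B f` as an `R`-submodule -/
def leftIdeal (R : Type*) [CommRing R] {B : Type*} [Ring B] [Algebra R B] (f : B) :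
    Submodule R B := LinearMap.range (LinearMap.mulRight R f)

lemma mem_leftIdeal (f v : B) : v ∈ leftIdeal R f ↔ ∃ b, b * f = v := by
  simp [leftIdeal, LinearMap.mem_range]

lemma mul_idem_of_mem {f : B} (hf : f * f = f) {v : B} (hv : v ∈ leftIdeal R f) :
    v * f = v := by
  obtain ⟨b, rfl⟩ := (mem_leftIdeal f v).mp hv
  rw [mul_assoc, hf]

/-- left multiplication of `B` on `B f` -/
def lmulHom (R : Type*) [CommRing R] {B : Type*} [Ring B] [Algebra R B] (f : B) :
    B →ₐ[R] Module.End R (leftIdeal R f) where
  toFun b := (LinearMap.mulLeft R b).restrict (fun v hv => by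
    obtain ⟨c, rfl⟩ := (mem_leftIdeal f v).mp hv
    exact (mem_leftIdeal f _).mpr ⟨b * c, by simp [mul_assoc]⟩)
  map_one' := by ext v; simp
  map_mul' a b := by ext v; simp [mul_assoc]
  map_zero' := by ext v; simp
  map_add' a b := by ext v; simp [add_mul]
  commutes' r := by ext v; simp [Algebra.algebraMap_eq_smul_one]

lemma lmulHom_apply (f b : B) (v : leftIdeal R f) :
    ((lmulHom R f b v : leftIdeal R f) : B) = b * (v : B) := rfl

/-- the left ideal generated by an idempotent is a direct summand -/
theorem projective_leftIdeal [Module.Projective R B] {f : B} (hf : f * f = f) :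
    Module.Projective R (leftIdeal R f) := by
  let s : B →ₗ[R] leftIdeal R f := (LinearMap.mulRight R f).rangeRestrict
  refine Module.Projective.of_split (leftIdeal R f).subtype s ?_
  ext v
  change ((v : B) * f) = v
  exact mul_idem_of_mem hf v.2

theorem finite_leftIdeal [Module.Finite R B] (f : B) : Module.Finite R (leftIdeal R f) := by
  unfold leftIdeal
  exact Module.Finite.range _

theorem lmulHom_bijective (e x : B) (hx : e * x * e = e)
    (ha : ∀ b : B, ∃ r : R, e * b * e = r • e)
    {J : Type*} [Fintype J] (y z : J → B) (hb : ∑ j, y j * e * z j = 1) :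
    Function.Bijective (lmulHom R (x * e)) := by
  classical
  set f := x * e with hfdef
  have hf : f * f = f := by
    rw [hfdef, mul_assoc, ← mul_assoc e x e, hx]
  have hef : e * f = e := by rw [hfdef, ← mul_assoc, hx]
  have hmem : ∀ j, y j * e ∈ leftIdeal R f := fun j =>
    (mem_leftIdeal f _).mpr ⟨y j * e, by rw [mul_assoc, hef]⟩
  refine ⟨?_, ?_⟩
  · rw [injective_iff_map_eq_zero]
    intro b hb0
    have h1 : ∀ j, b * (y j * e) = 0 := by
      intro j
      have h2 : (lmulHom R f b) ⟨y j * e, hmem j⟩ = 0 := by rw [hb0]; rfl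
      have h3 := congrArg (Subtype.val) h2
      rw [lmulHom_apply] at h3
      exact h3
    calc b = b * ∑ j, y j * e * z j := by rw [hb, mul_one]
      _ = ∑ j, b * (y j * e) * z j := by
          rw [Finset.mul_sum]
          exact Finset.sum_congr rfl fun j _ => by rw [mul_assoc b]
      _ = 0 := by
          exact Finset.sum_eq_zero fun j _ => by rw [h1, zero_mul]
  · intro ψ
    refine ⟨∑ j, ((ψ ⟨y j * e, hmem j⟩ : leftIdeal R f) : B) * z j, ?_⟩
    ext v
    rw [lmulHom_apply]
    obtain ⟨v, hv⟩ := v
    have hvf : v * f = v := mul_idem_of_mem hf hv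
    -- scalars
    have hr : ∀ j, ∃ r : R, f * (z j * v) = r • f := by
      intro j
      obtain ⟨r, hr⟩ := ha (z j * v * x)
      refine ⟨r, ?_⟩
      calc f * (z j * v) = x * e * (z j * (v * f)) := by rw [hvf]
        _ = x * (e * (z j * v * x) * e) := by rw [hfdef]; simp only [mul_assoc]
        _ = r • f := by rw [hr, mul_smul_comm]
    choose r hr using hr
    have hψf : ∀ j, ((ψ ⟨y j * e, hmem j⟩ : leftIdeal R f) : B) * f =
        ((ψ ⟨y j * e, hmem j⟩ : leftIdeal R f) : B) := fun j =>
      mul_idem_of_mem hf (ψ ⟨y j * e, hmem j⟩).2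
    have h1 : ∀ j, ((ψ ⟨y j * e, hmem j⟩ : leftIdeal R f) : B) * z j * v =
        ((ψ (r j • ⟨y j * e, hmem j⟩) : leftIdeal R f) : B) := by
      intro j
      rw [map_smul, Submodule.coe_smul]
      calc ((ψ ⟨y j * e, hmem j⟩ : leftIdeal R f) : B) * z j * v
          = ((ψ ⟨y j * e, hmem j⟩ : leftIdeal R f) : B) * f * (z j * v) := by
            rw [hψf, mul_assoc]
        _ = ((ψ ⟨y j * e, hmem j⟩ : leftIdeal R f) : B) * (r j • f) := by
            rw [mul_assoc, hr]
        _ = r j • ((ψ ⟨y j * e, hmem j⟩ : leftIdeal R f) : B) := by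
            rw [mul_smul_comm, hψf]
    have h2 : (∑ j, r j • (⟨y j * e, hmem j⟩ : leftIdeal R f)) = ⟨v, hv⟩ := by
      apply Subtype.ext
      rw [Submodule.coe_sum]
      simp only [Submodule.coe_smul]
      calc ∑ j, r j • (y j * e) = ∑ j, y j * e * z j * v := by
            refine Finset.sum_congr rfl fun j _ => ?_
            calc r j • (y j * e) = y j * (e * (r j • f)) := by
                  rw [mul_smul_comm, hef, mul_smul_comm]
              _ = y j * (e * (f * (z j * v))) := by rw [hr]
              _ = y j * e * z j * v := by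
                  rw [← mul_assoc e f, hef]
                  simp only [mul_assoc]
        _ = (∑ j, y j * e * z j) * v := by rw [Finset.sum_mul]
        _ = v := by rw [hb, one_mul]
    rw [Finset.sum_mul]
    simp_rw [h1]
    rw [← Submodule.coe_sum, ← map_sum, h2]

end morita

end Groth.Agent.Lib.Helper15.MoritaRankOne
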