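import Mathlib

/-!
# One-jets of `A[[x,y]]/(xy - β)` and the ideal `(β)` (helper15)

For a Noetherian (here: any) local ring `A` and `α, β` in its maximal ideal, an `A`-algebra
isomorphism `A[[x,y]]/(xy-α) ≃ A[[x,y]]/(xy-β)` forces `α ∈ (β)`.  The argument uses only first
order jets: the ring homomorphism `f ↦ (f₀₀, (f₁₀, f₀₁))` into `TrivSqZeroExt K (K × K)`.
-/

set_option autoImplicit false
universe u

open MvPowerSeries

namespace Groth.Agent.Lib.Helper15.NodeJet

section coeff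

variable {σ : Type*} [DecidableEq σ] {A : Type*} [CommRing A]

lemma coeff_single_one_mul (i : σ) (f g : MvPowerSeries σ A) :
    coeff (Finsupp.single i 1) (f * g) =
      constantCoeff f * coeff (Finsupp.single i 1) g +
        coeff (Finsupp.single i 1) f * constantCoeff g := by
  classical
  rw [coeff_mul, Finsupp.antidiagonal_single, Finset.sum_map]
  have : Finset.HasAntidiagonal.antidiagonal (1:ℕ) = {((0:ℕ),1), (1,0)} := by decide
  rw [this, Finset.sum_pair (by decide)]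
  simp

end coeff

variable {A : Type u} [CommRing A] {K : Type*} [CommRing K]

/-- The one-jet of a power series in two variables, with coefficients pushed along `q`. -/
noncomputable def jet (q : A →+* K) : MvPowerSeries (Fin 2) A →+* TrivSqZeroExt K (K × K) where
  toFun f := TrivSqZeroExt.inl (q (constantCoeff f)) +
    TrivSqZeroExt.inr (q (coeff (Finsupp.single 0 1) f), q (coeff (Finsupp.single 1 1) f))
  map_one' := by
    apply TrivSqZeroExt.ext
    · simp
    · simp [MvPowerSeries.coeff_one]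
  map_mul' f g := by
    apply TrivSqZeroExt.ext
    · simp
    · simp only [TrivSqZeroExt.snd_add, TrivSqZeroExt.snd_inl, TrivSqZeroExt.snd_inr, zero_add,
        TrivSqZeroExt.snd_mul, TrivSqZeroExt.fst_add, TrivSqZeroExt.fst_inl, TrivSqZeroExt.fst_inr,
        add_zero, coeff_single_one_mul, map_add, map_mul]
      ext <;> simp [mul_comm]
  map_zero' := by
    apply TrivSqZeroExt.ext <;> simp
  map_add' f g := by
    apply TrivSqZeroExt.ext
    · simp
    · simp

lemma jet_fst (q : A →+* K) (f : MvPowerSeries (Fin 2) A) : (jet q f).fst = q (constantCoeff f) := by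
  simp [jet]

lemma jet_snd (q : A →+* K) (f : MvPowerSeries (Fin 2) A) :
    (jet q f).snd = (q (coeff (Finsupp.single 0 1) f), q (coeff (Finsupp.single 1 1) f)) := by
  simp [jet]

lemma jet_C (q : A →+* K) (a : A) : jet q (C a) = TrivSqZeroExt.inl (q a) := by
  apply TrivSqZeroExt.ext
  · rw [jet_fst]; simp
  · rw [jet_snd]
    simp [MvPowerSeries.coeff_C]

lemma jet_node (q : A →+* K) (β : A) (hβ : q β = 0) :
    jet q (X 0 * X 1 - C β) = 0 := by
  rw [map_sub, map_mul, jet_C, hβ]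
  apply TrivSqZeroExt.ext
  · simp [jet_fst]
  · simp [jet_snd, jet_fst, TrivSqZeroExt.snd_mul, MvPowerSeries.coeff_index_single_X]

lemma exists_decomp (f : MvPowerSeries (Fin 2) A) :
    ∃ g h : MvPowerSeries (Fin 2) A, f = C (constantCoeff f) + X 0 * g + X 1 * h := by
  classical
  let f' : MvPowerSeries (Fin 2) A := fun m => if m 0 = 0 then 0 else coeff m f
  have hf' : ∀ m, coeff m f' = if m 0 = 0 then 0 else coeff m f := fun m => rfl
  have h1 : (X 0 : MvPowerSeries (Fin 2) A) ∣ f' := by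
    rw [X_dvd_iff]
    intro m hm
    rw [hf', if_pos hm]
  have h2 : (X 1 : MvPowerSeries (Fin 2) A) ∣ f - f' - C (constantCoeff f) := by
    rw [X_dvd_iff]
    intro m hm
    rw [map_sub, map_sub, hf']
    by_cases h0 : m 0 = 0
    · have : m = 0 := by
        ext i
        fin_cases i
        · exact h0
        · exact hm
      subst this
      simp
    · rw [if_neg h0, coeff_C, if_neg]
      · ring
      · rintro rfl
        exact h0 rfl
  obtain ⟨g, hg⟩ := h1
  obtain ⟨h, hh⟩ := h2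
  refine ⟨g, h, ?_⟩
  rw [← hg, ← hh]
  ring

/-- The jet on the quotient by `xy - β`. -/
noncomputable def jetQ (q : A →+* K) (β : A) (hβ : q β = 0) :
    (MvPowerSeries (Fin 2) A ⧸ Ideal.span {(X 0 * X 1 - C β : MvPowerSeries (Fin 2) A)}) →+*
      TrivSqZeroExt K (K × K) :=
  Ideal.Quotient.lift _ (jet q) (by
    intro a ha
    obtain ⟨c, rfl⟩ := Ideal.mem_span_singleton'.mp ha
    rw [map_mul, jet_node q β hβ, mul_zero])

lemma jetQ_mk (q : A →+* K) (β : A) (hβ : q β = 0) (f : MvPowerSeries (Fin 2) A) :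
    jetQ q β hβ (Ideal.Quotient.mk _ f) = jet q f :=
  Ideal.Quotient.lift_mk _ _ _

lemma jet_X0 (q : A →+* K) : jet q (X 0) = TrivSqZeroExt.inr (1, 0) := by
  apply TrivSqZeroExt.ext
  · simp [jet_fst]
  · simp [jet_snd, MvPowerSeries.coeff_index_single_X]

lemma jet_X1 (q : A →+* K) : jet q (X 1) = TrivSqZeroExt.inr (0, 1) := by
  apply TrivSqZeroExt.ext
  · simp [jet_fst]
  · simp [jet_snd, MvPowerSeries.coeff_index_single_X]

open IsLocalRing in
theorem mem_span_of_equiv [IsLocalRing A] (α β : A) (hα : α ∈ maximalIdeal A)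
    (hβ : β ∈ maximalIdeal A)
    (φ : (MvPowerSeries (Fin 2) A ⧸ Ideal.span {(X 0 * X 1 - C α : MvPowerSeries (Fin 2) A)}) ≃ₐ[A]
      (MvPowerSeries (Fin 2) A ⧸ Ideal.span {(X 0 * X 1 - C β : MvPowerSeries (Fin 2) A)})) :
    α ∈ Ideal.span {β} := by
  classical
  set Iα := Ideal.span {(X 0 * X 1 - C α : MvPowerSeries (Fin 2) A)} with hIα
  set Iβ := Ideal.span {(X 0 * X 1 - C β : MvPowerSeries (Fin 2) A)} with hIβ
  let πα := Ideal.Quotient.mk Iα
  let πβ := Ideal.Quotient.mk Iβ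
  let qk : A →+* ResidueField A := residue A
  have hqα : qk α = 0 := (residue_eq_zero_iff α).mpr hα
  have hqβ : qk β = 0 := (residue_eq_zero_iff β).mpr hβ
  -- φ commutes with constants
  have hCα : ∀ a : A, πα (C a) = algebraMap A _ a := fun a => rfl
  have hCβ : ∀ a : A, πβ (C a) = algebraMap A _ a := fun a => rfl
  have hφC : ∀ a : A, φ (πα (C a)) = πβ (C a) := by
    intro a
    rw [hCα, hCβ, φ.commutes]
  have hφsC : ∀ a : A, φ.symm (πβ (C a)) = πα (C a) := by
    intro a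
    rw [hCα, hCβ, φ.symm.commutes]
  have hrelα : πα (X 0) * πα (X 1) = πα (C α) := by
    rw [← map_mul, ← sub_eq_zero, ← map_sub]
    exact Ideal.Quotient.eq_zero_iff_mem.mpr (Ideal.subset_span rfl)
  -- the composite ring hom to jets over the residue field
  let ψ : MvPowerSeries (Fin 2) A →+* TrivSqZeroExt (ResidueField A) (ResidueField A × ResidueField A) :=
    (jetQ qk β hqβ).comp ((φ : _ →+* _).comp πα)
  have hψ : ∀ f, ψ f = jetQ qk β hqβ (φ (πα f)) := fun f => rfl
  have hψC : ∀ a : A, ψ (C a) = TrivSqZeroExt.inl (qk a) := by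
    intro a
    rw [hψ, hφC, jetQ_mk, jet_C]
  -- lifts of the images of x and y
  obtain ⟨uL, huL⟩ := Ideal.Quotient.mk_surjective (φ (πα (X 0)))
  obtain ⟨vL, hvL⟩ := Ideal.Quotient.mk_surjective (φ (πα (X 1)))
  have hψX0 : ψ (X 0) = jet qk uL := by rw [hψ, ← huL, jetQ_mk]
  have hψX1 : ψ (X 1) = jet qk vL := by rw [hψ, ← hvL, jetQ_mk]
  -- constant coefficients are non-units
  have hnonunit : ∀ (i : Fin 2) (w : MvPowerSeries (Fin 2) A), πβ w = φ (πα (X i)) →
      qk (constantCoeff w) = 0 := by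
    intro i w hw
    rw [show qk = residue A from rfl, residue_eq_zero_iff]
    by_contra hcon
    have h1 : IsUnit (constantCoeff w) := by
      by_contra h2
      exact hcon ((mem_maximalIdeal _).mpr h2)
    have h2 : IsUnit w := MvPowerSeries.isUnit_iff_constantCoeff.mpr h1
    have h3 : IsUnit (φ (πα (X i))) := hw ▸ h2.map πβ
    have h4 : IsUnit (πα (X i)) := by
      have := h3.map φ.symm
      simpa using this
    have h5 := h4.map (jetQ qk α hqα)
    rw [jetQ_mk, TrivSqZeroExt.isUnit_iff_isUnit_fst, jet_fst] at h5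
    simp at h5
  have hu0 : qk (constantCoeff uL) = 0 := hnonunit 0 uL huL
  have hv0 : qk (constantCoeff vL) = 0 := hnonunit 1 vL hvL
  set a₁ := coeff (Finsupp.single 0 1) uL with ha₁
  set b₁ := coeff (Finsupp.single 1 1) uL with hb₁
  set c₁ := coeff (Finsupp.single 0 1) vL with hc₁
  set d₁ := coeff (Finsupp.single 1 1) vL with hd₁
  have hψX0' : ψ (X 0) = TrivSqZeroExt.inr (qk a₁, qk b₁) := by
    rw [hψX0]
    apply TrivSqZeroExt.ext
    · rw [jet_fst, hu0]; simp
    · rw [jet_snd, TrivSqZeroExt.snd_inr]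
  have hψX1' : ψ (X 1) = TrivSqZeroExt.inr (qk c₁, qk d₁) := by
    rw [hψX1]
    apply TrivSqZeroExt.ext
    · rw [jet_fst, hv0]; simp
    · rw [jet_snd, TrivSqZeroExt.snd_inr]
  -- second components of ψ
  have hsnd : ∀ f, ∃ γ η : ResidueField A,
      (ψ f).snd = (γ * qk a₁ + η * qk c₁, γ * qk b₁ + η * qk d₁) := by
    intro f
    obtain ⟨g, h, hf⟩ := exists_decomp f
    refine ⟨(ψ g).fst, (ψ h).fst, ?_⟩
    rw [hf, map_add, map_add, map_mul, map_mul, hψC, hψX0', hψX1']
    simp [TrivSqZeroExt.snd_mul, mul_comm]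
  -- surjectivity
  obtain ⟨f₁, hf₁⟩ := Ideal.Quotient.mk_surjective (φ.symm (πβ (X 0)))
  obtain ⟨f₂, hf₂⟩ := Ideal.Quotient.mk_surjective (φ.symm (πβ (X 1)))
  have hψf₁ : ψ f₁ = TrivSqZeroExt.inr (1, 0) := by
    rw [hψ, show πα f₁ = φ.symm (πβ (X 0)) from hf₁, AlgEquiv.apply_symm_apply, jetQ_mk, jet_X0]
  have hψf₂ : ψ f₂ = TrivSqZeroExt.inr (0, 1) := by
    rw [hψ, show πα f₂ = φ.symm (πβ (X 1)) from hf₂, AlgEquiv.apply_symm_apply, jetQ_mk, jet_X1]
  obtain ⟨γ₁, η₁, h1⟩ := hsnd f₁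
  obtain ⟨γ₂, η₂, h2⟩ := hsnd f₂
  rw [hψf₁, TrivSqZeroExt.snd_inr, Prod.mk.injEq] at h1
  rw [hψf₂, TrivSqZeroExt.snd_inr, Prod.mk.injEq] at h2
  obtain ⟨h1a, h1b⟩ := h1
  obtain ⟨h2a, h2b⟩ := h2
  have hdet : qk (a₁ * d₁ - b₁ * c₁) * (γ₁ * η₂ - γ₂ * η₁) = 1 := by
    rw [map_sub, map_mul, map_mul]
    linear_combination (-(γ₂ * qk b₁ + η₂ * qk d₁)) * h1a + (γ₂ * qk a₁ + η₂ * qk c₁) * h1b - h2b
  have hD : IsUnit (a₁ * d₁ - b₁ * c₁) := by
    by_contra hcon
    have : qk (a₁ * d₁ - b₁ * c₁) = 0 := (residue_eq_zero_iff _).mpr ((mem_maximalIdeal _).mpr hcon)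
    rw [this, zero_mul] at hdet
    exact zero_ne_one hdet
  -- Cramer modulo β
  let q : A →+* A ⧸ Ideal.span {β} := Ideal.Quotient.mk _
  have hqβ' : q β = 0 := Ideal.Quotient.eq_zero_iff_mem.mpr (Ideal.subset_span rfl)
  have hrelβ : πβ uL * πβ vL = πβ (C α) := by
    rw [huL, hvL, ← map_mul, hrelα, hφC]
  have hjet := congrArg (jetQ q β hqβ') hrelβ
  rw [map_mul, jetQ_mk, jetQ_mk, jetQ_mk, jet_C] at hjet
  have hfst := congrArg TrivSqZeroExt.fst hjet
  have hsnd' := congrArg TrivSqZeroExt.snd hjet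
  rw [TrivSqZeroExt.fst_mul, jet_fst, jet_fst, TrivSqZeroExt.fst_inl] at hfst
  rw [TrivSqZeroExt.snd_mul, jet_fst, jet_fst, jet_snd, jet_snd, TrivSqZeroExt.snd_inl,
    Prod.ext_iff] at hsnd'
  obtain ⟨hE1, hE2⟩ := hsnd'
  simp only [Prod.smul_mk, Prod.fst_add, Prod.snd_add, Prod.fst_zero, Prod.snd_zero,
    MulOpposite.smul_eq_mul_unop, MulOpposite.unop_op, smul_eq_mul] at hE1 hE2
  have hqD : IsUnit (q (a₁ * d₁ - b₁ * c₁)) := hD.map q
  have hu : q (constantCoeff uL) = 0 := by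
    apply hqD.mul_left_cancel
    rw [mul_zero, map_sub, map_mul, map_mul]
    linear_combination (q a₁) * hE2 - (q b₁) * hE1
  rw [hu, zero_mul] at hfst
  exact Ideal.Quotient.eq_zero_iff_mem.mp hfst.symm

end Groth.Agent.Lib.Helper15.NodeJet
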