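import Mathlib
import Groth.Prelude.Def_W4c5normfunctorschNorm
import Groth.Agent.Lib.Helper15.PolLawGeneric

/-!
# The algebra map attached to the norm commutes with base change (helper15)
-/

set_option autoImplicit false
universe u
open scoped TensorProduct

namespace Groth.Agent.Lib.Helper15.NormBC

open Groth.Agent.Lib.Helper15.PolLawGeneric

section bc

variable {R : Type u} [CommRing R] {Q : Type u} [CommRing Q] [Algebra R Q]
  {X : Type u} [AddCommGroup X] [Module R X]
  {Y : Type u} [AddCommGroup Y] [Module R Y] [Module Q Y] [IsScalarTower R Q Y]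

theorem bcAlong_tmul (g : X →ₗ[R] Y) (P : Type u) [CommRing P] [Algebra R P] [Algebra Q P]
    [IsScalarTower R Q P] (p : P) (x : X) :
    PolLaw.bcAlong g P (p ⊗ₜ[R] x) = p ⊗ₜ[Q] g x := by
  unfold PolLaw.bcAlong
  rw [LinearMap.comp_apply]
  show (LinearMap.lTensor P (LinearMap.liftBaseChange Q g))
    ((TensorProduct.AlgebraTensorModule.cancelBaseChange R Q P P X).symm (p ⊗ₜ[R] x)) = _
  rw [TensorProduct.AlgebraTensorModule.cancelBaseChange_symm_tmul, LinearMap.lTensor_tmul,
    LinearMap.liftBaseChange_tmul, one_smul]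

end bc

section main

variable {R R' Q Q' : Type u} [CommRing R] [CommRing R'] [Algebra R R']
  [CommRing Q] [Algebra R Q] [CommRing Q'] [Algebra R Q'] [Algebra Q Q'] [Algebra R' Q']
  [IsScalarTower R Q Q'] [IsScalarTower R R' Q'] [Algebra.IsPushout R R' Q Q']

/-- the comparison isomorphism `P ⊗_R R' ≃ P ⊗_Q Q'` -/
noncomputable def cmp (P : Type u) [CommRing P] [Algebra R P] [Algebra Q P] [IsScalarTower R Q P] :
    P ⊗[R] R' ≃ₐ[P] P ⊗[Q] Q' :=
  haveI : Algebra.IsPushout R Q R' Q' := Algebra.IsPushout.symm inferInstance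
  (Algebra.TensorProduct.cancelBaseChange R Q P P R').symm.trans
    (Algebra.TensorProduct.congr (AlgEquiv.refl : P ≃ₐ[P] P) (Algebra.IsPushout.equiv R Q R' Q'))

theorem cmp_tmul (P : Type u) [CommRing P] [Algebra R P] [Algebra Q P] [IsScalarTower R Q P]
    (p : P) (x : R') :
    cmp (R := R) (Q := Q) (Q' := Q') P (p ⊗ₜ[R] x) = p ⊗ₜ[Q] algebraMap R' Q' x := by
  haveI : Algebra.IsPushout R Q R' Q' := Algebra.IsPushout.symm inferInstance
  unfold cmp
  rw [AlgEquiv.trans_apply]
  have h1 : (Algebra.TensorProduct.cancelBaseChange R Q P P R').symm (p ⊗ₜ[R] x) =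
      p ⊗ₜ[Q] ((1 : Q) ⊗ₜ[R] x) := by
    rw [AlgEquiv.symm_apply_eq, Algebra.TensorProduct.cancelBaseChange_tmul, one_smul]
  rw [h1, Algebra.TensorProduct.congr_apply, Algebra.TensorProduct.map_tmul]
  show p ⊗ₜ[Q] (Algebra.IsPushout.equiv R Q R' Q' ((1 : Q) ⊗ₜ[R] x)) = _
  rw [Algebra.IsPushout.equiv_tmul, map_one, one_mul]

theorem mon_X {n : ℕ} (α : Fin n →₀ ℕ) :
    mon (fun i => (MvPolynomial.X i : MvPolynomial (Fin n) Q)) α = MvPolynomial.monomial α 1 := by
  rw [MvPolynomial.monomial_eq, map_one, one_mul]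
  rfl

theorem main [Module.Free R R'] [Module.Finite R R'] [Module.Free Q Q'] [Module.Finite Q Q']
    (d : ℕ) (hd : Module.finrank R R' = d) (hd' : Module.finrank Q Q' = d)
    {C : Type u} [CommRing C] [Algebra R C] (γ : PolLaw.MulLaw R R' C d) (hγ : PolLaw.IsGammaD γ)
    (π : C →ₐ[R] R) (hπ : PolLaw.MulLaw.postcomp π γ = PolLaw.normLaw R R' d hd)
    {C' : Type u} [CommRing C'] [Algebra R C'] [Algebra Q C'] [IsScalarTower R Q C']
    (γ' : PolLaw.MulLaw Q Q' C' d)
    (π' : C' →ₐ[Q] Q) (hπ' : PolLaw.MulLaw.postcomp π' γ' = PolLaw.normLaw Q Q' d hd')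
    (θ : C →ₐ[R] C')
    (hθ : ∀ (P : Type u) [CommRing P] [Algebra R P] [Algebra Q P] [IsScalarTower R Q P]
      (z : P ⊗[R] R'),
      γ'.law.toFun' P (PolLaw.bcAlong (IsScalarTower.toAlgHom R R' Q').toLinearMap P z) =
        PolLaw.bcAlong θ.toLinearMap P (γ.law.toFun' P z)) :
    ∀ c : C, π' (θ c) = algebraMap R Q (π c) := by
  classical
  let b := (Module.Free.chooseBasis R R').reindex
    (Fintype.equivFin (Module.Free.ChooseBasisIndex R R'))
  have hgen := adjoin_gcoeff_eq_top b γ hγ
  have key : ∀ α, π' (θ (gcoeff b γ α)) = algebraMap R Q (π (gcoeff b γ α)) := by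
    intro α₀
    let P := MvPolynomial (Fin (Fintype.card (Module.Free.ChooseBasisIndex R R'))) Q
    obtain ⟨z, hzdef⟩ : ∃ z : P ⊗[R] R', z = ∑ i, (MvPolynomial.X i : P) ⊗ₜ[R] b i := ⟨_, rfl⟩
    obtain ⟨z', hz'def⟩ : ∃ z' : P ⊗[Q] Q',
      z' = ∑ i, (MvPolynomial.X i : P) ⊗ₜ[Q] algebraMap R' Q' (b i) := ⟨_, rfl⟩
    have h1 : γ.law.toFun' P z = ∑ α ∈ (gcoeff b γ).support,
        (MvPolynomial.monomial α (1 : Q) : P) ⊗ₜ[R] gcoeff b γ α := by
      rw [law_eq_sum b γ P z, hzdef, coords_sum]
      refine Finset.sum_congr rfl fun α _ => ?_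
      rw [mon_X]
    have hz : PolLaw.bcAlong (IsScalarTower.toAlgHom R R' Q').toLinearMap P z = z' := by
      rw [hzdef, hz'def, map_sum]
      refine Finset.sum_congr rfl fun i _ => ?_
      rw [bcAlong_tmul]
      rfl
    have h2 := hθ P z
    rw [hz, h1, map_sum] at h2
    -- the `Q`-side
    have h3 : (PolLaw.normLaw Q Q' d hd').law.toFun' P z' =
        π'.toLinearMap.lTensor P (γ'.law.toFun' P z') := by
      rw [← hπ']
      rfl
    rw [PolLaw.normLaw_apply, h2, map_sum] at h3
    have h4 := congrArg (TensorProduct.rid Q P) h3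
    rw [TensorProduct.rid_tmul, one_smul, map_sum] at h4
    -- the `R`-side
    have h5 : (PolLaw.normLaw R R' d hd).law.toFun' P z =
        π.toLinearMap.lTensor P (γ.law.toFun' P z) := by
      rw [← hπ]
      rfl
    rw [PolLaw.normLaw_apply, h1, map_sum] at h5
    have h6 := congrArg (TensorProduct.rid R P) h5
    rw [TensorProduct.rid_tmul, one_smul, map_sum] at h6
    -- the norms agree
    have h7 : Algebra.norm P z' = Algebra.norm P z := by
      have : cmp (R := R) (Q := Q) (Q' := Q') P z = z' := by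
        rw [hzdef, hz'def, map_sum]
        refine Finset.sum_congr rfl fun i _ => ?_
        rw [cmp_tmul]
      rw [← this, Algebra.norm_eq_of_algEquiv]
    rw [h7, h6] at h4
    have h8 := congrArg (MvPolynomial.coeff α₀) h4
    rw [MvPolynomial.coeff_sum, MvPolynomial.coeff_sum] at h8
    by_cases hα : α₀ ∈ (gcoeff b γ).support
    · rw [Finset.sum_eq_single α₀, Finset.sum_eq_single α₀] at h8
      · rw [bcAlong_tmul, LinearMap.lTensor_tmul, TensorProduct.rid_tmul,
          LinearMap.lTensor_tmul, TensorProduct.rid_tmul, MvPolynomial.smul_monomial,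
          MvPolynomial.smul_monomial, MvPolynomial.coeff_monomial, MvPolynomial.coeff_monomial,
          if_pos rfl, if_pos rfl, smul_eq_mul, mul_one, Algebra.smul_def, mul_one] at h8
        exact h8.symm
      · intro α _ hne
        rw [bcAlong_tmul, LinearMap.lTensor_tmul, TensorProduct.rid_tmul,
          MvPolynomial.smul_monomial, MvPolynomial.coeff_monomial, if_neg hne]
      · intro h; exact absurd hα h
      · intro α _ hne
        rw [LinearMap.lTensor_tmul, TensorProduct.rid_tmul,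
          MvPolynomial.smul_monomial, MvPolynomial.coeff_monomial, if_neg hne]
      · intro h; exact absurd hα h
    · rw [Finsupp.notMem_support_iff] at hα
      rw [hα, map_zero, map_zero, map_zero, map_zero]
  have hcomp : (π'.restrictScalars R).comp θ = (Algebra.ofId R Q).comp π :=
    AlgHom.ext_of_adjoin_eq_top hgen (by
      rintro _ ⟨α, rfl⟩
      exact key α)
  intro c
  exact DFunLike.congr_fun hcomp c

end main

end Groth.Agent.Lib.Helper15.NormBC
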