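import Mathlib
import Groth.Prelude.Def_W4c5normfunctorschNorm

set_option autoImplicit false
universe u
open scoped TensorProduct

namespace Groth.Agent.Lib.Helper15.NormicBC1

variable {R : Type u} [CommRing R] {Q : Type u} [CommRing Q] [Algebra R Q]

section kap

variable (P : Type u) [CommSemiring P] [Algebra R P]
  (Z : Type u) [AddCommGroup Z] [Module R Z] [Module Q Z] [IsScalarTower R Q Z]

/-- `(Q ⊗ P) ⊗[Q] Z ≃ P ⊗[R] Z`, `(q ⊗ p) ⊗ z ↦ p ⊗ q z` -/
noncomputable def kap : (Q ⊗[R] P) ⊗[Q] Z ≃ₗ[R] P ⊗[R] Z :=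
  ((TensorProduct.comm Q (Q ⊗[R] P) Z).restrictScalars R).trans
    (((TensorProduct.AlgebraTensorModule.cancelBaseChange R Q Q Z P).restrictScalars R).trans
      (TensorProduct.comm R Z P))

theorem kap_tmul (q : Q) (p : P) (z : Z) :
    kap (R := R) (Q := Q) P Z ((q ⊗ₜ[R] p) ⊗ₜ[Q] z) = p ⊗ₜ[R] (q • z) := rfl

theorem kap_symm_tmul (p : P) (z : Z) :
    (kap (R := R) (Q := Q) P Z).symm (p ⊗ₜ[R] z) = ((1 : Q) ⊗ₜ[R] p) ⊗ₜ[Q] z := rfl

end kap

section rs

variable {Y Z : Type u} [AddCommGroup Y] [Module R Y] [Module Q Y] [IsScalarTower R Q Y]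
  [AddCommGroup Z] [Module R Z] [Module Q Z] [IsScalarTower R Q Z]

/-- `id ⊗ φ : Q ⊗ P → Q ⊗ P'` -/
noncomputable def tl {P P' : Type u} [CommSemiring P] [Algebra R P] [CommSemiring P'] [Algebra R P']
    (φ : P →ₐ[R] P') : Q ⊗[R] P →ₐ[Q] Q ⊗[R] P' :=
  Algebra.TensorProduct.map (AlgHom.id Q Q) φ

theorem tl_tmul {P P' : Type u} [CommSemiring P] [Algebra R P] [CommSemiring P'] [Algebra R P']
    (φ : P →ₐ[R] P') (q : Q) (p : P) : tl (Q := Q) φ (q ⊗ₜ[R] p) = q ⊗ₜ[R] φ p := rfl

theorem kap_nat {P P' : Type u} [CommSemiring P] [Algebra R P] [CommSemiring P'] [Algebra R P']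
    (φ : P →ₐ[R] P') (v : (Q ⊗[R] P) ⊗[Q] Z) :
    φ.toLinearMap.rTensor Z (kap (R := R) (Q := Q) P Z v) =
      kap (R := R) (Q := Q) P' Z ((tl (Q := Q) φ).toLinearMap.rTensor Z v) := by
  induction v using TensorProduct.induction_on with
  | zero => simp
  | tmul w z =>
    induction w using TensorProduct.induction_on with
    | zero => simp
    | tmul q p =>
      rw [kap_tmul, LinearMap.rTensor_tmul, LinearMap.rTensor_tmul, AlgHom.toLinearMap_apply,
        AlgHom.toLinearMap_apply, tl_tmul, kap_tmul]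
    | add w w' hw hw' =>
      rw [TensorProduct.add_tmul, map_add, map_add, hw, hw', map_add, map_add]
  | add v v' hv hv' => rw [map_add, map_add, hv, hv', map_add, map_add]

theorem kap_symm_nat {P P' : Type u} [CommSemiring P] [Algebra R P] [CommSemiring P']
    [Algebra R P'] (φ : P →ₐ[R] P') (y : P ⊗[R] Y) :
    (tl (Q := Q) φ).toLinearMap.rTensor Y ((kap (R := R) (Q := Q) P Y).symm y) =
      (kap (R := R) (Q := Q) P' Y).symm (φ.toLinearMap.rTensor Y y) := by
  rw [LinearEquiv.eq_symm_apply, ← kap_nat, LinearEquiv.apply_symm_apply]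

/-- **restriction of scalars of a polynomial law** -/
noncomputable def rs (G : Y →ₚₗ[Q] Z) : Y →ₚₗ[R] Z where
  toFun' P _ _ y := kap (R := R) (Q := Q) P Z (G.toFun' (Q ⊗[R] P) ((kap (R := R) (Q := Q) P Y).symm y))
  isCompat' φ := by
    funext y
    simp only [Function.comp_apply]
    rw [kap_nat, PolynomialLaw.isCompat_apply' (f := G), kap_symm_nat]

theorem rs_toFun' (G : Y →ₚₗ[Q] Z) (P : Type u) [CommSemiring P] [Algebra R P] (y : P ⊗[R] Y) :
    (rs (R := R) G).toFun' P y =
      kap (R := R) (Q := Q) P Z (G.toFun' (Q ⊗[R] P) ((kap (R := R) (Q := Q) P Y).symm y)) := rfl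

/-- naturality of `kap` in the module -/
theorem kap_lTensor {Z' : Type u} [AddCommGroup Z'] [Module R Z'] [Module Q Z'] [IsScalarTower R Q Z']
    (w : Z →ₗ[Q] Z') (P : Type u) [CommSemiring P] [Algebra R P] (v : (Q ⊗[R] P) ⊗[Q] Z) :
    (w.restrictScalars R).lTensor P (kap (R := R) (Q := Q) P Z v) =
      kap (R := R) (Q := Q) P Z' (w.lTensor (Q ⊗[R] P) v) := by
  induction v using TensorProduct.induction_on with
  | zero => simp
  | tmul x z =>
    induction x using TensorProduct.induction_on with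
    | zero => simp
    | tmul q p =>
      rw [kap_tmul, LinearMap.lTensor_tmul, LinearMap.lTensor_tmul, kap_tmul,
        LinearMap.restrictScalars_apply, map_smul]
    | add x x' hx hx' =>
      rw [TensorProduct.add_tmul, map_add, map_add, hx, hx', map_add, map_add]
  | add v v' hv hv' => rw [map_add, map_add, hv, hv', map_add, map_add]

theorem postcomp_rs {Z' : Type u} [AddCommGroup Z'] [Module R Z'] [Module Q Z']
    [IsScalarTower R Q Z'] (w : Z →ₗ[Q] Z') (G : Y →ₚₗ[Q] Z) :
    PolLaw.postcomp (w.restrictScalars R) (rs (R := R) G) = rs (R := R) (PolLaw.postcomp w G) := by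
  ext P _ _ y
  show (w.restrictScalars R).lTensor P ((rs (R := R) G).toFun' P y) = _
  rw [rs_toFun', kap_lTensor]
  rfl

end rs

section can

variable (P : Type u) [CommSemiring P] [Algebra R P] [Algebra Q P] [IsScalarTower R Q P]
  (Z : Type u) [AddCommGroup Z] [Module R Z] [Module Q Z] [IsScalarTower R Q Z]

/-- `P ⊗[R] Z → P ⊗[Q] Z` -/
noncomputable def can : P ⊗[R] Z →ₗ[P] P ⊗[Q] Z := TensorProduct.mapOfCompatibleSMul Q R P P Z

theorem can_tmul (p : P) (z : Z) : can (R := R) (Q := Q) P Z (p ⊗ₜ[R] z) = p ⊗ₜ[Q] z := rfl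

/-- the multiplication map `Q ⊗ P → P` -/
noncomputable def pi : Q ⊗[R] P →ₐ[Q] P :=
  Algebra.TensorProduct.lift (Algebra.ofId Q P) (AlgHom.id R P) (fun _ _ => Commute.all _ _)

theorem pi_tmul (q : Q) (p : P) : pi (R := R) (Q := Q) P (q ⊗ₜ[R] p) = q • p := by
  unfold pi
  rw [Algebra.TensorProduct.lift_tmul, Algebra.ofId_apply, AlgHom.id_apply, Algebra.smul_def]

theorem can_kap (v : (Q ⊗[R] P) ⊗[Q] Z) :
    can (R := R) (Q := Q) P Z (kap (R := R) (Q := Q) P Z v) =
      (pi (R := R) (Q := Q) P).toLinearMap.rTensor Z v := by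
  induction v using TensorProduct.induction_on with
  | zero => simp
  | tmul w z =>
    induction w using TensorProduct.induction_on with
    | zero => simp
    | tmul q p =>
      rw [kap_tmul, can_tmul, LinearMap.rTensor_tmul, AlgHom.toLinearMap_apply, pi_tmul,
        TensorProduct.smul_tmul]
    | add w w' hw hw' =>
      rw [TensorProduct.add_tmul, map_add, map_add, hw, hw', map_add]
  | add v v' hv hv' => rw [map_add, map_add, hv, hv', map_add]

theorem pi_kap_symm (y : P ⊗[R] Z) :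
    (pi (R := R) (Q := Q) P).toLinearMap.rTensor Z ((kap (R := R) (Q := Q) P Z).symm y) =
      can (R := R) (Q := Q) P Z y := by
  rw [← can_kap, LinearEquiv.apply_symm_apply]

variable {Z}
variable {Y : Type u} [AddCommGroup Y] [Module R Y] [Module Q Y] [IsScalarTower R Q Y]

/-- over a `Q`-algebra the restricted law is the original law -/
theorem rs_can (G : Y →ₚₗ[Q] Z) (y : P ⊗[R] Y) :
    can (R := R) (Q := Q) P Z ((rs (R := R) G).toFun' P y) =
      G.toFun' P (can (R := R) (Q := Q) P Y y) := by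
  rw [rs_toFun', can_kap, PolynomialLaw.isCompat_apply' (f := G), pi_kap_symm]

end can

end Groth.Agent.Lib.Helper15.NormicBC1
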