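import Mathlib
import Groth.Agent.Lib.Helper15.NormicBC1

set_option autoImplicit false
universe u
open scoped TensorProduct

namespace Groth.Agent.Lib.Helper15.NormicBC2

open Groth.Agent.Lib.Helper15.NormicBC1

variable {R : Type u} [CommRing R] (Q : Type u) [CommRing Q] [Algebra R Q]
  {X : Type u} [AddCommGroup X] [Module R X]
  {E : Type u} [AddCommGroup E] [Module R E] [Module Q E] [IsScalarTower R Q E]

section onP

variable (P : Type u) [CommSemiring P] [Algebra Q P] [Algebra R P] [IsScalarTower R Q P]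

variable (X) in
/-- `P ⊗[Q] (Q ⊗[R] X) ≃ P ⊗[R] X` -/
noncomputable abbrev cb : P ⊗[Q] (Q ⊗[R] X) ≃ₗ[P] P ⊗[R] X :=
  TensorProduct.AlgebraTensorModule.cancelBaseChange R Q P P X

theorem cb_tmul (p : P) (q : Q) (x : X) :
    cb (R := R) Q X P (p ⊗ₜ[Q] (q ⊗ₜ[R] x)) = (q • p) ⊗ₜ[R] x := rfl

theorem cb_symm_tmul (p : P) (x : X) :
    (cb (R := R) Q X P).symm (p ⊗ₜ[R] x) = p ⊗ₜ[Q] ((1 : Q) ⊗ₜ[R] x) := rfl

/-- the member of the base-changed law over `P` -/
noncomputable def bcFun (F : X →ₚₗ[R] E) (z : P ⊗[Q] (Q ⊗[R] X)) : P ⊗[Q] E :=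
  can (R := R) (Q := Q) P E (F.toFun' P (cb (R := R) Q X P z))

end onP

section compat

variable {P P' : Type u} [CommSemiring P] [Algebra Q P] [Algebra R P] [IsScalarTower R Q P]
  [CommSemiring P'] [Algebra Q P'] [Algebra R P'] [IsScalarTower R Q P']

theorem bcFun_compat (F : X →ₚₗ[R] E) (φ : P →ₐ[Q] P') (φR : P →ₐ[R] P') (hφ : ∀ s, φR s = φ s)
    (z : P ⊗[Q] (Q ⊗[R] X)) :
    φ.toLinearMap.rTensor E (bcFun Q P F z) =
      bcFun Q P' F (φ.toLinearMap.rTensor (Q ⊗[R] X) z) := by
  unfold bcFun
  have ha : cb (R := R) Q X P' (φ.toLinearMap.rTensor (Q ⊗[R] X) z) =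
      φR.toLinearMap.rTensor X (cb (R := R) Q X P z) := by
    induction z using TensorProduct.induction_on with
    | zero => simp
    | tmul s y =>
      induction y using TensorProduct.induction_on with
      | zero => simp
      | tmul q x =>
        rw [LinearMap.rTensor_tmul, cb_tmul, cb_tmul, LinearMap.rTensor_tmul,
          AlgHom.toLinearMap_apply, AlgHom.toLinearMap_apply, hφ, map_smul]
      | add y y' hy hy' =>
        rw [TensorProduct.tmul_add, map_add, map_add, hy, hy', map_add, map_add]
    | add z z' hz hz' => rw [map_add, map_add, hz, hz', map_add, map_add]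
  have hc : ∀ v : P ⊗[R] E, can (R := R) (Q := Q) P' E (φR.toLinearMap.rTensor E v) =
      φ.toLinearMap.rTensor E (can (R := R) (Q := Q) P E v) := by
    intro v
    induction v using TensorProduct.induction_on with
    | zero => simp
    | tmul s c =>
      rw [LinearMap.rTensor_tmul, can_tmul, can_tmul, LinearMap.rTensor_tmul,
        AlgHom.toLinearMap_apply, AlgHom.toLinearMap_apply, ← hφ]
    | add v v' hv hv' => rw [map_add, map_add, hv, hv', map_add, map_add]
  rw [ha, ← PolynomialLaw.isCompat_apply' (f := F), hc]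

end compat

/-- **the base change of a polynomial law `X → E` (with `E` a `Q`-module) to `Q`** -/
noncomputable def bcPLaw (F : X →ₚₗ[R] E) : (Q ⊗[R] X) →ₚₗ[Q] E where
  toFun' P _ _ :=
    letI : Algebra R P := Algebra.compHom P (algebraMap R Q)
    haveI : IsScalarTower R Q P := IsScalarTower.of_algebraMap_eq (fun _ => rfl)
    bcFun Q P F
  isCompat' {P} _ _ {P'} _ _ φ := by
    letI : Algebra R P := Algebra.compHom P (algebraMap R Q)
    haveI : IsScalarTower R Q P := IsScalarTower.of_algebraMap_eq (fun _ => rfl)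
    letI : Algebra R P' := Algebra.compHom P' (algebraMap R Q)
    haveI : IsScalarTower R Q P' := IsScalarTower.of_algebraMap_eq (fun _ => rfl)
    funext z
    exact bcFun_compat Q F φ
      { φ.toRingHom with commutes' := fun a => φ.commutes (algebraMap R Q a) } (fun _ => rfl) z

/-- the members of the base-changed law, for any compatible `R`-algebra structure -/
theorem bcPLaw_toFun' (F : X →ₚₗ[R] E) (P : Type u) [CommSemiring P] [Algebra Q P]
    [instR : Algebra R P] [IsScalarTower R Q P] (z : P ⊗[Q] (Q ⊗[R] X)) :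
    (bcPLaw Q F).toFun' P z = bcFun Q P F z := by
  have e : instR = Algebra.compHom P (algebraMap R Q) :=
    Algebra.algebra_ext _ _ (fun a => IsScalarTower.algebraMap_apply R Q P a)
  subst e
  rfl

end Groth.Agent.Lib.Helper15.NormicBC2
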