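import Mathlib
import Groth.Agent.Lib.Helper15.NormicBC2
import Groth.Agent.Lib.Helper15.NormBC
import Groth.Agent.Lib.Helper15.LawLocal

set_option autoImplicit false
universe u
open scoped TensorProduct

namespace Groth.Agent.Lib.Helper15.NormicBC3

open Groth.Agent.Lib.Helper15.NormicBC1 Groth.Agent.Lib.Helper15.NormicBC2
open Groth.Agent.Lib.Helper15

section general

variable {R : Type u} [CommRing R] {Q : Type u} [CommRing Q] [Algebra R Q]
  {X : Type u} [AddCommGroup X] [Module R X]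
  {Y : Type u} [AddCommGroup Y] [Module R Y] [Module Q Y] [IsScalarTower R Q Y]

theorem bcAlong_eq_can (g : X →ₗ[R] Y) (P : Type u) [CommRing P] [Algebra R P] [Algebra Q P]
    [IsScalarTower R Q P] (x : P ⊗[R] X) :
    PolLaw.bcAlong g P x = can (R := R) (Q := Q) P Y (g.lTensor P x) := by
  induction x using TensorProduct.induction_on with
  | zero => simp
  | tmul p x => rw [NormBC.bcAlong_tmul, LinearMap.lTensor_tmul, can_tmul]
  | add x x' hx hx' => rw [map_add, map_add, map_add, hx, hx']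

end general

section norm

variable {R : Type u} [CommRing R] (R' : Type u) [CommRing R'] [Algebra R R']
  [Module.Free R R'] [Module.Finite R R']

theorem norm_map {P P' : Type u} [CommRing P] [Algebra R P] [CommRing P'] [Algebra R P']
    (φ : P →ₐ[R] P') (x : P ⊗[R] R') :
    Algebra.norm P' (Algebra.TensorProduct.map φ (AlgHom.id R R') x) = φ (Algebra.norm P x) := by
  rw [← PolLaw.detAct_self, ← PolLaw.detAct_self, PolLaw.detAct_map]

variable {R'}
variable {M' : Type u} [AddCommGroup M'] [Module R M'] [Module R' M'] [IsScalarTower R R' M']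
  {N E : Type u} [AddCommGroup N] [Module R N] [AddCommGroup E] [Module R E]

omit [Module.Free R R'] [Module.Finite R R'] in
theorem postcomp_toFun' (g : N →ₗ[R] E) (ν : M' →ₚₗ[R] N) (P : Type u) [CommSemiring P] [Algebra R P]
    (m : P ⊗[R] M') : (PolLaw.postcomp g ν).toFun' P m = g.lTensor P (ν.toFun' P m) := by
  unfold PolLaw.postcomp
  rw [PolynomialLaw.comp_toFun']
  rfl

omit [Module.Free R R'] [Module.Finite R R'] in
theorem precomp_toFun' {X : Type u} [AddCommGroup X] [Module R X] (ν : M' →ₚₗ[R] N) (g : X →ₗ[R] M')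
    (P : Type u) [CommSemiring P] [Algebra R P]
    (m : P ⊗[R] X) : (PolLaw.precomp ν g).toFun' P m = ν.toFun' P (g.lTensor P m) := by
  unfold PolLaw.precomp
  rw [PolynomialLaw.comp_toFun']
  rfl

omit [Module.Free R R'] [Module.Finite R R'] in
theorem isNormic_postcomp (g : N →ₗ[R] E) (ν : M' →ₚₗ[R] N) (hν : PolLaw.IsNormic R' ν) :
    PolLaw.IsNormic R' (PolLaw.postcomp g ν) := by
  intro P _ _ x m
  rw [postcomp_toFun', postcomp_toFun', hν P x m]
  exact map_smul (g.baseChange P) _ _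

end norm

section stepA

variable {R R' Q Q' : Type u} [CommRing R] [CommRing R'] [Algebra R R']
    [CommRing Q] [Algebra R Q] [CommRing Q'] [Algebra R Q'] [Algebra Q Q'] [Algebra R' Q']
    [IsScalarTower R Q Q'] [IsScalarTower R R' Q'] [Algebra.IsPushout R R' Q Q']
    {M' : Type u} [AddCommGroup M'] [Module R M'] [Module R' M'] [IsScalarTower R R' M']
    {M'' : Type u} [AddCommGroup M''] [Module R M''] [Module R' M''] [Module Q M''] [Module Q' M'']
    [IsScalarTower R R' M''] [IsScalarTower R Q M''] [IsScalarTower R' Q' M''] [IsScalarTower Q Q' M'']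

variable (P : Type u) [CommRing P] [Algebra R P]

/-- `p ⊗ m ↦ (1 ⊗ p) ⊗ f m` -/
noncomputable def hP (f : M' →ₗ[R'] M'') (m : P ⊗[R] M') : (Q ⊗[R] P) ⊗[Q] M'' :=
  (kap (R := R) (Q := Q) P M'').symm ((f.restrictScalars R).lTensor P m)

omit [Algebra R Q'] [Algebra Q Q'] [Algebra R' Q'] [IsScalarTower R Q Q'] [IsScalarTower R R' Q']
  [Algebra.IsPushout R R' Q Q'] [Module Q' M''] [IsScalarTower R' Q' M''] [IsScalarTower Q Q' M''] in
theorem hP_tmul (f : M' →ₗ[R'] M'') (p : P) (m : M') :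
    hP (Q := Q) P f (p ⊗ₜ[R] m) = ((1 : Q) ⊗ₜ[R] p) ⊗ₜ[Q] f m := rfl

omit [Algebra R Q'] [Algebra Q Q'] [Algebra R' Q'] [IsScalarTower R Q Q'] [IsScalarTower R R' Q']
  [Algebra.IsPushout R R' Q Q'] [Module Q' M''] [IsScalarTower R' Q' M''] [IsScalarTower Q Q' M''] in
theorem hP_add (f : M' →ₗ[R'] M'') (m m' : P ⊗[R] M') :
    hP (Q := Q) P f (m + m') = hP (Q := Q) P f m + hP (Q := Q) P f m' := by
  unfold hP
  rw [map_add, map_add]

/-- `p ⊗ r' ↦ (1 ⊗ p) ⊗ r'` -/
noncomputable def cP (x : P ⊗[R] R') : (Q ⊗[R] P) ⊗[Q] Q' :=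
  NormBC.cmp (R := R) (Q := Q) (Q' := Q') (Q ⊗[R] P)
    (Algebra.TensorProduct.map (Algebra.TensorProduct.includeRight : P →ₐ[R] Q ⊗[R] P)
      (AlgHom.id R R') x)

theorem cP_tmul (p : P) (r : R') :
    cP (Q := Q) (Q' := Q') P (p ⊗ₜ[R] r) = ((1 : Q) ⊗ₜ[R] p) ⊗ₜ[Q] algebraMap R' Q' r := by
  unfold cP
  rw [Algebra.TensorProduct.map_tmul, NormBC.cmp_tmul]
  rfl

theorem cP_add (x y : P ⊗[R] R') :
    cP (Q := Q) (Q' := Q') P (x + y) = cP (Q := Q) (Q' := Q') P x + cP (Q := Q) (Q' := Q') P y := by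
  unfold cP
  rw [map_add, map_add]

theorem cP_zero : cP (Q := Q) (Q' := Q') P (0 : P ⊗[R] R') = 0 := by
  unfold cP
  rw [map_zero, map_zero]

theorem hP_actEnd (f : M' →ₗ[R'] M'') (x : P ⊗[R] R') (m : P ⊗[R] M') :
    hP (Q := Q) P f (PolLaw.actEnd M' P x m) =
      PolLaw.actEnd (A := Q) (B := Q') M'' (Q ⊗[R] P) (cP (Q := Q) (Q' := Q') P x)
        (hP (Q := Q) P f m) := by
  induction x using TensorProduct.induction_on with
  | zero =>
    rw [cP_zero, map_zero, map_zero, LinearMap.zero_apply, LinearMap.zero_apply]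
    rfl
  | tmul p r =>
    induction m using TensorProduct.induction_on with
    | zero =>
      rw [map_zero]
      show hP (Q := Q) P f 0 = _
      unfold hP
      rw [map_zero, map_zero, map_zero]
    | tmul p' m' =>
      rw [PolLaw.actEnd_tmul_tmul, hP_tmul, cP_tmul, hP_tmul, PolLaw.actEnd_tmul_tmul,
        Algebra.TensorProduct.tmul_mul_tmul, one_mul, map_smul, algebraMap_smul]
    | add m m' hm hm' =>
      rw [map_add, hP_add, hm, hm', hP_add, map_add]
  | add x y hx hy =>
    rw [map_add, LinearMap.add_apply, hP_add, hx, hy, cP_add, map_add, LinearMap.add_apply]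

variable [Module.Free R R'] [Module.Finite R R']

theorem norm_cP (x : P ⊗[R] R') :
    Algebra.norm (Q ⊗[R] P) (cP (Q := Q) (Q' := Q') P x) =
      (Algebra.TensorProduct.includeRight : P →ₐ[R] Q ⊗[R] P) (Algebra.norm P x) := by
  unfold cP
  rw [Algebra.norm_eq_of_algEquiv, norm_map]

omit [Module.Free R R'] [Module.Finite R R'] [CommRing R'] [Algebra R R'] [CommRing Q'] [Algebra R Q']
  [Algebra Q Q'] [Algebra R' Q'] [IsScalarTower R Q Q'] [IsScalarTower R R' Q']
  [Algebra.IsPushout R R' Q Q'] in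
theorem kap_smul {Z : Type u} [AddCommGroup Z] [Module R Z] [Module Q Z] [IsScalarTower R Q Z]
    (a : P) (v : (Q ⊗[R] P) ⊗[Q] Z) :
    kap (R := R) (Q := Q) P Z
        (((Algebra.TensorProduct.includeRight : P →ₐ[R] Q ⊗[R] P) a) • v) =
      a • kap (R := R) (Q := Q) P Z v := by
  induction v using TensorProduct.induction_on with
  | zero => rw [smul_zero, map_zero, smul_zero]
  | tmul w z =>
    induction w using TensorProduct.induction_on with
    | zero => rw [TensorProduct.zero_tmul, smul_zero, map_zero, smul_zero]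
    | tmul q p =>
      rw [TensorProduct.smul_tmul', smul_eq_mul, Algebra.TensorProduct.includeRight_apply,
        Algebra.TensorProduct.tmul_mul_tmul, one_mul, kap_tmul, kap_tmul, TensorProduct.smul_tmul',
        smul_eq_mul]
    | add w w' hw hw' =>
      rw [TensorProduct.add_tmul, smul_add, map_add, hw, hw', map_add, smul_add]
  | add v v' hv hv' => rw [smul_add, map_add, hv, hv', map_add, smul_add]

theorem isNormic_mu (f : M' →ₗ[R'] M'')
    {N'' : Type u} [AddCommGroup N''] [Module R N''] [Module Q N''] [IsScalarTower R Q N'']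
    (ν'' : M'' →ₚₗ[Q] N'') (hν'' : PolLaw.IsNormic Q' ν'') :
    PolLaw.IsNormic R' (PolLaw.precomp (rs (R := R) ν'') (f.restrictScalars R)) := by
  intro P _ _ x m
  rw [precomp_toFun', precomp_toFun', rs_toFun', rs_toFun']
  have h1 := hP_actEnd (Q := Q) (Q' := Q') P f x m
  unfold hP at h1
  rw [h1, hν'' (Q ⊗[R] P) _ _, norm_cP, kap_smul]

end stepA

section stepB

variable {R Q : Type u} [CommRing R] [CommRing Q] [Algebra R Q]
    {M' : Type u} [AddCommGroup M'] [Module R M']
    {M'' : Type u} [AddCommGroup M''] [Module R M''] [Module Q M''] [IsScalarTower R Q M'']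
    {N : Type u} [AddCommGroup N] [Module R N]
    {N'' : Type u} [AddCommGroup N''] [Module R N''] [Module Q N''] [IsScalarTower R Q N'']

theorem compat (g : M' →ₗ[R] M'') (ν : M' →ₚₗ[R] N) (ν'' : M'' →ₚₗ[Q] N'') (u : N →ₗ[R] N'')
    (hu : PolLaw.postcomp u ν = PolLaw.precomp (rs (R := R) ν'') g)
    (P : Type u) [CommRing P] [Algebra R P] [Algebra Q P] [IsScalarTower R Q P] (m : P ⊗[R] M') :
    ν''.toFun' P (PolLaw.bcAlong g P m) = PolLaw.bcAlong u P (ν.toFun' P m) := by
  rw [bcAlong_eq_can, bcAlong_eq_can, ← rs_can, ← precomp_toFun', ← hu, postcomp_toFun']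

end stepB

section stepC

variable {R R' Q Q' : Type u} [CommRing R] [CommRing R'] [Algebra R R']
    [CommRing Q] [Algebra R Q] [CommRing Q'] [Algebra R Q'] [Algebra Q Q'] [Algebra R' Q']
    [IsScalarTower R Q Q'] [IsScalarTower R R' Q'] [Algebra.IsPushout R R' Q Q']
    {M' : Type u} [AddCommGroup M'] [Module R M'] [Module R' M'] [IsScalarTower R R' M']
    {M'' : Type u} [AddCommGroup M''] [Module R M''] [Module R' M''] [Module Q M''] [Module Q' M'']
    [IsScalarTower R R' M''] [IsScalarTower R Q M''] [IsScalarTower R' Q' M''] [IsScalarTower Q Q' M'']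

/-- `Q ⊗[R] M' ≃ M''` -/
noncomputable def theta (f : M' →ₗ[R'] M'') (hf : IsBaseChange Q' f) : Q ⊗[R] M' ≃ₗ[Q] M'' :=
  haveI : Algebra.IsPushout R Q R' Q' := Algebra.IsPushout.symm inferInstance
  (Algebra.IsPushout.cancelBaseChange R Q R' Q' M').symm.trans (hf.equiv.restrictScalars Q)

theorem theta_tmul (f : M' →ₗ[R'] M'') (hf : IsBaseChange Q' f) (q : Q) (m : M') :
    theta (R := R) (Q := Q) f hf (q ⊗ₜ[R] m) = q • f m := by
  haveI : Algebra.IsPushout R Q R' Q' := Algebra.IsPushout.symm inferInstance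
  unfold theta
  rw [LinearEquiv.trans_apply, Algebra.IsPushout.cancelBaseChange_symm_tmul]
  show hf.equiv (algebraMap Q Q' q ⊗ₜ[R'] m) = _
  rw [IsBaseChange.equiv_tmul, algebraMap_smul]

theorem theta_symm_apply (f : M' →ₗ[R'] M'') (hf : IsBaseChange Q' f) (m : M') :
    (theta (R := R) (Q := Q) f hf).symm (f m) = (1 : Q) ⊗ₜ[R] m := by
  rw [LinearEquiv.symm_apply_eq, theta_tmul, one_smul]

variable (P : Type u) [CommRing P] [Algebra R P] [Algebra Q P] [IsScalarTower R Q P]

/-- `P ⊗[Q] M'' ≃ P ⊗[R] M'` -/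
noncomputable def bPe (f : M' →ₗ[R'] M'') (hf : IsBaseChange Q' f) : P ⊗[Q] M'' ≃ₗ[Q] P ⊗[R] M' :=
  (LinearEquiv.lTensor P (theta (R := R) (Q := Q) f hf).symm).trans
    ((cb (R := R) Q M' P).restrictScalars Q)

theorem bPe_tmul (f : M' →ₗ[R'] M'') (hf : IsBaseChange Q' f) (p : P) (m : M') :
    bPe (R := R) (Q := Q) P f hf (p ⊗ₜ[Q] f m) = p ⊗ₜ[R] m := by
  unfold bPe
  rw [LinearEquiv.trans_apply]
  show cb (R := R) Q M' P (p ⊗ₜ[Q] ((theta (R := R) (Q := Q) f hf).symm (f m))) = _
  rw [theta_symm_apply, cb_tmul, one_smul]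

theorem bPe_aP (f : M' →ₗ[R'] M'') (hf : IsBaseChange Q' f) (m : P ⊗[R] M') :
    bPe (R := R) (Q := Q) P f hf (PolLaw.bcAlong (f.restrictScalars R) P m) = m := by
  induction m using TensorProduct.induction_on with
  | zero => rw [map_zero, map_zero]
  | tmul p m => rw [NormBC.bcAlong_tmul, LinearMap.restrictScalars_apply, bPe_tmul]
  | add m m' hm hm' => rw [map_add, map_add, hm, hm']

theorem aP_bPe (f : M' →ₗ[R'] M'') (hf : IsBaseChange Q' f) (y : P ⊗[Q] M'') :
    PolLaw.bcAlong (f.restrictScalars R) P (bPe (R := R) (Q := Q) P f hf y) = y := by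
  apply (bPe (R := R) (Q := Q) P f hf).injective
  rw [bPe_aP]

theorem aP_actEnd (f : M' →ₗ[R'] M'') (x : P ⊗[R] R') (m : P ⊗[R] M') :
    PolLaw.bcAlong (f.restrictScalars R) P (PolLaw.actEnd M' P x m) =
      PolLaw.actEnd (A := Q) (B := Q') M'' P (NormBC.cmp (R := R) (Q := Q) (Q' := Q') P x)
        (PolLaw.bcAlong (f.restrictScalars R) P m) := by
  induction x using TensorProduct.induction_on with
  | zero =>
    rw [map_zero, map_zero, map_zero, LinearMap.zero_apply, LinearMap.zero_apply, map_zero]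
  | tmul p r =>
    induction m using TensorProduct.induction_on with
    | zero => rw [map_zero, map_zero, map_zero]
    | tmul p' m' =>
      rw [PolLaw.actEnd_tmul_tmul, NormBC.bcAlong_tmul, NormBC.cmp_tmul, NormBC.bcAlong_tmul,
        PolLaw.actEnd_tmul_tmul, LinearMap.restrictScalars_apply, LinearMap.restrictScalars_apply,
        map_smul, algebraMap_smul]
    | add m m' hm hm' =>
      rw [map_add, map_add, hm, hm', map_add, map_add]
  | add x y hx hy =>
    rw [map_add, LinearMap.add_apply, map_add, hx, hy, map_add, map_add, LinearMap.add_apply]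

variable {N : Type u} [AddCommGroup N] [Module R N]

variable (Q) in
/-- `n ↦ 1 ⊗ n` -/
noncomputable def iota : N →ₗ[R] Q ⊗[R] N := TensorProduct.mk R Q N 1

omit [Algebra R P] [Algebra Q P] [IsScalarTower R Q P] [CommRing P] in
theorem iota_apply (n : N) : iota (R := R) Q n = (1 : Q) ⊗ₜ[R] n := rfl

/-- the law `M'' → Q ⊗ N` over `Q` -/
noncomputable def lam (f : M' →ₗ[R'] M'') (hf : IsBaseChange Q' f) (ν : M' →ₚₗ[R] N) :
    M'' →ₚₗ[Q] (Q ⊗[R] N) :=
  PolLaw.precomp (bcPLaw Q (PolLaw.postcomp (iota (R := R) Q) ν))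
    (theta (R := R) (Q := Q) f hf).symm.toLinearMap

theorem lam_apply (f : M' →ₗ[R'] M'') (hf : IsBaseChange Q' f) (ν : M' →ₚₗ[R] N)
    (y : P ⊗[Q] M'') :
    (lam (R := R) (Q := Q) f hf ν).toFun' P y =
      can (R := R) (Q := Q) P (Q ⊗[R] N)
        ((iota (R := R) Q).lTensor P (ν.toFun' P (bPe (R := R) (Q := Q) P f hf y))) := by
  unfold lam
  rw [precomp_toFun', bcPLaw_toFun']
  unfold bcFun
  rw [postcomp_toFun']
  rfl

theorem isNormic_lam (f : M' →ₗ[R'] M'') (hf : IsBaseChange Q' f) (ν : M' →ₚₗ[R] N)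
    (hν : PolLaw.IsNormic R' ν) :
    PolLaw.IsNormic Q' (lam (R := R) (Q := Q) f hf ν) := by
  intro P _ _ x y
  letI : Algebra R P := Algebra.compHom P (algebraMap R Q)
  haveI : IsScalarTower R Q P := IsScalarTower.of_algebraMap_eq (fun _ => rfl)
  obtain ⟨x₀, rfl⟩ := (NormBC.cmp (R := R) (R' := R') (Q := Q) (Q' := Q') P).surjective x
  obtain ⟨m, rfl⟩ : ∃ m, y = PolLaw.bcAlong (f.restrictScalars R) P m :=
    ⟨bPe (R := R) (Q := Q) P f hf y, (aP_bPe P f hf y).symm⟩
  rw [← aP_actEnd, lam_apply, lam_apply, bPe_aP, bPe_aP, hν P x₀ m, Algebra.norm_eq_of_algEquiv,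
    ← LinearMap.baseChange_eq_ltensor, map_smul, map_smul]

end stepC

section final

variable {R R' Q Q' : Type u} [CommRing R] [CommRing R'] [Algebra R R']
    [CommRing Q] [Algebra R Q] [CommRing Q'] [Algebra R Q'] [Algebra Q Q'] [Algebra R' Q']
    [IsScalarTower R Q Q'] [IsScalarTower R R' Q'] [Algebra.IsPushout R R' Q Q']
    {M' : Type u} [AddCommGroup M'] [Module R M'] [Module R' M'] [IsScalarTower R R' M']
    {M'' : Type u} [AddCommGroup M''] [Module R M''] [Module R' M''] [Module Q M''] [Module Q' M'']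
    [IsScalarTower R R' M''] [IsScalarTower R Q M''] [IsScalarTower R' Q' M''] [IsScalarTower Q Q' M'']
    {N : Type u} [AddCommGroup N] [Module R N]
    {N'' : Type u} [AddCommGroup N''] [Module R N''] [Module Q N''] [IsScalarTower R Q N'']

omit [CommRing R'] [Algebra R R'] [CommRing Q'] [Algebra R Q'] [Algebra Q Q'] [Algebra R' Q']
  [IsScalarTower R Q Q'] [IsScalarTower R R' Q'] [Algebra.IsPushout R R' Q Q'] in
theorem ubar_can_iota (u : N →ₗ[R] N'') (P : Type u) [CommRing P] [Algebra R P] [Algebra Q P]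
    [IsScalarTower R Q P] (v : P ⊗[R] N) :
    (u.liftBaseChange Q).lTensor P
        (can (R := R) (Q := Q) P (Q ⊗[R] N) ((iota (R := R) Q).lTensor P v)) =
      PolLaw.bcAlong u P v := by
  induction v using TensorProduct.induction_on with
  | zero => rw [map_zero, map_zero, map_zero, map_zero]
  | tmul p n =>
    rw [LinearMap.lTensor_tmul, can_tmul, LinearMap.lTensor_tmul, iota_apply,
      LinearMap.liftBaseChange_tmul, one_smul, NormBC.bcAlong_tmul]
  | add v v' hv hv' => rw [map_add, map_add, map_add, hv, hv', map_add]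

theorem bPe_hP (f : M' →ₗ[R'] M'') (hf : IsBaseChange Q' f) (P : Type u) [CommRing P] [Algebra R P]
    (m : P ⊗[R] M') :
    bPe (R := R) (Q := Q) (Q ⊗[R] P) f hf (hP (Q := Q) P f m) =
      (Algebra.TensorProduct.includeRight : P →ₐ[R] Q ⊗[R] P).toLinearMap.rTensor M' m := by
  induction m using TensorProduct.induction_on with
  | zero =>
    unfold hP
    rw [map_zero, map_zero, map_zero, map_zero]
  | tmul p m' =>
    rw [hP_tmul, bPe_tmul, LinearMap.rTensor_tmul]
    rfl
  | add m m' hm hm' => rw [hP_add, map_add, hm, hm', map_add]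

omit [CommRing R'] [Algebra R R'] [CommRing Q'] [Algebra R Q'] [Algebra Q Q'] [Algebra R' Q']
  [IsScalarTower R Q Q'] [IsScalarTower R R' Q'] [Algebra.IsPushout R R' Q Q'] in
theorem kap_can_iota (P : Type u) [CommRing P] [Algebra R P] (v : P ⊗[R] N) :
    kap (R := R) (Q := Q) P (Q ⊗[R] N)
        (can (R := R) (Q := Q) (Q ⊗[R] P) (Q ⊗[R] N) ((iota (R := R) Q).lTensor (Q ⊗[R] P)
          ((Algebra.TensorProduct.includeRight : P →ₐ[R] Q ⊗[R] P).toLinearMap.rTensor N v))) =
      (iota (R := R) Q).lTensor P v := by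
  induction v using TensorProduct.induction_on with
  | zero => rw [map_zero, map_zero, map_zero, map_zero, map_zero]
  | tmul p n =>
    rw [LinearMap.rTensor_tmul, LinearMap.lTensor_tmul, can_tmul, AlgHom.toLinearMap_apply,
      Algebra.TensorProduct.includeRight_apply, kap_tmul, one_smul, LinearMap.lTensor_tmul]
  | add v v' hv hv' => rw [map_add, map_add, map_add, map_add, hv, hv', map_add]

variable [Module.Free R R'] [Module.Finite R R']

theorem main (f : M' →ₗ[R'] M'') (hf : IsBaseChange Q' f)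
    (ν : M' →ₚₗ[R] N) (hν : PolLaw.IsUnivNormic R' ν)
    (ν'' : M'' →ₚₗ[Q] N'') (hν'' : PolLaw.IsUnivNormic Q' ν'') :
    ∃ u : N →ₗ[R] N'',
      (∀ (P : Type u) [CommRing P] [Algebra R P] [Algebra Q P] [IsScalarTower R Q P]
          (m : P ⊗[R] M'),
          ν''.toFun' P (PolLaw.bcAlong (f.restrictScalars R) P m) =
            PolLaw.bcAlong u P (ν.toFun' P m)) ∧
      IsBaseChange Q u := by
  obtain ⟨u, hu, -⟩ := hν.2 N'' _ (isNormic_mu f ν'' hν''.1)
  have hB := compat (f.restrictScalars R) ν ν'' u hu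
  refine ⟨u, hB, ?_⟩
  obtain ⟨w, hw, -⟩ := hν''.2 (Q ⊗[R] N) _ (isNormic_lam (R := R) (Q := Q) f hf ν hν.1)
  -- D
  have hD : (u.liftBaseChange Q).comp w = LinearMap.id := by
    obtain ⟨φ, -, hφ⟩ := hν''.2 N'' ν'' hν''.1
    have h1 : PolLaw.postcomp ((u.liftBaseChange Q).comp w) ν'' = ν'' := by
      apply LawLocal.ext_of_ring
      intro P _ _ y
      letI : Algebra R P := Algebra.compHom P (algebraMap R Q)
      haveI : IsScalarTower R Q P := IsScalarTower.of_algebraMap_eq (fun _ => rfl)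
      rw [postcomp_toFun', LinearMap.lTensor_comp, LinearMap.comp_apply, ← postcomp_toFun' w, hw,
        lam_apply]
      obtain ⟨m, rfl⟩ : ∃ m, y = PolLaw.bcAlong (f.restrictScalars R) P m :=
        ⟨bPe (R := R) (Q := Q) P f hf y, (aP_bPe P f hf y).symm⟩
      rw [bPe_aP, hB P m, ubar_can_iota]
    have h2 : PolLaw.postcomp (LinearMap.id : N'' →ₗ[Q] N'') ν'' = ν'' := by
      ext P _ _ y
      rw [postcomp_toFun', LinearMap.lTensor_id, LinearMap.id_apply]
    rw [hφ _ h1, hφ _ h2]
  -- E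
  have hE : (w.restrictScalars R).comp u = iota (R := R) Q := by
    obtain ⟨φ, -, hφ⟩ := hν.2 (Q ⊗[R] N) _ (isNormic_postcomp (iota (R := R) Q) ν hν.1)
    have h1 : PolLaw.postcomp ((w.restrictScalars R).comp u) ν =
        PolLaw.postcomp (iota (R := R) Q) ν := by
      apply LawLocal.ext_of_ring
      intro P _ _ m
      rw [postcomp_toFun', postcomp_toFun', LinearMap.lTensor_comp, LinearMap.comp_apply,
        ← postcomp_toFun' u, hu, precomp_toFun', ← postcomp_toFun' (w.restrictScalars R),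
        postcomp_rs, hw, rs_toFun']
      have h3 := bPe_hP (Q := Q) f hf P m
      unfold hP at h3
      rw [lam_apply, h3, ← PolynomialLaw.isCompat_apply' (f := ν), kap_can_iota]
    rw [hφ _ h1, hφ _ rfl]
  have hE' : w.comp (u.liftBaseChange Q) = LinearMap.id := by
    apply TensorProduct.AlgebraTensorModule.ext
    intro q n
    rw [LinearMap.comp_apply, LinearMap.liftBaseChange_tmul, map_smul, LinearMap.id_apply]
    have := LinearMap.congr_fun hE n
    rw [LinearMap.comp_apply, LinearMap.restrictScalars_apply, iota_apply] at this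
    rw [this, TensorProduct.smul_tmul', smul_eq_mul, mul_one]
  exact IsBaseChange.of_equiv (LinearEquiv.ofLinear (u.liftBaseChange Q) w hD hE') (fun x => by
    rw [LinearEquiv.ofLinear_apply, LinearMap.liftBaseChange_tmul, one_smul])

end final

end Groth.Agent.Lib.Helper15.NormicBC3
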