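import Mathlib

/-!
# Derivations of an Ore extension `O[∂]` into `End_K(E)` (helper15)
-/

set_option autoImplicit false
set_option linter.style.haveILetI false
universe u v w x

namespace Groth.Agent.Lib.Helper15.OreDer

variable {K : Type u} [Field K]
  {O : Type v} [CommRing O] [Algebra K O] (δ : Derivation K O O)
  {D : Type w} [Ring D] [Algebra K D] (ι : O →ₐ[K] D) (d : D)
  {E : Type x} [AddCommGroup E] [Module K E] (ρ : D →ₐ[K] Module.End K E)

/-- the basis map as a linear map -/
noncomputable def F : (ℕ →₀ O) →ₗ[K] D :=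
  Finsupp.lsum K fun i => (LinearMap.mulRight K (d ^ i)).comp ι.toLinearMap

lemma F_apply (c : ℕ →₀ O) : F ι d c = c.sum (fun i f => ι f * d ^ i) := rfl

lemma F_single (i : ℕ) (f : O) : F ι d (Finsupp.single i f) = ι f * d ^ i := by
  rw [F, Finsupp.lsum_single]
  rfl

/-- an induction principle for `D` -/
lemma induction_D (hbasis : Function.Bijective (fun c : ℕ →₀ O => c.sum (fun i f => ι f * d ^ i)))
    {p : D → Prop} (h0 : p 0) (hadd : ∀ a b, p a → p b → p (a + b))
    (hsingle : ∀ (i : ℕ) (f : O), p (ι f * d ^ i)) (P : D) : p P := by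
  obtain ⟨c, rfl⟩ := hbasis.2 P
  show p (F ι d c)
  induction c using Finsupp.induction_linear with
  | zero => rw [map_zero]; exact h0
  | add a b ha hb => rw [map_add]; exact hadd _ _ ha hb
  | single i f => rw [F_single]; exact hsingle i f

section existence

variable (r : O →ₗ[K] Module.End K E) (v : Module.End K E)

/-- the value of the derivation on `d ^ j` -/
noncomputable def V : ℕ → Module.End K E
  | 0 => 0
  | (j + 1) => v * ρ d ^ j + ρ d * V j

/-- the candidate derivation on coefficients -/
noncomputable def G : (ℕ →₀ O) →ₗ[K] Module.End K E :=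
  Finsupp.lsum K fun i => (LinearMap.mulRight K (ρ d ^ i)).comp r +
    (LinearMap.mulRight K (V d ρ v i)).comp (ρ.toLinearMap.comp ι.toLinearMap)

lemma G_single (i : ℕ) (f : O) :
    G ι d ρ r v (Finsupp.single i f) = r f * ρ d ^ i + ρ (ι f) * V d ρ v i := by
  rw [G, Finsupp.lsum_single]
  rfl

variable (hbasis : Function.Bijective (fun c : ℕ →₀ O => c.sum (fun i f => ι f * d ^ i)))

/-- the basis as a linear equivalence -/
noncomputable def e : (ℕ →₀ O) ≃ₗ[K] D :=
  LinearEquiv.ofBijective (F ι d) hbasis

/-- the derivation -/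
noncomputable def s : D →ₗ[K] Module.End K E :=
  (G ι d ρ r v).comp (e ι d hbasis).symm.toLinearMap

lemma s_single (i : ℕ) (f : O) :
    s ι d ρ r v hbasis (ι f * d ^ i) = r f * ρ d ^ i + ρ (ι f) * V d ρ v i := by
  have h1 : (e ι d hbasis).symm (ι f * d ^ i) = Finsupp.single i f := by
    rw [LinearEquiv.symm_apply_eq]
    exact (F_single ι d i f).symm
  show G ι d ρ r v ((e ι d hbasis).symm (ι f * d ^ i)) = _
  rw [h1, G_single]

include δ in
theorem s_leibniz (hd : ∀ f : O, d * ι f = ι f * d + ι (δ f))
    (hr : ∀ f g : O, r (f * g) = r f * ρ (ι g) + ρ (ι f) * r g)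
    (hI : ∀ f : O, (r f * ρ d - ρ d * r f) + (ρ (ι f) * v - v * ρ (ι f)) + r (δ f) = 0)
    (P Q : D) :
    s ι d ρ r v hbasis (P * Q) =
      s ι d ρ r v hbasis P * ρ Q + ρ P * s ι d ρ r v hbasis Q := by
  set S := s ι d ρ r v hbasis with hS
  have hr1 : r 1 = 0 := by
    have := hr 1 1
    rw [mul_one, map_one ι, map_one ρ, mul_one, one_mul] at this
    have h2 : r 1 + 0 = r 1 + r 1 := by rw [add_zero]; exact this
    exact (add_left_cancel h2).symm
  have hSι : ∀ f, S (ι f) = r f := by
    intro f
    have := s_single ι d ρ r v hbasis 0 f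
    rw [pow_zero, mul_one, pow_zero, mul_one] at this
    rw [hS, this]
    show r f + ρ (ι f) * 0 = r f
    rw [mul_zero, add_zero]
  have hSd : S d = v := by
    have := s_single ι d ρ r v hbasis 1 1
    rw [map_one ι, one_mul, pow_one, hr1, zero_mul, zero_add, map_one ρ, one_mul] at this
    rw [hS, this]
    show v * ρ d ^ 0 + ρ d * 0 = v
    rw [pow_zero, mul_one, mul_zero, add_zero]
  -- the good set
  let good : D → Prop := fun P => ∀ Q, S (P * Q) = S P * ρ Q + ρ P * S Q
  have hgood_add : ∀ a b, good a → good b → good (a + b) := by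
    intro a b ha hb Q
    rw [add_mul, map_add, ha Q, hb Q, map_add, map_add, add_mul, add_mul]
    abel
  have hgood_mul : ∀ a b, good a → good b → good (a * b) := by
    intro a b ha hb Q
    rw [mul_assoc, ha (b * Q), hb Q, ha b, map_mul, map_mul]
    noncomm_ring
  have hgood_zero : good 0 := by
    intro Q
    rw [zero_mul, map_zero, map_zero, zero_mul, zero_mul, add_zero]
  have hgood_ι : ∀ f, good (ι f) := by
    intro f Q
    induction Q using induction_D ι d hbasis with
    | h0 => rw [mul_zero, map_zero, map_zero, mul_zero, mul_zero, add_zero]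
    | hadd a b ha hb =>
      rw [mul_add, map_add, ha, hb, map_add, map_add, mul_add, mul_add]
      abel
    | hsingle j g =>
      rw [← mul_assoc, ← map_mul, hS, s_single, s_single, ← hS, hSι, hr, map_mul, map_mul,
        map_mul, map_pow]
      noncomm_ring
  have hρd : ∀ g, ρ d * ρ (ι g) = ρ (ι g) * ρ d + ρ (ι (δ g)) := by
    intro g
    rw [← map_mul, hd, map_add, map_mul]
  have hgood_d : good d := by
    intro Q
    induction Q using induction_D ι d hbasis with
    | h0 => rw [mul_zero, map_zero, map_zero, mul_zero, mul_zero, add_zero]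
    | hadd a b ha hb =>
      rw [mul_add, map_add, ha, hb, map_add, map_add, mul_add, mul_add]
      abel
    | hsingle j g =>
      have h1 : d * (ι g * d ^ j) = ι g * d ^ (j + 1) + ι (δ g) * d ^ j := by
        rw [← mul_assoc, hd, add_mul, mul_assoc, ← pow_succ']
      rw [h1, map_add, hS, s_single, s_single, s_single, ← hS, hSd, map_mul, map_pow]
      show r g * ρ d ^ (j + 1) + ρ (ι g) * (v * ρ d ^ j + ρ d * V d ρ v j) +
        (r (δ g) * ρ d ^ j + ρ (ι (δ g)) * V d ρ v j) =
        v * (ρ (ι g) * ρ d ^ j) + ρ d * (r g * ρ d ^ j + ρ (ι g) * V d ρ v j)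
      have h2 : ρ d * (ρ (ι g) * V d ρ v j) =
          ρ (ι g) * (ρ d * V d ρ v j) + ρ (ι (δ g)) * V d ρ v j := by
        rw [← mul_assoc, hρd, add_mul, mul_assoc]
      have h3 := hI g
      have h4 : r (δ g) = -(r g * ρ d - ρ d * r g) - (ρ (ι g) * v - v * ρ (ι g)) := by
        rw [← sub_eq_zero]
        rw [← h3]
        abel
      rw [mul_add (ρ d), h2, h4, pow_succ']
      noncomm_ring
  have hgood_pow : ∀ i : ℕ, good (d ^ i) := by
    intro i
    induction i with
    | zero =>
      intro Q
      have hS1 : S 1 = 0 := by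
        have := hSι 1
        rw [map_one ι] at this
        rw [this, hr1]
      rw [pow_zero, one_mul, hS1, zero_mul, zero_add, map_one, one_mul]
    | succ i ih =>
      rw [pow_succ]
      exact hgood_mul _ _ ih hgood_d
  have hall : ∀ P, good P := by
    intro P
    induction P using induction_D ι d hbasis with
    | h0 => exact hgood_zero
    | hadd a b ha hb => exact hgood_add a b ha hb
    | hsingle i f => exact hgood_mul _ _ (hgood_ι f) (hgood_pow i)
  exact hall P Q

end existence

end Groth.Agent.Lib.Helper15.OreDer
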