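import Mathlib
import Groth.Prelude.Def_SymTen

/-!
# Polarization: symmetrized pure tensors are integer combinations of diagonal tensors (helper15)
-/

set_option autoImplicit false
universe u
open scoped TensorProduct
open PiTensorProduct

namespace Groth.Agent.Lib.Helper15.Polarization

variable {A : Type u} [CommRing A] {M : Type u} [AddCommGroup M] [Module A M] {n : ℕ}

/-- the signed count of subsets avoiding the image of `K` -/
theorem sum_avoid (K : Fin n → Fin n) :
    (∑ U : Finset (Fin n), if (∀ j, K j ∉ U) then (-1 : ℤ) ^ U.card else 0) =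
      if Function.Bijective K then 1 else 0 := by
  classical
  have h1 : ∀ U : Finset (Fin n), (∀ j, K j ∉ U) ↔ U ∈ ((Finset.univ.image K)ᶜ).powerset := by
    intro U
    rw [Finset.mem_powerset]
    constructor
    · intro h i hi
      rw [Finset.mem_compl, Finset.mem_image]
      rintro ⟨j, -, rfl⟩
      exact h j hi
    · intro h j hj
      have := h hj
      rw [Finset.mem_compl, Finset.mem_image] at this
      exact this ⟨j, Finset.mem_univ _, rfl⟩
  simp_rw [h1]
  rw [← Finset.sum_filter, Finset.filter_mem_eq_inter, Finset.univ_inter,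
    Finset.sum_powerset_neg_one_pow_card]
  have h2 : ((Finset.univ.image K)ᶜ = ∅) ↔ Function.Bijective K := by
    rw [Finset.compl_eq_empty_iff, Finset.eq_univ_iff_forall, ← Finite.surjective_iff_bijective]
    constructor
    · intro h i
      obtain ⟨j, -, hj⟩ := Finset.mem_image.mp (h i)
      exact ⟨j, hj⟩
    · intro h i
      obtain ⟨j, hj⟩ := h i
      exact Finset.mem_image.mpr ⟨j, Finset.mem_univ _, hj⟩
  simp only [h2]

/-- **polarization identity** -/
theorem sum_perm_tprod (x : Fin n → M) :
    ∑ σ : Equiv.Perm (Fin n), tprod A (x ∘ σ) =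
      ∑ U : Finset (Fin n), ((-1 : A) ^ U.card) • tprod A (fun _ : Fin n => ∑ i ∈ Uᶜ, x i) := by
  classical
  have h1 : ∀ U : Finset (Fin n), tprod A (fun _ : Fin n => ∑ i ∈ Uᶜ, x i) =
      ∑ K : Fin n → Fin n, if (∀ j, K j ∉ U) then tprod A (x ∘ K) else 0 := by
    intro U
    rw [MultilinearMap.map_sum_finset (tprod A) (fun (_ : Fin n) (i : Fin n) => x i)
      (fun _ => Uᶜ), ← Finset.sum_filter]
    refine Finset.sum_congr ?_ fun K _ => rfl
    ext K
    rw [Fintype.mem_piFinset, Finset.mem_filter]
    simp only [Finset.mem_compl, Finset.mem_univ, true_and]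
  simp_rw [h1, Finset.smul_sum]
  rw [Finset.sum_comm]
  have h2 : ∀ K : Fin n → Fin n,
      (∑ U : Finset (Fin n), ((-1 : A) ^ U.card) •
        (if (∀ j, K j ∉ U) then tprod A (x ∘ K) else 0)) =
      (if Function.Bijective K then tprod A (x ∘ K) else 0) := by
    intro K
    have : ∀ U : Finset (Fin n), ((-1 : A) ^ U.card) •
        (if (∀ j, K j ∉ U) then tprod A (x ∘ K) else 0) =
        (if (∀ j, K j ∉ U) then (-1 : A) ^ U.card else 0) • tprod A (x ∘ K) := by
      intro U
      split_ifs <;> simp
    simp_rw [this]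
    have hA : (∑ U : Finset (Fin n), if (∀ j, K j ∉ U) then (-1 : A) ^ U.card else 0) =
        if Function.Bijective K then 1 else 0 := by
      have := congrArg (Int.cast : ℤ → A) (sum_avoid K)
      push_cast at this
      rw [← this]
    rw [← Finset.sum_smul, hA]
    split_ifs <;> simp
  simp_rw [h2]
  rw [← Finset.sum_filter]
  refine Finset.sum_bij (fun σ _ => ⇑σ) ?_ ?_ ?_ ?_
  · intro σ _
    exact Finset.mem_filter.mpr ⟨Finset.mem_univ _, σ.bijective⟩
  · intro σ _ τ _ h
    exact DFunLike.coe_injective h
  · intro K hK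
    rw [Finset.mem_filter] at hK
    exact ⟨Equiv.ofBijective K hK.2, Finset.mem_univ _, rfl⟩
  · intro σ _
    rfl

/-- the symmetrization operator -/
noncomputable def symm : (⨂[A] _ : Fin n, M) →ₗ[A] (⨂[A] _ : Fin n, M) :=
  ∑ σ : Equiv.Perm (Fin n), (PiTensorProduct.reindex A (fun _ : Fin n => M) σ).toLinearMap

theorem symm_apply (t : ⨂[A] _ : Fin n, M) :
    symm t = ∑ σ : Equiv.Perm (Fin n), PiTensorProduct.reindex A (fun _ : Fin n => M) σ t := by
  unfold symm
  rw [LinearMap.sum_apply]
  rfl

theorem symm_tprod (x : Fin n → M) :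
    symm (tprod A x) = ∑ σ : Equiv.Perm (Fin n), tprod A (x ∘ σ) := by
  rw [symm_apply]
  rw [← Equiv.sum_comp (Equiv.inv (Equiv.Perm (Fin n)))]
  refine Finset.sum_congr rfl fun σ _ => ?_
  rw [PiTensorProduct.reindex_tprod]
  rfl

/-- the symmetrization of any tensor lies in the span of the diagonal tensors -/
theorem symm_mem_span (t : ⨂[A] _ : Fin n, M) :
    symm t ∈ Submodule.span A (Set.range fun m : M => tprod A (fun _ : Fin n => m)) := by
  induction t using PiTensorProduct.induction_on with
  | smul_tprod r x =>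
    rw [map_smul]
    refine Submodule.smul_mem _ _ ?_
    rw [symm_tprod, sum_perm_tprod]
    refine Submodule.sum_mem _ fun U _ => ?_
    refine Submodule.smul_mem _ _ ?_
    exact Submodule.subset_span ⟨_, rfl⟩
  | add x y hx hy =>
    rw [map_add]
    exact Submodule.add_mem _ hx hy

end Groth.Agent.Lib.Helper15.Polarization
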