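import Mathlib
import Groth.Prelude.Def_PolLaw

/-!
# The kernel of `x ↦ x ^ p` on `k[t_i]/(t_i^p)` (helper15)
-/

set_option autoImplicit false
universe u
open scoped TensorProduct

namespace Groth.Agent.Lib.Helper15.PowLawTrunc

variable {k : Type u} [Field k] (p : ℕ) [Fact p.Prime] [CharP k p]

local notation "Pk" => MvPolynomial ℕ k
local notation "Jp" => Ideal.span (Set.range fun i : ℕ => (MvPolynomial.X i : MvPolynomial ℕ k) ^ p)
local notation "I0" => Ideal.span (Set.range fun i : ℕ => (MvPolynomial.X i : MvPolynomial ℕ k))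

omit [Fact p.Prime] [CharP k p] in
theorem mem_I0_iff (q : Pk) : q ∈ I0 ↔ MvPolynomial.constantCoeff q = 0 := by
  have h := MvPolynomial.mem_pow_idealOfVars_iff' (σ := ℕ) (R := k) 1 q
  rw [pow_one] at h
  show q ∈ MvPolynomial.idealOfVars ℕ k ↔ _
  rw [h]
  constructor
  · intro hq
    exact hq 0 (by simp)
  · intro hq x hx
    have : x = 0 := by
      rw [Nat.lt_one_iff] at hx
      exact (Finsupp.degree_eq_zero_iff x).mp hx
    rw [this]
    exact hq

omit [Fact p.Prime] [CharP k p] in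
theorem I0_isPrime : (I0 : Ideal Pk).IsPrime := by
  have : (I0 : Ideal Pk) = RingHom.ker (MvPolynomial.constantCoeff (σ := ℕ) (R := k)) := by
    ext q
    rw [mem_I0_iff, RingHom.mem_ker]
  rw [this]
  exact RingHom.ker_isPrime _

omit [CharP k p] in
theorem Jp_le_I0 : (Jp : Ideal Pk) ≤ I0 := by
  have hp : p.Prime := Fact.out
  rw [Ideal.span_le]
  rintro _ ⟨i, rfl⟩
  show (MvPolynomial.X i : Pk) ^ p ∈ I0
  exact Ideal.pow_mem_of_mem _ (Ideal.subset_span (Set.mem_range_self i)) p hp.pos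

section generic

variable {R : Type u} [CommRing R]

theorem pow_eq_zero_of_mem_ker {q : ℕ} (hq : q ≠ 0) (b : R)
    (hb : b ∈ PolLaw.ker (PolLaw.MulLaw.pow R R q).law) : b ^ q = 0 := by
  have h := hb R 0 1
  have h1 : ((0 : R ⊗[R] R) + 1 * ((1 : R) ⊗ₜ[R] b)) ^ q = (0 : R ⊗[R] R) ^ q := h
  rw [zero_add, one_mul, zero_pow hq] at h1
  have h2 := congrArg (Algebra.TensorProduct.lid R R) h1
  rw [map_pow, Algebra.TensorProduct.lid_tmul, one_smul, map_zero] at h2
  exact h2

theorem mem_ker_of_pow_eq_zero {q : ℕ} (hq : q.Prime) (hq0 : ((q : ℕ) : R) = 0) (t : R)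
    (ht : t ^ q = 0) : t ∈ PolLaw.ker (PolLaw.MulLaw.pow R R q).law := by
  intro S _ _ x w
  show (x + w * _) ^ q = x ^ q
  obtain ⟨r, hr⟩ := exists_add_pow_prime_eq hq x (w * ((1 : S) ⊗ₜ[R] t))
  have hp0 : ((q : ℕ) : S ⊗[R] R) = 0 := by
    have h1 : ((q : ℕ) : S ⊗[R] R) = algebraMap R (S ⊗[R] R) ((q : ℕ) : R) := by
      rw [map_natCast]
    rw [h1, hq0, map_zero]
  rw [hr, hp0, zero_mul, zero_mul, zero_mul, add_zero, mul_pow, Algebra.TensorProduct.tmul_pow,
    ht, TensorProduct.tmul_zero, mul_zero, add_zero]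

end generic

local notation "AA" => (MvPolynomial ℕ k ⧸ Ideal.span (Set.range fun i : ℕ => (MvPolynomial.X i : MvPolynomial ℕ k) ^ p))

/-- the kernel of the `p`-th power law -/
theorem ker_eq :
    PolLaw.ker (PolLaw.MulLaw.pow AA AA p).law = (I0 : Ideal Pk).map (Ideal.Quotient.mk Jp) := by
  have hp : p.Prime := Fact.out
  apply le_antisymm
  · intro b hb
    have h2 := pow_eq_zero_of_mem_ker hp.ne_zero b hb
    obtain ⟨q, rfl⟩ := Ideal.Quotient.mk_surjective b
    rw [← map_pow, Ideal.Quotient.eq_zero_iff_mem] at h2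
    have h3 : q ∈ (I0 : Ideal Pk) := (I0_isPrime (k := k)).mem_of_pow_mem p (Jp_le_I0 p h2)
    exact Ideal.mem_map_of_mem _ h3
  · rw [Ideal.map_le_iff_le_comap, Ideal.span_le]
    rintro _ ⟨i, rfl⟩
    show Ideal.Quotient.mk Jp (MvPolynomial.X i) ∈ PolLaw.ker (PolLaw.MulLaw.pow AA AA p).law
    apply mem_ker_of_pow_eq_zero hp
    · have h2 : ((p : ℕ) : AA) = algebraMap k AA ((p : ℕ) : k) := by
        rw [map_natCast]
      rw [h2, CharP.cast_eq_zero, map_zero]
    · rw [← map_pow, Ideal.Quotient.eq_zero_iff_mem]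
      exact Ideal.subset_span (Set.mem_range_self i)

omit [CharP k p] in
/-- `X_N` is not in the ideal generated by the `X_i`, `i < N`, and the `X_i ^ p` -/
theorem X_not_mem (N : ℕ) :
    (MvPolynomial.X N : Pk) ∉
      Ideal.span ((fun i : ℕ => (MvPolynomial.X i : Pk)) '' {i | i < N}) ⊔ Jp := by
  have hp : p.Prime := Fact.out
  intro h
  rw [← Ideal.span_union] at h
  have hS : ((fun i : ℕ => (MvPolynomial.X i : Pk)) '' {i | i < N}) ∪
      (Set.range fun i : ℕ => (MvPolynomial.X i : Pk) ^ p) =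
      (fun s : ℕ →₀ ℕ => MvPolynomial.monomial s (1 : k)) ''
        (((fun i : ℕ => Finsupp.single i 1) '' {i | i < N}) ∪
          Set.range fun i : ℕ => Finsupp.single i p) := by
    rw [Set.image_union, Set.image_image, ← Set.range_comp]
    congr 1
    ext q
    simp only [Set.mem_range, Function.comp_apply, MvPolynomial.X_pow_eq_monomial]
  rw [hS, MvPolynomial.mem_ideal_span_monomial_image] at h
  have hsupp : Finsupp.single N 1 ∈ (MvPolynomial.X N : Pk).support := by
    rw [MvPolynomial.mem_support_iff, MvPolynomial.coeff_X', if_pos rfl]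
    exact (one_ne_zero : (1 : k) ≠ 0)
  obtain ⟨s, hs, hle⟩ := h _ hsupp
  rcases hs with ⟨i, hi, rfl⟩ | ⟨i, rfl⟩
  · have h1 := hle i
    rw [Finsupp.single_eq_same, Finsupp.single_apply] at h1
    have hi' : i < N := hi
    split_ifs at h1 with h2
    · omega
    · omega
  · have h1 := hle i
    rw [Finsupp.single_eq_same, Finsupp.single_apply] at h1
    have := hp.two_le
    split_ifs at h1 with h2
    · omega
    · omega

omit [CharP k p] in
theorem not_fg : ¬ ((I0 : Ideal Pk).map (Ideal.Quotient.mk Jp)).FG := by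
  intro hfg
  -- the ideal is the directed union of the `𝔪_N`
  have hmap : (I0 : Ideal Pk).map (Ideal.Quotient.mk Jp) =
      Ideal.span (Set.range fun i : ℕ => Ideal.Quotient.mk Jp (MvPolynomial.X i : Pk)) := by
    rw [Ideal.map_span, ← Set.range_comp]
    rfl
  rw [hmap] at hfg
  obtain ⟨T, hT⟩ := hfg
  -- each generator lies in some `𝔪_N`
  have hstep : ∀ f ∈ Ideal.span (Set.range fun i : ℕ => Ideal.Quotient.mk Jp (MvPolynomial.X i : Pk)),
      ∃ N : ℕ, f ∈ Ideal.span ((fun i : ℕ => Ideal.Quotient.mk Jp (MvPolynomial.X i : Pk)) ''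
        {i | i < N}) := by
    intro f hf
    refine Submodule.span_induction ?_ ?_ ?_ ?_ hf
    · rintro _ ⟨i, rfl⟩
      exact ⟨i + 1, Ideal.subset_span ⟨i, Nat.lt_succ_self i, rfl⟩⟩
    · exact ⟨0, Ideal.zero_mem _⟩
    · rintro x y _ _ ⟨N, hN⟩ ⟨N', hN'⟩
      refine ⟨max N N', Ideal.add_mem _ ?_ ?_⟩
      · exact Ideal.span_mono (Set.image_mono fun i (hi : i < N) =>
          lt_of_lt_of_le hi (le_max_left N N')) hN
      · exact Ideal.span_mono (Set.image_mono fun i (hi : i < N') =>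
          lt_of_lt_of_le hi (le_max_right N N')) hN'
    · rintro a x _ ⟨N, hN⟩
      exact ⟨N, Ideal.mul_mem_left _ a hN⟩
  have hT' : ∀ f ∈ T, ∃ N : ℕ, f ∈ Ideal.span
      ((fun i : ℕ => Ideal.Quotient.mk Jp (MvPolynomial.X i : Pk)) '' {i | i < N}) := by
    intro f hf
    apply hstep
    rw [← hT]
    exact Ideal.subset_span hf
  choose! Nf hNf using hT'
  obtain ⟨N, hN⟩ : ∃ N, ∀ f ∈ T, Nf f ≤ N := ⟨T.sup Nf, fun f hf => Finset.le_sup hf⟩
  have hle : Ideal.span (Set.range fun i : ℕ => Ideal.Quotient.mk Jp (MvPolynomial.X i : Pk)) ≤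
      Ideal.span ((fun i : ℕ => Ideal.Quotient.mk Jp (MvPolynomial.X i : Pk)) '' {i | i < N}) := by
    rw [← hT, Ideal.span_le]
    intro f hf
    exact Ideal.span_mono (Set.image_mono fun i (hi : i < Nf f) =>
      lt_of_lt_of_le hi (hN f hf)) (hNf f hf)
  have hX : Ideal.Quotient.mk Jp (MvPolynomial.X N : Pk) ∈
      Ideal.span ((fun i : ℕ => Ideal.Quotient.mk Jp (MvPolynomial.X i : Pk)) '' {i | i < N}) :=
    hle (Ideal.subset_span (Set.mem_range_self N))
  have himg : Ideal.span ((fun i : ℕ => Ideal.Quotient.mk Jp (MvPolynomial.X i : Pk)) ''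
      {i | i < N}) = (Ideal.span ((fun i : ℕ => (MvPolynomial.X i : Pk)) '' {i | i < N})).map
        (Ideal.Quotient.mk Jp) := by
    rw [Ideal.map_span, Set.image_image]
  rw [himg] at hX
  have h2 : (MvPolynomial.X N : Pk) ∈ ((Ideal.span ((fun i : ℕ => (MvPolynomial.X i : Pk)) ''
      {i | i < N})).map (Ideal.Quotient.mk Jp)).comap (Ideal.Quotient.mk Jp) := hX
  rw [Ideal.comap_map_of_surjective _ Ideal.Quotient.mk_surjective, ← RingHom.ker_eq_comap_bot,
    Ideal.mk_ker] at h2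
  exact X_not_mem p N h2

end Groth.Agent.Lib.Helper15.PowLawTrunc
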