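import Mathlib

set_option autoImplicit false
set_option linter.style.haveILetI false
universe u v w
open scoped TensorProduct

namespace Groth.Agent.Lib.Helper15.ProjTwoIdeals

variable {R : Type u} [CommRing R]

/-- lifting property against surjections of `I`-torsion modules -/
theorem lift_torsion (I : Ideal R) (P : Type v) [AddCommGroup P] [Module R P]
    (hI : Module.Projective (R ⧸ I) ((R ⧸ I) ⊗[R] P))
    {M : Type w} {N : Type w} [AddCommGroup M] [Module R M] [AddCommGroup N] [Module R N]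
    (hM : Module.IsTorsionBySet R M I) (hN : Module.IsTorsionBySet R N I)
    (g : M →ₗ[R] N) (hg : Function.Surjective g) (f : P →ₗ[R] N) :
    ∃ h : P →ₗ[R] M, g ∘ₗ h = f := by
  letI : Module (R ⧸ I) M := hM.module
  letI : Module (R ⧸ I) N := hN.module
  have hsurj : Function.Surjective (algebraMap R (R ⧸ I)) := Ideal.Quotient.mk_surjective
  let g' : M →ₗ[R ⧸ I] N := g.extendScalarsOfSurjective hsurj
  let f' : (R ⧸ I) ⊗[R] P →ₗ[R ⧸ I] N := f.liftBaseChange (R ⧸ I)
  obtain ⟨h, hh⟩ := Module.projective_lifting_property g' f' hg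
  refine ⟨(h.restrictScalars R) ∘ₗ (TensorProduct.mk R (R ⧸ I) P 1), ?_⟩
  ext p
  have := LinearMap.congr_fun hh ((1 : R ⧸ I) ⊗ₜ p)
  simpa [g', f'] using this

theorem coord_mem_of_mem_smul_top (I : Ideal R) {ι : Type v} (x : ι →₀ R)
    (hx : x ∈ I • (⊤ : Submodule R (ι →₀ R))) (i : ι) : x i ∈ I := by
  refine Submodule.smul_induction_on hx ?_ ?_
  · intro r hr n _
    simpa using I.mul_mem_right _ hr
  · intro x y hx hy
    simpa using I.add_mem hx hy

theorem smul_eq_zero_of_inf_eq_bot (I J : Ideal R) (hIJ : I ⊓ J = ⊥) {M : Type v}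
    [AddCommGroup M] [Module R M] {i : R} (hi : i ∈ I) {z : M}
    (hz : z ∈ J • (⊤ : Submodule R M)) : i • z = 0 := by
  refine Submodule.smul_induction_on hz ?_ ?_
  · intro r hr n _
    have : i * r ∈ I ⊓ J := ⟨I.mul_mem_right _ hi, J.mul_mem_left _ hr⟩
    rw [hIJ] at this
    rw [← mul_smul, (Submodule.mem_bot R).1 this, zero_smul]
  · intro x y hx hy
    rw [smul_add, hx, hy, add_zero]

theorem main (I J : Ideal R) (hIJ : I ⊓ J = ⊥) (P : Type u) [AddCommGroup P] [Module R P]
    (hI : Module.Projective (R ⧸ I) ((R ⧸ I) ⊗[R] P))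
    (hJ : Module.Projective (R ⧸ J) ((R ⧸ J) ⊗[R] P)) : Module.Projective R P := by
  classical
  let F := P →₀ R
  let π : F →ₗ[R] P := Finsupp.linearCombination R id
  have hπ : Function.Surjective π := fun x ↦ ⟨Finsupp.single x 1, by
    show Finsupp.linearCombination R id (Finsupp.single x 1) = x
    rw [Finsupp.linearCombination_single, one_smul]; rfl⟩
  let FI : Submodule R F := I • ⊤
  let FJ : Submodule R F := J • ⊤
  let PI : Submodule R P := I • ⊤
  let PJ : Submodule R P := J • ⊤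
  have hFI : FI ≤ PI.comap π := by
    rw [← Submodule.map_le_iff_le_comap, Submodule.map_smul'']
    exact Submodule.smul_mono le_rfl le_top
  have hFJ : FJ ≤ PJ.comap π := by
    rw [← Submodule.map_le_iff_le_comap, Submodule.map_smul'']
    exact Submodule.smul_mono le_rfl le_top
  have hPJ : PJ ≤ FJ.map π := by
    rw [Submodule.map_smul'', Submodule.map_top, LinearMap.range_eq_top.2 hπ]
  let π₁ : F ⧸ FI →ₗ[R] P ⧸ PI := Submodule.mapQ FI PI π hFI
  let π₂ : F ⧸ FJ →ₗ[R] P ⧸ PJ := Submodule.mapQ FJ PJ π hFJ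
  have hπ₁ : Function.Surjective π₁ := by
    intro y
    obtain ⟨y, rfl⟩ := Submodule.Quotient.mk_surjective _ y
    obtain ⟨x, rfl⟩ := hπ y
    exact ⟨Submodule.Quotient.mk x, rfl⟩
  have hπ₂ : Function.Surjective π₂ := by
    intro y
    obtain ⟨y, rfl⟩ := Submodule.Quotient.mk_surjective _ y
    obtain ⟨x, rfl⟩ := hπ y
    exact ⟨Submodule.Quotient.mk x, rfl⟩
  -- sections
  obtain ⟨t₁, ht₁⟩ := lift_torsion I P hI (Module.isTorsionBySet_quotient_ideal_smul F I)
    (Module.isTorsionBySet_quotient_ideal_smul P I) π₁ hπ₁ PI.mkQ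
  obtain ⟨t₂, ht₂⟩ := lift_torsion J P hJ (Module.isTorsionBySet_quotient_ideal_smul F J)
    (Module.isTorsionBySet_quotient_ideal_smul P J) π₂ hπ₂ PJ.mkQ
  -- comparison
  let q₁ : F ⧸ FI →ₗ[R] F ⧸ (FI ⊔ FJ) := Submodule.mapQ FI (FI ⊔ FJ) LinearMap.id le_sup_left
  let q₂ : F ⧸ FJ →ₗ[R] F ⧸ (FI ⊔ FJ) := Submodule.mapQ FJ (FI ⊔ FJ) LinearMap.id le_sup_right
  let δ : P →ₗ[R] F ⧸ (FI ⊔ FJ) := q₁ ∘ₗ t₁ - q₂ ∘ₗ t₂
  let g : F ⧸ FI →ₗ[R] (P ⧸ PI) × (F ⧸ (FI ⊔ FJ)) := π₁.prod q₁
  have hδ : ∀ p, ((0 : P →ₗ[R] P ⧸ PI).prod δ) p ∈ LinearMap.range g := by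
    intro p
    obtain ⟨a, ha⟩ := Submodule.Quotient.mk_surjective _ (t₁ p)
    obtain ⟨b, hb⟩ := Submodule.Quotient.mk_surjective _ (t₂ p)
    have h1 : Submodule.Quotient.mk (π a) = (Submodule.Quotient.mk p : P ⧸ PI) := by
      have := LinearMap.congr_fun ht₁ p
      simp only [LinearMap.comp_apply, ← ha] at this
      exact this
    have h2 : Submodule.Quotient.mk (π b) = (Submodule.Quotient.mk p : P ⧸ PJ) := by
      have := LinearMap.congr_fun ht₂ p
      simp only [LinearMap.comp_apply, ← hb] at this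
      exact this
    -- π (a - b) ∈ PI ⊔ PJ
    have h3 : π a - p ∈ PI := (Submodule.Quotient.eq _).1 h1
    have h4 : π b - p ∈ PJ := (Submodule.Quotient.eq _).1 h2
    obtain ⟨v, hv, hv'⟩ := hPJ h4
    -- candidate: a - b + v ... we need x with π x ∈ PI and x ≡ a - b mod FI ⊔ FJ
    refine ⟨Submodule.Quotient.mk (a - b + v), ?_⟩
    refine Prod.ext ?_ ?_
    · change Submodule.Quotient.mk (π (a - b + v)) = (0 : P ⧸ PI)
      rw [Submodule.Quotient.mk_eq_zero]
      have : π (a - b + v) = π a - p := by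
        rw [map_add, map_sub, hv']; abel
      rw [this]; exact h3
    · change Submodule.Quotient.mk (a - b + v) = δ p
      simp only [δ, LinearMap.sub_apply, LinearMap.comp_apply, ← ha, ← hb]
      change _ = Submodule.Quotient.mk a - Submodule.Quotient.mk b
      rw [← Submodule.Quotient.mk_sub, Submodule.Quotient.eq]
      have : a - b + v - (a - b) = v := by abel
      rw [this]
      exact Submodule.mem_sup_right hv
  have hrange_tors : Module.IsTorsionBySet R (LinearMap.range g) I := by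
    rintro ⟨_, ⟨m, rfl⟩⟩ ⟨a, ha⟩
    apply Subtype.ext
    change a • g m = 0
    rw [← map_smul]
    have : a • m = 0 := @Module.isTorsionBySet_quotient_ideal_smul R F _ _ _ I m ⟨a, ha⟩
    rw [this, map_zero]
  obtain ⟨d, hd⟩ := lift_torsion I P hI (Module.isTorsionBySet_quotient_ideal_smul F I)
    hrange_tors g.rangeRestrict g.surjective_rangeRestrict
    (LinearMap.codRestrict (LinearMap.range g) ((0 : P →ₗ[R] P ⧸ PI).prod δ) hδ)
  have hd1 : ∀ p, π₁ (d p) = 0 := by
    intro p
    have h0 := congrArg Subtype.val (LinearMap.congr_fun hd p)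
    have := congrArg Prod.fst h0
    simpa [g] using this
  have hd2 : ∀ p, q₁ (d p) = δ p := by
    intro p
    have h0 := congrArg Subtype.val (LinearMap.congr_fun hd p)
    have := congrArg Prod.snd h0
    simpa [g] using this
  let t₁' : P →ₗ[R] F ⧸ FI := t₁ - d
  have ht₁' : ∀ p, π₁ (t₁' p) = Submodule.Quotient.mk p := by
    intro p
    simp only [t₁', LinearMap.sub_apply, map_sub, hd1, sub_zero]
    exact LinearMap.congr_fun ht₁ p
  have hcomp : ∀ p, q₁ (t₁' p) = q₂ (t₂ p) := by
    intro p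
    simp only [t₁', LinearMap.sub_apply, map_sub, hd2, δ, LinearMap.comp_apply]
    abel
  -- glue
  let φ : F →ₗ[R] (F ⧸ FI) × (F ⧸ FJ) := FI.mkQ.prod FJ.mkQ
  have hφ : Function.Injective φ := by
    rw [← LinearMap.ker_eq_bot, eq_bot_iff]
    intro x hx
    have hx1 : x ∈ FI := by
      have := congrArg Prod.fst (LinearMap.mem_ker.1 hx)
      simpa [φ] using this
    have hx2 : x ∈ FJ := by
      have := congrArg Prod.snd (LinearMap.mem_ker.1 hx)
      simpa [φ] using this
    rw [Submodule.mem_bot]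
    ext i
    have : x i ∈ I ⊓ J := ⟨coord_mem_of_mem_smul_top I x hx1 i, coord_mem_of_mem_smul_top J x hx2 i⟩
    rw [hIJ] at this
    simpa using this
  have hglue : ∀ p, (t₁'.prod t₂) p ∈ LinearMap.range φ := by
    intro p
    obtain ⟨a, ha⟩ := Submodule.Quotient.mk_surjective _ (t₁' p)
    obtain ⟨b, hb⟩ := Submodule.Quotient.mk_surjective _ (t₂ p)
    have h := hcomp p
    rw [← ha, ← hb] at h
    change (Submodule.Quotient.mk a : F ⧸ (FI ⊔ FJ)) = Submodule.Quotient.mk b at h
    rw [Submodule.Quotient.eq, Submodule.mem_sup] at h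
    obtain ⟨u, hu, v, hv, huv⟩ := h
    refine ⟨a - u, Prod.ext ?_ ?_⟩
    · change Submodule.Quotient.mk (a - u) = t₁' p
      rw [← ha, Submodule.Quotient.eq]
      have : a - u - a = -u := by abel
      rw [this]; exact FI.neg_mem hu
    · change Submodule.Quotient.mk (a - u) = t₂ p
      rw [← hb, Submodule.Quotient.eq]
      have : a - u - b = v := by
        have h5 : a - u - b = (a - b) - u := by abel
        rw [h5, ← huv]; abel
      rw [this]; exact hv
  let s : P →ₗ[R] F := (LinearEquiv.ofInjective φ hφ).symm.toLinearMap ∘ₗ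
    LinearMap.codRestrict (LinearMap.range φ) (t₁'.prod t₂) hglue
  have hs : ∀ p, φ (s p) = (t₁' p, t₂ p) := by
    intro p
    have := (LinearEquiv.ofInjective φ hφ).apply_symm_apply
      (LinearMap.codRestrict (LinearMap.range φ) (t₁'.prod t₂) hglue p)
    have h2 := congrArg Subtype.val this
    simpa [s] using h2
  let n : P →ₗ[R] P := π ∘ₗ s - LinearMap.id
  have hn1 : ∀ p, n p ∈ PI := by
    intro p
    have h1 : (Submodule.Quotient.mk (s p) : F ⧸ FI) = t₁' p := congrArg Prod.fst (hs p)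
    have h2 := ht₁' p
    rw [← h1] at h2
    change (Submodule.Quotient.mk (π (s p)) : P ⧸ PI) = _ at h2
    rw [Submodule.Quotient.eq] at h2
    simpa [n] using h2
  have hn2 : ∀ p, n p ∈ PJ := by
    intro p
    have h1 : (Submodule.Quotient.mk (s p) : F ⧸ FJ) = t₂ p := congrArg Prod.snd (hs p)
    have h2 := LinearMap.congr_fun ht₂ p
    simp only [LinearMap.comp_apply] at h2
    rw [← h1] at h2
    change (Submodule.Quotient.mk (π (s p)) : P ⧸ PJ) = Submodule.Quotient.mk p at h2
    rw [Submodule.Quotient.eq] at h2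
    simpa [n] using h2
  have hn3 : ∀ y ∈ PI, n y = 0 := by
    intro y hy
    refine Submodule.smul_induction_on hy ?_ ?_
    · intro r hr m _
      rw [map_smul]
      exact smul_eq_zero_of_inf_eq_bot I J hIJ hr (hn2 m)
    · intro x y hx hy
      rw [map_add, hx, hy, add_zero]
  have hnn : ∀ p, n (n p) = 0 := fun p => hn3 _ (hn1 p)
  refine Module.Projective.of_split (s ∘ₗ (LinearMap.id - n)) π ?_
  ext p
  have h1 : π (s (p - n p)) = (p - n p) + n (p - n p) := by
    simp [n]
  simp only [LinearMap.comp_apply, LinearMap.sub_apply, LinearMap.id_apply]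
  rw [h1, map_sub, hnn]
  abel

end Groth.Agent.Lib.Helper15.ProjTwoIdeals
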