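import Mathlib
import Groth.Agent.Lib.Helper15.Desc8
import Groth.Agent.Lib.Helper12.HensPairLoc

/-!
# Clopen subsets of the punctured spectrum descend from the completion to the henselization
(helper15)
-/

set_option autoImplicit false
set_option linter.style.haveILetI false
set_option linter.unusedSectionVars false
set_option linter.style.longLine false

universe u

namespace Groth.Agent.Lib.Helper15.PunctConn

open Groth.Agent.Lib.Helper15.Desc IsLocalRing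

section Core

variable {R : Type u} [CommRing R] [IsNoetherianRing R] {R' : Type u} [CommRing R']
  [IsNoetherianRing R'] [Algebra R R']

theorem descend_split (I : Ideal R) [HenselianRing R I] (hNE : NE I R') (𝔞₁ 𝔞₂ : Ideal R')
    (h0 : 𝔞₁ * 𝔞₂ = ⊥) (k : ℕ) (hk : (I.map (algebraMap R R')) ^ k ≤ 𝔞₁ ⊔ 𝔞₂) :
    𝔞₁ = (𝔞₁.comap (algebraMap R R')).map (algebraMap R R') := by
  apply descend' I hNE
  intro a ha
  have h1 : (algebraMap R R' a) ^ k ∈ 𝔞₁ ⊔ 𝔞₂ :=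
    hk (Ideal.pow_mem_pow (Ideal.mem_map_of_mem _ ha) k)
  obtain ⟨x₁, hx₁, x₂, hx₂, hx⟩ := Submodule.mem_sup.mp h1
  refine ⟨k, x₁, hx₁, fun x hx' => ?_⟩
  have e : (algebraMap R R' a) ^ k - x₁ = x₂ := by rw [← hx]; ring
  rw [e]
  have : x * x₂ ∈ 𝔞₁ * 𝔞₂ := Ideal.mul_mem_mul hx' hx₂
  rw [h0] at this
  rw [mul_comm x₂ x]
  exact this

theorem exists_pow_split [IsLocalRing R'] (𝔟₁ 𝔟₂ : Ideal R')
    (ha : ∀ 𝔭 : Ideal R', 𝔭.IsPrime → 𝔭 ≠ maximalIdeal R' → 𝔟₁ ≤ 𝔭 ∨ 𝔟₂ ≤ 𝔭)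
    (hb : ∀ 𝔭 : Ideal R', 𝔭.IsPrime → 𝔟₁ ≤ 𝔭 → 𝔟₂ ≤ 𝔭 → 𝔭 = maximalIdeal R')
    (hc : ∃ 𝔭 : Ideal R', 𝔭.IsPrime ∧ 𝔭 ≠ maximalIdeal R') :
    ∃ N k : ℕ, 0 < N ∧ 𝔟₁ ^ N * 𝔟₂ ^ N = ⊥ ∧ (maximalIdeal R') ^ k ≤ 𝔟₁ ^ N ⊔ 𝔟₂ ^ N := by
  have hnil : 𝔟₁ * 𝔟₂ ≤ nilradical R' := by
    rw [nilradical_eq_sInf, le_sInf_iff]
    intro 𝔭 h𝔭
    have h𝔭' : 𝔭.IsPrime := h𝔭
    by_cases h : 𝔭 = maximalIdeal R'
    · obtain ⟨𝔭₀, h𝔭₀, hne⟩ := hc
      rw [h]
      have hle : 𝔭₀ ≤ maximalIdeal R' := IsLocalRing.le_maximalIdeal h𝔭₀.ne_top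
      rcases ha 𝔭₀ h𝔭₀ hne with h1 | h1
      · exact (Ideal.mul_le_left.trans h1).trans hle
      · exact (Ideal.mul_le_right.trans h1).trans hle
    · rcases ha 𝔭 h𝔭' h with h1 | h1
      · exact Ideal.mul_le_left.trans h1
      · exact Ideal.mul_le_right.trans h1
  obtain ⟨N, hN⟩ := IsNoetherianRing.isNilpotent_nilradical R'
  have h0 : (𝔟₁ * 𝔟₂) ^ (N + 1) = ⊥ := by
    rw [← le_bot_iff]
    calc (𝔟₁ * 𝔟₂) ^ (N + 1) ≤ (𝔟₁ * 𝔟₂) ^ N := Ideal.pow_le_pow_right (Nat.le_succ N)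
      _ ≤ (nilradical R') ^ N := Ideal.pow_right_mono hnil N
      _ = ⊥ := hN
  rw [mul_pow] at h0
  have hrad : maximalIdeal R' ≤ (𝔟₁ ⊔ 𝔟₂).radical := by
    rw [Ideal.radical_eq_sInf]
    apply le_sInf
    rintro 𝔭 ⟨h1, h2⟩
    rw [hb 𝔭 h2 (le_sup_left.trans h1) (le_sup_right.trans h1)]
  obtain ⟨k₀, hk₀⟩ := Ideal.exists_pow_le_of_le_radical_of_fg hrad (IsNoetherian.noetherian _)
  refine ⟨N + 1, k₀ * ((N + 1) + (N + 1)), Nat.succ_pos N, h0, ?_⟩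
  rw [pow_mul]
  exact (Ideal.pow_right_mono hk₀ _).trans Ideal.sup_pow_add_le_pow_sup_pow

variable [IsLocalRing R] [IsLocalRing R']

theorem maximalIdeal_eq_map (hNE : NE (maximalIdeal R) R') :
    maximalIdeal R' = (maximalIdeal R).map (algebraMap R R') := by
  have hle : (maximalIdeal R).map (algebraMap R R') ≤ maximalIdeal R' := by
    refine hNE.rad.trans ?_
    rw [IsLocalRing.jacobson_eq_maximalIdeal ⊥ bot_ne_top]
  apply le_antisymm _ hle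
  intro x hx
  obtain ⟨s, hs⟩ := hNE.dense x
  have h1 : algebraMap R R' s ∈ maximalIdeal R' := by
    have := Ideal.sub_mem _ hx (hle hs)
    have e : x - (x - algebraMap R R' s) = algebraMap R R' s := by ring
    rwa [e] at this
  have h2 : s ∈ maximalIdeal R := by
    rw [mem_maximalIdeal, mem_nonunits_iff]
    intro hu
    exact (mem_maximalIdeal _).1 h1 (hu.map _)
  have e : x = (x - algebraMap R R' s) + algebraMap R R' s := by ring
  rw [e]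
  exact Ideal.add_mem _ hs (Ideal.mem_map_of_mem _ h2)

theorem comap_maximalIdeal (hNE : NE (maximalIdeal R) R') :
    (maximalIdeal R').comap (algebraMap R R') = maximalIdeal R := by
  refine ((IsLocalRing.maximalIdeal.isMaximal R).eq_of_le ?_ ?_).symm
  · exact (Ideal.IsPrime.comap (algebraMap R R')).ne_top
  · rw [maximalIdeal_eq_map hNE]
    exact Ideal.le_comap_map

theorem comap_ne_maximalIdeal (hNE : NE (maximalIdeal R) R') (𝔭 : Ideal R') [𝔭.IsPrime]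
    (h : 𝔭 ≠ maximalIdeal R') : 𝔭.comap (algebraMap R R') ≠ maximalIdeal R := by
  intro hc
  apply h
  have hle : maximalIdeal R' ≤ 𝔭 := by
    rw [maximalIdeal_eq_map hNE, ← hc]
    exact Ideal.map_comap_le
  exact ((IsLocalRing.maximalIdeal.isMaximal R').eq_of_le (Ideal.IsPrime.ne_top inferInstance)
    hle).symm

theorem isPreconnected_of_completion (hNE : NE (maximalIdeal R) R')
    (h : IsPreconnected ({closedPoint R'}ᶜ : Set (PrimeSpectrum R'))) :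
    IsPreconnected ({closedPoint R}ᶜ : Set (PrimeSpectrum R)) := by
  haveI := hNE.faithfullyFlat
  have himg : (PrimeSpectrum.comap (algebraMap R R')) '' ({closedPoint R'}ᶜ) =
      ({closedPoint R}ᶜ : Set (PrimeSpectrum R)) := by
    ext 𝔭'
    constructor
    · rintro ⟨𝔭, h𝔭, rfl⟩
      intro hc
      apply h𝔭
      have h1 : 𝔭.asIdeal ≠ maximalIdeal R' → False := by
        intro hne
        exact comap_ne_maximalIdeal hNE 𝔭.asIdeal hne (congrArg PrimeSpectrum.asIdeal hc)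
      have h2 : 𝔭.asIdeal = maximalIdeal R' := by
        by_contra hne; exact h1 hne
      exact PrimeSpectrum.ext h2
    · intro h𝔭'
      obtain ⟨𝔭, rfl⟩ := PrimeSpectrum.comap_surjective_of_faithfullyFlat (B := R') 𝔭'
      refine ⟨𝔭, ?_, rfl⟩
      intro hc
      apply h𝔭'
      have hc' : 𝔭 = closedPoint R' := hc
      rw [hc']
      exact PrimeSpectrum.ext (comap_maximalIdeal hNE)
  rw [← himg]
  exact h.image _ (PrimeSpectrum.continuous_comap _).continuousOn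

theorem isPreconnected_completion_of (hNE : NE (maximalIdeal R) R')
    [HenselianRing R (maximalIdeal R)]
    (h : IsPreconnected ({closedPoint R}ᶜ : Set (PrimeSpectrum R))) :
    IsPreconnected ({closedPoint R'}ᶜ : Set (PrimeSpectrum R')) := by
  rw [isPreconnected_closed_iff]
  intro t t' ht ht' hsub hne hne'
  by_contra hcon
  rw [Set.not_nonempty_iff_eq_empty] at hcon
  obtain ⟨𝔟₁, rfl⟩ := (PrimeSpectrum.isClosed_iff_zeroLocus_ideal _).mp ht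
  obtain ⟨𝔟₂, rfl⟩ := (PrimeSpectrum.isClosed_iff_zeroLocus_ideal _).mp ht'
  have hU : ∀ (𝔭 : Ideal R') (h𝔭 : 𝔭.IsPrime), 𝔭 ≠ maximalIdeal R' →
      (⟨𝔭, h𝔭⟩ : PrimeSpectrum R') ∈ ({closedPoint R'}ᶜ : Set (PrimeSpectrum R')) := by
    intro 𝔭 h𝔭 hne hc
    exact hne (congrArg PrimeSpectrum.asIdeal hc)
  have ha : ∀ 𝔭 : Ideal R', 𝔭.IsPrime → 𝔭 ≠ maximalIdeal R' → 𝔟₁ ≤ 𝔭 ∨ 𝔟₂ ≤ 𝔭 := by
    intro 𝔭 h𝔭 hne
    rcases hsub (hU 𝔭 h𝔭 hne) with h1 | h1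
    · left; exact SetLike.coe_subset_coe.mp ((PrimeSpectrum.mem_zeroLocus _ _).mp h1)
    · right; exact SetLike.coe_subset_coe.mp ((PrimeSpectrum.mem_zeroLocus _ _).mp h1)
  have hb : ∀ 𝔭 : Ideal R', 𝔭.IsPrime → 𝔟₁ ≤ 𝔭 → 𝔟₂ ≤ 𝔭 → 𝔭 = maximalIdeal R' := by
    intro 𝔭 h𝔭 h1 h2
    by_contra hne
    have : (⟨𝔭, h𝔭⟩ : PrimeSpectrum R') ∈ ({closedPoint R'}ᶜ : Set (PrimeSpectrum R')) ∩
        (PrimeSpectrum.zeroLocus (𝔟₁ : Set R') ∩ PrimeSpectrum.zeroLocus (𝔟₂ : Set R')) :=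
      ⟨hU 𝔭 h𝔭 hne, (PrimeSpectrum.mem_zeroLocus _ _).mpr (SetLike.coe_subset_coe.mpr h1),
        (PrimeSpectrum.mem_zeroLocus _ _).mpr (SetLike.coe_subset_coe.mpr h2)⟩
    rw [hcon] at this
    exact this
  have hc : ∃ 𝔭 : Ideal R', 𝔭.IsPrime ∧ 𝔭 ≠ maximalIdeal R' := by
    obtain ⟨x, hx, -⟩ := hne
    refine ⟨x.asIdeal, x.2, fun hc => hx ?_⟩
    exact PrimeSpectrum.ext hc
  obtain ⟨N, k, hN, h0, hk⟩ := exists_pow_split 𝔟₁ 𝔟₂ ha hb hc
  have hk' : ((maximalIdeal R).map (algebraMap R R')) ^ k ≤ 𝔟₁ ^ N ⊔ 𝔟₂ ^ N := by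
    rw [← maximalIdeal_eq_map hNE]; exact hk
  have e1 := descend_split (maximalIdeal R) hNE (𝔟₁ ^ N) (𝔟₂ ^ N) h0 k hk'
  have e2 := descend_split (maximalIdeal R) hNE (𝔟₂ ^ N) (𝔟₁ ^ N)
    (by rw [mul_comm]; exact h0) k (by rw [sup_comm]; exact hk')
  obtain ⟨𝔞₁, h𝔞₁⟩ : ∃ 𝔞₁ : Ideal R, 𝔞₁ = (𝔟₁ ^ N).comap (algebraMap R R') := ⟨_, rfl⟩
  obtain ⟨𝔞₂, h𝔞₂⟩ : ∃ 𝔞₂ : Ideal R, 𝔞₂ = (𝔟₂ ^ N).comap (algebraMap R R') := ⟨_, rfl⟩
  rw [← h𝔞₁] at e1
  rw [← h𝔞₂] at e2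
  -- apply preconnectedness downstairs
  have hsub' : ({closedPoint R}ᶜ : Set (PrimeSpectrum R)) ⊆
      PrimeSpectrum.zeroLocus (𝔞₁ : Set R) ∪ PrimeSpectrum.zeroLocus (𝔞₂ : Set R) := by
    intro 𝔭' _
    by_contra hcon'
    rw [Set.mem_union, not_or, PrimeSpectrum.mem_zeroLocus, PrimeSpectrum.mem_zeroLocus,
      SetLike.coe_subset_coe, SetLike.coe_subset_coe, SetLike.not_le_iff_exists,
      SetLike.not_le_iff_exists] at hcon'
    obtain ⟨⟨x, hx, hx'⟩, ⟨y, hy, hy'⟩⟩ := hcon'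
    have hxy : algebraMap R R' (x * y) ∈ 𝔟₁ ^ N * 𝔟₂ ^ N := by
      rw [map_mul]
      rw [h𝔞₁] at hx
      rw [h𝔞₂] at hy
      exact Ideal.mul_mem_mul hx hy
    rw [h0] at hxy
    have hxy0 : x * y = 0 := hNE.algebraMap_injective (by rw [map_zero]; exact hxy)
    have : x * y ∈ 𝔭'.asIdeal := by rw [hxy0]; exact Ideal.zero_mem _
    rcases 𝔭'.2.mem_or_mem this with h1 | h1
    · exact hx' h1
    · exact hy' h1
  have hdown : ∀ (𝔟 : Ideal R') (𝔞 : Ideal R), 𝔞 = (𝔟 ^ N).comap (algebraMap R R') →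
      (({closedPoint R'}ᶜ : Set (PrimeSpectrum R')) ∩
        PrimeSpectrum.zeroLocus (𝔟 : Set R')).Nonempty →
      (({closedPoint R}ᶜ : Set (PrimeSpectrum R)) ∩
        PrimeSpectrum.zeroLocus (𝔞 : Set R)).Nonempty := by
    rintro 𝔟 𝔞 h𝔞 ⟨x, hx, hx'⟩
    refine ⟨PrimeSpectrum.comap (algebraMap R R') x, ?_, ?_⟩
    · intro hc
      have hxne : x.asIdeal ≠ maximalIdeal R' := fun hc' => hx (PrimeSpectrum.ext hc')
      exact comap_ne_maximalIdeal hNE x.asIdeal hxne (congrArg PrimeSpectrum.asIdeal hc)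
    · rw [PrimeSpectrum.mem_zeroLocus, SetLike.coe_subset_coe, h𝔞]
      have h1 : 𝔟 ≤ x.asIdeal := SetLike.coe_subset_coe.mp ((PrimeSpectrum.mem_zeroLocus _ _).mp hx')
      exact Ideal.comap_mono ((Ideal.pow_le_self (Nat.pos_iff_ne_zero.mp hN)).trans h1)
  obtain ⟨𝔭', h𝔭', h𝔭'1, h𝔭'2⟩ := isPreconnected_closed_iff.mp h _ _
    (PrimeSpectrum.isClosed_zeroLocus _) (PrimeSpectrum.isClosed_zeroLocus _) hsub'
    (hdown 𝔟₁ 𝔞₁ h𝔞₁ hne) (hdown 𝔟₂ 𝔞₂ h𝔞₂ hne')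
  apply h𝔭'
  have h1 : 𝔞₁ ≤ 𝔭'.asIdeal := SetLike.coe_subset_coe.mp ((PrimeSpectrum.mem_zeroLocus _ _).mp h𝔭'1)
  have h2 : 𝔞₂ ≤ 𝔭'.asIdeal := SetLike.coe_subset_coe.mp ((PrimeSpectrum.mem_zeroLocus _ _).mp h𝔭'2)
  have h3 : (maximalIdeal R) ^ k ≤ 𝔞₁ ⊔ 𝔞₂ := by
    apply hNE.le_of_map_le_map
    rw [Ideal.map_pow, Ideal.map_sup, ← e1, ← e2]
    exact hk'
  have h4 : maximalIdeal R ≤ 𝔭'.asIdeal :=
    Ideal.IsPrime.le_of_pow_le (h3.trans (sup_le h1 h2))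
  exact PrimeSpectrum.ext
    ((IsLocalRing.maximalIdeal.isMaximal R).eq_of_le 𝔭'.2.ne_top h4).symm

theorem eq_or_eq_of_dim_one (q : Ideal R') [hq : q.IsPrime] (hdim : ringKrullDim (R' ⧸ q) = 1)
    (𝔭 : Ideal R') [h𝔭 : 𝔭.IsPrime] (hle : q ≤ 𝔭) : 𝔭 = q ∨ 𝔭 = maximalIdeal R' := by
  by_cases hne : 𝔭 = q
  · exact Or.inl hne
  right
  haveI : Ring.KrullDimLE 1 (R' ⧸ q) := Ring.krullDimLE_iff.mpr (le_of_eq hdim)
  have hsurj : Function.Surjective (Ideal.Quotient.mk q) := Ideal.Quotient.mk_surjective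
  have hker : RingHom.ker (Ideal.Quotient.mk q) ≤ 𝔭 := by rw [Ideal.mk_ker]; exact hle
  have hprime : (𝔭.map (Ideal.Quotient.mk q)).IsPrime := Ideal.map_isPrime_of_surjective hsurj hker
  have hcomap : (𝔭.map (Ideal.Quotient.mk q)).comap (Ideal.Quotient.mk q) = 𝔭 := by
    rw [Ideal.comap_map_of_surjective _ hsurj, ← RingHom.ker_eq_comap_bot, Ideal.mk_ker]
    exact sup_eq_left.mpr hle
  have hnebot : 𝔭.map (Ideal.Quotient.mk q) ≠ ⊥ := by
    intro hbot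
    apply hne
    apply le_antisymm _ hle
    rw [← hcomap, hbot, ← RingHom.ker_eq_comap_bot, Ideal.mk_ker]
  have hmax : (𝔭.map (Ideal.Quotient.mk q)).IsMaximal :=
    Ring.krullDimLE_one_iff_of_noZeroDivisors.mp inferInstance _ hnebot hprime
  have hmax' : 𝔭.IsMaximal := by
    rw [← hcomap]
    exact Ideal.comap_isMaximal_of_surjective _ hsurj
  exact IsLocalRing.eq_maximalIdeal hmax'

theorem exists_minimalPrime_radical_eq (hNE : NE (maximalIdeal R) R')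
    [HenselianRing R (maximalIdeal R)] (q : Ideal R') (hq : q ∈ minimalPrimes R')
    (hdim : ringKrullDim (R' ⧸ q) = 1) :
    ∃ q' ∈ minimalPrimes R, (q'.map (algebraMap R R')).radical = q := by
  classical
  haveI hqp : q.IsPrime := hq.1.1
  have hqmin : ∀ 𝔭 : Ideal R', 𝔭.IsPrime → 𝔭 ≤ q → q ≤ 𝔭 := fun 𝔭 h𝔭 hle => hq.2 ⟨h𝔭, bot_le⟩ hle
  have hqne : q ≠ maximalIdeal R' := by
    intro hc
    haveI : q.IsMaximal := by rw [hc]; exact IsLocalRing.maximalIdeal.isMaximal R'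
    have hfield : IsField (R' ⧸ q) := (Ideal.Quotient.maximal_ideal_iff_isField_quotient q).mp inferInstance
    have h0 : ringKrullDim (R' ⧸ q) = 0 := ringKrullDim_eq_zero_of_isField hfield
    rw [hdim] at h0
    exact one_ne_zero h0
  have hfin : (minimalPrimes R').Finite := minimalPrimes.finite_of_isNoetherianRing R'
  obtain ⟨𝔟₂, h𝔟₂⟩ : ∃ 𝔟₂ : Ideal R', 𝔟₂ = (hfin.toFinset.erase q).inf id := ⟨_, rfl⟩
  have ha : ∀ 𝔭 : Ideal R', 𝔭.IsPrime → 𝔭 ≠ maximalIdeal R' → q ≤ 𝔭 ∨ 𝔟₂ ≤ 𝔭 := by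
    intro 𝔭 h𝔭 _
    obtain ⟨qj, hqj, hqj'⟩ := Ideal.exists_minimalPrimes_le (I := ⊥) (J := 𝔭) bot_le
    by_cases hj : qj = q
    · left; rw [← hj]; exact hqj'
    · right
      rw [h𝔟₂]
      refine le_trans (Finset.inf_le (f := id) ?_) hqj'
      rw [Finset.mem_erase]
      exact ⟨hj, hfin.mem_toFinset.mpr hqj⟩
  have hb : ∀ 𝔭 : Ideal R', 𝔭.IsPrime → q ≤ 𝔭 → 𝔟₂ ≤ 𝔭 → 𝔭 = maximalIdeal R' := by
    intro 𝔭 h𝔭 h1 h2
    rcases eq_or_eq_of_dim_one q hdim 𝔭 h1 with h | h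
    · exfalso
      rw [h, h𝔟₂, Ideal.IsPrime.inf_le' hqp] at h2
      obtain ⟨qj, hqj, hqj'⟩ := h2
      rw [Finset.mem_erase] at hqj
      have hqjp : qj.IsPrime := (hfin.mem_toFinset.mp hqj.2).1.1
      exact hqj.1 (le_antisymm hqj' (hqmin qj hqjp hqj'))
    · exact h
  have hc : ∃ 𝔭 : Ideal R', 𝔭.IsPrime ∧ 𝔭 ≠ maximalIdeal R' := ⟨q, hqp, hqne⟩
  obtain ⟨N, k, hN, h0, hk⟩ := exists_pow_split q 𝔟₂ ha hb hc
  have hk' : ((maximalIdeal R).map (algebraMap R R')) ^ k ≤ q ^ N ⊔ 𝔟₂ ^ N := by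
    rw [← maximalIdeal_eq_map hNE]; exact hk
  have e1 := descend_split (maximalIdeal R) hNE (q ^ N) (𝔟₂ ^ N) h0 k hk'
  -- the contraction
  haveI := hNE.flat
  refine ⟨q.comap (algebraMap R R'), ⟨⟨Ideal.IsPrime.comap _, bot_le⟩, ?_⟩, ?_⟩
  · rintro y ⟨hy, -⟩ hle
    haveI := hy
    haveI : q.LiesOver (q.comap (algebraMap R R')) := ⟨rfl⟩
    obtain ⟨P, hPq, hP, hPy⟩ := Ideal.exists_ideal_le_liesOver_of_le (p := y)
      (q := q.comap (algebraMap R R')) q hle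
    have hPq' : P = q := le_antisymm hPq (hqmin P hP hPq)
    rw [hPq'] at hPy
    rw [hPy.over]
  · apply le_antisymm
    · rw [Ideal.IsPrime.radical_le_iff hqp]
      exact Ideal.map_comap_le
    · rw [Ideal.radical_eq_sInf]
      apply le_sInf
      rintro 𝔭 ⟨h1, h2⟩
      have h3 : q ^ N ≤ 𝔭 := by
        rw [e1]
        exact (Ideal.map_mono (Ideal.comap_mono (Ideal.pow_le_self (Nat.pos_iff_ne_zero.mp hN)))).trans h1
      exact Ideal.IsPrime.le_of_pow_le h3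

end Core

section Main

open Groth.Agent.Lib.Helper12.HzPair

variable (A S : Type u) [CommRing A] [IsLocalRing A] [IsNoetherianRing A] [CommRing S]
  [IsLocalRing S] [Algebra A S] [IsLocalHom (algebraMap A S)] [Hensel.IsHenselization A S]

theorem exists_bridge_local : ∃ g : S →+* AdicCompletion (maximalIdeal A) A,
    g.comp (algebraMap A S) = algebraMap A (AdicCompletion (maximalIdeal A) A) ∧
    IsNoetherianRing S ∧ Hens2.IsPairHenselization A (maximalIdeal A) S ∧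
    @NE S _ (maximalIdeal S) (AdicCompletion (maximalIdeal A) A) _ g.toAlgebra := by
  have hS : Hens2.IsPairHenselization A (maximalIdeal A) S :=
    Groth.Agent.Lib.Helper12.HensPairLoc.isPairHenselization_of_isHenselization A S
  obtain ⟨g, hg, hNE⟩ := exists_bridge A (maximalIdeal A) S hS
  have hmax := Groth.Agent.Lib.Helper12.HensPairLoc.map_maximalIdeal_of_isPairHenselization hS
  rw [hmax] at hNE
  exact ⟨g, hg, isNoetherianRing_of_isPairHenselization (maximalIdeal A) S hS, hS, hNE⟩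

theorem main9279 :
    IsPreconnected
        ({closedPoint (AdicCompletion (maximalIdeal A) A)}ᶜ :
          Set (PrimeSpectrum (AdicCompletion (maximalIdeal A) A))) ↔
      IsPreconnected ({closedPoint S}ᶜ : Set (PrimeSpectrum S)) := by
  obtain ⟨g, hg, hnoeth, -, hNE⟩ := exists_bridge_local A S
  letI := g.toAlgebra
  haveI := hnoeth
  haveI : IsNoetherianRing (AdicCompletion (maximalIdeal A) A) :=
    Groth.Agent.Lib.Helper21.isNoetherianRing_adicCompletion_of_fg _ (IsNoetherian.noetherian _)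
  haveI : HenselianLocalRing S := Hensel.IsHenselization.henselian (R := A)
  haveI : HenselianRing S (maximalIdeal S) := inferInstance
  exact ⟨isPreconnected_of_completion hNE, isPreconnected_completion_of hNE⟩

theorem main9242 (ψ : S →+* AdicCompletion (maximalIdeal A) A)
    (hψ : ψ.comp (algebraMap A S) = algebraMap A (AdicCompletion (maximalIdeal A) A))
    (q : Ideal (AdicCompletion (maximalIdeal A) A))
    (hq : q ∈ minimalPrimes (AdicCompletion (maximalIdeal A) A))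
    (hdim : ringKrullDim (AdicCompletion (maximalIdeal A) A ⧸ q) = 1) :
    ∃ q' ∈ minimalPrimes S, (Ideal.map ψ q').radical = q := by
  obtain ⟨g, hg, hnoeth, hS, hNE⟩ := exists_bridge_local A S
  have hfg : (maximalIdeal A).FG := IsNoetherian.noetherian _
  haveI : IsAdicComplete ((maximalIdeal A).map
      (algebraMap A (AdicCompletion (maximalIdeal A) A))) (AdicCompletion (maximalIdeal A) A) :=
    AdicCompletion.isAdicComplete_self _ hfg
  have hHens : HenselianRing (AdicCompletion (maximalIdeal A) A) ((maximalIdeal A).map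
      (algebraMap A (AdicCompletion (maximalIdeal A) A))) := inferInstance
  obtain ⟨g₀, -, hg₀⟩ := hS.2 _ _ (algebraMap A (AdicCompletion (maximalIdeal A) A)) hHens le_rfl
  have hgψ : g = ψ := by rw [hg₀ g hg, hg₀ ψ hψ]
  subst hgψ
  letI := g.toAlgebra
  haveI := hnoeth
  haveI : IsNoetherianRing (AdicCompletion (maximalIdeal A) A) :=
    Groth.Agent.Lib.Helper21.isNoetherianRing_adicCompletion_of_fg _ hfg
  haveI : HenselianLocalRing S := Hensel.IsHenselization.henselian (R := A)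
  haveI : HenselianRing S (maximalIdeal S) := inferInstance
  exact exists_minimalPrime_radical_eq hNE q hq hdim

end Main

end Groth.Agent.Lib.Helper15.PunctConn
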