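import Mathlib
import Groth.Agent.Lib27.FibInj.Concl
import Groth.Agent.Lib27.FibInj.UnivInj

/-!
# Content ideals and universal injectivity (general lemmas for S1293)
-/

set_option autoImplicit false

open TensorProduct Function

namespace Groth.Agent.Lib.Helper15.PureSp1

variable {A : Type*} [CommRing A]

/-- membership in `J • ⊤` via tensoring with `A ⧸ J` -/
theorem mem_smul_top_iff_tmul_eq_zero {N : Type*} [AddCommGroup N] [Module A N] (J : Ideal A)
    (y : N) :
    y ∈ J • (⊤ : Submodule A N) ↔ (1 : A ⧸ J) ⊗ₜ[A] y = (0 : (A ⧸ J) ⊗[A] N) := by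
  rw [← (TensorProduct.quotTensorEquivQuotSMul N J).map_eq_zero_iff,
    TensorProduct.quotTensorEquivQuotSMul_mk_one_tmul, Submodule.Quotient.mk_eq_zero]

/-- linear maps preserve `J • ⊤` -/
theorem map_mem_smul_top {X Y : Type*} [AddCommGroup X] [Module A X] [AddCommGroup Y] [Module A Y]
    (φ : X →ₗ[A] Y) (J : Ideal A) {x : X} (hx : x ∈ J • (⊤ : Submodule A X)) :
    φ x ∈ J • (⊤ : Submodule A Y) := by
  refine Submodule.smul_induction_on hx ?_ ?_
  · intro a ha z _
    rw [map_smul]
    exact Submodule.smul_mem_smul ha Submodule.mem_top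
  · intro z w hz hw
    rw [map_add]
    exact Submodule.add_mem _ hz hw

/-- coordinates of elements of `J • ⊤` of a free module lie in `J` -/
theorem finsupp_apply_mem {ι : Type*} (J : Ideal A) {f : ι →₀ A}
    (hf : f ∈ J • (⊤ : Submodule A (ι →₀ A))) (j : ι) : f j ∈ J := by
  refine Submodule.smul_induction_on hf ?_ ?_
  · intro a ha z _
    rw [Finsupp.smul_apply, smul_eq_mul]
    exact Ideal.mul_mem_right _ _ ha
  · intro z w hz hw
    rw [Finsupp.add_apply]
    exact Ideal.add_mem _ hz hw

/-- an element of a free module with coordinates in `J` lies in `J • ⊤` -/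
theorem finsupp_mem_smul_top {ι : Type*} (J : Ideal A) (f : ι →₀ A) (hf : ∀ j, f j ∈ J) :
    f ∈ J • (⊤ : Submodule A (ι →₀ A)) := by
  classical
  have h1 : f = f.sum (fun j a => a • Finsupp.single j (1 : A)) := by
    conv_lhs => rw [← Finsupp.sum_single f]
    refine Finsupp.sum_congr fun j _ => ?_
    rw [Finsupp.smul_single, smul_eq_mul, mul_one]
  rw [h1]
  exact Submodule.sum_mem _ fun j _ => Submodule.smul_mem_smul (hf j) Submodule.mem_top

/-- elements of projective modules have finitely generated content ideals -/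
theorem exists_content_of_projective {P : Type*} [AddCommGroup P] [Module A P]
    [Module.Projective A P] (n : P) :
    ∃ c : Ideal A, c.FG ∧ ∀ J : Ideal A, n ∈ J • (⊤ : Submodule A P) ↔ c ≤ J := by
  classical
  obtain ⟨s, hs⟩ := Module.projective_def'.mp (inferInstance : Module.Projective A P)
  refine ⟨Ideal.span (((s n).support.image (s n) : Finset A) : Set A),
    Submodule.fg_span (Finset.finite_toSet _), fun J => ⟨fun h => ?_, fun h => ?_⟩⟩
  · rw [Ideal.span_le]
    intro a ha
    rw [Finset.mem_coe, Finset.mem_image] at ha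
    obtain ⟨j, _, rfl⟩ := ha
    exact finsupp_apply_mem J (map_mem_smul_top s J h) j
  · have h1 : ∀ j, s n j ∈ J := by
      intro j
      by_cases hj : j ∈ (s n).support
      · exact h (Ideal.subset_span (Finset.mem_coe.mpr (Finset.mem_image_of_mem _ hj)))
      · rw [Finsupp.notMem_support_iff.mp hj]
        exact Ideal.zero_mem _
    have h2 := map_mem_smul_top (Finsupp.linearCombination A (id : P → P)) J
      (finsupp_mem_smul_top J (s n) h1)
    have h3 : Finsupp.linearCombination A (id : P → P) (s n) = n := by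
      have := LinearMap.congr_fun hs n
      simpa using this
    rwa [h3] at h2

section Killed

variable {N M : Type*} [AddCommGroup N] [Module A N] [AddCommGroup M] [Module A M]

/-- if `u ⊗ A/m` is injective then `u ⊗ V` is injective for every module `V` killed by `m`. -/
theorem lTensor_injective_of_killed (u : N →ₗ[A] M) (m : Ideal A) [hm : m.IsMaximal]
    (hu : Injective (u.lTensor (A ⧸ m)))
    (V : Type*) [AddCommGroup V] [Module A V] (hV : ∀ a ∈ m, ∀ v : V, a • v = 0) :
    Injective (u.lTensor V) := by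
  letI : Field (A ⧸ m) := Ideal.Quotient.field m
  -- left inverse of `u ⊗ κ`
  have hker : LinearMap.ker (u.baseChange (A ⧸ m)) = ⊥ := by
    rw [LinearMap.ker_eq_bot]
    intro z w hzw
    apply hu
    have h1 : ∀ t, u.baseChange (A ⧸ m) t = u.lTensor (A ⧸ m) t := fun t => by
      rw [LinearMap.baseChange_eq_ltensor]
    rw [← h1, ← h1]
    exact hzw
  obtain ⟨r, hr⟩ := (u.baseChange (A ⧸ m)).exists_leftInverse_of_injective hker
  have hr' : (r.restrictScalars A) ∘ₗ (u.lTensor (A ⧸ m)) = LinearMap.id := by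
    refine LinearMap.ext fun z => ?_
    have := LinearMap.congr_fun hr z
    simpa [LinearMap.baseChange_eq_ltensor] using this
  -- `m • ⊤ = ⊥` in `V`
  have hbot : m • (⊤ : Submodule A V) = ⊥ := by
    rw [eq_bot_iff]
    intro v hv
    refine Submodule.smul_induction_on hv ?_ ?_
    · intro a ha z _
      rw [hV a ha z]
      exact Submodule.zero_mem _
    · intro z w hz hw
      exact Submodule.add_mem _ hz hw
  let θ : (A ⧸ m) ⊗[A] V →ₗ[A] V :=
    (Submodule.quotEquivOfEqBot _ hbot).toLinearMap ∘ₗ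
      (TensorProduct.quotTensorEquivQuotSMul V m).toLinearMap
  have hθ : ∀ v : V, θ ((1 : A ⧸ m) ⊗ₜ[A] v) = v := by
    intro v
    simp only [θ, LinearMap.coe_comp, LinearEquiv.coe_coe, Function.comp_apply,
      TensorProduct.quotTensorEquivQuotSMul_mk_one_tmul]
    rfl
  -- the comparison maps
  let ψN : V ⊗[A] N →ₗ[A] V ⊗[A] ((A ⧸ m) ⊗[A] N) := (TensorProduct.mk A (A ⧸ m) N 1).lTensor V
  let ψM : V ⊗[A] M →ₗ[A] V ⊗[A] ((A ⧸ m) ⊗[A] M) := (TensorProduct.mk A (A ⧸ m) M 1).lTensor V
  let φ : V ⊗[A] ((A ⧸ m) ⊗[A] N) →ₗ[A] V ⊗[A] N :=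
    (θ.rTensor N) ∘ₗ (TensorProduct.assoc A (A ⧸ m) V N).symm.toLinearMap ∘ₗ
      (TensorProduct.leftComm A V (A ⧸ m) N).toLinearMap
  have hφψ : φ ∘ₗ ψN = LinearMap.id := by
    apply TensorProduct.ext'
    intro v n
    simp only [φ, ψN, LinearMap.coe_comp, LinearEquiv.coe_coe, Function.comp_apply,
      LinearMap.lTensor_tmul, TensorProduct.mk_apply, TensorProduct.leftComm_tmul,
      TensorProduct.assoc_symm_tmul, LinearMap.rTensor_tmul, hθ, LinearMap.id_coe, id_eq]
  have hnat : ((u.lTensor (A ⧸ m)).lTensor V) ∘ₗ ψN = ψM ∘ₗ (u.lTensor V) := by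
    apply TensorProduct.ext'
    intro v n
    simp only [ψN, ψM, LinearMap.coe_comp, Function.comp_apply, LinearMap.lTensor_tmul,
      TensorProduct.mk_apply]
  rw [injective_iff_map_eq_zero]
  intro z hz
  have h1 : ((u.lTensor (A ⧸ m)).lTensor V) (ψN z) = 0 := by
    have := LinearMap.congr_fun hnat z
    simp only [LinearMap.coe_comp, Function.comp_apply] at this
    rw [this, hz, map_zero]
  have h2 : ψN z = 0 := by
    have h3 : ((r.restrictScalars A).lTensor V) (((u.lTensor (A ⧸ m)).lTensor V) (ψN z)) =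
        ψN z := by
      rw [← LinearMap.comp_apply, ← LinearMap.lTensor_comp, hr', LinearMap.lTensor_id,
        LinearMap.id_apply]
    rw [← h3, h1, map_zero]
  have h4 := LinearMap.congr_fun hφψ z
  simp only [LinearMap.coe_comp, Function.comp_apply, LinearMap.id_coe, id_eq] at h4
  rw [← h4, h2, map_zero]

end Killed

end Groth.Agent.Lib.Helper15.PureSp1
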