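import Mathlib
import Groth.Agent.Lib.Helper15.PureSp1

/-!
# Universal injectivity from content ideals (for S1293)
-/

set_option autoImplicit false

open TensorProduct Function

namespace Groth.Agent.Lib.Helper15.PureSp2

open Groth.Agent.Lib.Helper15.PureSp1

variable {A : Type*} [CommRing A]

/-- global Nakayama: if `I < K` with `K` finitely generated, some maximal `m` has
`K ≰ m K + I`. -/
theorem exists_maximal_not_le (I K : Ideal A) (hK : K.FG) (hIK : I ≤ K) (hne : ¬ K ≤ I) :
    ∃ m : Ideal A, m.IsMaximal ∧ ¬ K ≤ m * K ⊔ I := by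
  -- the annihilator of `K/I`
  have hcol : I.colon K ≠ ⊤ := by
    intro htop
    have h1 : (1 : A) ∈ I.colon K := by rw [htop]; trivial
    rw [Submodule.mem_colon] at h1
    exact hne fun k hk => by simpa using h1 k hk
  obtain ⟨m, hm, hle⟩ := Ideal.exists_le_maximal _ hcol
  refine ⟨m, hm, fun hK' => ?_⟩
  -- Nakayama in `A ⧸ I`
  have hfg : (Submodule.map (Submodule.mkQ I) K : Submodule A (A ⧸ I)).FG := Submodule.FG.map _ hK
  have hin : (Submodule.map (Submodule.mkQ I) K : Submodule A (A ⧸ I)) ≤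
      m • (Submodule.map (Submodule.mkQ I) K : Submodule A (A ⧸ I)) := by
    rintro _ ⟨k, hk, rfl⟩
    have h1 := hK' hk
    rw [Submodule.mem_sup] at h1
    obtain ⟨y, hy, z, hz, rfl⟩ := h1
    rw [map_add]
    have h2 : Submodule.mkQ I z = 0 := by
      rw [Submodule.mkQ_apply, Submodule.Quotient.mk_eq_zero]; exact hz
    rw [h2, add_zero]
    -- `y ∈ m * K`
    refine Submodule.smul_induction_on (p := fun y => Submodule.mkQ I y ∈
      m • (Submodule.map (Submodule.mkQ I) K : Submodule A (A ⧸ I))) hy ?_ ?_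
    · intro a ha k' hk'
      rw [smul_eq_mul, ← smul_eq_mul, map_smul]
      exact Submodule.smul_mem_smul ha (Submodule.mem_map_of_mem hk')
    · intro y₁ y₂ h₁ h₂
      rw [map_add]
      exact Submodule.add_mem _ h₁ h₂
  obtain ⟨r, hr1, hr2⟩ :=
    Submodule.exists_sub_one_mem_and_smul_eq_zero_of_fg_of_le_smul m _ hfg hin
  have hrcol : r ∈ I.colon K := by
    rw [Submodule.mem_colon]
    intro k hk
    have h1 := hr2 _ (Submodule.mem_map_of_mem (f := Submodule.mkQ I) hk)
    rw [← map_smul, Submodule.mkQ_apply, Submodule.Quotient.mk_eq_zero] at h1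
    exact h1
  have hrm : r ∈ m := hle hrcol
  have h1 : (1 : A) ∈ m := by
    have := m.sub_mem hrm hr1
    simpa using this
  exact hm.ne_top ((Ideal.eq_top_iff_one _).mpr h1)

variable {N M : Type*} [AddCommGroup N] [Module A N] [AddCommGroup M] [Module A M]

/-- the key step: if `x` has a finitely generated content ideal and `u x ∈ I M` then `x ∈ I N`. -/
theorem mem_of_map_mem (u : N →ₗ[A] M) [Module.Flat A M]
    (hu : ∀ (m : Ideal A) [m.IsMaximal], Injective (u.lTensor (A ⧸ m)))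
    (x : N) (c : Ideal A) (hcfg : c.FG)
    (hc : ∀ J : Ideal A, x ∈ J • (⊤ : Submodule A N) ↔ c ≤ J)
    (I : Ideal A) (hI : I.FG) (hx : u x ∈ I • (⊤ : Submodule A M)) :
    x ∈ I • (⊤ : Submodule A N) := by
  by_contra hne
  rw [hc] at hne
  have hKfg : (c ⊔ I).FG := Submodule.FG.sup hcfg hI
  have hKI : ¬ (c ⊔ I) ≤ I := fun h => hne (le_sup_left.trans h)
  obtain ⟨m, hm, hmK⟩ := exists_maximal_not_le I (c ⊔ I) hKfg le_sup_right hKI
  haveI := hm
  apply hmK
  -- it suffices to show `x ∈ J N` for `J = m K + I`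
  suffices hxJ : x ∈ (m * (c ⊔ I) ⊔ I) • (⊤ : Submodule A N) by
    exact sup_le ((hc _).mp hxJ) le_sup_right
  obtain ⟨K, hKdef⟩ : ∃ K : Ideal A, K = c ⊔ I := ⟨_, rfl⟩
  obtain ⟨J, hJdef⟩ : ∃ J : Ideal A, J = m * K ⊔ I := ⟨_, rfl⟩
  rw [← hKdef, ← hJdef]
  have hxK : x ∈ K • (⊤ : Submodule A N) := by
    rw [hc, hKdef]; exact le_sup_left
  have hIJ : I ≤ J := by rw [hJdef]; exact le_sup_right
  have hmKJ : m * K ≤ J := by rw [hJdef]; exact le_sup_left
  -- the module `V = K/J ⊆ A/J`
  let V : Submodule A (A ⧸ J) := Submodule.map (Submodule.mkQ J) K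
  have hV : ∀ a ∈ m, ∀ v : V, a • v = 0 := by
    rintro a ha ⟨_, ⟨k, hk, rfl⟩⟩
    apply Subtype.ext
    change a • Submodule.mkQ J k = 0
    rw [← map_smul, Submodule.mkQ_apply, Submodule.Quotient.mk_eq_zero, smul_eq_mul]
    exact hmKJ (Ideal.mul_mem_mul ha hk)
  -- lift `1 ⊗ x`
  have hlift : ∀ y ∈ K • (⊤ : Submodule A N),
      (1 : A ⧸ J) ⊗ₜ[A] y ∈ LinearMap.range (V.subtype.rTensor N) := by
    intro y hy
    refine Submodule.smul_induction_on hy ?_ ?_
    · intro k hk z _
      refine ⟨(⟨Submodule.mkQ J k, Submodule.mem_map_of_mem hk⟩ : V) ⊗ₜ[A] z, ?_⟩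
      have hk1 : Submodule.mkQ J k = k • (1 : A ⧸ J) := by
        rw [Submodule.mkQ_apply]
        have : (Submodule.Quotient.mk (k • (1 : A)) : A ⧸ J) = k • Submodule.Quotient.mk (1 : A) :=
          Submodule.Quotient.mk_smul J k 1
        rw [smul_eq_mul, mul_one] at this
        rw [this]
        rfl
      rw [LinearMap.rTensor_tmul, Submodule.subtype_apply]
      change Submodule.mkQ J k ⊗ₜ[A] z = _
      rw [hk1, TensorProduct.smul_tmul]
    · intro y₁ y₂ h₁ h₂
      rw [TensorProduct.tmul_add]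
      exact Submodule.add_mem _ h₁ h₂
  obtain ⟨ξ, hξ⟩ := hlift x hxK
  have h1 : (u.lTensor (A ⧸ J)) ((1 : A ⧸ J) ⊗ₜ[A] x) = 0 := by
    rw [LinearMap.lTensor_tmul]
    exact (mem_smul_top_iff_tmul_eq_zero J (u x)).mp
      (Submodule.smul_mono_left hIJ hx)
  have hnat : (u.lTensor (A ⧸ J)) ∘ₗ (V.subtype.rTensor N) =
      (V.subtype.rTensor M) ∘ₗ (u.lTensor V) := by
    rw [LinearMap.lTensor_comp_rTensor, LinearMap.rTensor_comp_lTensor]
  have hιM : Injective (V.subtype.rTensor M) :=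
    Module.Flat.rTensor_preserves_injective_linearMap V.subtype (Submodule.injective_subtype V)
  have hL := lTensor_injective_of_killed u m (hu m) V hV
  have h2 : (u.lTensor V) ξ = 0 := by
    apply hιM
    rw [map_zero, ← LinearMap.comp_apply, ← hnat, LinearMap.comp_apply, hξ, h1]
  have h3 : ξ = 0 := hL (h2.trans (map_zero _).symm)
  rw [mem_smul_top_iff_tmul_eq_zero J x, ← hξ, h3, map_zero]

/-- if every element of `N` has a finitely generated content ideal, `M` is flat and `u : N → M`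
is injective modulo every maximal ideal, then `u` is universally injective. -/
theorem lTensor_injective_of_content (u : N →ₗ[A] M) [Module.Flat A M]
    (hu : ∀ (m : Ideal A) [m.IsMaximal], Injective (u.lTensor (A ⧸ m)))
    (hcont : ∀ x : N, ∃ c : Ideal A, c.FG ∧ ∀ J : Ideal A, x ∈ J • (⊤ : Submodule A N) ↔ c ≤ J)
    (Q : Type*) [AddCommGroup Q] [Module A Q] : Injective (u.lTensor Q) := by
  obtain ⟨hinj, hflat⟩ := Groth.Agent.Lib27.FibInj.injective_and_flat_of_forall_mem u
    (fun I hI x hx => by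
      obtain ⟨c, hcfg, hc⟩ := hcont x
      exact mem_of_map_mem u hu x c hcfg hc I hI hx)
  haveI := hflat
  exact Groth.Agent.Lib27.FibInj.lTensor_injective_of_flat_coker u hinj Q

end Groth.Agent.Lib.Helper15.PureSp2
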