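import Mathlib
import Groth.Prelude
import Groth.Agent.Lib.Helper15.PureSp2

/-!
# Content ideals and universal injectivity from a pure spreadout (S1293)
-/

set_option autoImplicit false

open TensorProduct Function

namespace Groth.Agent.Lib.Helper15.PureSp3

open Groth.Agent.Lib.Helper15.PureSp1 Groth.Agent.Lib.Helper15.PureSp2

universe u

section Spread

variable {A B C : Type u} [CommRing A] [CommRing B] [CommRing C] [Algebra A B] [Algebra B C]
  [Algebra A C] [IsScalarTower A B C] (T : Submonoid B)
  [Algebra C (Localization T)] [IsScalarTower B C (Localization T)]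
  [IsScalarTower A C (Localization T)]
  {N : Type u} [AddCommGroup N] [Module (Localization T) N] [Module A N]
  [IsScalarTower A (Localization T) N] [Module C N] [IsScalarTower C (Localization T) N]
  [IsScalarTower A C N]
  {N' : Type u} [AddCommGroup N'] [Module C N'] [Module A N'] [IsScalarTower A C N']
  (g : N' →ₗ[C] N)

omit [Algebra A B] [Algebra A C] [IsScalarTower A B C] [IsScalarTower A C (Localization T)]
  [Module A N] [IsScalarTower A (Localization T) N] [IsScalarTower A C N] [Module A N']
  [IsScalarTower A C N'] in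
/-- every element of `N` is, up to a denominator in `T`, in the image of `N'`. -/
theorem exists_smul_eq (hbc : IsBaseChange (Localization T) g) (x : N) :
    ∃ t ∈ T, ∃ n' : N', (algebraMap B (Localization T) t) • x = g n' := by
  have hB : ∀ (b : B) (y : N), (algebraMap B (Localization T) b) • y = (algebraMap B C b) • y := by
    intro b y
    rw [IsScalarTower.algebraMap_apply B C (Localization T), algebraMap_smul]
  refine hbc.inductionOn x (fun x => ∃ t ∈ T, ∃ n' : N', (algebraMap B (Localization T) t) • x = g n')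
    ⟨1, T.one_mem, 0, by simp⟩ (fun m => ⟨1, T.one_mem, m, by simp⟩) ?_ ?_
  · rintro l n ⟨t, ht, n', hn'⟩
    obtain ⟨b, s, rfl⟩ := IsLocalization.exists_mk'_eq T l
    refine ⟨s * t, T.mul_mem s.2 ht, (algebraMap B C b) • n', ?_⟩
    rw [map_smul, ← hn', ← hB, smul_smul, smul_smul]
    congr 1
    rw [map_mul, mul_assoc, mul_comm _ (IsLocalization.mk' _ b s), ← mul_assoc,
      IsLocalization.mk'_spec', mul_comm]
  · rintro n₁ n₂ ⟨t₁, ht₁, n'₁, h₁⟩ ⟨t₂, ht₂, n'₂, h₂⟩
    refine ⟨t₁ * t₂, T.mul_mem ht₁ ht₂, (algebraMap B C t₂) • n'₁ + (algebraMap B C t₁) • n'₂, ?_⟩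
    rw [map_add, map_smul, map_smul, ← h₁, ← h₂, ← hB, ← hB, smul_add, smul_smul, smul_smul,
      map_mul, mul_comm]

/-- `J N` is stable under the scalars of `T⁻¹B`. -/
theorem smul_mem_smul_top (J : Ideal A) (l : Localization T) {y : N}
    (hy : y ∈ J • (⊤ : Submodule A N)) : l • y ∈ J • (⊤ : Submodule A N) := by
  refine Submodule.smul_induction_on hy ?_ ?_
  · intro a ha z _
    rw [smul_comm]
    exact Submodule.smul_mem_smul ha Submodule.mem_top
  · intro z w hz hw
    rw [smul_add]
    exact Submodule.add_mem _ hz hw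

/-- content comparison between `x` and `n'` when `t x = g n'`. -/
theorem mem_smul_top_iff (hui : FlatCA.UnivInj A (g.restrictScalars A)) {x : N} {t : B}
    (ht : t ∈ T) {n' : N'} (h : (algebraMap B (Localization T) t) • x = g n') (J : Ideal A) :
    x ∈ J • (⊤ : Submodule A N) ↔ n' ∈ J • (⊤ : Submodule A N') := by
  constructor
  · intro hx
    have h1 : g n' ∈ J • (⊤ : Submodule A N) := by
      rw [← h]; exact smul_mem_smul_top T J _ hx
    rw [mem_smul_top_iff_tmul_eq_zero] at h1 ⊢
    apply hui (A ⧸ J)
    rw [map_zero, LinearMap.lTensor_tmul]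
    exact h1
  · intro hn
    have h1 : g n' ∈ J • (⊤ : Submodule A N) := map_mem_smul_top (g.restrictScalars A) J hn
    rw [← h] at h1
    have hunit : IsUnit (algebraMap B (Localization T) t) := IsLocalization.map_units _ ⟨t, ht⟩
    obtain ⟨v, hv⟩ := hunit
    have h2 := smul_mem_smul_top T J (↑v⁻¹ : Localization T) h1
    rwa [smul_smul, ← hv, Units.inv_mul, one_smul] at h2

/-- every element of `N` has a finitely generated content ideal. -/
theorem exists_content (hbc : IsBaseChange (Localization T) g) [Module.Projective A N']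
    (hui : FlatCA.UnivInj A (g.restrictScalars A)) (x : N) :
    ∃ c : Ideal A, c.FG ∧ ∀ J : Ideal A, x ∈ J • (⊤ : Submodule A N) ↔ c ≤ J := by
  obtain ⟨t, ht, n', h⟩ := exists_smul_eq T g hbc x
  obtain ⟨c, hcfg, hc⟩ := exists_content_of_projective (A := A) n'
  exact ⟨c, hcfg, fun J => (mem_smul_top_iff T g hui ht h J).trans (hc J)⟩

end Spread

/-- S1293 -/
theorem main1293 {A B : Type u} [CommRing A] [CommRing B] [Algebra A B]
    (T : Submonoid B) (N : Type u) [AddCommGroup N] [Module (Localization T) N] [Module A N]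
    [IsScalarTower A (Localization T) N]
    (h : FlatCA.HasPureSpreadout A B T N) :
    (∀ x : N, ∃ I : Ideal A, x ∈ I • (⊤ : Submodule A N) ∧
      ∀ J : Ideal A, x ∈ J • (⊤ : Submodule A N) → I ≤ J) ∧
    ∀ (M : Type u) [AddCommGroup M] [Module A M] [Module.Flat A M] (u : N →ₗ[A] M),
      (∀ (m : Ideal A) [m.IsMaximal], Function.Injective (u.lTensor (A ⧸ m))) →
        FlatCA.UnivInj A u := by
  obtain ⟨C, i1, i2, i3, i4, i5, i6, i7, i8, i9, i10, N', i11, i12, i13, i14, g, -, -, hbc, hproj,
    hui⟩ := h
  letI := i1; letI := i2; letI := i3; haveI := i4; letI := i5; haveI := i6; haveI := i7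
  letI := i8; haveI := i9; haveI := i10; letI := i11; letI := i12; letI := i13; haveI := i14
  haveI := hproj
  have hcont := exists_content T g hbc hui
  refine ⟨fun x => ?_, fun M _ _ _ u hu => ?_⟩
  · obtain ⟨c, -, hc⟩ := hcont x
    exact ⟨c, (hc c).mpr le_rfl, fun J hJ => (hc J).mp hJ⟩
  · intro Q _ _
    exact lTensor_injective_of_content u hu hcont Q

end Groth.Agent.Lib.Helper15.PureSp3
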