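import Mathlib
import Groth.Agent.Lib.Helper15.QSplit4

/-! Pointed étale ring maps (étale analogue of `Good`). -/

set_option autoImplicit false
set_option linter.style.haveILetI false

namespace Groth.Agent.Lib.Helper15.QSplit

open Polynomial

universe u

section GoodE

/-- an étale ring map with a chosen prime over a given prime -/
def GoodE {T T' : Type u} [CommRing T] [CommRing T'] (φ : T →+* T') (p : PrimeSpectrum T)
    (q : PrimeSpectrum T') : Prop :=
  φ.Etale ∧ PrimeSpectrum.comap φ q = p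

lemma GoodE.good {T T' : Type u} [CommRing T] [CommRing T'] {φ : T →+* T'}
    {p : PrimeSpectrum T} {q : PrimeSpectrum T'} (h : GoodE φ p q) : Good φ p q := by
  obtain ⟨h1, h2⟩ := h
  rw [RingHom.Etale.iff_flat_and_formallyUnramified] at h1
  exact ⟨h1.1, h1.2.2, h2⟩

lemma GoodE.comp {T T' T'' : Type u} [CommRing T] [CommRing T'] [CommRing T'']
    {φ : T →+* T'} {ψ : T' →+* T''} {p : PrimeSpectrum T} {q : PrimeSpectrum T'}
    {r : PrimeSpectrum T''} (h : GoodE φ p q) (h' : GoodE ψ q r) : GoodE (ψ.comp φ) p r := by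
  refine ⟨RingHom.Etale.stableUnderComposition _ _ h.1 h'.1, ?_⟩
  rw [← h.2, ← h'.2]
  rfl

lemma GoodE.id {T : Type u} [CommRing T] (p : PrimeSpectrum T) : GoodE (RingHom.id T) p p := by
  refine ⟨RingHom.Etale.containsIdentities T, ?_⟩
  ext x; rfl

theorem goodE_away {T : Type u} [CommRing T] (p : PrimeSpectrum T) (g : T) (hg : g ∉ p.asIdeal) :
    ∃ (T' : Type u) (_ : CommRing T') (φ : T →+* T') (q : PrimeSpectrum T'),
      GoodE φ p q ∧ IsUnit (φ g) := by
  have hp : p ∈ Set.range (PrimeSpectrum.comap (algebraMap T (Localization.Away g))) := by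
    rw [PrimeSpectrum.localization_away_comap_range (Localization.Away g) g]
    exact hg
  obtain ⟨q, hq⟩ := hp
  refine ⟨Localization.Away g, inferInstance, algebraMap T _, q, ⟨?_, hq⟩,
    IsLocalization.Away.algebraMap_isUnit g⟩
  rw [RingHom.etale_algebraMap]
  exact Algebra.Etale.of_isLocalizationAway g

/-- adjoining a root of a monic quadratic with unit discriminant, as a standard étale algebra -/
theorem goodE_monic_quadratic {T : Type u} [CommRing T] (p : PrimeSpectrum T) (β γ : T)
    (hΔ : IsUnit (β * β - 4 * γ)) :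
    ∃ (T' : Type u) (_ : CommRing T') (φ : T →+* T') (q : PrimeSpectrum T') (θ : T'),
      GoodE φ p q ∧ θ ^ 2 + (φ β * θ + φ γ) = 0 := by
  haveI : Nontrivial T := nontrivial_of_prime p
  obtain ⟨Δi, hΔi⟩ := hΔ.exists_left_inv
  let P : T[X] := X ^ 2 + (C β * X + C γ)
  have hlt : (C β * X + C γ : T[X]).degree < ((2 : ℕ) : WithBot ℕ) :=
    lt_of_le_of_lt (degree_linear_le) (by norm_num)
  have hP : P.Monic := monic_X_pow_add hlt
  have hdeg : P.natDegree = 2 := natDegree_X_sq_add _ hlt
  have hder : derivative P = C 2 * X + C β := by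
    simp only [P, derivative_add, derivative_X_pow, derivative_mul, derivative_C, derivative_X,
      zero_mul, mul_one, zero_add, add_zero]
    norm_num
  have hcond : derivative P * (C Δi * (C 2 * X + C β)) + P * (- C (4 * Δi)) = 1 ^ 0 := by
    have h1 : (C 2 * X + C β : T[X]) * (C 2 * X + C β) - C 4 * P = C (β * β - 4 * γ) := by
      simp only [P, C_sub, C_mul]
      have h2 : (C (2 : T) : T[X]) = 2 := map_ofNat C 2
      have h4 : (C (4 : T) : T[X]) = 4 := map_ofNat C 4
      rw [h2, h4]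
      ring
    rw [hder, pow_zero]
    calc (C 2 * X + C β : T[X]) * (C Δi * (C 2 * X + C β)) + P * (- C (4 * Δi))
        = C Δi * ((C 2 * X + C β : T[X]) * (C 2 * X + C β) - C 4 * P) := by
          rw [C_mul]; ring
      _ = 1 := by rw [h1, ← C_mul, hΔi, C_1]
  let Pair : StandardEtalePair T := ⟨P, hP, 1, ⟨_, _, 0, hcond⟩⟩
  -- `Pair.Ring` is isomorphic to `AdjoinRoot P`, hence faithfully flat
  haveI : Module.Free T (AdjoinRoot P) := hP.free_adjoinRoot
  haveI : Nontrivial (AdjoinRoot P) := by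
    refine ⟨⟨AdjoinRoot.mk P 1, 0, ?_⟩⟩
    apply AdjoinRoot.mk_ne_zero_of_natDegree_lt hP one_ne_zero
    rw [natDegree_one]; omega
  let e₁ : Pair.Ring ≃ₐ[T] Localization.Away (AdjoinRoot.mk P (1 : T[X])) :=
    Pair.equivAwayAdjoinRoot
  have hle : Submonoid.powers (AdjoinRoot.mk P (1 : T[X])) ≤ IsUnit.submonoid (AdjoinRoot P) := by
    rw [Submonoid.powers_le]
    change IsUnit (AdjoinRoot.mk P (1 : T[X]))
    rw [map_one]; exact isUnit_one
  let e₂ : AdjoinRoot P ≃ₐ[AdjoinRoot P] Localization.Away (AdjoinRoot.mk P (1 : T[X])) :=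
    IsLocalization.atUnits (AdjoinRoot P) _ hle
  let e : AdjoinRoot P ≃ₗ[T] Pair.Ring :=
    ((e₂.restrictScalars T).trans e₁.symm).toLinearEquiv
  haveI : Module.FaithfullyFlat T Pair.Ring := Module.FaithfullyFlat.of_linearEquiv T _ e.symm
  obtain ⟨q, hq⟩ := PrimeSpectrum.comap_surjective_of_faithfullyFlat (A := T) (B := Pair.Ring) p
  refine ⟨Pair.Ring, inferInstance, algebraMap T _, q, Pair.X, ⟨?_, hq⟩, ?_⟩
  · rw [RingHom.etale_algebraMap]
    infer_instance
  · have h1 : aeval Pair.X P = 0 := Pair.hasMap_X.1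
    simpa [P, aeval_def, eval₂_add, eval₂_mul, eval₂_pow] using h1

end GoodE

end Groth.Agent.Lib.Helper15.QSplit
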