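import Mathlib
import Groth.Agent.Lib.Helper15.QSplitE1
import Groth.Agent.Lib.Helper15.QSplit7

/-! Étale-local splitting of nondegenerate matrix forms of even rank (pointed version). -/

set_option autoImplicit false
set_option linter.style.haveILetI false

namespace Groth.Agent.Lib.Helper15.QSplit

open Matrix Polynomial
open Groth.Agent.Lib.Helper2.HalfDisc

universe u v

section QuadE

theorem goodE_quadratic {T : Type u} [CommRing T] (p : PrimeSpectrum T) (a b c : T)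
    (h : a * (b * b - 4 * a * c) ∉ p.asIdeal) :
    ∃ (T' : Type u) (_ : CommRing T') (φ : T →+* T') (q : PrimeSpectrum T') (θ : T'),
      GoodE φ p q ∧ IsUnit (φ a) ∧ φ a * θ * θ + φ b * θ + φ c = 0 ∧
        IsUnit (2 * φ a * θ + φ b) := by
  obtain ⟨T₁, _, φ₁, q₁, hg₁, hu⟩ := goodE_away p _ h
  rw [map_mul] at hu
  have hua : IsUnit (φ₁ a) := isUnit_of_mul_isUnit_left hu
  have hud : IsUnit (φ₁ (b * b - 4 * a * c)) := isUnit_of_mul_isUnit_right hu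
  obtain ⟨u, hu1⟩ := hua.exists_left_inv
  have huu : IsUnit u := IsUnit.of_mul_eq_one _ hu1
  have hΔ : IsUnit ((u * φ₁ b) * (u * φ₁ b) - 4 * (u * φ₁ c)) := by
    have : (u * φ₁ b) * (u * φ₁ b) - 4 * (u * φ₁ c) = u * u * φ₁ (b * b - 4 * a * c) := by
      simp only [map_sub, map_mul, map_ofNat]
      linear_combination (4 * u * φ₁ c) * hu1
    rw [this]
    exact (huu.mul huu).mul hud
  obtain ⟨T₂, _, φ₂, q₂, θ, hg₂, hθ'⟩ := goodE_monic_quadratic q₁ (u * φ₁ b) (u * φ₁ c) hΔ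
  have hu2 : φ₂ u * φ₂ (φ₁ a) = 1 := by rw [← map_mul, hu1, map_one]
  have hquad : φ₂ (φ₁ a) * θ * θ + φ₂ (φ₁ b) * θ + φ₂ (φ₁ c) = 0 := by
    have := congrArg (fun z => φ₂ (φ₁ a) * z) hθ'
    simp only [mul_zero, map_mul] at this
    linear_combination this - (φ₂ (φ₁ b) * θ + φ₂ (φ₁ c)) * hu2
  refine ⟨T₂, inferInstance, φ₂.comp φ₁, q₂, θ, hg₁.comp hg₂, ?_, hquad, ?_⟩
  · exact (hu.map φ₂ |> fun h => isUnit_of_mul_isUnit_left (by rwa [map_mul] at h))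
  · have hsq : (2 * φ₂ (φ₁ a) * θ + φ₂ (φ₁ b)) * (2 * φ₂ (φ₁ a) * θ + φ₂ (φ₁ b)) =
        φ₂ (φ₁ (b * b - 4 * a * c)) := by
      simp only [map_sub, map_mul, map_ofNat]
      linear_combination 4 * φ₂ (φ₁ a) * hquad
    have : IsUnit ((2 * φ₂ (φ₁ a) * θ + φ₂ (φ₁ b)) * (2 * φ₂ (φ₁ a) * θ + φ₂ (φ₁ b))) := by
      rw [hsq]; exact hud.map φ₂
    exact isUnit_of_mul_isUnit_left this

end QuadE

section ExchangeE
variable {T : Type u} [CommRing T] {ι : Type v} [Fintype ι] [DecidableEq ι]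

/-- first exchangeE: make `e` a basis vector -/
theorem exchangeE_one (W : Matrix ι ι T) (p : PrimeSpectrum T) (e f : ι → T)
    (he : qf W e = 0) (hf : qf W f = 0) (hef : bf W e f = 1) (t₁ : ι) :
    ∃ (T' : Type u) (_ : CommRing T') (φ : T →+* T') (q : PrimeSpectrum T')
      (G : Matrix ι ι T') (f' : ι → T'), GoodE φ p q ∧ IsUnit G.det ∧
      qf (Gᵀ * W.map φ * G) (Pi.single t₁ 1) = 0 ∧ qf (Gᵀ * W.map φ * G) f' = 0 ∧
      bf (Gᵀ * W.map φ * G) (Pi.single t₁ 1) f' = 1 := by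
  -- some coordinate of `e` is not in `p`
  obtain ⟨a, ha⟩ : ∃ a, e a ∉ p.asIdeal := by
    by_contra hcon
    push Not at hcon
    have h1 : bf W f e ∈ p.asIdeal := bf_mem_right _ W f e hcon
    rw [bf_comm, hef] at h1
    exact p.isPrime.ne_top ((Ideal.eq_top_iff_one _).mpr h1)
  obtain ⟨T', _, φ, q, hg, hu⟩ := goodE_away p (e a) ha
  obtain ⟨G, hG, hGe, -⟩ := exists_place (φ ∘ e) a t₁ hu
  obtain ⟨Gi, hGi⟩ : ∃ Gi : Matrix ι ι T', G * Gi = 1 :=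
    ⟨G⁻¹, Matrix.mul_nonsing_inv G hG⟩
  refine ⟨T', inferInstance, φ, q, G, Gi *ᵥ (φ ∘ f), hg, hG, ?_, ?_, ?_⟩
  · rw [qf_conj, hGe, qf_map, he, map_zero]
  · rw [qf_conj, Matrix.mulVec_mulVec, hGi, Matrix.one_mulVec, qf_map, hf, map_zero]
  · rw [bf_conj, Matrix.mulVec_mulVec, hGi, Matrix.one_mulVec, hGe, bf_map, hef, map_one]

/-- second exchangeE: make `f` a basis vector too -/
theorem exchangeE_two (W : Matrix ι ι T) (p : PrimeSpectrum T) (t₀ t₁ : ι) (ht : t₀ ≠ t₁)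
    (f : ι → T) (he : qf W (Pi.single t₁ 1) = 0) (hf : qf W f = 0)
    (hef : bf W (Pi.single t₁ 1) f = 1) :
    ∃ (T' : Type u) (_ : CommRing T') (φ : T →+* T') (q : PrimeSpectrum T')
      (G : Matrix ι ι T'), GoodE φ p q ∧ IsUnit G.det ∧
      qf (Gᵀ * W.map φ * G) (Pi.single t₁ 1) = 0 ∧ qf (Gᵀ * W.map φ * G) (Pi.single t₀ 1) = 0 ∧
      bf (Gᵀ * W.map φ * G) (Pi.single t₀ 1) (Pi.single t₁ 1) = 1 := by
  obtain ⟨b, hb1, hb⟩ : ∃ b, b ≠ t₁ ∧ f b ∉ p.asIdeal := by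
    by_contra hcon
    push Not at hcon
    set f'' : ι → T := f - f t₁ • Pi.single t₁ 1 with hf''
    have hmem : ∀ j, f'' j ∈ p.asIdeal := by
      intro j
      by_cases hj : j = t₁
      · subst hj; simp [hf'']
      · simpa [hf'', Pi.single_apply, hj] using hcon j hj
    have h1 : bf W (Pi.single t₁ 1) f'' ∈ p.asIdeal := bf_mem_right _ W _ f'' hmem
    rw [hf'', bf_sub_right, bf_smul_right, bf_self, he, hef, mul_zero, mul_zero, sub_zero] at h1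
    exact p.isPrime.ne_top ((Ideal.eq_top_iff_one _).mpr h1)
  obtain ⟨T', _, φ, q, hg, hu⟩ := goodE_away p (f b) hb
  obtain ⟨G, hG, hGf, hGo⟩ := exists_place (φ ∘ f) b t₀ hu
  have hGe : G *ᵥ Pi.single t₁ 1 = Pi.single t₁ 1 := hGo t₁ (Ne.symm hb1) (Ne.symm ht)
  refine ⟨T', inferInstance, φ, q, G, hg, hG, ?_, ?_, ?_⟩
  · rw [qf_conj, hGe, ← single_map φ, qf_map, he, map_zero]
  · rw [qf_conj, hGf, qf_map, hf, map_zero]
  · rw [bf_conj, hGf, hGe, ← single_map φ, bf_map, bf_comm, hef, map_one]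

/-- a hyperbolic pair can be moved to two prescribed positions, locally -/
theorem exchangeE (W : Matrix ι ι T) (p : PrimeSpectrum T) (t₀ t₁ : ι) (ht : t₀ ≠ t₁)
    (e f : ι → T) (he : qf W e = 0) (hf : qf W f = 0) (hef : bf W e f = 1) :
    ∃ (T' : Type u) (_ : CommRing T') (φ : T →+* T') (q : PrimeSpectrum T')
      (G : Matrix ι ι T'), GoodE φ p q ∧ IsUnit G.det ∧
      qf (Gᵀ * W.map φ * G) (Pi.single t₁ 1) = 0 ∧ qf (Gᵀ * W.map φ * G) (Pi.single t₀ 1) = 0 ∧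
      bf (Gᵀ * W.map φ * G) (Pi.single t₀ 1) (Pi.single t₁ 1) = 1 := by
  obtain ⟨T₁, _, φ₁, q₁, G₁, f', hg₁, hG₁, h1, h2, h3⟩ := exchangeE_one W p e f he hf hef t₁
  obtain ⟨T₂, _, φ₂, q₂, G₂, hg₂, hG₂, k1, k2, k3⟩ :=
    exchangeE_two (G₁ᵀ * W.map φ₁ * G₁) q₁ t₀ t₁ ht f' h1 h2 h3
  refine ⟨T₂, inferInstance, φ₂.comp φ₁, q₂, G₁.map φ₂ * G₂, hg₁.comp hg₂,
    isUnit_det_map_mul φ₂ G₁ G₂ hG₁ hG₂, ?_⟩
  have e1 : W.map (φ₂.comp φ₁) = (W.map φ₁).map φ₂ := by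
    rw [Matrix.map_map]; rfl
  rw [e1, conj_map_mul]
  exact ⟨k1, k2, k3⟩

end ExchangeE

section StepE
variable {T : Type u} [CommRing T]

theorem stepE {k : ℕ} (W : Matrix (Fin (k + 2)) (Fin (k + 2)) T) (hW : ND W)
    (p : PrimeSpectrum T) :
    ∃ (T' : Type u) (_ : CommRing T') (φ : T →+* T') (q : PrimeSpectrum T')
      (G : Matrix (Fin (k + 2)) (Fin (k + 2)) T') (W₁ : Matrix (Fin k) (Fin k) T'),
      GoodE φ p q ∧ IsUnit G.det ∧ QEq (Gᵀ * W.map φ * G) (bsum W₁) := by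
  obtain ⟨v, w, hvw⟩ := lift_good_pair (by omega) W hW p
  obtain ⟨T₁, _, φ₁, q₁, θ, hg₁, -, hθ, hδ⟩ :=
    goodE_quadratic p (qf W v) (bf W v w) (qf W w) hvw
  rw [← qf_map, ← bf_map, ← qf_map] at hθ
  rw [← qf_map, ← bf_map] at hδ
  obtain ⟨e, f, he, hf, hef⟩ := exists_hyperbolic_pair (W.map φ₁) (φ₁ ∘ v) (φ₁ ∘ w) θ hθ hδ
  obtain ⟨T₂, _, φ₂, q₂, G, hg₂, hG, k1, k2, k3⟩ :=
    exchangeE (W.map φ₁) q₁ (Fin.natAdd k 0) (Fin.natAdd k 1) (by simp [Fin.ext_iff]) e f he hf hef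
  set W₂ := Gᵀ * (W.map φ₁).map φ₂ * G with hW₂
  rw [qf_single] at k1 k2
  rw [bf_single] at k3
  let ee : Fin k ⊕ Fin 2 ≃ Fin (k + 2) := finSumFinEquiv
  let Ws : Matrix (Fin k ⊕ Fin 2) (Fin k ⊕ Fin 2) T₂ := Matrix.reindex ee.symm ee.symm W₂
  obtain ⟨Us, W₁, hUs, hq⟩ := orthogonalize Ws
    (by simpa [Ws, ee] using k2) (by simpa [Ws, ee] using k1) (by simpa [Ws, ee] using k3)
  let U : Matrix (Fin (k + 2)) (Fin (k + 2)) T₂ := Matrix.reindex ee ee Us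
  have hU : IsUnit U.det := by
    simp only [U]
    rw [Matrix.det_reindex_self]; exact hUs
  have hW₂s : W₂ = Ws.submatrix ee.symm ee.symm := by
    ext i j; simp [Ws]
  have hconj : Uᵀ * W₂ * U = (Usᵀ * Ws * Us).submatrix ee.symm ee.symm := by
    rw [hW₂s]
    simp only [U, Matrix.reindex_apply, Matrix.transpose_submatrix]
    rw [Matrix.submatrix_mul_equiv, Matrix.submatrix_mul_equiv]
  refine ⟨T₂, inferInstance, φ₂.comp φ₁, q₂, G * U, W₁, hg₁.comp hg₂, ?_, ?_⟩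
  · rw [Matrix.det_mul]; exact hG.mul hU
  · have e1 : W.map (φ₂.comp φ₁) = (W.map φ₁).map φ₂ := by
      rw [Matrix.map_map]; rfl
    have e2 : (G * U)ᵀ * W.map (φ₂.comp φ₁) * (G * U) = Uᵀ * W₂ * U := by
      rw [e1, hW₂, Matrix.transpose_mul]
      simp only [Matrix.mul_assoc]
    rw [e2, hconj]
    exact hq.reindex ee

end StepE

section InductionE

theorem exists_split_pointed_even : ∀ (m : ℕ) (T : Type u) [CommRing T]
    (W : Matrix (Fin (2 * m)) (Fin (2 * m)) T),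
    ND W → ∀ p : PrimeSpectrum T,
    ∃ (T' : Type u) (_ : CommRing T') (φ : T →+* T') (q : PrimeSpectrum T')
      (G : Matrix (Fin (2 * m)) (Fin (2 * m)) T'),
      GoodE φ p q ∧ IsUnit G.det ∧ QEq (Gᵀ * W.map φ * G) (Wsp T' (2 * m)) := by
  intro m
  induction m with
  | zero =>
    intro T _ W _ p
    refine ⟨T, inferInstance, RingHom.id T, p, 1, GoodE.id p, by simp, ?_⟩
    exact ⟨fun i => i.elim0, fun i => i.elim0⟩
  | succ k ih =>
    intro T _ W hW p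
    change Matrix (Fin (2 * k + 2)) (Fin (2 * k + 2)) T at W
    obtain ⟨T₁, _, φ₁, q₁, G, W₁, hg₁, hG, hq⟩ := stepE W hW p
    have hW₁ : ND W₁ := ND.of_bsum (((hW.map φ₁).conj G hG).of_qeq hq)
    obtain ⟨T₂, _, φ₂, q₂, G₁, hg₂, hG₁, hq₁⟩ := ih T₁ W₁ hW₁ q₁
    refine ⟨T₂, inferInstance, φ₂.comp φ₁, q₂, G.map φ₂ * gsum G₁, hg₁.comp hg₂,
      isUnit_det_map_mul φ₂ G (gsum G₁) hG (by rw [det_gsum]; exact hG₁), ?_⟩
    have e1 : W.map (φ₂.comp φ₁) = (W.map φ₁).map φ₂ := by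
      rw [Matrix.map_map]; rfl
    rw [e1, conj_map_mul]
    have h1 : QEq ((gsum G₁)ᵀ * (Gᵀ * W.map φ₁ * G).map φ₂ * gsum G₁)
        ((gsum G₁)ᵀ * (bsum W₁).map φ₂ * gsum G₁) := (hq.map φ₂).conj _
    rw [bsum_map, gsum_conj] at h1
    exact h1.trans hq₁.bsum

end InductionE

end Groth.Agent.Lib.Helper15.QSplit
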