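import Mathlib
import Groth.Agent.Lib.Helper15.QSplitE2
import Groth.Agent.Lib.Helper15.QSplit8

/-! Global étale splitting of nondegenerate matrix forms of even rank. -/

set_option autoImplicit false
set_option linter.style.haveILetI false

namespace Groth.Agent.Lib.Helper15.QSplit

open Matrix
open Groth.Agent.Lib.Helper2.HalfDisc

universe u

section Global
variable {R : Type u} [CommRing R]

theorem exists_split_etale {m : ℕ} (W : Matrix (Fin (2 * m)) (Fin (2 * m)) R) (hW : ND W) :
    ∃ (A : Type u) (_ : CommRing A) (_ : Algebra R A), Module.FaithfullyFlat R A ∧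
      Algebra.FinitePresentation R A ∧ (Algebra.Etale R A ∧
      ∃ G : Matrix (Fin (2 * m)) (Fin (2 * m)) A, IsUnit G.det ∧
        QEq (Gᵀ * W.map (algebraMap R A) * G) (Wsp A (2 * m))) := by
  apply exists_cover_of_points_fppf
    (fun A _ _ => Algebra.Etale R A ∧ ∃ G : Matrix (Fin (2 * m)) (Fin (2 * m)) A, IsUnit G.det ∧
        QEq (Gᵀ * W.map (algebraMap R A) * G) (Wsp A (2 * m)))
  · intro p
    obtain ⟨T', _, φ, q, G, hg, hG, hq⟩ := exists_split_pointed_even m R W hW p
    letI : Algebra R T' := φ.toAlgebra
    have hgood := hg.good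
    refine ⟨T', inferInstance, inferInstance, hgood.1, hgood.2.1, ⟨hg.1, G, hG, hq⟩, ⟨q, hg.2⟩⟩
  · intro ι _ _ A _ _ hA
    have hE : ∀ i, Algebra.Etale R (A i) := fun i => (hA i).1
    have hA' := fun i => (hA i).2
    choose G hG hq using hA'
    let GG : Matrix (Fin (2 * m)) (Fin (2 * m)) (Π i, A i) := Matrix.of fun a b i => G i a b
    have hGG : ∀ i, GG.map (Pi.evalRingHom A i) = G i := by
      intro i; ext a b; rfl
    refine ⟨inferInstance, GG, ?_, ?_⟩
    · rw [Pi.isUnit_iff]
      intro i
      have : GG.det i = (G i).det := by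
        have := RingHom.map_det (Pi.evalRingHom A i) GG
        rw [RingHom.mapMatrix_apply, hGG] at this
        exact this
      rw [this]; exact hG i
    · apply QEq_pi
      intro i
      rw [Wsp_map, Matrix.map_mul, Matrix.map_mul, Matrix.transpose_map, hGG, Matrix.map_map]
      exact hq i

end Global

end Groth.Agent.Lib.Helper15.QSplit
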