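import Mathlib
import Groth.Agent.Lib.Helper15.QSplitE3

/-! Étale-local splitting of an ordinary quadratic form in `2m` variables indexed by
`Fin m ⊕ Fin m`. -/

set_option autoImplicit false
set_option linter.style.haveILetI false

namespace Groth.Agent.Lib.Helper15.QSplit

open Matrix
open Groth.Agent.Lib.Helper2.HalfDisc

universe u

section Index

/-- interleaving `Fin m ⊕ Fin m ≃ Fin (2m)`: `inl j ↦ 2j`, `inr j ↦ 2j+1` -/
def ilv (m : ℕ) : Fin m ⊕ Fin m ≃ Fin (2 * m) where
  toFun := Sum.elim (fun j => ⟨2 * j.val, by omega⟩) (fun j => ⟨2 * j.val + 1, by omega⟩)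
  invFun i := if i.val % 2 = 0 then Sum.inl ⟨i.val / 2, by omega⟩ else Sum.inr ⟨i.val / 2, by omega⟩
  left_inv := by
    rintro (j | j)
    · simp only [Sum.elim_inl]
      rw [if_pos (by omega)]
      congr 1
      apply Fin.ext
      simp
    · simp only [Sum.elim_inr]
      rw [if_neg (by omega)]
      congr 1
      apply Fin.ext
      change (2 * j.val + 1) / 2 = j.val
      omega
  right_inv := by
    intro i
    by_cases h : i.val % 2 = 0
    · simp only [if_pos h, Sum.elim_inl]
      apply Fin.ext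
      simp only
      omega
    · simp only [if_neg h, Sum.elim_inr]
      apply Fin.ext
      simp only
      omega

lemma ilv_inl (m : ℕ) (j : Fin m) : ((ilv m (Sum.inl j) : Fin (2 * m)) : ℕ) = 2 * j.val := rfl
lemma ilv_inr (m : ℕ) (j : Fin m) : ((ilv m (Sum.inr j) : Fin (2 * m)) : ℕ) = 2 * j.val + 1 := rfl

end Index

section Main
variable {A : Type u} [CommRing A] (m : ℕ) (a : (Fin m ⊕ Fin m) → (Fin m ⊕ Fin m) → A)

/-- the rank function ordering `Fin m ⊕ Fin m` -/
def rk : Fin m ⊕ Fin m → ℕ := Sum.elim Fin.val (fun k => m + k.val)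

lemma rk_injective : Function.Injective (rk m) := by
  rintro (i | i) (j | j) h
  · simp only [rk, Sum.elim_inl] at h
    rw [Fin.ext h]
  · simp only [rk, Sum.elim_inl, Sum.elim_inr] at h
    omega
  · simp only [rk, Sum.elim_inl, Sum.elim_inr] at h
    omega
  · simp only [rk, Sum.elim_inr] at h
    have : i = j := Fin.ext (by omega)
    rw [this]

/-- the upper triangular matrix of the form -/
def Ws : Matrix (Fin m ⊕ Fin m) (Fin m ⊕ Fin m) A :=
  Matrix.of fun i j => if rk m i ≤ rk m j then a i j else 0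

lemma polar_Ws : Ws m a + (Ws m a)ᵀ = Matrix.of fun i j : Fin m ⊕ Fin m =>
      if i = j then a i i + a i i else if rk m i ≤ rk m j then a i j else a j i := by
  ext i j
  simp only [Ws, Matrix.add_apply, Matrix.transpose_apply, Matrix.of_apply]
  by_cases h : i = j
  · subst h
    simp
  · rw [if_neg h]
    have hne : rk m i ≠ rk m j := fun hh => h (rk_injective m hh)
    by_cases h1 : rk m i ≤ rk m j
    · rw [if_pos h1, if_pos h1, if_neg (by omega), add_zero]
    · rw [if_neg h1, if_neg h1, if_pos (by omega), zero_add]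

lemma qf_Ws {B : Type u} [CommRing B] [Algebra A B] (y : Fin m ⊕ Fin m → B) :
    qf ((Ws m a).map (algebraMap A B)) y =
      ∑ i, ∑ j, if rk m i ≤ rk m j then algebraMap A B (a i j) * y i * y j else 0 := by
  unfold qf bl
  simp only [dotProduct, Matrix.mulVec, Matrix.map_apply, Ws, Matrix.of_apply]
  refine Finset.sum_congr rfl fun i _ => ?_
  rw [Finset.mul_sum]
  refine Finset.sum_congr rfl fun j _ => ?_
  split_ifs
  · ring
  · rw [map_zero, zero_mul, mul_zero]

theorem exists_etale_split
    (h : IsUnit (Matrix.det (Matrix.of fun i j : Fin m ⊕ Fin m =>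
      if i = j then a i i + a i i else if rk m i ≤ rk m j then a i j else a j i))) :
    ∃ (B : Type u) (_ : CommRing B) (_ : Algebra A B), Module.FaithfullyFlat A B ∧
      Algebra.Etale A B ∧
      ∃ g : Matrix (Fin m ⊕ Fin m) (Fin m ⊕ Fin m) B, IsUnit g.det ∧
        ∀ x : Fin m ⊕ Fin m → B,
          (∑ i, ∑ j, if rk m i ≤ rk m j then algebraMap A B (a i j) * (g.mulVec x) i * (g.mulVec x) j
            else 0) = ∑ j : Fin m, x (Sum.inl j) * x (Sum.inr j) := by
  let W : Matrix (Fin (2 * m)) (Fin (2 * m)) A := Matrix.reindex (ilv m) (ilv m) (Ws m a)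
  have hND : ND W := by
    refine ⟨fun ho => ?_, fun _ => ?_⟩
    · exfalso
      obtain ⟨r, hr⟩ := ho
      omega
    · have : W + Wᵀ = Matrix.reindex (ilv m) (ilv m) (Ws m a + (Ws m a)ᵀ) := by
        ext i j
        simp [W]
      rw [this, Matrix.det_reindex_self, polar_Ws]
      exact h
  obtain ⟨B, _, _, hff, _, hE, G, hG, hq⟩ := exists_split_etale W hND
  refine ⟨B, inferInstance, inferInstance, hff, hE,
    Matrix.reindex (ilv m).symm (ilv m).symm G, ?_, fun x => ?_⟩
  · rw [Matrix.det_reindex_self]; exact hG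
  · rw [← qf_Ws]
    have hWmap : W.map (algebraMap A B) =
        Matrix.reindex (ilv m) (ilv m) ((Ws m a).map (algebraMap A B)) := by
      ext i j
      simp [W]
    have h1 : qf ((Ws m a).map (algebraMap A B))
        ((Matrix.reindex (ilv m).symm (ilv m).symm G).mulVec x) =
        qf (W.map (algebraMap A B)) (G *ᵥ (x ∘ (ilv m).symm)) := by
      rw [hWmap, qf_reindex]
      congr 1
      funext i
      simp only [Function.comp_apply, Matrix.mulVec, dotProduct, Matrix.reindex_apply,
        Matrix.submatrix_apply, Equiv.symm_symm]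
      rw [← Equiv.sum_comp (ilv m)]
      refine Finset.sum_congr rfl fun j _ => ?_
      rw [Equiv.symm_apply_apply]
    rw [h1, ← qf_conj, hq.qf_eq, qf_Wsp]
    unfold SS
    have e1 : 2 * m / 2 = m := by omega
    have e2 : 2 * m % 2 = 0 := by omega
    rw [e1, e2, if_neg (by norm_num), add_zero,
      ← Fin.sum_univ_eq_sum_range (fun i => ext0 (x ∘ (ilv m).symm) (2 * i + 0) *
        ext0 (x ∘ (ilv m).symm) (2 * i + 1 + 0))]
    refine Finset.sum_congr rfl fun j _ => ?_
    rw [ext0_of_lt _ _ (by omega), ext0_of_lt _ _ (by omega)]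
    have k1 : (⟨2 * j.val + 0, by omega⟩ : Fin (2 * m)) = ilv m (Sum.inl j) := Fin.ext (by simp [ilv_inl])
    have k2 : (⟨2 * j.val + 1 + 0, by omega⟩ : Fin (2 * m)) = ilv m (Sum.inr j) :=
      Fin.ext (by simp [ilv_inr])
    rw [k1, k2, Function.comp_apply, Function.comp_apply, Equiv.symm_apply_apply,
      Equiv.symm_apply_apply]

end Main

end Groth.Agent.Lib.Helper15.QSplit
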