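import Mathlib
import Groth.Prelude.Def_FlatCA
import Groth.Agent.Lib.Helper15.ImpN0
import Groth.Agent.Lib.Helper15.ImpN3

/-!
# Supports under base change and quasi-finiteness from finite fibres (helper15)
-/

set_option autoImplicit false
set_option linter.style.haveILetI false
set_option linter.unusedSectionVars false
set_option linter.style.longLine false
universe u

open TensorProduct

namespace Groth.Agent.Lib.Helper15.QfFin1

open Groth.Agent.Lib.Helper26 Groth.Agent.Lib.Helper15

attribute [local instance] Algebra.TensorProduct.rightAlgebra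

/-- a finite module stays nonzero after tensoring with a field whose kernel contains the
annihilator -/
theorem nontrivial_tensor_field {B : Type u} [CommRing B] (N : Type u) [AddCommGroup N]
    [Module B N] [Module.Finite B N] (K : Type u) [Field K] [Algebra B K]
    (h : Module.annihilator B N ≤ RingHom.ker (algebraMap B K)) :
    Nontrivial (K ⊗[B] N) := by
  haveI hq : (RingHom.ker (algebraMap B K)).IsPrime := RingHom.ker_isPrime _
  have h1 : (⟨RingHom.ker (algebraMap B K), hq⟩ : PrimeSpectrum B) ∈ Module.support B N :=
    Module.mem_support_iff_of_finite.2 h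
  rw [Module.mem_support_iff_nontrivial_residueField_tensorProduct] at h1
  let ι : (RingHom.ker (algebraMap B K)).ResidueField →ₐ[B] K :=
    Ideal.ResidueField.liftₐ (RingHom.ker (algebraMap B K)) (Algebra.ofId B K) (le_refl _) (by
      intro x hx
      rw [Submonoid.mem_comap, IsUnit.mem_submonoid_iff, isUnit_iff_ne_zero]
      exact hx)
  letI : Algebra (RingHom.ker (algebraMap B K)).ResidueField K := ι.toRingHom.toAlgebra
  haveI : IsScalarTower B (RingHom.ker (algebraMap B K)).ResidueField K :=
    .of_algebraMap_eq' ι.comp_algebraMap.symm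
  let e := TensorProduct.AlgebraTensorModule.cancelBaseChange B
    (RingHom.ker (algebraMap B K)).ResidueField K K N
  haveI : Nontrivial ((RingHom.ker (algebraMap B K)).ResidueField ⊗[B] N) := h1
  haveI : Nontrivial (K ⊗[(RingHom.ker (algebraMap B K)).ResidueField]
      ((RingHom.ker (algebraMap B K)).ResidueField ⊗[B] N)) := inferInstance
  exact e.symm.toEquiv.nontrivial

/-- the support of a base change of a finite module contains the preimage of the support -/
theorem ann_baseChange_le {B : Type u} [CommRing B] (N : Type u) [AddCommGroup N]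
    [Module B N] [Module.Finite B N] (F : Type u) [CommRing F] [Algebra B F] (Q : Ideal F)
    [hQ : Q.IsPrime] (h : Module.annihilator B N ≤ Q.comap (algebraMap B F)) :
    Module.annihilator F (F ⊗[B] N) ≤ Q := by
  have hker : RingHom.ker (algebraMap B Q.ResidueField) = Q.comap (algebraMap B F) := by
    rw [IsScalarTower.algebraMap_eq B F Q.ResidueField, ← RingHom.comap_ker,
      Ideal.ker_algebraMap_residueField]
  haveI := nontrivial_tensor_field N Q.ResidueField (by rw [hker]; exact h)
  let e := TensorProduct.AlgebraTensorModule.cancelBaseChange B F Q.ResidueField Q.ResidueField N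
  haveI : Nontrivial (Q.ResidueField ⊗[F] (F ⊗[B] N)) := e.toEquiv.nontrivial
  have h2 : (⟨Q, hQ⟩ : PrimeSpectrum F) ∈ Module.support F (F ⊗[B] N) := by
    rw [Module.mem_support_iff_nontrivial_residueField_tensorProduct]
    infer_instance
  exact Module.mem_support_iff_of_finite.1 h2

/-- a finite type algebra with finitely many primes over `p` is quasi-finite at each of them -/
theorem quasiFiniteAt_of_finite_primesOver {A C : Type u} [CommRing A] [CommRing C] [Algebra A C]
    [Algebra.FiniteType A C] (p : Ideal A) [p.IsPrime] (hfin : (p.primesOver C).Finite)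
    (q : Ideal C) [hq : q.IsPrime] [hlo : q.LiesOver p] : Algebra.QuasiFiniteAt A q := by
  haveI : IsNoetherianRing (p.Fiber C) :=
    Algebra.FiniteType.isNoetherianRing p.ResidueField (p.Fiber C)
  haveI : IsJacobsonRing (p.Fiber C) :=
    isJacobsonRing_of_finiteType (A := p.ResidueField) (B := p.Fiber C)
  haveI : Finite (p.primesOver C) := hfin
  haveI : Finite (PrimeSpectrum (p.Fiber C)) :=
    Finite.of_equiv _ (PrimeSpectrum.primesOverOrderIsoFiber A C p).toEquiv
  let x : PrimeSpectrum (p.Fiber C) := PrimeSpectrum.primesOverOrderIsoFiber A C p ⟨q, ⟨hq, hlo⟩⟩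
  have hx : x.asIdeal.comap (Algebra.TensorProduct.includeRight (R := A)
      (A := p.ResidueField) (B := C)).toRingHom = q := by
    have := (PrimeSpectrum.primesOverOrderIsoFiber A C p).symm_apply_apply ⟨q, ⟨hq, hlo⟩⟩
    exact congrArg Subtype.val this
  have hopen : IsOpen ({x} : Set (PrimeSpectrum (p.Fiber C))) := isOpen_discrete _
  haveI : Algebra.QuasiFiniteAt p.ResidueField x.asIdeal :=
    Algebra.QuasiFiniteAt.of_isOpen_singleton (R := p.ResidueField) x hopen
  exact Algebra.QuasiFiniteAt.of_quasiFiniteAt_residueField p q x.asIdeal hx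

/-- finiteness of the fibres of the scheme-theoretic support -/
theorem finite_primesOver_quotient_annihilator {A B : Type u} [CommRing A] [CommRing B]
    [Algebra A B] (N : Type u) [AddCommGroup N] [Module B N] [Module A N] [IsScalarTower A B N]
    [Module.Finite B N] (p : Ideal A) [p.IsPrime]
    (hfin : (Module.support (p.Fiber B) (FlatCA.fiberMod p B N)).Finite) :
    (p.primesOver (B ⧸ Module.annihilator B N)).Finite := by
  set I := Module.annihilator B N with hI
  let g : Ideal (B ⧸ I) → Ideal (p.Fiber B) :=
    fun q => FlatCA.fiberIdeal p (q.comap (Ideal.Quotient.mk I))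
  have hT : (PrimeSpectrum.asIdeal '' (Module.support (p.Fiber B) (FlatCA.fiberMod p B N))).Finite :=
    hfin.image _
  have hlo : ∀ q ∈ p.primesOver (B ⧸ I), (q.comap (Ideal.Quotient.mk I)).LiesOver p := by
    intro q hq
    refine ⟨?_⟩
    rw [hq.2.over, Ideal.under_def, Ideal.under_def, Ideal.comap_comap]
    rfl
  refine Set.Finite.of_injOn (f := g) ?_ ?_ hT
  · intro q hq
    haveI := hq.1
    haveI : (q.comap (Ideal.Quotient.mk I)).IsPrime := Ideal.comap_isPrime _ _
    haveI := hlo q hq
    haveI hprime := ImpN3.fiberIdeal_isPrime p (q.comap (Ideal.Quotient.mk I))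
    refine ⟨⟨g q, hprime⟩, ?_, rfl⟩
    haveI : Module.Finite (p.Fiber B) (FlatCA.fiberMod p B N) :=
      inferInstanceAs (Module.Finite (p.Fiber B) ((p.Fiber B) ⊗[B] N))
    rw [Module.mem_support_iff_of_finite]
    refine ann_baseChange_le N (p.Fiber B) (g q) ?_
    have hc : (g q).comap (algebraMap B (p.Fiber B)) = q.comap (Ideal.Quotient.mk I) :=
      ImpN0.comap_fiberIdeal p _
    rw [hc]
    intro b hb
    rw [Ideal.mem_comap, Ideal.Quotient.eq_zero_iff_mem.2 hb]
    exact q.zero_mem
  · intro q₁ hq₁ q₂ hq₂ h12
    haveI := hq₁.1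
    haveI := hq₂.1
    haveI : (q₁.comap (Ideal.Quotient.mk I)).IsPrime := Ideal.comap_isPrime _ _
    haveI : (q₂.comap (Ideal.Quotient.mk I)).IsPrime := Ideal.comap_isPrime _ _
    haveI := hlo q₁ hq₁
    haveI := hlo q₂ hq₂
    have h3 : q₁.comap (Ideal.Quotient.mk I) = q₂.comap (Ideal.Quotient.mk I) := by
      rw [← ImpN0.comap_fiberIdeal p (q₁.comap (Ideal.Quotient.mk I)),
        ← ImpN0.comap_fiberIdeal p (q₂.comap (Ideal.Quotient.mk I))]
      exact congrArg _ h12
    exact Ideal.comap_injective_of_surjective _ Ideal.Quotient.mk_surjective h3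

end Groth.Agent.Lib.Helper15.QfFin1
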