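import Mathlib
import Groth.Prelude.Def_FlatCA

/-!
# Elementary étale neighbourhoods: identity and composition (helper15)
-/

set_option autoImplicit false
set_option linter.style.haveILetI false
set_option linter.unusedSectionVars false
set_option linter.style.longLine false
universe u

namespace Groth.Agent.Lib.Helper15.QfFin2

theorem isEtaleNhd_refl {A : Type u} [CommRing A] (p : Ideal A) [p.IsPrime] :
    FlatCA.IsEtaleNhd A A p p := by
  have hlo : p.LiesOver p := ⟨by rw [Ideal.under_def]; exact (Ideal.comap_id p).symm⟩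
  refine ⟨inferInstance, hlo, ?_⟩
  have h1 : (Ideal.ResidueField.mapₐ p p (Algebra.ofId A A) hlo.over).toRingHom =
      RingHom.id _ := by
    apply Ideal.ResidueField.ringHom_ext
    ext a
    simp only [RingHom.coe_comp, Function.comp_apply, RingHom.id_apply]
    show Ideal.ResidueField.mapₐ p p (Algebra.ofId A A) hlo.over (algebraMap A _ a) = _
    rw [Ideal.ResidueField.mapₐ_apply, Ideal.ResidueField.map_algebraMap]
    rfl
  have h2 : ∀ x, Ideal.ResidueField.mapₐ p p (Algebra.ofId A A) hlo.over x = x := fun x =>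
    congrArg (fun f => f x) h1
  exact ⟨fun x y hxy => by rw [← h2 x, ← h2 y]; exact hxy, fun y => ⟨y, h2 y⟩⟩

theorem isEtaleNhd_trans {A R' R'' : Type u} [CommRing A] [CommRing R'] [CommRing R'']
    [Algebra A R'] [Algebra R' R''] [Algebra A R''] [IsScalarTower A R' R''] (p : Ideal A)
    [p.IsPrime] (P : Ideal R') [P.IsPrime] (P'' : Ideal R'') [P''.IsPrime]
    (h₁ : FlatCA.IsEtaleNhd A R' p P) (h₂ : FlatCA.IsEtaleNhd R' R'' P P'') :
    FlatCA.IsEtaleNhd A R'' p P'' := by
  obtain ⟨het₁, hlo₁, hbij₁⟩ := h₁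
  obtain ⟨het₂, hlo₂, hbij₂⟩ := h₂
  have hlo : P''.LiesOver p := Ideal.LiesOver.trans P'' P p
  refine ⟨Algebra.Etale.comp A R' R'', hlo, ?_⟩
  have h1 : (Ideal.ResidueField.mapₐ p P'' (Algebra.ofId A R'') hlo.over).toRingHom =
      (Ideal.ResidueField.mapₐ P P'' (Algebra.ofId R' R'') hlo₂.over).toRingHom.comp
        (Ideal.ResidueField.mapₐ p P (Algebra.ofId A R') hlo₁.over).toRingHom := by
    apply Ideal.ResidueField.ringHom_ext
    ext a
    simp only [RingHom.coe_comp, Function.comp_apply]
    show Ideal.ResidueField.mapₐ p P'' (Algebra.ofId A R'') hlo.over (algebraMap A _ a) =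
      Ideal.ResidueField.mapₐ P P'' (Algebra.ofId R' R'') hlo₂.over
        (Ideal.ResidueField.mapₐ p P (Algebra.ofId A R') hlo₁.over (algebraMap A _ a))
    simp only [Ideal.ResidueField.mapₐ_apply, Ideal.ResidueField.map_algebraMap]
    show algebraMap R'' _ (algebraMap A R'' a) = algebraMap R'' _ (algebraMap R' R'' (algebraMap A R' a))
    rw [← IsScalarTower.algebraMap_apply A R' R'']
  have h2 : ⇑(Ideal.ResidueField.mapₐ p P'' (Algebra.ofId A R'') hlo.over) =
      ⇑(Ideal.ResidueField.mapₐ P P'' (Algebra.ofId R' R'') hlo₂.over) ∘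
        ⇑(Ideal.ResidueField.mapₐ p P (Algebra.ofId A R') hlo₁.over) := by
    funext x
    exact congrArg (fun f => f x) h1
  rw [h2]
  exact hbij₂.comp hbij₁

end Groth.Agent.Lib.Helper15.QfFin2
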