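import Mathlib
import Groth.Prelude.Def_FlatCA
import Groth.Agent.Lib.Helper15.QfFin1
import Groth.Agent.Lib.Helper15.QfFin2

/-!
# Étale-local splitting of an algebra with finite fibre into a finite part and a part missing the
fibre (helper15)
-/

set_option autoImplicit false
set_option linter.style.haveILetI false
set_option linter.unusedSectionVars false
set_option linter.style.longLine false
universe u

open TensorProduct

namespace Groth.Agent.Lib.Helper15.QfFin3

open Groth.Agent.Lib.Helper15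

/-- `(X × Y) × Z ≃ (X × Z) × Y` -/
def shuffle (R X Y Z : Type u) [CommSemiring R] [Semiring X] [Semiring Y] [Semiring Z] [Algebra R X]
    [Algebra R Y] [Algebra R Z] : ((X × Y) × Z) ≃ₐ[R] ((X × Z) × Y) :=
  AlgEquiv.ofAlgHom
    (AlgHom.prod (AlgHom.prod ((AlgHom.fst R X Y).comp (AlgHom.fst R (X × Y) Z))
      (AlgHom.snd R (X × Y) Z)) ((AlgHom.snd R X Y).comp (AlgHom.fst R (X × Y) Z)))
    (AlgHom.prod (AlgHom.prod ((AlgHom.fst R X Z).comp (AlgHom.fst R (X × Z) Y))
      (AlgHom.snd R (X × Z) Y)) ((AlgHom.snd R X Z).comp (AlgHom.fst R (X × Z) Y)))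
    (by ext ⟨⟨x, z⟩, y⟩ <;> rfl) (by ext ⟨⟨x, y⟩, z⟩ <;> rfl)

theorem liesOver_comap_algHom {A X Y : Type u} [CommRing A] [CommRing X] [CommRing Y]
    [Algebra A X] [Algebra A Y] (ψ : X →ₐ[A] Y) (Q : Ideal Y) (p : Ideal A) (h : Q.LiesOver p) :
    (Q.comap ψ).LiesOver p := by
  refine ⟨?_⟩
  rw [h.over]
  ext a
  rw [Ideal.under_def, Ideal.under_def, Ideal.mem_comap, Ideal.mem_comap, Ideal.mem_comap,
    ψ.commutes]

/-- the splitting data -/
def SplitData (A C : Type u) [CommRing A] [CommRing C] [Algebra A C] (p : Ideal A) [p.IsPrime] :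
    Prop :=
  ∃ (A' : Type u) (_ : CommRing A') (_ : Algebra A A') (p' : Ideal A') (_ : p'.IsPrime),
    FlatCA.IsEtaleNhd A A' p p' ∧
    ∃ (F G : Type u) (_ : CommRing F) (_ : CommRing G) (_ : Algebra A' F) (_ : Algebra A' G)
      (_ : (A' ⊗[A] C) ≃ₐ[A'] (F × G)), Module.Finite A' F ∧
        ∀ Q : Ideal G, Q.IsPrime → ¬ Q.LiesOver p'

theorem split_of_empty {A C : Type u} [CommRing A] [CommRing C] [Algebra A C] (p : Ideal A)
    [p.IsPrime] (h : p.primesOver C = ∅) : SplitData A C p := by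
  have h1 : IsIdempotentElem (1 : A ⊗[A] C) := IsIdempotentElem.one
  have h0 : IsIdempotentElem (0 : A ⊗[A] C) := IsIdempotentElem.zero
  refine ⟨A, inferInstance, inferInstance, p, inferInstance, QfFin2.isEtaleNhd_refl p,
    (A ⊗[A] C) ⧸ Ideal.span {(1 : A ⊗[A] C)}, (A ⊗[A] C) ⧸ Ideal.span {(0 : A ⊗[A] C)},
    inferInstance, inferInstance, inferInstance, inferInstance,
    AlgEquiv.prodQuotientOfIsIdempotentElem A h1 h0 (add_zero 1) (mul_zero 1), ?_, ?_⟩
  · haveI : Subsingleton ((A ⊗[A] C) ⧸ Ideal.span {(1 : A ⊗[A] C)}) := by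
      rw [Ideal.Quotient.subsingleton_iff, Ideal.span_singleton_one]
    exact Module.Finite.of_finite
  · intro Q hQ hQlo
    let ψ : C →ₐ[A] (A ⊗[A] C) ⧸ Ideal.span {(0 : A ⊗[A] C)} :=
      (Ideal.Quotient.mkₐ A _).comp (Algebra.TensorProduct.includeRight (R := A) (A := A) (B := C))
    have h2 : Q.comap ψ ∈ p.primesOver C :=
      ⟨Ideal.comap_isPrime _ _, liesOver_comap_algHom ψ Q p hQlo⟩
    rw [h] at h2
    exact h2

theorem card_lt {A C R' : Type u} [CommRing A] [CommRing C] [Algebra A C] [CommRing R']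
    [Algebra A R'] (p : Ideal A) [p.IsPrime] (P : Ideal R') [P.IsPrime] [P.LiesOver p]
    (hbij : Function.Bijective (Ideal.ResidueField.mapₐ p P (Algebra.ofId _ _) (P.over_def p)))
    (e : R' ⊗[A] C) (P' : Ideal (R' ⊗[A] C)) [P'.IsPrime] [P'.LiesOver P] (heP' : e ∉ P')
    (hfin : (p.primesOver C).Finite) :
    (P.primesOver ((R' ⊗[A] C) ⧸ Ideal.span {e})).Finite ∧
      (P.primesOver ((R' ⊗[A] C) ⧸ Ideal.span {e})).ncard < (p.primesOver C).ncard := by
  let incl : C →ₐ[A] R' ⊗[A] C := Algebra.TensorProduct.includeRight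
  let mk' : R' ⊗[A] C →ₐ[R'] (R' ⊗[A] C) ⧸ Ideal.span {e} := Ideal.Quotient.mkₐ R' _
  have hmk : Function.Surjective mk' := Ideal.Quotient.mkₐ_surjective R' _
  let g : Ideal ((R' ⊗[A] C) ⧸ Ideal.span {e}) → Ideal C :=
    fun Q => (Q.comap mk').comap incl.toRingHom
  -- facts about a prime of the quotient over `P`
  have hfacts : ∀ Q ∈ P.primesOver ((R' ⊗[A] C) ⧸ Ideal.span {e}),
      (Q.comap mk').IsPrime ∧ (Q.comap mk').LiesOver P ∧ e ∈ Q.comap mk' ∧
        g Q ∈ p.primesOver C := by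
    intro Q hQ
    haveI := hQ.1
    have h1 : (Q.comap mk').IsPrime := Ideal.comap_isPrime _ _
    have h2 : (Q.comap mk').LiesOver P := liesOver_comap_algHom mk' Q P hQ.2
    have h3 : e ∈ Q.comap mk' := by
      rw [Ideal.mem_comap]
      have : mk' e = 0 := Ideal.Quotient.eq_zero_iff_mem.2 (Ideal.mem_span_singleton_self e)
      rw [this]
      exact Q.zero_mem
    haveI := h1
    haveI := h2
    have h4 : (Q.comap mk').LiesOver p := Ideal.LiesOver.trans (Q.comap mk') P p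
    exact ⟨h1, h2, h3, Ideal.comap_isPrime _ _, liesOver_comap_algHom incl _ p h4⟩
  have hq : P'.comap incl.toRingHom ∈ p.primesOver C := by
    have h4 : P'.LiesOver p := Ideal.LiesOver.trans P' P p
    exact ⟨Ideal.comap_isPrime _ _, liesOver_comap_algHom incl _ p h4⟩
  have hmaps : Set.MapsTo g (P.primesOver ((R' ⊗[A] C) ⧸ Ideal.span {e}))
      (p.primesOver C \ {P'.comap incl.toRingHom}) := by
    intro Q hQ
    obtain ⟨h1, h2, h3, h4⟩ := hfacts Q hQ
    refine ⟨h4, fun h5 => ?_⟩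
    rw [Set.mem_singleton_iff] at h5
    haveI := h1
    haveI := h2
    have := Ideal.eq_of_comap_eq_comap_of_bijective_residueFieldMap hbij (Q.comap mk') P' h5
    rw [this] at h3
    exact heP' h3
  have hinj : Set.InjOn g (P.primesOver ((R' ⊗[A] C) ⧸ Ideal.span {e})) := by
    intro Q₁ hQ₁ Q₂ hQ₂ h12
    obtain ⟨h1, h2, -, -⟩ := hfacts Q₁ hQ₁
    obtain ⟨h1', h2', -, -⟩ := hfacts Q₂ hQ₂
    haveI := h1
    haveI := h2
    haveI := h1'
    haveI := h2'
    have := Ideal.eq_of_comap_eq_comap_of_bijective_residueFieldMap hbij (Q₁.comap mk')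
      (Q₂.comap mk') h12
    exact Ideal.comap_injective_of_surjective _ hmk this
  have hTfin : (p.primesOver C \ {P'.comap incl.toRingHom}).Finite := hfin.subset Set.sdiff_subset
  refine ⟨Set.Finite.of_injOn hmaps hinj hTfin, ?_⟩
  exact lt_of_le_of_lt (Set.ncard_le_ncard_of_injOn g hmaps hinj hTfin)
    (Set.ncard_sdiff_singleton_lt_of_mem hq hfin)

theorem split_aux (n : ℕ) : ∀ (A C : Type u) [CommRing A] [CommRing C] [Algebra A C]
    [Algebra.FiniteType A C] (p : Ideal A) [p.IsPrime], (p.primesOver C).Finite →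
    (p.primesOver C).ncard < n → SplitData A C p := by
  induction n with
  | zero => intro A C _ _ _ _ p _ _ h; exact absurd h (Nat.not_lt_zero _)
  | succ n ih =>
    intro A C _ _ _ _ p _ hfin hcard
    by_cases hne : (p.primesOver C).Nonempty
    swap
    · exact split_of_empty p (Set.not_nonempty_iff_eq_empty.1 hne)
    obtain ⟨q, hq⟩ := hne
    haveI := hq.1
    haveI := hq.2
    haveI := QfFin1.quasiFiniteAt_of_finite_primesOver p hfin q
    obtain ⟨R', _, _, hEt, P, hPp, hPlo, e, he, P', hP', hP'lo, hP'q, heP', hbij, hfinF, huniq⟩ :=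
      Algebra.exists_etale_isIdempotentElem_forall_liesOver_eq p q
    -- the two factors
    have hsum : e + (1 - e) = 1 := by ring
    have hprod : e * (1 - e) = 0 := by rw [mul_sub, mul_one, he.eq, sub_self]
    let ε₀ : (R' ⊗[A] C) ≃ₐ[R'] ((R' ⊗[A] C) ⧸ Ideal.span {e}) × ((R' ⊗[A] C) ⧸ Ideal.span {1 - e}) :=
      AlgEquiv.prodQuotientOfIsIdempotentElem R' he he.one_sub hsum hprod
    haveI hF₀ : Module.Finite R' ((R' ⊗[A] C) ⧸ Ideal.span {1 - e}) := by
      haveI : IsLocalization.Away e ((R' ⊗[A] C) ⧸ Ideal.span {1 - e}) :=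
        IsLocalization.Away.quotient_of_isIdempotentElem he
      let φ : Localization.Away e ≃ₐ[R' ⊗[A] C] ((R' ⊗[A] C) ⧸ Ideal.span {1 - e}) :=
        IsLocalization.algEquiv (Submonoid.powers e) _ _
      exact Module.Finite.equiv (φ.toLinearEquiv.restrictScalars R')
    haveI : Algebra.FiniteType R' ((R' ⊗[A] C) ⧸ Ideal.span {e}) :=
      Algebra.FiniteType.of_surjective (Ideal.Quotient.mkₐ R' _)
        (Ideal.Quotient.mkₐ_surjective R' _)
    obtain ⟨hfin', hcard'⟩ := card_lt p P hbij e P' heP' hfin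
    obtain ⟨R'', _, _, P'', _, hnhd₂, F₁, G₁, _, _, _, _, ε₁, hF₁, hG₁⟩ :=
      ih R' ((R' ⊗[A] C) ⧸ Ideal.span {e}) P hfin' (by omega)
    letI : Algebra A R'' := ((algebraMap R' R'').comp (algebraMap A R')).toAlgebra
    haveI : IsScalarTower A R' R'' := .of_algebraMap_eq (fun _ => rfl)
    have hnhd : FlatCA.IsEtaleNhd A R'' p P'' :=
      QfFin2.isEtaleNhd_trans p P P'' ⟨hEt, hPlo, hbij⟩ hnhd₂
    let ε : (R'' ⊗[A] C) ≃ₐ[R''] ((F₁ × (R'' ⊗[R'] ((R' ⊗[A] C) ⧸ Ideal.span {1 - e}))) × G₁) :=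
      (Algebra.TensorProduct.cancelBaseChange A R' R'' R'' C).symm.trans
        ((Algebra.TensorProduct.congr AlgEquiv.refl ε₀).trans
          ((Algebra.TensorProduct.prodRight R' R'' R'' _ _).trans
            ((AlgEquiv.prodCongr ε₁ AlgEquiv.refl).trans (shuffle R'' F₁ G₁ (R'' ⊗[R'] ((R' ⊗[A] C) ⧸ Ideal.span {1 - e}))))))
    exact ⟨R'', inferInstance, inferInstance, P'', inferInstance, hnhd,
      F₁ × (R'' ⊗[R'] ((R' ⊗[A] C) ⧸ Ideal.span {1 - e})), G₁, inferInstance,
      inferInstance, inferInstance, inferInstance, ε, inferInstance, hG₁⟩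

/-- the splitting theorem -/
theorem split {A C : Type u} [CommRing A] [CommRing C] [Algebra A C] [Algebra.FiniteType A C]
    (p : Ideal A) [p.IsPrime] (hfin : (p.primesOver C).Finite) : SplitData A C p :=
  split_aux ((p.primesOver C).ncard + 1) A C p hfin (Nat.lt_succ_self _)

end Groth.Agent.Lib.Helper15.QfFin3
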