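import Mathlib
import Groth.Prelude.Def_FlatCA
import Groth.Agent.Lib.Helper15.ImpDesc
import Groth.Agent.Lib.Helper15.QfFin3

/-!
# Purity kills the part of the scheme-theoretic support missing the fibre (helper15)
-/

set_option autoImplicit false
set_option linter.style.haveILetI false
set_option linter.unusedSectionVars false
set_option linter.style.longLine false
universe u

open TensorProduct

namespace Groth.Agent.Lib.Helper15.QfFin4

open Groth.Agent.Lib.Helper26 Groth.Agent.Lib.Helper15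

attribute [local instance] Algebra.TensorProduct.rightAlgebra

/-- elements of the annihilator kill the base change -/
theorem algebraMap_smul_eq_zero {B B' : Type u} [CommRing B] [CommRing B'] [Algebra B B']
    (N : Type u) [AddCommGroup N] [Module B N] (b : B) (hb : b ∈ Module.annihilator B N)
    (z : B' ⊗[B] N) : algebraMap B B' b • z = 0 := by
  induction z using TensorProduct.induction_on with
  | zero => rw [smul_zero]
  | tmul x n =>
    rw [TensorProduct.smul_tmul', smul_eq_mul, ← Algebra.smul_def,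
      TensorProduct.smul_tmul, Module.mem_annihilator.1 hb n, TensorProduct.tmul_zero]
  | add x y hx hy => rw [smul_add, hx, hy, add_zero]

section kill

variable {A B : Type u} [CommRing A] [CommRing B] [Algebra A B] [Algebra.FiniteType A B]
  (N : Type u) [AddCommGroup N] [Module B N] [Module.Finite B N] (p : Ideal A) [p.IsPrime]
  (hpure : FlatCA.IsPureAlong A B N p)
  (A' : Type u) [CommRing A'] [Algebra A A'] (p' : Ideal A') [p'.IsPrime]
  (hnhd : FlatCA.IsEtaleNhd A A' p p')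
  (F G : Type u) [CommRing F] [CommRing G] [Algebra A' F] [Algebra A' G]
  (ε : (A' ⊗[A] (B ⧸ Module.annihilator B N)) ≃ₐ[A'] (F × G))
  (hG : ∀ Q : Ideal G, Q.IsPrime → ¬ Q.LiesOver p')

include hpure hnhd hG ε in
set_option maxHeartbeats 1600000 in
theorem exists_kill : ∃ s : A', s ∉ p' ∧ algebraMap A' G s = 0 := by
  by_contra hcon
  push Not at hcon
  set I := Module.annihilator B N with hI
  -- a prime of `G` over a generization of `p'`
  have hdisj : Disjoint ((⊥ : Ideal G) : Set G)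
      (Submonoid.map (algebraMap A' G) p'.primeCompl : Submonoid G) := by
    rw [Set.disjoint_left]
    rintro x hx ⟨s, hs, rfl⟩
    exact hcon s hs ((Ideal.mem_bot).1 hx)
  obtain ⟨Q, hQ, -, hQd⟩ := Ideal.exists_le_prime_disjoint (⊥ : Ideal G) _ hdisj
  haveI := hQ
  let t' : Ideal A' := Q.comap (algebraMap A' G)
  haveI ht' : t'.IsPrime := Ideal.comap_isPrime _ _
  have ht'le : t' ≤ p' := by
    intro a ha
    by_contra hap
    exact Set.disjoint_left.1 hQd ha ⟨a, hap, rfl⟩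
  -- the maps
  let π : A' ⊗[A] B →ₐ[A'] A' ⊗[A] (B ⧸ I) :=
    Algebra.TensorProduct.map (AlgHom.id A' A') (Ideal.Quotient.mkₐ A I)
  have hπ : Function.Surjective π :=
    Algebra.TensorProduct.map_surjective (AlgHom.id A' A') (Ideal.Quotient.mkₐ A I)
      Function.surjective_id (Ideal.Quotient.mkₐ_surjective A I)
  let ρ : A' ⊗[A] B →ₐ[A'] G := (AlgHom.snd A' F G).comp (ε.toAlgHom.comp π)
  have hρ : Function.Surjective ρ := by
    intro g
    obtain ⟨c, hc⟩ := ε.surjective (0, g)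
    obtain ⟨b, hb⟩ := hπ c
    exact ⟨b, by show (ε (π b)).2 = g; rw [hb, hc]⟩
  have hρI : ∀ b ∈ I, ρ (algebraMap B (A' ⊗[A] B) b) = 0 := by
    intro b hb
    show (ε (π ((1 : A') ⊗ₜ[A] b))).2 = 0
    have : π ((1 : A') ⊗ₜ[A] b) = 0 := by
      show (1 : A') ⊗ₜ[A] (Ideal.Quotient.mk I b) = 0
      rw [Ideal.Quotient.eq_zero_iff_mem.2 hb, TensorProduct.tmul_zero]
    rw [this, map_zero]
    rfl
  let QB : Ideal (A' ⊗[A] B) := Q.comap ρ
  haveI hQB : QB.IsPrime := Ideal.comap_isPrime _ _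
  haveI hQBlo : QB.LiesOver t' := QfFin3.liesOver_comap_algHom ρ Q t' ⟨rfl⟩
  -- the point of the fibre over `t'`
  haveI h𝔔 := ImpN3.fiberIdeal_isPrime t' QB
  have h𝔔c : (FlatCA.fiberIdeal t' QB).comap (algebraMap (A' ⊗[A] B) (t'.Fiber (A' ⊗[A] B))) = QB :=
    ImpN0.comap_fiberIdeal t' QB
  have hann1 : Module.annihilator (A' ⊗[A] B) ((A' ⊗[A] B) ⊗[B] N) ≤ QB := by
    apply QfFin1.ann_baseChange_le N (A' ⊗[A] B) QB
    intro b hb
    show ρ (algebraMap B (A' ⊗[A] B) b) ∈ Q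
    rw [hρI b hb]
    exact Q.zero_mem
  haveI : Module.Finite (t'.Fiber (A' ⊗[A] B)) (FlatCA.fiberMod t' (A' ⊗[A] B) ((A' ⊗[A] B) ⊗[B] N)) :=
    inferInstanceAs (Module.Finite (t'.Fiber (A' ⊗[A] B))
      ((t'.Fiber (A' ⊗[A] B)) ⊗[A' ⊗[A] B] ((A' ⊗[A] B) ⊗[B] N)))
  have hann2 : Module.annihilator (t'.Fiber (A' ⊗[A] B))
      (FlatCA.fiberMod t' (A' ⊗[A] B) ((A' ⊗[A] B) ⊗[B] N)) ≤ FlatCA.fiberIdeal t' QB := by
    apply QfFin1.ann_baseChange_le ((A' ⊗[A] B) ⊗[B] N) (t'.Fiber (A' ⊗[A] B))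
      (FlatCA.fiberIdeal t' QB)
    rw [h𝔔c]
    exact hann1
  haveI : IsNoetherianRing (t'.Fiber (A' ⊗[A] B)) :=
    Algebra.FiniteType.isNoetherianRing t'.ResidueField (t'.Fiber (A' ⊗[A] B))
  obtain ⟨𝔓₁, h𝔓₁min, h𝔓₁le⟩ := Ideal.exists_minimalPrimes_le hann2
  have h𝔓₁ass : 𝔓₁ ∈ associatedPrimes (t'.Fiber (A' ⊗[A] B))
      (FlatCA.fiberMod t' (A' ⊗[A] B) ((A' ⊗[A] B) ⊗[B] N)) :=
    Module.associatedPrimes.minimalPrimes_annihilator_subset_associatedPrimes _ _ h𝔓₁min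
  haveI h𝔓₁p : 𝔓₁.IsPrime := h𝔓₁min.1.1
  let P₁ : Ideal (A' ⊗[A] B) := 𝔓₁.comap (Algebra.TensorProduct.includeRight (R := A')
      (A := t'.ResidueField) (B := A' ⊗[A] B)).toRingHom
  haveI hP₁ : P₁.IsPrime := Ideal.comap_isPrime _ _
  haveI hP₁lo : P₁.LiesOver t' := ImpN0.liesOver_comap t' 𝔓₁
  have hP₁f : FlatCA.fiberIdeal t' P₁ = 𝔓₁ := H12UnivInjAss.map_comap_includeRight t' 𝔓₁
  have hP₁le : P₁ ≤ QB := by
    rw [← h𝔔c]
    exact Ideal.comap_mono h𝔓₁le
  have hass : FlatCA.fiberIdeal t' P₁ ∈ associatedPrimes (t'.Fiber (A' ⊗[A] B))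
      (FlatCA.fiberMod t' (A' ⊗[A] B) ((A' ⊗[A] B) ⊗[B] N)) := by
    rw [hP₁f]
    exact h𝔓₁ass
  -- `ker π ≤ P₁`
  obtain ⟨x₁, hx₁⟩ := ImpDesc.exists_witness t' ((A' ⊗[A] B) ⊗[B] N) P₁ hass
  have hIP₁ : ∀ b ∈ I, algebraMap B (A' ⊗[A] B) b ∈ P₁ := by
    intro b hb
    rw [hx₁, algebraMap_smul_eq_zero N b hb, TensorProduct.zero_tmul]
  have hkerπ : ∀ x, π x = 0 → x ∈ P₁ := by
    intro x hx
    let πA : A' ⊗[A] B →ₐ[A] A' ⊗[A] (B ⧸ I) :=
      Algebra.TensorProduct.map (AlgHom.id A A') (Ideal.Quotient.mkₐ A I)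
    have h1 : x ∈ RingHom.ker πA := hx
    rw [Algebra.TensorProduct.lTensor_ker (Ideal.Quotient.mkₐ A I)
      (Ideal.Quotient.mkₐ_surjective A I)] at h1
    have h2 : (RingHom.ker (Ideal.Quotient.mkₐ A I)).map (Algebra.TensorProduct.includeRight :
        B →ₐ[A] A' ⊗[A] B) ≤ P₁ := by
      rw [Ideal.map_le_iff_le_comap]
      intro b hb
      have hbI : b ∈ I := by
        have : Ideal.Quotient.mk I b = 0 := hb
        exact Ideal.Quotient.eq_zero_iff_mem.1 this
      exact hIP₁ b hbI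
    exact h2 h1
  -- the idempotent
  obtain ⟨et, het⟩ := hπ (ε.symm (1, 0))
  have het1 : et ∈ P₁ := by
    have h1 : et * (1 - et) ∈ P₁ := by
      apply hkerπ
      rw [map_mul, map_sub, map_one, het]
      apply ε.injective
      rw [map_mul, map_sub, map_one, ε.apply_symm_apply, map_zero]
      ext <;> simp
    rcases hP₁.mem_or_mem h1 with h | h
    · exact h
    · exfalso
      have h2 : ρ (1 - et) ∈ Q := hP₁le h
      have h3 : ρ (1 - et) = 1 := by
        show (ε (π (1 - et))).2 = 1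
        rw [map_sub, map_one, het, map_sub, map_one, ε.apply_symm_apply]
        simp
      rw [h3] at h2
      exact hQ.ne_top ((Ideal.eq_top_iff_one Q).2 h2)
  have hkerρ : ∀ x, ρ x = 0 → x ∈ P₁ := by
    intro x hx
    have h1 : π (x - et * x) = 0 := by
      rw [map_sub, map_mul, het]
      apply ε.injective
      rw [map_sub, map_mul, ε.apply_symm_apply, map_zero]
      have h2 : (ε (π x)).2 = 0 := hx
      ext
      · simp
      · simp [h2]
    have h2 := hkerπ _ h1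
    have h3 : et * x ∈ P₁ := P₁.mul_mem_right _ het1
    have := P₁.add_mem h2 h3
    rwa [sub_add_cancel] at this
  -- the impurity
  obtain ⟨hEt, hlo, hbij⟩ := hnhd
  have himp : FlatCA.IsImpurity A B N p A' (A' ⊗[A] B) ((A' ⊗[A] B) ⊗[B] N)
      (TensorProduct.mk B (A' ⊗[A] B) N 1) t' p' P₁ := by
    refine ⟨inferInstance, TensorProduct.isBaseChange B N (A' ⊗[A] B), ht'le, hlo, hP₁lo, hass, ?_⟩
    intro P'' hP'' hle hP''lo
    have hker : RingHom.ker ρ ≤ P'' := fun x hx => hle (hkerρ x hx)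
    haveI : (P''.map ρ).IsPrime := Ideal.map_isPrime_of_surjective hρ hker
    have hcomap : (P''.map ρ).comap ρ = P'' := by
      rw [Ideal.comap_map_of_surjective' ρ hρ]
      exact sup_eq_left.2 hker
    apply hG (P''.map ρ) inferInstance
    refine ⟨?_⟩
    rw [hP''lo.over]
    ext a
    have h1 : a ∈ (P''.map ρ).under A' ↔ ρ (algebraMap A' _ a) ∈ P''.map ρ := by
      rw [Ideal.under_def, Ideal.mem_comap, ρ.commutes]
    have h2 : ρ (algebraMap A' _ a) ∈ P''.map ρ ↔ algebraMap A' _ a ∈ P'' := by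
      rw [← Ideal.mem_comap, hcomap]
    rw [h1, h2, Ideal.under_def, Ideal.mem_comap]
  exact hpure A' (A' ⊗[A] B) ((A' ⊗[A] B) ⊗[B] N) (TensorProduct.mk B (A' ⊗[A] B) N 1) t' p' P₁
    ⟨hEt, hlo, hbij⟩ himp

end kill

end Groth.Agent.Lib.Helper15.QfFin4
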