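import Mathlib
import Groth.Prelude.Def_FlatCA
import Groth.Agent.Lib.Helper15.QfFin3

/-!
# Finiteness after inverting an element killing the non-finite part (helper15)
-/

set_option autoImplicit false
set_option linter.style.haveILetI false
set_option linter.unusedSectionVars false
set_option linter.style.longLine false
universe u

open TensorProduct

namespace Groth.Agent.Lib.Helper15.QfFin5

theorem subsingleton_tensor_of_kill {A' A'' G : Type u} [CommRing A'] [CommRing A''] [CommRing G]
    [Algebra A' A''] [Algebra A' G] (s : A') (hs : IsUnit (algebraMap A' A'' s))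
    (hsG : algebraMap A' G s = 0) : Subsingleton (A'' ⊗[A'] G) := by
  refine ⟨fun x y => ?_⟩
  have h0 : ∀ z : A'' ⊗[A'] G, z = 0 := by
    intro z
    induction z using TensorProduct.induction_on with
    | zero => rfl
    | tmul a g =>
      obtain ⟨u, hu⟩ := hs.exists_left_inv
      have h1 : a = s • (a * u) := by
        rw [Algebra.smul_def, mul_comm, mul_assoc, hu, mul_one]
      rw [h1, TensorProduct.smul_tmul, Algebra.smul_def, hsG, zero_mul, TensorProduct.tmul_zero]
    | add x y hx hy => rw [hx, hy, add_zero]
  rw [h0 x, h0 y]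

theorem finite_of_kill {A C A' A'' F G : Type u} [CommRing A] [CommRing C] [Algebra A C]
    [CommRing A'] [Algebra A A'] [CommRing A''] [Algebra A' A''] [Algebra A A'']
    [IsScalarTower A A' A''] [CommRing F] [CommRing G] [Algebra A' F] [Algebra A' G]
    (ε : (A' ⊗[A] C) ≃ₐ[A'] (F × G)) [Module.Finite A' F] (s : A')
    (hs : IsUnit (algebraMap A' A'' s)) (hsG : algebraMap A' G s = 0) :
    Module.Finite A'' (A'' ⊗[A] C) := by
  haveI := subsingleton_tensor_of_kill (A'' := A'') s hs hsG
  let e : (A'' ⊗[A] C) ≃ₐ[A''] ((A'' ⊗[A'] F) × (A'' ⊗[A'] G)) :=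
    (Algebra.TensorProduct.cancelBaseChange A A' A'' A'' C).symm.trans
      ((Algebra.TensorProduct.congr AlgEquiv.refl ε).trans
        (Algebra.TensorProduct.prodRight A' A'' A'' F G))
  haveI : Module.Finite A'' (A'' ⊗[A'] G) := Module.Finite.of_finite
  exact Module.Finite.equiv e.symm.toLinearEquiv

end Groth.Agent.Lib.Helper15.QfFin5
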