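import Mathlib
import Groth.Prelude.Def_FlatCA

/-!
# Descent of finiteness from a flat finitely presented neighbourhood to a Zariski neighbourhood
(helper15)
-/

set_option autoImplicit false
set_option linter.style.haveILetI false
set_option linter.unusedSectionVars false
set_option linter.style.longLine false
universe u

open TensorProduct

namespace Groth.Agent.Lib.Helper15.QfFin6

attribute [local instance] Algebra.TensorProduct.rightAlgebra

section descend

variable {A C A'' : Type u} [CommRing A] [CommRing C] [Algebra A C] [CommRing A'']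
  [Algebra A A''] [Module.Flat A A'']

/-- faithful flatness of `A_f ⊗ A''` over `A_f` when `D(f)` lies in the image of `Spec A''` -/
theorem faithfullyFlat_of_subset_range (Af : Type u) [CommRing Af] [Algebra A Af] (f : A)
    [IsLocalization.Away f Af]
    (hD : (PrimeSpectrum.basicOpen f : Set (PrimeSpectrum A)) ⊆
      Set.range (PrimeSpectrum.comap (algebraMap A A''))) :
    Module.FaithfullyFlat Af (Af ⊗[A] A'') := by
  apply Module.FaithfullyFlat.of_comap_surjective
  intro 𝔯
  have hfu : IsUnit (algebraMap A Af f) := IsLocalization.Away.algebraMap_isUnit f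
  have hf𝔯 : f ∉ 𝔯.asIdeal.comap (algebraMap A Af) := by
    intro h
    exact 𝔯.isPrime.ne_top (Ideal.eq_top_of_isUnit_mem _ h hfu)
  obtain ⟨𝔯'', h𝔯''⟩ := hD (show (PrimeSpectrum.comap (algebraMap A Af) 𝔯) ∈
    (PrimeSpectrum.basicOpen f : Set (PrimeSpectrum A)) from hf𝔯)
  have hc : 𝔯''.asIdeal.comap (algebraMap A A'') = 𝔯.asIdeal.comap (algebraMap A Af) :=
    congrArg PrimeSpectrum.asIdeal h𝔯''
  -- the residue field
  have hker : RingHom.ker (algebraMap A 𝔯''.asIdeal.ResidueField) =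
      𝔯.asIdeal.comap (algebraMap A Af) := by
    rw [IsScalarTower.algebraMap_eq A A'' 𝔯''.asIdeal.ResidueField, ← RingHom.comap_ker,
      Ideal.ker_algebraMap_residueField, hc]
  have hunit : ∀ y : Submonoid.powers f,
      IsUnit ((Algebra.ofId A 𝔯''.asIdeal.ResidueField) y) := by
    rintro ⟨_, k, rfl⟩
    rw [isUnit_iff_ne_zero]
    show algebraMap A 𝔯''.asIdeal.ResidueField (f ^ k) ≠ 0
    rw [map_pow]
    apply pow_ne_zero
    intro h0
    have : f ∈ RingHom.ker (algebraMap A 𝔯''.asIdeal.ResidueField) := h0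
    rw [hker] at this
    exact hf𝔯 this
  let φ₁ : Af →ₐ[A] 𝔯''.asIdeal.ResidueField :=
    IsLocalization.liftAlgHom (M := Submonoid.powers f) hunit
  let φ₂ : A'' →ₐ[A] 𝔯''.asIdeal.ResidueField := IsScalarTower.toAlgHom A A'' _
  let Ψ : Af ⊗[A] A'' →ₐ[A] 𝔯''.asIdeal.ResidueField :=
    Algebra.TensorProduct.lift φ₁ φ₂ (fun _ _ => .all _ _)
  haveI hT : (RingHom.ker Ψ).IsPrime := RingHom.ker_isPrime Ψ
  refine ⟨⟨RingHom.ker Ψ, hT⟩, ?_⟩
  apply PrimeSpectrum.ext
  show (RingHom.ker Ψ).comap (algebraMap Af (Af ⊗[A] A'')) = 𝔯.asIdeal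
  have h1 : (RingHom.ker Ψ).comap (algebraMap Af (Af ⊗[A] A'')) = RingHom.ker φ₁ := by
    ext x
    rw [Ideal.mem_comap, RingHom.mem_ker, RingHom.mem_ker]
    show Ψ (x ⊗ₜ 1) = 0 ↔ _
    simp [Ψ]
  rw [h1]
  have h2 : (RingHom.ker φ₁).under A = 𝔯.asIdeal.under A := by
    ext a
    rw [Ideal.under_def, Ideal.under_def, Ideal.mem_comap, RingHom.mem_ker, AlgHom.commutes,
      ← RingHom.mem_ker, hker]
  rw [← IsLocalization.map_under (Submonoid.powers f) Af (RingHom.ker φ₁), h2,
    IsLocalization.map_under (Submonoid.powers f) Af 𝔯.asIdeal]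

theorem finite_of_subset_range (Af : Type u) [CommRing Af] [Algebra A Af] (f : A)
    [IsLocalization.Away f Af]
    (hD : (PrimeSpectrum.basicOpen f : Set (PrimeSpectrum A)) ⊆
      Set.range (PrimeSpectrum.comap (algebraMap A A'')))
    [Module.Finite A'' (A'' ⊗[A] C)] : Module.Finite Af (Af ⊗[A] C) := by
  haveI := faithfullyFlat_of_subset_range (A'' := A'') Af f hD
  let e₁ := TensorProduct.AlgebraTensorModule.cancelBaseChange A Af (Af ⊗[A] A'') (Af ⊗[A] A'') C
  let e₂ := TensorProduct.AlgebraTensorModule.cancelBaseChange A A'' (Af ⊗[A] A'') (Af ⊗[A] A'') C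
  haveI : Module.Finite (Af ⊗[A] A'') ((Af ⊗[A] A'') ⊗[Af] (Af ⊗[A] C)) :=
    Module.Finite.equiv (e₂.trans e₁.symm)
  exact Module.Finite.of_finite_tensorProduct_of_faithfullyFlat (Af ⊗[A] A'')

end descend

end Groth.Agent.Lib.Helper15.QfFin6
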