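import Mathlib
import Groth.Prelude.Def_FlatCA
import Groth.Agent.Lib.Helper15.QfFin6

/-!
# Finiteness on a Zariski neighbourhood, and gluing (helper15)
-/

set_option autoImplicit false
set_option linter.style.haveILetI false
set_option linter.unusedSectionVars false
set_option linter.style.longLine false
universe u

open TensorProduct

namespace Groth.Agent.Lib.Helper15.QfFin7

theorem exists_away_finite {A C A'' : Type u} [CommRing A] [CommRing C] [Algebra A C]
    [CommRing A''] [Algebra A A''] [Module.Flat A A''] [Algebra.FinitePresentation A A'']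
    (p : Ideal A) [p.IsPrime] (p'' : Ideal A'') [p''.IsPrime] [hlo : p''.LiesOver p]
    [Module.Finite A'' (A'' ⊗[A] C)] :
    ∃ f : A, f ∉ p ∧ Module.Finite (Localization.Away f) (LocalizedModule.Away f C) := by
  have hopen : IsOpen (Set.range (PrimeSpectrum.comap (algebraMap A A''))) :=
    (PrimeSpectrum.isOpenMap_comap_of_hasGoingDown_of_finitePresentation (R := A)
      (S := A'')).isOpen_range
  have hp : (⟨p, inferInstance⟩ : PrimeSpectrum A) ∈
      Set.range (PrimeSpectrum.comap (algebraMap A A'')) := by
    refine ⟨⟨p'', inferInstance⟩, ?_⟩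
    apply PrimeSpectrum.ext
    exact hlo.over.symm
  obtain ⟨_, ⟨_, ⟨f, rfl⟩, rfl⟩, hpf, hsub⟩ := PrimeSpectrum.isBasis_basic_opens
    |>.exists_subset_of_mem_open hp hopen
  refine ⟨f, hpf, ?_⟩
  haveI := QfFin6.finite_of_subset_range (C := C) (A'' := A'') (Localization.Away f) f hsub
  exact Module.Finite.equiv (LocalizedModule.equivTensorProduct (Submonoid.powers f) C).symm

/-- gluing -/
theorem finite_of_locally {A C : Type u} [CommRing A] [AddCommGroup C] [Module A C]
    (h : ∀ (p : Ideal A) [p.IsPrime], ∃ f : A, f ∉ p ∧
      Module.Finite (Localization.Away f) (LocalizedModule.Away f C)) :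
    Module.Finite A C := by
  let t : Set A := {f | Module.Finite (Localization.Away f) (LocalizedModule.Away f C)}
  have ht : Ideal.span t = ⊤ := by
    by_contra hne
    obtain ⟨m, hm, hle⟩ := Ideal.exists_le_maximal _ hne
    haveI := hm.isPrime
    obtain ⟨f, hf, hfin⟩ := h m
    exact hf (hle (Ideal.subset_span hfin))
  exact Module.Finite.of_localizationSpan t ht (fun g => g.2)

end Groth.Agent.Lib.Helper15.QfFin7
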