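import Mathlib
import Groth.Prelude.Def_FlatCA
import Groth.Agent.Lib.Helper15.QfFin1
import Groth.Agent.Lib.Helper15.QfFin3
import Groth.Agent.Lib.Helper15.QfFin4
import Groth.Agent.Lib.Helper15.QfFin5
import Groth.Agent.Lib.Helper15.QfFin7

/-!
# Pure with finite fibre supports implies finite scheme-theoretic support (helper15)
-/

set_option autoImplicit false
set_option linter.style.haveILetI false
set_option linter.unusedSectionVars false
set_option linter.style.longLine false
universe u

open TensorProduct

namespace Groth.Agent.Lib.Helper15.QfFin8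

open Groth.Agent.Lib.Helper15

theorem local_step {A C A' A'' F G : Type u} [CommRing A] [CommRing C] [Algebra A C]
    [CommRing A'] [Algebra A A'] [CommRing A''] [Algebra A' A''] [Algebra A A'']
    [IsScalarTower A A' A''] [CommRing F] [CommRing G] [Algebra A' F] [Algebra A' G]
    (p : Ideal A) [p.IsPrime] (p' : Ideal A') [p'.IsPrime] (hnhd : FlatCA.IsEtaleNhd A A' p p')
    (ε : (A' ⊗[A] C) ≃ₐ[A'] (F × G)) [Module.Finite A' F] (s : A') (hs : s ∉ p')
    [IsLocalization.Away s A''] (hsG : algebraMap A' G s = 0) :
    ∃ f : A, f ∉ p ∧ Module.Finite (Localization.Away f) (LocalizedModule.Away f C) := by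
  obtain ⟨hEt, hlo, -⟩ := hnhd
  haveI : Algebra.Etale A' A'' := Algebra.Etale.of_isLocalizationAway s
  haveI : Algebra.Etale A A'' := Algebra.Etale.comp A A' A''
  haveI : Module.Finite A'' (A'' ⊗[A] C) :=
    QfFin5.finite_of_kill ε s (IsLocalization.Away.algebraMap_isUnit s) hsG
  have hdisj : Disjoint (Submonoid.powers s : Set A') (p' : Set A') := by
    rwa [Ideal.disjoint_powers_iff_notMem _ (Ideal.IsPrime.isRadical inferInstance)]
  haveI hp'' : (p'.map (algebraMap A' A'')).IsPrime :=
    IsLocalization.isPrime_of_isPrime_disjoint (Submonoid.powers s) A'' p' inferInstance hdisj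
  haveI : (p'.map (algebraMap A' A'')).LiesOver p' :=
    IsLocalization.liesOver_map_of_isPrime_disjoint (Submonoid.powers s) _ hdisj
  haveI : (p'.map (algebraMap A' A'')).LiesOver p :=
    Ideal.LiesOver.trans (p'.map (algebraMap A' A'')) p' p
  exact QfFin7.exists_away_finite p (p'.map (algebraMap A' A''))

theorem finite_of_pure {A B : Type u} [CommRing A] [CommRing B] [Algebra A B]
    [Algebra.FiniteType A B] (N : Type u) [AddCommGroup N] [Module B N] [Module A N]
    [IsScalarTower A B N] [Module.Finite B N]
    (hfin : ∀ (p : Ideal A) [p.IsPrime],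
      (Module.support (p.Fiber B) (FlatCA.fiberMod p B N)).Finite)
    (hpure : FlatCA.IsPure A B N) : Module.Finite A (B ⧸ Module.annihilator B N) := by
  apply QfFin7.finite_of_locally
  intro p _
  have hfinp := QfFin1.finite_primesOver_quotient_annihilator N p (hfin p)
  haveI : Algebra.FiniteType A (B ⧸ Module.annihilator B N) :=
    Algebra.FiniteType.of_surjective (Ideal.Quotient.mkₐ A _) (Ideal.Quotient.mkₐ_surjective A _)
  obtain ⟨A', _, _, p', _, hnhd, F, G, _, _, _, _, ε, hF, hG⟩ := QfFin3.split p hfinp
  obtain ⟨s, hs, hsG⟩ := QfFin4.exists_kill N p (hpure p) A' p' hnhd F G ε hG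
  haveI := hF
  exact local_step (A'' := Localization.Away s) p p' hnhd ε s hs hsG

end Groth.Agent.Lib.Helper15.QfFin8
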