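import Mathlib
import Groth.Prelude.Def_FlatCA
import Groth.Agent.Lib.Helper15.ImpDesc
import Groth.Agent.Lib.Helper15.QfFin8

/-!
# Finite scheme-theoretic support implies universally pure; the equivalence (helper15)
-/

set_option autoImplicit false
set_option linter.style.haveILetI false
set_option linter.unusedSectionVars false
set_option linter.style.longLine false
universe u

open TensorProduct

namespace Groth.Agent.Lib.Helper15.QfFin9

open Groth.Agent.Lib.Helper26 Groth.Agent.Lib.Helper15

attribute [local instance] Algebra.TensorProduct.rightAlgebra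

set_option maxHeartbeats 1600000 in
theorem univPure_of_finite {A B : Type u} [CommRing A] [CommRing B] [Algebra A B]
    [Algebra.FiniteType A B] (N : Type u) [AddCommGroup N] [Module B N] [Module.Finite B N]
    (h : Module.Finite A (B ⧸ Module.annihilator B N)) : FlatCA.IsUnivPure A B N := by
  intro p _ A' B' N' _ _ _ _ _ _ _ _ _ _ _ _ _ _ f t' t _ _ P _ himp
  obtain ⟨hpo, hbc, hle, hlo, hPlo, hass, hcl⟩ := himp
  set I := Module.annihilator B N with hI
  haveI : Algebra.FiniteType A' B' := by
    haveI : Algebra.IsPushout A A' B B' := hpo.symm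
    exact Algebra.FiniteType.equiv (inferInstance : Algebra.FiniteType A' (A' ⊗[A] B))
      (Algebra.IsPushout.equiv A A' B B')
  haveI := hPlo
  obtain ⟨x, hx⟩ := ImpDesc.exists_witness t' N' P hass
  -- `I` kills `N'`
  have hkill : ∀ b ∈ I, ∀ z : N', algebraMap B B' b • z = 0 := by
    intro b hb z
    refine hbc.inductionOn z (fun z => algebraMap B B' b • z = 0) (smul_zero _) ?_ ?_ ?_
    · intro m
      rw [algebraMap_smul, ← map_smul, Module.mem_annihilator.1 hb m, map_zero]
    · intro s n hn
      rw [smul_comm, hn, smul_zero]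
    · intro n₁ n₂ h₁ h₂
      rw [smul_add, h₁, h₂, add_zero]
  have hJP : I.map (algebraMap B B') ≤ P := by
    rw [Ideal.map_le_iff_le_comap]
    intro b hb
    rw [Ideal.mem_comap, hx, hkill b hb x, TensorProduct.zero_tmul]
  set J := I.map (algebraMap B B') with hJ
  -- the induced map on quotients
  let ψ : (B ⧸ I) →ₐ[A] (B' ⧸ J) :=
    Ideal.Quotient.liftₐ I ((Ideal.Quotient.mkₐ A J).comp (IsScalarTower.toAlgHom A B B')) (by
      intro b hb
      show Ideal.Quotient.mk J (algebraMap B B' b) = 0
      rw [Ideal.Quotient.eq_zero_iff_mem]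
      exact Ideal.mem_map_of_mem _ hb)
  have hψ : ∀ b : B, ψ (Ideal.Quotient.mk I b) = Ideal.Quotient.mk J (algebraMap B B' b) :=
    fun b => rfl
  haveI : Algebra.IsIntegral A (B ⧸ I) := Algebra.IsIntegral.of_finite A (B ⧸ I)
  have hint0 : ∀ b : B, IsIntegral A' (Ideal.Quotient.mk J (algebraMap B B' b)) := by
    intro b
    have h1 : IsIntegral A (Ideal.Quotient.mk I b) := Algebra.IsIntegral.isIntegral _
    have h2 : IsIntegral A (ψ (Ideal.Quotient.mk I b)) := h1.map ψ
    rw [hψ] at h2
    exact h2.tower_top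
  have hspan := ImpDesc.span_range_algebraMap_eq_top hpo
  haveI : Algebra.IsIntegral A' (B' ⧸ J) := by
    refine ⟨fun d => ?_⟩
    obtain ⟨b', rfl⟩ := Ideal.Quotient.mk_surjective d
    have hb' : b' ∈ Submodule.span A' (Set.range (algebraMap B B')) := by
      rw [hspan]; trivial
    induction hb' using Submodule.span_induction with
    | mem y hy =>
      obtain ⟨b, rfl⟩ := hy
      exact hint0 b
    | zero => rw [map_zero]; exact isIntegral_zero
    | add y z _ _ hy hz => rw [map_add]; exact hy.add hz
    | smul a y _ hy =>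
      rw [Algebra.smul_def, map_mul]
      exact (isIntegral_algebraMap (x := a)).mul hy
  -- going up
  have hmk : Function.Surjective (Ideal.Quotient.mk J) := Ideal.Quotient.mk_surjective
  haveI hPbar : (P.map (Ideal.Quotient.mk J)).IsPrime :=
    Ideal.map_isPrime_of_surjective hmk (by rw [Ideal.mk_ker]; exact hJP)
  have hcomapP : (P.map (Ideal.Quotient.mk J)).comap (Ideal.Quotient.mk J) = P :=
    Ideal.comap_map_mk hJP
  have hunder : ∀ Q : Ideal (B' ⧸ J), Q.comap (algebraMap A' (B' ⧸ J)) =
      (Q.comap (Ideal.Quotient.mk J)).comap (algebraMap A' B') := by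
    intro Q
    rw [Ideal.comap_comap]
    rfl
  have hIP : (P.map (Ideal.Quotient.mk J)).comap (algebraMap A' (B' ⧸ J)) ≤ t := by
    rw [hunder, hcomapP]
    have : P.comap (algebraMap A' B') = t' := hPlo.over.symm
    rw [this]
    exact hle
  obtain ⟨Q, hQle, hQp, hQt⟩ := Ideal.exists_ideal_over_prime_of_isIntegral_of_isPrime t
    (P.map (Ideal.Quotient.mk J)) hIP
  haveI := hQp
  haveI : (Q.comap (Ideal.Quotient.mk J)).IsPrime := Ideal.comap_isPrime _ _
  refine hcl (Q.comap (Ideal.Quotient.mk J)) ?_ ⟨?_⟩
  · rw [← hcomapP]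
    exact Ideal.comap_mono hQle
  · rw [Ideal.under_def, ← hunder, hQt]

theorem main1222 {A B : Type u} [CommRing A] [CommRing B] [Algebra A B] [Algebra.FiniteType A B]
    (N : Type u) [AddCommGroup N] [Module B N] [Module A N] [IsScalarTower A B N]
    [Module.Finite B N]
    (hfin : ∀ (p : Ideal A) [p.IsPrime],
      (Module.support (p.Fiber B) (FlatCA.fiberMod p B N)).Finite) :
    [FlatCA.IsPure A B N, Module.Finite A (B ⧸ Module.annihilator B N),
      FlatCA.IsUnivPure A B N].TFAE := by
  tfae_have 1 → 2 := fun h => QfFin8.finite_of_pure N hfin h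
  tfae_have 2 → 3 := fun h => univPure_of_finite N h
  tfae_have 3 → 1 := by
    intro h p _ A' B' N' _ _ _ _ _ _ _ _ _ _ _ _ _ _ f t' t _ _ P _ _ himp
    exact h p A' B' N' f t' t P himp
  tfae_finish

end Groth.Agent.Lib.Helper15.QfFin9
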