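import Mathlib
import Groth.Agent.Lib.Helper15.IndexTPow
import Groth.Agent.Lib.Helper15.MaxSubfield
import Groth.Agent.Lib.Helper15.CyclicSplit
import Groth.Agent.S13270

/-!
# Central division algebras of dimension 4 are quaternion algebras (char ≠ 2)
-/

set_option autoImplicit false
universe u v w

open scoped TensorProduct

namespace Groth.Agent.Lib.Helper15.CSA

theorem isPrimitiveRoot_neg_one_two (k : Type u) [Field k] (h2 : (2 : k) ≠ 0) :
    IsPrimitiveRoot (-1 : k) 2 := by
  rw [IsPrimitiveRoot.iff_def]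
  refine ⟨by norm_num, fun l hl => ?_⟩
  by_contra hodd
  have hodd' : Odd l := by
    rcases Nat.even_or_odd l with h | h
    · exact absurd (even_iff_two_dvd.mp h) hodd
    · exact h
  rw [hodd'.neg_one_pow] at hl
  apply h2
  have : (2 : k) = 1 - (-1) := by norm_num
  rw [this, hl]; ring

/-- A separable quadratic extension in characteristic `≠ 2` is generated by a square root, and the
nontrivial automorphism negates it. -/
theorem exists_sqrt_generator (k : Type u) [Field k] (h2 : (2 : k) ≠ 0)
    (L : Type v) [Field L] [Algebra k L] [FiniteDimensional k L] [Algebra.IsSeparable k L]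
    (hL : Module.finrank k L = 2) :
    ∃ (_ : IsGalois k L) (a : kˣ) (α : L) (σ : L ≃ₐ[k] L), α ^ 2 = algebraMap k L (a : k) ∧
      IntermediateField.adjoin k ({α} : Set L) = ⊤ ∧ σ α = (-1 : k) • α ∧
      ∀ τ : L ≃ₐ[k] L, τ ∈ Subgroup.zpowers σ := by
  classical
  haveI : Algebra.IsQuadraticExtension k L := ⟨hL⟩
  have hgal : IsGalois k L := inferInstance
  have hcard : Nat.card (L ≃ₐ[k] L) = 2 := by rw [IsGalois.card_aut_eq_finrank, hL]
  -- a nontrivial automorphism
  have hnt : Nontrivial (L ≃ₐ[k] L) := by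
    rw [← Finite.one_lt_card_iff_nontrivial, hcard]; norm_num
  obtain ⟨σ, hσ⟩ := exists_ne (1 : L ≃ₐ[k] L)
  have hσ2 : σ ^ 2 = 1 := by rw [← hcard]; exact pow_card_eq_one'
  have hall : ∀ τ : L ≃ₐ[k] L, τ = 1 ∨ τ = σ := by
    intro τ
    by_contra hτ
    push Not at hτ
    have h3 : 3 ≤ Nat.card (L ≃ₐ[k] L) := by
      have : ({1, σ, τ} : Finset (L ≃ₐ[k] L)).card = 3 := by
        rw [Finset.card_insert_of_notMem, Finset.card_insert_of_notMem, Finset.card_singleton]
        · simpa using hτ.2.symm
        · simp only [Finset.mem_insert, Finset.mem_singleton, not_or]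
          exact ⟨hσ.symm, hτ.1.symm⟩
      rw [← this, Nat.card_eq_fintype_card]
      exact Finset.card_le_univ _
    omega
  obtain ⟨θ, hθ⟩ : ∃ θ : L, σ θ ≠ θ := by
    by_contra hcon
    push Not at hcon
    exact hσ (AlgEquiv.ext hcon)
  set α : L := θ - σ θ with hα
  have hσσ : σ (σ θ) = θ := by
    have := congrArg (fun f : L ≃ₐ[k] L => f θ) hσ2
    simpa [pow_two, AlgEquiv.mul_apply] using this
  have hσα : σ α = -α := by
    rw [hα, map_sub, hσσ]; ring
  have hα0 : α ≠ 0 := by
    rw [hα]; exact sub_ne_zero.mpr (Ne.symm hθ)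
  have hfix : ∀ τ : L ≃ₐ[k] L, τ (α ^ 2) = α ^ 2 := by
    intro τ
    rcases hall τ with h | h
    · rw [h]; rfl
    · rw [h, map_pow, hσα]; ring
  obtain ⟨a, ha⟩ := (IsGalois.mem_range_algebraMap_iff_fixed (F := k) (E := L) (α ^ 2)).mpr hfix
  have ha0 : a ≠ 0 := by
    rintro rfl
    rw [map_zero] at ha
    exact hα0 (pow_eq_zero_iff (two_ne_zero) |>.mp ha.symm)
  have h2L : (2 : L) ≠ 0 := by
    rw [← map_ofNat (algebraMap k L) 2]
    exact (map_ne_zero _).mpr h2
  have hαnot : α ∉ (⊥ : IntermediateField k L) := by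
    intro hmem
    rw [IntermediateField.mem_bot] at hmem
    obtain ⟨c, hc⟩ := hmem
    have : σ α = α := by rw [← hc, AlgEquiv.commutes]
    rw [hσα] at this
    have : (2 : L) * α = 0 := by linear_combination -this
    rcases mul_eq_zero.mp this with h | h
    · exact h2L h
    · exact hα0 h
  have hprime : (Module.finrank k L).Prime := by rw [hL]; exact Nat.prime_two
  have : IsSimpleOrder (IntermediateField k L) :=
    IntermediateField.isSimpleOrder_of_finrank_prime k L hprime
  have hadj : IntermediateField.adjoin k ({α} : Set L) = ⊤ := by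
    rcases eq_bot_or_eq_top (IntermediateField.adjoin k ({α} : Set L)) with h | h
    · exfalso
      apply hαnot
      rw [← h]
      exact IntermediateField.mem_adjoin_simple_self k α
    · exact h
  refine ⟨hgal, Units.mk0 a ha0, α, σ, ha.symm, hadj, ?_, ?_⟩
  · rw [hσα, neg_smul, one_smul]
  · intro τ
    rcases hall τ with h | h
    · rw [h]; exact one_mem _
    · rw [h]; exact Subgroup.mem_zpowers σ

/-- A central division algebra of dimension 4 over a field of characteristic `≠ 2` is a
quaternion algebra. -/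
theorem exists_algEquiv_quaternion (k : Type u) [Field k] (h2 : (2 : k) ≠ 0)
    (D : Type v) [DivisionRing D] [Algebra k D] [Algebra.IsCentral k D] [FiniteDimensional k D]
    (hD : Module.finrank k D = 4) :
    ∃ a b : k, Nonempty (D ≃ₐ[k] QuaternionAlgebra k a 0 b) := by
  obtain ⟨L, _, _, _, hsep, ι, hfr⟩ := exists_maximal_subfield k D
  have hL : Module.finrank k L = 2 := by
    rw [hD] at hfr
    have : Module.finrank k L ^ 2 = 2 ^ 2 := by rw [← hfr]; norm_num
    exact Nat.pow_left_injective (by norm_num : 2 ≠ 0) this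
  obtain ⟨hgal, a, α, σ, hα, hadj, hσα, hσ⟩ := exists_sqrt_generator k h2 L hL
  have hsplit : Curves.Splits k D L := splits_of_algHom_of_finrank_sq k L D ι hfr
  obtain ⟨b, hcyc⟩ := exists_isCyclicAlg_of_splits k L σ hσ D hsplit hfr
  have hsym : CSAGal.IsSymbolAlg k 2 (-1 : k) a b D :=
    (Groth.Agent.S13270.result k 2 (by norm_num) (-1) (isPrimitiveRoot_neg_one_two k h2) L hL a α hα
      hadj σ hσα b D).mpr hcyc
  obtain ⟨x, y, hx, hy, hxy, hgen, -, -⟩ := hsym
  let B : QuaternionAlgebra.Basis D (a : k) 0 (b : k) :=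
    { i := x
      j := y
      k := x * y
      i_mul_i := by rw [zero_smul, add_zero, ← pow_two, hx, Algebra.algebraMap_eq_smul_one]
      j_mul_j := by rw [← pow_two, hy, Algebra.algebraMap_eq_smul_one]
      i_mul_j := rfl
      j_mul_i := by rw [zero_smul, zero_sub, hxy, neg_smul, one_smul, neg_neg] }
  let f : QuaternionAlgebra k (a : k) 0 (b : k) →ₐ[k] D := B.liftHom
  have hsurj : Function.Surjective f := by
    rw [← AlgHom.range_eq_top, QuaternionAlgebra.Basis.range_liftHom]
    apply top_le_iff.mp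
    rw [← hgen]
    apply Algebra.adjoin_mono
    intro z hz
    rcases hz with rfl | rfl
    · simp [B]
    · simp [B]
  have hfin : Module.finrank k (QuaternionAlgebra k (a : k) 0 (b : k)) = Module.finrank k D := by
    rw [QuaternionAlgebra.finrank_eq_four, hD]
  have hinj : Function.Injective f :=
    (LinearMap.injective_iff_surjective_of_finrank_eq_finrank (f := f.toLinearMap) hfin).mpr hsurj
  exact ⟨a, b, ⟨(AlgEquiv.ofBijective f ⟨hinj, hsurj⟩).symm⟩⟩

end Groth.Agent.Lib.Helper15.CSA
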