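import Mathlib
import Groth.Prelude.Def_FlatCA

set_option autoImplicit false

namespace Groth.Agent.Lib.Helper15.RL1

universe u

section Alg

variable {A : Type u} [CommRing A] {A' : ℕ → Type u} [∀ n, CommRing (A' n)]
  {φ : ∀ n, A' (n + 1) →+* A' n} {π : ∀ n, A →+* A' n}

theorem pi0_surjective (hlim : FlatCA.IsRingLimit A A' φ π)
    (hsurj : ∀ n, Function.Surjective (φ n)) : Function.Surjective (π 0) := by
  intro y
  obtain ⟨hc, hinj, hlift⟩ := hlim
  let x : ∀ n, A' n := fun n => Nat.rec y (fun n xn => Classical.choose (hsurj n xn)) n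
  have hx : ∀ n, φ n (x (n+1)) = x n := fun n => Classical.choose_spec (hsurj n (x n))
  obtain ⟨a, ha⟩ := hlift x hx
  exact ⟨a, ha 0⟩

theorem pi_nilpotent_of_mem_ker (hlim : FlatCA.IsRingLimit A A' φ π)
    (hnil : ∀ n, ∀ x ∈ RingHom.ker (φ n), IsNilpotent x) {x : A} (hx : x ∈ RingHom.ker (π 0))
    (n : ℕ) : IsNilpotent (π n x) := by
  obtain ⟨hc, hinj, hlift⟩ := hlim
  induction n with
  | zero =>
    rw [RingHom.mem_ker] at hx
    rw [hx]; exact IsNilpotent.zero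
  | succ n ih =>
    obtain ⟨k, hk⟩ := ih
    have h1 : φ n (π (n+1) x) = π n x := by
      rw [← hc n]; rfl
    have h2 : (π (n+1) x)^k ∈ RingHom.ker (φ n) := by
      rw [RingHom.mem_ker, map_pow, h1, hk]
    obtain ⟨m, hm⟩ := hnil n _ h2
    exact ⟨k * m, by rw [pow_mul, hm]⟩

theorem isUnit_one_sub_of_mem_ker (hlim : FlatCA.IsRingLimit A A' φ π)
    (hnil : ∀ n, ∀ x ∈ RingHom.ker (φ n), IsNilpotent x) {x : A} (hx : x ∈ RingHom.ker (π 0)) :
    IsUnit (1 - x) := by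
  have hN := pi_nilpotent_of_mem_ker hlim hnil hx
  obtain ⟨hc, hinj, hlift⟩ := hlim
  have hU : ∀ n, IsUnit (π n (1 - x)) := by
    intro n
    rw [map_sub, map_one]
    exact (hN n).isUnit_one_sub
  let inv : ∀ n, A' n := fun n => ((hU n).unit⁻¹ : (A' n)ˣ)
  have hinv : ∀ n, inv n * π n (1 - x) = 1 := by
    intro n
    exact (hU n).val_inv_mul
  have hcomp : ∀ n, φ n (inv (n+1)) = inv n := by
    intro n
    have h1 : φ n (π (n+1) (1 - x)) = π n (1 - x) := by
      rw [← hc n]; rfl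
    have h2 : φ n (inv (n+1)) * π n (1 - x) = 1 := by
      rw [← h1, ← map_mul, hinv, map_one]
    apply (hU n).mul_left_injective
    show φ n (inv (n+1)) * π n (1 - x) = inv n * π n (1 - x)
    rw [h2, hinv]
  obtain ⟨b, hb⟩ := hlift inv hcomp
  have : b * (1 - x) = 1 := by
    apply hinj
    intro n
    rw [map_mul, hb, hinv, map_one]
  exact IsUnit.of_mul_eq_one _ (by rw [mul_comm]; exact this)

theorem open_eq_univ (hlim : FlatCA.IsRingLimit A A' φ π)
    (hsurj : ∀ n, Function.Surjective (φ n))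
    (hnil : ∀ n, ∀ x ∈ RingHom.ker (φ n), IsNilpotent x)
    (W : Set (PrimeSpectrum A)) (hW : IsOpen W)
    (hmem : ∀ Q : PrimeSpectrum (A' 0), PrimeSpectrum.comap (π 0) Q ∈ W) : W = Set.univ := by
  have hWc : IsClosed Wᶜ := hW.isClosed_compl
  obtain ⟨J, hJ⟩ := (PrimeSpectrum.isClosed_iff_zeroLocus_ideal _).mp hWc
  have hJmap : J.map (π 0) = ⊤ := by
    by_contra hne
    obtain ⟨M, hM, hle⟩ := Ideal.exists_le_maximal _ hne
    have hQ : PrimeSpectrum.comap (π 0) ⟨M, hM.isPrime⟩ ∈ Wᶜ := by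
      rw [hJ, PrimeSpectrum.mem_zeroLocus]
      intro j hj
      show j ∈ Ideal.comap (π 0) M
      rw [Ideal.mem_comap]
      exact hle (Ideal.mem_map_of_mem _ hj)
    exact hQ (hmem _)
  have h1 : (1 : A' 0) ∈ J.map (π 0) := by rw [hJmap]; trivial
  obtain ⟨j, hj, hj1⟩ := (Ideal.mem_map_iff_of_surjective (π 0) (pi0_surjective hlim hsurj)).mp h1
  have hker : (1 - j) ∈ RingHom.ker (π 0) := by
    rw [RingHom.mem_ker, map_sub, map_one, hj1, sub_self]
  have hu := isUnit_one_sub_of_mem_ker hlim hnil hker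
  rw [sub_sub_cancel] at hu
  have hJtop : J = ⊤ := Ideal.eq_top_of_isUnit_mem _ hj hu
  rw [hJtop] at hJ
  have : Wᶜ = ∅ := by
    rw [hJ]; simp
  exact Set.compl_empty_iff.mp this

end Alg

end Groth.Agent.Lib.Helper15.RL1
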