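import Mathlib
import Groth.Prelude.Def_FlatCA
import Groth.Agent.Lib.Helper15.RL1

set_option autoImplicit false

namespace Groth.Agent.Lib.Helper15.RL2

open Groth.Agent.Lib.Helper15.RL1

universe u

open AlgebraicGeometry CategoryTheory

theorem spec_map_surjective_of_nil {R S : Type u} [CommRing R] [CommRing S] (f : R →+* S)
    (hs : Function.Surjective f) (hn : ∀ x ∈ RingHom.ker f, IsNilpotent x) :
    Function.Surjective (Spec.map (CommRingCat.ofHom f)) := by
  intro P
  have hk : RingHom.ker f ≤ P.asIdeal := by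
    intro x hx
    obtain ⟨k, hk⟩ := hn x hx
    exact P.2.mem_of_pow_mem k (by rw [hk]; exact Ideal.zero_mem _)
  haveI := Ideal.map_isPrime_of_surjective hs hk
  refine ⟨⟨P.asIdeal.map f, this⟩, ?_⟩
  apply PrimeSpectrum.ext
  show Ideal.comap f (Ideal.map f P.asIdeal) = P.asIdeal
  rw [Ideal.comap_map_of_surjective f hs]
  exact sup_eq_left.mpr hk

theorem exists_compact_open_superset {T : Scheme.{u}} (s : Set T) (hs : IsCompact s) :
    ∃ U : T.Opens, IsCompact (U : Set T) ∧ s ⊆ U := by
  have hcov : s ⊆ ⋃ i : T.affineOpens, ((i : T.Opens) : Set T) := by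
    intro x _
    have : x ∈ (⨆ i : T.affineOpens, (i : T.Opens)) := by
      rw [AlgebraicGeometry.iSup_affineOpens_eq_top T]; trivial
    simpa using this
  obtain ⟨t, ht⟩ := hs.elim_finite_subcover (fun i : T.affineOpens => ((i : T.Opens) : Set T))
    (fun i => (i : T.Opens).2) hcov
  refine ⟨⟨⋃ i ∈ t, ((i : T.Opens) : Set T), isOpen_biUnion (fun i _ => (i : T.Opens).2)⟩, ?_, ht⟩
  exact t.isCompact_biUnion (fun i _ => i.2.isCompact)

end Groth.Agent.Lib.Helper15.RL2
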