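import Mathlib
import Groth.Prelude.Def_FlatCA
import Groth.Agent.Lib.Helper15.RL2

set_option autoImplicit false

namespace Groth.Agent.Lib.Helper15.RL3

open Groth.Agent.Lib.Helper15.RL1 Groth.Agent.Lib.Helper15.RL2

universe u

open AlgebraicGeometry CategoryTheory

theorem main {A : Type u} [CommRing A] (A' : ℕ → Type u) [∀ n, CommRing (A' n)]
    (φ : ∀ n, A' (n + 1) →+* A' n) (π : ∀ n, A →+* A' n) (hlim : FlatCA.IsRingLimit A A' φ π)
    (hsurj : ∀ n, Function.Surjective (φ n)) (hnil : ∀ n, ∀ x ∈ RingHom.ker (φ n), IsNilpotent x)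
    {T : Scheme.{u}} (h : T ⟶ Spec (CommRingCat.of A)) [Mono h] [LocallyOfFiniteType h]
    (hsec : ∀ n, ∃ g : Spec (CommRingCat.of (A' n)) ⟶ T,
      g ≫ h = Spec.map (CommRingCat.ofHom (π n))) :
    IsIso h := by
  choose g hg using hsec
  have hc := hlim.1
  have hinj := hlim.2.1
  have hlift := hlim.2.2
  -- B1
  have hgg : ∀ n, Spec.map (CommRingCat.ofHom (φ n)) ≫ g (n+1) = g n := by
    intro n
    rw [← cancel_mono h, Category.assoc, hg, hg, ← Spec.map_comp, ← CommRingCat.ofHom_comp, hc n]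
  -- B2
  obtain ⟨U, hUc, hU0⟩ := exists_compact_open_superset (Set.range (g 0))
    (isCompact_range (g 0).continuous)
  have hUn : ∀ n, Set.range (g n) ⊆ U := by
    intro n
    induction n with
    | zero => exact hU0
    | succ n ih =>
      rintro _ ⟨P, rfl⟩
      obtain ⟨Q, rfl⟩ := spec_map_surjective_of_nil (φ n) (hsurj n) (hnil n) P
      rw [← Scheme.Hom.comp_apply, hgg]
      exact ih ⟨Q, rfl⟩
  -- B3
  let h' : (U : Scheme) ⟶ Spec (CommRingCat.of A) := U.ι ≫ h
  haveI : CompactSpace (U : Scheme) := isCompact_iff_compactSpace.mp hUc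
  haveI : QuasiCompact h' := (quasiCompact_iff_compactSpace h').mpr inferInstance
  haveI : Mono h' := mono_comp _ _
  haveI : LocallyOfFiniteType h' := inferInstance
  haveI : IsSeparated h' := inferInstance
  haveI : LocallyQuasiFinite h' := inferInstance
  -- B4
  let X' := h'.normalization
  let tN : (U : Scheme) ⟶ X' := h'.toNormalization
  let fN : X' ⟶ Spec (CommRingCat.of A) := h'.fromNormalization
  have htf : tN ≫ fN = h' := h'.toNormalization_fromNormalization
  haveI : IsOpenImmersion tN := inferInstance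
  haveI : IsAffineHom fN := inferInstance
  haveI : IsAffine X' := isAffine_of_isAffineHom fN
  -- B5
  have hUn' : ∀ n, Set.range (g n) ⊆ Set.range U.ι := by
    intro n; rw [Scheme.Opens.range_ι]; exact hUn n
  let g' : ∀ n, Spec (CommRingCat.of (A' n)) ⟶ (U : Scheme) :=
    fun n => IsOpenImmersion.lift U.ι (g n) (hUn' n)
  have hg' : ∀ n, g' n ≫ U.ι = g n := fun n => IsOpenImmersion.lift_fac _ _ _
  let u : ∀ n, Spec (CommRingCat.of (A' n)) ⟶ X' := fun n => g' n ≫ tN
  have hu : ∀ n, u n ≫ fN = Spec.map (CommRingCat.ofHom (π n)) := by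
    intro n
    show (g' n ≫ tN) ≫ fN = _
    rw [Category.assoc, htf]
    show g' n ≫ U.ι ≫ h = _
    rw [← Category.assoc, hg', hg]
  have huu : ∀ n, Spec.map (CommRingCat.ofHom (φ n)) ≫ u (n+1) = u n := by
    intro n
    show _ ≫ (g' (n+1) ≫ tN) = g' n ≫ tN
    rw [← Category.assoc]
    congr 1
    rw [← cancel_mono U.ι, Category.assoc, hg', hg', hgg]
  -- B6
  let e := X'.isoSpec
  let ψ : ∀ n, Γ(X', ⊤) ⟶ CommRingCat.of (A' n) := fun n => Spec.preimage (u n ≫ e.hom)
  have hψ : ∀ n, Spec.map (ψ n) = u n ≫ e.hom := fun n => Spec.map_preimage _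
  let θ : CommRingCat.of A ⟶ Γ(X', ⊤) := Spec.preimage (e.inv ≫ fN)
  have hθ : Spec.map θ = e.inv ≫ fN := Spec.map_preimage _
  have hθψ : ∀ n, θ ≫ ψ n = CommRingCat.ofHom (π n) := by
    intro n
    apply Spec.map_injective
    rw [Spec.map_comp, hψ, hθ, Category.assoc, e.hom_inv_id_assoc, hu]
  have hψφ : ∀ n, ψ (n+1) ≫ CommRingCat.ofHom (φ n) = ψ n := by
    intro n
    apply Spec.map_injective
    rw [Spec.map_comp, hψ, hψ, ← Category.assoc, huu]
  have hcompat : ∀ b : Γ(X', ⊤), ∀ n, φ n ((ψ (n+1)).hom b) = (ψ n).hom b := by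
    intro b n
    have := congrArg (fun k => k.hom b) (hψφ n)
    exact this
  choose Ψf hΨf using fun b : Γ(X', ⊤) => hlift (fun n => (ψ n).hom b) (hcompat b)
  let Ψ : Γ(X', ⊤) →+* A :=
    { toFun := Ψf
      map_one' := hinj _ _ (fun n => by rw [hΨf, map_one, map_one])
      map_mul' := fun a b => hinj _ _ (fun n => by rw [hΨf, map_mul, map_mul, hΨf, hΨf])
      map_zero' := hinj _ _ (fun n => by rw [hΨf, map_zero, map_zero])
      map_add' := fun a b => hinj _ _ (fun n => by rw [hΨf, map_add, map_add, hΨf, hΨf]) }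
  have hΨπ : ∀ n, CommRingCat.ofHom Ψ ≫ CommRingCat.ofHom (π n) = ψ n := by
    intro n
    apply CommRingCat.hom_ext
    apply RingHom.ext
    intro b
    exact hΨf b n
  have hθΨ : θ ≫ CommRingCat.ofHom Ψ = 𝟙 _ := by
    apply CommRingCat.hom_ext
    apply RingHom.ext
    intro a
    apply hinj
    intro n
    show π n (Ψf (θ.hom a)) = π n a
    rw [hΨf]
    have := congrArg (fun k => k.hom a) (hθψ n)
    exact this
  let σ : Spec (CommRingCat.of A) ⟶ X' := Spec.map (CommRingCat.ofHom Ψ) ≫ e.inv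
  have hσf : σ ≫ fN = 𝟙 _ := by
    show (Spec.map (CommRingCat.ofHom Ψ) ≫ e.inv) ≫ fN = 𝟙 _
    rw [Category.assoc, ← hθ, ← Spec.map_comp, hθΨ, Spec.map_id]
  have hπσ : ∀ n, Spec.map (CommRingCat.ofHom (π n)) ≫ σ = u n := by
    intro n
    show _ ≫ (Spec.map (CommRingCat.ofHom Ψ) ≫ e.inv) = u n
    rw [← Category.assoc, ← Spec.map_comp, hΨπ, hψ, Category.assoc, e.hom_inv_id, Category.comp_id]
  -- B7
  have hW : ((fun x : PrimeSpectrum A => σ x) ⁻¹' Set.range tN) = Set.univ := by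
    apply open_eq_univ hlim hsurj hnil _ ?_
    · intro Q
      show σ (Spec.map (CommRingCat.ofHom (π 0)) Q) ∈ Set.range tN
      rw [← Scheme.Hom.comp_apply, hπσ 0]
      exact ⟨g' 0 Q, rfl⟩
    · exact (tN.opensRange.2).preimage σ.continuous
  -- B8
  have hσr : Set.range σ ⊆ Set.range tN := by
    rintro _ ⟨x, rfl⟩
    have : x ∈ ((fun x : PrimeSpectrum A => σ x) ⁻¹' Set.range tN) := by rw [hW]; trivial
    exact this
  let s : Spec (CommRingCat.of A) ⟶ (U : Scheme) := IsOpenImmersion.lift tN σ hσr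
  have hs : s ≫ tN = σ := IsOpenImmersion.lift_fac _ _ _
  have hsplit : (s ≫ U.ι) ≫ h = 𝟙 _ := by
    rw [Category.assoc]
    show s ≫ h' = 𝟙 _
    rw [← htf, ← Category.assoc, hs, hσf]
  haveI : IsSplitEpi h := IsSplitEpi.mk' ⟨s ≫ U.ι, hsplit⟩
  exact isIso_of_mono_of_isSplitEpi h

end Groth.Agent.Lib.Helper15.RL3
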