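import Mathlib

set_option autoImplicit false
set_option linter.style.haveILetI false

open Polynomial

namespace Groth.Agent.Lib.Helper15.RadicalExt

universe u

section other_root
variable {k K : Type*} [Field k] [Field K] [Algebra k K]

/-- a separable element not in the base has another conjugate in the algebraic closure. -/
theorem exists_other_root (α : K) (hα : IsSeparable k α)
    (hnot : α ∉ Set.range (algebraMap k K)) :
    ∃ β : AlgebraicClosure K, aeval β (minpoly k α) = 0 ∧ β ≠ algebraMap K (AlgebraicClosure K) α := by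
  set f := minpoly k α with hf
  have hint : IsIntegral k α := hα.isIntegral
  have hirr : Irreducible f := minpoly.irreducible hint
  have hdeg : 2 ≤ f.natDegree := by
    have h1 : f.natDegree ≠ 1 := fun h => hnot ((minpoly.natDegree_eq_one_iff).mp h)
    have h0 := hirr.natDegree_pos
    omega
  let Ω := AlgebraicClosure K
  set fK := f.map (algebraMap k K) with hfK
  set g := fK /ₘ (X - C α) with hg
  have hrootα : fK.IsRoot α := by
    rw [IsRoot.def, hfK, eval_map_algebraMap]; exact minpoly.aeval k α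
  have hfg : (X - C α) * g = fK := mul_divByMonic_eq_iff_isRoot.mpr hrootα
  have hsepK : fK.Separable := Separable.map hα
  have hgα : g.eval α ≠ 0 := by
    have h1 := hsepK.eval₂_derivative_ne_zero (RingHom.id K) (x := α)
      (by rw [eval₂_id]; exact hrootα)
    rw [eval₂_id, ← hfg, derivative_mul] at h1
    simpa using h1
  have hgdeg : g.natDegree ≠ 0 := by
    have h0 : g ≠ 0 := by rintro h; rw [h] at hgα; simp at hgα
    have h1 : fK.natDegree = 1 + g.natDegree := by
      rw [← hfg, natDegree_mul (X_sub_C_ne_zero α) h0, natDegree_X_sub_C]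
    have h2 : fK.natDegree = f.natDegree := natDegree_map _
    omega
  obtain ⟨β, hβ⟩ : ∃ β : Ω, aeval β g = 0 :=
    IsAlgClosed.exists_aeval_eq_zero Ω g
      (fun h => hgdeg (natDegree_eq_zero_iff_degree_le_zero.mpr h.le))
  have hβα : β ≠ algebraMap K Ω α := by
    rintro rfl
    rw [aeval_algebraMap_apply, coe_aeval_eq_eval] at hβ
    exact hgα ((algebraMap K Ω).injective (by rw [hβ, map_zero]))
  have hβf : aeval β f = 0 := by
    rw [← Polynomial.aeval_map_algebraMap K, ← hfK, ← hfg, map_mul, hβ, mul_zero]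
  exact ⟨β, hβf, hβα⟩

end other_root

section computation
/-- the core computation: in a field `Ω` over a field `F₀`, if `A ≠ B`, `A ≠ 0`, `A + 1 ≠ 0`,
`A + c ≠ 0` and `B / A`, `(B+1)/(A+1)`, `(B + c)/(A + c)` are roots of unity, then `c` is
integral over `F₀`. -/
theorem isIntegral_of_roots_of_unity {F₀ Ω : Type*} [Field F₀] [Field Ω] [Algebra F₀ Ω]
    (A B c : Ω) (hAB : A ≠ B) (hA0 : A ≠ 0) (hA1 : A + 1 ≠ 0) (hAc : A + c ≠ 0)
    (m₀ m₁ m : ℕ) (hm₀ : 0 < m₀) (hm₁ : 0 < m₁) (hm : 0 < m)
    (h0 : B ^ m₀ = A ^ m₀) (h1 : (B + 1) ^ m₁ = (A + 1) ^ m₁) (hc : (B + c) ^ m = (A + c) ^ m) :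
    IsIntegral F₀ A ∧ IsIntegral F₀ c := by
  have hroot : ∀ (t : Ω) (n : ℕ), 0 < n → t ^ n = 1 → IsIntegral F₀ t := by
    intro t n hn ht
    refine ⟨X ^ n - C 1, monic_X_pow_sub_C 1 hn.ne', ?_⟩
    simp [ht]
  set t₀ := B / A with ht₀
  set t₁ := (B + 1) / (A + 1) with ht₁
  set tc := (B + c) / (A + c) with htc
  have e0 : t₀ ^ m₀ = 1 := by rw [ht₀, div_pow, h0, div_self (pow_ne_zero _ hA0)]
  have e1 : t₁ ^ m₁ = 1 := by rw [ht₁, div_pow, h1, div_self (pow_ne_zero _ hA1)]
  have ec : tc ^ m = 1 := by rw [htc, div_pow, hc, div_self (pow_ne_zero _ hAc)]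
  have i0 := hroot t₀ m₀ hm₀ e0
  have i1 := hroot t₁ m₁ hm₁ e1
  have ic := hroot tc m hm ec
  have hB0 : B = t₀ * A := by rw [ht₀, div_mul_cancel₀ _ hA0]
  have hB1 : B + 1 = t₁ * (A + 1) := by rw [ht₁, div_mul_cancel₀ _ hA1]
  have hBc : B + c = tc * (A + c) := by rw [htc, div_mul_cancel₀ _ hAc]
  have ht1ne : t₁ ≠ 1 := by
    intro h
    rw [h, one_mul] at hB1
    exact hAB (add_right_cancel hB1).symm
  have htcne : tc ≠ 1 := by
    intro h
    rw [h, one_mul] at hBc
    exact hAB (add_right_cancel hBc).symm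
  have hA : A * (t₀ - t₁) = t₁ - 1 := by
    have : t₀ * A + 1 = t₁ * (A + 1) := by rw [← hB0]; exact hB1
    linear_combination this
  have ht01 : t₀ - t₁ ≠ 0 := by
    intro h
    rw [h, mul_zero] at hA
    exact ht1ne (sub_eq_zero.mp hA.symm)
  have hAeq : A = (t₁ - 1) / (t₀ - t₁) := by
    rw [eq_div_iff ht01]; exact hA
  have iA : IsIntegral F₀ A := by
    rw [hAeq]
    have hnum : IsIntegral F₀ (t₁ - 1) := i1.sub isIntegral_one
    have hden : IsIntegral F₀ (t₀ - t₁) := i0.sub i1
    rw [div_eq_mul_inv]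
    exact hnum.mul hden.inv
  refine ⟨iA, ?_⟩
  have hcc : c * (1 - tc) = A * (tc - t₀) := by
    have : t₀ * A + c = tc * (A + c) := by rw [← hB0]; exact hBc
    linear_combination this
  have h1tc : (1 - tc) ≠ 0 := sub_ne_zero.mpr (Ne.symm htcne)
  have hceq : c = A * (tc - t₀) / (1 - tc) := by
    rw [eq_div_iff h1tc]; exact hcc
  rw [hceq, div_eq_mul_inv]
  exact (iA.mul (ic.sub i0)).mul (isIntegral_one.sub ic).inv

end computation

section setting
variable {k k' : Type u} [Field k] [Field k'] [Algebra k k']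
  (H : ∀ x : k', ∃ n : ℕ, 0 < n ∧ x ^ n ∈ Set.range (algebraMap k k'))

include H in
theorem conj_pow_eq (a : k') (b : AlgebraicClosure k') (hb : aeval b (minpoly k a) = 0) (c : k) :
    ∃ m : ℕ, 0 < m ∧ (b + algebraMap k (AlgebraicClosure k') c) ^ m =
      (algebraMap k' (AlgebraicClosure k') a + algebraMap k (AlgebraicClosure k') c) ^ m := by
  obtain ⟨m, hm, d, hd⟩ := H (a + algebraMap k k' c)
  refine ⟨m, hm, ?_⟩
  let g : k[X] := (X + C c) ^ m - C d
  have hga : aeval a g = 0 := by
    simp only [g, map_sub, map_pow, map_add, aeval_X, aeval_C]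
    rw [← hd, sub_self]
  have hgb : aeval b g = 0 := by
    obtain ⟨q, hq⟩ := minpoly.dvd k a hga
    rw [hq, map_mul, hb, zero_mul]
  have h1 : (b + algebraMap k (AlgebraicClosure k') c) ^ m = algebraMap k (AlgebraicClosure k') d := by
    simp only [g, map_sub, map_pow, map_add, aeval_X, aeval_C] at hgb
    exact sub_eq_zero.mp hgb
  rw [h1, IsScalarTower.algebraMap_apply k k' (AlgebraicClosure k') d, hd,
    IsScalarTower.algebraMap_apply k k' (AlgebraicClosure k') c, ← map_add, ← map_pow]

include H in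
theorem isIntegral_base_of_sep {F₀ : Type*} [Field F₀] [Algebra F₀ (AlgebraicClosure k')]
    (a : k') (ha : IsSeparable k a) (hnot : a ∉ Set.range (algebraMap k k')) (c : k) :
    IsIntegral F₀ (algebraMap k (AlgebraicClosure k') c) := by
  obtain ⟨b, hb, hba⟩ := exists_other_root a ha hnot
  set A := algebraMap k' (AlgebraicClosure k') a with hA
  have hAc : ∀ c : k, A + algebraMap k (AlgebraicClosure k') c ≠ 0 := by
    intro c h
    apply hnot
    refine ⟨-c, ?_⟩
    apply (algebraMap k' (AlgebraicClosure k')).injective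
    rw [← IsScalarTower.algebraMap_apply, map_neg]
    exact (eq_neg_of_add_eq_zero_left h).symm
  obtain ⟨m₀, hm₀, h0⟩ := conj_pow_eq H a b hb 0
  obtain ⟨m₁, hm₁, h1⟩ := conj_pow_eq H a b hb 1
  obtain ⟨m, hm, hc⟩ := conj_pow_eq H a b hb c
  rw [map_zero, add_zero, add_zero] at h0
  rw [map_one] at h1
  have hA0 : A ≠ 0 := by have := hAc 0; rwa [map_zero, add_zero] at this
  have hA1 : A + 1 ≠ 0 := by have := hAc 1; rwa [map_one] at this
  exact (isIntegral_of_roots_of_unity (F₀ := F₀) A b (algebraMap k (AlgebraicClosure k') c)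
    (Ne.symm hba) hA0 hA1
    (hAc c) m₀ m₁ m hm₀ hm₁ hm h0 h1 hc).2

include H in
theorem false_of_charZero [CharZero k'] (a : k') (ha : IsSeparable k a)
    (hnot : a ∉ Set.range (algebraMap k k')) : False := by
  obtain ⟨b, hb, hba⟩ := exists_other_root a ha hnot
  haveI : CharZero (AlgebraicClosure k') :=
    charZero_of_injective_algebraMap (algebraMap k' (AlgebraicClosure k')).injective
  set A := algebraMap k' (AlgebraicClosure k') a with hA
  have hAc : ∀ c : k, A + algebraMap k (AlgebraicClosure k') c ≠ 0 := by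
    intro c h
    apply hnot
    refine ⟨-c, ?_⟩
    apply (algebraMap k' (AlgebraicClosure k')).injective
    rw [← IsScalarTower.algebraMap_apply, map_neg]
    exact (eq_neg_of_add_eq_zero_left h).symm
  obtain ⟨m₀, hm₀, h0⟩ := conj_pow_eq H a b hb 0
  obtain ⟨m₁, hm₁, h1⟩ := conj_pow_eq H a b hb 1
  have h0' := h0
  rw [map_zero, add_zero, add_zero] at h0
  rw [map_one] at h1
  have hA0 : A ≠ 0 := by have := hAc 0; rwa [map_zero, add_zero] at this
  have hA1 : A + 1 ≠ 0 := by have := hAc 1; rwa [map_one] at this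
  have iA : IsIntegral ℚ A :=
    (isIntegral_of_roots_of_unity (F₀ := ℚ) A b (algebraMap k (AlgebraicClosure k') 0)
      (Ne.symm hba) hA0 hA1 (hAc 0) m₀ m₁ m₀ hm₀ hm₁ hm₀ h0 h1 h0').1
  have iB : IsIntegral ℚ b := IsIntegral.of_pow hm₀ (h0 ▸ iA.pow m₀)
  let E : IntermediateField ℚ (AlgebraicClosure k') :=
    IntermediateField.adjoin ℚ {A, b}
  haveI : FiniteDimensional ℚ E := IntermediateField.finiteDimensional_adjoin (by
    intro x hx
    rcases hx with rfl | hx
    · exact iA
    · rw [Set.mem_singleton_iff] at hx; rw [hx]; exact iB)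
  haveI : NumberField E := { }
  have hfin := NumberField.Embeddings.finite_of_norm_le E ℂ 1
  have hmemA : A ∈ E := IntermediateField.subset_adjoin ℚ _ (by simp)
  have hmemB : b ∈ E := IntermediateField.subset_adjoin ℚ _ (by simp)
  let τ : ℕ → E := fun c => ((⟨b, hmemB⟩ : E) + (c : E)) / ((⟨A, hmemA⟩ : E) + (c : E))
  have hτcoe : ∀ c : ℕ, ((τ c : E) : AlgebraicClosure k') =
      (b + (c : AlgebraicClosure k')) / (A + (c : AlgebraicClosure k')) := by
    intro c
    simp [τ]
  have hAcN : ∀ c : ℕ, A + (c : AlgebraicClosure k') ≠ 0 := by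
    intro c
    have := hAc (c : k)
    rwa [map_natCast] at this
  have hτpow : ∀ c : ℕ, ∃ m : ℕ, 0 < m ∧ (τ c) ^ m = 1 := by
    intro c
    obtain ⟨m, hm, hc⟩ := conj_pow_eq H a b hb (c : k)
    rw [map_natCast] at hc
    refine ⟨m, hm, ?_⟩
    apply Subtype.ext
    show ((τ c ^ m : E) : AlgebraicClosure k') = ((1 : E) : AlgebraicClosure k')
    rw [IntermediateField.coe_pow, hτcoe, div_pow, hc, div_self (pow_ne_zero _ (hAcN c)),
      IntermediateField.coe_one]
  have hτS : ∀ c : ℕ, τ c ∈ {x : E | IsIntegral ℤ x ∧ ∀ φ : E →+* ℂ, ‖φ x‖ ≤ 1} := by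
    intro c
    obtain ⟨m, hm, hpow⟩ := hτpow c
    refine ⟨⟨X ^ m - C 1, monic_X_pow_sub_C 1 hm.ne', by simp [hpow]⟩, fun φ => ?_⟩
    have : (φ (τ c)) ^ m = 1 := by rw [← map_pow, hpow, map_one]
    exact (Complex.norm_eq_one_of_pow_eq_one this hm.ne').le
  have hτinj : Function.Injective τ := by
    intro c c' hcc
    have h1 := congrArg (fun x : E => (x : AlgebraicClosure k')) hcc
    simp only [hτcoe] at h1
    rw [div_eq_div_iff (hAcN c) (hAcN c')] at h1
    have h2 : (b - A) * ((c' : AlgebraicClosure k') - (c : AlgebraicClosure k')) = 0 := by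
      linear_combination h1
    rcases mul_eq_zero.mp h2 with h3 | h3
    · exact absurd (sub_eq_zero.mp h3) hba
    · exact (Nat.cast_injective (sub_eq_zero.mp h3)).symm
  exact (Set.infinite_range_of_injective hτinj)
    (hfin.subset (Set.range_subset_iff.mpr hτS))

include H in
theorem forward (hns : ¬ Function.Surjective (algebraMap k k')) :
    ∃ p : ℕ, p.Prime ∧ CharP k' p ∧
      (IsPurelyInseparable k k' ∨ Algebra.IsAlgebraic (⊥ : Subfield k') k') := by
  have hint : Algebra.IsIntegral k k' := ⟨fun x => by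
    obtain ⟨n, hn, c, hc⟩ := H x
    refine ⟨X ^ n - C c, monic_X_pow_sub_C c hn.ne', ?_⟩
    simp [hc]⟩
  obtain ⟨p, hp⟩ := CharP.exists k'
  by_cases hsep : ∀ x : k', IsSeparable k x → x ∈ (algebraMap k k').range
  · have hpi : IsPurelyInseparable k k' := ⟨hint, fun x hx => hsep x hx⟩
    rcases CharP.char_is_prime_or_zero k' p with hp' | hp'
    · exact ⟨p, hp', hp, Or.inl hpi⟩
    · subst hp'
      exfalso
      haveI : CharZero k' := CharP.charP_to_charZero k'
      haveI : CharZero k := (RingHom.charZero_iff (algebraMap k k').injective).mpr inferInstance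
      apply hns
      intro x
      exact hsep x (Irreducible.separable (minpoly.irreducible (hint.isIntegral x)))
  · push Not at hsep
    obtain ⟨a, ha, hnot⟩ := hsep
    rcases CharP.char_is_prime_or_zero k' p with hp' | hp'
    · refine ⟨p, hp', hp, Or.inr ?_⟩
      refine ⟨fun x => IsIntegral.isAlgebraic ?_⟩
      obtain ⟨n, hn, c, hc⟩ := H x
      have h1 : IsIntegral (⊥ : Subfield k') (algebraMap k (AlgebraicClosure k') c) :=
        isIntegral_base_of_sep H a ha hnot c
      rw [IsScalarTower.algebraMap_apply k k' (AlgebraicClosure k') c, hc, map_pow] at h1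
      have h2 : IsIntegral (⊥ : Subfield k') (algebraMap k' (AlgebraicClosure k') x) :=
        IsIntegral.of_pow hn h1
      exact (isIntegral_algebraMap_iff (algebraMap k' (AlgebraicClosure k')).injective).mp h2
    · subst hp'
      haveI : CharZero k' := CharP.charP_to_charZero k'
      exact (false_of_charZero H a ha hnot).elim

end setting

section back
variable {k k' : Type u} [Field k] [Field k'] [Algebra k k']

theorem backward (h : Function.Surjective (algebraMap k k') ∨
        ∃ p : ℕ, p.Prime ∧ CharP k' p ∧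
          (IsPurelyInseparable k k' ∨ Algebra.IsAlgebraic (⊥ : Subfield k') k')) :
    ∀ x : k', ∃ n : ℕ, 0 < n ∧ x ^ n ∈ Set.range (algebraMap k k') := by
  rcases h with h | ⟨p, hp, hchar, h | h⟩
  · intro x; exact ⟨1, one_pos, by rw [pow_one]; exact h x⟩
  · intro x
    haveI := hchar
    haveI : Fact p.Prime := ⟨hp⟩
    haveI : CharP k p := (RingHom.charP_iff (algebraMap k k') (algebraMap k k').injective p).mpr hchar
    haveI : ExpChar k p := ExpChar.prime hp
    obtain ⟨n, hn⟩ := IsPurelyInseparable.pow_mem k p x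
    exact ⟨p ^ n, pow_pos hp.pos n, hn⟩
  · intro x
    by_cases hx : x = 0
    · exact ⟨1, one_pos, 0, by simp [hx]⟩
    haveI := hchar
    haveI : Fact p.Prime := ⟨hp⟩
    letI : Algebra (ZMod p) k' := ZMod.algebra k' p
    have hbot : (⊥ : Subfield k') = (algebraMap (ZMod p) k').fieldRange :=
      Subfield.bot_eq_of_zMod_algebra p
    haveI : Finite (⊥ : Subfield k') := by
      rw [hbot]
      exact Set.finite_range (algebraMap (ZMod p) k') |>.to_subtype
    let E : IntermediateField (⊥ : Subfield k') k' := IntermediateField.adjoin (⊥ : Subfield k') {x}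
    haveI : FiniteDimensional (⊥ : Subfield k') E :=
      IntermediateField.adjoin.finiteDimensional (h.isAlgebraic x).isIntegral
    haveI : Finite E := Module.finite_of_finite (⊥ : Subfield k')
    have hxE : x ∈ E := IntermediateField.mem_adjoin_simple_self _ x
    let u : Eˣ := Units.mk0 ⟨x, hxE⟩ (fun h0 => hx (congrArg Subtype.val h0))
    obtain ⟨n, hn, hun⟩ := (isOfFinOrder_iff_pow_eq_one).mp (isOfFinOrder_of_finite u)
    refine ⟨n, hn, 1, ?_⟩
    have h1 := congrArg (fun v : Eˣ => ((v : E) : k')) hun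
    simp only [Units.val_pow_eq_pow_val, Units.val_one] at h1
    rw [map_one]
    simpa [u] using h1.symm

theorem main :
    (∀ x : k', ∃ n : ℕ, 0 < n ∧ x ^ n ∈ Set.range (algebraMap k k')) ↔
      Function.Surjective (algebraMap k k') ∨
        ∃ p : ℕ, p.Prime ∧ CharP k' p ∧
          (IsPurelyInseparable k k' ∨ Algebra.IsAlgebraic (⊥ : Subfield k') k') := by
  refine ⟨fun H => ?_, backward⟩
  by_cases hs : Function.Surjective (algebraMap k k')
  · exact Or.inl hs
  · exact Or.inr (forward H hs)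

end back

end Groth.Agent.Lib.Helper15.RadicalExt
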