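import Mathlib

set_option autoImplicit false
set_option linter.style.haveILetI false

open Polynomial

namespace Groth.Agent.Lib.Helper15.RadicialGen

universe u

section
variable {R S : Type u} [CommRing R] [CommRing S] [Algebra R S]
  (G : Set S) (hG : Algebra.adjoin R G = ⊤)
  (hpow : ∀ x ∈ G, ∃ (n : ℕ) (P : Polynomial R), 0 < n ∧
      Polynomial.map (algebraMap R S) P = (Polynomial.X - Polynomial.C x) ^ n)

include hG hpow in
theorem key {Ω : Type*} [Field Ω] (ψ₁ ψ₂ : S →+* Ω)
    (h : ψ₁.comp (algebraMap R S) = ψ₂.comp (algebraMap R S)) : ψ₁ = ψ₂ := by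
  letI : Algebra R Ω := (ψ₁.comp (algebraMap R S)).toAlgebra
  let φ₁ : S →ₐ[R] Ω := { ψ₁ with commutes' := fun r => rfl }
  let φ₂ : S →ₐ[R] Ω := { ψ₂ with commutes' := fun r => (RingHom.congr_fun h r).symm }
  have : φ₁ = φ₂ := by
    apply AlgHom.ext_of_adjoin_eq_top hG
    intro x hx
    obtain ⟨n, P, hn, hP⟩ := hpow x hx
    have h1 : (P.map (algebraMap R S)).map ψ₁ = (X - C (ψ₁ x)) ^ n := by
      rw [hP, Polynomial.map_pow, Polynomial.map_sub, Polynomial.map_X, Polynomial.map_C]
    have h2 : (P.map (algebraMap R S)).map ψ₂ = (X - C (ψ₂ x)) ^ n := by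
      rw [hP, Polynomial.map_pow, Polynomial.map_sub, Polynomial.map_X, Polynomial.map_C]
    rw [Polynomial.map_map] at h1 h2
    rw [h] at h1
    have h3 : (X - C (ψ₁ x)) ^ n = (X - C (ψ₂ x)) ^ n := h1.symm.trans h2
    have h4 := congrArg (Polynomial.eval (ψ₁ x)) h3
    simp only [eval_pow, eval_sub, eval_X, eval_C, sub_self] at h4
    rw [zero_pow hn.ne'] at h4
    have h5 : ψ₁ x - ψ₂ x = 0 := pow_eq_zero_iff hn.ne' |>.mp h4.symm
    exact sub_eq_zero.mp h5
  exact congrArg (fun f : S →ₐ[R] Ω => (f : S →+* Ω)) this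

include hG hpow in
theorem isIntegral : Algebra.IsIntegral R S := by
  constructor
  have hle : Algebra.adjoin R G ≤ integralClosure R S := by
    apply Algebra.adjoin_le
    intro x hx
    obtain ⟨n, P, hn, hP⟩ := hpow x hx
    have hmon : ((X - C x) ^ n : S[X]).Monic := (monic_X_sub_C x).pow n
    have hlift : ((X - C x) ^ n : S[X]) ∈ Polynomial.lifts (algebraMap R S) :=
      (Polynomial.mem_lifts _).mpr ⟨P, hP⟩
    obtain ⟨P', hP'map, -, hP'mon⟩ := lifts_and_natDegree_eq_and_monic hlift hmon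
    refine ⟨P', hP'mon, ?_⟩
    rw [← eval_map, hP'map, eval_pow, eval_sub, eval_X, eval_C, sub_self, zero_pow hn.ne']
  intro x
  have : x ∈ integralClosure R S := hle (hG ▸ Algebra.mem_top)
  exact this

include hG hpow in
theorem comap_injective : Function.Injective (PrimeSpectrum.comap (algebraMap R S)) := by
  haveI := isIntegral G hG hpow
  intro q₁ q₂ h12
  set p : Ideal R := q₁.asIdeal.comap (algebraMap R S) with hp
  have hp2 : q₂.asIdeal.comap (algebraMap R S) = p :=
    (congrArg PrimeSpectrum.asIdeal h12).symm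
  haveI : p.IsPrime := Ideal.comap_isPrime _ _
  let D₀ := R ⧸ p
  let D₁ := S ⧸ q₁.asIdeal
  let D₂ := S ⧸ q₂.asIdeal
  let K₁ := FractionRing D₁
  let Ω := AlgebraicClosure K₁
  let ψ₁ : S →+* Ω :=
    (algebraMap K₁ Ω).comp ((algebraMap D₁ K₁).comp (Ideal.Quotient.mk q₁.asIdeal))
  have hker₁ : RingHom.ker ψ₁ = q₁.asIdeal := by
    ext x
    rw [RingHom.mem_ker]
    show algebraMap K₁ Ω (algebraMap D₁ K₁ (Ideal.Quotient.mk q₁.asIdeal x)) = 0 ↔ _
    rw [map_eq_zero_iff _ (algebraMap K₁ Ω).injective,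
      map_eq_zero_iff _ (IsFractionRing.injective D₁ K₁), Ideal.Quotient.eq_zero_iff_mem]
  let a₁ : D₀ →+* Ω := Ideal.Quotient.lift p (ψ₁.comp (algebraMap R S)) (fun a ha => by
    have h1 : algebraMap R S a ∈ q₁.asIdeal := ha
    rw [← hker₁] at h1
    exact h1)
  have ha₁ : Function.Injective a₁ := by
    rw [injective_iff_map_eq_zero]
    intro x hx
    obtain ⟨a, rfl⟩ := Ideal.Quotient.mk_surjective x
    rw [Ideal.Quotient.lift_mk] at hx
    have h1 : algebraMap R S a ∈ RingHom.ker ψ₁ := hx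
    rw [hker₁] at h1
    exact Ideal.Quotient.eq_zero_iff_mem.mpr h1
  let a₂ : D₀ →+* D₂ := Ideal.Quotient.lift p
    ((Ideal.Quotient.mk q₂.asIdeal).comp (algebraMap R S)) (fun a ha => by
      rw [← hp2] at ha
      exact Ideal.Quotient.eq_zero_iff_mem.mpr ha)
  have ha₂ : Function.Injective a₂ := by
    rw [injective_iff_map_eq_zero]
    intro x hx
    obtain ⟨a, rfl⟩ := Ideal.Quotient.mk_surjective x
    rw [Ideal.Quotient.lift_mk] at hx
    have h1 : algebraMap R S a ∈ q₂.asIdeal := Ideal.Quotient.eq_zero_iff_mem.mp hx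
    have h2 : a ∈ q₂.asIdeal.comap (algebraMap R S) := h1
    rw [hp2] at h2
    exact Ideal.Quotient.eq_zero_iff_mem.mpr h2
  letI alg1 : Algebra D₀ Ω := a₁.toAlgebra
  letI alg2 : Algebra D₀ D₂ := a₂.toAlgebra
  haveI : Module.IsTorsionFree D₀ Ω := Module.isTorsionFree_iff_algebraMap_injective.mpr ha₁
  haveI : Module.IsTorsionFree D₀ D₂ := Module.isTorsionFree_iff_algebraMap_injective.mpr ha₂
  haveI : Algebra.IsIntegral D₀ D₂ := by
    constructor
    intro y
    obtain ⟨s, rfl⟩ := Ideal.Quotient.mk_surjective y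
    obtain ⟨P, hPm, hP⟩ := Algebra.IsIntegral.isIntegral (R := R) s
    refine ⟨P.map (Ideal.Quotient.mk p), hPm.map _, ?_⟩
    rw [eval₂_map]
    have h1 : (algebraMap D₀ D₂).comp (Ideal.Quotient.mk p) =
        (Ideal.Quotient.mk q₂.asIdeal).comp (algebraMap R S) := by
      ext a
      rfl
    rw [h1, ← hom_eval₂, hP, map_zero]
  let l : D₂ →ₐ[D₀] Ω := IsAlgClosed.lift
  have hl : Function.Injective l := by
    have h1 : RingHom.ker (l : D₂ →+* Ω) = ⊥ := by
      apply Ideal.eq_bot_of_comap_eq_bot (R := D₀)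
      ext x
      rw [Ideal.mem_comap, RingHom.mem_ker, Ideal.mem_bot]
      show l (algebraMap D₀ D₂ x) = 0 ↔ _
      rw [l.commutes]
      exact map_eq_zero_iff _ ha₁
    exact (RingHom.injective_iff_ker_eq_bot _).mpr h1
  let ψ₂ : S →+* Ω := (l : D₂ →+* Ω).comp (Ideal.Quotient.mk q₂.asIdeal)
  have hker₂ : RingHom.ker ψ₂ = q₂.asIdeal := by
    ext x
    rw [RingHom.mem_ker]
    show l (Ideal.Quotient.mk q₂.asIdeal x) = 0 ↔ _
    rw [map_eq_zero_iff _ hl, Ideal.Quotient.eq_zero_iff_mem]
  have hagree : ψ₁.comp (algebraMap R S) = ψ₂.comp (algebraMap R S) := by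
    ext a
    show ψ₁ (algebraMap R S a) = l (Ideal.Quotient.mk q₂.asIdeal (algebraMap R S a))
    have h1 : Ideal.Quotient.mk q₂.asIdeal (algebraMap R S a) =
        algebraMap D₀ D₂ (Ideal.Quotient.mk p a) := rfl
    rw [h1, l.commutes]
    rfl
  have h3 := key G hG hpow ψ₁ ψ₂ hagree
  apply PrimeSpectrum.ext
  rw [← hker₁, ← hker₂, h3]

include hG hpow in
theorem purelyInsep (q : Ideal S) [q.IsPrime] (p : Ideal R) [p.IsPrime] [q.LiesOver p] :
    @IsPurelyInseparable p.ResidueField q.ResidueField _ _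
      (Ideal.ResidueField.mapₐ p q (Algebra.ofId R S) (q.over_def p)).toRingHom.toAlgebra := by
  letI : Algebra p.ResidueField q.ResidueField :=
    (Ideal.ResidueField.mapₐ p q (Algebra.ofId R S) (q.over_def p)).toRingHom.toAlgebra
  haveI : Nonempty (q.ResidueField →+* AlgebraicClosure q.ResidueField) := ⟨algebraMap _ _⟩
  apply IsPurelyInseparable.of_injective_comp_algebraMap (F := p.ResidueField)
    (E := q.ResidueField) (L := AlgebraicClosure q.ResidueField)
  intro f₁ f₂ h
  have h' : (f₁.comp (algebraMap S q.ResidueField)).comp (algebraMap R S) =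
      (f₂.comp (algebraMap S q.ResidueField)).comp (algebraMap R S) := by
    ext a
    have h1 := RingHom.congr_fun h (algebraMap R p.ResidueField a)
    have h2 : algebraMap p.ResidueField q.ResidueField (algebraMap R p.ResidueField a) =
        algebraMap S q.ResidueField (algebraMap R S a) := by
      show (Ideal.ResidueField.mapₐ p q (Algebra.ofId R S) (q.over_def p))
        (algebraMap R p.ResidueField a) = _
      rw [AlgHom.commutes, IsScalarTower.algebraMap_apply R S q.ResidueField]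
    simp only [RingHom.comp_apply] at h1 ⊢
    rw [← h2]
    exact h1
  have h2 := key G hG hpow _ _ h'
  have h3 : f₁.comp (algebraMap (S ⧸ q) q.ResidueField) =
      f₂.comp (algebraMap (S ⧸ q) q.ResidueField) := by
    apply Ideal.Quotient.ringHom_ext
    ext s
    have := RingHom.congr_fun h2 s
    simp only [RingHom.comp_apply] at this ⊢
    have e : algebraMap (S ⧸ q) q.ResidueField (Ideal.Quotient.mk q s) =
        algebraMap S q.ResidueField s :=
      (IsScalarTower.algebraMap_apply S (S ⧸ q) q.ResidueField s).symm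
    rw [e]
    exact this
  exact IsLocalization.ringHom_ext (nonZeroDivisors (S ⧸ q)) h3

include hG hpow in
theorem main (hker : ∀ r : R, algebraMap R S r = 0 → IsNilpotent r) :
    IsHomeomorph (PrimeSpectrum.comap (algebraMap R S)) ∧
      ∀ (q : Ideal S) [q.IsPrime] (p : Ideal R) [p.IsPrime] [q.LiesOver p],
        @IsPurelyInseparable p.ResidueField q.ResidueField _ _
          (Ideal.ResidueField.mapₐ p q (Algebra.ofId R S) (q.over_def p)).toRingHom.toAlgebra := by
  haveI := isIntegral G hG hpow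
  refine ⟨?_, fun q _ p _ _ => purelyInsep G hG hpow q p⟩
  rw [isHomeomorph_iff_continuous_isClosedMap_bijective]
  refine ⟨PrimeSpectrum.continuous_comap _,
    PrimeSpectrum.isClosedMap_comap_of_isIntegral _ (algebraMap_isIntegral_iff.mpr inferInstance),
    comap_injective G hG hpow, ?_⟩
  intro P
  have hle : (⊥ : Ideal S).comap (algebraMap R S) ≤ P.asIdeal := by
    intro r hr
    have hr' : algebraMap R S r = 0 := hr
    exact nilradical_le_prime P.asIdeal (mem_nilradical.mpr (hker r hr'))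
  obtain ⟨Q, -, hQ, hQP⟩ := Ideal.exists_ideal_over_prime_of_isIntegral P.asIdeal ⊥ hle
  exact ⟨⟨Q, hQ⟩, PrimeSpectrum.ext hQP⟩

end

end Groth.Agent.Lib.Helper15.RadicialGen
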