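import Mathlib

set_option autoImplicit false
set_option linter.style.haveILetI false

open Polynomial

namespace Groth.Agent.Lib.Helper15.ResFieldExt

universe u

section denominators
variable {S L : Type*} [CommRing S] [Field L] (φ : S →+* L)

theorem mem_closure_range_iff (z : L) :
    z ∈ Subfield.closure (Set.range φ) ↔ ∃ a b : S, φ b ≠ 0 ∧ z * φ b = φ a := by
  rw [Subfield.mem_closure_iff]
  have hcl : Subring.closure (Set.range φ) = φ.range := by
    rw [← RingHom.coe_range]; exact Subring.closure_eq _
  rw [hcl]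
  constructor
  · rintro ⟨y, ⟨a, rfl⟩, w, ⟨b, rfl⟩, rfl⟩
    by_cases hb : φ b = 0
    · exact ⟨0, 1, by simp, by simp [hb]⟩
    · exact ⟨a, b, hb, div_mul_cancel₀ _ hb⟩
  · rintro ⟨a, b, hb, h⟩
    exact ⟨φ a, ⟨a, rfl⟩, φ b, ⟨b, rfl⟩, by rw [← h, mul_div_cancel_right₀ _ hb]⟩

theorem exists_common_denominator (C : Finset L)
    (hC : ∀ c ∈ C, c ∈ Subfield.closure (Set.range φ)) :
    ∃ t : S, φ t ≠ 0 ∧ ∀ c ∈ C, ∃ a : S, φ t * c = φ a := by
  classical
  induction C using Finset.induction_on with
  | empty => exact ⟨1, by simp, by simp⟩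
  | insert c C hc ih =>
    obtain ⟨t, ht, h⟩ := ih (fun c' hc' => hC c' (Finset.mem_insert_of_mem hc'))
    obtain ⟨a, b, hb, hab⟩ := (mem_closure_range_iff φ c).mp (hC c (Finset.mem_insert_self _ _))
    refine ⟨t * b, by simp [ht, hb], ?_⟩
    intro c' hc'
    rcases Finset.mem_insert.mp hc' with rfl | hc'
    · exact ⟨t * a, by rw [map_mul, map_mul, ← hab]; ring⟩
    · obtain ⟨a', ha'⟩ := h c' hc'
      exact ⟨a' * b, by rw [map_mul, map_mul, ← ha']; ring⟩

end denominators

section step
variable {S L : Type u} [CommRing S] [Field L] (φ : S →+* L)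

/-- scaling does not lower the degree of the minimal polynomial -/
theorem natDegree_minpoly_le_of_scale (M : Subfield L) (τ : M) (hτ : τ ≠ 0) (x : L)
    (hx : IsIntegral M x) :
    (minpoly M x).natDegree ≤ (minpoly M ((τ : L) * x)).natDegree := by
  have hy : IsIntegral M ((τ : L) * x) := by
    have : IsIntegral M (τ : L) := isIntegral_algebraMap (x := τ)
    exact this.mul hx
  set h := minpoly M ((τ : L) * x) with hh
  have hmon : (scaleRoots h τ⁻¹).Monic := (monic_scaleRoots_iff _).mpr (minpoly.monic hy)
  have hkill : aeval x (scaleRoots h τ⁻¹) = 0 := by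
    have h0 : aeval ((τ : L) * x) h = 0 := minpoly.aeval M _
    have h1 := scaleRoots_aeval_eq_zero (r := τ⁻¹) h0
    have h2 : algebraMap M L τ⁻¹ * ((τ : L) * x) = x := by
      have : algebraMap M L τ⁻¹ = (τ : L)⁻¹ := Subfield.coe_inv _ _
      rw [this, ← mul_assoc, inv_mul_cancel₀ (by exact_mod_cast hτ), one_mul]
    rwa [h2] at h1
  have := minpoly.min M x hmon hkill
  have h3 : (minpoly M x).natDegree ≤ (scaleRoots h τ⁻¹).natDegree :=
    natDegree_le_natDegree this
  rwa [natDegree_scaleRoots] at h3

theorem step (M : Subfield L) (hM : Subfield.closure (Set.range φ) = M) (x : L)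
    (hx : IsIntegral M x) :
    ∃ (F : S[X]) (_ : F.Monic) (y : L) (hy : eval₂ φ y F = 0),
      RingHom.ker (AdjoinRoot.lift φ y hy) = (RingHom.ker φ).map (AdjoinRoot.of F) ∧
      Subfield.closure (Set.range (AdjoinRoot.lift φ y hy)) =
        Subfield.closure (insert x (M : Set L)) := by
  classical
  haveI : Nontrivial S := φ.domain_nontrivial
  have hφM : ∀ s, φ s ∈ M := fun s => hM ▸ Subfield.subset_closure ⟨s, rfl⟩
  set f := minpoly M x with hf
  set n := f.natDegree with hn
  have hfmon : f.Monic := minpoly.monic hx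
  -- common denominator
  let Cs : Finset L := (Finset.range (n + 1)).image (fun i => ((f.coeff i : M) : L))
  obtain ⟨t, ht, hden⟩ := exists_common_denominator φ Cs (by
    intro c hc
    obtain ⟨i, -, rfl⟩ := Finset.mem_image.mp hc
    rw [hM]; exact (f.coeff i).2)
  have hden' : ∀ i, ∃ a : S, φ t * ((f.coeff i : M) : L) = φ a := by
    intro i
    by_cases hi : i < n + 1
    · exact hden _ (Finset.mem_image.mpr ⟨i, Finset.mem_range.mpr hi, rfl⟩)
    · have : f.coeff i = 0 := coeff_eq_zero_of_natDegree_lt (by omega)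
      exact ⟨0, by simp [this]⟩
  let τ : M := ⟨φ t, hφM t⟩
  have hτ : τ ≠ 0 := fun h => ht (congrArg Subtype.val h)
  set y : L := φ t * x with hy
  set g := scaleRoots f τ with hg
  have hgmon : g.Monic := (monic_scaleRoots_iff _).mpr hfmon
  have hgdeg : g.natDegree = n := natDegree_scaleRoots _ _
  have hgy : aeval y g = 0 := by
    have := scaleRoots_aeval_eq_zero (r := τ) (minpoly.aeval M x)
    exact this
  -- lift g to S
  have hlifts : g.map M.subtype ∈ Polynomial.lifts φ := by
    rw [Polynomial.lifts_iff_coeff_lifts]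
    intro i
    rw [coeff_map, hg, coeff_scaleRoots]
    by_cases hi : i < n
    · obtain ⟨a, ha⟩ := hden' i
      refine ⟨a * t ^ (n - i - 1), ?_⟩
      have e1 : M.subtype (f.coeff i * τ ^ (f.natDegree - i)) =
          ((f.coeff i : M) : L) * (φ t) ^ (n - i) := by
        rw [map_mul, map_pow]; rfl
      obtain ⟨m, hm⟩ : ∃ m, n - i = m + 1 := ⟨n - i - 1, by omega⟩
      have e2 : n - i - 1 = m := by omega
      rw [e1, map_mul, map_pow, ← ha, e2, hm, pow_succ]
      ring
    · by_cases hi' : i = n
      · refine ⟨1, ?_⟩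
        rw [hi', ← hn, Nat.sub_self, pow_zero, mul_one, hn, hfmon.coeff_natDegree]
        simp
      · have : f.coeff i = 0 := coeff_eq_zero_of_natDegree_lt (by omega)
        exact ⟨0, by simp [this]⟩
  obtain ⟨F, hFmap, hFdeg, hFmon⟩ :=
    Polynomial.lifts_and_natDegree_eq_and_monic hlifts (hgmon.map _)
  have hFy : eval₂ φ y F = 0 := by
    rw [← eval_map, hFmap, eval_map]
    exact hgy
  refine ⟨F, hFmon, y, hFy, ?_, ?_⟩
  · -- kernel
    apply le_antisymm
    · intro s' hs'
      obtain ⟨G, rfl⟩ := AdjoinRoot.mk_surjective s'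
      set r := G %ₘ F with hr
      have hmk : AdjoinRoot.mk F G = AdjoinRoot.mk F r := by
        rw [AdjoinRoot.mk_eq_mk]
        refine ⟨G /ₘ F, ?_⟩
        have := modByMonic_add_div G F
        rw [← hr] at this
        linear_combination -this
      rw [hmk] at hs' ⊢
      rw [RingHom.mem_ker, AdjoinRoot.lift_mk] at hs'
      let φM : S →+* M := φ.codRestrict M hφM
      set rM := r.map φM with hrM
      have hrMy : aeval y rM = 0 := by
        rw [aeval_def, hrM, eval₂_map]
        exact hs'
      have hrdeg : r.degree < F.degree := degree_modByMonic_lt _ hFmon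
      have hrM0 : rM = 0 := by
        by_contra hne
        have h1 := minpoly.degree_le_of_ne_zero M y hne hrMy
        have h2 : (minpoly M y).natDegree ≤ rM.natDegree := natDegree_le_natDegree h1
        have h3 := natDegree_minpoly_le_of_scale M τ hτ x hx
        have h4 : rM.natDegree ≤ r.natDegree := natDegree_map_le
        have hr0 : r ≠ 0 := by
          rintro h0; apply hne; rw [hrM, h0, Polynomial.map_zero]
        have h5 : r.natDegree < F.natDegree := natDegree_lt_natDegree hr0 hrdeg
        have h6 : F.natDegree = n := by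
          rw [hFdeg, natDegree_map_eq_of_injective M.subtype.injective, hgdeg]
        have h7 : (τ : L) * x = y := rfl
        rw [h7] at h3
        have h8 : n = (minpoly M x).natDegree := rfl
        have h9 : n < n := by
          calc n = (minpoly M x).natDegree := h8
            _ ≤ (minpoly M y).natDegree := h3
            _ ≤ rM.natDegree := h2
            _ ≤ r.natDegree := h4
            _ < F.natDegree := h5
            _ = n := h6
        exact lt_irrefl _ h9
      have hcoef : ∀ i, r.coeff i ∈ RingHom.ker φ := by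
        intro i
        have := congrArg (fun q => q.coeff i) hrM0
        simp only [hrM, coeff_map, coeff_zero] at this
        rw [RingHom.mem_ker]
        have h2 := congrArg Subtype.val this
        simpa [φM] using h2
      rw [← AdjoinRoot.aeval_eq, aeval_def, eval₂_eq_sum_range]
      refine Ideal.sum_mem _ (fun i _ => ?_)
      rw [AdjoinRoot.algebraMap_eq]
      exact Ideal.mul_mem_right _ _ (Ideal.mem_map_of_mem _ (hcoef i))
    · rw [Ideal.map_le_iff_le_comap]
      intro s hs
      rw [Ideal.mem_comap, RingHom.mem_ker, AdjoinRoot.lift_of]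
      exact hs
  · -- closure
    apply le_antisymm
    · rw [Subfield.closure_le]
      rintro _ ⟨s', rfl⟩
      obtain ⟨G, rfl⟩ := AdjoinRoot.mk_surjective s'
      rw [AdjoinRoot.lift_mk, eval₂_eq_sum_range]
      refine sum_mem (fun i _ => mul_mem ?_ (pow_mem ?_ _))
      · exact Subfield.subset_closure (Set.mem_insert_of_mem _ (hφM _))
      · exact mul_mem (Subfield.subset_closure (Set.mem_insert_of_mem _ (hφM _)))
          (Subfield.subset_closure (Set.mem_insert _ _))
    · rw [Subfield.closure_le]
      intro z hz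
      rcases Set.mem_insert_iff.mp hz with rfl | hz
      · have h1 : AdjoinRoot.lift φ y hFy (AdjoinRoot.root F) = y := AdjoinRoot.lift_root hFy
        have h2 : AdjoinRoot.lift φ y hFy (AdjoinRoot.of F t) = φ t := AdjoinRoot.lift_of hFy
        have h3 : z = AdjoinRoot.lift φ y hFy (AdjoinRoot.root F) /
            AdjoinRoot.lift φ y hFy (AdjoinRoot.of F t) := by
          rw [h1, h2, hy, mul_div_cancel_left₀ _ ht]
        rw [h3]
        exact div_mem (Subfield.subset_closure ⟨_, rfl⟩) (Subfield.subset_closure ⟨_, rfl⟩)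
      · have hz' : z ∈ Subfield.closure (Set.range φ) := by rw [hM]; exact hz
        refine Subfield.closure_mono ?_ hz'
        rintro _ ⟨s, rfl⟩
        exact ⟨AdjoinRoot.of F s, AdjoinRoot.lift_of hFy⟩

end step

section main
open IntermediateField
variable (R : Type u) [CommRing R] (p : Ideal R) [p.IsPrime]
    (L : Type u) [Field L] [Algebra p.ResidueField L] [FiniteDimensional p.ResidueField L]
    [Algebra R L] [IsScalarTower R p.ResidueField L]

/-- the inductive invariant -/
def P (M : IntermediateField p.ResidueField L) : Prop :=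
  ∃ (S : Type u) (_ : CommRing S) (_ : Algebra R S) (_ : Module.Finite R S) (_ : Module.Free R S)
    (φ : S →+* L), φ.comp (algebraMap R S) = algebraMap R L ∧
      RingHom.ker φ = p.map (algebraMap R S) ∧
      Subfield.closure (Set.range φ) = M.toSubfield

theorem P_bot : P R p L ⊥ := by
  refine ⟨R, inferInstance, inferInstance, inferInstance, inferInstance, algebraMap R L,
    ?_, ?_, ?_⟩
  · rfl
  · rw [Algebra.algebraMap_self, Ideal.map_id]
    ext r
    rw [RingHom.mem_ker, IsScalarTower.algebraMap_apply R p.ResidueField L,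
      map_eq_zero_iff _ (algebraMap p.ResidueField L).injective,
      Ideal.algebraMap_residueField_eq_zero]
  · rw [IntermediateField.bot_toSubfield]
    apply le_antisymm
    · rw [Subfield.closure_le]
      rintro _ ⟨r, rfl⟩
      exact ⟨algebraMap R _ r, (IsScalarTower.algebraMap_apply R p.ResidueField L r).symm⟩
    · rintro _ ⟨w, rfl⟩
      obtain ⟨a, b, hb, rfl⟩ := IsFractionRing.div_surjective (A := R ⧸ p) w
      obtain ⟨a, rfl⟩ := Ideal.Quotient.mk_surjective a
      obtain ⟨b, rfl⟩ := Ideal.Quotient.mk_surjective b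
      rw [map_div₀, Ideal.algebraMap_quotient_residueField_mk,
        Ideal.algebraMap_quotient_residueField_mk,
        ← IsScalarTower.algebraMap_apply R p.ResidueField L,
        ← IsScalarTower.algebraMap_apply R p.ResidueField L]
      exact div_mem (Subfield.subset_closure ⟨_, rfl⟩) (Subfield.subset_closure ⟨_, rfl⟩)

theorem P_step (M : IntermediateField p.ResidueField L) (x : L) (h : P R p L M) :
    P R p L (M⟮x⟯.restrictScalars p.ResidueField) := by
  obtain ⟨S, _, _, _, _, φ, hcomp, hker, hcl⟩ := h
  have hx : IsIntegral M.toSubfield x := by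
    obtain ⟨q, hq, hq0⟩ := Algebra.IsIntegral.isIntegral (R := p.ResidueField) x
    let j : p.ResidueField →+* M.toSubfield :=
      (algebraMap p.ResidueField L).codRestrict M.toSubfield (fun w => M.algebraMap_mem w)
    refine ⟨q.map j, hq.map j, ?_⟩
    rw [eval₂_map]
    exact hq0
  obtain ⟨F, hFmon, y, hy, hk, hc⟩ := step φ M.toSubfield hcl x hx
  haveI : Module.Finite S (AdjoinRoot F) := (AdjoinRoot.powerBasis' hFmon).finite
  haveI : Module.Free S (AdjoinRoot F) := Module.Free.of_basis (AdjoinRoot.powerBasis' hFmon).basis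
  refine ⟨AdjoinRoot F, inferInstance, inferInstance, Module.Finite.trans S _,
    Module.Free.trans (R := R) (S := S), AdjoinRoot.lift φ y hy, ?_, ?_, ?_⟩
  · ext r
    rw [RingHom.comp_apply, AdjoinRoot.algebraMap_eq' R, RingHom.comp_apply, AdjoinRoot.lift_of,
      ← hcomp, RingHom.comp_apply]
  · rw [hk, hker, Ideal.map_map, AdjoinRoot.algebraMap_eq' R]
  · rw [hc, IntermediateField.restrictScalars_toSubfield, IntermediateField.adjoin_toSubfield]
    congr 1
    ext z
    simp only [Set.mem_insert_iff, Set.union_singleton]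
    constructor
    · rintro (h | h)
      · exact Or.inl h
      · exact Or.inr ⟨⟨z, h⟩, rfl⟩
    · rintro (h | ⟨w, rfl⟩)
      · exact Or.inl h
      · exact Or.inr w.2

theorem P_top : P R p L ⊤ :=
  IntermediateField.induction_on_adjoin (P R p L) (P_bot R p L) (P_step R p L) ⊤

theorem main :
    ∃ (S : Type u) (_ : CommRing S) (_ : Algebra R S) (_ : Module.Finite R S) (_ : Module.Free R S)
      (_ : (p.map (algebraMap R S)).IsPrime)
      (e : (p.map (algebraMap R S)).ResidueField ≃+* L),
      ∀ r : R, e (algebraMap R (p.map (algebraMap R S)).ResidueField r) = algebraMap R L r := by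
  obtain ⟨S, _, _, hfin, hfree, φ, hcomp, hker, hcl⟩ := P_top R p L
  have hprime : (p.map (algebraMap R S)).IsPrime := hker ▸ RingHom.ker_isPrime φ
  refine ⟨S, _, _, hfin, hfree, hprime, ?_⟩
  letI := hprime
  have h1 : p.map (algebraMap R S) ≤ RingHom.ker φ := hker.ge
  have h2 : (p.map (algebraMap R S)).primeCompl ≤ (IsUnit.submonoid L).comap φ := by
    intro s hs
    show IsUnit (φ s)
    rw [isUnit_iff_ne_zero]
    intro h0
    exact hs (hker ▸ (RingHom.mem_ker.mpr h0))
  let ψ := Ideal.ResidueField.lift (p.map (algebraMap R S)) φ h1 h2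
  have hψ : ∀ s, ψ (algebraMap S _ s) = φ s := Ideal.ResidueField.lift_algebraMap _ _ h1 h2
  have hbij : Function.Bijective ψ := by
    refine ⟨ψ.injective, fun z => ?_⟩
    have hz : z ∈ Subfield.closure (Set.range φ) := by
      rw [hcl, IntermediateField.top_toSubfield]; trivial
    obtain ⟨a, b, hb, hab⟩ := (mem_closure_range_iff φ z).mp hz
    refine ⟨algebraMap S _ a / algebraMap S _ b, ?_⟩
    rw [map_div₀, hψ, hψ, ← hab, mul_div_cancel_right₀ _ hb]
  refine ⟨RingEquiv.ofBijective ψ hbij, fun r => ?_⟩
  rw [RingEquiv.ofBijective_apply,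
    IsScalarTower.algebraMap_apply R S (p.map (algebraMap R S)).ResidueField, hψ, ← hcomp,
    RingHom.comp_apply]

end main

end Groth.Agent.Lib.Helper15.ResFieldExt
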