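import Mathlib

/-!
# Module-theoretic lemmas for base change of rig-flatness (helper15)
-/

set_option autoImplicit false
set_option linter.style.haveILetI false
set_option linter.unusedSectionVars false

universe u

open TensorProduct

namespace Groth.Agent.Lib.Helper15.RigBC

/-- A linear map from a complete module to a separated module which has dense image and is
"closed" for the adic topologies is bijective. -/
theorem bijective_of_dense_closed {B : Type*} [CommRing B] (K : Ideal B)
    {N N' : Type*} [AddCommGroup N] [Module B N] [AddCommGroup N'] [Module B N']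
    [IsAdicComplete K N] [IsHausdorff K N'] (θ : N →ₗ[B] N')
    (hd : ∀ (k : ℕ) (y : N'), ∃ x : N, y - θ x ∈ (K ^ k • ⊤ : Submodule B N'))
    (hc : ∀ (k : ℕ) (x : N), θ x ∈ (K ^ k • ⊤ : Submodule B N') →
      x ∈ (K ^ k • ⊤ : Submodule B N)) :
    Function.Bijective θ := by
  have hmap : ∀ (k : ℕ) (x : N), x ∈ (K ^ k • ⊤ : Submodule B N) →
      θ x ∈ (K ^ k • ⊤ : Submodule B N') := by
    intro k x hx
    have : (K ^ k • ⊤ : Submodule B N).map θ ≤ (K ^ k • ⊤ : Submodule B N') := by
      rw [Submodule.map_smul'']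
      exact Submodule.smul_mono le_rfl le_top
    exact this (Submodule.mem_map_of_mem hx)
  constructor
  · rw [injective_iff_map_eq_zero]
    intro x hx
    apply IsHausdorff.haus (inferInstance : IsHausdorff K N)
    intro k
    rw [SModEq.zero]
    apply hc k x
    rw [hx]
    exact Submodule.zero_mem _
  · intro y
    choose f hf using fun k => hd k y
    have hcauchy : ∀ {m n : ℕ}, m ≤ n → f m ≡ f n [SMOD (K ^ m • ⊤ : Submodule B N)] := by
      intro m n hmn
      rw [SModEq.sub_mem]
      apply hc m
      have h1 : θ (f m - f n) = (y - θ (f n)) - (y - θ (f m)) := by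
        rw [map_sub]; abel
      rw [h1]
      refine Submodule.sub_mem _ ?_ (hf m)
      exact Submodule.smul_mono (Ideal.pow_le_pow_right hmn) le_rfl (hf n)
    obtain ⟨L, hL⟩ := IsPrecomplete.prec (inferInstance : IsPrecomplete K N) hcauchy
    refine ⟨L, ?_⟩
    rw [← sub_eq_zero]
    apply IsHausdorff.haus (inferInstance : IsHausdorff K N')
    intro k
    rw [SModEq.zero]
    have h1 : θ L - y = θ (L - f k) - (y - θ (f k)) := by
      rw [map_sub]; abel
    rw [h1]
    refine Submodule.sub_mem _ (hmap k _ ?_) (hf k)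
    have := hL k
    rw [SModEq.sub_mem] at this
    have h2 : L - f k = -(f k - L) := by abel
    rw [h2]
    exact Submodule.neg_mem _ this

section TorsionIso

variable {C T R : Type*} [CommRing C] [CommRing T] [CommRing R] [Algebra C T] [Algebra C R]
  (φ : T →ₐ[C] R) (𝔠 : Ideal C)
  (hsurj : ∀ r : R, ∃ t : T, r - φ t ∈ 𝔠.map (algebraMap C R))
  (hinj : ∀ t : T, φ t ∈ 𝔠.map (algebraMap C R) → t ∈ 𝔠.map (algebraMap C T))
  (X : Type*) [AddCommGroup X] [Module C X] (hX : ∀ c ∈ 𝔠, ∀ x : X, c • x = 0)

include hX in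
theorem tmul_eq_zero_of_mem_map {S : Type*} [CommRing S] [Algebra C S] (s : S)
    (hs : s ∈ 𝔠.map (algebraMap C S)) (x : X) : s ⊗ₜ[C] x = 0 := by
  unfold Ideal.map at hs
  induction hs using Submodule.span_induction generalizing x with
  | mem s hs =>
    obtain ⟨c, hc, rfl⟩ := hs
    rw [Algebra.algebraMap_eq_smul_one, TensorProduct.smul_tmul, hX c hc, TensorProduct.tmul_zero]
  | zero => rw [TensorProduct.zero_tmul]
  | add s t _ _ hs ht => rw [TensorProduct.add_tmul, hs, ht, add_zero]
  | smul r s _ hs =>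
    have : (r • s) ⊗ₜ[C] x = r • (s ⊗ₜ[C] x) := by
      rw [smul_eq_mul, ← smul_eq_mul, TensorProduct.smul_tmul']
    rw [this, hs, smul_zero]

include hsurj hX in
theorem rTensor_surjective_of_torsion :
    Function.Surjective (φ.toLinearMap.rTensor X) := by
  intro z
  induction z using TensorProduct.induction_on with
  | zero => exact ⟨0, map_zero _⟩
  | add z w hz hw =>
    obtain ⟨a, rfl⟩ := hz
    obtain ⟨b, rfl⟩ := hw
    exact ⟨a + b, map_add _ _ _⟩
  | tmul r x =>
    obtain ⟨t, ht⟩ := hsurj r
    refine ⟨t ⊗ₜ x, ?_⟩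
    rw [LinearMap.rTensor_tmul]
    have h1 : (r - φ t) ⊗ₜ[C] x = 0 := tmul_eq_zero_of_mem_map 𝔠 X hX _ ht x
    rw [TensorProduct.sub_tmul, sub_eq_zero] at h1
    exact h1.symm

include hsurj hinj hX in
theorem rTensor_injective_of_torsion :
    Function.Injective (φ.toLinearMap.rTensor X) := by
  classical
  choose τ hτ using hsurj
  have hτadd : ∀ r r', τ (r + r') - τ r - τ r' ∈ 𝔠.map (algebraMap C T) := by
    intro r r'
    apply hinj
    have : φ (τ (r + r') - τ r - τ r') = (r - φ (τ r)) + (r' - φ (τ r')) -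
        ((r + r') - φ (τ (r + r'))) := by
      rw [map_sub, map_sub]; ring
    rw [this]
    exact Ideal.sub_mem _ (Ideal.add_mem _ (hτ r) (hτ r')) (hτ (r + r'))
  have hτsmul : ∀ (c : C) r, τ (c • r) - c • τ r ∈ 𝔠.map (algebraMap C T) := by
    intro c r
    apply hinj
    have : φ (τ (c • r) - c • τ r) = c • (r - φ (τ r)) - (c • r - φ (τ (c • r))) := by
      rw [map_sub, map_smul, smul_sub]; ring
    rw [this]
    refine Ideal.sub_mem _ ?_ (hτ (c • r))
    rw [Algebra.smul_def]
    exact Ideal.mul_mem_left _ _ (hτ r)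
  have hτφ : ∀ t, τ (φ t) - t ∈ 𝔠.map (algebraMap C T) := by
    intro t
    apply hinj
    have : φ (τ (φ t) - t) = -(φ t - φ (τ (φ t))) := by
      rw [map_sub]; ring
    rw [this]
    exact Ideal.neg_mem_iff _ |>.mpr (hτ (φ t))
  let Γ : R ⊗[C] X →ₗ[C] T ⊗[C] X := TensorProduct.lift
    (LinearMap.mk₂ C (fun r x => τ r ⊗ₜ[C] x)
      (fun r r' x => by
        have := tmul_eq_zero_of_mem_map 𝔠 X hX _ (hτadd r r') x
        rw [TensorProduct.sub_tmul, TensorProduct.sub_tmul, sub_sub, sub_eq_zero] at this
        exact this)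
      (fun c r x => by
        have := tmul_eq_zero_of_mem_map 𝔠 X hX _ (hτsmul c r) x
        rw [TensorProduct.sub_tmul, sub_eq_zero] at this
        rw [this, TensorProduct.smul_tmul'])
      (fun r x x' => TensorProduct.tmul_add _ _ _)
      (fun c r x => TensorProduct.tmul_smul _ _ _))
  have hΓ : ∀ z, Γ (φ.toLinearMap.rTensor X z) = z := by
    intro z
    induction z using TensorProduct.induction_on with
    | zero => simp
    | add z w hz hw => rw [map_add, map_add, hz, hw]
    | tmul t x =>
      rw [LinearMap.rTensor_tmul]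
      change τ (φ t) ⊗ₜ[C] x = t ⊗ₜ[C] x
      have := tmul_eq_zero_of_mem_map 𝔠 X hX _ (hτφ t) x
      rw [TensorProduct.sub_tmul, sub_eq_zero] at this
      exact this
  exact Function.LeftInverse.injective hΓ

end TorsionIso

/-- If the kernel of the base change of `j` to `R` is `a`-power torsion and `a` becomes a unit in
the flat `R`-algebra `S`, then `S ⊗ j` is injective. -/
theorem lTensor_injective_of_ker_torsion {C R S : Type*} [CommRing C] [CommRing R] [CommRing S]
    [Algebra C R] [Algebra R S] [Algebra C S] [IsScalarTower C R S] [Module.Flat R S]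
    {X Y : Type*} [AddCommGroup X] [Module C X] [AddCommGroup Y] [Module C Y] (j : X →ₗ[C] Y)
    (a : R) (ha : IsUnit (algebraMap R S a))
    (hker : ∀ z : R ⊗[C] X, (j.baseChange R) z = 0 → ∃ N : ℕ, a ^ N • z = 0) :
    Function.Injective (j.lTensor S) := by
  rw [← AlgebraTensorModule.coe_lTensor (A := R),
    ← EquivLike.injective_comp (AlgebraTensorModule.cancelBaseChange C R R S X),
    ← LinearEquiv.coe_coe, ← LinearMap.coe_comp, AlgebraTensorModule.lTensor_comp_cancelBaseChange,
    LinearMap.coe_comp, LinearEquiv.coe_coe, EquivLike.comp_injective]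
  set u : R ⊗[C] X →ₗ[R] R ⊗[C] Y := AlgebraTensorModule.lTensor R R j with hu
  have hu' : ∀ z, u z = j.baseChange R z := fun z => rfl
  have hex : Function.Exact (LinearMap.ker u).subtype u := LinearMap.exact_subtype_ker_map u
  have hex' := Module.Flat.lTensor_exact (R := R) (M := S) (N := LinearMap.ker u)
    (N' := R ⊗[C] X) (N'' := R ⊗[C] Y) (g := u) (f := (LinearMap.ker u).subtype) (by convert hex)
  have hzero : ∀ w : S ⊗[R] (LinearMap.ker u), w = 0 := by
    intro w
    induction w using TensorProduct.induction_on with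
    | zero => rfl
    | add x y hx hy => rw [hx, hy, add_zero]
    | tmul s k =>
      obtain ⟨N, hN⟩ := hker k.1 (by rw [← hu']; exact k.2)
      have hN' : a ^ N • k = 0 := Subtype.ext hN
      obtain ⟨v, hv⟩ := (ha.pow N).exists_right_inv
      have h1 : s = (a ^ N) • (s * v) := by
        rw [Algebra.smul_def, map_pow, mul_comm s v, ← mul_assoc, hv, one_mul]
      rw [h1, TensorProduct.smul_tmul, hN', TensorProduct.tmul_zero]
  rw [injective_iff_map_eq_zero]
  intro w hw
  have hw' : (AlgebraTensorModule.lTensor R S u) w = 0 := hw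
  obtain ⟨v, rfl⟩ := (hex' w).mp hw'
  rw [hzero v, map_zero]

end Groth.Agent.Lib.Helper15.RigBC
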