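import Mathlib
import Groth.Agent.S3866
import Groth.Agent.Lib.Helper15.RigClosed
import Groth.Agent.Lib.Helper15.RigBC1
import Groth.Agent.Lib.Helper15.RigBC2

/-!
# Base change of rig-flatness: bijectivity modulo an ideal with finite quotient (helper15)
-/

set_option autoImplicit false
set_option linter.style.haveILetI false
set_option linter.unusedSectionVars false

universe u

open TensorProduct

namespace Groth.Agent.Lib.Helper15.RigBC

/-- quotients by powers of an ideal with finite quotient are finite. -/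
theorem finite_quotient_pow {A : Type*} {C : Type u} [CommRing A] [CommRing C] [Algebra A C]
    [IsNoetherianRing C] (P : Ideal C) (h : Module.Finite A (C ⧸ P)) (m : ℕ) (hm : m ≠ 0) :
    Module.Finite A (C ⧸ P ^ m) := by
  apply Groth.Agent.Lib.Helper15.finite_of_forall_prime_quotient_finite
  intro P' hP'
  let φ : C →ₐ[A] (C ⧸ P ^ m) ⧸ P' :=
    (Ideal.Quotient.mkₐ A P').comp (Ideal.Quotient.mkₐ A (P ^ m))
  have hφ : Function.Surjective φ :=
    (Ideal.Quotient.mkₐ_surjective A P').comp (Ideal.Quotient.mkₐ_surjective A _)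
  have hker : P ≤ RingHom.ker φ.toRingHom := by
    have hprime : (RingHom.ker φ.toRingHom).IsPrime := RingHom.ker_isPrime _
    have hle : P ^ m ≤ RingHom.ker φ.toRingHom := by
      intro x hx
      rw [RingHom.mem_ker]
      change Ideal.Quotient.mk P' (Ideal.Quotient.mk _ x) = 0
      rw [Ideal.Quotient.eq_zero_iff_mem.mpr hx, map_zero]
    exact (Ideal.IsPrime.pow_le_iff hm).mp hle
  let ψ : (C ⧸ P) →ₐ[A] (C ⧸ P ^ m) ⧸ P' := Ideal.Quotient.liftₐ P φ (fun x hx => hker hx)
  have hψ : Function.Surjective ψ := by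
    intro y
    obtain ⟨b, rfl⟩ := hφ y
    exact ⟨Ideal.Quotient.mk _ b, rfl⟩
  exact Module.Finite.of_surjective ψ.toLinearMap hψ

section Core

variable {A B C R : Type u} [CommRing A] [CommRing B] [CommRing C] [CommRing R]
  [IsNoetherianRing A] [IsNoetherianRing B] [IsNoetherianRing R]
  [Algebra A B] [Algebra A C] [Algebra A R] [Algebra B R] [Algebra C R]
  [IsScalarTower A B R] [IsScalarTower A C R]

variable (A B C R) in
/-- the canonical map from the tensor product. -/
noncomputable def prodMap : C ⊗[A] B →ₐ[C] R :=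
  Algebra.TensorProduct.lift (Algebra.ofId C R) (IsScalarTower.toAlgHom A B R)
    (fun _ _ => Commute.all _ _)

theorem prodMap_tmul (c : C) (b : B) :
    prodMap A B C R (c ⊗ₜ b) = algebraMap C R c * algebraMap B R b := by
  unfold prodMap
  rw [Algebra.TensorProduct.lift_tmul]
  rfl

theorem prodMap_algebraMap (a : A) :
    prodMap A B C R (algebraMap A (C ⊗[A] B) a) = algebraMap A R a := by
  rw [IsScalarTower.algebraMap_apply A C (C ⊗[A] B), AlgHom.commutes,
    ← IsScalarTower.algebraMap_apply]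

theorem prodMap_comp_algebraMap :
    (prodMap A B C R).toRingHom.comp (algebraMap A (C ⊗[A] B)) = algebraMap A R :=
  RingHom.ext fun a => prodMap_algebraMap a

variable (K : Ideal A) [IsAdicComplete (K.map (algebraMap A B)) B]
  [IsAdicComplete (K.map (algebraMap A R)) R]

theorem map_pow_prodMap (k : ℕ) :
    ((K.map (algebraMap A (C ⊗[A] B))) ^ k).map (prodMap A B C R).toRingHom =
      (K ^ k).map (algebraMap A R) := by
  rw [← Ideal.map_pow, Ideal.map_map, prodMap_comp_algebraMap]

/-- the approximation step: elements of `𝔠 R` are, modulo `K^k R`, images of elements of `𝔠 T`. -/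
theorem exists_sub_mem_of_mem_map
    (hDI : IsDenseIso (K.map (algebraMap A (C ⊗[A] B))) (prodMap A B C R).toRingHom)
    (𝔠 : Ideal C) (k : ℕ) (v : R) (hv : v ∈ 𝔠.map (algebraMap C R)) :
    ∃ t' ∈ 𝔠.map (algebraMap C (C ⊗[A] B)),
      v - prodMap A B C R t' ∈ (K ^ k).map (algebraMap A R) := by
  unfold Ideal.map at hv
  induction hv using Submodule.span_induction with
  | mem v hv =>
    obtain ⟨c, hc, rfl⟩ := hv
    refine ⟨algebraMap C (C ⊗[A] B) c, Ideal.mem_map_of_mem _ hc, ?_⟩
    rw [AlgHom.commutes, sub_self]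
    exact Ideal.zero_mem _
  | zero => exact ⟨0, Ideal.zero_mem _, by rw [map_zero, sub_self]; exact Ideal.zero_mem _⟩
  | add v w _ _ hv hw =>
    obtain ⟨t1, ht1, h1⟩ := hv
    obtain ⟨t2, ht2, h2⟩ := hw
    refine ⟨t1 + t2, Ideal.add_mem _ ht1 ht2, ?_⟩
    have : v + w - prodMap A B C R (t1 + t2) =
        (v - prodMap A B C R t1) + (w - prodMap A B C R t2) := by rw [map_add]; ring
    rw [this]
    exact Ideal.add_mem _ h1 h2
  | smul r v _ hv =>
    obtain ⟨t', ht', h1⟩ := hv
    obtain ⟨s, hs⟩ := hDI.dense k r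
    rw [map_pow_prodMap] at hs
    refine ⟨s * t', Ideal.mul_mem_left _ _ ht', ?_⟩
    have hs' : r - prodMap A B C R s ∈ (K ^ k).map (algebraMap A R) := hs
    have : r • v - prodMap A B C R (s * t') =
        r * (v - prodMap A B C R t') + (r - prodMap A B C R s) * prodMap A B C R t' := by
      rw [map_mul, smul_eq_mul]; ring
    rw [this]
    exact Ideal.add_mem _ (Ideal.mul_mem_left _ _ h1) (Ideal.mul_mem_right _ _ hs')

set_option maxHeartbeats 800000 in
theorem key_surj_inj
    (hDI : IsDenseIso (K.map (algebraMap A (C ⊗[A] B))) (prodMap A B C R).toRingHom)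
    (𝔠 : Ideal C) (hfin : Module.Finite A (C ⧸ 𝔠)) :
    (∀ r : R, ∃ t : C ⊗[A] B, r - prodMap A B C R t ∈ 𝔠.map (algebraMap C R)) ∧
    (∀ t : C ⊗[A] B, prodMap A B C R t ∈ 𝔠.map (algebraMap C R) →
      t ∈ 𝔠.map (algebraMap C (C ⊗[A] B))) := by
  let T := C ⊗[A] B
  let JT : Ideal T := 𝔠.map (algebraMap C T)
  let JR : Ideal R := 𝔠.map (algebraMap C R)
  have hle : JT ≤ JR.comap (prodMap A B C R) := by
    change 𝔠.map (algebraMap C T) ≤ _
    rw [Ideal.map_le_iff_le_comap]
    intro c hc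
    rw [Ideal.mem_comap, Ideal.mem_comap, AlgHom.commutes]
    exact Ideal.mem_map_of_mem _ hc
  -- `B`-algebra structure on `T`
  letI algBT : Algebra B T :=
    (Algebra.TensorProduct.includeRight : B →ₐ[A] C ⊗[A] B).toRingHom.toAlgebra
  have hBT : ∀ b : B, algebraMap B T b = (1 : C) ⊗ₜ[A] b := fun b => rfl
  have htowABT : IsScalarTower A B T := by
    refine IsScalarTower.of_algebraMap_eq fun a => ?_
    exact ((Algebra.TensorProduct.includeRight : B →ₐ[A] C ⊗[A] B).commutes a).symm
  -- finiteness of `T ⧸ JT` over `B`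
  have hfinB : Module.Finite B (T ⧸ JT) := by
    let g0 : C →ₐ[A] (T ⧸ JT) := (Ideal.Quotient.mkₐ A JT).comp (Algebra.ofId C T |>.restrictScalars A)
    have hg0 : ∀ c ∈ 𝔠, g0 c = 0 := by
      intro c hc
      change Ideal.Quotient.mk JT (algebraMap C T c) = 0
      rw [Ideal.Quotient.eq_zero_iff_mem]
      exact Ideal.mem_map_of_mem _ hc
    let g : (C ⧸ 𝔠) →ₐ[A] (T ⧸ JT) := Ideal.Quotient.liftₐ 𝔠 g0 hg0
    let ρ : B ⊗[A] (C ⧸ 𝔠) →ₗ[B] (T ⧸ JT) := LinearMap.liftBaseChange B g.toLinearMap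
    have hρ : Function.Surjective ρ := by
      intro y
      obtain ⟨t, rfl⟩ := Ideal.Quotient.mk_surjective y
      induction t using TensorProduct.induction_on with
      | zero => exact ⟨0, by rw [map_zero, map_zero]⟩
      | add t1 t2 h1 h2 =>
        obtain ⟨z1, hz1⟩ := h1
        obtain ⟨z2, hz2⟩ := h2
        exact ⟨z1 + z2, by rw [map_add, hz1, hz2, map_add]⟩
      | tmul c b =>
        refine ⟨b ⊗ₜ (Ideal.Quotient.mk 𝔠 c), ?_⟩
        rw [LinearMap.liftBaseChange_tmul]
        change Ideal.Quotient.mk JT (b • algebraMap C T c) = _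
        rw [Algebra.smul_def, hBT, Algebra.TensorProduct.algebraMap_apply,
          Algebra.TensorProduct.tmul_mul_tmul, one_mul, mul_one]
        rfl
    exact Module.Finite.of_surjective ρ hρ
  have hcompB : IsAdicComplete (K.map (algebraMap A B)) (T ⧸ JT) :=
    Groth.Agent.S3866.result B (K.map (algebraMap A B)) (T ⧸ JT)
  have hcompA : IsAdicComplete K (T ⧸ JT) :=
    (IsAdicComplete.map_algebraMap_iff (R := A) (S := B) K (T ⧸ JT)).mp hcompB
  have hKR : K.map (algebraMap A R) ≤ Ideal.jacobson ⊥ := IsAdicComplete.le_jacobson_bot _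
  have hhausR : IsHausdorff (K.map (algebraMap A R)) (R ⧸ JR) :=
    IsHausdorff.of_le_jacobson _ _ hKR
  have hhausA : IsHausdorff K (R ⧸ JR) :=
    (IsHausdorff.map_algebraMap_iff (R := A) (S := R) (I := K) (M := R ⧸ JR)).mp hhausR
  let θ : (T ⧸ JT) →ₐ[A] (R ⧸ JR) :=
    Ideal.quotientMapₐ JR ((prodMap A B C R).restrictScalars A) hle
  have hθ : ∀ t : T, θ (Ideal.Quotient.mk JT t) = Ideal.Quotient.mk JR (prodMap A B C R t) :=
    fun t => rfl
  -- membership in `K^k • ⊤`
  have hmemR : ∀ (k : ℕ) (r : R), Ideal.Quotient.mk JR r ∈ (K ^ k • ⊤ : Submodule A (R ⧸ JR)) ↔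
      r ∈ (K ^ k).map (algebraMap A R) ⊔ JR := by
    intro k r
    rw [Ideal.smul_top_eq_map, Submodule.restrictScalars_mem,
      IsScalarTower.algebraMap_eq A R (R ⧸ JR), ← Ideal.map_map, Ideal.Quotient.algebraMap_eq,
      Ideal.mem_quotient_iff_mem_sup]
  have hmemT : ∀ (k : ℕ) (t : T), Ideal.Quotient.mk JT t ∈ (K ^ k • ⊤ : Submodule A (T ⧸ JT)) ↔
      t ∈ (K ^ k).map (algebraMap A T) ⊔ JT := by
    intro k t
    rw [Ideal.smul_top_eq_map, Submodule.restrictScalars_mem,
      IsScalarTower.algebraMap_eq A T (T ⧸ JT), ← Ideal.map_map, Ideal.Quotient.algebraMap_eq,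
      Ideal.mem_quotient_iff_mem_sup]
  have hbij : Function.Bijective θ.toLinearMap := by
    apply bijective_of_dense_closed K θ.toLinearMap
    · intro k y
      obtain ⟨r, rfl⟩ := Ideal.Quotient.mk_surjective y
      obtain ⟨t, ht⟩ := hDI.dense k r
      rw [map_pow_prodMap] at ht
      refine ⟨Ideal.Quotient.mk JT t, ?_⟩
      change Ideal.Quotient.mk JR r - θ (Ideal.Quotient.mk JT t) ∈ _
      rw [hθ, ← map_sub, hmemR]
      exact Ideal.mem_sup_left ht
    · intro k x hx
      obtain ⟨t, rfl⟩ := Ideal.Quotient.mk_surjective x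
      change θ (Ideal.Quotient.mk JT t) ∈ _ at hx
      rw [hθ, hmemR] at hx
      obtain ⟨u, hu, v, hv, huv⟩ := Submodule.mem_sup.mp hx
      obtain ⟨t', ht', h1⟩ := exists_sub_mem_of_mem_map K hDI 𝔠 k v hv
      have h2 : (prodMap A B C R).toRingHom (t - t') ∈
          ((K.map (algebraMap A (C ⊗[A] B))) ^ k).map (prodMap A B C R).toRingHom := by
        rw [map_pow_prodMap]
        have : (prodMap A B C R).toRingHom (t - t') = u + (v - prodMap A B C R t') := by
          change prodMap A B C R (t - t') = _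
          rw [map_sub, ← huv]; ring
        rw [this]
        exact Ideal.add_mem _ hu h1
      have h3 := hDI.closed k _ h2
      rw [hmemT]
      have : t = (t - t') + t' := by ring
      rw [this]
      refine Ideal.add_mem _ (Ideal.mem_sup_left ?_) (Ideal.mem_sup_right ht')
      rw [Ideal.map_pow]
      exact h3
  constructor
  · intro r
    obtain ⟨x, hx⟩ := hbij.2 (Ideal.Quotient.mk JR r)
    obtain ⟨t, rfl⟩ := Ideal.Quotient.mk_surjective x
    refine ⟨t, ?_⟩
    change θ (Ideal.Quotient.mk JT t) = _ at hx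
    rw [hθ] at hx
    rw [← Ideal.Quotient.eq_zero_iff_mem, map_sub, hx, sub_self]
  · intro t ht
    have h1 : θ.toLinearMap (Ideal.Quotient.mk JT t) = θ.toLinearMap 0 := by
      change θ (Ideal.Quotient.mk JT t) = θ 0
      rw [hθ, map_zero]
      exact Ideal.Quotient.eq_zero_iff_mem.mpr ht
    have h2 := hbij.1 h1
    exact Ideal.Quotient.eq_zero_iff_mem.mp h2

end Core

end Groth.Agent.Lib.Helper15.RigBC
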