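import Mathlib
import Groth.Agent.Lib.Helper9.FlatCrit2
import Groth.Agent.Lib.Helper15.RigBC3

/-!
# Base change of rig-flatness: the core flatness statement (helper15)
-/

set_option autoImplicit false
set_option linter.style.haveILetI false
set_option linter.unusedSectionVars false

universe u

open TensorProduct

namespace Groth.Agent.Lib.Helper15.RigBC

/-- If `B[1/a]` is flat over `A`, the kernel of `B ⊗ X → B ⊗ Y` is `a`-power torsion for injective
`X → Y`. -/
theorem exists_pow_smul_eq_zero_of_lTensor_eq_zero {A B : Type*} [CommRing A] [CommRing B]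
    [Algebra A B] (a : A) (hflat : Module.Flat A (Localization.Away (algebraMap A B a)))
    {X Y : Type*} [AddCommGroup X] [Module A X] [AddCommGroup Y] [Module A Y] (j : X →ₗ[A] Y)
    (hj : Function.Injective j) (w : B ⊗[A] X) (hw : j.lTensor B w = 0) :
    ∃ N : ℕ, a ^ N • w = 0 := by
  let Ba := Localization.Away (algebraMap A B a)
  let g : B →ₗ[B] Ba := Algebra.linearMap B Ba
  have hloc : IsLocalizedModule (Submonoid.powers (algebraMap A B a))
      (AlgebraTensorModule.rTensor A X g) := inferInstance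
  let gA : B →ₗ[A] Ba := g.restrictScalars A
  have h1 : (j.lTensor Ba) ((gA.rTensor X) w) = 0 := by
    have : (j.lTensor Ba) ∘ₗ (gA.rTensor X) = (gA.rTensor Y) ∘ₗ (j.lTensor B) := by
      rw [LinearMap.lTensor_comp_rTensor, LinearMap.rTensor_comp_lTensor]
    have h2 := congrArg (fun f => f w) this
    simp only [LinearMap.comp_apply] at h2
    rw [h2, hw, map_zero]
  have hinj : Function.Injective (j.lTensor Ba) :=
    Module.Flat.lTensor_preserves_injective_linearMap j hj
  have h3 : (gA.rTensor X) w = 0 := hinj (h1.trans (map_zero _).symm)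
  have h4 : (AlgebraTensorModule.rTensor A X g) w = 0 := h3
  obtain ⟨⟨c, N, hc⟩, hcw⟩ := (IsLocalizedModule.eq_zero_iff (Submonoid.powers (algebraMap A B a))
    (AlgebraTensorModule.rTensor A X g)).mp h4
  refine ⟨N, ?_⟩
  have hc' : algebraMap A B a ^ N = c := hc
  have h5 : c • w = 0 := hcw
  rw [← hc', ← map_pow, algebraMap_smul] at h5
  exact h5

section Core

variable {A B C R : Type u} [CommRing A] [CommRing B] [CommRing C] [CommRing R]
  [IsNoetherianRing A] [IsNoetherianRing B] [IsNoetherianRing C] [IsNoetherianRing R]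
  [Algebra A B] [Algebra A C] [Algebra A R] [Algebra B R] [Algebra C R]
  [IsScalarTower A B R] [IsScalarTower A C R]
  (K : Ideal A) [IsAdicComplete (K.map (algebraMap A B)) B]
  [IsAdicComplete (K.map (algebraMap A R)) R]

/-- the comparison `(C ⊗[A] B) ⊗[C] X ≃ X ⊗[A] B`. -/
noncomputable def eX (X : Type*) [AddCommGroup X] [Module C X] [Module A X] [IsScalarTower A C X] :
    (C ⊗[A] B) ⊗[C] X ≃ₗ[C] X ⊗[A] B :=
  (TensorProduct.comm C (C ⊗[A] B) X) ≪≫ₗ (AlgebraTensorModule.cancelBaseChange A C C X B)

theorem eX_tmul (X : Type*) [AddCommGroup X] [Module C X] [Module A X] [IsScalarTower A C X]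
    (c : C) (b : B) (x : X) :
    eX (A := A) (B := B) (C := C) X ((c ⊗ₜ[A] b) ⊗ₜ[C] x) = (c • x) ⊗ₜ[A] b := by
  unfold eX
  rw [LinearEquiv.trans_apply, TensorProduct.comm_tmul,
    AlgebraTensorModule.cancelBaseChange_tmul]

theorem eX_natural {X Y : Type*} [AddCommGroup X] [Module C X] [Module A X] [IsScalarTower A C X]
    [AddCommGroup Y] [Module C Y] [Module A Y] [IsScalarTower A C Y] (j : X →ₗ[C] Y)
    (w : (C ⊗[A] B) ⊗[C] X) :
    eX (A := A) (B := B) (C := C) Y ((j.lTensor (C ⊗[A] B)) w) =
      ((j.restrictScalars A).rTensor B) (eX (A := A) (B := B) (C := C) X w) := by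
  induction w using TensorProduct.induction_on with
  | zero => simp
  | add w1 w2 h1 h2 => rw [map_add, map_add, h1, h2, map_add, map_add]
  | tmul t x =>
    induction t using TensorProduct.induction_on with
    | zero => simp
    | add t1 t2 h1 h2 =>
      rw [TensorProduct.add_tmul, map_add, map_add, h1, h2, map_add, map_add]
    | tmul c b =>
      rw [LinearMap.lTensor_tmul, eX_tmul, eX_tmul, LinearMap.rTensor_tmul]
      change (c • j x) ⊗ₜ[A] b = (j (c • x)) ⊗ₜ[A] b
      rw [map_smul]

/-- kernel of `X ⊗ B → Y ⊗ B` is `a`-power torsion (left version). -/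
theorem exists_pow_smul_eq_zero_of_rTensor_eq_zero {A B : Type*} [CommRing A] [CommRing B]
    [Algebra A B] (a : A) (hflat : Module.Flat A (Localization.Away (algebraMap A B a)))
    {X Y : Type*} [AddCommGroup X] [Module A X] [AddCommGroup Y] [Module A Y] (j : X →ₗ[A] Y)
    (hj : Function.Injective j) (w : X ⊗[A] B) (hw : j.rTensor B w = 0) :
    ∃ N : ℕ, a ^ N • w = 0 := by
  have h1 : j.lTensor B (TensorProduct.comm A X B w) = 0 := by
    have : (j.lTensor B) ∘ₗ (TensorProduct.comm A X B).toLinearMap =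
        (TensorProduct.comm A Y B).toLinearMap ∘ₗ (j.rTensor B) := by
      ext x b
      simp
    have h2 := congrArg (fun f => f w) this
    simp only [LinearMap.comp_apply, LinearEquiv.coe_coe] at h2
    rw [h2, hw, map_zero]
  obtain ⟨N, hN⟩ := exists_pow_smul_eq_zero_of_lTensor_eq_zero a hflat j hj _ h1
  refine ⟨N, ?_⟩
  rw [← map_smul] at hN
  exact (TensorProduct.comm A X B).injective (hN.trans (map_zero _).symm)

set_option maxHeartbeats 800000 in
theorem core_flat
    (hDI : IsDenseIso (K.map (algebraMap A (C ⊗[A] B))) (prodMap A B C R).toRingHom)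
    (Q : Ideal R) [hQ : Q.IsPrime] (hfin : Module.Finite A (R ⧸ Q))
    (a : A) (haQ : algebraMap A R a ∉ Q)
    (hflat : Module.Flat A (Localization.Away (algebraMap A B a))) :
    Module.Flat C (Localization.AtPrime Q) := by
  let S := Localization.AtPrime Q
  let P : Ideal C := Q.comap (algebraMap C R)
  have hPprime : P.IsPrime := Ideal.comap_isPrime _ _
  -- `C ⧸ P` is finite over `A`
  have hCP : Module.Finite A (C ⧸ P) := by
    let ψ : (C ⧸ P) →ₐ[A] R ⧸ Q := Ideal.quotientMapₐ Q (IsScalarTower.toAlgHom A C R) le_rfl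
    have hψ : Function.Injective ψ := by
      have : Function.Injective (Ideal.quotientMap Q (algebraMap C R) le_rfl) :=
        Ideal.quotientMap_injective
      exact this
    exact Module.Finite.of_injective ψ.toLinearMap hψ
  have hIS : P.map (algebraMap C S) ≤ Ideal.jacobson ⊥ := by
    rw [IsLocalRing.jacobson_eq_maximalIdeal ⊥ bot_ne_top, Ideal.map_le_iff_le_comap,
      IsScalarTower.algebraMap_eq C R S, ← Ideal.comap_comap]
    have : Ideal.comap (algebraMap R S) (IsLocalRing.maximalIdeal S) = Q :=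
      IsLocalization.AtPrime.comap_maximalIdeal S Q
    rw [this]
  have ha : IsUnit (algebraMap R S (algebraMap A R a)) :=
    IsLocalization.map_units S (⟨algebraMap A R a, haQ⟩ : Q.primeCompl)
  apply Groth.Agent.Lib.Helper9.flat_of_injOnTorsion_pow (R := C) (S := S) (M := S) P hIS
  intro n hn X Y _ _ _ _ hX hY j hj
  have hfinn : Module.Finite A (C ⧸ P ^ n) := finite_quotient_pow P hCP n (Nat.pos_iff_ne_zero.mp hn)
  obtain ⟨hsurj, hinj⟩ := key_surj_inj K hDI (P ^ n) hfinn
  have hX' : ∀ c ∈ P ^ n, ∀ x : X, c • x = 0 := fun c hc x => @hX x ⟨c, hc⟩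
  have hY' : ∀ c ∈ P ^ n, ∀ y : Y, c • y = 0 := fun c hc y => @hY y ⟨c, hc⟩
  letI : Module A X := Module.compHom X (algebraMap A C)
  haveI : IsScalarTower A C X := IsScalarTower.of_algebraMap_smul fun r x => rfl
  letI : Module A Y := Module.compHom Y (algebraMap A C)
  haveI : IsScalarTower A C Y := IsScalarTower.of_algebraMap_smul fun r x => rfl
  apply lTensor_injective_of_ker_torsion (C := C) (R := R) (S := S) j (algebraMap A R a) ha
  intro z hz
  obtain ⟨w, rfl⟩ := rTensor_surjective_of_torsion (prodMap A B C R) (P ^ n) hsurj X hX' z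
  have hz' : (j.lTensor R) (((prodMap A B C R).toLinearMap.rTensor X) w) = 0 := hz
  have hnat : (j.lTensor R) ∘ₗ ((prodMap A B C R).toLinearMap.rTensor X) =
      ((prodMap A B C R).toLinearMap.rTensor Y) ∘ₗ (j.lTensor (C ⊗[A] B)) := by
    rw [LinearMap.lTensor_comp_rTensor, LinearMap.rTensor_comp_lTensor]
  have h1 : ((prodMap A B C R).toLinearMap.rTensor Y) ((j.lTensor (C ⊗[A] B)) w) = 0 := by
    have h2 := congrArg (fun f => f w) hnat
    simp only [LinearMap.comp_apply] at h2
    rw [← h2, hz']
  have h3 : (j.lTensor (C ⊗[A] B)) w = 0 :=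
    rTensor_injective_of_torsion (prodMap A B C R) (P ^ n) hsurj hinj Y hY'
      (h1.trans (map_zero _).symm)
  have h4 : ((j.restrictScalars A).rTensor B) (eX (A := A) (B := B) (C := C) X w) = 0 := by
    rw [← eX_natural, h3, map_zero]
  obtain ⟨N, hN⟩ := exists_pow_smul_eq_zero_of_rTensor_eq_zero a hflat (j.restrictScalars A) hj _ h4
  refine ⟨N, ?_⟩
  -- transport back
  have h5 : (algebraMap A C a) ^ N • w = 0 := by
    apply (eX (A := A) (B := B) (C := C) X).injective
    rw [map_smul, map_zero, ← map_pow, algebraMap_smul]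
    exact hN
  have h6 : (algebraMap A R a) ^ N • ((prodMap A B C R).toLinearMap.rTensor X) w =
      (algebraMap A C a) ^ N • ((prodMap A B C R).toLinearMap.rTensor X) w := by
    rw [IsScalarTower.algebraMap_apply A C R, ← map_pow, algebraMap_smul]
  rw [h6, ← map_smul, h5, map_zero]

end Core

end Groth.Agent.Lib.Helper15.RigBC
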