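import Mathlib
import Groth.Agent.Lib.Helper18.CplQuot

/-!
# General lemmas for composition / descent of rig-flatness (helper15)
-/

set_option autoImplicit false
set_option linter.style.haveILetI false
set_option linter.unusedSectionVars false

universe u

namespace Groth.Agent.Lib.Helper15.RigComp

/-- Two ring maps out of an adic completion into a Hausdorff ring which agree on the dense subring
and are adic are equal. -/
theorem ringHom_ext_cpl {R : Type u} {T : Type*} [CommRing R] [CommRing T] (J : Ideal R)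
    (hJ : J.FG) (K : Ideal T) [IsHausdorff K T]
    (ψ ψ' : AdicCompletion J R →+* T)
    (h : ψ.comp (algebraMap R (AdicCompletion J R)) = ψ'.comp (algebraMap R (AdicCompletion J R)))
    (hJK : J.map (ψ.comp (algebraMap R (AdicCompletion J R))) ≤ K) : ψ = ψ' := by
  have hJK' : J.map (ψ'.comp (algebraMap R (AdicCompletion J R))) ≤ K := h ▸ hJK
  have key : ∀ (φ : AdicCompletion J R →+* T),
      J.map (φ.comp (algebraMap R (AdicCompletion J R))) ≤ K → ∀ (n : ℕ) (y : AdicCompletion J R),
      y ∈ (J.map (algebraMap R (AdicCompletion J R))) ^ n → φ y ∈ K ^ n := by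
    intro φ hφ n y hy
    have h1 : φ y ∈ ((J.map (algebraMap R (AdicCompletion J R))) ^ n).map φ :=
      Ideal.mem_map_of_mem _ hy
    rw [Ideal.map_pow, Ideal.map_map] at h1
    exact Ideal.pow_right_mono hφ n h1
  ext x
  rw [← sub_eq_zero]
  apply IsHausdorff.haus ‹IsHausdorff K T›
  intro n
  rw [SModEq.zero, smul_eq_mul, Ideal.mul_top]
  obtain ⟨r, hr⟩ := Ideal.Quotient.mk_surjective (AdicCompletion.evalₐ J n x)
  have hmem : x - algebraMap R (AdicCompletion J R) r ∈
      (J.map (algebraMap R (AdicCompletion J R))) ^ n := by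
    rw [Groth.Agent.Lib.Helper18.CplQuot.mem_map_pow_iff_evalₐ J hJ, map_sub]
    have : (algebraMap R (AdicCompletion J R)) r = AdicCompletion.of J R r := rfl
    rw [this, AdicCompletion.evalₐ_of, hr, sub_self]
  have h1 := key ψ hJK n _ hmem
  have h2 := key ψ' hJK' n _ hmem
  have h3 : ψ (algebraMap R (AdicCompletion J R) r) = ψ' (algebraMap R (AdicCompletion J R) r) :=
    RingHom.congr_fun h r
  have : ψ x - ψ' x = ψ (x - algebraMap R (AdicCompletion J R) r) -
      ψ' (x - algebraMap R (AdicCompletion J R) r) := by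
    rw [map_sub, map_sub, h3]; ring
  rw [this]
  exact (K ^ n).sub_mem h1 h2

/-- every prime not containing `K` lies under a rig-closed prime. -/
theorem exists_rigClosed_ge {B : Type*} [CommRing B] [IsNoetherianRing B] (K : Ideal B)
    (r0 : Ideal B) [hr0 : r0.IsPrime] (h : ¬ K ≤ r0) :
    ∃ r1 : PrimeSpectrum B, r0 ≤ r1.asIdeal ∧ (¬ K ≤ r1.asIdeal ∧
      ∀ y : PrimeSpectrum B, r1 ≤ y → ¬ K ≤ y.asIdeal → y = r1) := by
  let S : Set (Ideal B) := {y | y.IsPrime ∧ r0 ≤ y ∧ ¬ K ≤ y}
  have hSne : S.Nonempty := ⟨r0, hr0, le_rfl, h⟩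
  obtain ⟨q, ⟨hqprime, hr0q, hKq⟩, hqmax⟩ :=
    (set_has_maximal_iff_noetherian (R := B) (M := B)).mpr inferInstance S hSne
  refine ⟨⟨q, hqprime⟩, hr0q, hKq, fun y hqy hKy => ?_⟩
  have hqy' : q ≤ y.asIdeal := (PrimeSpectrum.asIdeal_le_asIdeal _ _).mpr hqy
  have hyS : y.asIdeal ∈ S := ⟨y.2, hr0q.trans hqy', hKy⟩
  have hnlt := hqmax y.asIdeal hyS
  apply PrimeSpectrum.ext
  exact (eq_of_le_of_not_lt hqy' hnlt).symm

/-- transitivity of flatness through localizations. -/
theorem flat_comp_of_local {X Y Z : Type*} [CommRing X] [CommRing Y] [CommRing Z]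
    (φ1 : X →+* Y) (φ2 : Y →+* Z) (r1 : Ideal Y) [r1.IsPrime] (q : Ideal Z) [q.IsPrime]
    (hle : q.comap φ2 ≤ r1)
    (h1 : ((algebraMap Y (Localization.AtPrime r1)).comp φ1).Flat)
    (h2 : ((algebraMap Z (Localization.AtPrime q)).comp φ2).Flat) :
    ((algebraMap Z (Localization.AtPrime q)).comp (φ2.comp φ1)).Flat := by
  let Yr := Localization.AtPrime r1
  let Zq := Localization.AtPrime q
  letI algYZ : Algebra Y Zq := ((algebraMap Z Zq).comp φ2).toAlgebra
  letI algXY : Algebra X Yr := ((algebraMap Y Yr).comp φ1).toAlgebra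
  letI algXZ : Algebra X Zq := ((algebraMap Z Zq).comp (φ2.comp φ1)).toAlgebra
  have hunit : ∀ y : r1.primeCompl, IsUnit (algebraMap Y Zq y) := by
    intro y
    change IsUnit (algebraMap Z Zq (φ2 y))
    apply IsLocalization.map_units Zq (⟨φ2 y, ?_⟩ : q.primeCompl)
    intro hmem
    exact y.2 (hle hmem)
  letI algYrZ : Algebra Yr Zq := (IsLocalization.lift (M := r1.primeCompl) (g := algebraMap Y Zq) hunit).toAlgebra
  have htow1 : IsScalarTower Y Yr Zq := by
    refine IsScalarTower.of_algebraMap_eq fun y => ?_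
    change algebraMap Y Zq y = IsLocalization.lift hunit (algebraMap Y Yr y)
    rw [IsLocalization.lift_eq]
  have htow2 : IsScalarTower X Yr Zq := by
    refine IsScalarTower.of_algebraMap_eq fun x => ?_
    change algebraMap Z Zq (φ2 (φ1 x)) = IsLocalization.lift hunit (algebraMap Y Yr (φ1 x))
    rw [IsLocalization.lift_eq]
    rfl
  have hflat1 : Module.Flat X Yr := h1
  have hflat2 : Module.Flat Y Zq := h2
  have hflat3 : Module.Flat Yr Zq :=
    (Module.flat_iff_of_isLocalization Yr r1.primeCompl Zq).mpr hflat2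
  have : Module.Flat X Zq := Module.Flat.trans X Yr Zq
  exact this

end Groth.Agent.Lib.Helper15.RigComp
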