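import Mathlib
import Groth.Prelude.Def_FSch3
import Groth.Agent.Lib.Helper1.ComplMap

/-!
# Lifting primes along completed maps and localizations (helper15)
-/

set_option autoImplicit false
set_option linter.style.haveILetI false
set_option linter.unusedSectionVars false

universe u

namespace Groth.Agent.Lib.Helper15.RigDesc

/-- maximal ideals of a completion lift along the completion of a map through which primes
containing the ideal of definition lift. -/
theorem exists_prime_comap_complMap {R S : Type u} [CommRing R] [CommRing S]
    (J : Ideal R) (hJ : J.FG) (J' : Ideal S) (φ : R →+* S) (h : J.map φ ≤ J')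
    (hlift : ∀ p : Ideal R, p.IsPrime → J ≤ p →
      ∃ P' : Ideal S, P'.IsPrime ∧ J' ≤ P' ∧ P'.comap φ = p)
    (m : Ideal (AdicCompletion J R)) (hm : m.IsMaximal) :
    ∃ M' : Ideal (AdicCompletion J' S), M'.IsPrime ∧ M'.comap (FSch.complMap J J' φ h) = m := by
  have hcpl : IsAdicComplete (J.map (algebraMap R (AdicCompletion J R))) (AdicCompletion J R) :=
    AdicCompletion.isAdicComplete_self J hJ
  have hKm : J.map (algebraMap R (AdicCompletion J R)) ≤ m := by
    refine (IsAdicComplete.le_jacobson_bot _).trans ?_
    rw [Ideal.jacobson]
    exact sInf_le ⟨bot_le, hm⟩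
  have hmprime := hm.isPrime
  have hJm1 : J ≤ m.comap (algebraMap R (AdicCompletion J R)) := Ideal.map_le_iff_le_comap.mp hKm
  obtain ⟨P', hP'prime, hJ'P', hP'm1⟩ :=
    hlift (m.comap (algebraMap R (AdicCompletion J R))) (Ideal.comap_isPrime _ _) hJm1
  have hP'mkprime : (P'.map (Ideal.Quotient.mk J')).IsPrime :=
    Ideal.map_isPrime_of_surjective Ideal.Quotient.mk_surjective
      (by rw [Ideal.mk_ker]; exact hJ'P')
  have hM'prime : ((P'.map (Ideal.Quotient.mk J')).comap
      (AdicCompletion.evalOneₐ J').toRingHom).IsPrime := Ideal.comap_isPrime _ _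
  refine ⟨(P'.map (Ideal.Quotient.mk J')).comap (AdicCompletion.evalOneₐ J').toRingHom,
    hM'prime, ?_⟩
  have hle : m ≤ ((P'.map (Ideal.Quotient.mk J')).comap
      (AdicCompletion.evalOneₐ J').toRingHom).comap (FSch.complMap J J' φ h) := by
    intro x hx
    rw [Ideal.mem_comap, Ideal.mem_comap]
    change AdicCompletion.evalOneₐ J' (FSch.complMap J J' φ h x) ∈ _
    rw [Groth.Agent.Lib.Helper1.evalOneₐ_complMap]
    obtain ⟨y, hy⟩ := Ideal.Quotient.mk_surjective (AdicCompletion.evalOneₐ J x)
    rw [← hy, Ideal.quotientMap_mk]
    apply Ideal.mem_map_of_mem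
    have hy' : y ∈ P'.comap φ := by
      rw [hP'm1, Ideal.mem_comap]
      have hsub : x - algebraMap R (AdicCompletion J R) y ∈ m := by
        apply hKm
        rw [← AdicCompletion.ker_evalOneₐ_eq_map J hJ, RingHom.mem_ker]
        change AdicCompletion.evalOneₐ J (x - AdicCompletion.of J R y) = 0
        rw [map_sub, AdicCompletion.evalOneₐ_of, ← hy, sub_self]
      have := m.sub_mem hx hsub
      rwa [sub_sub_cancel] at this
    exact hy'
  exact (hm.eq_of_le (Ideal.comap_ne_top _ hM'prime.ne_top) hle).symm

/-- flatness of the map of localizations induced by a flat algebra. -/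
theorem flat_away_map {R S : Type*} [CommRing R] [CommRing S] [Algebra R S] [Module.Flat R S]
    (r : R) (s : S) (a : Localization.Away r →+* Localization.Away s)
    (ha : ∀ x : R, a (algebraMap R (Localization.Away r) x) =
      algebraMap S (Localization.Away s) (algebraMap R S x)) : a.Flat := by
  letI algRrSs : Algebra (Localization.Away r) (Localization.Away s) := a.toAlgebra
  have htow : IsScalarTower R (Localization.Away r) (Localization.Away s) := by
    refine IsScalarTower.of_algebraMap_eq fun x => ?_
    rw [IsScalarTower.algebraMap_apply R S (Localization.Away s)]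
    exact (ha x).symm
  have h1 : Module.Flat S (Localization.Away s) :=
    IsLocalization.flat (Localization.Away s) (Submonoid.powers s)
  have h2 : Module.Flat R (Localization.Away s) := Module.Flat.trans R S (Localization.Away s)
  have h3 : Module.Flat (Localization.Away r) (Localization.Away s) :=
    (Module.flat_iff_of_isLocalization (Localization.Away r) (Submonoid.powers r)
      (Localization.Away s)).mpr h2
  exact h3

/-- primes lift along the map of localizations induced by a faithfully flat algebra. -/
theorem exists_prime_comap_away {R S : Type*} [CommRing R] [CommRing S] [Algebra R S]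
    [Module.FaithfullyFlat R S]
    (r : R) (s : S) (hs : algebraMap R S r = s)
    (a : Localization.Away r →+* Localization.Away s)
    (ha : ∀ x : R, a (algebraMap R (Localization.Away r) x) =
      algebraMap S (Localization.Away s) (algebraMap R S x))
    (P : Ideal (Localization.Away r)) (hP : P.IsPrime) :
    ∃ P' : Ideal (Localization.Away s), P'.IsPrime ∧ P'.comap a = P := by
  have hpprime : (P.comap (algebraMap R (Localization.Away r))).IsPrime := Ideal.comap_isPrime _ _
  obtain ⟨p', hp'prime, hp'lies⟩ :=
    Ideal.exists_isPrime_liesOver_of_faithfullyFlat (B := S)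
      (P.comap (algebraMap R (Localization.Away r)))
  have hp' : p'.comap (algebraMap R S) = P.comap (algebraMap R (Localization.Away r)) :=
    (hp'lies.over).symm
  have hrP : algebraMap R (Localization.Away r) r ∉ P := by
    intro hmem
    apply hP.ne_top
    exact Ideal.eq_top_of_isUnit_mem _ hmem (IsLocalization.Away.algebraMap_isUnit r)
  have hsp' : s ∉ p' := by
    intro hmem
    apply hrP
    have : r ∈ p'.comap (algebraMap R S) := by rw [Ideal.mem_comap, hs]; exact hmem
    rw [hp'] at this
    exact this
  have hdisj : Disjoint (Submonoid.powers s : Set S) (p' : Set S) := by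
    rw [Set.disjoint_left]
    rintro x ⟨n, rfl⟩ hx
    exact hsp' (hp'prime.mem_of_pow_mem n hx)
  have hP'prime : (p'.map (algebraMap S (Localization.Away s))).IsPrime :=
    IsLocalization.isPrime_of_isPrime_disjoint (Submonoid.powers s) _ p' hp'prime hdisj
  have hP'comap : (p'.map (algebraMap S (Localization.Away s))).comap
      (algebraMap S (Localization.Away s)) = p' :=
    IsLocalization.under_map_of_isPrime_disjoint (Submonoid.powers s) _ hp'prime hdisj
  refine ⟨p'.map (algebraMap S (Localization.Away s)), hP'prime, ?_⟩
  have hcomm : a.comp (algebraMap R (Localization.Away r)) =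
      (algebraMap S (Localization.Away s)).comp (algebraMap R S) := RingHom.ext ha
  have h1 : ((p'.map (algebraMap S (Localization.Away s))).comap a).comap
      (algebraMap R (Localization.Away r)) = P.comap (algebraMap R (Localization.Away r)) := by
    rw [Ideal.comap_comap, hcomm, ← Ideal.comap_comap, hP'comap, hp']
  have h2 := IsLocalization.map_under (Submonoid.powers r) (Localization.Away r)
    ((p'.map (algebraMap S (Localization.Away s))).comap a)
  have h3 := IsLocalization.map_under (Submonoid.powers r) (Localization.Away r) P
  rw [← h2, ← h3]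
  exact congrArg (Ideal.map (algebraMap R (Localization.Away r))) h1

end Groth.Agent.Lib.Helper15.RigDesc
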