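import Mathlib
import Groth.Agent.Lib.Helper15.RigClosed

/-!
# A complete Noetherian domain whose nonzero primes all contain the ideal of definition is local
(helper15)
-/

set_option autoImplicit false
set_option linter.style.haveILetI false
set_option linter.unusedSectionVars false

universe u

open Polynomial

namespace Groth.Agent.Lib.Helper15.RigLoc

theorem isLocalRing_of_complete_domain {C : Type*} [CommRing C] [IsDomain C] [IsNoetherianRing C]
    (K : Ideal C) [IsAdicComplete K C] (hK : K ≠ ⊥)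
    (h : ∀ P : Ideal C, P.IsPrime → P ≠ ⊥ → K ≤ P) : IsLocalRing C := by
  apply IsLocalRing.of_unique_max_ideal
  obtain ⟨m, hm⟩ := Ideal.exists_maximal C
  refine ⟨m, hm, fun m2 hm2 => ?_⟩
  by_contra hne
  have hKmax : ∀ m' : Ideal C, m'.IsMaximal → K ≤ m' := by
    intro m' hm'
    have h1 : K ≤ (⊥ : Ideal C).jacobson := IsAdicComplete.le_jacobson_bot K
    exact h1.trans (sInf_le ⟨bot_le, hm'⟩)
  have hmk : Function.Surjective (Ideal.Quotient.mk K) := Ideal.Quotient.mk_surjective
  have hdim : Ring.KrullDimLE 0 (C ⧸ K) := by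
    refine Ring.KrullDimLE.mk₀ fun P hP => ?_
    have hP' : (P.comap (Ideal.Quotient.mk K)).IsPrime := inferInstance
    have hKP : K ≤ P.comap (Ideal.Quotient.mk K) := by
      intro x hx
      rw [Ideal.mem_comap, Ideal.Quotient.eq_zero_iff_mem.mpr hx]
      exact P.zero_mem
    have hne0 : P.comap (Ideal.Quotient.mk K) ≠ ⊥ := fun h0 => hK (le_bot_iff.mp (h0 ▸ hKP))
    have hmax : (P.comap (Ideal.Quotient.mk K)).IsMaximal :=
      Groth.Agent.Lib.Helper15.isMaximal_of_forall_ne_bot_le K hK h _ hne0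
    rw [← Ideal.map_comap_of_surjective (Ideal.Quotient.mk K) hmk P]
    refine Ideal.IsMaximal.map_of_surjective_of_ker_le hmk ?_
    rw [Ideal.mk_ker]
    exact hKP
  have hart : IsArtinianRing (C ⧸ K) := isArtinianRing_iff_krullDimLE_zero.mpr hdim
  -- an element of `m2` not in `m`
  have hnotle : ¬ m2 ≤ m := fun hle => hne (hm2.eq_of_le hm.ne_top hle)
  obtain ⟨x, hx2, hxm⟩ := Set.not_subset.mp hnotle
  obtain ⟨n, ybar, hy⟩ := IsArtinian.exists_pow_succ_smul_dvd (Ideal.Quotient.mk K x)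
    (1 : C ⧸ K)
  obtain ⟨y, rfl⟩ := hmk ybar
  set Xb := Ideal.Quotient.mk K x with hX
  set Yb := Ideal.Quotient.mk K y with hY
  simp only [smul_eq_mul, mul_one] at hy
  -- relation at level `N = n + 1`
  set N := n + 1 with hN
  have hrel : Xb ^ (N + 1) * Yb = Xb ^ N := by
    rw [hN, pow_succ Xb (n + 1), mul_assoc, mul_comm Xb Yb, ← mul_assoc, hy, ← pow_succ]
  have hrelk : ∀ k : ℕ, Xb ^ (N + k) * Yb ^ k = Xb ^ N := by
    intro k
    induction k with
    | zero => simp
    | succ k ih =>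
      have : Xb ^ (N + (k + 1)) * Yb ^ (k + 1) = Xb ^ k * (Xb ^ (N + 1) * Yb) * Yb ^ k := by ring
      rw [this, hrel]
      have : Xb ^ k * Xb ^ N * Yb ^ k = Xb ^ (N + k) * Yb ^ k := by ring
      rw [this, ih]
  set e0 : C := x ^ N * y ^ N with he0
  have he0m2 : e0 ∈ m2 := by
    rw [he0, hN, pow_succ x n]
    exact Ideal.mul_mem_right _ _ (Ideal.mul_mem_left _ _ hx2)
  have hidem : e0 ^ 2 - e0 ∈ K := by
    rw [← Ideal.Quotient.eq_zero_iff_mem, map_sub, map_pow, he0, map_mul, map_pow, map_pow]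
    have : (Xb ^ N * Yb ^ N) ^ 2 = (Xb ^ (N + N) * Yb ^ N) * Yb ^ N := by ring
    rw [this, hrelk N, sub_self]
  have h1e0 : 1 - e0 ∈ m := by
    have hxN : x ^ N * (1 - e0) ∈ K := by
      rw [← Ideal.Quotient.eq_zero_iff_mem, map_mul, map_sub, map_pow, he0, map_mul, map_pow,
        map_pow, map_one]
      have : Xb ^ N * (1 - Xb ^ N * Yb ^ N) = Xb ^ N - Xb ^ (N + N) * Yb ^ N := by ring
      rw [this, hrelk N, sub_self]
    have hxN' : x ^ N * (1 - e0) ∈ m := hKmax m hm hxN
    rcases hm.isPrime.mem_or_mem hxN' with h1 | h1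
    · exact absurd (hm.isPrime.mem_of_pow_mem _ h1) hxm
    · exact h1
  -- Hensel
  have hhens : HenselianRing C K := inferInstance
  have hmonic : (X ^ 2 - X : C[X]).Monic := by
    apply Polynomial.monic_X_pow_sub
    simp
  have heval : (X ^ 2 - X : C[X]).eval e0 ∈ K := by
    simpa using hidem
  have hder : IsUnit (Ideal.Quotient.mk K ((Polynomial.derivative (X ^ 2 - X : C[X])).eval e0)) := by
    have hd : (Polynomial.derivative (X ^ 2 - X : C[X])).eval e0 = 2 * e0 - 1 := by
      simp only [derivative_sub, derivative_X_pow, derivative_X, eval_sub, eval_mul, eval_C,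
        eval_pow, eval_X, eval_one, Nat.cast_ofNat]
      norm_num
    rw [hd]
    apply IsUnit.of_mul_eq_one (Ideal.Quotient.mk K (2 * e0 - 1))
    rw [← map_mul, ← map_one (Ideal.Quotient.mk K), Ideal.Quotient.eq]
    have : (2 * e0 - 1) * (2 * e0 - 1) - 1 = 4 * (e0 ^ 2 - e0) := by ring
    rw [this]
    exact Ideal.mul_mem_left _ _ hidem
  obtain ⟨e, heroot, hee0⟩ := hhens.is_henselian _ hmonic e0 heval hder
  have he : e * (e - 1) = 0 := by
    have := heroot
    simp only [Polynomial.IsRoot, Polynomial.eval_sub, Polynomial.eval_pow, Polynomial.eval_X] at this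
    rw [← this]; ring
  rcases mul_eq_zero.mp he with h0 | h1
  · -- e = 0
    rw [h0, zero_sub, neg_mem_iff] at hee0
    have : e0 ∈ m := hKmax m hm hee0
    apply hm.ne_top
    rw [Ideal.eq_top_iff_one]
    have h2 : (1 : C) = (1 - e0) + e0 := by ring
    rw [h2]
    exact m.add_mem h1e0 this
  · -- e = 1
    have he1 : e = 1 := sub_eq_zero.mp h1
    rw [he1] at hee0
    have : 1 - e0 ∈ m2 := hKmax m2 hm2 hee0
    apply hm2.ne_top
    rw [Ideal.eq_top_iff_one]
    have h2 : (1 : C) = (1 - e0) + e0 := by ring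
    rw [h2]
    exact m2.add_mem this he0m2

end Groth.Agent.Lib.Helper15.RigLoc
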