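import Mathlib

/-!
# A field of finite type over a ring is integral over a principal localization (helper15)

`exists_pow_mul_isIntegral`: if a field `κ` is an `A`-algebra of finite type, there is `f : A`,
nonzero in `κ`, such that for every `x : κ` some `f ^ k * x` is integral over `A`.
-/

set_option autoImplicit false
set_option linter.style.haveILetI false
set_option linter.unusedSectionVars false

universe u

open Polynomial

namespace Groth.Agent.Lib.Helper15.RigLoc

/-- integrality over the image subalgebra is integrality over the ring. -/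
theorem isIntegral_of_isIntegral_range {A κ : Type*} [CommRing A] [CommRing κ] [Nontrivial κ]
    [Algebra A κ] (z : κ) (hz : IsIntegral (Algebra.ofId A κ).range z) : IsIntegral A z := by
  obtain ⟨p, hp, hpz⟩ := hz
  have hsurj : Function.Surjective (algebraMap A (Algebra.ofId A κ).range) := by
    rintro ⟨y, a, rfl⟩
    exact ⟨a, Subtype.ext rfl⟩
  have hnt : Nontrivial (Algebra.ofId A κ).range := inferInstance
  have hl : p ∈ Polynomial.lifts (algebraMap A (Algebra.ofId A κ).range) := by
    rw [Polynomial.mem_lifts]
    exact Polynomial.map_surjective _ hsurj p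
  obtain ⟨q, hq, -, hqm⟩ := Polynomial.lifts_and_degree_eq_and_monic hl hp
  refine ⟨q, hqm, ?_⟩
  rw [← hq, Polynomial.eval₂_map, ← IsScalarTower.algebraMap_eq] at hpz
  exact hpz

theorem exists_pow_mul_isIntegral (A : Type*) [CommRing A] (κ : Type*) [Field κ] [Algebra A κ]
    [hft : Algebra.FiniteType A κ] :
    ∃ f : A, algebraMap A κ f ≠ 0 ∧
      ∀ x : κ, ∃ k : ℕ, IsIntegral A (algebraMap A κ f ^ k * x) := by
  classical
  let R : Subalgebra A κ := (Algebra.ofId A κ).range
  have hinj : Function.Injective (algebraMap R κ) := Subtype.val_injective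
  have hfaith : FaithfulSMul R κ := (faithfulSMul_iff_algebraMap_injective R κ).mpr hinj
  letI : Algebra (FractionRing R) κ := FractionRing.liftAlgebra R κ
  have htower : IsScalarTower R (FractionRing R) κ := FractionRing.isScalarTower_liftAlgebra R κ
  have hft1 : Algebra.FiniteType R κ := Algebra.FiniteType.of_restrictScalars_finiteType A R κ
  have hft2 : Algebra.FiniteType (FractionRing R) κ :=
    Algebra.FiniteType.of_restrictScalars_finiteType R _ κ
  have hfin : Module.Finite (FractionRing R) κ := finite_of_finite_type_of_isJacobsonRing _ _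
  have halg : Algebra.IsAlgebraic (FractionRing R) κ := Algebra.IsAlgebraic.of_finite _ _
  have halgR : ∀ x : κ, IsAlgebraic R x := fun x =>
    (IsFractionRing.isAlgebraic_iff R (FractionRing R) κ).mpr (halg.isAlgebraic x)
  obtain ⟨s, hs⟩ := hft.out
  have h1 : ∀ x : κ, ∃ a : A, algebraMap A κ a ≠ 0 ∧ IsIntegral A (algebraMap A κ a * x) := by
    intro x
    obtain ⟨y, hy0, hy⟩ := (halgR x).exists_integral_multiple
    obtain ⟨y, a, rfl⟩ := y
    refine ⟨a, ?_, ?_⟩
    · intro h0
      apply hy0
      exact Subtype.ext h0
    · apply isIntegral_of_isIntegral_range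
      have : (⟨(Algebra.ofId A κ) a, ⟨a, rfl⟩⟩ : R) • x = algebraMap A κ a * x := rfl
      rw [← this]
      exact hy
  choose a ha0 haint using h1
  let f : A := ∏ x ∈ s, a x
  have hf0 : algebraMap A κ f ≠ 0 := by
    rw [map_prod]
    exact Finset.prod_ne_zero_iff.mpr fun x _ => ha0 x
  refine ⟨f, hf0, ?_⟩
  have hfint : IsIntegral A (algebraMap A κ f) := isIntegral_algebraMap
  let T : Subalgebra A κ :=
    { carrier := {x | ∃ k : ℕ, IsIntegral A (algebraMap A κ f ^ k * x)}
      mul_mem' := by
        rintro x y ⟨k, hx⟩ ⟨l, hy⟩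
        refine ⟨k + l, ?_⟩
        have : algebraMap A κ f ^ (k + l) * (x * y) =
            (algebraMap A κ f ^ k * x) * (algebraMap A κ f ^ l * y) := by ring
        rw [this]
        exact hx.mul hy
      add_mem' := by
        rintro x y ⟨k, hx⟩ ⟨l, hy⟩
        refine ⟨k + l, ?_⟩
        have : algebraMap A κ f ^ (k + l) * (x + y) =
            algebraMap A κ f ^ l * (algebraMap A κ f ^ k * x) +
              algebraMap A κ f ^ k * (algebraMap A κ f ^ l * y) := by ring
        rw [this]
        exact ((hfint.pow l).mul hx).add ((hfint.pow k).mul hy)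
      algebraMap_mem' := by
        intro r
        exact ⟨0, by simpa using isIntegral_algebraMap⟩ }
  have hT : T = ⊤ := by
    rw [eq_top_iff, ← hs]
    apply Algebra.adjoin_le
    intro x hx
    refine ⟨1, ?_⟩
    have hsplit : algebraMap A κ f ^ 1 * x =
        algebraMap A κ (∏ y ∈ s.erase x, a y) * (algebraMap A κ (a x) * x) := by
      rw [pow_one, ← mul_assoc, ← map_mul, Finset.prod_erase_mul s a hx]
    rw [hsplit]
    exact isIntegral_algebraMap.mul (haint x)
  intro x
  have : x ∈ T := hT ▸ Algebra.mem_top
  exact this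

end Groth.Agent.Lib.Helper15.RigLoc
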