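import Mathlib
import Groth.Agent.S3866
import Groth.Agent.S8822
import Groth.Agent.S8829
import Groth.Agent.Lib.Helper15.RigClosed
import Groth.Agent.Lib.Helper15.RigLoc1
import Groth.Agent.Lib.Helper15.RigLoc2

/-!
# Rig-closed primes: locality of the quotient and choice of `f` (helper15)
-/

set_option autoImplicit false
set_option linter.style.haveILetI false
set_option linter.unusedSectionVars false

universe u

namespace Groth.Agent.Lib.Helper15.RigLoc

section
variable (A : Type u) [CommRing A] [IsNoetherianRing A] (I : Ideal A) [IsAdicComplete I A]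
  (B : Type u) [CommRing B] [Algebra A B] [IsNoetherianRing B]
  [IsAdicComplete (I.map (algebraMap A B)) B]
  (hft : Algebra.FiniteType A (B ⧸ (I.map (algebraMap A B))))
  (q : PrimeSpectrum B)
  (hq : ¬ (I.map (algebraMap A B)) ≤ q.asIdeal ∧
    ∀ y : PrimeSpectrum B, q ≤ y → ¬ (I.map (algebraMap A B)) ≤ y.asIdeal → y = q)

include hq in
/-- every nonzero prime of `B ⧸ q` contains `I (B ⧸ q)`. -/
theorem le_of_prime_quotient (P : Ideal (B ⧸ q.asIdeal)) (hP : P.IsPrime) (hP0 : P ≠ ⊥) :
    I.map (algebraMap A (B ⧸ q.asIdeal)) ≤ P := by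
  let mk := Ideal.Quotient.mk q.asIdeal
  have hmk : Function.Surjective mk := Ideal.Quotient.mk_surjective
  have hkermk : RingHom.ker mk = q.asIdeal := Ideal.mk_ker
  have hmap : I.map (algebraMap A (B ⧸ q.asIdeal)) = (I.map (algebraMap A B)).map mk := by
    rw [Ideal.map_map]; rfl
  rw [hmap, Ideal.map_le_iff_le_comap]
  by_contra hK
  have hPq : q ≤ ⟨P.comap mk, inferInstance⟩ := by
    rw [← PrimeSpectrum.asIdeal_le_asIdeal]
    change q.asIdeal ≤ P.comap mk
    exact hkermk.symm.le.trans (Ideal.ker_le_comap mk)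
  have heq := hq.2 ⟨P.comap mk, inferInstance⟩ hPq hK
  apply hP0
  have h1 : P.comap mk = (⊥ : Ideal (B ⧸ q.asIdeal)).comap mk := by
    have := congrArg PrimeSpectrum.asIdeal heq
    change P.comap mk = q.asIdeal at this
    rw [this, ← RingHom.ker_eq_comap_bot, hkermk]
  exact Ideal.comap_injective_of_surjective mk hmk h1

include hq in
theorem map_ne_bot_quotient : I.map (algebraMap A (B ⧸ q.asIdeal)) ≠ ⊥ := by
  have hmap : I.map (algebraMap A (B ⧸ q.asIdeal)) =
      (I.map (algebraMap A B)).map (Ideal.Quotient.mk q.asIdeal) := by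
    rw [Ideal.map_map]; rfl
  intro h0
  rw [hmap, Ideal.map_eq_bot_iff_le_ker, Ideal.mk_ker] at h0
  exact hq.1 h0

include hft hq in
theorem isLocalRing_quotient : IsLocalRing (B ⧸ q.asIdeal) := by
  have hcomplete : IsAdicComplete (I.map (algebraMap A (B ⧸ q.asIdeal))) (B ⧸ q.asIdeal) :=
    Groth.Agent.S8822.result A I B hft q.asIdeal
  exact isLocalRing_of_complete_domain (I.map (algebraMap A (B ⧸ q.asIdeal)))
    (map_ne_bot_quotient A I B q hq) (le_of_prime_quotient A I B q hq)

include hft hq in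
/-- The choice of `f`. -/
theorem exists_f : ∃ f : A, IsUnit (Ideal.Quotient.mk q.asIdeal (algebraMap A B f)) ∧
    ∀ m0 : Ideal B, m0.IsMaximal → q.asIdeal ≤ m0 → ∀ x : B ⧸ m0,
      ∃ k : ℕ, IsIntegral A (algebraMap A (B ⧸ m0) f ^ k * x) := by
  have hloc : IsLocalRing (B ⧸ q.asIdeal) := isLocalRing_quotient A I B hft q hq
  let mk := Ideal.Quotient.mk q.asIdeal
  have hmk : Function.Surjective mk := Ideal.Quotient.mk_surjective
  let m : Ideal B := (IsLocalRing.maximalIdeal (B ⧸ q.asIdeal)).comap mk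
  have hm : m.IsMaximal := Ideal.comap_isMaximal_of_surjective mk hmk
  have hKm : I.map (algebraMap A B) ≤ m := by
    have h1 : I.map (algebraMap A B) ≤ (⊥ : Ideal B).jacobson := IsAdicComplete.le_jacobson_bot _
    exact h1.trans (sInf_le ⟨bot_le, hm⟩)
  letI : Field (B ⧸ m) := Ideal.Quotient.field m
  have hftm : Algebra.FiniteType A (B ⧸ m) :=
    Algebra.FiniteType.of_surjective (Ideal.Quotient.factorₐ A hKm)
      (Ideal.Quotient.factor_surjective hKm)
  obtain ⟨f, hf0, hfint⟩ := exists_pow_mul_isIntegral A (B ⧸ m)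
  refine ⟨f, ?_, ?_⟩
  · by_contra hnu
    have hmem : mk (algebraMap A B f) ∈ IsLocalRing.maximalIdeal (B ⧸ q.asIdeal) :=
      (IsLocalRing.mem_maximalIdeal _).mpr hnu
    apply hf0
    have : algebraMap A B f ∈ m := hmem
    rw [IsScalarTower.algebraMap_apply A B (B ⧸ m), Ideal.Quotient.algebraMap_eq]
    exact Ideal.Quotient.eq_zero_iff_mem.mpr this
  · intro m0 hm0 hqm0
    have hmm0 : m0 = m := by
      have hker : RingHom.ker mk ≤ m0 := by rw [Ideal.mk_ker]; exact hqm0
      have h1 : (m0.map mk).IsMaximal := Ideal.IsMaximal.map_of_surjective_of_ker_le hmk hker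
      have h2 : m0.map mk = IsLocalRing.maximalIdeal (B ⧸ q.asIdeal) :=
        IsLocalRing.eq_maximalIdeal h1
      change m0 = (IsLocalRing.maximalIdeal (B ⧸ q.asIdeal)).comap mk
      rw [← h2, Ideal.comap_map_of_surjective mk hmk, ← RingHom.ker_eq_comap_bot]
      exact (sup_eq_left.mpr hker).symm
    subst hmm0
    exact hfint

end

end Groth.Agent.Lib.Helper15.RigLoc
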