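import Mathlib
import Groth.Agent.S8837
import Groth.Agent.Lib.Helper15.RigLoc3
import Groth.Agent.Lib.Helper15.RigLoc4
import Groth.Agent.Lib.Helper21.AdicNoetherian

/-!
# Rig-closed primes under completed principal localization (helper15): S8840
-/

set_option autoImplicit false
set_option linter.style.haveILetI false
set_option linter.unusedSectionVars false

universe u

namespace Groth.Agent.Lib.Helper15.RigLoc

section Cpl
variable {A : Type u} [CommRing A] [IsNoetherianRing A] (I : Ideal A)
  (R : Type u) [CommRing R] [Algebra A R] [IsNoetherianRing R] (J : Ideal R)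
  (hJ : J = I.map (algebraMap A R))

theorem isNoetherianRing_cpl : IsNoetherianRing (AdicCompletion J R) :=
  Groth.Agent.Lib.Helper21.isNoetherianRing_adicCompletion_of_fg J (IsNoetherian.noetherian J)

include hJ in
theorem map_cpl_eq : J.map (algebraMap R (AdicCompletion J R)) =
    I.map (algebraMap A (AdicCompletion J R)) := by
  subst hJ
  rw [Ideal.map_map, ← IsScalarTower.algebraMap_eq]

include hJ in
theorem isAdicComplete_cpl :
    IsAdicComplete (I.map (algebraMap A (AdicCompletion J R))) (AdicCompletion J R) := by
  rw [← map_cpl_eq I R J hJ]
  exact AdicCompletion.isAdicComplete_self J (IsNoetherian.noetherian J)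

end Cpl

theorem main8840 (A : Type u) [CommRing A] [IsNoetherianRing A] (I : Ideal A) [IsAdicComplete I A]
    (B : Type u) [CommRing B] [Algebra A B] [IsNoetherianRing B]
    [IsAdicComplete (I.map (algebraMap A B)) B]
    (hft : Algebra.FiniteType A (B ⧸ (I.map (algebraMap A B)))) (q : PrimeSpectrum B)
    (hq : (¬ (I.map (algebraMap A B)) ≤ q.asIdeal ∧
      ∀ y : PrimeSpectrum B, q ≤ y → ¬ (I.map (algebraMap A B)) ≤ y.asIdeal → y = q)) :
    ∃ f : A, IsUnit (Ideal.Quotient.mk q.asIdeal (algebraMap A B f)) ∧
      ∀ ψ : (AdicCompletion (I.map (algebraMap A (Localization.Away f))) (Localization.Away f)) →+*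
        (AdicCompletion ((I.map (algebraMap A B)).map
          (algebraMap B (Localization.Away (algebraMap A B f))))
          (Localization.Away (algebraMap A B f))),
      ψ.comp (algebraMap (Localization.Away f)
        (AdicCompletion (I.map (algebraMap A (Localization.Away f))) (Localization.Away f))) =
      (algebraMap (Localization.Away (algebraMap A B f))
        (AdicCompletion ((I.map (algebraMap A B)).map
          (algebraMap B (Localization.Away (algebraMap A B f))))
          (Localization.Away (algebraMap A B f)))).comp
        (Localization.awayMap (algebraMap A B) f) →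
      (((q.asIdeal.map (algebraMap B (AdicCompletion ((I.map (algebraMap A B)).map
          (algebraMap B (Localization.Away (algebraMap A B f))))
          (Localization.Away (algebraMap A B f))))).comap ψ).IsPrime ∧
        ¬ (I.map (algebraMap A (AdicCompletion (I.map (algebraMap A (Localization.Away f)))
          (Localization.Away f)))) ≤
          ((q.asIdeal.map (algebraMap B (AdicCompletion ((I.map (algebraMap A B)).map
          (algebraMap B (Localization.Away (algebraMap A B f))))
          (Localization.Away (algebraMap A B f))))).comap ψ) ∧
        ∀ y : PrimeSpectrum (AdicCompletion (I.map (algebraMap A (Localization.Away f)))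
          (Localization.Away f)),
          ((q.asIdeal.map (algebraMap B (AdicCompletion ((I.map (algebraMap A B)).map
          (algebraMap B (Localization.Away (algebraMap A B f))))
          (Localization.Away (algebraMap A B f))))).comap ψ) ≤ y.asIdeal →
          ¬ (I.map (algebraMap A (AdicCompletion (I.map (algebraMap A (Localization.Away f)))
            (Localization.Away f)))) ≤ y.asIdeal →
          y.asIdeal = ((q.asIdeal.map (algebraMap B (AdicCompletion ((I.map (algebraMap A B)).map
          (algebraMap B (Localization.Away (algebraMap A B f))))
          (Localization.Away (algebraMap A B f))))).comap ψ)) := by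
  obtain ⟨f, hfu, hint⟩ := exists_f A I B hft q hq
  refine ⟨f, hfu, fun ψ hψ => ?_⟩
  -- names
  let Af := Localization.Away f
  let IAf : Ideal Af := I.map (algebraMap A Af)
  let Afh := AdicCompletion IAf Af
  let g : B := algebraMap A B f
  let Bg := Localization.Away g
  let IBg : Ideal Bg := (I.map (algebraMap A B)).map (algebraMap B Bg)
  let Bgh := AdicCompletion IBg Bg
  have hNAf : IsNoetherianRing Af :=
    IsLocalization.isNoetherianRing (Submonoid.powers f) Af inferInstance
  have hNBg : IsNoetherianRing Bg :=
    IsLocalization.isNoetherianRing (Submonoid.powers g) Bg inferInstance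
  have hNAfh : IsNoetherianRing Afh := isNoetherianRing_cpl Af IAf
  have hNBgh : IsNoetherianRing Bgh := isNoetherianRing_cpl Bg IBg
  have hCAfh : IsAdicComplete (I.map (algebraMap A Afh)) Afh := isAdicComplete_cpl I Af IAf rfl
  have hIBg : IBg = I.map (algebraMap A Bg) := by
    change (I.map (algebraMap A B)).map (algebraMap B Bg) = _
    rw [Ideal.map_map, ← IsScalarTower.algebraMap_eq]
  have hCBgh : IsAdicComplete (I.map (algebraMap A Bgh)) Bgh := isAdicComplete_cpl I Bg IBg hIBg
  letI : Algebra Afh Bgh := ψ.toAlgebra
  have htower : IsScalarTower A Afh Bgh := by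
    refine IsScalarTower.of_algebraMap_eq fun a => ?_
    have h1 := RingHom.congr_fun hψ (algebraMap A Af a)
    simp only [RingHom.comp_apply] at h1
    have h2 : Localization.awayMap (algebraMap A B) f (algebraMap A Af a) =
        algebraMap B Bg (algebraMap A B a) := by
      simp only [Localization.awayMap, IsLocalization.Away.map]
      exact IsLocalization.map_eq _ a
    rw [h2] at h1
    change algebraMap A Bgh a = ψ (algebraMap A Afh a)
    rw [IsScalarTower.algebraMap_apply A Af Afh, h1, IsScalarTower.algebraMap_apply A B Bgh,
      IsScalarTower.algebraMap_apply B Bg Bgh]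
  have hf1 : IsUnit (algebraMap A Afh f) := by
    rw [IsScalarTower.algebraMap_apply A Af Afh]
    exact (IsLocalization.Away.algebraMap_isUnit f).map _
  obtain ⟨hQprime, hbij⟩ := Groth.Agent.S8837.result B (I.map (algebraMap A B)) q.asIdeal g hfu
  have := rigClosed_comap A I B hft q hq Afh Bgh f hf1 hbij hint
  exact this

end Groth.Agent.Lib.Helper15.RigLoc
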