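import Mathlib
import Groth.Prelude.Def_FSch3
import Groth.Agent.Lib.Helper14.ComplFlat
import Groth.Agent.Lib.Helper18.CplFlat
import Groth.Agent.Lib.Helper15.RigLoc5
import Groth.Agent.Lib.Helper15.RigComp1
import Groth.Agent.Lib.Helper15.RigDesc2
import Groth.Agent.Lib.Helper15.RigBC1

/-!
# Functoriality of completed principal localizations (helper15)
-/

set_option autoImplicit false
set_option linter.style.haveILetI false
set_option linter.unusedSectionVars false
set_option linter.style.longLine false

universe u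

namespace Groth.Agent.Lib.Helper15.RigBC

open Groth.Agent.Lib.Helper15.RigComp

section CL
variable {X Y Z : Type u} [CommRing X] [CommRing Y] [CommRing Z]

/-- lift of a ring hom to principal localizations. -/
noncomputable def awayLift (φ : X →+* Y) (x : X) (y : Y) (hxy : φ x = y) :
    Localization.Away x →+* Localization.Away y :=
  IsLocalization.Away.lift x (g := (algebraMap Y (Localization.Away y)).comp φ)
    (by rw [RingHom.comp_apply, hxy]; exact IsLocalization.Away.algebraMap_isUnit y)

theorem awayLift_algebraMap (φ : X →+* Y) (x : X) (y : Y) (hxy : φ x = y) (t : X) :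
    awayLift φ x y hxy (algebraMap X (Localization.Away x) t) =
      algebraMap Y (Localization.Away y) (φ t) :=
  IsLocalization.Away.lift_eq x _ t

theorem awayLift_comp_algebraMap (φ : X →+* Y) (x : X) (y : Y) (hxy : φ x = y) :
    (awayLift φ x y hxy).comp (algebraMap X (Localization.Away x)) =
      (algebraMap Y (Localization.Away y)).comp φ :=
  RingHom.ext fun t => awayLift_algebraMap φ x y hxy t

theorem awayLift_eq_awayMap (φ : X →+* Y) (x : X) :
    awayLift φ x (φ x) rfl = Localization.awayMap φ x := by
  apply IsLocalization.ringHom_ext (Submonoid.powers x)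
  refine RingHom.ext fun t => ?_
  rw [RingHom.comp_apply, RingHom.comp_apply, awayLift_algebraMap]
  simp only [Localization.awayMap, IsLocalization.Away.map]
  exact (IsLocalization.map_eq _ t).symm

/-- the ideal of definition of the principal localization. -/
abbrev CLI (JX : Ideal X) (x : X) : Ideal (Localization.Away x) :=
  JX.map (algebraMap X (Localization.Away x))

/-- the completed principal localization. -/
abbrev CL (JX : Ideal X) (x : X) : Type u := AdicCompletion (CLI JX x) (Localization.Away x)

/-- the canonical map to the completed principal localization. -/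
noncomputable def toCL (JX : Ideal X) (x : X) : X →+* CL JX x :=
  (algebraMap (Localization.Away x) (CL JX x)).comp (algebraMap X (Localization.Away x))

theorem toCL_eq_algebraMap (JX : Ideal X) (x : X) : toCL JX x = algebraMap X (CL JX x) := by
  refine RingHom.ext fun t => ?_
  rw [IsScalarTower.algebraMap_apply X (Localization.Away x) (CL JX x)]
  rfl

theorem isUnit_toCL (JX : Ideal X) (x : X) : IsUnit (toCL JX x x) := by
  have h : IsUnit (algebraMap X (Localization.Away x) x) := IsLocalization.Away.algebraMap_isUnit x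
  exact h.map (algebraMap (Localization.Away x) (CL JX x))

theorem map_toCL (JX : Ideal X) (x : X) :
    JX.map (toCL JX x) = (CLI JX x).map (algebraMap (Localization.Away x) (CL JX x)) := by
  unfold toCL
  rw [← Ideal.map_map]

theorem isAdicComplete_CL (JX : Ideal X) (hJX : JX.FG) (x : X) :
    IsAdicComplete (JX.map (toCL JX x)) (CL JX x) := by
  rw [map_toCL]
  exact AdicCompletion.isAdicComplete_self (CLI JX x) (hJX.map _)

theorem isNoetherianRing_away [IsNoetherianRing X] (x : X) :
    IsNoetherianRing (Localization.Away x) :=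
  IsLocalization.isNoetherianRing (Submonoid.powers x) _ inferInstance

theorem isNoetherianRing_CL [IsNoetherianRing X] (JX : Ideal X) (x : X) :
    IsNoetherianRing (CL JX x) :=
  haveI := isNoetherianRing_away x
  Groth.Agent.Lib.Helper15.RigLoc.isNoetherianRing_cpl (Localization.Away x) (CLI JX x)

/-- uniqueness of continuous ring maps out of a completed principal localization. -/
theorem cl_hom_ext (JX : Ideal X) (hJX : JX.FG) (x : X) {W : Type*} [CommRing W] (K : Ideal W)
    [IsHausdorff K W] (ψ ψ' : CL JX x →+* W) (h : ψ.comp (toCL JX x) = ψ'.comp (toCL JX x))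
    (hK : JX.map (ψ.comp (toCL JX x)) ≤ K) : ψ = ψ' := by
  apply ringHom_ext_cpl (CLI JX x) (hJX.map _) K ψ ψ'
  · apply IsLocalization.ringHom_ext (Submonoid.powers x)
    rw [RingHom.comp_assoc, RingHom.comp_assoc]
    exact h
  · rw [Ideal.map_map]
    rw [RingHom.comp_assoc]
    exact hK

theorem map_awayLift_le (φ : X →+* Y) (JX : Ideal X) (JY : Ideal Y) (hJ : JX.map φ ≤ JY)
    (x : X) (y : Y) (hxy : φ x = y) : (CLI JX x).map (awayLift φ x y hxy) ≤ CLI JY y := by
  rw [Ideal.map_map, awayLift_comp_algebraMap, ← Ideal.map_map]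
  exact Ideal.map_mono hJ

theorem map_awayLift_eq (φ : X →+* Y) (JX : Ideal X) (JY : Ideal Y) (hJ : JX.map φ = JY)
    (x : X) (y : Y) (hxy : φ x = y) : (CLI JX x).map (awayLift φ x y hxy) = CLI JY y := by
  rw [Ideal.map_map, awayLift_comp_algebraMap, ← Ideal.map_map, hJ]

/-- functoriality of the completed principal localization. -/
noncomputable def clMap (φ : X →+* Y) (JX : Ideal X) (JY : Ideal Y) (hJ : JX.map φ ≤ JY)
    (x : X) (y : Y) (hxy : φ x = y) : CL JX x →+* CL JY y :=
  FSch.complMap (CLI JX x) (CLI JY y) (awayLift φ x y hxy) (map_awayLift_le φ JX JY hJ x y hxy)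

theorem clMap_comp_algebraMap (φ : X →+* Y) (JX : Ideal X) (JY : Ideal Y) (hJ : JX.map φ ≤ JY)
    (x : X) (y : Y) (hxy : φ x = y) :
    (clMap φ JX JY hJ x y hxy).comp (algebraMap (Localization.Away x) (CL JX x)) =
      (algebraMap (Localization.Away y) (CL JY y)).comp (awayLift φ x y hxy) :=
  RingHom.ext fun t => Groth.Agent.Lib.Helper14.complMap_of (CLI JX x) (CLI JY y)
    (awayLift φ x y hxy) (map_awayLift_le φ JX JY hJ x y hxy) t

theorem clMap_comp_toCL (φ : X →+* Y) (JX : Ideal X) (JY : Ideal Y) (hJ : JX.map φ ≤ JY)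
    (x : X) (y : Y) (hxy : φ x = y) :
    (clMap φ JX JY hJ x y hxy).comp (toCL JX x) = (toCL JY y).comp φ := by
  unfold toCL
  rw [← RingHom.comp_assoc, clMap_comp_algebraMap, RingHom.comp_assoc, awayLift_comp_algebraMap,
    RingHom.comp_assoc]

theorem clMap_toCL (φ : X →+* Y) (JX : Ideal X) (JY : Ideal Y) (hJ : JX.map φ ≤ JY)
    (x : X) (y : Y) (hxy : φ x = y) (t : X) :
    clMap φ JX JY hJ x y hxy (toCL JX x t) = toCL JY y (φ t) :=
  RingHom.congr_fun (clMap_comp_toCL φ JX JY hJ x y hxy) t

/-- uniqueness of the completed map. -/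
theorem clMap_unique (φ : X →+* Y) (JX : Ideal X) (hJX : JX.FG) (JY : Ideal Y) (hJY : JY.FG)
    (hJ : JX.map φ ≤ JY) (x : X) (y : Y) (hxy : φ x = y) (θ : CL JX x →+* CL JY y)
    (hθ : θ.comp (toCL JX x) = (toCL JY y).comp φ) : θ = clMap φ JX JY hJ x y hxy := by
  haveI := isAdicComplete_CL JY hJY y
  apply cl_hom_ext JX hJX x (JY.map (toCL JY y))
  · rw [hθ, clMap_comp_toCL]
  · rw [hθ, ← Ideal.map_map]
    exact Ideal.map_mono hJ

theorem clMap_flat [IsNoetherianRing X] [IsNoetherianRing Y] (φ : X →+* Y) (hφ : φ.Flat)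
    (JX : Ideal X) (JY : Ideal Y) (hJ : JX.map φ ≤ JY)
    (x : X) (y : Y) (hxy : φ x = y) : (clMap φ JX JY hJ x y hxy).Flat := by
  haveI := isNoetherianRing_away x
  haveI := isNoetherianRing_away y
  letI : Algebra X Y := φ.toAlgebra
  haveI : Module.Flat X Y := hφ
  exact Groth.Agent.Lib.Helper18.CplFlat.flat_complMap' (CLI JX x) (CLI JY y) (awayLift φ x y hxy)
    (Groth.Agent.Lib.Helper15.RigDesc.flat_away_map x y (awayLift φ x y hxy)
      (fun t => awayLift_algebraMap φ x y hxy t)) (map_awayLift_le φ JX JY hJ x y hxy)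

end CL

end Groth.Agent.Lib.Helper15.RigBC
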