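import Mathlib
import Groth.Agent.Lib.Helper15.RigBC4
import Groth.Agent.Lib.Helper15.RigBC6

/-!
# Base change of the dense-iso property along completed localizations (helper15)
-/

set_option autoImplicit false
set_option linter.style.haveILetI false
set_option linter.unusedSectionVars false
set_option linter.style.longLine false

universe u

open TensorProduct

namespace Groth.Agent.Lib.Helper15.RigBC

section CLdense
variable {X : Type u} [CommRing X]

theorem map_pow_toCL (JX : Ideal X) (x : X) (k : ℕ) :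
    ((CLI JX x) ^ k).map (algebraMap (Localization.Away x) (CL JX x)) =
      (JX ^ k).map (toCL JX x) := by
  unfold toCL
  rw [← Ideal.map_map]
  congr 1
  exact (Ideal.map_pow _ _ _).symm

theorem toCL_dense (JX : Ideal X) (hJX : JX.FG) (x : X) (k : ℕ) (x' : CL JX x) :
    ∃ (t : X) (n : ℕ), x' * (toCL JX x x) ^ n - toCL JX x t ∈ (JX ^ k).map (toCL JX x) := by
  obtain ⟨y, hy⟩ := (isDenseIso_of (CLI JX x) (hJX.map _)).dense k x'
  obtain ⟨n, t, ht⟩ := IsLocalization.Away.surj x y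
  refine ⟨t, n, ?_⟩
  rw [map_pow_toCL] at hy
  have h1 : x' * (toCL JX x x) ^ n - toCL JX x t =
      (x' - algebraMap (Localization.Away x) (CL JX x) y) * (toCL JX x x) ^ n := by
    have h2 : toCL JX x t = algebraMap (Localization.Away x) (CL JX x) y * (toCL JX x x) ^ n := by
      unfold toCL
      rw [RingHom.comp_apply, RingHom.comp_apply, ← ht, map_mul, map_pow]
    rw [h2]; ring
  rw [h1]
  exact Ideal.mul_mem_right _ _ hy

theorem toCL_closed (JX : Ideal X) (hJX : JX.FG) (x : X) (k : ℕ) (t : X)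
    (h : toCL JX x t ∈ (JX ^ k).map (toCL JX x)) : ∃ m : ℕ, x ^ m * t ∈ JX ^ k := by
  rw [← map_pow_toCL] at h
  have h1 := (isDenseIso_of (CLI JX x) (hJX.map _)).closed k (algebraMap X (Localization.Away x) t) h
  rw [← Ideal.map_pow, IsLocalization.mem_map_algebraMap_iff (Submonoid.powers x)] at h1
  obtain ⟨⟨⟨j, hj⟩, ⟨s, N, hs⟩⟩, h2⟩ := h1
  have hs' : x ^ N = s := hs
  simp only at h2
  rw [← map_mul] at h2
  obtain ⟨⟨c, M, hc⟩, h3⟩ := (IsLocalization.eq_iff_exists (Submonoid.powers x)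
    (Localization.Away x)).mp h2
  have hc' : x ^ M = c := hc
  simp only at h3
  refine ⟨M + N, ?_⟩
  have h4 : x ^ (M + N) * t = c * (t * s) := by
    rw [← hc', ← hs', pow_add]; ring
  rw [h4, h3]
  exact Ideal.mul_mem_left _ _ hj

end CLdense

section BaseChange
variable {A B C R : Type u} [CommRing A] [CommRing B] [CommRing C] [CommRing R]
  [Algebra A B] [Algebra A C] [Algebra A R] [Algebra B R] [Algebra C R]
  [IsScalarTower A B R] [IsScalarTower A C R]

theorem prodMap_tmul' (c : C) (b : B) :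
    prodMap A B C R (c ⊗ₜ b) = algebraMap C R c * algebraMap B R b := by
  unfold prodMap
  rw [Algebra.TensorProduct.lift_tmul]
  rfl

theorem prodMap_algebraMap' (a : A) :
    prodMap A B C R (algebraMap A (C ⊗[A] B) a) = algebraMap A R a := by
  rw [IsScalarTower.algebraMap_apply A C (C ⊗[A] B), AlgHom.commutes,
    ← IsScalarTower.algebraMap_apply]

theorem prodMap_comp_algebraMap' :
    (prodMap A B C R).toRingHom.comp (algebraMap A (C ⊗[A] B)) = algebraMap A R :=
  RingHom.ext fun a => prodMap_algebraMap' a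

theorem map_pow_prodMap' (K : Ideal A) (k : ℕ) :
    ((K.map (algebraMap A (C ⊗[A] B))) ^ k).map (prodMap A B C R).toRingHom =
      (K ^ k).map (algebraMap A R) := by
  rw [← Ideal.map_pow, Ideal.map_map, prodMap_comp_algebraMap']

variable {A' B' C' R' : Type u} [CommRing A'] [CommRing B'] [CommRing C'] [CommRing R']
  [Algebra A' B'] [Algebra A' C'] [Algebra A' R'] [Algebra B' R'] [Algebra C' R']
  [IsScalarTower A' B' R'] [IsScalarTower A' C' R']
  (a : A →+* A') (β : B →+* B') (γ : C →+* C') (ρ : R →+* R')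
  (hβ : ∀ x, β (algebraMap A B x) = algebraMap A' B' (a x))
  (hγ : ∀ x, γ (algebraMap A C x) = algebraMap A' C' (a x))
  (hρB : ∀ b, ρ (algebraMap B R b) = algebraMap B' R' (β b))
  (hρC : ∀ c, ρ (algebraMap C R c) = algebraMap C' R' (γ c))

/-- the base change map on tensor products. -/
noncomputable def tensorBC (hβ : ∀ x, β (algebraMap A B x) = algebraMap A' B' (a x))
    (hγ : ∀ x, γ (algebraMap A C x) = algebraMap A' C' (a x)) : C ⊗[A] B →+* C' ⊗[A'] B' :=
  letI : Algebra A (C' ⊗[A'] B') := ((algebraMap A' (C' ⊗[A'] B')).comp a).toAlgebra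
  letI : Algebra B (C' ⊗[A'] B') :=
    ((Algebra.TensorProduct.includeRight : B' →ₐ[A'] C' ⊗[A'] B').toRingHom.comp β).toAlgebra
  letI : Algebra C (C' ⊗[A'] B') := ((algebraMap C' (C' ⊗[A'] B')).comp γ).toAlgebra
  haveI : IsScalarTower A B (C' ⊗[A'] B') := IsScalarTower.of_algebraMap_eq fun x => by
    change algebraMap A' (C' ⊗[A'] B') (a x) =
      (Algebra.TensorProduct.includeRight : B' →ₐ[A'] C' ⊗[A'] B') (β (algebraMap A B x))
    rw [hβ, AlgHom.commutes]
  haveI : IsScalarTower A C (C' ⊗[A'] B') := IsScalarTower.of_algebraMap_eq fun x => by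
    change algebraMap A' (C' ⊗[A'] B') (a x) = algebraMap C' (C' ⊗[A'] B') (γ (algebraMap A C x))
    rw [hγ, ← IsScalarTower.algebraMap_apply]
  (prodMap A B C (C' ⊗[A'] B')).toRingHom

theorem tensorBC_tmul (c : C) (b : B) :
    tensorBC a β γ hβ hγ (c ⊗ₜ b) = γ c ⊗ₜ β b := by
  unfold tensorBC
  letI : Algebra A (C' ⊗[A'] B') := ((algebraMap A' (C' ⊗[A'] B')).comp a).toAlgebra
  letI : Algebra B (C' ⊗[A'] B') :=
    ((Algebra.TensorProduct.includeRight : B' →ₐ[A'] C' ⊗[A'] B').toRingHom.comp β).toAlgebra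
  letI : Algebra C (C' ⊗[A'] B') := ((algebraMap C' (C' ⊗[A'] B')).comp γ).toAlgebra
  haveI : IsScalarTower A B (C' ⊗[A'] B') := IsScalarTower.of_algebraMap_eq fun x => by
    change algebraMap A' (C' ⊗[A'] B') (a x) =
      (Algebra.TensorProduct.includeRight : B' →ₐ[A'] C' ⊗[A'] B') (β (algebraMap A B x))
    rw [hβ, AlgHom.commutes]
  haveI : IsScalarTower A C (C' ⊗[A'] B') := IsScalarTower.of_algebraMap_eq fun x => by
    change algebraMap A' (C' ⊗[A'] B') (a x) = algebraMap C' (C' ⊗[A'] B') (γ (algebraMap A C x))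
    rw [hγ, ← IsScalarTower.algebraMap_apply]
  change prodMap A B C (C' ⊗[A'] B') (c ⊗ₜ b) = _
  rw [prodMap_tmul']
  change (γ c ⊗ₜ[A'] (1 : B')) * ((1 : C') ⊗ₜ[A'] β b) = _
  rw [Algebra.TensorProduct.tmul_mul_tmul, mul_one, one_mul]

include hρB hρC in
theorem prodMap_tensorBC (t : C ⊗[A] B) :
    prodMap A' B' C' R' (tensorBC a β γ hβ hγ t) = ρ (prodMap A B C R t) := by
  induction t using TensorProduct.induction_on with
  | zero => simp only [map_zero]
  | tmul c b => rw [tensorBC_tmul, prodMap_tmul', prodMap_tmul', map_mul, hρC, hρB]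
  | add x y hx hy => simp only [map_add, hx, hy]

theorem tensorBC_algebraMap (x : A) :
    tensorBC a β γ hβ hγ (algebraMap A (C ⊗[A] B) x) = algebraMap A' (C' ⊗[A'] B') (a x) := by
  rw [Algebra.TensorProduct.algebraMap_apply, tensorBC_tmul, hγ, map_one,
    Algebra.TensorProduct.algebraMap_apply]

theorem tmul_one_mem_map (J : Ideal A') (e : C') (he : e ∈ J.map (algebraMap A' C')) (y : B') :
    e ⊗ₜ[A'] y ∈ J.map (algebraMap A' (C' ⊗[A'] B')) := by
  have h1 := Ideal.mem_map_of_mem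
    (Algebra.TensorProduct.includeLeft : C' →ₐ[A'] C' ⊗[A'] B').toRingHom he
  rw [Ideal.map_map] at h1
  have h2 : (Algebra.TensorProduct.includeLeft : C' →ₐ[A'] C' ⊗[A'] B').toRingHom.comp
      (algebraMap A' C') = algebraMap A' (C' ⊗[A'] B') :=
    RingHom.ext fun x => (Algebra.TensorProduct.includeLeft : C' →ₐ[A'] C' ⊗[A'] B').commutes x
  rw [h2] at h1
  have h3 : e ⊗ₜ[A'] y = (e ⊗ₜ[A'] (1 : B')) * ((1 : C') ⊗ₜ[A'] y) := by
    rw [Algebra.TensorProduct.tmul_mul_tmul, mul_one, one_mul]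
  rw [h3]
  exact Ideal.mul_mem_right _ _ h1

theorem one_tmul_mem_map (J : Ideal A') (e : B') (he : e ∈ J.map (algebraMap A' B')) (y : C') :
    y ⊗ₜ[A'] e ∈ J.map (algebraMap A' (C' ⊗[A'] B')) := by
  have h1 := Ideal.mem_map_of_mem
    (Algebra.TensorProduct.includeRight : B' →ₐ[A'] C' ⊗[A'] B').toRingHom he
  rw [Ideal.map_map] at h1
  have h2 : (Algebra.TensorProduct.includeRight : B' →ₐ[A'] C' ⊗[A'] B').toRingHom.comp
      (algebraMap A' B') = algebraMap A' (C' ⊗[A'] B') :=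
    RingHom.ext fun x => (Algebra.TensorProduct.includeRight : B' →ₐ[A'] C' ⊗[A'] B').commutes x
  rw [h2] at h1
  have h3 : y ⊗ₜ[A'] e = (y ⊗ₜ[A'] (1 : B')) * ((1 : C') ⊗ₜ[A'] e) := by
    rw [Algebra.TensorProduct.tmul_mul_tmul, mul_one, one_mul]
  rw [h3]
  exact Ideal.mul_mem_left _ _ h1

theorem algebraMap_tensor_eq_left (x : A') :
    algebraMap A' (C' ⊗[A'] B') x = (algebraMap A' C' x) ⊗ₜ[A'] (1 : B') :=
  Algebra.TensorProduct.algebraMap_apply x

theorem algebraMap_tensor_eq_right (x : A') :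
    algebraMap A' (C' ⊗[A'] B') x = (1 : C') ⊗ₜ[A'] (algebraMap A' B' x) :=
  ((Algebra.TensorProduct.includeRight : B' →ₐ[A'] C' ⊗[A'] B').commutes x).symm

theorem tensorBC_dense (K : Ideal A) (f : A)
    (hγd : ∀ (k : ℕ) (c' : C'), ∃ (c : C) (n : ℕ),
      c' * (algebraMap A' C' (a f)) ^ n - γ c ∈ ((K.map a) ^ k).map (algebraMap A' C'))
    (hβd : ∀ (k : ℕ) (b' : B'), ∃ (b : B) (n : ℕ),
      b' * (algebraMap A' B' (a f)) ^ n - β b ∈ ((K.map a) ^ k).map (algebraMap A' B'))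
    (k : ℕ) (t' : C' ⊗[A'] B') :
    ∃ (t : C ⊗[A] B) (n : ℕ),
      t' * (algebraMap A' (C' ⊗[A'] B') (a f)) ^ n - tensorBC a β γ hβ hγ t ∈
        ((K.map a) ^ k).map (algebraMap A' (C' ⊗[A'] B')) := by
  induction t' using TensorProduct.induction_on with
  | zero =>
    refine ⟨0, 0, ?_⟩
    rw [map_zero, zero_mul, sub_zero]
    exact Ideal.zero_mem _
  | tmul c' b' =>
    obtain ⟨c, n1, h1⟩ := hγd k c'
    obtain ⟨b, n2, h2⟩ := hβd k b'
    refine ⟨c ⊗ₜ b, n1 + n2, ?_⟩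
    rw [tensorBC_tmul]
    have e1 : (algebraMap A' (C' ⊗[A'] B') (a f)) ^ (n1 + n2) =
        ((algebraMap A' C' (a f)) ^ n1) ⊗ₜ[A'] ((algebraMap A' B' (a f)) ^ n2) := by
      rw [pow_add]
      nth_rewrite 1 [algebraMap_tensor_eq_left]
      rw [algebraMap_tensor_eq_right, Algebra.TensorProduct.tmul_pow,
        Algebra.TensorProduct.tmul_pow, Algebra.TensorProduct.tmul_mul_tmul, one_pow, one_pow,
        mul_one, one_mul]
    have e2 : c' ⊗ₜ[A'] b' * (algebraMap A' (C' ⊗[A'] B') (a f)) ^ (n1 + n2) - γ c ⊗ₜ[A'] β b =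
        (c' * (algebraMap A' C' (a f)) ^ n1 - γ c) ⊗ₜ[A'] (b' * (algebraMap A' B' (a f)) ^ n2) +
        (γ c) ⊗ₜ[A'] (b' * (algebraMap A' B' (a f)) ^ n2 - β b) := by
      rw [e1, Algebra.TensorProduct.tmul_mul_tmul, TensorProduct.sub_tmul, TensorProduct.tmul_sub]
      abel
    rw [e2]
    exact Ideal.add_mem _ (tmul_one_mem_map _ _ h1 _) (one_tmul_mem_map _ _ h2 _)
  | add x y hx hy =>
    obtain ⟨t1, n1, h1⟩ := hx
    obtain ⟨t2, n2, h2⟩ := hy
    refine ⟨t1 * (algebraMap A (C ⊗[A] B) f) ^ n2 + t2 * (algebraMap A (C ⊗[A] B) f) ^ n1,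
      n1 + n2, ?_⟩
    have e : (x + y) * (algebraMap A' (C' ⊗[A'] B') (a f)) ^ (n1 + n2) -
        tensorBC a β γ hβ hγ (t1 * (algebraMap A (C ⊗[A] B) f) ^ n2 +
          t2 * (algebraMap A (C ⊗[A] B) f) ^ n1) =
        (x * (algebraMap A' (C' ⊗[A'] B') (a f)) ^ n1 - tensorBC a β γ hβ hγ t1) *
          (algebraMap A' (C' ⊗[A'] B') (a f)) ^ n2 +
        (y * (algebraMap A' (C' ⊗[A'] B') (a f)) ^ n2 - tensorBC a β γ hβ hγ t2) *
          (algebraMap A' (C' ⊗[A'] B') (a f)) ^ n1 := by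
      rw [map_add, map_mul, map_mul, map_pow, map_pow, tensorBC_algebraMap, pow_add]
      ring
    rw [e]
    exact Ideal.add_mem _ (Ideal.mul_mem_right _ _ h1) (Ideal.mul_mem_right _ _ h2)

include hβ hγ hρB hρC in
theorem isDenseIso_baseChange (K : Ideal A) (f : A) (hu : IsUnit (a f))
    (hDI : IsDenseIso (K.map (algebraMap A (C ⊗[A] B))) (prodMap A B C R).toRingHom)
    (hγd : ∀ (k : ℕ) (c' : C'), ∃ (c : C) (n : ℕ),
      c' * (algebraMap A' C' (a f)) ^ n - γ c ∈ ((K.map a) ^ k).map (algebraMap A' C'))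
    (hβd : ∀ (k : ℕ) (b' : B'), ∃ (b : B) (n : ℕ),
      b' * (algebraMap A' B' (a f)) ^ n - β b ∈ ((K.map a) ^ k).map (algebraMap A' B'))
    (hρd : ∀ (k : ℕ) (r' : R'), ∃ (r : R) (n : ℕ),
      r' * (algebraMap A' R' (a f)) ^ n - ρ r ∈ ((K.map a) ^ k).map (algebraMap A' R'))
    (hρc : ∀ (k : ℕ) (r : R), ρ r ∈ ((K.map a) ^ k).map (algebraMap A' R') →
      ∃ m : ℕ, (algebraMap A R f) ^ m * r ∈ (K ^ k).map (algebraMap A R)) :
    IsDenseIso ((K.map a).map (algebraMap A' (C' ⊗[A'] B'))) (prodMap A' B' C' R').toRingHom := by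
  obtain ⟨v, hv⟩ := hu.exists_right_inv
  -- compatibility of `ρ` with the base maps
  have hρA : ∀ x : A, ρ (algebraMap A R x) = algebraMap A' R' (a x) := by
    intro x
    rw [IsScalarTower.algebraMap_apply A C R, hρC, hγ, ← IsScalarTower.algebraMap_apply]
  have hρK : ∀ (k : ℕ) (r : R), r ∈ (K ^ k).map (algebraMap A R) →
      ρ r ∈ ((K.map a) ^ k).map (algebraMap A' R') := by
    intro k r hr
    have h1 := Ideal.mem_map_of_mem ρ hr
    rw [Ideal.map_map] at h1
    have h2 : ρ.comp (algebraMap A R) = (algebraMap A' R').comp a := RingHom.ext hρA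
    rw [h2, ← Ideal.map_map, Ideal.map_pow] at h1
    exact h1
  have hαK : ∀ (k : ℕ) (t : C ⊗[A] B), t ∈ (K ^ k).map (algebraMap A (C ⊗[A] B)) →
      tensorBC a β γ hβ hγ t ∈ ((K.map a) ^ k).map (algebraMap A' (C' ⊗[A'] B')) := by
    intro k t ht
    have h1 := Ideal.mem_map_of_mem (tensorBC a β γ hβ hγ) ht
    rw [Ideal.map_map] at h1
    have h2 : (tensorBC a β γ hβ hγ).comp (algebraMap A (C ⊗[A] B)) =
        (algebraMap A' (C' ⊗[A'] B')).comp a := RingHom.ext (tensorBC_algebraMap a β γ hβ hγ)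
    rw [h2, ← Ideal.map_map, Ideal.map_pow] at h1
    exact h1
  have hvR : ∀ n : ℕ, (algebraMap A' R' (a f)) ^ n * (algebraMap A' R' v) ^ n = 1 := by
    intro n
    rw [← mul_pow, ← map_mul, hv, map_one, one_pow]
  have hvT : ∀ n : ℕ, (algebraMap A' (C' ⊗[A'] B') (a f)) ^ n *
      (algebraMap A' (C' ⊗[A'] B') v) ^ n = 1 := by
    intro n
    rw [← mul_pow, ← map_mul, hv, map_one, one_pow]
  constructor
  · intro k r'
    obtain ⟨r, n, hr⟩ := hρd k r'
    obtain ⟨t, ht⟩ := hDI.dense k r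
    rw [map_pow_prodMap'] at ht
    have ht' : r - prodMap A B C R t ∈ (K ^ k).map (algebraMap A R) := ht
    refine ⟨tensorBC a β γ hβ hγ t * (algebraMap A' (C' ⊗[A'] B') v) ^ n, ?_⟩
    rw [map_pow_prodMap']
    change r' - prodMap A' B' C' R' (tensorBC a β γ hβ hγ t *
      (algebraMap A' (C' ⊗[A'] B') v) ^ n) ∈ _
    rw [map_mul, map_pow, prodMap_algebraMap', prodMap_tensorBC a β γ ρ hβ hγ hρB hρC]
    have e : r' - ρ (prodMap A B C R t) * (algebraMap A' R' v) ^ n =
        (r' * (algebraMap A' R' (a f)) ^ n - ρ r) * (algebraMap A' R' v) ^ n +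
        ρ (r - prodMap A B C R t) * (algebraMap A' R' v) ^ n := by
      rw [map_sub]
      have : r' = r' * ((algebraMap A' R' (a f)) ^ n * (algebraMap A' R' v) ^ n) := by
        rw [hvR, mul_one]
      nth_rewrite 1 [this]
      ring
    rw [e]
    exact Ideal.add_mem _ (Ideal.mul_mem_right _ _ hr)
      (Ideal.mul_mem_right _ _ (hρK k _ ht'))
  · intro k t' ht'
    rw [map_pow_prodMap'] at ht'
    have ht'' : prodMap A' B' C' R' t' ∈ ((K.map a) ^ k).map (algebraMap A' R') := ht'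
    rw [← Ideal.map_pow]
    obtain ⟨t, n, htn⟩ := tensorBC_dense a β γ hβ hγ K f hγd hβd k t'
    -- `ρ (φ t)` lies in the ideal
    have h1 : prodMap A' B' C' R' (t' * (algebraMap A' (C' ⊗[A'] B') (a f)) ^ n -
        tensorBC a β γ hβ hγ t) ∈ ((K.map a) ^ k).map (algebraMap A' R') := by
      have h2 := Ideal.mem_map_of_mem (prodMap A' B' C' R').toRingHom htn
      rw [Ideal.map_map, prodMap_comp_algebraMap'] at h2
      exact h2
    rw [map_sub, map_mul, prodMap_tensorBC a β γ ρ hβ hγ hρB hρC] at h1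
    have h3 : ρ (prodMap A B C R t) ∈ ((K.map a) ^ k).map (algebraMap A' R') := by
      have : ρ (prodMap A B C R t) = prodMap A' B' C' R' t' *
          prodMap A' B' C' R' ((algebraMap A' (C' ⊗[A'] B') (a f)) ^ n) -
          (prodMap A' B' C' R' t' * prodMap A' B' C' R' ((algebraMap A' (C' ⊗[A'] B') (a f)) ^ n) -
            ρ (prodMap A B C R t)) := by ring
      rw [this]
      exact Ideal.sub_mem _ (Ideal.mul_mem_right _ _ ht'') h1
    obtain ⟨m, hm⟩ := hρc k _ h3
    have h4 : (prodMap A B C R).toRingHom ((algebraMap A (C ⊗[A] B) f) ^ m * t) ∈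
        ((K.map (algebraMap A (C ⊗[A] B))) ^ k).map (prodMap A B C R).toRingHom := by
      rw [map_pow_prodMap']
      change prodMap A B C R ((algebraMap A (C ⊗[A] B) f) ^ m * t) ∈ _
      rw [map_mul, map_pow, prodMap_algebraMap']
      exact hm
    have h5 := hDI.closed k _ h4
    rw [← Ideal.map_pow] at h5
    have h6 := hαK k _ h5
    rw [map_mul, map_pow, tensorBC_algebraMap] at h6
    have h7 : tensorBC a β γ hβ hγ t ∈ ((K.map a) ^ k).map (algebraMap A' (C' ⊗[A'] B')) := by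
      have : tensorBC a β γ hβ hγ t = (algebraMap A' (C' ⊗[A'] B') v) ^ m *
          ((algebraMap A' (C' ⊗[A'] B') (a f)) ^ m * tensorBC a β γ hβ hγ t) := by
        rw [← mul_assoc, mul_comm ((algebraMap A' (C' ⊗[A'] B') v) ^ m), hvT, one_mul]
      rw [this]
      exact Ideal.mul_mem_left _ _ h6
    have h8 : t' * (algebraMap A' (C' ⊗[A'] B') (a f)) ^ n ∈
        ((K.map a) ^ k).map (algebraMap A' (C' ⊗[A'] B')) := by
      have : t' * (algebraMap A' (C' ⊗[A'] B') (a f)) ^ n =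
          (t' * (algebraMap A' (C' ⊗[A'] B') (a f)) ^ n - tensorBC a β γ hβ hγ t) +
          tensorBC a β γ hβ hγ t := by ring
      rw [this]
      exact Ideal.add_mem _ htn h7
    have h9 : t' = (t' * (algebraMap A' (C' ⊗[A'] B') (a f)) ^ n) *
        (algebraMap A' (C' ⊗[A'] B') v) ^ n := by
      rw [mul_assoc, hvT, mul_one]
    rw [h9]
    exact Ideal.mul_mem_right _ _ h8

end BaseChange

end Groth.Agent.Lib.Helper15.RigBC
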