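import Mathlib
import Groth.Agent.Lib.Helper15.RigBC7

/-!
# Base change of the dense-iso property, general form; finite type lemmas (helper15)
-/

set_option autoImplicit false
set_option linter.style.haveILetI false
set_option linter.unusedSectionVars false
set_option linter.style.longLine false

universe u

open TensorProduct

namespace Groth.Agent.Lib.Helper15.RigBC

section BaseChange
variable {A B C R : Type u} [CommRing A] [CommRing B] [CommRing C] [CommRing R]
  [Algebra A B] [Algebra A C] [Algebra A R] [Algebra B R] [Algebra C R]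
  [IsScalarTower A B R] [IsScalarTower A C R]
  {A' B' C' R' : Type u} [CommRing A'] [CommRing B'] [CommRing C'] [CommRing R']
  [Algebra A' B'] [Algebra A' C'] [Algebra A' R'] [Algebra B' R'] [Algebra C' R']
  [IsScalarTower A' B' R'] [IsScalarTower A' C' R']
  (a : A →+* A') (β : B →+* B') (γ : C →+* C') (ρ : R →+* R')
  (hβ : ∀ x, β (algebraMap A B x) = algebraMap A' B' (a x))
  (hγ : ∀ x, γ (algebraMap A C x) = algebraMap A' C' (a x))
  (hρB : ∀ b, ρ (algebraMap B R b) = algebraMap B' R' (β b))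
  (hρC : ∀ c, ρ (algebraMap C R c) = algebraMap C' R' (γ c))

theorem tensorBC_dense_left (K : Ideal A) (h : C)
    (hγd : ∀ (k : ℕ) (c' : C'), ∃ (c : C) (n : ℕ),
      c' * (γ h) ^ n - γ c ∈ ((K.map a) ^ k).map (algebraMap A' C'))
    (hβs : Function.Surjective β)
    (k : ℕ) (t' : C' ⊗[A'] B') :
    ∃ (t : C ⊗[A] B) (n : ℕ),
      t' * (tensorBC a β γ hβ hγ (algebraMap C (C ⊗[A] B) h)) ^ n - tensorBC a β γ hβ hγ t ∈
        ((K.map a) ^ k).map (algebraMap A' (C' ⊗[A'] B')) := by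
  have hu : tensorBC a β γ hβ hγ (algebraMap C (C ⊗[A] B) h) = (γ h) ⊗ₜ[A'] (1 : B') := by
    rw [Algebra.TensorProduct.algebraMap_apply, tensorBC_tmul, map_one]
    rfl
  induction t' using TensorProduct.induction_on with
  | zero =>
    refine ⟨0, 0, ?_⟩
    rw [map_zero, zero_mul, sub_zero]
    exact Ideal.zero_mem _
  | tmul c' b' =>
    obtain ⟨c, n, h1⟩ := hγd k c'
    obtain ⟨b, rfl⟩ := hβs b'
    refine ⟨c ⊗ₜ b, n, ?_⟩
    rw [tensorBC_tmul, hu, Algebra.TensorProduct.tmul_pow, Algebra.TensorProduct.tmul_mul_tmul,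
      one_pow, mul_one, ← TensorProduct.sub_tmul]
    exact tmul_one_mem_map _ _ h1 _
  | add x y hx hy =>
    obtain ⟨t1, n1, h1⟩ := hx
    obtain ⟨t2, n2, h2⟩ := hy
    refine ⟨t1 * (algebraMap C (C ⊗[A] B) h) ^ n2 + t2 * (algebraMap C (C ⊗[A] B) h) ^ n1,
      n1 + n2, ?_⟩
    have e : (x + y) * (tensorBC a β γ hβ hγ (algebraMap C (C ⊗[A] B) h)) ^ (n1 + n2) -
        tensorBC a β γ hβ hγ (t1 * (algebraMap C (C ⊗[A] B) h) ^ n2 +
          t2 * (algebraMap C (C ⊗[A] B) h) ^ n1) =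
        (x * (tensorBC a β γ hβ hγ (algebraMap C (C ⊗[A] B) h)) ^ n1 - tensorBC a β γ hβ hγ t1) *
          (tensorBC a β γ hβ hγ (algebraMap C (C ⊗[A] B) h)) ^ n2 +
        (y * (tensorBC a β γ hβ hγ (algebraMap C (C ⊗[A] B) h)) ^ n2 - tensorBC a β γ hβ hγ t2) *
          (tensorBC a β γ hβ hγ (algebraMap C (C ⊗[A] B) h)) ^ n1 := by
      rw [map_add, map_mul, map_mul, map_pow, map_pow, pow_add]
      ring
    rw [e]
    exact Ideal.add_mem _ (Ideal.mul_mem_right _ _ h1) (Ideal.mul_mem_right _ _ h2)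

include hβ hγ hρB hρC in
theorem isDenseIso_baseChange_gen (K : Ideal A) (t0 : C ⊗[A] B)
    (hu : IsUnit (tensorBC a β γ hβ hγ t0))
    (hDI : IsDenseIso (K.map (algebraMap A (C ⊗[A] B))) (prodMap A B C R).toRingHom)
    (hTd : ∀ (k : ℕ) (t' : C' ⊗[A'] B'), ∃ (t : C ⊗[A] B) (n : ℕ),
      t' * (tensorBC a β γ hβ hγ t0) ^ n - tensorBC a β γ hβ hγ t ∈
        ((K.map a) ^ k).map (algebraMap A' (C' ⊗[A'] B')))
    (hρd : ∀ (k : ℕ) (r' : R'), ∃ (r : R) (n : ℕ),
      r' * (ρ (prodMap A B C R t0)) ^ n - ρ r ∈ ((K.map a) ^ k).map (algebraMap A' R'))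
    (hρc : ∀ (k : ℕ) (r : R), ρ r ∈ ((K.map a) ^ k).map (algebraMap A' R') →
      ∃ m : ℕ, (prodMap A B C R t0) ^ m * r ∈ (K ^ k).map (algebraMap A R)) :
    IsDenseIso ((K.map a).map (algebraMap A' (C' ⊗[A'] B'))) (prodMap A' B' C' R').toRingHom := by
  obtain ⟨v, hv⟩ := hu.exists_right_inv
  -- compatibility of `ρ` with the base maps
  have hρA : ∀ x : A, ρ (algebraMap A R x) = algebraMap A' R' (a x) := by
    intro x
    rw [IsScalarTower.algebraMap_apply A C R, hρC, hγ, ← IsScalarTower.algebraMap_apply]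
  have hρK : ∀ (k : ℕ) (r : R), r ∈ (K ^ k).map (algebraMap A R) →
      ρ r ∈ ((K.map a) ^ k).map (algebraMap A' R') := by
    intro k r hr
    have h1 := Ideal.mem_map_of_mem ρ hr
    rw [Ideal.map_map] at h1
    have h2 : ρ.comp (algebraMap A R) = (algebraMap A' R').comp a := RingHom.ext hρA
    rw [h2, ← Ideal.map_map, Ideal.map_pow] at h1
    exact h1
  have hαK : ∀ (k : ℕ) (t : C ⊗[A] B), t ∈ (K ^ k).map (algebraMap A (C ⊗[A] B)) →
      tensorBC a β γ hβ hγ t ∈ ((K.map a) ^ k).map (algebraMap A' (C' ⊗[A'] B')) := by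
    intro k t ht
    have h1 := Ideal.mem_map_of_mem (tensorBC a β γ hβ hγ) ht
    rw [Ideal.map_map] at h1
    have h2 : (tensorBC a β γ hβ hγ).comp (algebraMap A (C ⊗[A] B)) =
        (algebraMap A' (C' ⊗[A'] B')).comp a := RingHom.ext (tensorBC_algebraMap a β γ hβ hγ)
    rw [h2, ← Ideal.map_map, Ideal.map_pow] at h1
    exact h1
  have hφu : ρ (prodMap A B C R t0) = prodMap A' B' C' R' (tensorBC a β γ hβ hγ t0) :=
    (prodMap_tensorBC a β γ ρ hβ hγ hρB hρC t0).symm
  have hvR : ∀ n : ℕ, (ρ (prodMap A B C R t0)) ^ n * (prodMap A' B' C' R' v) ^ n = 1 := by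
    intro n
    rw [hφu, ← mul_pow, ← map_mul, hv, map_one, one_pow]
  have hvT : ∀ n : ℕ, (tensorBC a β γ hβ hγ t0) ^ n * v ^ n = 1 := by
    intro n
    rw [← mul_pow, hv, one_pow]
  constructor
  · intro k r'
    obtain ⟨r, n, hr⟩ := hρd k r'
    obtain ⟨t, ht⟩ := hDI.dense k r
    rw [map_pow_prodMap'] at ht
    have ht' : r - prodMap A B C R t ∈ (K ^ k).map (algebraMap A R) := ht
    refine ⟨tensorBC a β γ hβ hγ t * v ^ n, ?_⟩
    rw [map_pow_prodMap']
    change r' - prodMap A' B' C' R' (tensorBC a β γ hβ hγ t * v ^ n) ∈ _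
    rw [map_mul, map_pow, prodMap_tensorBC a β γ ρ hβ hγ hρB hρC]
    have e : r' - ρ (prodMap A B C R t) * (prodMap A' B' C' R' v) ^ n =
        (r' * (ρ (prodMap A B C R t0)) ^ n - ρ r) * (prodMap A' B' C' R' v) ^ n +
        ρ (r - prodMap A B C R t) * (prodMap A' B' C' R' v) ^ n := by
      rw [map_sub]
      have : r' = r' * ((ρ (prodMap A B C R t0)) ^ n * (prodMap A' B' C' R' v) ^ n) := by
        rw [hvR, mul_one]
      nth_rewrite 1 [this]
      ring
    rw [e]
    exact Ideal.add_mem _ (Ideal.mul_mem_right _ _ hr)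
      (Ideal.mul_mem_right _ _ (hρK k _ ht'))
  · intro k t' ht'
    rw [map_pow_prodMap'] at ht'
    have ht'' : prodMap A' B' C' R' t' ∈ ((K.map a) ^ k).map (algebraMap A' R') := ht'
    rw [← Ideal.map_pow]
    obtain ⟨t, n, htn⟩ := hTd k t'
    -- `ρ (φ t)` lies in the ideal
    have h1 : prodMap A' B' C' R' (t' * (tensorBC a β γ hβ hγ t0) ^ n -
        tensorBC a β γ hβ hγ t) ∈ ((K.map a) ^ k).map (algebraMap A' R') := by
      have h2 := Ideal.mem_map_of_mem (prodMap A' B' C' R').toRingHom htn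
      rw [Ideal.map_map, prodMap_comp_algebraMap'] at h2
      exact h2
    rw [map_sub, map_mul, prodMap_tensorBC a β γ ρ hβ hγ hρB hρC] at h1
    have h3 : ρ (prodMap A B C R t) ∈ ((K.map a) ^ k).map (algebraMap A' R') := by
      have : ρ (prodMap A B C R t) = prodMap A' B' C' R' t' *
          prodMap A' B' C' R' ((tensorBC a β γ hβ hγ t0) ^ n) -
          (prodMap A' B' C' R' t' * prodMap A' B' C' R' ((tensorBC a β γ hβ hγ t0) ^ n) -
            ρ (prodMap A B C R t)) := by ring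
      rw [this]
      exact Ideal.sub_mem _ (Ideal.mul_mem_right _ _ ht'') h1
    obtain ⟨m, hm⟩ := hρc k _ h3
    have h4 : (prodMap A B C R).toRingHom (t0 ^ m * t) ∈
        ((K.map (algebraMap A (C ⊗[A] B))) ^ k).map (prodMap A B C R).toRingHom := by
      rw [map_pow_prodMap']
      change prodMap A B C R (t0 ^ m * t) ∈ _
      rw [map_mul, map_pow]
      exact hm
    have h5 := hDI.closed k _ h4
    rw [← Ideal.map_pow] at h5
    have h6 := hαK k _ h5
    rw [map_mul, map_pow] at h6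
    have h7 : tensorBC a β γ hβ hγ t ∈ ((K.map a) ^ k).map (algebraMap A' (C' ⊗[A'] B')) := by
      have : tensorBC a β γ hβ hγ t = v ^ m *
          ((tensorBC a β γ hβ hγ t0) ^ m * tensorBC a β γ hβ hγ t) := by
        rw [← mul_assoc, mul_comm (v ^ m), hvT, one_mul]
      rw [this]
      exact Ideal.mul_mem_left _ _ h6
    have h8 : t' * (tensorBC a β γ hβ hγ t0) ^ n ∈
        ((K.map a) ^ k).map (algebraMap A' (C' ⊗[A'] B')) := by
      have : t' * (tensorBC a β γ hβ hγ t0) ^ n =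
          (t' * (tensorBC a β γ hβ hγ t0) ^ n - tensorBC a β γ hβ hγ t) +
          tensorBC a β γ hβ hγ t := by ring
      rw [this]
      exact Ideal.add_mem _ htn h7
    have h9 : t' = (t' * (tensorBC a β γ hβ hγ t0) ^ n) * v ^ n := by
      rw [mul_assoc, hvT, mul_one]
    rw [h9]
    exact Ideal.mul_mem_right _ _ h8

end BaseChange

section FiniteType

variable {A : Type u} [CommRing A] {X : Type u} [CommRing X] [Algebra A X]

/-- finite type of the reduction of a completion. -/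
theorem finiteType_quotient_cpl (JX : Ideal X) (hJX : JX.FG)
    (hft : Algebra.FiniteType A (X ⧸ JX)) :
    Algebra.FiniteType A (AdicCompletion JX X ⧸ JX.map (algebraMap X (AdicCompletion JX X))) := by
  let g : (X ⧸ JX) →ₐ[A] (AdicCompletion JX X ⧸ JX.map (algebraMap X (AdicCompletion JX X))) :=
    Ideal.quotientMapₐ (JX.map (algebraMap X (AdicCompletion JX X)))
      (IsScalarTower.toAlgHom A X (AdicCompletion JX X)) Ideal.le_comap_map
  have hg : Function.Surjective g := by
    intro w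
    obtain ⟨x', rfl⟩ := Ideal.Quotient.mk_surjective w
    obtain ⟨t, ht⟩ := (isDenseIso_of JX hJX).dense 1 x'
    rw [pow_one] at ht
    refine ⟨Ideal.Quotient.mk JX t, ?_⟩
    change Ideal.Quotient.mk _ (algebraMap X (AdicCompletion JX X) t) = _
    exact (Ideal.Quotient.eq.mpr ht).symm
  exact Algebra.FiniteType.of_surjective g hg

/-- finite type of the reduction of a completed principal localization. -/
theorem finiteType_quotient_CL (JX : Ideal X) (hJX : JX.FG) (x : X)
    (hft : Algebra.FiniteType A (X ⧸ JX)) :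
    Algebra.FiniteType A (CL JX x ⧸ JX.map (algebraMap X (CL JX x))) := by
  obtain ⟨v, hv⟩ := (isUnit_toCL JX x).exists_right_inv
  let g0 : (X ⧸ JX) →ₐ[A] (CL JX x ⧸ JX.map (algebraMap X (CL JX x))) :=
    Ideal.quotientMapₐ (JX.map (algebraMap X (CL JX x)))
      (IsScalarTower.toAlgHom A X (CL JX x)) Ideal.le_comap_map
  let G : Polynomial (X ⧸ JX) →ₐ[A] (CL JX x ⧸ JX.map (algebraMap X (CL JX x))) :=
    Polynomial.eval₂AlgHom g0 (Ideal.Quotient.mk _ v) (fun _ => Commute.all _ _)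
  have hG : Function.Surjective G := by
    intro w
    obtain ⟨x', rfl⟩ := Ideal.Quotient.mk_surjective w
    obtain ⟨t, n, ht⟩ := toCL_dense JX hJX x 1 x'
    rw [pow_one, toCL_eq_algebraMap] at ht
    refine ⟨Polynomial.C (Ideal.Quotient.mk JX t) * Polynomial.X ^ n, ?_⟩
    change Polynomial.eval₂ (g0 : (X ⧸ JX) →+* (CL JX x ⧸ JX.map (algebraMap X (CL JX x))))
      (Ideal.Quotient.mk _ v) _ = _
    rw [Polynomial.eval₂_mul, Polynomial.eval₂_C, Polynomial.eval₂_pow, Polynomial.eval₂_X]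
    change Ideal.Quotient.mk _ (algebraMap X (CL JX x) t) * _ = _
    rw [← map_pow, ← map_mul]
    apply (Ideal.Quotient.eq.mpr _).symm
    have e : x' - algebraMap X (CL JX x) t * v ^ n =
        (x' * (algebraMap X (CL JX x) x) ^ n - algebraMap X (CL JX x) t) * v ^ n := by
      have h1 : (algebraMap X (CL JX x) x) ^ n * v ^ n = 1 := by
        rw [← mul_pow, ← toCL_eq_algebraMap, hv, one_pow]
      have h2 : x' = x' * ((algebraMap X (CL JX x) x) ^ n * v ^ n) := by rw [h1, mul_one]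
      nth_rewrite 1 [h2]
      ring
    rw [e]
    exact Ideal.mul_mem_right _ _ ht
  exact Algebra.FiniteType.of_surjective G hG

end FiniteType

end Groth.Agent.Lib.Helper15.RigBC
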