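import Mathlib
import Groth.Agent.S3866
import Groth.Agent.S8822
import Groth.Agent.S8829
import Groth.Agent.Lib.Helper15.RigClosed

/-!
# Finiteness of the quotient by a rig-closed prime after completed localization (helper15)
-/

set_option autoImplicit false
set_option linter.style.haveILetI false
set_option linter.unusedSectionVars false

universe u

namespace Groth.Agent.Lib.Helper15.RigBC

section
variable (A : Type u) [CommRing A] [IsNoetherianRing A] (I : Ideal A) [IsAdicComplete I A]
  (B : Type u) [CommRing B] [Algebra A B] [IsNoetherianRing B]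
  [IsAdicComplete (I.map (algebraMap A B)) B]
  (hft : Algebra.FiniteType A (B ⧸ (I.map (algebraMap A B))))
  (q : PrimeSpectrum B)
  (hq : ¬ (I.map (algebraMap A B)) ≤ q.asIdeal ∧
    ∀ y : PrimeSpectrum B, q ≤ y → ¬ (I.map (algebraMap A B)) ≤ y.asIdeal → y = q)
  (A1 : Type u) [CommRing A1] [Algebra A A1] [IsNoetherianRing A1]
  [IsAdicComplete (I.map (algebraMap A A1)) A1]
  (B1 : Type u) [CommRing B1] [Algebra A B1] [Algebra B B1] [Algebra A1 B1]
  [IsScalarTower A B B1] [IsScalarTower A A1 B1] [IsNoetherianRing B1]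
  [IsAdicComplete (I.map (algebraMap A B1)) B1]
  (f : A) (hf1 : IsUnit (algebraMap A A1 f))
  [hQprime : (q.asIdeal.map (algebraMap B B1)).IsPrime]
  (hbij : Function.Bijective (Ideal.quotientMap (q.asIdeal.map (algebraMap B B1))
    (algebraMap B B1) Ideal.le_comap_map))
  (hint : ∀ m0 : Ideal B, m0.IsMaximal → q.asIdeal ≤ m0 → ∀ x : B ⧸ m0,
      ∃ k : ℕ, IsIntegral A (algebraMap A (B ⧸ m0) f ^ k * x))

include hft hq hf1 hbij hint in
theorem finite_quotient_map :
    Module.Finite A1 (B1 ⧸ (q.asIdeal.map (algebraMap B B1))) := by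
  set Q : Ideal B1 := q.asIdeal.map (algebraMap B B1) with hQ
  set IK : Ideal A1 := I.map (algebraMap A A1) with hIK
  -- the quotient
  let B' := B1 ⧸ Q
  have hdom : IsDomain B' := Ideal.Quotient.isDomain Q
  let πa : B →ₐ[A] B' := (Ideal.Quotient.mkₐ A Q).comp (IsScalarTower.toAlgHom A B B1)
  let π : B →+* B' := πa.toRingHom
  have hπapply : ∀ b, π b = Ideal.Quotient.mk Q (algebraMap B B1 b) := fun b => rfl
  have hπsurj : Function.Surjective π := by
    intro z
    obtain ⟨c, rfl⟩ := hbij.2 z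
    obtain ⟨b, rfl⟩ := Ideal.Quotient.mk_surjective c
    exact ⟨b, rfl⟩
  have hπker : RingHom.ker π = q.asIdeal := by
    ext b
    rw [RingHom.mem_ker]
    constructor
    · intro hb
      have h1 : Ideal.quotientMap Q (algebraMap B B1) Ideal.le_comap_map
          (Ideal.Quotient.mk q.asIdeal b) = 0 := hb
      have h2 := hbij.1 (h1.trans (map_zero _).symm)
      exact Ideal.Quotient.eq_zero_iff_mem.mp h2
    · intro hb
      rw [hπapply]
      exact Ideal.Quotient.eq_zero_iff_mem.mpr (Ideal.mem_map_of_mem _ hb)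
  -- the ideals
  have hK'1 : IK.map (algebraMap A1 B') = I.map (algebraMap A B') := by
    rw [hIK, Ideal.map_map, ← IsScalarTower.algebraMap_eq]
  have hK'2 : (I.map (algebraMap A B)).map π = I.map (algebraMap A B') := by
    rw [Ideal.map_map]
    congr 1
    ext a
    exact πa.commutes a
  have hK'3 : (I.map (algebraMap A B1)).map (algebraMap B1 B') = I.map (algebraMap A B') := by
    rw [Ideal.map_map, ← IsScalarTower.algebraMap_eq]
  -- completeness
  have hcomp : IsAdicComplete (IK.map (algebraMap A1 B')) B' := by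
    rw [hK'1, ← hK'3]
    have h1 : IsAdicComplete (I.map (algebraMap A B1)) B' :=
      Groth.Agent.S3866.result B1 (I.map (algebraMap A B1)) B'
    exact (IsAdicComplete.map_algebraMap_iff (R := B1) (S := B') (I.map (algebraMap A B1)) B').mpr h1
  -- finite type
  have hft' : Algebra.FiniteType A1 (B' ⧸ IK.map (algebraMap A1 B')) := by
    have hA : Algebra.FiniteType A (B' ⧸ IK.map (algebraMap A1 B')) := by
      let φ : B →ₐ[A] (B' ⧸ IK.map (algebraMap A1 B')) :=
        (Ideal.Quotient.mkₐ A _).comp πa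
      have hφsurj : Function.Surjective φ :=
        (Ideal.Quotient.mkₐ_surjective A _).comp hπsurj
      have hφker : ∀ x ∈ I.map (algebraMap A B), φ x = 0 := by
        intro x hx
        change Ideal.Quotient.mk _ (π x) = 0
        rw [Ideal.Quotient.eq_zero_iff_mem, hK'1, ← hK'2]
        exact Ideal.mem_map_of_mem _ hx
      let φ' : (B ⧸ I.map (algebraMap A B)) →ₐ[A] (B' ⧸ IK.map (algebraMap A1 B')) :=
        Ideal.Quotient.liftₐ _ φ hφker
      have hφ'surj : Function.Surjective φ' := by
        intro z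
        obtain ⟨b, rfl⟩ := hφsurj z
        exact ⟨Ideal.Quotient.mk _ b, rfl⟩
      exact Algebra.FiniteType.of_surjective φ' hφ'surj
    exact Algebra.FiniteType.of_restrictScalars_finiteType A A1 _
  -- `⊥` is rig-closed in `B'`
  have hq' : ¬ IK.map (algebraMap A1 B') ≤ (⟨⊥, Ideal.isPrime_bot⟩ : PrimeSpectrum B').asIdeal ∧
      ∀ y : PrimeSpectrum B', (⟨⊥, Ideal.isPrime_bot⟩ : PrimeSpectrum B') ≤ y →
        ¬ IK.map (algebraMap A1 B') ≤ y.asIdeal → y = ⟨⊥, Ideal.isPrime_bot⟩ := by
    rw [hK'1, ← hK'2]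
    constructor
    · intro hle
      change (I.map (algebraMap A B)).map π ≤ ⊥ at hle
      rw [le_bot_iff, Ideal.map_eq_bot_iff_le_ker, hπker] at hle
      exact hq.1 hle
    · intro y _ hy
      have hy0p : (y.asIdeal.comap π).IsPrime := inferInstance
      have hqy0 : q ≤ ⟨y.asIdeal.comap π, hy0p⟩ := by
        rw [← PrimeSpectrum.asIdeal_le_asIdeal]
        change q.asIdeal ≤ y.asIdeal.comap π
        rw [← hπker]
        exact Ideal.ker_le_comap π
      have hKy0 : ¬ I.map (algebraMap A B) ≤ y.asIdeal.comap π := by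
        intro hle
        apply hy
        rw [Ideal.map_le_iff_le_comap]
        exact hle
      have heq := hq.2 ⟨y.asIdeal.comap π, hy0p⟩ hqy0 hKy0
      have heq' : y.asIdeal.comap π = q.asIdeal := congrArg PrimeSpectrum.asIdeal heq
      apply PrimeSpectrum.ext
      change y.asIdeal = ⊥
      rw [eq_bot_iff]
      intro z hz
      obtain ⟨b, rfl⟩ := hπsurj z
      have hb : b ∈ y.asIdeal.comap π := hz
      rw [heq', ← hπker] at hb
      exact hb
  have htfae := Groth.Agent.S8829.result A1 IK B' hft' ⟨⊥, Ideal.isPrime_bot⟩ hq'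
  have hfin : ∀ m' : Ideal B', m'.IsMaximal →
      (⟨⊥, Ideal.isPrime_bot⟩ : PrimeSpectrum B').asIdeal ≤ m' → Module.Finite A1 (B' ⧸ m') := by
    intro m' hm' _
    have hm0 : (m'.comap π).IsMaximal := Ideal.comap_isMaximal_of_surjective π hπsurj
    have hqm0 : q.asIdeal ≤ m'.comap π := by
      rw [← hπker]
      exact Ideal.ker_le_comap π
    have hKm0 : I.map (algebraMap A B) ≤ m'.comap π := by
      have h1 : I.map (algebraMap A B) ≤ (⊥ : Ideal B).jacobson := IsAdicComplete.le_jacobson_bot _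
      exact h1.trans (sInf_le ⟨bot_le, hm0⟩)
    have hftm0 : Algebra.FiniteType A (B ⧸ m'.comap π) :=
      Algebra.FiniteType.of_surjective (Ideal.Quotient.factorₐ A hKm0)
        (Ideal.Quotient.factor_surjective hKm0)
    let g : (B ⧸ m'.comap π) →ₐ[A] (B' ⧸ m') := Ideal.quotientMapₐ m' πa le_rfl
    have hg : Function.Surjective g := by
      intro z
      obtain ⟨c, rfl⟩ := Ideal.Quotient.mk_surjective z
      obtain ⟨b, rfl⟩ := hπsurj c
      exact ⟨Ideal.Quotient.mk _ b, rfl⟩
    have hftA : Algebra.FiniteType A (B' ⧸ m') := Algebra.FiniteType.of_surjective g hg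
    have hftA1 : Algebra.FiniteType A1 (B' ⧸ m') :=
      Algebra.FiniteType.of_restrictScalars_finiteType A A1 _
    have hint' : Algebra.IsIntegral A1 (B' ⧸ m') := by
      refine ⟨fun x' => ?_⟩
      obtain ⟨x, rfl⟩ := hg x'
      obtain ⟨k, hk⟩ := hint (m'.comap π) hm0 hqm0 x
      have h1 : IsIntegral A (g (algebraMap A (B ⧸ m'.comap π) f ^ k * x)) := hk.map g
      rw [map_mul, map_pow, AlgHom.commutes] at h1
      have h2 : IsIntegral A1 (algebraMap A (B' ⧸ m') f ^ k * g x) := h1.tower_top
      have h3 : g x = algebraMap A1 (B' ⧸ m') ((↑(hf1.unit⁻¹) : A1) ^ k) *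
          (algebraMap A (B' ⧸ m') f ^ k * g x) := by
        rw [IsScalarTower.algebraMap_apply A A1 (B' ⧸ m'), ← map_pow, ← mul_assoc, ← map_mul,
          ← mul_pow]
        have : (↑(hf1.unit⁻¹) : A1) * algebraMap A A1 f = 1 := by
          have := hf1.unit.inv_mul
          simpa using this
        rw [this, one_pow, map_one, one_mul]
      rw [h3]
      exact isIntegral_algebraMap.mul h2
    exact Algebra.IsIntegral.finite
  have hfin3 : Module.Finite A1 (B' ⧸ (⟨⊥, Ideal.isPrime_bot⟩ : PrimeSpectrum B').asIdeal) :=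
    (htfae.out 0 2).mp hfin
  have hfin3' : Module.Finite A1 (B' ⧸ (⊥ : Ideal B')) := hfin3
  let e : (B' ⧸ (⊥ : Ideal B')) ≃ₗ[A1] B' :=
    ((AlgEquiv.quotientBot A1 B').toLinearEquiv)
  exact Module.Finite.equiv e

end

end Groth.Agent.Lib.Helper15.RigBC
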