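import Mathlib
import Groth.Agent.Lib.Helper9.FlatCrit
import Groth.Agent.Lib.Helper15.RigComp1

/-!
# Abstract descent lemma for rig-flatness (helper15)
-/

set_option autoImplicit false
set_option linter.style.haveILetI false
set_option linter.unusedSectionVars false

universe u

namespace Groth.Agent.Lib.Helper15.RigDesc

open Groth.Agent.Lib.Helper15.RigComp

/-- flat descent along a flat local homomorphism of local rings. -/
theorem flat_descent_local {X Y Y' : Type*} [CommRing X] [CommRing Y] [CommRing Y']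
    (ψ : X →+* Y) (αY : Y →+* Y') (hαY : αY.Flat)
    (q : Ideal Y) [q.IsPrime] (q' : Ideal Y') [q'.IsPrime] (hqq' : q = q'.comap αY)
    (hfl : ((algebraMap Y' (Localization.AtPrime q')).comp (αY.comp ψ)).Flat) :
    ((algebraMap Y (Localization.AtPrime q)).comp ψ).Flat := by
  let Yq := Localization.AtPrime q
  let Yq' := Localization.AtPrime q'
  letI algYY' : Algebra Y Y' := αY.toAlgebra
  letI algXYq : Algebra X Yq := ((algebraMap Y Yq).comp ψ).toAlgebra
  letI algXYq' : Algebra X Yq' := ((algebraMap Y' Yq').comp (αY.comp ψ)).toAlgebra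
  letI algYqYq' : Algebra Yq Yq' := (Localization.localRingHom q q' αY hqq').toAlgebra
  have hloc : IsLocalHom (algebraMap Yq Yq') := Localization.isLocalHom_localRingHom q q' αY hqq'
  have htow0 : IsScalarTower Y Y' Yq' := inferInstance
  have htow1 : IsScalarTower Y Yq Yq' := by
    refine IsScalarTower.of_algebraMap_eq fun y => ?_
    rw [IsScalarTower.algebraMap_apply Y Y' Yq']
    change algebraMap Y' Yq' (αY y) = Localization.localRingHom q q' αY hqq' (algebraMap Y Yq y)
    rw [Localization.localRingHom_to_map]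
  have htow2 : IsScalarTower X Yq Yq' := by
    refine IsScalarTower.of_algebraMap_eq fun x => ?_
    change algebraMap Y' Yq' (αY (ψ x)) =
      Localization.localRingHom q q' αY hqq' (algebraMap Y Yq (ψ x))
    rw [Localization.localRingHom_to_map]
  have hflat0 : Module.Flat Y Y' := hαY
  have hflat1 : Module.Flat Y Yq' := Module.Flat.trans Y Y' Yq'
  have hflat2 : Module.Flat Yq Yq' :=
    (Module.flat_iff_of_isLocalization Yq q.primeCompl Yq').mpr hflat1
  have hflat3 : Module.Flat X Yq' := hfl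
  have hff : Module.FaithfullyFlat Yq Yq' :=
    Groth.Agent.Lib.Helper9.faithfullyFlat_of_finite_of_isLocalHom (S := Yq) (S' := Yq') (M := Yq')
  have : Module.Flat X Yq :=
    Groth.Agent.Lib.Helper9.flat_of_faithfullyFlat_of_flat (R := X) (S := Yq) (M := Yq')
  exact this

/-- abstract form of descent of rig-flatness. -/
theorem descent_abstract {X Y X' Y' : Type*} [CommRing X] [CommRing Y] [CommRing X'] [CommRing Y']
    [IsNoetherianRing Y']
    (ψ : X →+* Y) (ψ' : X' →+* Y') (αX : X →+* X') (αY : Y →+* Y')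
    (hsq : ψ'.comp αX = αY.comp ψ)
    (K : Ideal Y) (K' : Ideal Y') (hK : K.map αY = K')
    (hαX : αX.Flat) (hαY : αY.Flat)
    (hmax : ∀ m : Ideal Y, m.IsMaximal → ∃ M' : Ideal Y', M'.IsPrime ∧ M'.comap αY = m)
    (h' : ∀ q' : PrimeSpectrum Y', (¬ K' ≤ q'.asIdeal ∧
        ∀ y : PrimeSpectrum Y', q' ≤ y → ¬ K' ≤ y.asIdeal → y = q') →
       ((algebraMap Y' (Localization.AtPrime q'.asIdeal)).comp ψ').Flat)
    (q : PrimeSpectrum Y)
    (hq : ¬ K ≤ q.asIdeal ∧ ∀ y : PrimeSpectrum Y, q ≤ y → ¬ K ≤ y.asIdeal → y = q) :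
    ((algebraMap Y (Localization.AtPrime q.asIdeal)).comp ψ).Flat := by
  -- a prime of Y' over q
  obtain ⟨m, hm, hqm⟩ := Ideal.exists_le_maximal q.asIdeal q.2.ne_top
  obtain ⟨M', hM'prime, hM'm⟩ := hmax m hm
  letI algYY' : Algebra Y Y' := αY.toAlgebra
  have hflat0 : Module.Flat Y Y' := hαY
  have hmprime : m.IsPrime := hm.isPrime
  have hlies : M'.LiesOver m := ⟨hM'm.symm⟩
  obtain ⟨q0, hq0M', hq0prime, hq0lies⟩ :=
    Ideal.exists_ideal_le_liesOver_of_le (p := q.asIdeal) (q := m) M' hqm
  have hq0 : q0.comap αY = q.asIdeal := (hq0lies.over).symm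
  have hK'q0 : ¬ K' ≤ q0 := by
    intro hle
    apply hq.1
    rw [← hq0, ← Ideal.map_le_iff_le_comap, hK]
    exact hle
  obtain ⟨q', hq0q', hq'⟩ := exists_rigClosed_ge K' q0 hK'q0
  have hq'comap : q.asIdeal = q'.asIdeal.comap αY := by
    have hprime : (q'.asIdeal.comap αY).IsPrime := Ideal.comap_isPrime αY q'.asIdeal
    have hle : q.asIdeal ≤ q'.asIdeal.comap αY := by
      rw [← hq0]
      exact Ideal.comap_mono hq0q'
    have hK2 : ¬ K ≤ q'.asIdeal.comap αY := by
      intro hle2
      apply hq'.1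
      rw [← hK, Ideal.map_le_iff_le_comap]
      exact hle2
    have := hq.2 ⟨q'.asIdeal.comap αY, hprime⟩
      ((PrimeSpectrum.asIdeal_le_asIdeal _ _).mp hle) hK2
    exact (congrArg PrimeSpectrum.asIdeal this).symm
  have hfl1 := h' q' hq'
  have hfl2 : (((algebraMap Y' (Localization.AtPrime q'.asIdeal)).comp ψ').comp αX).Flat :=
    RingHom.Flat.comp hαX hfl1
  rw [RingHom.comp_assoc, hsq] at hfl2
  exact flat_descent_local ψ αY hαY q.asIdeal q'.asIdeal hq'comap hfl2

end Groth.Agent.Lib.Helper15.RigDesc
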