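import Mathlib
import Groth.Agent.S8837
import Groth.Agent.Lib.Helper15.RigBC4
import Groth.Agent.Lib.Helper15.RigBC5
import Groth.Agent.Lib.Helper15.RigBC6
import Groth.Agent.Lib.Helper15.RigBC7
import Groth.Agent.Lib.Helper15.RigDesc1

/-!
# Rig-flatness from a dense isomorphism with a completed tensor product (helper15)
-/

set_option autoImplicit false
set_option linter.style.haveILetI false
set_option linter.unusedSectionVars false
set_option linter.style.longLine false

universe u

open TensorProduct

namespace Groth.Agent.Lib.Helper15.RigBC

open Groth.Agent.Lib.Helper15.RigComp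

/-- flatness of a principal localization from flatness of the local rings. -/
theorem flat_away_of_forall_prime {X Y : Type u} [CommRing X] [CommRing Y] (φ : X →+* Y) (b : Y)
    (h : ∀ (r : Ideal Y) [r.IsPrime], b ∉ r →
      ((algebraMap Y (Localization.AtPrime r)).comp φ).Flat) :
    ((algebraMap Y (Localization.Away b)).comp φ).Flat := by
  letI : Algebra X Y := φ.toAlgebra
  have goal : Module.Flat X (Localization.Away b) := by
    apply Module.flat_of_isLocalized_maximal (Localization.Away b) (Localization.Away b)
      (fun P _ => Localization.AtPrime P) (fun P _ => Algebra.linearMap (Localization.Away b) _)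
    intro P hP
    have hbr : b ∉ P.comap (algebraMap Y (Localization.Away b)) := by
      intro hb
      exact hP.ne_top (Ideal.eq_top_of_isUnit_mem _ hb (IsLocalization.Away.algebraMap_isUnit b))
    have h1 := h (P.comap (algebraMap Y (Localization.Away b))) hbr
    have h2 : Module.Flat X (Localization.AtPrime (P.comap (algebraMap Y (Localization.Away b)))) := by
      rw [← RingHom.flat_algebraMap_iff,
        IsScalarTower.algebraMap_eq X Y (Localization.AtPrime (P.comap (algebraMap Y (Localization.Away b))))]
      exact h1
    let e : Localization.AtPrime (P.comap (algebraMap Y (Localization.Away b))) ≃ₐ[Y]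
        Localization.AtPrime P :=
      IsLocalization.localizationLocalizationAtPrimeIsoLocalization (Submonoid.powers b) P
    exact Module.Flat.of_linearEquiv (e.toLinearEquiv.restrictScalars X).symm
  have e : (algebraMap Y (Localization.Away b)).comp φ = algebraMap X (Localization.Away b) :=
    (IsScalarTower.algebraMap_eq X Y (Localization.Away b)).symm
  rw [e]
  exact RingHom.flat_algebraMap_iff.mpr goal

theorem flat_toCL {X : Type u} [CommRing X] [IsNoetherianRing X] (JX : Ideal X) (x : X) :
    (algebraMap X (CL JX x)).Flat := by
  haveI := isNoetherianRing_away x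
  haveI : Module.Flat X (Localization.Away x) := IsLocalization.flat _ (Submonoid.powers x)
  haveI : Module.Flat X (CL JX x) := Module.Flat.trans X (Localization.Away x) (CL JX x)
  exact RingHom.flat_algebraMap_iff.mpr inferInstance

theorem map_pow_conv {A A' X X' : Type*} [CommRing A] [CommRing A'] [CommRing X] [CommRing X']
    (a : A →+* A') (ψ : A' →+* X') (g : A →+* X) (τ : X →+* X') (h : ψ.comp a = τ.comp g)
    (I : Ideal A) (k : ℕ) : ((I.map a) ^ k).map ψ = ((I.map g) ^ k).map τ := by
  rw [← Ideal.map_pow, ← Ideal.map_pow, Ideal.map_map, Ideal.map_map, h]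

end Groth.Agent.Lib.Helper15.RigBC
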