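import Mathlib
import Groth.Agent.Lib.Helper15.RigBC8

/-!
# Rig-flatness from a dense isomorphism with a completed tensor product (helper15)
-/

set_option autoImplicit false
set_option linter.style.haveILetI false
set_option linter.unusedSectionVars false
set_option linter.style.longLine false

universe u

open TensorProduct

namespace Groth.Agent.Lib.Helper15.RigBC

open Groth.Agent.Lib.Helper15.RigComp

set_option maxHeartbeats 1600000 in
theorem rigFlat_of_denseIso
    (A : Type u) [CommRing A] [IsNoetherianRing A] (I : Ideal A) [IsAdicComplete I A]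
    (B : Type u) [CommRing B] [Algebra A B] [IsNoetherianRing B]
    [IsAdicComplete (I.map (algebraMap A B)) B]
    (hAB : (∀ f : A, ∀ ψf : (AdicCompletion (I.map (algebraMap A (Localization.Away f))) (Localization.Away f)) →+* (AdicCompletion ((I.map (algebraMap A B)).map (algebraMap B (Localization.Away (algebraMap A B f)))) (Localization.Away (algebraMap A B f))), ψf.comp (algebraMap (Localization.Away f) (AdicCompletion (I.map (algebraMap A (Localization.Away f))) (Localization.Away f))) = (algebraMap (Localization.Away (algebraMap A B f)) (AdicCompletion ((I.map (algebraMap A B)).map (algebraMap B (Localization.Away (algebraMap A B f)))) (Localization.Away (algebraMap A B f)))).comp (Localization.awayMap (algebraMap A B) f) → ∀ qf : PrimeSpectrum (AdicCompletion ((I.map (algebraMap A B)).map (algebraMap B (Localization.Away (algebraMap A B f)))) (Localization.Away (algebraMap A B f))), (¬ (((I.map (algebraMap A B)).map (algebraMap B (Localization.Away (algebraMap A B f)))).map (algebraMap (Localization.Away (algebraMap A B f))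 (AdicCompletion ((I.map (algebraMap A B)).map (algebraMap B (Localization.Away (algebraMap A B f)))) (Localization.Away (algebraMap A B f))))) ≤ qf.asIdeal ∧ ∀ y : PrimeSpectrum (AdicCompletion ((I.map (algebraMap A B)).map (algebraMap B (Localization.Away (algebraMap A B f)))) (Localization.Away (algebraMap A B f))), qf ≤ y → ¬ (((I.map (algebraMap A B)).map (algebraMap B (Localization.Away (algebraMap A B f)))).map (algebraMap (Localization.Away (algebraMap A B f)) (AdicCompletion ((I.map (algebraMap A B)).map (algebraMap B (Localization.Away (algebraMap A B f)))) (Localization.Away (algebraMap A B f))))) ≤ y.asIdeal → y = qf) → ((algebraMap (AdicCompletion ((I.map (algebraMap A B)).map (algebraMap B (Localization.Away (algebraMap A B f)))) (Localization.Away (algebraMap A B f))) (Localization.AtPrime qf.asIdeal)).comp ψf).Flat))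
    (C1 : Type u) [CommRing C1] [Algebra A C1] [IsNoetherianRing C1]
    (R : Type u) [CommRing R] [Algebra A R] [Algebra B R] [Algebra C1 R] [IsScalarTower A B R]
    [IsScalarTower A C1 R] [IsNoetherianRing R] [IsAdicComplete (I.map (algebraMap A R)) R]
    (hftR : Algebra.FiniteType A (R ⧸ I.map (algebraMap A R)))
    (hDI : IsDenseIso (I.map (algebraMap A (C1 ⊗[A] B))) (prodMap A B C1 R).toRingHom)
    (Q : PrimeSpectrum R)
    (hQ : ¬ I.map (algebraMap A R) ≤ Q.asIdeal ∧
      ∀ y : PrimeSpectrum R, Q ≤ y → ¬ I.map (algebraMap A R) ≤ y.asIdeal → y = Q) :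
    ((algebraMap R (Localization.AtPrime Q.asIdeal)).comp (algebraMap C1 R)).Flat := by
  obtain ⟨f, hfu, hint⟩ := Groth.Agent.Lib.Helper15.RigLoc.exists_f A I R hftR Q hQ
  -- names
  let IB : Ideal B := I.map (algebraMap A B)
  let IC : Ideal C1 := I.map (algebraMap A C1)
  let IR : Ideal R := I.map (algebraMap A R)
  let fB : B := algebraMap A B f
  let fC : C1 := algebraMap A C1 f
  let fR : R := algebraMap A R f
  let A' := CL I f
  let B' := CL IB fB
  let C' := CL IC fC
  let R' := CL IR fR
  have hIfg : I.FG := IsNoetherian.noetherian I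
  have hIBfg : IB.FG := IsNoetherian.noetherian IB
  have hICfg : IC.FG := IsNoetherian.noetherian IC
  have hIRfg : IR.FG := IsNoetherian.noetherian IR
  haveI hNA' : IsNoetherianRing A' := isNoetherianRing_CL I f
  haveI hNB' : IsNoetherianRing B' := isNoetherianRing_CL IB fB
  haveI hNC' : IsNoetherianRing C' := isNoetherianRing_CL IC fC
  haveI hNR' : IsNoetherianRing R' := isNoetherianRing_CL IR fR
  -- maps
  have hIBR : IB.map (algebraMap B R) = IR := by
    change (I.map (algebraMap A B)).map (algebraMap B R) = I.map (algebraMap A R)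
    rw [Ideal.map_map, ← IsScalarTower.algebraMap_eq]
  have hICR : IC.map (algebraMap C1 R) = IR := by
    change (I.map (algebraMap A C1)).map (algebraMap C1 R) = I.map (algebraMap A R)
    rw [Ideal.map_map, ← IsScalarTower.algebraMap_eq]
  have hfBR : algebraMap B R fB = fR := (IsScalarTower.algebraMap_apply A B R f).symm
  have hfCR : algebraMap C1 R fC = fR := (IsScalarTower.algebraMap_apply A C1 R f).symm
  let ψAB : A' →+* B' := clMap (algebraMap A B) I IB le_rfl f fB rfl
  let ψAC : A' →+* C' := clMap (algebraMap A C1) I IC le_rfl f fC rfl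
  let ψAR : A' →+* R' := clMap (algebraMap A R) I IR le_rfl f fR rfl
  let ψBR : B' →+* R' := clMap (algebraMap B R) IB IR hIBR.le fB fR hfBR
  let ψCR : C' →+* R' := clMap (algebraMap C1 R) IC IR hICR.le fC fR hfCR
  have hAB1 : ψAB.comp (toCL I f) = (toCL IB fB).comp (algebraMap A B) :=
    clMap_comp_toCL (algebraMap A B) I IB le_rfl f fB rfl
  have hAC1 : ψAC.comp (toCL I f) = (toCL IC fC).comp (algebraMap A C1) :=
    clMap_comp_toCL (algebraMap A C1) I IC le_rfl f fC rfl
  have hAR1 : ψAR.comp (toCL I f) = (toCL IR fR).comp (algebraMap A R) :=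
    clMap_comp_toCL (algebraMap A R) I IR le_rfl f fR rfl
  have hBR1 : ψBR.comp (toCL IB fB) = (toCL IR fR).comp (algebraMap B R) :=
    clMap_comp_toCL (algebraMap B R) IB IR hIBR.le fB fR hfBR
  have hCR1 : ψCR.comp (toCL IC fC) = (toCL IR fR).comp (algebraMap C1 R) :=
    clMap_comp_toCL (algebraMap C1 R) IC IR hICR.le fC fR hfCR
  have hBR_AB : ψBR.comp ψAB = ψAR := by
    apply clMap_unique (algebraMap A R) I hIfg IR hIRfg le_rfl f fR rfl
    rw [RingHom.comp_assoc, hAB1, ← RingHom.comp_assoc, hBR1, RingHom.comp_assoc,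
      ← IsScalarTower.algebraMap_eq]
  have hCR_AC : ψCR.comp ψAC = ψAR := by
    apply clMap_unique (algebraMap A R) I hIfg IR hIRfg le_rfl f fR rfl
    rw [RingHom.comp_assoc, hAC1, ← RingHom.comp_assoc, hCR1, RingHom.comp_assoc,
      ← IsScalarTower.algebraMap_eq]
  letI algA'B' : Algebra A' B' := ψAB.toAlgebra
  letI algA'C' : Algebra A' C' := ψAC.toAlgebra
  letI algA'R' : Algebra A' R' := ψAR.toAlgebra
  letI algB'R' : Algebra B' R' := ψBR.toAlgebra
  letI algC'R' : Algebra C' R' := ψCR.toAlgebra
  haveI towA'B'R' : IsScalarTower A' B' R' :=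
    IsScalarTower.of_algebraMap_eq fun x => (RingHom.congr_fun hBR_AB x).symm
  haveI towA'C'R' : IsScalarTower A' C' R' :=
    IsScalarTower.of_algebraMap_eq fun x => (RingHom.congr_fun hCR_AC x).symm
  have hAA' : algebraMap A A' = toCL I f := (toCL_eq_algebraMap I f).symm
  have hBB' : algebraMap B B' = toCL IB fB := (toCL_eq_algebraMap IB fB).symm
  have hCC' : algebraMap C1 C' = toCL IC fC := (toCL_eq_algebraMap IC fC).symm
  have hRR' : algebraMap R R' = toCL IR fR := (toCL_eq_algebraMap IR fR).symm
  have hAR' : algebraMap A R' = (toCL IR fR).comp (algebraMap A R) := by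
    rw [← hRR', ← IsScalarTower.algebraMap_eq]
  haveI towAA'R' : IsScalarTower A A' R' := by
    refine IsScalarTower.of_algebraMap_eq fun x => ?_
    change algebraMap A R' x = ψAR (algebraMap A A' x)
    rw [hAA', hAR']
    exact (RingHom.congr_fun hAR1 x).symm
  -- completeness
  haveI hCA' : IsAdicComplete (I.map (algebraMap A A')) A' := by
    rw [hAA']
    exact isAdicComplete_CL I hIfg f
  have hIR' : I.map (algebraMap A R') = IR.map (toCL IR fR) := by
    rw [hAR', ← Ideal.map_map]
  haveI hCR' : IsAdicComplete (I.map (algebraMap A R')) R' := by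
    rw [hIR']
    exact isAdicComplete_CL IR hIRfg fR
  have hKB' : (I.map (algebraMap A A')).map (algebraMap A' B') = IB.map (toCL IB fB) := by
    change (I.map (algebraMap A A')).map ψAB = (I.map (algebraMap A B)).map (toCL IB fB)
    rw [Ideal.map_map, Ideal.map_map, hAA', hAB1]
  have hKR' : (I.map (algebraMap A A')).map (algebraMap A' R') = IR.map (toCL IR fR) := by
    change (I.map (algebraMap A A')).map ψAR = (I.map (algebraMap A R)).map (toCL IR fR)
    rw [Ideal.map_map, Ideal.map_map, hAA', hAR1]
  haveI hCKB' : IsAdicComplete ((I.map (algebraMap A A')).map (algebraMap A' B')) B' := by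
    rw [hKB']
    exact isAdicComplete_CL IB hIBfg fB
  haveI hCKR' : IsAdicComplete ((I.map (algebraMap A A')).map (algebraMap A' R')) R' := by
    rw [hKR']
    exact isAdicComplete_CL IR hIRfg fR
  -- the prime `Q'`
  obtain ⟨hQprime, hbij⟩ := Groth.Agent.S8837.result R (I.map (algebraMap A R)) Q.asIdeal
    (algebraMap A R f) hfu
  haveI := hQprime
  have hf1 : IsUnit (algebraMap A A' f) := by
    rw [hAA']
    exact isUnit_toCL I f
  have hfin : Module.Finite A' (R' ⧸ Q.asIdeal.map (algebraMap R R')) :=
    finite_quotient_map A I R hftR Q hQ A' R' f hf1 hbij hint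
  have hQQ' : Q.asIdeal = (Q.asIdeal.map (algebraMap R R')).comap (algebraMap R R') := by
    apply le_antisymm Ideal.le_comap_map
    intro x hx
    rw [Ideal.mem_comap] at hx
    have h1 : Ideal.quotientMap (Q.asIdeal.map (algebraMap R R')) (algebraMap R R')
        Ideal.le_comap_map (Ideal.Quotient.mk Q.asIdeal x) = 0 := by
      rw [Ideal.quotientMap_mk]
      exact Ideal.Quotient.eq_zero_iff_mem.mpr hx
    have h2 := hbij.1 (h1.trans (map_zero _).symm)
    exact Ideal.Quotient.eq_zero_iff_mem.mp h2
  -- the dense iso after base change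
  have hβ : ∀ x, toCL IB fB (algebraMap A B x) = algebraMap A' B' (algebraMap A A' x) := by
    intro x
    rw [hAA']
    exact (RingHom.congr_fun hAB1 x).symm
  have hγ : ∀ x, toCL IC fC (algebraMap A C1 x) = algebraMap A' C' (algebraMap A A' x) := by
    intro x
    rw [hAA']
    exact (RingHom.congr_fun hAC1 x).symm
  have hρB : ∀ b, toCL IR fR (algebraMap B R b) = algebraMap B' R' (toCL IB fB b) :=
    fun b => (RingHom.congr_fun hBR1 b).symm
  have hρC : ∀ c, toCL IR fR (algebraMap C1 R c) = algebraMap C' R' (toCL IC fC c) :=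
    fun c => (RingHom.congr_fun hCR1 c).symm
  have hγd : ∀ (k : ℕ) (c' : C'), ∃ (c : C1) (n : ℕ),
      c' * (algebraMap A' C' (algebraMap A A' f)) ^ n - toCL IC fC c ∈
        ((I.map (algebraMap A A')) ^ k).map (algebraMap A' C') := by
    intro k c'
    obtain ⟨c, n, h⟩ := toCL_dense IC hICfg fC k c'
    refine ⟨c, n, ?_⟩
    rw [← hγ f]
    have e : ((I.map (algebraMap A A')) ^ k).map (algebraMap A' C') =
        ((I.map (algebraMap A C1)) ^ k).map (toCL IC fC) :=
      map_pow_conv (algebraMap A A') ψAC (algebraMap A C1) (toCL IC fC) (by rw [hAA', hAC1]) I k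
    rw [e]
    exact h
  have hβd : ∀ (k : ℕ) (b' : B'), ∃ (b : B) (n : ℕ),
      b' * (algebraMap A' B' (algebraMap A A' f)) ^ n - toCL IB fB b ∈
        ((I.map (algebraMap A A')) ^ k).map (algebraMap A' B') := by
    intro k b'
    obtain ⟨b, n, h⟩ := toCL_dense IB hIBfg fB k b'
    refine ⟨b, n, ?_⟩
    rw [← hβ f]
    have e : ((I.map (algebraMap A A')) ^ k).map (algebraMap A' B') =
        ((I.map (algebraMap A B)) ^ k).map (toCL IB fB) :=
      map_pow_conv (algebraMap A A') ψAB (algebraMap A B) (toCL IB fB) (by rw [hAA', hAB1]) I k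
    rw [e]
    exact h
  have eR : ∀ k : ℕ, ((I.map (algebraMap A A')) ^ k).map (algebraMap A' R') =
      ((I.map (algebraMap A R)) ^ k).map (toCL IR fR) := fun k =>
    map_pow_conv (algebraMap A A') ψAR (algebraMap A R) (toCL IR fR) (by rw [hAA', hAR1]) I k
  have hfR' : algebraMap A' R' (algebraMap A A' f) = toCL IR fR fR := by
    rw [hAA']
    exact RingHom.congr_fun hAR1 f
  have hρd : ∀ (k : ℕ) (r' : R'), ∃ (r : R) (n : ℕ),
      r' * (algebraMap A' R' (algebraMap A A' f)) ^ n - toCL IR fR r ∈
        ((I.map (algebraMap A A')) ^ k).map (algebraMap A' R') := by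
    intro k r'
    obtain ⟨r, n, h⟩ := toCL_dense IR hIRfg fR k r'
    refine ⟨r, n, ?_⟩
    rw [hfR', eR]
    exact h
  have hρc : ∀ (k : ℕ) (r : R), toCL IR fR r ∈
      ((I.map (algebraMap A A')) ^ k).map (algebraMap A' R') →
      ∃ m : ℕ, (algebraMap A R f) ^ m * r ∈ (I ^ k).map (algebraMap A R) := by
    intro k r hr
    rw [eR] at hr
    obtain ⟨m, hm⟩ := toCL_closed IR hIRfg fR k r hr
    refine ⟨m, ?_⟩
    rw [Ideal.map_pow]
    exact hm
  have hDI' : IsDenseIso ((I.map (algebraMap A A')).map (algebraMap A' (C' ⊗[A'] B')))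
      (prodMap A' B' C' R').toRingHom :=
    isDenseIso_baseChange (algebraMap A A') (toCL IB fB) (toCL IC fC) (toCL IR fR) hβ hγ hρB hρC
      I f hf1 hDI hγd hβd hρd hρc
  -- the element `a`
  obtain ⟨a0, ha0I, ha0Q⟩ : ∃ a0 ∈ I, algebraMap A R a0 ∉ Q.asIdeal := by
    by_contra hcon
    push_neg at hcon
    apply hQ.1
    rw [Ideal.map_le_iff_le_comap]
    intro x hx
    exact hcon x hx
  have haQ : algebraMap A' R' (algebraMap A A' a0) ∉ Q.asIdeal.map (algebraMap R R') := by
    intro hmem
    rw [← IsScalarTower.algebraMap_apply A A' R', IsScalarTower.algebraMap_apply A R R'] at hmem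
    apply ha0Q
    rw [hQQ']
    exact hmem
  -- flatness of `B'_a`
  have hflat : Module.Flat A' (Localization.Away (algebraMap A' B' (algebraMap A A' a0))) := by
    rw [← RingHom.flat_algebraMap_iff, IsScalarTower.algebraMap_eq A' B'
      (Localization.Away (algebraMap A' B' (algebraMap A A' a0)))]
    apply flat_away_of_forall_prime ψAB
    intro r hr hbr
    have hnot : ¬ (CLI IB fB).map (algebraMap (Localization.Away fB) B') ≤ r := by
      intro hle
      apply hbr
      apply hle
      rw [← map_toCL, ← hβ a0]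
      exact Ideal.mem_map_of_mem _ (Ideal.mem_map_of_mem _ ha0I)
    obtain ⟨r1, hrr1, hr1⟩ := exists_rigClosed_ge
      ((CLI IB fB).map (algebraMap (Localization.Away fB) B')) r hnot
    have hcompat : ψAB.comp (algebraMap (Localization.Away f) A') =
        (algebraMap (Localization.Away fB) B').comp (Localization.awayMap (algebraMap A B) f) := by
      rw [← awayLift_eq_awayMap]
      exact clMap_comp_algebraMap (algebraMap A B) I IB le_rfl f fB rfl
    have h1 := hAB f ψAB hcompat r1 hr1
    have h2 : ((algebraMap B' (Localization.AtPrime r)).comp (RingHom.id B')).Flat := by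
      rw [RingHom.comp_id]
      exact RingHom.flat_algebraMap_iff.mpr (IsLocalization.flat _ r.primeCompl)
    have h3 := flat_comp_of_local ψAB (RingHom.id B') r1.asIdeal r
      (by rw [Ideal.comap_id]; exact hrr1) h1 h2
    rw [RingHom.id_comp] at h3
    exact h3
  have hcore : Module.Flat C' (Localization.AtPrime (Q.asIdeal.map (algebraMap R R'))) :=
    core_flat (I.map (algebraMap A A')) hDI' (Q.asIdeal.map (algebraMap R R')) hfin
      (algebraMap A A' a0) haQ hflat
  -- descent
  have hαY : (algebraMap R R').Flat := flat_toCL IR fR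
  have hαC : (algebraMap C1 C').Flat := flat_toCL IC fC
  apply Groth.Agent.Lib.Helper15.RigDesc.flat_descent_local (algebraMap C1 R) (algebraMap R R') hαY
    Q.asIdeal (Q.asIdeal.map (algebraMap R R')) hQQ'
  have e1 : (algebraMap R R').comp (algebraMap C1 R) = ψCR.comp (algebraMap C1 C') := by
    rw [hRR', hCC', hCR1]
  rw [e1, ← RingHom.comp_assoc]
  refine RingHom.Flat.comp hαC ?_
  have e2 : (algebraMap R' (Localization.AtPrime (Q.asIdeal.map (algebraMap R R')))).comp ψCR =
      algebraMap C' (Localization.AtPrime (Q.asIdeal.map (algebraMap R R'))) :=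
    (IsScalarTower.algebraMap_eq C' R' _).symm
  rw [e2]
  exact RingHom.flat_algebraMap_iff.mpr hcore

end Groth.Agent.Lib.Helper15.RigBC
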