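import Mathlib
import Groth.Agent.Lib.Helper15.RigBC9
import Groth.Agent.Lib.Helper15.RigBC10
import Groth.Agent.Lib.Helper21.AdicNoetherian

/-!
# Rig-flat base change along a completed tensor product (helper15): S8846
-/

set_option autoImplicit false
set_option linter.style.haveILetI false
set_option linter.unusedSectionVars false
set_option linter.style.longLine false

universe u

open TensorProduct

namespace Groth.Agent.Lib.Helper15.RigBC

open Groth.Agent.Lib.Helper15.RigComp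

theorem finiteType_tensor_quotient (A : Type u) [CommRing A] (I : Ideal A) (B C : Type u)
    [CommRing B] [CommRing C] [Algebra A B] [Algebra A C]
    (hftB : Algebra.FiniteType A (B ⧸ I.map (algebraMap A B)))
    (hftC : Algebra.FiniteType A (C ⧸ I.map (algebraMap A C))) :
    Algebra.FiniteType A ((C ⊗[A] B) ⧸ (I.map (algebraMap A C)).map (algebraMap C (C ⊗[A] B))) := by
  have hJ0 : (I.map (algebraMap A C)).map (algebraMap C (C ⊗[A] B)) =
      I.map (algebraMap A (C ⊗[A] B)) := by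
    rw [Ideal.map_map, ← IsScalarTower.algebraMap_eq]
  let fC0 : C →ₐ[A] (C ⊗[A] B) ⧸ (I.map (algebraMap A C)).map (algebraMap C (C ⊗[A] B)) :=
    (Ideal.Quotient.mkₐ A _).comp (Algebra.TensorProduct.includeLeft : C →ₐ[A] C ⊗[A] B)
  let fB0 : B →ₐ[A] (C ⊗[A] B) ⧸ (I.map (algebraMap A C)).map (algebraMap C (C ⊗[A] B)) :=
    (Ideal.Quotient.mkₐ A _).comp (Algebra.TensorProduct.includeRight : B →ₐ[A] C ⊗[A] B)
  have hfC0 : ∀ c ∈ I.map (algebraMap A C), fC0 c = 0 := by
    intro c hc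
    exact Ideal.Quotient.eq_zero_iff_mem.mpr (Ideal.mem_map_of_mem (algebraMap C (C ⊗[A] B)) hc)
  have hfB0 : ∀ b ∈ I.map (algebraMap A B), fB0 b = 0 := by
    intro b hb
    apply Ideal.Quotient.eq_zero_iff_mem.mpr
    rw [hJ0]
    have h1 := Ideal.mem_map_of_mem
      (Algebra.TensorProduct.includeRight : B →ₐ[A] C ⊗[A] B).toRingHom hb
    rw [Ideal.map_map] at h1
    have h2 : (Algebra.TensorProduct.includeRight : B →ₐ[A] C ⊗[A] B).toRingHom.comp
        (algebraMap A B) = algebraMap A (C ⊗[A] B) :=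
      RingHom.ext fun x => (Algebra.TensorProduct.includeRight : B →ₐ[A] C ⊗[A] B).commutes x
    rw [h2] at h1
    exact h1
  let fC : (C ⧸ I.map (algebraMap A C)) →ₐ[A] _ := Ideal.Quotient.liftₐ _ fC0 hfC0
  let fB : (B ⧸ I.map (algebraMap A B)) →ₐ[A] _ := Ideal.Quotient.liftₐ _ fB0 hfB0
  let Φ : (C ⧸ I.map (algebraMap A C)) ⊗[A] (B ⧸ I.map (algebraMap A B)) →ₐ[A]
      (C ⊗[A] B) ⧸ (I.map (algebraMap A C)).map (algebraMap C (C ⊗[A] B)) :=
    Algebra.TensorProduct.lift fC fB (fun _ _ => Commute.all _ _)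
  have hΦ : Function.Surjective Φ := by
    intro w
    obtain ⟨t, rfl⟩ := Ideal.Quotient.mk_surjective w
    induction t using TensorProduct.induction_on with
    | zero => exact ⟨0, by rw [map_zero, map_zero]⟩
    | tmul c b =>
      refine ⟨(Ideal.Quotient.mk _ c) ⊗ₜ (Ideal.Quotient.mk _ b), ?_⟩
      rw [Algebra.TensorProduct.lift_tmul]
      change Ideal.Quotient.mk _ (c ⊗ₜ[A] (1 : B)) * Ideal.Quotient.mk _ ((1 : C) ⊗ₜ[A] b) = _
      rw [← map_mul, Algebra.TensorProduct.tmul_mul_tmul, mul_one, one_mul]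
    | add x y hx hy =>
      obtain ⟨x', hx'⟩ := hx
      obtain ⟨y', hy'⟩ := hy
      exact ⟨x' + y', by rw [map_add, hx', hy', map_add]⟩
  haveI := hftC
  haveI := hftB
  haveI h1 : Algebra.FiniteType (C ⧸ I.map (algebraMap A C))
      ((C ⧸ I.map (algebraMap A C)) ⊗[A] (B ⧸ I.map (algebraMap A B))) := inferInstance
  haveI h2 : Algebra.FiniteType A
      ((C ⧸ I.map (algebraMap A C)) ⊗[A] (B ⧸ I.map (algebraMap A B))) :=
    Algebra.FiniteType.trans hftC h1
  exact Algebra.FiniteType.of_surjective Φ hΦ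

end Groth.Agent.Lib.Helper15.RigBC
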