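import Mathlib
import Groth.Agent.Lib.Helper15.RigBC11

/-!
# Rig-flat base change along a completed tensor product (helper15): abstract form
-/

set_option autoImplicit false
set_option linter.style.haveILetI false
set_option linter.unusedSectionVars false
set_option linter.style.longLine false

universe u

open TensorProduct

namespace Groth.Agent.Lib.Helper15.RigBC

open Groth.Agent.Lib.Helper15.RigComp

set_option maxHeartbeats 1600000 in
theorem main_aux (A : Type u) [CommRing A] [IsNoetherianRing A] (I : Ideal A) [IsAdicComplete I A] (B : Type u) [CommRing B] [Algebra A B] [IsNoetherianRing B] [IsAdicComplete (I.map (algebraMap A B)) B] (hft : Algebra.FiniteType A (B ⧸ (I.map (algebraMap A B)))) (hAB : (∀ f : A, ∀ ψf : (AdicCompletion (I.map (algebraMap A (Localization.Away f))) (Localization.Away f)) →+* (AdicCompletion ((I.map (algebraMap A B)).map (algebraMap B (Localization.Away (algebraMap A B f)))) (Localization.Away (algebraMap A B f))), ψf.comp (algebraMap (Localization.Away f) (AdicCompletion (I.map (algebraMap A (Localization.Away f))) (Localization.Away f))) =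 (algebraMap (Localization.Away (algebraMap A B f)) (AdicCompletion ((I.map (algebraMap A B)).map (algebraMap B (Localization.Away (algebraMap A B f)))) (Localization.Away (algebraMap A B f)))).comp (Localization.awayMap (algebraMap A B) f) → ∀ qf : PrimeSpectrum (AdicCompletion ((I.map (algebraMap A B)).map (algebraMap B (Localization.Away (algebraMap A B f)))) (Localization.Away (algebraMap A B f))), (¬ (((I.map (algebraMap A B)).map (algebraMap B (Localization.Away (algebraMap A B f)))).map (algebraMap (Localization.Away (algebraMap A B f)) (AdicCompletion ((I.map (algebraMap A B)).map (algebraMap B (Localization.Away (algebraMap A B f)))) (Localization.Away (algebraMap A B f))))) ≤ qf.asIdeal ∧ ∀ y : PrimeSpectrum (AdicCompletion ((I.map (algebraMap A B)).map (algebraMap B (Localization.Away (algebraMap A B f)))) (Localization.Away (algebraMap A B f))), qf ≤ y → ¬ (((I.map (algebraMap A B)).map (algebraMap B (Localization.Away (algebraMap A B f)))).map (algebraMap (Localization.Away (algebraMap A B f)) (AdicCompletion ((I.map (algebraMap A B)).map (algebraMap B (Localization.Away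 (algebraMap A B f)))) (Localization.Away (algebraMap A B f))))) ≤ y.asIdeal → y = qf) → ((algebraMap (AdicCompletion ((I.map (algebraMap A B)).map (algebraMap B (Localization.Away (algebraMap A B f)))) (Localization.Away (algebraMap A B f))) (Localization.AtPrime qf.asIdeal)).comp ψf).Flat)) (C : Type u) [CommRing C] [Algebra A C] [IsNoetherianRing C] [IsAdicComplete (I.map (algebraMap A C)) C] (hftC : Algebra.FiniteType A (C ⧸ (I.map (algebraMap A C)))) (D : Type u) [CommRing D] [Algebra A D] [Algebra B D] [Algebra C D] [IsScalarTower A B D] [IsScalarTower A C D] [IsNoetherianRing D] (hftD : Algebra.FiniteType A (D ⧸ (I.map (algebraMap A C)).map (algebraMap C D))) (hDI0 : IsDenseIso (I.map (algebraMap A (C ⊗[A] B))) (prodMap A B C D).toRingHom) : (∀ h : C, ∀ ψh : (AdicCompletion ((I.map (algebraMap A C)).map (algebraMap C (Localization.Away h))) (Localization.Away h)) →+* (AdicCompletion (((I.map (algebraMap A C)).map (algebraMap C D)).map (algebraMap D (Localization.Away (algebraMap C D h)))) (Localization.Away (algebraMap C D h))), ψh.comp (algebraMap (Localization.Away h)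 (AdicCompletion ((I.map (algebraMap A C)).map (algebraMap C (Localization.Away h))) (Localization.Away h))) = (algebraMap (Localization.Away (algebraMap C D h)) (AdicCompletion (((I.map (algebraMap A C)).map (algebraMap C D)).map (algebraMap D (Localization.Away (algebraMap C D h)))) (Localization.Away (algebraMap C D h)))).comp (Localization.awayMap (algebraMap C D) h) → ∀ qh : PrimeSpectrum (AdicCompletion (((I.map (algebraMap A C)).map (algebraMap C D)).map (algebraMap D (Localization.Away (algebraMap C D h)))) (Localization.Away (algebraMap C D h))), (¬ ((((I.map (algebraMap A C)).map (algebraMap C D)).map (algebraMap D (Localization.Away (algebraMap C D h)))).map (algebraMap (Localization.Away (algebraMap C D h)) (AdicCompletion (((I.map (algebraMap A C)).map (algebraMap C D)).map (algebraMap D (Localization.Away (algebraMap C D h)))) (Localization.Away (algebraMap C D h))))) ≤ qh.asIdeal ∧ ∀ y : PrimeSpectrum (AdicCompletion (((I.map (algebraMap A C)).map (algebraMap C D)).map (algebraMap D (Localization.Away (algebraMap C D h)))) (Localization.Away (algebraMap C D h))),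 qh ≤ y → ¬ ((((I.map (algebraMap A C)).map (algebraMap C D)).map (algebraMap D (Localization.Away (algebraMap C D h)))).map (algebraMap (Localization.Away (algebraMap C D h)) (AdicCompletion (((I.map (algebraMap A C)).map (algebraMap C D)).map (algebraMap D (Localization.Away (algebraMap C D h)))) (Localization.Away (algebraMap C D h))))) ≤ y.asIdeal → y = qh) → ((algebraMap (AdicCompletion (((I.map (algebraMap A C)).map (algebraMap C D)).map (algebraMap D (Localization.Away (algebraMap C D h)))) (Localization.Away (algebraMap C D h))) (Localization.AtPrime qh.asIdeal)).comp ψh).Flat)  := by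
  intro h ψh hψh qh hqh
  -- names
  let T0 := C ⊗[A] B
  let IC : Ideal C := I.map (algebraMap A C)
  let ID : Ideal D := IC.map (algebraMap C D)
  let hD : D := algebraMap C D h
  let C1 := CL IC h
  let R := CL ID hD
  have hICfg : IC.FG := IsNoetherian.noetherian IC
  have hIDfg : ID.FG := hICfg.map _
  haveI hNC1 : IsNoetherianRing C1 := isNoetherianRing_CL IC h
  haveI hNR : IsNoetherianRing R := isNoetherianRing_CL ID hD
  -- towers and ideals
  have hIDA : ID = I.map (algebraMap A D) := by
    change (I.map (algebraMap A C)).map (algebraMap C D) = _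
    rw [Ideal.map_map, ← IsScalarTower.algebraMap_eq]
  have hDR : algebraMap D R = toCL ID hD := (toCL_eq_algebraMap ID hD).symm
  have hCC1 : algebraMap C C1 = toCL IC h := (toCL_eq_algebraMap IC h).symm
  have hAR : algebraMap A R = (toCL ID hD).comp (algebraMap A D) := by
    refine RingHom.ext fun a => ?_
    rw [IsScalarTower.algebraMap_apply A (Localization.Away hD) R,
      IsScalarTower.algebraMap_apply A D (Localization.Away hD)]
    rfl
  have hAC1 : algebraMap A C1 = (toCL IC h).comp (algebraMap A C) := by
    refine RingHom.ext fun a => ?_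
    rw [IsScalarTower.algebraMap_apply A (Localization.Away h) C1,
      IsScalarTower.algebraMap_apply A C (Localization.Away h)]
    rfl
  have hIR : I.map (algebraMap A R) = ID.map (toCL ID hD) := by
    rw [hAR, ← Ideal.map_map, ← hIDA]
  -- algebra structures
  letI algC1R : Algebra C1 R := ψh.toAlgebra
  have hBR : algebraMap B R = (toCL ID hD).comp (algebraMap B D) := by
    refine RingHom.ext fun b => ?_
    rw [IsScalarTower.algebraMap_apply B (Localization.Away hD) R,
      IsScalarTower.algebraMap_apply B D (Localization.Away hD)]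
    rfl
  haveI towABR : IsScalarTower A B R := by
    refine IsScalarTower.of_algebraMap_eq (R := A) (S := B) (A := R) fun a => ?_
    rw [hAR, hBR, RingHom.comp_apply, RingHom.comp_apply, ← IsScalarTower.algebraMap_apply A B D]
  have hρC : ∀ c : C, ψh (toCL IC h c) = toCL ID hD (algebraMap C D c) := by
    intro c
    have h1 := RingHom.congr_fun hψh (algebraMap C (Localization.Away h) c)
    simp only [RingHom.comp_apply] at h1
    have h2 : Localization.awayMap (algebraMap C D) h (algebraMap C (Localization.Away h) c) =
        algebraMap D (Localization.Away hD) (algebraMap C D c) := by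
      simp only [Localization.awayMap, IsLocalization.Away.map]
      exact IsLocalization.map_eq _ c
    rw [h2] at h1
    exact h1
  haveI towAC1R : @IsScalarTower A C1 R _ algC1R.toSMul _ := by
    refine @IsScalarTower.of_algebraMap_eq A C1 R _ _ _ _ algC1R _ fun a => ?_
    change algebraMap A R a = ψh (algebraMap A C1 a)
    rw [hAC1, RingHom.comp_apply, hρC, hAR, ← IsScalarTower.algebraMap_apply A C D]
    rfl
  -- completeness
  haveI hCR : IsAdicComplete (I.map (algebraMap A R)) R := by
    rw [hIR]
    exact isAdicComplete_CL ID hIDfg hD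
  -- finite type
  have hftR : Algebra.FiniteType A (R ⧸ I.map (algebraMap A R)) := by
    have h1 := finiteType_quotient_CL (A := A) ID hIDfg hD hftD
    rw [hDR, ← hIR] at h1
    exact h1
  -- the dense iso
  have hβ : ∀ x, (RingHom.id B) (algebraMap A B x) = algebraMap A B ((RingHom.id A) x) :=
    fun _ => rfl
  have hγ : ∀ x, toCL IC h (algebraMap A C x) = algebraMap A C1 ((RingHom.id A) x) := by
    intro x
    rw [hAC1]
    rfl
  have hρB' : ∀ b, toCL ID hD (algebraMap B D b) = algebraMap B R ((RingHom.id B) b) := by
    intro b
    rw [hBR]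
    rfl
  have hρC' : ∀ c, toCL ID hD (algebraMap C D c) = algebraMap C1 R (toCL IC h c) :=
    fun c => (hρC c).symm
  have hu : IsUnit (tensorBC (RingHom.id A) (RingHom.id B) (toCL IC h) hβ hγ
      (algebraMap C T0 h)) := by
    have e : tensorBC (RingHom.id A) (RingHom.id B) (toCL IC h) hβ hγ (algebraMap C T0 h) =
        (Algebra.TensorProduct.includeLeft : C1 →ₐ[A] C1 ⊗[A] B) (toCL IC h h) := by
      rw [Algebra.TensorProduct.algebraMap_apply, tensorBC_tmul, map_one]
      rfl
    rw [e]
    exact (isUnit_toCL IC h).map _
  have hγd : ∀ (k : ℕ) (c' : C1), ∃ (c : C) (n : ℕ),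
      c' * (toCL IC h h) ^ n - toCL IC h c ∈
        ((I.map (RingHom.id A)) ^ k).map (algebraMap A C1) := by
    intro k c'
    obtain ⟨c, n, hc⟩ := toCL_dense IC hICfg h k c'
    refine ⟨c, n, ?_⟩
    have e : ((I.map (RingHom.id A)) ^ k).map (algebraMap A C1) =
        ((I.map (algebraMap A C)) ^ k).map (toCL IC h) :=
      map_pow_conv (RingHom.id A) (algebraMap A C1) (algebraMap A C) (toCL IC h)
        (by rw [RingHom.comp_id, hAC1]) I k
    rw [e]
    exact hc
  have hTd := tensorBC_dense_left (RingHom.id A) (RingHom.id B) (toCL IC h) hβ hγ I h hγd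
    (fun b => ⟨b, rfl⟩)
  have hφt0 : prodMap A B C D (algebraMap C T0 h) = hD := AlgHom.commutes _ h
  have eR : ∀ k : ℕ, ((I.map (RingHom.id A)) ^ k).map (algebraMap A R) =
      (ID ^ k).map (toCL ID hD) := by
    intro k
    have h1 := map_pow_conv (RingHom.id A) (algebraMap A R) (algebraMap A D) (toCL ID hD)
      (by rw [RingHom.comp_id, hAR]) I k
    rw [h1]
    exact (congrArg (fun J : Ideal D => (J ^ k).map (toCL ID hD)) hIDA).symm
  have hρd : ∀ (k : ℕ) (r' : R), ∃ (r : D) (n : ℕ),
      r' * (toCL ID hD (prodMap A B C D (algebraMap C T0 h))) ^ n - toCL ID hD r ∈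
        ((I.map (RingHom.id A)) ^ k).map (algebraMap A R) := by
    intro k r'
    obtain ⟨r, n, hr⟩ := toCL_dense ID hIDfg hD k r'
    refine ⟨r, n, ?_⟩
    rw [hφt0, eR]
    exact hr
  have hρc : ∀ (k : ℕ) (r : D), toCL ID hD r ∈
      ((I.map (RingHom.id A)) ^ k).map (algebraMap A R) →
      ∃ m : ℕ, (prodMap A B C D (algebraMap C T0 h)) ^ m * r ∈ (I ^ k).map (algebraMap A D) := by
    intro k r hr
    rw [eR] at hr
    obtain ⟨m, hm⟩ := toCL_closed ID hIDfg hD k r hr
    refine ⟨m, ?_⟩
    rw [hφt0, Ideal.map_pow, ← hIDA]
    exact hm
  have hDI1 := isDenseIso_baseChange_gen (RingHom.id A) (RingHom.id B) (toCL IC h) (toCL ID hD)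
    hβ hγ hρB' hρC' I (algebraMap C T0 h) hu hDI0 hTd hρd hρc
  rw [Ideal.map_id] at hDI1
  -- the rig-closed condition
  have hK : (ID.map (algebraMap D (Localization.Away hD))).map
      (algebraMap (Localization.Away hD) R) = I.map (algebraMap A R) := by
    rw [hIR]
    exact (map_toCL ID hD).symm
  have hqh' : ¬ I.map (algebraMap A R) ≤ qh.asIdeal ∧
      ∀ y : PrimeSpectrum R, qh ≤ y → ¬ I.map (algebraMap A R) ≤ y.asIdeal → y = qh := by
    rw [← hK]
    exact hqh
  have key := @rigFlat_of_denseIso A _ _ I _ B _ _ _ _ hAB C1 _ _ hNC1 R _ _ _ algC1R towABR towAC1R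
    hNR hCR hftR hDI1 qh hqh'
  have e : @algebraMap C1 R _ _ algC1R = ψh := RingHom.algebraMap_toAlgebra ψh
  rw [e] at key
  exact key

end Groth.Agent.Lib.Helper15.RigBC
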