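import Mathlib
import Groth.Prelude.Def_FSch3
import Groth.Agent.Lib.Helper14.ComplFlat
import Groth.Agent.Lib.Helper15.RigLoc5
import Groth.Agent.Lib.Helper15.RigComp1

/-!
# Composition of rig-flat morphisms (helper15): S8843
-/

set_option autoImplicit false
set_option linter.style.haveILetI false
set_option linter.unusedSectionVars false
set_option linter.style.longLine false

universe u

namespace Groth.Agent.Lib.Helper15.RigComp

theorem main8843 (A : Type u) [CommRing A] [IsNoetherianRing A] (I : Ideal A) [IsAdicComplete I A] (B : Type u) [CommRing B] [Algebra A B] [IsNoetherianRing B] [IsAdicComplete (I.map (algebraMap A B)) B] (hftB : Algebra.FiniteType A (B ⧸ (I.map (algebraMap A B)))) (C : Type u) [CommRing C] [Algebra A C] [Algebra B C] [IsScalarTower A B C] [IsNoetherianRing C] [IsAdicComplete (I.map (algebraMap A C)) C] (hftC : Algebra.FiniteType B (C ⧸ (I.map (algebraMap A C)))) (hAB : (∀ f : A, ∀ ψf : (AdicCompletion (I.map (algebraMap A (Localization.Away f))) (Localization.Away f)) →+* (AdicCompletion ((I.map (algebraMap A B)).map (algebraMap B (Localization.Away (algebraMap A B f)))) (Localization.Away (algebraMap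 A B f))), ψf.comp (algebraMap (Localization.Away f) (AdicCompletion (I.map (algebraMap A (Localization.Away f))) (Localization.Away f))) = (algebraMap (Localization.Away (algebraMap A B f)) (AdicCompletion ((I.map (algebraMap A B)).map (algebraMap B (Localization.Away (algebraMap A B f)))) (Localization.Away (algebraMap A B f)))).comp (Localization.awayMap (algebraMap A B) f) → ∀ qf : PrimeSpectrum (AdicCompletion ((I.map (algebraMap A B)).map (algebraMap B (Localization.Away (algebraMap A B f)))) (Localization.Away (algebraMap A B f))), (¬ (((I.map (algebraMap A B)).map (algebraMap B (Localization.Away (algebraMap A B f)))).map (algebraMap (Localization.Away (algebraMap A B f)) (AdicCompletion ((I.map (algebraMap A B)).map (algebraMap B (Localization.Away (algebraMap A B f)))) (Localization.Away (algebraMap A B f))))) ≤ qf.asIdeal ∧ ∀ y : PrimeSpectrum (AdicCompletion ((I.map (algebraMap A B)).map (algebraMap B (Localization.Away (algebraMap A B f)))) (Localization.Away (algebraMap A B f))), qf ≤ y → ¬ (((I.map (algebraMap A B)).map (algebraMap B (Localization.Away (algebraMap A B f)))).map (algebraMap (Localization.Away (algebraMap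 A B f)) (AdicCompletion ((I.map (algebraMap A B)).map (algebraMap B (Localization.Away (algebraMap A B f)))) (Localization.Away (algebraMap A B f))))) ≤ y.asIdeal → y = qf) → ((algebraMap (AdicCompletion ((I.map (algebraMap A B)).map (algebraMap B (Localization.Away (algebraMap A B f)))) (Localization.Away (algebraMap A B f))) (Localization.AtPrime qf.asIdeal)).comp ψf).Flat)) (hBC : (∀ g : B, ∀ ψg : (AdicCompletion ((I.map (algebraMap A B)).map (algebraMap B (Localization.Away g))) (Localization.Away g)) →+* (AdicCompletion (((I.map (algebraMap A B)).map (algebraMap B C)).map (algebraMap C (Localization.Away (algebraMap B C g)))) (Localization.Away (algebraMap B C g))), ψg.comp (algebraMap (Localization.Away g) (AdicCompletion ((I.map (algebraMap A B)).map (algebraMap B (Localization.Away g))) (Localization.Away g))) = (algebraMap (Localization.Away (algebraMap B C g)) (AdicCompletion (((I.map (algebraMap A B)).map (algebraMap B C)).map (algebraMap C (Localization.Away (algebraMap B C g)))) (Localization.Away (algebraMap B C g)))).comp (Localization.awayMap (algebraMap B C) g) → ∀ qg : PrimeSpectrum (AdicCompletion (((I.map (algebraMap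 A B)).map (algebraMap B C)).map (algebraMap C (Localization.Away (algebraMap B C g)))) (Localization.Away (algebraMap B C g))), (¬ ((((I.map (algebraMap A B)).map (algebraMap B C)).map (algebraMap C (Localization.Away (algebraMap B C g)))).map (algebraMap (Localization.Away (algebraMap B C g)) (AdicCompletion (((I.map (algebraMap A B)).map (algebraMap B C)).map (algebraMap C (Localization.Away (algebraMap B C g)))) (Localization.Away (algebraMap B C g))))) ≤ qg.asIdeal ∧ ∀ y : PrimeSpectrum (AdicCompletion (((I.map (algebraMap A B)).map (algebraMap B C)).map (algebraMap C (Localization.Away (algebraMap B C g)))) (Localization.Away (algebraMap B C g))), qg ≤ y → ¬ ((((I.map (algebraMap A B)).map (algebraMap B C)).map (algebraMap C (Localization.Away (algebraMap B C g)))).map (algebraMap (Localization.Away (algebraMap B C g)) (AdicCompletion (((I.map (algebraMap A B)).map (algebraMap B C)).map (algebraMap C (Localization.Away (algebraMap B C g)))) (Localization.Away (algebraMap B C g))))) ≤ y.asIdeal → y = qg) → ((algebraMap (AdicCompletion (((I.map (algebraMap A B)).map (algebraMap B C)).map (algebraMap C (Localization.Away (algebraMap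 B C g)))) (Localization.Away (algebraMap B C g))) (Localization.AtPrime qg.asIdeal)).comp ψg).Flat)) : (∀ e : A, ∀ ψe : (AdicCompletion (I.map (algebraMap A (Localization.Away e))) (Localization.Away e)) →+* (AdicCompletion ((I.map (algebraMap A C)).map (algebraMap C (Localization.Away (algebraMap A C e)))) (Localization.Away (algebraMap A C e))), ψe.comp (algebraMap (Localization.Away e) (AdicCompletion (I.map (algebraMap A (Localization.Away e))) (Localization.Away e))) = (algebraMap (Localization.Away (algebraMap A C e)) (AdicCompletion ((I.map (algebraMap A C)).map (algebraMap C (Localization.Away (algebraMap A C e)))) (Localization.Away (algebraMap A C e)))).comp (Localization.awayMap (algebraMap A C) e) → ∀ qe : PrimeSpectrum (AdicCompletion ((I.map (algebraMap A C)).map (algebraMap C (Localization.Away (algebraMap A C e)))) (Localization.Away (algebraMap A C e))), (¬ (((I.map (algebraMap A C)).map (algebraMap C (Localization.Away (algebraMap A C e)))).map (algebraMap (Localization.Away (algebraMap A C e)) (AdicCompletion ((I.map (algebraMap A C)).map (algebraMap C (Localization.Away (algebraMap A C e)))) (Localization.Away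 (algebraMap A C e))))) ≤ qe.asIdeal ∧ ∀ y : PrimeSpectrum (AdicCompletion ((I.map (algebraMap A C)).map (algebraMap C (Localization.Away (algebraMap A C e)))) (Localization.Away (algebraMap A C e))), qe ≤ y → ¬ (((I.map (algebraMap A C)).map (algebraMap C (Localization.Away (algebraMap A C e)))).map (algebraMap (Localization.Away (algebraMap A C e)) (AdicCompletion ((I.map (algebraMap A C)).map (algebraMap C (Localization.Away (algebraMap A C e)))) (Localization.Away (algebraMap A C e))))) ≤ y.asIdeal → y = qe) → ((algebraMap (AdicCompletion ((I.map (algebraMap A C)).map (algebraMap C (Localization.Away (algebraMap A C e)))) (Localization.Away (algebraMap A C e))) (Localization.AtPrime qe.asIdeal)).comp ψe).Flat)   := by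
  intro e ψe hψe qe hqe
  have key : ∀ (c : C) (_ : algebraMap B C (algebraMap A B e) = c) (K : Ideal C)
      (_ : (I.map (algebraMap A B)).map (algebraMap B C) = K)
      (α : Localization.Away e →+* Localization.Away c)
      (_ : ∀ a : A, α (algebraMap A (Localization.Away e) a) =
        algebraMap C (Localization.Away c) (algebraMap A C a))
      (ψ : AdicCompletion (I.map (algebraMap A (Localization.Away e))) (Localization.Away e) →+*
        AdicCompletion (K.map (algebraMap C (Localization.Away c))) (Localization.Away c))
      (_ : ψ.comp (algebraMap (Localization.Away e)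
          (AdicCompletion (I.map (algebraMap A (Localization.Away e))) (Localization.Away e))) =
        (algebraMap (Localization.Away c)
          (AdicCompletion (K.map (algebraMap C (Localization.Away c))) (Localization.Away c))).comp α)
      (q : PrimeSpectrum (AdicCompletion (K.map (algebraMap C (Localization.Away c)))
        (Localization.Away c)))
      (_ : ¬ ((K.map (algebraMap C (Localization.Away c))).map (algebraMap (Localization.Away c)
          (AdicCompletion (K.map (algebraMap C (Localization.Away c))) (Localization.Away c)))) ≤
            q.asIdeal ∧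
        ∀ y : PrimeSpectrum (AdicCompletion (K.map (algebraMap C (Localization.Away c)))
          (Localization.Away c)), q ≤ y →
          ¬ ((K.map (algebraMap C (Localization.Away c))).map (algebraMap (Localization.Away c)
            (AdicCompletion (K.map (algebraMap C (Localization.Away c))) (Localization.Away c)))) ≤
              y.asIdeal → y = q),
      ((algebraMap (AdicCompletion (K.map (algebraMap C (Localization.Away c)))
        (Localization.Away c)) (Localization.AtPrime q.asIdeal)).comp ψ).Flat := by
    intro c hc K hK α hα ψ hψ q hq
    subst hc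
    subst hK
    -- names
    let g : B := algebraMap A B e
    let Ae := Localization.Away e
    let IAe : Ideal Ae := I.map (algebraMap A Ae)
    let Aeh := AdicCompletion IAe Ae
    let Bg := Localization.Away g
    let IB : Ideal B := I.map (algebraMap A B)
    let IBg : Ideal Bg := IB.map (algebraMap B Bg)
    let Bgh := AdicCompletion IBg Bg
    let cg : C := algebraMap B C g
    let Ccg := Localization.Away cg
    let ICg : Ideal Ccg := (IB.map (algebraMap B C)).map (algebraMap C Ccg)
    let Ccgh := AdicCompletion ICg Ccg
    have hNAe : IsNoetherianRing Ae :=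
      IsLocalization.isNoetherianRing (Submonoid.powers e) Ae inferInstance
    have hNBg : IsNoetherianRing Bg :=
      IsLocalization.isNoetherianRing (Submonoid.powers g) Bg inferInstance
    have hNCcg : IsNoetherianRing Ccg :=
      IsLocalization.isNoetherianRing (Submonoid.powers cg) Ccg inferInstance
    have hNBgh : IsNoetherianRing Bgh :=
      Groth.Agent.Lib.Helper15.RigLoc.isNoetherianRing_cpl Bg IBg
    have hCC : IsAdicComplete (ICg.map (algebraMap Ccg Ccgh)) Ccgh :=
      AdicCompletion.isAdicComplete_self ICg (IsNoetherian.noetherian ICg)
    let aAB : Ae →+* Bg := Localization.awayMap (algebraMap A B) e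
    let aBC : Bg →+* Ccg := Localization.awayMap (algebraMap B C) g
    have haAB : ∀ a : A, aAB (algebraMap A Ae a) = algebraMap B Bg (algebraMap A B a) := by
      intro a
      simp only [aAB, Localization.awayMap, IsLocalization.Away.map]
      exact IsLocalization.map_eq _ a
    have haBC : ∀ b : B, aBC (algebraMap B Bg b) = algebraMap C Ccg (algebraMap B C b) := by
      intro b
      simp only [aBC, Localization.awayMap, IsLocalization.Away.map]
      exact IsLocalization.map_eq _ b
    have hf : IAe.map aAB ≤ IBg := by
      change (I.map (algebraMap A Ae)).map aAB ≤ IB.map (algebraMap B Bg)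
      rw [Ideal.map_map, Ideal.map_le_iff_le_comap]
      intro a ha
      rw [Ideal.mem_comap, RingHom.comp_apply, haAB]
      exact Ideal.mem_map_of_mem _ (Ideal.mem_map_of_mem _ ha)
    have hg : IBg.map aBC ≤ ICg := by
      change (IB.map (algebraMap B Bg)).map aBC ≤ (IB.map (algebraMap B C)).map (algebraMap C Ccg)
      rw [Ideal.map_map, Ideal.map_le_iff_le_comap]
      intro b hb
      rw [Ideal.mem_comap, RingHom.comp_apply, haBC]
      exact Ideal.mem_map_of_mem _ (Ideal.mem_map_of_mem _ hb)
    let ψf : Aeh →+* Bgh := FSch.complMap IAe IBg aAB hf
    let ψg : Bgh →+* Ccgh := FSch.complMap IBg ICg aBC hg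
    have hψf : ψf.comp (algebraMap Ae Aeh) = (algebraMap Bg Bgh).comp aAB :=
      RingHom.ext fun x => Groth.Agent.Lib.Helper14.complMap_of IAe IBg aAB hf x
    have hψg : ψg.comp (algebraMap Bg Bgh) = (algebraMap Ccg Ccgh).comp aBC :=
      RingHom.ext fun x => Groth.Agent.Lib.Helper14.complMap_of IBg ICg aBC hg x
    -- α is the composite
    have hαeq : α = aBC.comp aAB := by
      apply IsLocalization.ringHom_ext (Submonoid.powers e)
      refine RingHom.ext fun a => ?_
      have e1 : (α.comp (algebraMap A (Localization.Away e))) a =
          algebraMap C Ccg (algebraMap A C a) := hα a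
      have e2 : ((aBC.comp aAB).comp (algebraMap A (Localization.Away e))) a =
          algebraMap C Ccg (algebraMap A C a) := by
        change aBC (aAB (algebraMap A Ae a)) = _
        rw [haAB a, haBC (algebraMap A B a), ← IsScalarTower.algebraMap_apply A B C]
      exact e1.trans e2.symm
    -- uniqueness
    have hψeq : ψ = ψg.comp ψf := by
      apply ringHom_ext_cpl IAe (IsNoetherian.noetherian IAe) (ICg.map (algebraMap Ccg Ccgh))
      · rw [hψ, RingHom.comp_assoc, hψf, ← RingHom.comp_assoc, hψg, RingHom.comp_assoc, hαeq]
      · rw [hψ, ← Ideal.map_map]
        apply Ideal.map_mono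
        change (I.map (algebraMap A Ae)).map α ≤ (IB.map (algebraMap B C)).map (algebraMap C Ccg)
        rw [Ideal.map_map, Ideal.map_le_iff_le_comap]
        intro a ha
        rw [Ideal.mem_comap, RingHom.comp_apply, hα, IsScalarTower.algebraMap_apply A B C]
        exact Ideal.mem_map_of_mem _ (Ideal.mem_map_of_mem _ (Ideal.mem_map_of_mem _ ha))
    -- flatness
    have h2 := hBC g ψg hψg q hq
    let KB : Ideal Bgh := IBg.map (algebraMap Bg Bgh)
    have hKBmap : KB.map ψg = ICg.map (algebraMap Ccg Ccgh) := by
      change (IBg.map (algebraMap Bg Bgh)).map ψg = _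
      rw [Ideal.map_map, hψg, ← Ideal.map_map]
      congr 1
      change (IB.map (algebraMap B Bg)).map aBC = (IB.map (algebraMap B C)).map (algebraMap C Ccg)
      have : aBC.comp (algebraMap B Bg) = (algebraMap C Ccg).comp (algebraMap B C) :=
        RingHom.ext fun b => haBC b
      rw [Ideal.map_map (algebraMap B Bg) aBC, Ideal.map_map (algebraMap B C) (algebraMap C Ccg),
        this]
    have hr0 : ¬ KB ≤ q.asIdeal.comap ψg := by
      intro hle
      apply hq.1
      rw [← hKBmap, Ideal.map_le_iff_le_comap]
      exact hle
    obtain ⟨r1, hr01, hr1⟩ := exists_rigClosed_ge KB (q.asIdeal.comap ψg) hr0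
    have h1 := hAB e ψf hψf r1 hr1
    rw [hψeq]
    exact flat_comp_of_local ψf ψg r1.asIdeal q.asIdeal hr01 h1 h2
  refine key (algebraMap A C e) (IsScalarTower.algebraMap_apply A B C e).symm
    (I.map (algebraMap A C)) ?_ (Localization.awayMap (algebraMap A C) e) ?_ ψe hψe qe hqe
  · rw [Ideal.map_map, ← IsScalarTower.algebraMap_eq]
  · intro a
    simp only [Localization.awayMap, IsLocalization.Away.map]
    exact IsLocalization.map_eq _ a

end Groth.Agent.Lib.Helper15.RigComp
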