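import Mathlib
import Groth.Prelude.Def_FSch3
import Groth.Agent.Lib.Helper14.ComplFlat
import Groth.Agent.Lib.Helper18.CplFlat
import Groth.Agent.Lib.Helper15.RigLoc5
import Groth.Agent.Lib.Helper15.RigComp1
import Groth.Agent.Lib.Helper15.RigDesc1
import Groth.Agent.Lib.Helper15.RigDesc2

/-!
# Descent of rig-flatness (helper15): S8844
-/

set_option autoImplicit false
set_option linter.style.haveILetI false
set_option linter.unusedSectionVars false
set_option linter.style.longLine false

universe u

namespace Groth.Agent.Lib.Helper15.RigDesc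

open Groth.Agent.Lib.Helper15.RigComp

theorem main8844 (A : Type u) [CommRing A] [IsNoetherianRing A] (I : Ideal A) [IsAdicComplete I A] (B : Type u) [CommRing B] [Algebra A B] [IsNoetherianRing B] [IsAdicComplete (I.map (algebraMap A B)) B] (hftB : Algebra.FiniteType A (B ⧸ (I.map (algebraMap A B)))) (A' : Type u) [CommRing A'] [Algebra A A'] [IsNoetherianRing A'] [IsAdicComplete (I.map (algebraMap A A')) A'] (hftA' : Algebra.FiniteType A (A' ⧸ (I.map (algebraMap A A')))) (B' : Type u) [CommRing B'] [Algebra A B'] [Algebra B B'] [Algebra A' B'] [IsScalarTower A B B'] [IsScalarTower A A' B'] [IsNoetherianRing B'] [IsAdicComplete (I.map (algebraMap A B')) B'] (hftB'B : Algebra.FiniteType B (B' ⧸ (I.map (algebraMap A B')))) (hftB'A' : Algebra.FiniteType A' (B' ⧸ (I.map (algebraMap A B')))) [Module.Flat A A'] [Module.FaithfullyFlat B B'] (hA'B' : (∀ f' : A', ∀ ψf' : (AdicCompletion ((I.map (algebraMap A A')).map (algebraMap A' (Localization.Away f'))) (Localization.Away f')) →+* (AdicCompletion (((I.map (algebraMap A A')).map (algebraMap A' B')).map (algebraMap B' (Localization.Away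 (algebraMap A' B' f')))) (Localization.Away (algebraMap A' B' f'))), ψf'.comp (algebraMap (Localization.Away f') (AdicCompletion ((I.map (algebraMap A A')).map (algebraMap A' (Localization.Away f'))) (Localization.Away f'))) = (algebraMap (Localization.Away (algebraMap A' B' f')) (AdicCompletion (((I.map (algebraMap A A')).map (algebraMap A' B')).map (algebraMap B' (Localization.Away (algebraMap A' B' f')))) (Localization.Away (algebraMap A' B' f')))).comp (Localization.awayMap (algebraMap A' B') f') → ∀ qf' : PrimeSpectrum (AdicCompletion (((I.map (algebraMap A A')).map (algebraMap A' B')).map (algebraMap B' (Localization.Away (algebraMap A' B' f')))) (Localization.Away (algebraMap A' B' f'))), (¬ ((((I.map (algebraMap A A')).map (algebraMap A' B')).map (algebraMap B' (Localization.Away (algebraMap A' B' f')))).map (algebraMap (Localization.Away (algebraMap A' B' f')) (AdicCompletion (((I.map (algebraMap A A')).map (algebraMap A' B')).map (algebraMap B' (Localization.Away (algebraMap A' B' f')))) (Localization.Away (algebraMap A' B' f'))))) ≤ qf'.asIdeal ∧ ∀ y : PrimeSpectrum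 (AdicCompletion (((I.map (algebraMap A A')).map (algebraMap A' B')).map (algebraMap B' (Localization.Away (algebraMap A' B' f')))) (Localization.Away (algebraMap A' B' f'))), qf' ≤ y → ¬ ((((I.map (algebraMap A A')).map (algebraMap A' B')).map (algebraMap B' (Localization.Away (algebraMap A' B' f')))).map (algebraMap (Localization.Away (algebraMap A' B' f')) (AdicCompletion (((I.map (algebraMap A A')).map (algebraMap A' B')).map (algebraMap B' (Localization.Away (algebraMap A' B' f')))) (Localization.Away (algebraMap A' B' f'))))) ≤ y.asIdeal → y = qf') → ((algebraMap (AdicCompletion (((I.map (algebraMap A A')).map (algebraMap A' B')).map (algebraMap B' (Localization.Away (algebraMap A' B' f')))) (Localization.Away (algebraMap A' B' f'))) (Localization.AtPrime qf'.asIdeal)).comp ψf').Flat)) : (∀ f : A, ∀ ψf : (AdicCompletion (I.map (algebraMap A (Localization.Away f))) (Localization.Away f)) →+* (AdicCompletion ((I.map (algebraMap A B)).map (algebraMap B (Localization.Away (algebraMap A B f)))) (Localization.Away (algebraMap A B f))), ψf.comp (algebraMap (Localization.Away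 f) (AdicCompletion (I.map (algebraMap A (Localization.Away f))) (Localization.Away f))) = (algebraMap (Localization.Away (algebraMap A B f)) (AdicCompletion ((I.map (algebraMap A B)).map (algebraMap B (Localization.Away (algebraMap A B f)))) (Localization.Away (algebraMap A B f)))).comp (Localization.awayMap (algebraMap A B) f) → ∀ qf : PrimeSpectrum (AdicCompletion ((I.map (algebraMap A B)).map (algebraMap B (Localization.Away (algebraMap A B f)))) (Localization.Away (algebraMap A B f))), (¬ (((I.map (algebraMap A B)).map (algebraMap B (Localization.Away (algebraMap A B f)))).map (algebraMap (Localization.Away (algebraMap A B f)) (AdicCompletion ((I.map (algebraMap A B)).map (algebraMap B (Localization.Away (algebraMap A B f)))) (Localization.Away (algebraMap A B f))))) ≤ qf.asIdeal ∧ ∀ y : PrimeSpectrum (AdicCompletion ((I.map (algebraMap A B)).map (algebraMap B (Localization.Away (algebraMap A B f)))) (Localization.Away (algebraMap A B f))), qf ≤ y → ¬ (((I.map (algebraMap A B)).map (algebraMap B (Localization.Away (algebraMap A B f)))).map (algebraMap (Localization.Away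 (algebraMap A B f)) (AdicCompletion ((I.map (algebraMap A B)).map (algebraMap B (Localization.Away (algebraMap A B f)))) (Localization.Away (algebraMap A B f))))) ≤ y.asIdeal → y = qf) → ((algebraMap (AdicCompletion ((I.map (algebraMap A B)).map (algebraMap B (Localization.Away (algebraMap A B f)))) (Localization.Away (algebraMap A B f))) (Localization.AtPrime qf.asIdeal)).comp ψf).Flat) := by
  intro f ψf hψf qf hqf
  -- names
  let g : B := algebraMap A B f
  let f' : A' := algebraMap A A' f
  let b' : B' := algebraMap A' B' f'
  let Af := Localization.Away f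
  let IAf : Ideal Af := I.map (algebraMap A Af)
  let Afh := AdicCompletion IAf Af
  let Bg := Localization.Away g
  let IBg : Ideal Bg := (I.map (algebraMap A B)).map (algebraMap B Bg)
  let Bgh := AdicCompletion IBg Bg
  let Af' := Localization.Away f'
  let IAf' : Ideal Af' := (I.map (algebraMap A A')).map (algebraMap A' Af')
  let Afh' := AdicCompletion IAf' Af'
  let Bb' := Localization.Away b'
  let IBb' : Ideal Bb' := ((I.map (algebraMap A A')).map (algebraMap A' B')).map (algebraMap B' Bb')
  let Bbh' := AdicCompletion IBb' Bb'
  have hNAf : IsNoetherianRing Af :=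
    IsLocalization.isNoetherianRing (Submonoid.powers f) Af inferInstance
  have hNBg : IsNoetherianRing Bg :=
    IsLocalization.isNoetherianRing (Submonoid.powers g) Bg inferInstance
  have hNAf' : IsNoetherianRing Af' :=
    IsLocalization.isNoetherianRing (Submonoid.powers f') Af' inferInstance
  have hNBb' : IsNoetherianRing Bb' :=
    IsLocalization.isNoetherianRing (Submonoid.powers b') Bb' inferInstance
  have hNBbh' : IsNoetherianRing Bbh' :=
    Groth.Agent.Lib.Helper15.RigLoc.isNoetherianRing_cpl Bb' IBb'
  have hCC : IsAdicComplete (IBb'.map (algebraMap Bb' Bbh')) Bbh' :=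
    AdicCompletion.isAdicComplete_self IBb' (IsNoetherian.noetherian IBb')
  have hgb' : algebraMap B B' g = b' := by
    change algebraMap B B' (algebraMap A B f) = algebraMap A' B' (algebraMap A A' f)
    rw [← IsScalarTower.algebraMap_apply A B B', ← IsScalarTower.algebraMap_apply A A' B']
  -- the maps of localizations
  let aAB : Af →+* Bg := Localization.awayMap (algebraMap A B) f
  let aAB' : Af' →+* Bb' := Localization.awayMap (algebraMap A' B') f'
  let aAA : Af →+* Af' := Localization.awayMap (algebraMap A A') f
  have hunit : IsUnit (((algebraMap B' Bb').comp (algebraMap B B')) g) := by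
    rw [RingHom.comp_apply, hgb']
    exact IsLocalization.Away.algebraMap_isUnit b'
  let aBB : Bg →+* Bb' := IsLocalization.Away.lift g hunit
  have haAB : ∀ a : A, aAB (algebraMap A Af a) = algebraMap B Bg (algebraMap A B a) := by
    intro a
    simp only [aAB, Localization.awayMap, IsLocalization.Away.map]
    exact IsLocalization.map_eq _ a
  have haAB' : ∀ a : A', aAB' (algebraMap A' Af' a) = algebraMap B' Bb' (algebraMap A' B' a) := by
    intro a
    simp only [aAB', Localization.awayMap, IsLocalization.Away.map]
    exact IsLocalization.map_eq _ a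
  have haAA : ∀ a : A, aAA (algebraMap A Af a) = algebraMap A' Af' (algebraMap A A' a) := by
    intro a
    simp only [aAA, Localization.awayMap, IsLocalization.Away.map]
    exact IsLocalization.map_eq _ a
  have haBB : ∀ b : B, aBB (algebraMap B Bg b) = algebraMap B' Bb' (algebraMap B B' b) := by
    intro b
    exact IsLocalization.Away.lift_eq g hunit b
  -- ideals
  have hIAA : IAf.map aAA ≤ IAf' := by
    change (I.map (algebraMap A Af)).map aAA ≤ (I.map (algebraMap A A')).map (algebraMap A' Af')
    rw [Ideal.map_map (algebraMap A Af) aAA, Ideal.map_le_iff_le_comap]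
    intro a ha
    rw [Ideal.mem_comap, RingHom.comp_apply, haAA]
    exact Ideal.mem_map_of_mem _ (Ideal.mem_map_of_mem _ ha)
  have hIAB' : IAf'.map aAB' ≤ IBb' := by
    change ((I.map (algebraMap A A')).map (algebraMap A' Af')).map aAB' ≤
      ((I.map (algebraMap A A')).map (algebraMap A' B')).map (algebraMap B' Bb')
    rw [Ideal.map_map (algebraMap A' Af') aAB', Ideal.map_le_iff_le_comap]
    intro a ha
    rw [Ideal.mem_comap, RingHom.comp_apply, haAB']
    exact Ideal.mem_map_of_mem _ (Ideal.mem_map_of_mem _ ha)
  have hIBBeq : IBg.map aBB = IBb' := by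
    change ((I.map (algebraMap A B)).map (algebraMap B Bg)).map aBB =
      ((I.map (algebraMap A A')).map (algebraMap A' B')).map (algebraMap B' Bb')
    have e1 : aBB.comp (algebraMap B Bg) = (algebraMap B' Bb').comp (algebraMap B B') :=
      RingHom.ext haBB
    rw [Ideal.map_map (algebraMap B Bg) aBB, e1, ← Ideal.map_map (algebraMap B B') (algebraMap B' Bb'),
      Ideal.map_map (algebraMap A B) (algebraMap B B'), ← IsScalarTower.algebraMap_eq A B B',
      Ideal.map_map (algebraMap A A') (algebraMap A' B'), ← IsScalarTower.algebraMap_eq A A' B']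
  have hIBB : IBg.map aBB ≤ IBb' := hIBBeq.le
  -- completed maps
  let αX : Afh →+* Afh' := FSch.complMap IAf IAf' aAA hIAA
  let αY : Bgh →+* Bbh' := FSch.complMap IBg IBb' aBB hIBB
  let ψ' : Afh' →+* Bbh' := FSch.complMap IAf' IBb' aAB' hIAB'
  have hαX : αX.comp (algebraMap Af Afh) = (algebraMap Af' Afh').comp aAA :=
    RingHom.ext fun x => Groth.Agent.Lib.Helper14.complMap_of IAf IAf' aAA hIAA x
  have hαY : αY.comp (algebraMap Bg Bgh) = (algebraMap Bb' Bbh').comp aBB :=
    RingHom.ext fun x => Groth.Agent.Lib.Helper14.complMap_of IBg IBb' aBB hIBB x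
  have hψ' : ψ'.comp (algebraMap Af' Afh') = (algebraMap Bb' Bbh').comp aAB' :=
    RingHom.ext fun x => Groth.Agent.Lib.Helper14.complMap_of IAf' IBb' aAB' hIAB' x
  -- commutativity of the square of localizations
  have hsq0 : aAB'.comp aAA = aBB.comp aAB := by
    apply IsLocalization.ringHom_ext (Submonoid.powers f)
    refine RingHom.ext fun a => ?_
    have e1 : ((aAB'.comp aAA).comp (algebraMap A Af)) a =
        algebraMap B' Bb' (algebraMap A B' a) := by
      change aAB' (aAA (algebraMap A Af a)) = _
      rw [haAA a, haAB' (algebraMap A A' a), ← IsScalarTower.algebraMap_apply A A' B']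
    have e2 : ((aBB.comp aAB).comp (algebraMap A Af)) a =
        algebraMap B' Bb' (algebraMap A B' a) := by
      change aBB (aAB (algebraMap A Af a)) = _
      rw [haAB a, haBB (algebraMap A B a), ← IsScalarTower.algebraMap_apply A B B']
    exact e1.trans e2.symm
  -- commutativity of the completed square
  have hsq : ψ'.comp αX = αY.comp ψf := by
    apply ringHom_ext_cpl IAf (IsNoetherian.noetherian IAf) (IBb'.map (algebraMap Bb' Bbh'))
    · have eL : (ψ'.comp αX).comp (algebraMap Af Afh) =
          (algebraMap Bb' Bbh').comp (aAB'.comp aAA) := by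
        rw [RingHom.comp_assoc, hαX, ← RingHom.comp_assoc, hψ', RingHom.comp_assoc]
      have eR : (αY.comp ψf).comp (algebraMap Af Afh) =
          (algebraMap Bb' Bbh').comp (aBB.comp aAB) := by
        rw [RingHom.comp_assoc, hψf, ← RingHom.comp_assoc, hαY, RingHom.comp_assoc]
      rw [eL, eR, hsq0]
    · rw [RingHom.comp_assoc, hαX, ← RingHom.comp_assoc, hψ', RingHom.comp_assoc,
        ← Ideal.map_map (aAB'.comp aAA) (algebraMap Bb' Bbh')]
      apply Ideal.map_mono
      rw [← Ideal.map_map aAA aAB']
      exact (Ideal.map_mono hIAA).trans hIAB'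
  -- flatness
  have hflX : αX.Flat :=
    Groth.Agent.Lib.Helper18.CplFlat.flat_complMap' IAf IAf' aAA
      (flat_away_map f f' aAA haAA) hIAA
  have hflY : αY.Flat :=
    Groth.Agent.Lib.Helper18.CplFlat.flat_complMap' IBg IBb' aBB
      (flat_away_map g b' aBB haBB) hIBB
  -- lifting of maximal ideals
  have hmax : ∀ m : Ideal Bgh, m.IsMaximal → ∃ M' : Ideal Bbh', M'.IsPrime ∧ M'.comap αY = m := by
    intro m hm
    refine exists_prime_comap_complMap IBg (IsNoetherian.noetherian IBg) IBb' aBB hIBB ?_ m hm
    intro p hp hIp
    obtain ⟨P', hP'prime, hP'comap⟩ := exists_prime_comap_away g b' hgb' aBB haBB p hp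
    refine ⟨P', hP'prime, ?_, hP'comap⟩
    rw [← hIBBeq, Ideal.map_le_iff_le_comap, hP'comap]
    exact hIp
  have hK : (IBg.map (algebraMap Bg Bgh)).map αY = IBb'.map (algebraMap Bb' Bbh') := by
    rw [Ideal.map_map (algebraMap Bg Bgh) αY, hαY, ← Ideal.map_map aBB (algebraMap Bb' Bbh'), hIBBeq]
  exact descent_abstract ψf ψ' αX αY hsq (IBg.map (algebraMap Bg Bgh))
    (IBb'.map (algebraMap Bb' Bbh')) hK hflX hflY hmax
    (fun q' hq' => hA'B' f' ψ' hψ' q' hq') qf hqf

end Groth.Agent.Lib.Helper15.RigDesc
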