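import Mathlib
import Groth.Agent.Lib.Helper21.CompleteFlat

/-!
# Flatness modulo an ideal over an unramified quotient (helper15)
-/

set_option autoImplicit false
set_option linter.style.haveILetI false
set_option linter.unusedSectionVars false
set_option linter.style.longLine false

universe u

open TensorProduct

namespace Groth.Agent.Lib.Helper15.RigEt

set_option maxHeartbeats 800000 in
theorem flat_quotient_of_unramified (B D B' : Type u) [CommRing B] [CommRing D] [CommRing B']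
    [Algebra B D] [Algebra D B'] [Algebra B B'] [IsScalarTower B D B'] [Module.Flat B B']
    (𝔠 : Ideal B)
    [Algebra.FormallyUnramified (B ⧸ 𝔠) (D ⧸ 𝔠.map (algebraMap B D))]
    [Algebra.EssFiniteType (B ⧸ 𝔠) (D ⧸ 𝔠.map (algebraMap B D))] :
    Module.Flat (D ⧸ 𝔠.map (algebraMap B D))
      (B' ⧸ (𝔠.map (algebraMap B D) • ⊤ : Submodule D B')) := by
  letI modBn : Module (B ⧸ 𝔠) (B' ⧸ (𝔠.map (algebraMap B D) • ⊤ : Submodule D B')) :=
    Module.compHom _ (algebraMap (B ⧸ 𝔠) (D ⧸ 𝔠.map (algebraMap B D)))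
  have hsm : ∀ (r : B ⧸ 𝔠) (m : B' ⧸ (𝔠.map (algebraMap B D) • ⊤ : Submodule D B')),
      r • m = algebraMap (B ⧸ 𝔠) (D ⧸ 𝔠.map (algebraMap B D)) r • m := fun _ _ => rfl
  haveI tow1 : IsScalarTower (B ⧸ 𝔠) (D ⧸ 𝔠.map (algebraMap B D))
      (B' ⧸ (𝔠.map (algebraMap B D) • ⊤ : Submodule D B')) :=
    ⟨fun r s m => by
      rw [hsm, Algebra.smul_def r s, mul_smul]⟩
  haveI tow2 : IsScalarTower B (B ⧸ 𝔠) (B' ⧸ (𝔠.map (algebraMap B D) • ⊤ : Submodule D B')) :=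
    ⟨fun b r m => by
      rw [hsm, hsm, Algebra.smul_def b r, map_mul, mul_smul,
        ← IsScalarTower.algebraMap_apply B (B ⧸ 𝔠) (D ⧸ 𝔠.map (algebraMap B D)), algebraMap_smul]⟩
  -- flatness over `B ⧸ 𝔠`
  have h : ((𝔠.map (algebraMap B D) • ⊤ : Submodule D B')).restrictScalars B =
      (𝔠 • ⊤ : Submodule B B') := by
    ext x
    rw [Submodule.restrictScalars_mem]
    exact Groth.Agent.Lib.Helper21.mem_map_smul_top_iff 𝔠 x
  let e' : (B' ⧸ (𝔠.map (algebraMap B D) • ⊤ : Submodule D B')) ≃ₗ[B]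
      B' ⧸ (𝔠 • ⊤ : Submodule B B') :=
    (Submodule.Quotient.restrictScalarsEquiv B
      (𝔠.map (algebraMap B D) • ⊤ : Submodule D B')).symm ≪≫ₗ Submodule.quotEquivOfEq _ _ h
  haveI hfl0 : Module.Flat (B ⧸ 𝔠) (B' ⧸ (𝔠 • ⊤ : Submodule B B')) :=
    Groth.Agent.Lib.Helper21.flat_quotient_of_flat 𝔠
  haveI hfl1 : Module.Flat (B ⧸ 𝔠) (B' ⧸ (𝔠.map (algebraMap B D) • ⊤ : Submodule D B')) :=
    Module.Flat.of_linearEquiv (e'.extendScalarsOfSurjective Ideal.Quotient.mk_surjective)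
  exact Algebra.FormallyUnramified.flat_of_restrictScalars (R := B ⧸ 𝔠)
    (S := D ⧸ 𝔠.map (algebraMap B D)) _

end Groth.Agent.Lib.Helper15.RigEt
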