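import Mathlib
import Groth.Agent.Lib.Helper21.CompleteFlat
import Groth.Agent.Lib.Helper15.RigBC7
import Groth.Agent.Lib.Helper15.RigEt1
import Groth.Agent.Lib.Helper15.RigEt2

/-!
# Flatness of an algebra over a completed tensor product with an étale-mod-`I` factor (helper15)
-/

set_option autoImplicit false
set_option linter.style.haveILetI false
set_option linter.unusedSectionVars false
set_option linter.style.longLine false

universe u

open TensorProduct

namespace Groth.Agent.Lib.Helper15.RigEt

open Groth.Agent.Lib.Helper15.RigBC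

set_option maxHeartbeats 1600000 in
theorem flat_of_completedTensor
    (A : Type u) [CommRing A] (I : Ideal A)
    (A' : Type u) [CommRing A'] [Algebra A A'] [IsNoetherianRing A']
    (hftA' : Algebra.FiniteType A (A' ⧸ I.map (algebraMap A A')))
    [Algebra.FormallyUnramified A (A' ⧸ I.map (algebraMap A A'))]
    (B : Type u) [CommRing B] [Algebra A B]
    (D : Type u) [CommRing D] [Algebra A D] [Algebra B D] [Algebra A' D] [IsScalarTower A B D]
    [IsScalarTower A A' D] [IsNoetherianRing D]
    (hDI0 : IsDenseIso (I.map (algebraMap A (A' ⊗[A] B))) (prodMap A B A' D).toRingHom)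
    (B' : Type u) [CommRing B'] [Algebra B B'] [Algebra D B'] [IsScalarTower B D B']
    [Module.Flat B B']
    [IsAdicComplete (((I.map (algebraMap A B)).map (algebraMap B D)).map (algebraMap D B')) B'] :
    Module.Flat D B' := by
  haveI hc : IsAdicComplete ((I.map (algebraMap A B)).map (algebraMap B D)) B' :=
    (IsAdicComplete.map_algebraMap_iff (R := D) (S := B')
      ((I.map (algebraMap A B)).map (algebraMap B D)) B').mp inferInstance
  apply Groth.Agent.Lib.Helper21.flat_of_isAdicComplete_of_quotFlat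
    ((I.map (algebraMap A B)).map (algebraMap B D))
  intro m
  -- ideals
  have hPA : ((I.map (algebraMap A B)) ^ m).map (algebraMap B D) = (I ^ m).map (algebraMap A D) := by
    rw [← Ideal.map_pow, Ideal.map_map, ← IsScalarTower.algebraMap_eq]
  have hpow : ((I.map (algebraMap A B)).map (algebraMap B D)) ^ m =
      ((I.map (algebraMap A B)) ^ m).map (algebraMap B D) := (Ideal.map_pow _ _ _).symm
  rw [hpow]
  -- the truncation of `A'`
  have hIA'fg : (I.map (algebraMap A A')).FG := IsNoetherian.noetherian _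
  have hftQ : Algebra.FiniteType A (A' ⧸ (I.map (algebraMap A A')) ^ m) :=
    finiteType_quotient_pow A A' _ hIA'fg hftA' m
  have hbot : (I.map (algebraMap A (A' ⧸ (I.map (algebraMap A A')) ^ m))) ^ m = ⊥ := by
    have e1 : I.map (algebraMap A (A' ⧸ (I.map (algebraMap A A')) ^ m)) =
        (I.map (algebraMap A A')).map (Ideal.Quotient.mk ((I.map (algebraMap A A')) ^ m)) := by
      rw [Ideal.map_map (algebraMap A A') (Ideal.Quotient.mk ((I.map (algebraMap A A')) ^ m))]
      rfl
    rw [e1, ← Ideal.map_pow (Ideal.Quotient.mk ((I.map (algebraMap A A')) ^ m))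
      (I.map (algebraMap A A')) m]
    exact Ideal.map_quotient_self _
  haveI hunr0 : Algebra.FormallyUnramified A ((A' ⧸ (I.map (algebraMap A A')) ^ m) ⧸
      I.map (algebraMap A (A' ⧸ (I.map (algebraMap A A')) ^ m))) := by
    let g0 : A' →ₐ[A] ((A' ⧸ (I.map (algebraMap A A')) ^ m) ⧸
        I.map (algebraMap A (A' ⧸ (I.map (algebraMap A A')) ^ m))) :=
      (Ideal.Quotient.mkₐ A _).comp (Ideal.Quotient.mkₐ A _)
    have hg0 : ∀ a ∈ I.map (algebraMap A A'), g0 a = 0 := by
      intro a ha
      change Ideal.Quotient.mk _ (Ideal.Quotient.mk _ a) = 0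
      rw [Ideal.Quotient.eq_zero_iff_mem]
      have h1 := Ideal.mem_map_of_mem (Ideal.Quotient.mk ((I.map (algebraMap A A')) ^ m)) ha
      rw [Ideal.map_map] at h1
      exact h1
    let g : (A' ⧸ I.map (algebraMap A A')) →ₐ[A] _ := Ideal.Quotient.liftₐ _ g0 hg0
    have hg : Function.Surjective g := by
      intro z
      obtain ⟨z1, rfl⟩ := Ideal.Quotient.mk_surjective z
      obtain ⟨z2, rfl⟩ := Ideal.Quotient.mk_surjective z1
      exact ⟨Ideal.Quotient.mk _ z2, rfl⟩
    exact Algebra.FormallyUnramified.of_surjective g hg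
  haveI hunrQ : Algebra.FormallyUnramified A (A' ⧸ (I.map (algebraMap A A')) ^ m) :=
    formallyUnramified_of_quotient_nilpotent A _ I m hbot
  -- the surjection from the base change
  have hker : ∀ a ∈ (I.map (algebraMap A A')) ^ m,
      ((Ideal.Quotient.mkₐ A (((I.map (algebraMap A B)) ^ m).map (algebraMap B D))).comp
        (IsScalarTower.toAlgHom A A' D)) a = 0 := by
    intro a ha
    change Ideal.Quotient.mk _ (algebraMap A' D a) = 0
    rw [Ideal.Quotient.eq_zero_iff_mem, hPA]
    have h1 := Ideal.mem_map_of_mem (algebraMap A' D) ha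
    rw [← Ideal.map_pow, Ideal.map_map, ← IsScalarTower.algebraMap_eq] at h1
    exact h1
  let g : (A' ⧸ (I.map (algebraMap A A')) ^ m) →ₐ[A]
      D ⧸ ((I.map (algebraMap A B)) ^ m).map (algebraMap B D) :=
    Ideal.Quotient.liftₐ _ _ hker
  let φ : B ⊗[A] (A' ⧸ (I.map (algebraMap A A')) ^ m) →ₐ[B]
      D ⧸ ((I.map (algebraMap A B)) ^ m).map (algebraMap B D) :=
    Algebra.TensorProduct.lift (Algebra.ofId B _) g (fun _ _ => Commute.all _ _)
  have hφ0 : ∀ t : A' ⊗[A] B, ∃ x, φ x =
      Ideal.Quotient.mk (((I.map (algebraMap A B)) ^ m).map (algebraMap B D))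
        (prodMap A B A' D t) := by
    intro t
    induction t using TensorProduct.induction_on with
    | zero => exact ⟨0, by rw [map_zero, map_zero, map_zero]⟩
    | tmul a' b =>
      refine ⟨b ⊗ₜ Ideal.Quotient.mk _ a', ?_⟩
      rw [Algebra.TensorProduct.lift_tmul, prodMap_tmul', map_mul, mul_comm]
      rfl
    | add x y hx hy =>
      obtain ⟨x', hx'⟩ := hx
      obtain ⟨y', hy'⟩ := hy
      exact ⟨x' + y', by rw [map_add, hx', hy', map_add, map_add]⟩
  have hφ : Function.Surjective φ := by
    intro z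
    obtain ⟨d, rfl⟩ := Ideal.Quotient.mk_surjective z
    obtain ⟨t, ht⟩ := hDI0.dense m d
    rw [map_pow_prodMap', ← hPA] at ht
    obtain ⟨x, hx⟩ := hφ0 t
    exact ⟨x, hx.trans (Ideal.Quotient.eq.mpr ht).symm⟩
  haveI := hftQ
  haveI hunrB : Algebra.FormallyUnramified B
      (D ⧸ ((I.map (algebraMap A B)) ^ m).map (algebraMap B D)) :=
    Algebra.FormallyUnramified.of_surjective φ hφ
  haveI hftB : Algebra.FiniteType B (D ⧸ ((I.map (algebraMap A B)) ^ m).map (algebraMap B D)) :=
    Algebra.FiniteType.of_surjective φ hφ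
  haveI hunrBn : Algebra.FormallyUnramified (B ⧸ (I.map (algebraMap A B)) ^ m)
      (D ⧸ ((I.map (algebraMap A B)) ^ m).map (algebraMap B D)) :=
    Algebra.FormallyUnramified.of_restrictScalars B _ _
  haveI hftBn : Algebra.FiniteType (B ⧸ (I.map (algebraMap A B)) ^ m)
      (D ⧸ ((I.map (algebraMap A B)) ^ m).map (algebraMap B D)) :=
    Algebra.FiniteType.of_restrictScalars_finiteType B _ _
  haveI := flat_quotient_of_unramified B D B' ((I.map (algebraMap A B)) ^ m)
  exact Groth.Agent.Lib.Helper21.quotFlat_of_flat_quotient _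

end Groth.Agent.Lib.Helper15.RigEt
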