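import Mathlib
import Groth.Agent.S8843
import Groth.Agent.Lib.Helper15.RigBC6
import Groth.Agent.Lib.Helper15.RigBC8

/-!
# Flat base change of rig-flatness, abstract form (helper15)
-/

set_option autoImplicit false
set_option linter.style.haveILetI false
set_option linter.unusedSectionVars false
set_option linter.style.longLine false

universe u

open TensorProduct

namespace Groth.Agent.Lib.Helper15.RigEt

open Groth.Agent.Lib.Helper15.RigBC Groth.Agent.Lib.Helper15.RigComp

/-- flat maps are rig-flat. -/
theorem rigFlat_of_flat (B : Type u) [CommRing B] [IsNoetherianRing B] (J : Ideal B)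
    (C : Type u) [CommRing C] [Algebra B C] [IsNoetherianRing C] [Module.Flat B C] :
    ∀ g : B, ∀ ψg : (AdicCompletion (J.map (algebraMap B (Localization.Away g))) (Localization.Away g)) →+* (AdicCompletion ((J.map (algebraMap B C)).map (algebraMap C (Localization.Away (algebraMap B C g)))) (Localization.Away (algebraMap B C g))), ψg.comp (algebraMap (Localization.Away g) (AdicCompletion (J.map (algebraMap B (Localization.Away g))) (Localization.Away g))) = (algebraMap (Localization.Away (algebraMap B C g)) (AdicCompletion ((J.map (algebraMap B C)).map (algebraMap C (Localization.Away (algebraMap B C g)))) (Localization.Away (algebraMap B C g)))).comp (Localization.awayMap (algebraMap B C) g) → ∀ qg : PrimeSpectrum (AdicCompletion ((J.map (algebraMap B C)).map (algebraMap C (Localization.Away (algebraMap B C g)))) (Localization.Away (algebraMap B C g))), ((algebraMap (AdicCompletion ((J.map (algebraMap B C)).map (algebraMap C (Localization.Away (algebraMap B C g)))) (Localization.Away (algebraMap B C g))) (Localization.AtPrime qg.asIdeal)).comp ψg).Flat := by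
  intro g ψg hψg qg
  have hJfg : J.FG := IsNoetherian.noetherian J
  have hJCfg : (J.map (algebraMap B C)).FG := hJfg.map _
  have hψ : ψg = clMap (algebraMap B C) J (J.map (algebraMap B C)) le_rfl g (algebraMap B C g) rfl := by
    apply clMap_unique (algebraMap B C) J hJfg (J.map (algebraMap B C)) hJCfg le_rfl g
      (algebraMap B C g) rfl
    unfold toCL
    rw [← RingHom.comp_assoc, hψg, RingHom.comp_assoc, RingHom.comp_assoc]
    congr 1
    refine RingHom.ext fun b => ?_
    simp only [RingHom.comp_apply, Localization.awayMap, IsLocalization.Away.map]
    exact IsLocalization.map_eq _ b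
  have hfl : ψg.Flat := by
    rw [hψ]
    exact clMap_flat (algebraMap B C) (RingHom.flat_algebraMap_iff.mpr inferInstance) J
      (J.map (algebraMap B C)) le_rfl g (algebraMap B C g) rfl
  refine RingHom.Flat.comp hfl ?_
  exact RingHom.flat_algebraMap_iff.mpr (IsLocalization.flat _ qg.asIdeal.primeCompl)

set_option maxHeartbeats 1600000 in
theorem main8845_aux (A : Type u) [CommRing A] (I : Ideal A)
    (A' : Type u) [CommRing A'] [Algebra A A'] [IsNoetherianRing A']
    [IsAdicComplete (I.map (algebraMap A A')) A']
    (B' : Type u) [CommRing B'] [Algebra A' B'] [IsNoetherianRing B']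
    [IsAdicComplete ((I.map (algebraMap A A')).map (algebraMap A' B')) B']
    (D : Type u) [CommRing D] [Algebra A' D] [Algebra D B'] [IsScalarTower A' D B']
    [IsNoetherianRing D] [IsAdicComplete ((I.map (algebraMap A A')).map (algebraMap A' D)) D]
    (hftD : Algebra.FiniteType A' (D ⧸ (I.map (algebraMap A A')).map (algebraMap A' D)))
    (hftB'D : Algebra.FiniteType D (B' ⧸ (I.map (algebraMap A A')).map (algebraMap A' B')))
    (hA'D : (∀ h : A', ∀ ψh : (AdicCompletion ((I.map (algebraMap A A')).map (algebraMap A' (Localization.Away h))) (Localization.Away h)) →+* (AdicCompletion (((I.map (algebraMap A A')).map (algebraMap A' D)).map (algebraMap D (Localization.Away (algebraMap A' D h)))) (Localization.Away (algebraMap A' D h))), ψh.comp (algebraMap (Localization.Away h) (AdicCompletion ((I.map (algebraMap A A')).map (algebraMap A' (Localization.Away h))) (Localization.Away h))) = (algebraMap (Localization.Away (algebraMap A' D h)) (AdicCompletion (((I.map (algebraMap A A')).map (algebraMap A' D)).map (algebraMap D (Localization.Away (algebraMap A' D h)))) (Localization.Away (algebraMap A' D h)))).comp (Localization.awayMap (algebraMap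 A' D) h) → ∀ qh : PrimeSpectrum (AdicCompletion (((I.map (algebraMap A A')).map (algebraMap A' D)).map (algebraMap D (Localization.Away (algebraMap A' D h)))) (Localization.Away (algebraMap A' D h))), (¬ ((((I.map (algebraMap A A')).map (algebraMap A' D)).map (algebraMap D (Localization.Away (algebraMap A' D h)))).map (algebraMap (Localization.Away (algebraMap A' D h)) (AdicCompletion (((I.map (algebraMap A A')).map (algebraMap A' D)).map (algebraMap D (Localization.Away (algebraMap A' D h)))) (Localization.Away (algebraMap A' D h))))) ≤ qh.asIdeal ∧ ∀ y : PrimeSpectrum (AdicCompletion (((I.map (algebraMap A A')).map (algebraMap A' D)).map (algebraMap D (Localization.Away (algebraMap A' D h)))) (Localization.Away (algebraMap A' D h))), qh ≤ y → ¬ ((((I.map (algebraMap A A')).map (algebraMap A' D)).map (algebraMap D (Localization.Away (algebraMap A' D h)))).map (algebraMap (Localization.Away (algebraMap A' D h)) (AdicCompletion (((I.map (algebraMap A A')).map (algebraMap A' D)).map (algebraMap D (Localization.Away (algebraMap A' D h)))) (Localization.Away (algebraMap A' D h))))) ≤ y.asIdeal → y = qh) → ((algebraMap (AdicCompletion (((I.map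 (algebraMap A A')).map (algebraMap A' D)).map (algebraMap D (Localization.Away (algebraMap A' D h)))) (Localization.Away (algebraMap A' D h))) (Localization.AtPrime qh.asIdeal)).comp ψh).Flat))
    [Module.Flat D B'] :
    (∀ f' : A', ∀ ψf' : (AdicCompletion ((I.map (algebraMap A A')).map (algebraMap A' (Localization.Away f'))) (Localization.Away f')) →+* (AdicCompletion (((I.map (algebraMap A A')).map (algebraMap A' B')).map (algebraMap B' (Localization.Away (algebraMap A' B' f')))) (Localization.Away (algebraMap A' B' f'))), ψf'.comp (algebraMap (Localization.Away f') (AdicCompletion ((I.map (algebraMap A A')).map (algebraMap A' (Localization.Away f'))) (Localization.Away f'))) = (algebraMap (Localization.Away (algebraMap A' B' f')) (AdicCompletion (((I.map (algebraMap A A')).map (algebraMap A' B')).map (algebraMap B' (Localization.Away (algebraMap A' B' f')))) (Localization.Away (algebraMap A' B' f')))).comp (Localization.awayMap (algebraMap A' B') f') → ∀ qf' : PrimeSpectrum (AdicCompletion (((I.map (algebraMap A A')).map (algebraMap A' B')).map (algebraMap B' (Localization.Away (algebraMap A' B' f')))) (Localization.Away (algebraMap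 A' B' f'))), (¬ ((((I.map (algebraMap A A')).map (algebraMap A' B')).map (algebraMap B' (Localization.Away (algebraMap A' B' f')))).map (algebraMap (Localization.Away (algebraMap A' B' f')) (AdicCompletion (((I.map (algebraMap A A')).map (algebraMap A' B')).map (algebraMap B' (Localization.Away (algebraMap A' B' f')))) (Localization.Away (algebraMap A' B' f'))))) ≤ qf'.asIdeal ∧ ∀ y : PrimeSpectrum (AdicCompletion (((I.map (algebraMap A A')).map (algebraMap A' B')).map (algebraMap B' (Localization.Away (algebraMap A' B' f')))) (Localization.Away (algebraMap A' B' f'))), qf' ≤ y → ¬ ((((I.map (algebraMap A A')).map (algebraMap A' B')).map (algebraMap B' (Localization.Away (algebraMap A' B' f')))).map (algebraMap (Localization.Away (algebraMap A' B' f')) (AdicCompletion (((I.map (algebraMap A A')).map (algebraMap A' B')).map (algebraMap B' (Localization.Away (algebraMap A' B' f')))) (Localization.Away (algebraMap A' B' f'))))) ≤ y.asIdeal → y = qf') → ((algebraMap (AdicCompletion (((I.map (algebraMap A A')).map (algebraMap A' B')).map (algebraMap B' (Localization.Away (algebraMap A' B' f')))) (Localization.Away (algebraMap A' B' f')))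 (Localization.AtPrime qf'.asIdeal)).comp ψf').Flat) := by
  have hDB' := rigFlat_of_flat D ((I.map (algebraMap A A')).map (algebraMap A' D)) B'
  exact Groth.Agent.S8843.result A' (I.map (algebraMap A A')) D hftD B' hftB'D hA'D
    (fun g ψg hψg qg _ => hDB' g ψg hψg qg)

end Groth.Agent.Lib.Helper15.RigEt
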