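import Mathlib
import Groth.Agent.S8846
import Groth.Agent.Lib.Helper15.RigBC11
import Groth.Agent.Lib.Helper15.RigEt3
import Groth.Agent.Lib.Helper15.RigEt4
import Groth.Agent.Lib.Helper21.AdicNoetherian

/-!
# Flat base change of rig-flatness (helper15): S8845
-/

set_option autoImplicit false
set_option linter.style.haveILetI false
set_option linter.unusedSectionVars false
set_option linter.style.longLine false

universe u

open TensorProduct

namespace Groth.Agent.Lib.Helper15.RigEt

open Groth.Agent.Lib.Helper15.RigBC Groth.Agent.Lib.Helper15.RigComp

set_option maxHeartbeats 1600000 in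
theorem main8845 (A : Type u) [CommRing A] [IsNoetherianRing A] (I : Ideal A) [IsAdicComplete I A] (B : Type u) [CommRing B] [Algebra A B] [IsNoetherianRing B] [IsAdicComplete (I.map (algebraMap A B)) B] (hftB : Algebra.FiniteType A (B ⧸ (I.map (algebraMap A B)))) (A' : Type u) [CommRing A'] [Algebra A A'] [IsNoetherianRing A'] [IsAdicComplete (I.map (algebraMap A A')) A'] (hftA' : Algebra.FiniteType A (A' ⧸ (I.map (algebraMap A A')))) (B' : Type u) [CommRing B'] [Algebra A B'] [Algebra B B'] [Algebra A' B'] [IsScalarTower A B B'] [IsScalarTower A A' B'] [IsNoetherianRing B'] [IsAdicComplete (I.map (algebraMap A B')) B'] (hftB'B : Algebra.FiniteType B (B' ⧸ (I.map (algebraMap A B')))) (hftB'A' : Algebra.FiniteType A' (B' ⧸ (I.map (algebraMap A B')))) [Module.Flat A A'] [Module.Flat B B'] [Algebra.Etale (A ⧸ I) (A' ⧸ (I.map (algebraMap A A')))] (hAB : (∀ f : A, ∀ ψf : (AdicCompletion (I.map (algebraMap A (Localization.Away f))) (Localization.Away f)) →+* (AdicCompletion ((I.map (algebraMap A B)).map (algebraMap B (Localization.Away (algebraMap A B f)))) (Localization.Away (algebraMap A B f))), ψf.comp (algebraMap (Localization.Away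 f) (AdicCompletion (I.map (algebraMap A (Localization.Away f))) (Localization.Away f))) = (algebraMap (Localization.Away (algebraMap A B f)) (AdicCompletion ((I.map (algebraMap A B)).map (algebraMap B (Localization.Away (algebraMap A B f)))) (Localization.Away (algebraMap A B f)))).comp (Localization.awayMap (algebraMap A B) f) → ∀ qf : PrimeSpectrum (AdicCompletion ((I.map (algebraMap A B)).map (algebraMap B (Localization.Away (algebraMap A B f)))) (Localization.Away (algebraMap A B f))), (¬ (((I.map (algebraMap A B)).map (algebraMap B (Localization.Away (algebraMap A B f)))).map (algebraMap (Localization.Away (algebraMap A B f)) (AdicCompletion ((I.map (algebraMap A B)).map (algebraMap B (Localization.Away (algebraMap A B f)))) (Localization.Away (algebraMap A B f))))) ≤ qf.asIdeal ∧ ∀ y : PrimeSpectrum (AdicCompletion ((I.map (algebraMap A B)).map (algebraMap B (Localization.Away (algebraMap A B f)))) (Localization.Away (algebraMap A B f))), qf ≤ y → ¬ (((I.map (algebraMap A B)).map (algebraMap B (Localization.Away (algebraMap A B f)))).map (algebraMap (Localization.Away (algebraMap A B f)) (AdicCompletion ((I.map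 (algebraMap A B)).map (algebraMap B (Localization.Away (algebraMap A B f)))) (Localization.Away (algebraMap A B f))))) ≤ y.asIdeal → y = qf) → ((algebraMap (AdicCompletion ((I.map (algebraMap A B)).map (algebraMap B (Localization.Away (algebraMap A B f)))) (Localization.Away (algebraMap A B f))) (Localization.AtPrime qf.asIdeal)).comp ψf).Flat)) : (∀ f' : A', ∀ ψf' : (AdicCompletion ((I.map (algebraMap A A')).map (algebraMap A' (Localization.Away f'))) (Localization.Away f')) →+* (AdicCompletion (((I.map (algebraMap A A')).map (algebraMap A' B')).map (algebraMap B' (Localization.Away (algebraMap A' B' f')))) (Localization.Away (algebraMap A' B' f'))), ψf'.comp (algebraMap (Localization.Away f') (AdicCompletion ((I.map (algebraMap A A')).map (algebraMap A' (Localization.Away f'))) (Localization.Away f'))) = (algebraMap (Localization.Away (algebraMap A' B' f')) (AdicCompletion (((I.map (algebraMap A A')).map (algebraMap A' B')).map (algebraMap B' (Localization.Away (algebraMap A' B' f')))) (Localization.Away (algebraMap A' B' f')))).comp (Localization.awayMap (algebraMap A' B') f') → ∀ qf' : PrimeSpectrum (AdicCompletion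 (((I.map (algebraMap A A')).map (algebraMap A' B')).map (algebraMap B' (Localization.Away (algebraMap A' B' f')))) (Localization.Away (algebraMap A' B' f'))), (¬ ((((I.map (algebraMap A A')).map (algebraMap A' B')).map (algebraMap B' (Localization.Away (algebraMap A' B' f')))).map (algebraMap (Localization.Away (algebraMap A' B' f')) (AdicCompletion (((I.map (algebraMap A A')).map (algebraMap A' B')).map (algebraMap B' (Localization.Away (algebraMap A' B' f')))) (Localization.Away (algebraMap A' B' f'))))) ≤ qf'.asIdeal ∧ ∀ y : PrimeSpectrum (AdicCompletion (((I.map (algebraMap A A')).map (algebraMap A' B')).map (algebraMap B' (Localization.Away (algebraMap A' B' f')))) (Localization.Away (algebraMap A' B' f'))), qf' ≤ y → ¬ ((((I.map (algebraMap A A')).map (algebraMap A' B')).map (algebraMap B' (Localization.Away (algebraMap A' B' f')))).map (algebraMap (Localization.Away (algebraMap A' B' f')) (AdicCompletion (((I.map (algebraMap A A')).map (algebraMap A' B')).map (algebraMap B' (Localization.Away (algebraMap A' B' f')))) (Localization.Away (algebraMap A' B' f'))))) ≤ y.asIdeal → y = qf') → ((algebraMap (AdicCompletion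 (((I.map (algebraMap A A')).map (algebraMap A' B')).map (algebraMap B' (Localization.Away (algebraMap A' B' f')))) (Localization.Away (algebraMap A' B' f'))) (Localization.AtPrime qf'.asIdeal)).comp ψf').Flat) := by
  have hICfg : (I.map (algebraMap A A')).FG := IsNoetherian.noetherian _
  have hJ0fg : ((I.map (algebraMap A A')).map (algebraMap A' (TensorProduct A A' B))).FG := hICfg.map _
  have hftT : Algebra.FiniteType A ((TensorProduct A A' B) ⧸ ((I.map (algebraMap A A')).map (algebraMap A' (TensorProduct A A' B)))) := finiteType_tensor_quotient A I B A' hftB hftA'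
  haveI hNTJ : IsNoetherianRing ((TensorProduct A A' B) ⧸ ((I.map (algebraMap A A')).map (algebraMap A' (TensorProduct A A' B)))) := Algebra.FiniteType.isNoetherianRing A _
  haveI hND : IsNoetherianRing (AdicCompletion ((I.map (algebraMap A A')).map (algebraMap A' (TensorProduct A A' B))) (TensorProduct A A' B)) :=
    Groth.Agent.Lib.Helper21.isNoetherianRing_adicCompletion_of_fg ((I.map (algebraMap A A')).map (algebraMap A' (TensorProduct A A' B))) hJ0fg
  haveI towACD : IsScalarTower A A' (AdicCompletion ((I.map (algebraMap A A')).map (algebraMap A' (TensorProduct A A' B))) (TensorProduct A A' B)) := by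
    refine IsScalarTower.of_algebraMap_eq fun a => ?_
    rw [IsScalarTower.algebraMap_apply A (TensorProduct A A' B) (AdicCompletion ((I.map (algebraMap A A')).map (algebraMap A' (TensorProduct A A' B))) (TensorProduct A A' B)), IsScalarTower.algebraMap_apply A' (TensorProduct A A' B) (AdicCompletion ((I.map (algebraMap A A')).map (algebraMap A' (TensorProduct A A' B))) (TensorProduct A A' B)),
      ← IsScalarTower.algebraMap_apply A A' (TensorProduct A A' B)]
  have hJ0D : ((I.map (algebraMap A A')).map (algebraMap A' (TensorProduct A A' B))).map (algebraMap (TensorProduct A A' B) (AdicCompletion ((I.map (algebraMap A A')).map (algebraMap A' (TensorProduct A A' B))) (TensorProduct A A' B))) = ((I.map (algebraMap A A')).map (algebraMap A' (AdicCompletion ((I.map (algebraMap A A')).map (algebraMap A' (TensorProduct A A' B))) (TensorProduct A A' B)))) := by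
    rw [Ideal.map_map (algebraMap A' (TensorProduct A A' B)) (algebraMap (TensorProduct A A' B) (AdicCompletion ((I.map (algebraMap A A')).map (algebraMap A' (TensorProduct A A' B))) (TensorProduct A A' B))), ← IsScalarTower.algebraMap_eq A' (TensorProduct A A' B) (AdicCompletion ((I.map (algebraMap A A')).map (algebraMap A' (TensorProduct A A' B))) (TensorProduct A A' B))]
  have hJ0A : ((I.map (algebraMap A A')).map (algebraMap A' (TensorProduct A A' B))) = I.map (algebraMap A (TensorProduct A A' B)) := by
    rw [Ideal.map_map (algebraMap A A') (algebraMap A' (TensorProduct A A' B)), ← IsScalarTower.algebraMap_eq A A' (TensorProduct A A' B)]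
  letI algBD : Algebra B (AdicCompletion ((I.map (algebraMap A A')).map (algebraMap A' (TensorProduct A A' B))) (TensorProduct A A' B)) :=
    ((algebraMap (TensorProduct A A' B) (AdicCompletion ((I.map (algebraMap A A')).map (algebraMap A' (TensorProduct A A' B))) (TensorProduct A A' B))).comp (Algebra.TensorProduct.includeRight : B →ₐ[A] (TensorProduct A A' B)).toRingHom).toAlgebra
  haveI towABD : IsScalarTower A B (AdicCompletion ((I.map (algebraMap A A')).map (algebraMap A' (TensorProduct A A' B))) (TensorProduct A A' B)) := by
    refine IsScalarTower.of_algebraMap_eq fun a => ?_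
    change algebraMap A (AdicCompletion ((I.map (algebraMap A A')).map (algebraMap A' (TensorProduct A A' B))) (TensorProduct A A' B)) a = algebraMap (TensorProduct A A' B) (AdicCompletion ((I.map (algebraMap A A')).map (algebraMap A' (TensorProduct A A' B))) (TensorProduct A A' B))
      ((Algebra.TensorProduct.includeRight : B →ₐ[A] (TensorProduct A A' B)) (algebraMap A B a))
    rw [AlgHom.commutes]
    exact IsScalarTower.algebraMap_apply A (TensorProduct A A' B) (AdicCompletion ((I.map (algebraMap A A')).map (algebraMap A' (TensorProduct A A' B))) (TensorProduct A A' B)) a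
  have hftD : Algebra.FiniteType A ((AdicCompletion ((I.map (algebraMap A A')).map (algebraMap A' (TensorProduct A A' B))) (TensorProduct A A' B)) ⧸ ((I.map (algebraMap A A')).map (algebraMap A' (AdicCompletion ((I.map (algebraMap A A')).map (algebraMap A' (TensorProduct A A' B))) (TensorProduct A A' B))))) := by
    have h1 := finiteType_quotient_cpl (A := A) ((I.map (algebraMap A A')).map (algebraMap A' (TensorProduct A A' B))) hJ0fg hftT
    rw [hJ0D] at h1
    exact h1
  have hprod : (prodMap A B A' (AdicCompletion ((I.map (algebraMap A A')).map (algebraMap A' (TensorProduct A A' B))) (TensorProduct A A' B))).toRingHom = algebraMap (TensorProduct A A' B) (AdicCompletion ((I.map (algebraMap A A')).map (algebraMap A' (TensorProduct A A' B))) (TensorProduct A A' B)) := by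
    refine RingHom.ext fun t => ?_
    change prodMap A B A' (AdicCompletion ((I.map (algebraMap A A')).map (algebraMap A' (TensorProduct A A' B))) (TensorProduct A A' B)) t = algebraMap (TensorProduct A A' B) (AdicCompletion ((I.map (algebraMap A A')).map (algebraMap A' (TensorProduct A A' B))) (TensorProduct A A' B)) t
    induction t using TensorProduct.induction_on with
    | zero => rw [map_zero, map_zero]
    | tmul c b =>
      rw [prodMap_tmul', IsScalarTower.algebraMap_apply A' (TensorProduct A A' B) (AdicCompletion ((I.map (algebraMap A A')).map (algebraMap A' (TensorProduct A A' B))) (TensorProduct A A' B))]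
      change algebraMap (TensorProduct A A' B) (AdicCompletion ((I.map (algebraMap A A')).map (algebraMap A' (TensorProduct A A' B))) (TensorProduct A A' B)) (algebraMap A' (TensorProduct A A' B) c) * algebraMap (TensorProduct A A' B) (AdicCompletion ((I.map (algebraMap A A')).map (algebraMap A' (TensorProduct A A' B))) (TensorProduct A A' B)) ((1 : A') ⊗ₜ[A] b) = _
      rw [← map_mul, Algebra.TensorProduct.algebraMap_apply, Algebra.TensorProduct.tmul_mul_tmul,
        mul_one, one_mul]
      rfl
    | add x y hx hy => rw [map_add, map_add, hx, hy]
  have hDI0 : IsDenseIso (I.map (algebraMap A (TensorProduct A A' B))) (prodMap A B A' (AdicCompletion ((I.map (algebraMap A A')).map (algebraMap A' (TensorProduct A A' B))) (TensorProduct A A' B))).toRingHom := by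
    rw [hprod, ← hJ0A]
    exact isDenseIso_of ((I.map (algebraMap A A')).map (algebraMap A' (TensorProduct A A' B))) hJ0fg
  -- the map to `B'`
  have hι : ((I.map (algebraMap A A')).map (algebraMap A' (TensorProduct A A' B))).map (prodMap A B A' B').toRingHom ≤ (I.map (algebraMap A B')) := by
    rw [hJ0A, Ideal.map_map, prodMap_comp_algebraMap']
  let δ : (AdicCompletion ((I.map (algebraMap A A')).map (algebraMap A' (TensorProduct A A' B))) (TensorProduct A A' B)) →+* B' :=
    ((AdicCompletion.ofAlgEquiv (I.map (algebraMap A B'))).symm : AdicCompletion (I.map (algebraMap A B')) B' →+* B').comp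
      (FSch.complMap ((I.map (algebraMap A A')).map (algebraMap A' (TensorProduct A A' B))) (I.map (algebraMap A B')) (prodMap A B A' B').toRingHom hι)
  have hδ : ∀ t : (TensorProduct A A' B), δ (algebraMap (TensorProduct A A' B) (AdicCompletion ((I.map (algebraMap A A')).map (algebraMap A' (TensorProduct A A' B))) (TensorProduct A A' B)) t) = prodMap A B A' B' t := by
    intro t
    change (AdicCompletion.ofAlgEquiv (I.map (algebraMap A B'))).symm
      (FSch.complMap ((I.map (algebraMap A A')).map (algebraMap A' (TensorProduct A A' B))) (I.map (algebraMap A B')) (prodMap A B A' B').toRingHom hι (AdicCompletion.of ((I.map (algebraMap A A')).map (algebraMap A' (TensorProduct A A' B))) (TensorProduct A A' B) t)) = _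
    rw [Groth.Agent.Lib.Helper14.complMap_of]
    exact AdicCompletion.ofAlgEquiv_symm_of (I.map (algebraMap A B')) _
  letI algDB' : Algebra (AdicCompletion ((I.map (algebraMap A A')).map (algebraMap A' (TensorProduct A A' B))) (TensorProduct A A' B)) B' := δ.toAlgebra
  haveI towA'DB' : IsScalarTower A' (AdicCompletion ((I.map (algebraMap A A')).map (algebraMap A' (TensorProduct A A' B))) (TensorProduct A A' B)) B' := by
    refine IsScalarTower.of_algebraMap_eq fun a => ?_
    change algebraMap A' B' a = δ (algebraMap A' (AdicCompletion ((I.map (algebraMap A A')).map (algebraMap A' (TensorProduct A A' B))) (TensorProduct A A' B)) a)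
    rw [IsScalarTower.algebraMap_apply A' (TensorProduct A A' B) (AdicCompletion ((I.map (algebraMap A A')).map (algebraMap A' (TensorProduct A A' B))) (TensorProduct A A' B)), hδ, AlgHom.commutes]
  haveI towBDB' : IsScalarTower B (AdicCompletion ((I.map (algebraMap A A')).map (algebraMap A' (TensorProduct A A' B))) (TensorProduct A A' B)) B' := by
    refine IsScalarTower.of_algebraMap_eq fun b => ?_
    change algebraMap B B' b = δ (algebraMap (TensorProduct A A' B) (AdicCompletion ((I.map (algebraMap A A')).map (algebraMap A' (TensorProduct A A' B))) (TensorProduct A A' B)) ((1 : A') ⊗ₜ[A] b))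
    rw [hδ, prodMap_tmul', map_one, one_mul]
  -- completeness
  haveI hCD : IsAdicComplete ((I.map (algebraMap A A')).map (algebraMap A' (AdicCompletion ((I.map (algebraMap A A')).map (algebraMap A' (TensorProduct A A' B))) (TensorProduct A A' B)))) (AdicCompletion ((I.map (algebraMap A A')).map (algebraMap A' (TensorProduct A A' B))) (TensorProduct A A' B)) := by
    rw [← hJ0D]
    exact AdicCompletion.isAdicComplete_self ((I.map (algebraMap A A')).map (algebraMap A' (TensorProduct A A' B))) hJ0fg
  have hIB'1 : ((I.map (algebraMap A A')).map (algebraMap A' B')) = (I.map (algebraMap A B')) := by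
    rw [Ideal.map_map (algebraMap A A') (algebraMap A' B'), ← IsScalarTower.algebraMap_eq A A' B']
  haveI hCB'1 : IsAdicComplete ((I.map (algebraMap A A')).map (algebraMap A' B')) B' := by
    rw [hIB'1]
    infer_instance
  have hIB'2 : (((I.map (algebraMap A B)).map (algebraMap B (AdicCompletion ((I.map (algebraMap A A')).map (algebraMap A' (TensorProduct A A' B))) (TensorProduct A A' B)))).map (algebraMap (AdicCompletion ((I.map (algebraMap A A')).map (algebraMap A' (TensorProduct A A' B))) (TensorProduct A A' B)) B')) = (I.map (algebraMap A B')) := by
    rw [Ideal.map_map (algebraMap B (AdicCompletion ((I.map (algebraMap A A')).map (algebraMap A' (TensorProduct A A' B))) (TensorProduct A A' B))) (algebraMap (AdicCompletion ((I.map (algebraMap A A')).map (algebraMap A' (TensorProduct A A' B))) (TensorProduct A A' B)) B'), ← IsScalarTower.algebraMap_eq B (AdicCompletion ((I.map (algebraMap A A')).map (algebraMap A' (TensorProduct A A' B))) (TensorProduct A A' B)) B',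
      Ideal.map_map (algebraMap A B) (algebraMap B B'), ← IsScalarTower.algebraMap_eq A B B']
  haveI hCB'2 : IsAdicComplete (((I.map (algebraMap A B)).map (algebraMap B (AdicCompletion ((I.map (algebraMap A A')).map (algebraMap A' (TensorProduct A A' B))) (TensorProduct A A' B)))).map (algebraMap (AdicCompletion ((I.map (algebraMap A A')).map (algebraMap A' (TensorProduct A A' B))) (TensorProduct A A' B)) B')) B' := by
    rw [hIB'2]
    infer_instance
  -- finite type
  have hftD' : Algebra.FiniteType A' ((AdicCompletion ((I.map (algebraMap A A')).map (algebraMap A' (TensorProduct A A' B))) (TensorProduct A A' B)) ⧸ ((I.map (algebraMap A A')).map (algebraMap A' (AdicCompletion ((I.map (algebraMap A A')).map (algebraMap A' (TensorProduct A A' B))) (TensorProduct A A' B))))) :=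
    Algebra.FiniteType.of_restrictScalars_finiteType A A' _
  have hftB'D : Algebra.FiniteType (AdicCompletion ((I.map (algebraMap A A')).map (algebraMap A' (TensorProduct A A' B))) (TensorProduct A A' B)) (B' ⧸ ((I.map (algebraMap A A')).map (algebraMap A' B'))) := by
    rw [hIB'1]
    exact Algebra.FiniteType.of_restrictScalars_finiteType B (AdicCompletion ((I.map (algebraMap A A')).map (algebraMap A' (TensorProduct A A' B))) (TensorProduct A A' B)) _
  -- unramifiedness
  haveI hunr : Algebra.FormallyUnramified A (A' ⧸ (I.map (algebraMap A A'))) :=
    Algebra.FormallyUnramified.comp A (A ⧸ I) (A' ⧸ (I.map (algebraMap A A')))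
  -- flatness
  haveI hflat : Module.Flat (AdicCompletion ((I.map (algebraMap A A')).map (algebraMap A' (TensorProduct A A' B))) (TensorProduct A A' B)) B' := flat_of_completedTensor A I A' hftA' B (AdicCompletion ((I.map (algebraMap A A')).map (algebraMap A' (TensorProduct A A' B))) (TensorProduct A A' B)) hDI0 B'
  have hA'D := Groth.Agent.S8846.result A I B hftB hAB A' hftA'
  exact main8845_aux A I A' B' (AdicCompletion ((I.map (algebraMap A A')).map (algebraMap A' (TensorProduct A A' B))) (TensorProduct A A' B)) hftD' hftB'D hA'D

end Groth.Agent.Lib.Helper15.RigEt
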