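import Mathlib
import Groth.Agent.Lib.Helper9.FlatCrit2

/-!
# Flatness over a completion-like extension of the base (helper15)

`A → A1` a ring map with `A1` Noetherian, `S'` a Noetherian `A1`-algebra which is flat over `A`,
`𝔭` an ideal of `A` with `𝔭 S'` in the Jacobson radical of `S'`, and `A → A1 ⧸ 𝔭ⁿ A1` surjective for
all `n > 0`.  Then `S'` is flat over `A1`.
-/

set_option autoImplicit false
set_option linter.style.haveILetI false
set_option linter.unusedSectionVars false

universe u

open TensorProduct

namespace Groth.Agent.Lib.Helper15.RigFlat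

section
variable {A A1 : Type u} {S' : Type*} [CommRing A] [CommRing A1] [CommRing S'] [Algebra A A1]
  [Algebra A S'] [Algebra A1 S'] [IsScalarTower A A1 S']

/-- scalars of `A1` can be moved across `⊗[A]` for modules killed by `K A1` when `A → A1 ⧸ K A1`
is surjective. -/
theorem compatibleSMul_of_dense (K : Ideal A)
    (hK : ∀ x : A1, ∃ a : A, x - algebraMap A A1 a ∈ K.map (algebraMap A A1))
    (X : Type*) [AddCommGroup X] [Module A X] [Module A1 X] [IsScalarTower A A1 X]
    (hX : Module.IsTorsionBySet A1 X (K.map (algebraMap A A1) : Set A1)) :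
    TensorProduct.CompatibleSMul A A1 S' X := by
  have hkill : ∀ d ∈ K.map (algebraMap A A1), ∀ x : X, d • x = 0 := fun d hd x =>
    @hX x ⟨d, hd⟩
  have hzero : ∀ d ∈ K.map (algebraMap A A1), ∀ (s : S') (x : X), (d • s) ⊗ₜ[A] x = 0 := by
    intro d hd
    unfold Ideal.map at hd
    induction hd using Submodule.span_induction with
    | mem d hd =>
      obtain ⟨k, hk, rfl⟩ := hd
      intro s x
      rw [algebraMap_smul, TensorProduct.smul_tmul]
      have : k • x = 0 := by
        rw [← algebraMap_smul A1 k x]
        exact hkill _ (Ideal.mem_map_of_mem _ hk) x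
      rw [this, TensorProduct.tmul_zero]
    | zero => intro s x; rw [zero_smul, TensorProduct.zero_tmul]
    | add d e _ _ hd he =>
      intro s x
      rw [add_smul, TensorProduct.add_tmul, hd, he, add_zero]
    | smul c d _ hd =>
      intro s x
      rw [smul_eq_mul, mul_comm, mul_smul]
      exact hd (c • s) x
  refine ⟨fun r s x => ?_⟩
  obtain ⟨a, ha⟩ := hK r
  have hr : r = (r - algebraMap A A1 a) + algebraMap A A1 a := by ring
  have h1 : r • s = (r - algebraMap A A1 a) • s + a • s := by
    conv_lhs => rw [hr]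
    rw [add_smul, algebraMap_smul]
  have h2 : r • x = a • x := by
    conv_lhs => rw [hr]
    rw [add_smul, algebraMap_smul, hkill _ ha, zero_add]
  rw [h1, h2, TensorProduct.add_tmul, hzero _ ha, zero_add, TensorProduct.smul_tmul]

variable [IsNoetherianRing A1] [IsNoetherianRing S'] [Module.Flat A S']

theorem flat_of_flat_of_dense (𝔭 : Ideal A)
    (h1 : (𝔭.map (algebraMap A A1)).map (algebraMap A1 S') ≤ Ideal.jacobson ⊥)
    (h2 : ∀ n : ℕ, 0 < n → ∀ x : A1, ∃ a : A,
      x - algebraMap A A1 a ∈ (𝔭 ^ n).map (algebraMap A A1)) :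
    Module.Flat A1 S' := by
  apply Groth.Agent.Lib.Helper9.flat_of_injOnTorsion_pow (R := A1) (S := S') (M := S')
    (𝔭.map (algebraMap A A1)) h1
  intro n hn X Y _ _ _ _ hX hY j hj
  rw [← Ideal.map_pow] at hX hY
  letI : Module A X := Module.compHom X (algebraMap A A1)
  haveI : IsScalarTower A A1 X := IsScalarTower.of_algebraMap_smul fun r x => rfl
  letI : Module A Y := Module.compHom Y (algebraMap A A1)
  haveI : IsScalarTower A A1 Y := IsScalarTower.of_algebraMap_smul fun r x => rfl
  haveI hcX : TensorProduct.CompatibleSMul A A1 S' X :=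
    compatibleSMul_of_dense (𝔭 ^ n) (h2 n hn) X hX
  haveI hcY : TensorProduct.CompatibleSMul A A1 S' Y :=
    compatibleSMul_of_dense (𝔭 ^ n) (h2 n hn) Y hY
  let τX : S' ⊗[A1] X →ₗ[A] S' ⊗[A] X := TensorProduct.mapOfCompatibleSMul A A1 A S' X
  let τY : S' ⊗[A1] Y →ₗ[A] S' ⊗[A] Y := TensorProduct.mapOfCompatibleSMul A A1 A S' Y
  let σX : S' ⊗[A] X →ₗ[A] S' ⊗[A1] X := TensorProduct.mapOfCompatibleSMul A1 A A S' X
  have hστ : ∀ z, σX (τX z) = z := by
    intro z
    induction z using TensorProduct.induction_on with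
    | zero => simp
    | add x y hx hy => simp only [map_add, hx, hy]
    | tmul s x => rfl
  let jA : X →ₗ[A] Y := j.restrictScalars A
  have hjA : Function.Injective (jA.lTensor S') :=
    Module.Flat.lTensor_preserves_injective_linearMap jA hj
  have hnat : ∀ z, τY (j.lTensor S' z) = jA.lTensor S' (τX z) := by
    intro z
    induction z using TensorProduct.induction_on with
    | zero => simp
    | add x y hx hy => simp only [map_add, hx, hy]
    | tmul s x => rfl
  rw [injective_iff_map_eq_zero]
  intro z hz
  have h3 : jA.lTensor S' (τX z) = 0 := by rw [← hnat, hz, map_zero]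
  have h4 : τX z = 0 := hjA (h3.trans (map_zero _).symm)
  rw [← hστ z, h4, map_zero]

end

end Groth.Agent.Lib.Helper15.RigFlat
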