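import Mathlib
import Groth.Agent.Lib.Helper21.AdicNoetherian

/-!
# Density of `A` in the completed localization modulo an ideal where `f` is a unit (helper15)
-/

set_option autoImplicit false
set_option linter.style.haveILetI false
set_option linter.unusedSectionVars false

universe u

namespace Groth.Agent.Lib.Helper15.RigFlat

theorem exists_sub_mem_map_of_unit (A : Type u) [CommRing A] [IsNoetherianRing A] (I : Ideal A)
    [IsAdicComplete I A] (K : Ideal A) (f g : A) (hfg : f * g - 1 ∈ K) :
    ∀ x : AdicCompletion (I.map (algebraMap A (Localization.Away f))) (Localization.Away f),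
    ∃ a : A, x - algebraMap A
        (AdicCompletion (I.map (algebraMap A (Localization.Away f))) (Localization.Away f)) a ∈
      K.map (algebraMap A
        (AdicCompletion (I.map (algebraMap A (Localization.Away f))) (Localization.Away f))) := by
  set R := Localization.Away f with hR
  set J : Ideal R := I.map (algebraMap A R) with hJ
  set Rh := AdicCompletion J R with hRh
  set P : Ideal Rh := K.map (algebraMap A Rh) with hP
  have hJfg : J.FG := Ideal.FG.map (IsNoetherian.noetherian I) _
  have hNR : IsNoetherianRing R := IsLocalization.isNoetherianRing (Submonoid.powers f) R inferInstance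
  have hNRh : IsNoetherianRing Rh :=
    Groth.Agent.Lib.Helper21.isNoetherianRing_adicCompletion_of_fg J hJfg
  have hcomp : IsAdicComplete (J.map (algebraMap R Rh)) Rh := AdicCompletion.isAdicComplete_self J hJfg
  have htower : IsScalarTower A R Rh := IsScalarTower.of_algebraMap_eq (fun a => rfl)
  have hJRh : J.map (algebraMap R Rh) = I.map (algebraMap A Rh) := by
    change (I.map (algebraMap A R)).map (algebraMap R Rh) = _
    rw [Ideal.map_map, ← IsScalarTower.algebraMap_eq]
  have hfgk : ∀ k : ℕ, (f * g) ^ k - 1 ∈ K := by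
    intro k
    rw [← Ideal.Quotient.eq_zero_iff_mem, map_sub, map_pow, map_one, sub_eq_zero]
    have h1 : Ideal.Quotient.mk K (f * g) = 1 := by
      rw [← map_one (Ideal.Quotient.mk K), Ideal.Quotient.eq]
      exact hfg
    rw [h1, one_pow]
  have hPmap : (K.map (algebraMap A R)).map (algebraMap R Rh) = P := by
    rw [hP, Ideal.map_map, ← IsScalarTower.algebraMap_eq]
  -- approximation modulo `I`
  have happrox : ∀ x : Rh, ∃ a : A, x - algebraMap A Rh a ∈ I.map (algebraMap A Rh) ⊔ P := by
    intro x
    obtain ⟨r, hr⟩ := Ideal.Quotient.mk_surjective (AdicCompletion.evalOneₐ J x)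
    have h1 : x - algebraMap R Rh r ∈ I.map (algebraMap A Rh) := by
      rw [← hJRh, ← AdicCompletion.ker_evalOneₐ_eq_map J hJfg, RingHom.mem_ker]
      change AdicCompletion.evalOneₐ J (x - algebraMap R Rh r) = 0
      rw [map_sub, ← hr]
      exact sub_eq_zero.mpr (AdicCompletion.evalOneₐ_of J r).symm
    obtain ⟨k, a', ha'⟩ := IsLocalization.Away.surj f r
    refine ⟨a' * g ^ k, ?_⟩
    have h2 : r - algebraMap A R (a' * g ^ k) ∈ K.map (algebraMap A R) := by
      have e : r - algebraMap A R (a' * g ^ k) = - (r * algebraMap A R ((f * g) ^ k - 1)) := by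
        rw [map_mul, ← ha']
        simp only [map_sub, map_pow, map_mul, map_one]
        ring
      rw [e]
      exact Ideal.neg_mem_iff _ |>.mpr (Ideal.mul_mem_left _ _ (Ideal.mem_map_of_mem _ (hfgk k)))
    have h3 : algebraMap R Rh r - algebraMap A Rh (a' * g ^ k) ∈ P := by
      rw [← hPmap, IsScalarTower.algebraMap_apply A R Rh, ← map_sub]
      exact Ideal.mem_map_of_mem _ h2
    have e2 : x - algebraMap A Rh (a' * g ^ k) =
        (x - algebraMap R Rh r) + (algebraMap R Rh r - algebraMap A Rh (a' * g ^ k)) := by ring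
    rw [e2]
    exact Ideal.add_mem _ (Ideal.mem_sup_left h1) (Ideal.mem_sup_right h3)
  have hjac : I.map (algebraMap A Rh) ≤ (⊥ : Ideal Rh).jacobson := by
    rw [← hJRh]
    exact IsAdicComplete.le_jacobson_bot _
  have hH1 : IsHausdorff (I.map (algebraMap A Rh)) (Rh ⧸ P) := IsHausdorff.of_le_jacobson _ _ hjac
  have hH : IsHausdorff I (Rh ⧸ P) := IsHausdorff.map_algebraMap_iff.mp hH1
  have hsurj' : Function.Surjective (Algebra.linearMap A (Rh ⧸ P)) := by
    apply surjective_of_mkQ_comp_surjective (I := I)
    intro y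
    obtain ⟨ybar, rfl⟩ := Submodule.mkQ_surjective _ y
    obtain ⟨x, rfl⟩ := Ideal.Quotient.mk_surjective ybar
    obtain ⟨a, ha⟩ := happrox x
    refine ⟨a, ?_⟩
    rw [LinearMap.comp_apply, Submodule.mkQ_apply, Submodule.mkQ_apply, Submodule.Quotient.eq,
      Ideal.smul_top_eq_map, Submodule.restrictScalars_mem, Algebra.linearMap_apply,
      IsScalarTower.algebraMap_apply A Rh (Rh ⧸ P), Ideal.Quotient.algebraMap_eq, ← map_sub,
      IsScalarTower.algebraMap_eq A Rh (Rh ⧸ P), ← Ideal.map_map, Ideal.Quotient.algebraMap_eq,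
      ← Ideal.neg_mem_iff, ← map_neg, neg_sub, Ideal.mem_quotient_iff_mem_sup]
    exact ha
  intro x
  obtain ⟨a, ha⟩ := hsurj' (Ideal.Quotient.mk P x)
  refine ⟨a, ?_⟩
  rw [Algebra.linearMap_apply, IsScalarTower.algebraMap_apply A Rh (Rh ⧸ P),
    Ideal.Quotient.algebraMap_eq] at ha
  exact Ideal.Quotient.eq.mp ha.symm

end Groth.Agent.Lib.Helper15.RigFlat
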