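import Mathlib
import Groth.Agent.Lib.Helper15.RigClosed

/-!
# Small lemmas for the rig-flatness statements (helper15)
-/

set_option autoImplicit false
set_option linter.style.haveILetI false
set_option linter.unusedSectionVars false

universe u

namespace Groth.Agent.Lib.Helper15.RigFlat

/-- In a quotient which is local, an element outside a maximal ideal containing the kernel is a
unit. -/
theorem isUnit_mk_of_notMem {R : Type*} [CommRing R] (p : Ideal R) [IsLocalRing (R ⧸ p)]
    (n : Ideal R) (hn : n.IsMaximal) (hpn : p ≤ n) (x : R) (hx : x ∉ n) :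
    IsUnit (Ideal.Quotient.mk p x) := by
  by_contra hnu
  have hmem : Ideal.Quotient.mk p x ∈ IsLocalRing.maximalIdeal (R ⧸ p) :=
    (IsLocalRing.mem_maximalIdeal _).mpr hnu
  have hmk : Function.Surjective (Ideal.Quotient.mk p) := Ideal.Quotient.mk_surjective
  have hker : RingHom.ker (Ideal.Quotient.mk p) ≤ n := by rw [Ideal.mk_ker]; exact hpn
  have h1 : (n.map (Ideal.Quotient.mk p)).IsMaximal :=
    Ideal.IsMaximal.map_of_surjective_of_ker_le hmk hker
  have h2 : n.map (Ideal.Quotient.mk p) = IsLocalRing.maximalIdeal (R ⧸ p) :=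
    IsLocalRing.eq_maximalIdeal h1
  rw [← h2] at hmem
  have h3 : x ∈ (n.map (Ideal.Quotient.mk p)).comap (Ideal.Quotient.mk p) := hmem
  rw [Ideal.comap_map_of_surjective _ hmk, ← RingHom.ker_eq_comap_bot, sup_eq_left.mpr hker] at h3
  exact hx h3

/-- every nonzero prime of `B ⧸ q` contains the image of `K`, for `q` rig-closed w.r.t. `K`. -/
theorem le_of_prime_quotient' {B : Type*} [CommRing B] (K : Ideal B) (q : PrimeSpectrum B)
    (hq : ¬ K ≤ q.asIdeal ∧ ∀ y : PrimeSpectrum B, q ≤ y → ¬ K ≤ y.asIdeal → y = q)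
    (P : Ideal (B ⧸ q.asIdeal)) (hP : P.IsPrime) (hP0 : P ≠ ⊥) :
    K.map (Ideal.Quotient.mk q.asIdeal) ≤ P := by
  let mk := Ideal.Quotient.mk q.asIdeal
  have hmk : Function.Surjective mk := Ideal.Quotient.mk_surjective
  have hkermk : RingHom.ker mk = q.asIdeal := Ideal.mk_ker
  rw [Ideal.map_le_iff_le_comap]
  by_contra hK
  have hPq : q ≤ ⟨P.comap mk, inferInstance⟩ := by
    rw [← PrimeSpectrum.asIdeal_le_asIdeal]
    change q.asIdeal ≤ P.comap mk
    exact hkermk.symm.le.trans (Ideal.ker_le_comap mk)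
  have heq := hq.2 ⟨P.comap mk, inferInstance⟩ hPq hK
  apply hP0
  have h1 : P.comap mk = (⊥ : Ideal (B ⧸ q.asIdeal)).comap mk := by
    have := congrArg PrimeSpectrum.asIdeal heq
    change P.comap mk = q.asIdeal at this
    rw [this, ← RingHom.ker_eq_comap_bot, hkermk]
  exact Ideal.comap_injective_of_surjective mk hmk h1

/-- a prime above `q B1` not containing `K B1` equals `q B1`, when `B ⧸ q ≃ B1 ⧸ q B1`. -/
theorem eq_map_of_le {B : Type*} [CommRing B] (K : Ideal B) (q : PrimeSpectrum B)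
    (hq : ¬ K ≤ q.asIdeal ∧ ∀ y : PrimeSpectrum B, q ≤ y → ¬ K ≤ y.asIdeal → y = q)
    {B1 : Type*} [CommRing B1] [Algebra B B1]
    (hbij : Function.Bijective (Ideal.quotientMap (q.asIdeal.map (algebraMap B B1))
      (algebraMap B B1) Ideal.le_comap_map))
    (y : Ideal B1) [hy : y.IsPrime] (hQy : q.asIdeal.map (algebraMap B B1) ≤ y)
    (hKy : ¬ K.map (algebraMap B B1) ≤ y) : y = q.asIdeal.map (algebraMap B B1) := by
  have hy0p : (y.comap (algebraMap B B1)).IsPrime := inferInstance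
  have hqy0 : q ≤ ⟨y.comap (algebraMap B B1), hy0p⟩ := by
    rw [← PrimeSpectrum.asIdeal_le_asIdeal]
    change q.asIdeal ≤ y.comap (algebraMap B B1)
    rw [← Ideal.map_le_iff_le_comap]
    exact hQy
  have hKy0 : ¬ K ≤ y.comap (algebraMap B B1) := by
    intro hle
    apply hKy
    rw [Ideal.map_le_iff_le_comap]
    exact hle
  have heq := hq.2 ⟨y.comap (algebraMap B B1), hy0p⟩ hqy0 hKy0
  have heq' : y.comap (algebraMap B B1) = q.asIdeal := congrArg PrimeSpectrum.asIdeal heq
  apply le_antisymm _ hQy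
  intro z hz
  obtain ⟨c, hc⟩ := hbij.2 (Ideal.Quotient.mk _ z)
  obtain ⟨b, rfl⟩ := Ideal.Quotient.mk_surjective c
  rw [Ideal.quotientMap_mk, Ideal.Quotient.eq] at hc
  have hby : algebraMap B B1 b ∈ y := by
    have : algebraMap B B1 b = (algebraMap B B1 b - z) + z := by ring
    rw [this]
    exact y.add_mem (hQy hc) hz
  have hbq : b ∈ q.asIdeal := by
    rw [← heq']
    exact hby
  have : z = algebraMap B B1 b - (algebraMap B B1 b - z) := by ring
  rw [this]
  exact Ideal.sub_mem _ (Ideal.mem_map_of_mem _ hbq) hc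

/-- density of a Noetherian ring in its adic completion modulo the ideal. -/
theorem exists_sub_mem_map_self {R : Type*} [CommRing R] (J : Ideal R) (hJ : J.FG)
    (c : AdicCompletion J R) :
    ∃ r : R, c - algebraMap R (AdicCompletion J R) r ∈ J.map (algebraMap R (AdicCompletion J R)) := by
  obtain ⟨b, hb⟩ := Ideal.Quotient.mk_surjective (AdicCompletion.evalOneₐ J c)
  refine ⟨b, ?_⟩
  rw [← AdicCompletion.ker_evalOneₐ_eq_map _ hJ, RingHom.mem_ker]
  simp only [AlgHom.toRingHom_eq_coe, RingHom.coe_coe, map_sub]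
  have : (algebraMap R (AdicCompletion J R)) b = AdicCompletion.of J R b := rfl
  rw [this, AdicCompletion.evalOneₐ_of, hb, sub_self]

/-- a unit modulo `p` is a unit modulo `p ^ n`. -/
theorem exists_mul_sub_one_mem_pow {R : Type*} [CommRing R] (p : Ideal R) (f : R)
    (hf : IsUnit (Ideal.Quotient.mk p f)) (n : ℕ) : ∃ g : R, f * g - 1 ∈ p ^ n := by
  obtain ⟨gbar, hg⟩ := hf.exists_right_inv
  obtain ⟨g1, rfl⟩ := Ideal.Quotient.mk_surjective gbar
  have h1 : f * g1 - 1 ∈ p := by
    rw [← Ideal.Quotient.eq_zero_iff_mem, map_sub, map_mul, hg, map_one, sub_self]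
  have h2 : (f * g1 - 1) ^ n ∈ p ^ n := Ideal.pow_mem_pow h1 n
  have hnil : IsNilpotent (Ideal.Quotient.mk (p ^ n) (f * g1 - 1)) :=
    ⟨n, by rw [← map_pow]; exact Ideal.Quotient.eq_zero_iff_mem.mpr h2⟩
  have hu : IsUnit (Ideal.Quotient.mk (p ^ n) (f * g1)) := by
    have : Ideal.Quotient.mk (p ^ n) (f * g1) = Ideal.Quotient.mk (p ^ n) (f * g1 - 1) + 1 := by
      rw [← map_one (Ideal.Quotient.mk (p ^ n)), ← map_add]; congr 1; ring
    rw [this]
    exact hnil.isUnit_add_one
  rw [map_mul] at hu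
  have hu' : IsUnit (Ideal.Quotient.mk (p ^ n) f) := isUnit_of_mul_isUnit_left hu
  obtain ⟨gbar', hg'⟩ := hu'.exists_right_inv
  obtain ⟨g, rfl⟩ := Ideal.Quotient.mk_surjective gbar'
  refine ⟨g, ?_⟩
  rw [← Ideal.Quotient.eq_zero_iff_mem, map_sub, map_mul, hg', map_one, sub_self]

end Groth.Agent.Lib.Helper15.RigFlat
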