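import Mathlib
import Groth.Agent.S3866
import Groth.Agent.S8835
import Groth.Agent.S8837
import Groth.Agent.Lib.Helper15.RigLoc3
import Groth.Agent.Lib.Helper15.RigLoc5
import Groth.Agent.Lib.Helper15.RigFlat1
import Groth.Agent.Lib.Helper15.RigFlat2
import Groth.Agent.Lib.Helper15.RigFlat3

/-!
# Naive rig-flatness implies rig-flatness over a Jacobson base (helper15): S8841
-/

set_option autoImplicit false
set_option linter.style.haveILetI false
set_option linter.unusedSectionVars false

universe u

namespace Groth.Agent.Lib.Helper15.RigFlat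

open Groth.Agent.Lib.Helper15.RigLoc

/-- `A ⧸ p` is local for `p` rig-closed in `A`. -/
theorem isLocalRing_quotient_self (A : Type u) [CommRing A] [IsNoetherianRing A] (I : Ideal A)
    [IsAdicComplete I A] (p : PrimeSpectrum A)
    (hp : ¬ I ≤ p.asIdeal ∧ ∀ y : PrimeSpectrum A, p ≤ y → ¬ I ≤ y.asIdeal → y = p) :
    IsLocalRing (A ⧸ p.asIdeal) := by
  have h1 : IsAdicComplete I (A ⧸ p.asIdeal) := Groth.Agent.S3866.result A I _
  have hcomplete : IsAdicComplete (I.map (algebraMap A (A ⧸ p.asIdeal))) (A ⧸ p.asIdeal) :=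
    (IsAdicComplete.map_algebraMap_iff (R := A) (S := A ⧸ p.asIdeal) I (A ⧸ p.asIdeal)).mpr h1
  have hmap : I.map (algebraMap A (A ⧸ p.asIdeal)) = I.map (Ideal.Quotient.mk p.asIdeal) := rfl
  refine isLocalRing_of_complete_domain (I.map (algebraMap A (A ⧸ p.asIdeal))) ?_ ?_
  · rw [hmap]
    intro h0
    rw [Ideal.map_eq_bot_iff_le_ker, Ideal.mk_ker] at h0
    exact hp.1 h0
  · rw [hmap]
    exact le_of_prime_quotient' I p hp

theorem main8841 (A : Type u) [CommRing A] [IsNoetherianRing A] (I : Ideal A) [IsAdicComplete I A]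
    (B : Type u) [CommRing B] [Algebra A B] [IsNoetherianRing B]
    [IsAdicComplete (I.map (algebraMap A B)) B]
    (hft : Algebra.FiniteType A (B ⧸ (I.map (algebraMap A B)))) (hJ : IsJacobsonRing (A ⧸ I))
    (hnaive : ∀ q : PrimeSpectrum B, (¬ (I.map (algebraMap A B)) ≤ q.asIdeal ∧
      ∀ y : PrimeSpectrum B, q ≤ y → ¬ (I.map (algebraMap A B)) ≤ y.asIdeal → y = q) →
      (algebraMap A (Localization.AtPrime q.asIdeal)).Flat)
    (f : A)
    (ψ : (AdicCompletion (I.map (algebraMap A (Localization.Away f))) (Localization.Away f)) →+*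
      (AdicCompletion ((I.map (algebraMap A B)).map
        (algebraMap B (Localization.Away (algebraMap A B f))))
        (Localization.Away (algebraMap A B f))))
    (hψ : ψ.comp (algebraMap (Localization.Away f)
        (AdicCompletion (I.map (algebraMap A (Localization.Away f))) (Localization.Away f))) =
      (algebraMap (Localization.Away (algebraMap A B f))
        (AdicCompletion ((I.map (algebraMap A B)).map
          (algebraMap B (Localization.Away (algebraMap A B f))))
          (Localization.Away (algebraMap A B f)))).comp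
        (Localization.awayMap (algebraMap A B) f))
    (q' : PrimeSpectrum (AdicCompletion ((I.map (algebraMap A B)).map
        (algebraMap B (Localization.Away (algebraMap A B f))))
        (Localization.Away (algebraMap A B f))))
    (hq' : (¬ ((((I.map (algebraMap A B))).map
        (algebraMap B (Localization.Away (algebraMap A B f)))).map
        (algebraMap (Localization.Away (algebraMap A B f))
          (AdicCompletion ((I.map (algebraMap A B)).map
            (algebraMap B (Localization.Away (algebraMap A B f))))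
            (Localization.Away (algebraMap A B f))))) ≤ q'.asIdeal ∧
      ∀ y : PrimeSpectrum (AdicCompletion ((I.map (algebraMap A B)).map
          (algebraMap B (Localization.Away (algebraMap A B f))))
          (Localization.Away (algebraMap A B f))), q' ≤ y →
        ¬ ((((I.map (algebraMap A B))).map
          (algebraMap B (Localization.Away (algebraMap A B f)))).map
          (algebraMap (Localization.Away (algebraMap A B f))
            (AdicCompletion ((I.map (algebraMap A B)).map
              (algebraMap B (Localization.Away (algebraMap A B f))))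
              (Localization.Away (algebraMap A B f))))) ≤ y.asIdeal → y = q')) :
    ((algebraMap (AdicCompletion ((I.map (algebraMap A B)).map
        (algebraMap B (Localization.Away (algebraMap A B f))))
        (Localization.Away (algebraMap A B f))) (Localization.AtPrime q'.asIdeal)).comp ψ).Flat := by
  -- names
  let Af := Localization.Away f
  let IAf : Ideal Af := I.map (algebraMap A Af)
  let Afh := AdicCompletion IAf Af
  let g : B := algebraMap A B f
  let Bg := Localization.Away g
  let IB : Ideal B := I.map (algebraMap A B)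
  let IBg : Ideal Bg := IB.map (algebraMap B Bg)
  let Bgh := AdicCompletion IBg Bg
  have hNAf : IsNoetherianRing Af :=
    IsLocalization.isNoetherianRing (Submonoid.powers f) Af inferInstance
  have hNBg : IsNoetherianRing Bg :=
    IsLocalization.isNoetherianRing (Submonoid.powers g) Bg inferInstance
  have hNAfh : IsNoetherianRing Afh := isNoetherianRing_cpl Af IAf
  have hNBgh : IsNoetherianRing Bgh := isNoetherianRing_cpl Bg IBg
  have hIBg : IBg = I.map (algebraMap A Bg) := by
    change (I.map (algebraMap A B)).map (algebraMap B Bg) = _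
    rw [Ideal.map_map, ← IsScalarTower.algebraMap_eq]
  have hK2 : IBg.map (algebraMap Bg Bgh) = IB.map (algebraMap B Bgh) := by
    change (IB.map (algebraMap B Bg)).map (algebraMap Bg Bgh) = _
    rw [Ideal.map_map, ← IsScalarTower.algebraMap_eq]
  have hCBgh : IsAdicComplete (IB.map (algebraMap B Bgh)) Bgh := by
    rw [← hK2]
    exact AdicCompletion.isAdicComplete_self IBg (IsNoetherian.noetherian IBg)
  -- tower
  have htow : ∀ a : A, algebraMap A Bgh a = ψ (algebraMap A Afh a) := by
    intro a
    have h1 := RingHom.congr_fun hψ (algebraMap A Af a)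
    simp only [RingHom.comp_apply] at h1
    have h2 : Localization.awayMap (algebraMap A B) f (algebraMap A Af a) =
        algebraMap B Bg (algebraMap A B a) := by
      simp only [Localization.awayMap, IsLocalization.Away.map]
      exact IsLocalization.map_eq _ a
    rw [h2] at h1
    rw [IsScalarTower.algebraMap_apply A Af Afh, h1, IsScalarTower.algebraMap_apply A B Bgh,
      IsScalarTower.algebraMap_apply B Bg Bgh]
  -- (a) `q` is rig-closed in `B`
  have hftBg : Algebra.FiniteType B Bg := IsLocalization.finiteType_of_monoid_fg (Submonoid.powers g) Bg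
  have hftB : Algebra.FiniteType B (Bgh ⧸ IB.map (algebraMap B Bgh)) := by
    let φ : Bg →ₐ[B] Bgh ⧸ IB.map (algebraMap B Bgh) :=
      (Ideal.Quotient.mkₐ B _).comp (IsScalarTower.toAlgHom B Bg Bgh)
    refine Algebra.FiniteType.of_surjective φ ?_
    intro y
    obtain ⟨c, rfl⟩ := Ideal.Quotient.mk_surjective y
    obtain ⟨r, hr⟩ := exists_sub_mem_map_self IBg (IsNoetherian.noetherian IBg) c
    refine ⟨r, ?_⟩
    change Ideal.Quotient.mk _ (algebraMap Bg Bgh r) = Ideal.Quotient.mk _ c
    rw [eq_comm, Ideal.Quotient.eq, ← hK2]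
    exact hr
  have hJB : IsJacobsonRing (B ⧸ IB) := by
    have h1 : Algebra.FiniteType (A ⧸ I) (B ⧸ IB) :=
      Algebra.FiniteType.of_restrictScalars_finiteType A (A ⧸ I) (B ⧸ IB)
    exact isJacobsonRing_of_finiteType (A := A ⧸ I) (B := B ⧸ IB)
  have hq'B : ¬ IB.map (algebraMap B Bgh) ≤ q'.asIdeal ∧
      ∀ y : PrimeSpectrum Bgh, q' ≤ y → ¬ IB.map (algebraMap B Bgh) ≤ y.asIdeal → y = q' := by
    rw [← hK2]
    exact hq'
  let q : PrimeSpectrum B := PrimeSpectrum.comap (algebraMap B Bgh) q'
  have hq : ¬ IB ≤ q.asIdeal ∧ ∀ y : PrimeSpectrum B, q ≤ y → ¬ IB ≤ y.asIdeal → y = q :=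
    Groth.Agent.S8835.result B IB Bgh hftB q' hq'B hJB
  have hqdef : q.asIdeal = q'.asIdeal.comap (algebraMap B Bgh) := rfl
  -- (b) `g` is a unit modulo `q`, and `q' = q Bgh`
  have hloc : IsLocalRing (B ⧸ q.asIdeal) := isLocalRing_quotient A I B hft q hq
  obtain ⟨m'', hm'', hq'm''⟩ := Ideal.exists_le_maximal q'.asIdeal q'.2.ne_top
  let m3 : Ideal B := m''.comap (algebraMap B Bgh)
  have hm3p : m3.IsPrime := Ideal.comap_isPrime _ _
  have hqm3 : q.asIdeal ≤ m3 := Ideal.comap_mono hq'm''
  have hIBm3 : IB ≤ m3 := by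
    rw [← Ideal.map_le_iff_le_comap]
    have h1 : IB.map (algebraMap B Bgh) ≤ (⊥ : Ideal Bgh).jacobson :=
      IsAdicComplete.le_jacobson_bot _
    exact h1.trans (sInf_le ⟨bot_le, hm''⟩)
  have hm3ne : m3 ≠ q.asIdeal := fun h => hq.1 (h ▸ hIBm3)
  have hm3max : m3.IsMaximal :=
    Groth.Agent.Lib.Helper15.isMaximal_of_rigClosed IB q hq m3 hqm3 hm3ne
  have hgu : IsUnit (algebraMap B Bgh g) := by
    rw [IsScalarTower.algebraMap_apply B Bg Bgh]
    exact (IsLocalization.Away.algebraMap_isUnit g).map _
  have hgm3 : g ∉ m3 := by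
    intro hmem
    exact hm''.ne_top (Ideal.eq_top_of_isUnit_mem _ hmem hgu)
  have hgq : IsUnit (Ideal.Quotient.mk q.asIdeal g) :=
    isUnit_mk_of_notMem q.asIdeal m3 hm3max hqm3 g hgm3
  obtain ⟨hQprime, hbij⟩ := Groth.Agent.S8837.result B IB q.asIdeal g hgq
  have hQq' : q.asIdeal.map (algebraMap B Bgh) = q'.asIdeal := by
    have := eq_map_of_le IB q hq hbij q'.asIdeal Ideal.map_comap_le hq'B.1
    exact this.symm
  -- (c) `f` is a unit modulo `p`
  let p : PrimeSpectrum A := PrimeSpectrum.comap (algebraMap A B) q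
  have hp : ¬ I ≤ p.asIdeal ∧ ∀ y : PrimeSpectrum A, p ≤ y → ¬ I ≤ y.asIdeal → y = p :=
    Groth.Agent.S8835.result A I B hft q hq hJ
  have hlocA : IsLocalRing (A ⧸ p.asIdeal) := isLocalRing_quotient_self A I p hp
  let n0 : Ideal A := m3.comap (algebraMap A B)
  have hn0p : n0.IsPrime := Ideal.comap_isPrime _ _
  have hpn0 : p.asIdeal ≤ n0 := Ideal.comap_mono hqm3
  have hIn0 : I ≤ n0 := by
    rw [← Ideal.map_le_iff_le_comap]
    exact hIBm3
  have hn0ne : n0 ≠ p.asIdeal := fun h => hp.1 (h ▸ hIn0)
  have hn0max : n0.IsMaximal :=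
    Groth.Agent.Lib.Helper15.isMaximal_of_rigClosed I p hp n0 hpn0 hn0ne
  have hfn0 : f ∉ n0 := fun hmem => hgm3 hmem
  have hfp : IsUnit (Ideal.Quotient.mk p.asIdeal f) :=
    isUnit_mk_of_notMem p.asIdeal n0 hn0max hpn0 f hfn0
  -- (d) density
  have hdense : ∀ n : ℕ, 0 < n → ∀ x : Afh, ∃ a : A,
      x - algebraMap A Afh a ∈ (p.asIdeal ^ n).map (algebraMap A Afh) := by
    intro n _ x
    obtain ⟨g0, hg0⟩ := exists_mul_sub_one_mem_pow p.asIdeal f hfp n
    exact exists_sub_mem_map_of_unit A I (p.asIdeal ^ n) f g0 hg0 x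
  -- (e) `S'` is flat over `A`
  let S' := Localization.AtPrime q'.asIdeal
  let Bq := Localization.AtPrime q.asIdeal
  have hflatBg : Module.Flat B Bg := IsLocalization.flat Bg (Submonoid.powers g)
  have hflatBgh : Module.Flat Bg Bgh := inferInstance
  have hflatS'0 : Module.Flat Bgh S' := IsLocalization.flat S' q'.asIdeal.primeCompl
  have hflatBBgh : Module.Flat B Bgh := Module.Flat.trans B Bg Bgh
  have hflatBS' : Module.Flat B S' := Module.Flat.trans B Bgh S'
  letI algBq : Algebra Bq S' :=
    (Localization.localRingHom q.asIdeal q'.asIdeal (algebraMap B Bgh) hqdef).toAlgebra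
  have htowBq : IsScalarTower B Bq S' := by
    refine IsScalarTower.of_algebraMap_eq fun b => ?_
    change algebraMap B S' b =
      Localization.localRingHom q.asIdeal q'.asIdeal (algebraMap B Bgh) hqdef (algebraMap B Bq b)
    rw [Localization.localRingHom_to_map, IsScalarTower.algebraMap_apply B Bgh S']
  have hflatBqS' : Module.Flat Bq S' :=
    (Module.flat_iff_of_isLocalization Bq q.asIdeal.primeCompl S').mpr hflatBS'
  have hflatABq : Module.Flat A Bq := RingHom.flat_algebraMap_iff.mp (hnaive q hq)
  have htowABq : IsScalarTower A Bq S' := by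
    refine IsScalarTower.of_algebraMap_eq fun a => ?_
    rw [IsScalarTower.algebraMap_apply A B S', IsScalarTower.algebraMap_apply B Bq S',
      ← IsScalarTower.algebraMap_apply A B Bq]
  have hflatAS' : Module.Flat A S' := Module.Flat.trans A Bq S'
  -- (f) local criterion
  letI algAfh : Algebra Afh S' := ((algebraMap Bgh S').comp ψ).toAlgebra
  have htowAfh : IsScalarTower A Afh S' := by
    refine IsScalarTower.of_algebraMap_eq fun a => ?_
    change algebraMap A S' a = algebraMap Bgh S' (ψ (algebraMap A Afh a))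
    rw [← htow, ← IsScalarTower.algebraMap_apply A Bgh S']
  have hNS' : IsNoetherianRing S' :=
    IsLocalization.isNoetherianRing q'.asIdeal.primeCompl S' inferInstance
  have hjac : (p.asIdeal.map (algebraMap A Afh)).map (algebraMap Afh S') ≤ Ideal.jacobson ⊥ := by
    rw [IsLocalRing.jacobson_eq_maximalIdeal ⊥ bot_ne_top,
      Ideal.map_map (algebraMap A Afh) (algebraMap Afh S'),
      ← IsScalarTower.algebraMap_eq A Afh S', Ideal.map_le_iff_le_comap]
    intro a ha
    rw [Ideal.mem_comap, IsScalarTower.algebraMap_apply A B S',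
      IsScalarTower.algebraMap_apply B Bgh S',
      IsLocalization.AtPrime.to_map_mem_maximal_iff S' q'.asIdeal]
    exact ha
  have hmain : Module.Flat Afh S' := flat_of_flat_of_dense p.asIdeal hjac hdense
  exact hmain

end Groth.Agent.Lib.Helper15.RigFlat
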