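import Mathlib

/-!
# Quotients of a Noetherian ring which are already complete (helper15)

`B` Noetherian, `J` an ideal, `Bh = AdicCompletion J B`, `K` an ideal of `B` such that `B ⧸ K` is
`J`-adically complete as a `B`-module.  Then `B ⧸ K → Bh ⧸ K Bh` is bijective, in the form:

* `mem_of_algebraMap_mem_map`: `algebraMap b ∈ K Bh → b ∈ K`;
* `exists_sub_mem_map`: every `c : Bh` is congruent mod `K Bh` to some `algebraMap b`.
-/

set_option autoImplicit false
set_option linter.style.haveILetI false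
set_option linter.unusedSectionVars false

universe u

open TensorProduct

namespace Groth.Agent.Lib.Helper15.RigPoly

variable {B : Type u} [CommRing B] [IsNoetherianRing B] (J K : Ideal B)

/-- `c ⊗ 1 = 0` in `Bh ⊗ (B ⧸ K)` for `c ∈ K Bh`. -/
theorem tmul_one_eq_zero_of_mem (c : AdicCompletion J B)
    (hc : c ∈ K.map (algebraMap B (AdicCompletion J B))) :
    c ⊗ₜ[B] (Ideal.Quotient.mk K 1) = 0 := by
  unfold Ideal.map at hc
  induction hc using Submodule.span_induction with
  | mem x hx =>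
    obtain ⟨k, hk, rfl⟩ := hx
    have h1 : algebraMap B (AdicCompletion J B) k = k • (1 : AdicCompletion J B) := by
      rw [Algebra.smul_def, mul_one]
    rw [h1, TensorProduct.smul_tmul]
    have h2 : k • (Ideal.Quotient.mk K 1) = 0 := by
      rw [Algebra.smul_def, Ideal.Quotient.algebraMap_eq, ← map_mul, mul_one]
      exact Ideal.Quotient.eq_zero_iff_mem.mpr hk
    rw [h2, TensorProduct.tmul_zero]
  | zero => rw [TensorProduct.zero_tmul]
  | add x y _ _ hx hy => rw [TensorProduct.add_tmul, hx, hy, add_zero]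
  | smul r x _ hx =>
    have : (r • x) ⊗ₜ[B] (Ideal.Quotient.mk K 1) = r • (x ⊗ₜ[B] (Ideal.Quotient.mk K 1)) := rfl
    rw [this, hx, smul_zero]

/-- `c ⊗ 1 = 0` in `Bh ⊗ (B ⧸ K)` implies `c ∈ K Bh`. -/
theorem mem_of_tmul_one_eq_zero (c : AdicCompletion J B)
    (hc : c ⊗ₜ[B] (Ideal.Quotient.mk K 1) = 0) :
    c ∈ K.map (algebraMap B (AdicCompletion J B)) := by
  have h1 := congrArg (TensorProduct.tensorQuotEquivQuotSMul (AdicCompletion J B) K) hc
  rw [map_zero] at h1
  have h2 : (TensorProduct.tensorQuotEquivQuotSMul (AdicCompletion J B) K)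
      (c ⊗ₜ[B] (Ideal.Quotient.mk K 1)) = Submodule.Quotient.mk ((1 : B) • c) :=
    TensorProduct.tensorQuotEquivQuotSMul_tmul_mk _ _ _
  rw [h2, one_smul, Submodule.Quotient.mk_eq_zero, Ideal.smul_top_eq_map] at h1
  exact h1

theorem one_tmul_mk (b : B) :
    (1 : AdicCompletion J B) ⊗ₜ[B] (Ideal.Quotient.mk K b) =
      (algebraMap B (AdicCompletion J B) b) ⊗ₜ[B] (Ideal.Quotient.mk K 1) := by
  have h1 : algebraMap B (AdicCompletion J B) b = b • (1 : AdicCompletion J B) := by
    rw [Algebra.smul_def, mul_one]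
  rw [h1, TensorProduct.smul_tmul]
  congr 1
  rw [Algebra.smul_def, Ideal.Quotient.algebraMap_eq, ← map_mul, mul_one]

variable [hc : IsAdicComplete J (B ⧸ K)]

theorem mem_of_algebraMap_mem_map (b : B)
    (hb : algebraMap B (AdicCompletion J B) b ∈ K.map (algebraMap B (AdicCompletion J B))) :
    b ∈ K := by
  have h1 := tmul_one_eq_zero_of_mem J K _ hb
  rw [← one_tmul_mk] at h1
  have h2 := congrArg (AdicCompletion.ofTensorProduct J (B ⧸ K)) h1
  rw [map_zero, AdicCompletion.ofTensorProduct_tmul, one_smul] at h2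
  have h3 : Ideal.Quotient.mk K b = 0 := by
    apply AdicCompletion.of_injective (I := J) (M := B ⧸ K)
    rw [h2, map_zero]
  exact Ideal.Quotient.eq_zero_iff_mem.mp h3

theorem exists_sub_mem_map (c : AdicCompletion J B) :
    ∃ b : B, c - algebraMap B (AdicCompletion J B) b ∈
      K.map (algebraMap B (AdicCompletion J B)) := by
  obtain ⟨x, hx⟩ := AdicCompletion.of_surjective J (B ⧸ K)
    (AdicCompletion.ofTensorProduct J (B ⧸ K) (c ⊗ₜ[B] (Ideal.Quotient.mk K 1)))
  obtain ⟨b, rfl⟩ := Ideal.Quotient.mk_surjective x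
  refine ⟨b, ?_⟩
  apply mem_of_tmul_one_eq_zero
  rw [TensorProduct.sub_tmul, ← one_tmul_mk, sub_eq_zero]
  apply (AdicCompletion.ofTensorProduct_bijective_of_finite_of_isNoetherian J (B ⧸ K)).1
  rw [← hx, AdicCompletion.ofTensorProduct_tmul, one_smul]

end Groth.Agent.Lib.Helper15.RigPoly
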