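import Mathlib

/-!
# Completions of localizations from approximations modulo powers (helper15)

`f : B →+* C`, `q` a prime of `C`, `q' = q.comap f`.  If `f b ∈ q ^ m → b ∈ q' ^ m` and every
`c : C` is congruent to some `f b` modulo `q ^ m`, then the local homomorphism `B_{q'} → C_q`
induces a bijection modulo the `m`-th powers of the maximal ideals.
-/

set_option autoImplicit false
set_option linter.style.haveILetI false
set_option linter.unusedSectionVars false

universe u

namespace Groth.Agent.Lib.Helper15.RigPoly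

variable {B C : Type*} [CommRing B] [CommRing C] (f : B →+* C) (q : Ideal C) [hq : q.IsPrime]
  (m : ℕ) (hm : 1 ≤ m)
  (hα : ∀ b : B, f b ∈ q ^ m → b ∈ (q.comap f) ^ m)
  (hβ : ∀ c : C, ∃ b : B, c - f b ∈ q ^ m)

include hm in
theorem pow_le_self' : q ^ m ≤ q := by
  exact Ideal.pow_le_self (by omega)

include hm hα hβ in
theorem localRingHom_mem_pow (x : Localization.AtPrime (q.comap f))
    (hx : Localization.localRingHom (q.comap f) q f rfl x ∈
      (IsLocalRing.maximalIdeal (Localization.AtPrime q)) ^ m) :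
    x ∈ (IsLocalRing.maximalIdeal (Localization.AtPrime (q.comap f))) ^ m := by
  obtain ⟨b, s, rfl⟩ := IsLocalization.exists_mk'_eq (q.comap f).primeCompl x
  rw [Localization.localRingHom_mk', ← Localization.AtPrime.map_eq_maximalIdeal, ← Ideal.map_pow,
    IsLocalization.mk'_mem_map_algebraMap_iff q.primeCompl] at hx
  obtain ⟨t, ht, htb⟩ := hx
  obtain ⟨t', ht'⟩ := hβ t
  have hqm : q ^ m ≤ q := pow_le_self' q m hm
  have ht'q : t' ∈ (q.comap f).primeCompl := by
    intro hmem
    apply ht
    have h1 : f t' ∈ q := hmem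
    have h2 : t - f t' ∈ q := hqm ht'
    have : t = (t - f t') + f t' := by ring
    rw [this]
    exact q.add_mem h2 h1
  rw [← Localization.AtPrime.map_eq_maximalIdeal, ← Ideal.map_pow,
    IsLocalization.mk'_mem_map_algebraMap_iff (q.comap f).primeCompl]
  refine ⟨t', ht'q, ?_⟩
  apply hα
  rw [map_mul]
  have : f t' * f b = t * f b - (t - f t') * f b := by ring
  rw [this]
  exact (q ^ m).sub_mem htb (Ideal.mul_mem_right _ _ ht')

include hm hβ in
theorem exists_localRingHom_sub_mem_pow (y : Localization.AtPrime q) :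
    ∃ x : Localization.AtPrime (q.comap f),
      y - Localization.localRingHom (q.comap f) q f rfl x ∈
        (IsLocalRing.maximalIdeal (Localization.AtPrime q)) ^ m := by
  obtain ⟨c, t, rfl⟩ := IsLocalization.exists_mk'_eq q.primeCompl y
  obtain ⟨c', hc'⟩ := hβ c
  obtain ⟨t', ht'⟩ := hβ t
  have hqm : q ^ m ≤ q := pow_le_self' q m hm
  have ht'q : t' ∈ (q.comap f).primeCompl := by
    intro hmem
    apply t.2
    have h1 : f t' ∈ q := hmem
    have h2 : (t : C) - f t' ∈ q := hqm ht'
    have : (t : C) = (t - f t') + f t' := by ring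
    rw [this]
    exact q.add_mem h2 h1
  refine ⟨IsLocalization.mk' _ c' ⟨t', ht'q⟩, ?_⟩
  rw [Localization.localRingHom_mk', ← IsLocalization.mk'_sub,
    ← Localization.AtPrime.map_eq_maximalIdeal, ← Ideal.map_pow,
    IsLocalization.mk'_mem_map_algebraMap_iff q.primeCompl]
  refine ⟨1, q.primeCompl.one_mem, ?_⟩
  rw [one_mul]
  change c * f t' - f c' * (t : C) ∈ q ^ m
  have : c * f t' - f c' * (t : C) =
      f t' * (c - f c') - (t - f t') * f c' := by
    ring
  rw [this]
  exact (q ^ m).sub_mem (Ideal.mul_mem_left _ _ hc') (Ideal.mul_mem_right _ _ ht')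

end Groth.Agent.Lib.Helper15.RigPoly
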