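import Mathlib
import Groth.Agent.S3866
import Groth.Agent.S8829
import Groth.Agent.Lib.Helper15.RigClosed
import Groth.Agent.Lib.Helper15.RigPoly1
import Groth.Agent.Lib.Helper15.RigPoly2
import Groth.Agent.Lib.Helper21.AdicNoetherian

/-!
# Rig-closed points of the completion of a finite type algebra (helper15)

`A` Noetherian `I`-adically complete, `B` a Noetherian `A`-algebra of finite type,
`(AdicCompletion (I.map (algebraMap A B)) B) = AdicCompletion (I B) B`, `q` a rig-closed prime of `(AdicCompletion (I.map (algebraMap A B)) B)` lying over a rig-closed prime of `A`,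
`(q.asIdeal.comap (algebraMap B (AdicCompletion (I.map (algebraMap A B)) B))) = q ∩ B`.  Then `B ⧸ (q.asIdeal.comap (algebraMap B (AdicCompletion (I.map (algebraMap A B)) B))) ^ m → (AdicCompletion (I.map (algebraMap A B)) B) ⧸ q ^ m` is bijective for all `m ≥ 1`.
-/

set_option autoImplicit false
set_option linter.style.haveILetI false
set_option linter.unusedSectionVars false

universe u

namespace Groth.Agent.Lib.Helper15.RigPoly

section
variable (A : Type u) [CommRing A] [IsNoetherianRing A] (I : Ideal A) [IsAdicComplete I A]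
  (B : Type u) [CommRing B] [Algebra A B] [IsNoetherianRing B] [hftB : Algebra.FiniteType A B]


theorem J_fg : (I.map (algebraMap A B)).FG := Ideal.FG.map (IsNoetherian.noetherian I) _

instance isNoetherianRing_Bh : IsNoetherianRing (AdicCompletion (I.map (algebraMap A B)) B) :=
  Groth.Agent.Lib.Helper21.isNoetherianRing_adicCompletion_of_fg _ (J_fg A I B)

instance isScalarTower_Bh : IsScalarTower A B (AdicCompletion (I.map (algebraMap A B)) B) := IsScalarTower.of_algebraMap_eq (fun _ => rfl)

theorem map_J_eq : (I.map (algebraMap A B)).map (algebraMap B (AdicCompletion (I.map (algebraMap A B)) B)) = I.map (algebraMap A (AdicCompletion (I.map (algebraMap A B)) B)) := by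
  rw [Ideal.map_map, ← IsScalarTower.algebraMap_eq]

instance isAdicComplete_Bh : IsAdicComplete (I.map (algebraMap A (AdicCompletion (I.map (algebraMap A B)) B))) (AdicCompletion (I.map (algebraMap A B)) B) := by
  rw [← map_J_eq]
  exact AdicCompletion.isAdicComplete_self _ (J_fg A I B)

/-- density of `B` in `(AdicCompletion (I.map (algebraMap A B)) B)` modulo `I (AdicCompletion (I.map (algebraMap A B)) B)`. -/
theorem exists_sub_mem_map_I (c : (AdicCompletion (I.map (algebraMap A B)) B)) :
    ∃ b : B, c - algebraMap B (AdicCompletion (I.map (algebraMap A B)) B) b ∈ I.map (algebraMap A (AdicCompletion (I.map (algebraMap A B)) B)) := by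
  obtain ⟨b, hb⟩ := Ideal.Quotient.mk_surjective (AdicCompletion.evalOneₐ (I.map (algebraMap A B)) c)
  refine ⟨b, ?_⟩
  rw [← map_J_eq, ← AdicCompletion.ker_evalOneₐ_eq_map _ (J_fg A I B), RingHom.mem_ker]
  simp only [AlgHom.toRingHom_eq_coe, RingHom.coe_coe, map_sub]
  have : (algebraMap B (AdicCompletion (I.map (algebraMap A B)) B)) b = AdicCompletion.of (I.map (algebraMap A B)) B b := rfl
  rw [this, AdicCompletion.evalOneₐ_of, hb, sub_self]

include hftB in
theorem finiteType_quotient_Bh :
    Algebra.FiniteType A ((AdicCompletion (I.map (algebraMap A B)) B) ⧸ I.map (algebraMap A (AdicCompletion (I.map (algebraMap A B)) B))) := by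
  let φ : B →ₐ[A] (AdicCompletion (I.map (algebraMap A B)) B) ⧸ I.map (algebraMap A (AdicCompletion (I.map (algebraMap A B)) B)) :=
    (Ideal.Quotient.mkₐ A _).comp (IsScalarTower.toAlgHom A B (AdicCompletion (I.map (algebraMap A B)) B))
  refine Algebra.FiniteType.of_surjective φ ?_
  intro y
  obtain ⟨c, rfl⟩ := Ideal.Quotient.mk_surjective y
  obtain ⟨b, hb⟩ := exists_sub_mem_map_I A I B c
  refine ⟨b, ?_⟩
  change Ideal.Quotient.mk _ (algebraMap B (AdicCompletion (I.map (algebraMap A B)) B) b) = Ideal.Quotient.mk _ c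
  rw [eq_comm, Ideal.Quotient.eq]
  exact hb

variable (q : PrimeSpectrum (AdicCompletion (I.map (algebraMap A B)) B))
  (hq : ¬ (I.map (algebraMap A (AdicCompletion (I.map (algebraMap A B)) B))) ≤ q.asIdeal ∧
    ∀ y : PrimeSpectrum (AdicCompletion (I.map (algebraMap A B)) B), q ≤ y → ¬ (I.map (algebraMap A (AdicCompletion (I.map (algebraMap A B)) B))) ≤ y.asIdeal → y = q)
  (hp : ¬ I ≤ (PrimeSpectrum.comap (algebraMap A (AdicCompletion (I.map (algebraMap A B)) B)) q).asIdeal ∧
    ∀ y : PrimeSpectrum A, (PrimeSpectrum.comap (algebraMap A (AdicCompletion (I.map (algebraMap A B)) B)) q) ≤ y → ¬ I ≤ y.asIdeal →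
      y = (PrimeSpectrum.comap (algebraMap A (AdicCompletion (I.map (algebraMap A B)) B)) q))

include hq hp hftB in
theorem finite_quotient_q : Module.Finite A ((AdicCompletion (I.map (algebraMap A B)) B) ⧸ q.asIdeal) := by
  have htfae := Groth.Agent.S8829.result A I (AdicCompletion (I.map (algebraMap A B)) B) (finiteType_quotient_Bh A I B) q hq
  exact (htfae.out 1 2).mp hp


include hq hp hftB in
theorem finite_quotient_q' : Module.Finite A (B ⧸ (q.asIdeal.comap (algebraMap B (AdicCompletion (I.map (algebraMap A B)) B)))) := by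
  have := finite_quotient_q A I B q hq hp
  let ψ : (B ⧸ (q.asIdeal.comap (algebraMap B (AdicCompletion (I.map (algebraMap A B)) B)))) →ₐ[A] (AdicCompletion (I.map (algebraMap A B)) B) ⧸ q.asIdeal :=
    Ideal.quotientMapₐ q.asIdeal (IsScalarTower.toAlgHom A B (AdicCompletion (I.map (algebraMap A B)) B)) le_rfl
  have hψ : Function.Injective ψ := by
    have : Function.Injective (Ideal.quotientMap q.asIdeal (algebraMap B (AdicCompletion (I.map (algebraMap A B)) B)) le_rfl) :=
      Ideal.quotientMap_injective
    exact this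
  exact Module.Finite.of_injective ψ.toLinearMap hψ

include hq hp hftB in
theorem finite_quotient_q'_pow (m : ℕ) (hm : m ≠ 0) : Module.Finite A (B ⧸ (q.asIdeal.comap (algebraMap B (AdicCompletion (I.map (algebraMap A B)) B))) ^ m) := by
  have h1 := finite_quotient_q' A I B q hq hp
  apply Groth.Agent.Lib.Helper15.finite_of_forall_prime_quotient_finite
  intro P hP
  let φ : B →ₐ[A] (B ⧸ (q.asIdeal.comap (algebraMap B (AdicCompletion (I.map (algebraMap A B)) B))) ^ m) ⧸ P :=
    (Ideal.Quotient.mkₐ A P).comp (Ideal.Quotient.mkₐ A ((q.asIdeal.comap (algebraMap B (AdicCompletion (I.map (algebraMap A B)) B))) ^ m))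
  have hφ : Function.Surjective φ :=
    (Ideal.Quotient.mkₐ_surjective A P).comp (Ideal.Quotient.mkₐ_surjective A _)
  have hker : (q.asIdeal.comap (algebraMap B (AdicCompletion (I.map (algebraMap A B)) B))) ≤ RingHom.ker φ.toRingHom := by
    have hprime : (RingHom.ker φ.toRingHom).IsPrime := RingHom.ker_isPrime _
    have hle : (q.asIdeal.comap (algebraMap B (AdicCompletion (I.map (algebraMap A B)) B))) ^ m ≤ RingHom.ker φ.toRingHom := by
      intro x hx
      rw [RingHom.mem_ker]
      change Ideal.Quotient.mk P (Ideal.Quotient.mk _ x) = 0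
      rw [Ideal.Quotient.eq_zero_iff_mem.mpr hx, map_zero]
    exact (Ideal.IsPrime.pow_le_iff hm).mp hle
  let ψ : (B ⧸ (q.asIdeal.comap (algebraMap B (AdicCompletion (I.map (algebraMap A B)) B)))) →ₐ[A] (B ⧸ (q.asIdeal.comap (algebraMap B (AdicCompletion (I.map (algebraMap A B)) B))) ^ m) ⧸ P :=
    Ideal.Quotient.liftₐ (q.asIdeal.comap (algebraMap B (AdicCompletion (I.map (algebraMap A B)) B))) φ (fun x hx => hker hx)
  have hψ : Function.Surjective ψ := by
    intro y
    obtain ⟨b, rfl⟩ := hφ y
    exact ⟨Ideal.Quotient.mk _ b, rfl⟩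
  exact Module.Finite.of_surjective ψ.toLinearMap hψ

include hq hp hftB in
theorem isAdicComplete_quotient_q'_pow (m : ℕ) (hm : m ≠ 0) :
    IsAdicComplete (I.map (algebraMap A B)) (B ⧸ (q.asIdeal.comap (algebraMap B (AdicCompletion (I.map (algebraMap A B)) B))) ^ m) := by
  have := finite_quotient_q'_pow A I B q hq hp m hm
  have h1 : IsAdicComplete I (B ⧸ (q.asIdeal.comap (algebraMap B (AdicCompletion (I.map (algebraMap A B)) B))) ^ m) := Groth.Agent.S3866.result A I _
  exact (IsAdicComplete.map_algebraMap_iff (R := A) (S := B) I (B ⧸ (q.asIdeal.comap (algebraMap B (AdicCompletion (I.map (algebraMap A B)) B))) ^ m)).mpr h1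

include hq hp hftB in
theorem map_q'_eq : (q.asIdeal.comap (algebraMap B (AdicCompletion (I.map (algebraMap A B)) B))).map (algebraMap B (AdicCompletion (I.map (algebraMap A B)) B)) = q.asIdeal := by
  apply le_antisymm Ideal.map_comap_le
  intro c hc
  have hcomp : IsAdicComplete (I.map (algebraMap A B)) (B ⧸ (q.asIdeal.comap (algebraMap B (AdicCompletion (I.map (algebraMap A B)) B))) ^ 1) :=
    isAdicComplete_quotient_q'_pow A I B q hq hp 1 one_ne_zero
  rw [pow_one] at hcomp
  obtain ⟨b, hb⟩ := exists_sub_mem_map (I.map (algebraMap A B)) (q.asIdeal.comap (algebraMap B (AdicCompletion (I.map (algebraMap A B)) B))) c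
  have hb' : c - algebraMap B (AdicCompletion (I.map (algebraMap A B)) B) b ∈ q.asIdeal := Ideal.map_comap_le hb
  have hbq : algebraMap B (AdicCompletion (I.map (algebraMap A B)) B) b ∈ q.asIdeal := by
    have : algebraMap B (AdicCompletion (I.map (algebraMap A B)) B) b = c - (c - algebraMap B (AdicCompletion (I.map (algebraMap A B)) B) b) := by ring
    rw [this]
    exact q.asIdeal.sub_mem hc hb'
  have hbq' : b ∈ (q.asIdeal.comap (algebraMap B (AdicCompletion (I.map (algebraMap A B)) B))) := hbq
  have : c = (c - algebraMap B (AdicCompletion (I.map (algebraMap A B)) B) b) + algebraMap B (AdicCompletion (I.map (algebraMap A B)) B) b := by ring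
  rw [this]
  exact Ideal.add_mem _ hb (Ideal.mem_map_of_mem _ hbq')

include hq hp hftB in
theorem mem_pow_of_algebraMap_mem (m : ℕ) (hm : m ≠ 0) (b : B)
    (hb : algebraMap B (AdicCompletion (I.map (algebraMap A B)) B) b ∈ q.asIdeal ^ m) : b ∈ (q.asIdeal.comap (algebraMap B (AdicCompletion (I.map (algebraMap A B)) B))) ^ m := by
  have hcomp : IsAdicComplete (I.map (algebraMap A B)) (B ⧸ (q.asIdeal.comap (algebraMap B (AdicCompletion (I.map (algebraMap A B)) B))) ^ m) :=
    isAdicComplete_quotient_q'_pow A I B q hq hp m hm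
  apply mem_of_algebraMap_mem_map (I.map (algebraMap A B)) ((q.asIdeal.comap (algebraMap B (AdicCompletion (I.map (algebraMap A B)) B))) ^ m) b
  rw [Ideal.map_pow, map_q'_eq A I B q hq hp]
  exact hb

include hq hp hftB in
theorem exists_sub_mem_pow (m : ℕ) (hm : m ≠ 0) (c : (AdicCompletion (I.map (algebraMap A B)) B)) :
    ∃ b : B, c - algebraMap B (AdicCompletion (I.map (algebraMap A B)) B) b ∈ q.asIdeal ^ m := by
  have hcomp : IsAdicComplete (I.map (algebraMap A B)) (B ⧸ (q.asIdeal.comap (algebraMap B (AdicCompletion (I.map (algebraMap A B)) B))) ^ m) :=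
    isAdicComplete_quotient_q'_pow A I B q hq hp m hm
  obtain ⟨b, hb⟩ := exists_sub_mem_map (I.map (algebraMap A B)) ((q.asIdeal.comap (algebraMap B (AdicCompletion (I.map (algebraMap A B)) B))) ^ m) c
  refine ⟨b, ?_⟩
  rw [Ideal.map_pow, map_q'_eq A I B q hq hp] at hb
  exact hb

include hq hp hftB in
theorem main (m : ℕ) (hm : 1 ≤ m) :
    (∀ x : Localization.AtPrime (q.asIdeal.comap (algebraMap B (AdicCompletion (I.map (algebraMap A B)) B))),
      Localization.localRingHom (q.asIdeal.comap (algebraMap B (AdicCompletion (I.map (algebraMap A B)) B))) q.asIdeal (algebraMap B (AdicCompletion (I.map (algebraMap A B)) B)) rfl x ∈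
        (IsLocalRing.maximalIdeal (Localization.AtPrime q.asIdeal)) ^ m →
      x ∈ (IsLocalRing.maximalIdeal (Localization.AtPrime (q.asIdeal.comap (algebraMap B (AdicCompletion (I.map (algebraMap A B)) B))))) ^ m) ∧
    (∀ y : Localization.AtPrime q.asIdeal, ∃ x : Localization.AtPrime (q.asIdeal.comap (algebraMap B (AdicCompletion (I.map (algebraMap A B)) B))),
      y - Localization.localRingHom (q.asIdeal.comap (algebraMap B (AdicCompletion (I.map (algebraMap A B)) B))) q.asIdeal (algebraMap B (AdicCompletion (I.map (algebraMap A B)) B)) rfl x ∈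
        (IsLocalRing.maximalIdeal (Localization.AtPrime q.asIdeal)) ^ m) := by
  have hm0 : m ≠ 0 := by omega
  have hα := mem_pow_of_algebraMap_mem A I B q hq hp m hm0
  have hβ := exists_sub_mem_pow A I B q hq hp m hm0
  exact ⟨fun x hx => localRingHom_mem_pow (algebraMap B (AdicCompletion (I.map (algebraMap A B)) B)) q.asIdeal m hm hα hβ x hx,
    fun y => exists_localRingHom_sub_mem_pow (algebraMap B (AdicCompletion (I.map (algebraMap A B)) B)) q.asIdeal m hm hβ y⟩

end

end Groth.Agent.Lib.Helper15.RigPoly
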