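import Mathlib
import Groth.Prelude.Def_GSzH1
import Groth.Prelude.Def_GSzCSA
import Groth.Prelude.Def_Curves
import Groth.Agent.Lib.Helper15.H1Units
import Groth.Agent.Lib.Helper15.RedNormUnique

set_option autoImplicit false
set_option linter.style.haveILetI false

universe u v w
open scoped TensorProduct
attribute [local instance] CSAGal.tensorAction GpH1.unitsAction

namespace Groth.Agent.Lib.Helper15.SL1H1

open Groth.Agent.Lib.Helper15.GalDescent Groth.Agent.Lib.Helper15.CSA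

section
variable {k : Type u} [Field k] {K : Type v} [Field K] [Algebra k K]
  {A : Type w} [Ring A] [Algebra k A] [Nontrivial A] [FiniteDimensional k A]
  {n : ℕ} (ψ : K ⊗[k] A ≃ₐ[K] Matrix (Fin n) (Fin n) K)
  {N : A →* k} (hN : CSAGal.IsRedNorm k A N)
  {NK : (K ⊗[k] A) →* K} (hNK : CSAGal.IsRedNorm K (K ⊗[k] A) NK)

instance : Nontrivial (K ⊗[k] A) :=
  (one_tmul_injective (k := k) (K := K) (W := A)).nontrivial

include hNK in
theorem NK_eq_det (x : K ⊗[k] A) : NK x = (ψ x).det := by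
  have := isRedNorm_det_eq hNK ((Algebra.TensorProduct.lid K (K ⊗[k] A)).trans ψ) x
  simpa using this

include ψ hN hNK in
theorem NK_one_tmul (x : A) : NK ((1 : K) ⊗ₜ[k] x) = algebraMap k K (N x) := by
  rw [NK_eq_det ψ hNK, isRedNorm_det_eq hN ψ x]

/-- the splitting twisted by a Galois automorphism -/
noncomputable def twist (σ : K ≃ₐ[k] K) : K ⊗[k] A ≃ₐ[K] Matrix (Fin n) (Fin n) K :=
  AlgEquiv.ofRingEquiv
    (f := ((MulSemiringAction.toRingEquiv (K ≃ₐ[k] K) (K ⊗[k] A) σ).trans ψ.toRingEquiv).trans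
      (RingEquiv.mapMatrix (σ.symm : K ≃+* K))) (by
    intro c
    show (RingEquiv.mapMatrix (σ.symm : K ≃+* K)) (ψ (σ • (algebraMap K (K ⊗[k] A) c))) = _
    rw [Algebra.TensorProduct.algebraMap_apply, Algebra.algebraMap_self_apply,
      GalDescent.smul_tmul]
    have : (σ c) ⊗ₜ[k] (1 : A) = algebraMap K (K ⊗[k] A) (σ c) := by
      rw [Algebra.TensorProduct.algebraMap_apply, Algebra.algebraMap_self_apply]
    rw [this, AlgEquiv.commutes]
    ext i j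
    simp only [RingEquiv.mapMatrix_apply, Matrix.map_apply, Matrix.algebraMap_matrix_apply]
    split_ifs <;> simp)

theorem twist_apply (σ : K ≃ₐ[k] K) (x : K ⊗[k] A) :
    twist ψ σ x = (ψ (σ • x)).map (σ.symm : K → K) := rfl

include ψ hNK in
theorem NK_smul (σ : K ≃ₐ[k] K) (x : K ⊗[k] A) : NK (σ • x) = σ (NK x) := by
  have h1 := NK_eq_det (twist ψ σ) hNK x
  rw [twist_apply] at h1
  have h2 : ((ψ (σ • x)).map (σ.symm : K → K)).det = σ.symm ((ψ (σ • x)).det) := by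
    exact (RingHom.map_det ((σ.symm : K ≃+* K) : K →+* K) (ψ (σ • x))).symm
  rw [h2, ← NK_eq_det ψ hNK] at h1
  rw [h1, AlgEquiv.apply_symm_apply]

end

section main
variable (k : Type u) [Field k] (K : Type v) [Field K] [Algebra k K] [FiniteDimensional k K]
  [IsGalois k K]
  (A : Type w) [Ring A] [Algebra k A] [Algebra.IsCentral k A] [IsSimpleRing A]
  [FiniteDimensional k A]

theorem main (hA : Curves.Splits k A K)
    (N : A →* k) (hN : CSAGal.IsRedNorm k A N)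
    (NK : (K ⊗[k] A) →* K) (hNK : CSAGal.IsRedNorm K (K ⊗[k] A) NK) :
    (∀ a : GpH1.OneCocycle (K ≃ₐ[k] K) (K ⊗[k] A)ˣ, (∀ σ, NK (a σ : K ⊗[k] A) = 1) →
        ∃ (c : kˣ) (b : (K ⊗[k] A)ˣ), NK (b : K ⊗[k] A) = algebraMap k K (c : k) ∧
          ∀ σ : K ≃ₐ[k] K, a σ = b⁻¹ * σ • b) ∧
    (∀ (c c' : kˣ) (b b' : (K ⊗[k] A)ˣ),
        NK (b : K ⊗[k] A) = algebraMap k K (c : k) → NK (b' : K ⊗[k] A) = algebraMap k K (c' : k) →
        ((∃ s : (K ⊗[k] A)ˣ, NK (s : K ⊗[k] A) = 1 ∧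
            ∀ σ : K ≃ₐ[k] K, b'⁻¹ * σ • b' = s⁻¹ * (b⁻¹ * σ • b) * σ • s) ↔
          ∃ x : Aˣ, (c' : k) = N (x : A) * (c : k))) := by
  obtain ⟨n, hn, ⟨ψ⟩⟩ := hA
  have hsmul := NK_smul ψ hNK
  have h1t := NK_one_tmul ψ hN hNK
  have hfixed : ∀ z : K, (∀ σ : K ≃ₐ[k] K, σ z = z) → ∃ r : k, algebraMap k K r = z := by
    intro z hz
    exact IntermediateField.mem_bot.mp ((IsGalois.mem_bot_iff_fixed z).mpr hz)
  constructor
  · intro a ha
    have htriv := H1Units.main k K A (GpH1.OneCocycle.cl a)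
    have hcoh : GpH1.Cohomologous a
        (GpH1.OneCocycle.trivial : GpH1.OneCocycle (K ≃ₐ[k] K) (K ⊗[k] A)ˣ) :=
      (GpH1.OneCocycle.cl_eq_cl_iff _ _).mp htriv
    obtain ⟨b, hb⟩ := hcoh
    have hb' : ∀ σ : K ≃ₐ[k] K, a σ = b⁻¹ * σ • b := by
      intro σ
      rw [hb σ]
      show b⁻¹ * 1 * σ • b = _
      rw [mul_one]
    have hNb : ∀ σ : K ≃ₐ[k] K, σ (NK (b : K ⊗[k] A)) = NK (b : K ⊗[k] A) := by
      intro σ
      have h1 := ha σ
      rw [hb' σ, Units.val_mul, map_mul] at h1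
      have h2 : ((σ • b : (K ⊗[k] A)ˣ) : K ⊗[k] A) = σ • (b : K ⊗[k] A) := rfl
      rw [h2, hsmul] at h1
      have h3 : NK ((b⁻¹ : (K ⊗[k] A)ˣ) : K ⊗[k] A) * NK (b : K ⊗[k] A) = 1 := by
        rw [← map_mul, Units.inv_mul, map_one]
      have hne : NK ((b⁻¹ : (K ⊗[k] A)ˣ) : K ⊗[k] A) ≠ 0 := left_ne_zero_of_mul_eq_one h3
      exact mul_left_cancel₀ hne (h1.trans h3.symm)
    obtain ⟨r, hr⟩ := hfixed _ hNb
    have hr0 : r ≠ 0 := by
      rintro rfl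
      rw [map_zero] at hr
      have h3 : NK (b : K ⊗[k] A) * NK ((b⁻¹ : (K ⊗[k] A)ˣ) : K ⊗[k] A) = 1 := by
        rw [← map_mul, Units.mul_inv, map_one]
      rw [← hr, zero_mul] at h3
      exact zero_ne_one h3
    exact ⟨Units.mk0 r hr0, b, hr.symm, hb'⟩
  · intro c c' b b' hb hb'
    constructor
    · rintro ⟨s, hs, hcoc⟩
      -- y = b s b'⁻¹ is fixed
      let y : (K ⊗[k] A)ˣ := b * s * b'⁻¹
      have hyfix : ∀ σ : K ≃ₐ[k] K, σ • y = y := by
        intro σ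
        have h := hcoc σ
        show σ • (b * s * b'⁻¹) = b * s * b'⁻¹
        rw [smul_mul', smul_mul', smul_inv']
        have h2 : σ • b' = b' * (s⁻¹ * (b⁻¹ * σ • b) * σ • s) := by
          rw [← h, mul_inv_cancel_left]
        rw [h2]
        group
      have hyfix' : ∀ σ : K ≃ₐ[k] K, σ • (y : K ⊗[k] A) = (y : K ⊗[k] A) := fun σ =>
        congrArg Units.val (hyfix σ)
      have hyfix'' : ∀ σ : K ≃ₐ[k] K, σ • ((y⁻¹ : (K ⊗[k] A)ˣ) : K ⊗[k] A) =
          ((y⁻¹ : (K ⊗[k] A)ˣ) : K ⊗[k] A) := fun σ => by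
        have := congrArg (fun u : (K ⊗[k] A)ˣ => ((u⁻¹ : (K ⊗[k] A)ˣ) : K ⊗[k] A)) (hyfix σ)
        exact this
      obtain ⟨x₀, hx₀⟩ := exists_eq_one_tmul_of_fixed (y : K ⊗[k] A) hyfix'
      obtain ⟨x₁, hx₁⟩ := exists_eq_one_tmul_of_fixed ((y⁻¹ : (K ⊗[k] A)ˣ) : K ⊗[k] A) hyfix''
      have h01 : x₀ * x₁ = 1 := by
        apply one_tmul_injective (k := k) (K := K)
        show (1 : K) ⊗ₜ[k] (x₀ * x₁) = (1 : K) ⊗ₜ[k] (1 : A)
        rw [← one_mul (1 : K), ← Algebra.TensorProduct.tmul_mul_tmul, ← hx₀, ← hx₁, Units.mul_inv,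
          one_mul]
        rfl
      have h10 : x₁ * x₀ = 1 := by
        apply one_tmul_injective (k := k) (K := K)
        show (1 : K) ⊗ₜ[k] (x₁ * x₀) = (1 : K) ⊗ₜ[k] (1 : A)
        rw [← one_mul (1 : K), ← Algebra.TensorProduct.tmul_mul_tmul, ← hx₀, ← hx₁, Units.inv_mul,
          one_mul]
        rfl
      refine ⟨⟨x₁, x₀, h10, h01⟩, ?_⟩
      apply (algebraMap k K).injective
      rw [map_mul, ← hb', ← hb, ← h1t]
      show NK (b' : K ⊗[k] A) = NK ((1 : K) ⊗ₜ[k] x₁) * NK (b : K ⊗[k] A)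
      rw [← hx₁]
      have hy : ((y⁻¹ : (K ⊗[k] A)ˣ) : K ⊗[k] A) = (b' : K ⊗[k] A) *
          ((s⁻¹ : (K ⊗[k] A)ˣ) : K ⊗[k] A) * ((b⁻¹ : (K ⊗[k] A)ˣ) : K ⊗[k] A) := by
        show (((b * s * b'⁻¹)⁻¹ : (K ⊗[k] A)ˣ) : K ⊗[k] A) = _
        rw [mul_inv_rev, mul_inv_rev, inv_inv, Units.val_mul, Units.val_mul, mul_assoc]
      have hs' : NK ((s⁻¹ : (K ⊗[k] A)ˣ) : K ⊗[k] A) = 1 := by
        have : NK ((s⁻¹ : (K ⊗[k] A)ˣ) : K ⊗[k] A) * NK (s : K ⊗[k] A) = 1 := by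
          rw [← map_mul, Units.inv_mul, map_one]
        rwa [hs, mul_one] at this
      have hbinv : NK ((b⁻¹ : (K ⊗[k] A)ˣ) : K ⊗[k] A) * NK (b : K ⊗[k] A) = 1 := by
        rw [← map_mul, Units.inv_mul, map_one]
      rw [hy, map_mul, map_mul, hs', mul_one, mul_assoc, hbinv, mul_one]
    · rintro ⟨x, hx⟩
      -- y = 1 ⊗ x⁻¹, s = b⁻¹ y b'
      let y : (K ⊗[k] A)ˣ := Units.map
        (Algebra.TensorProduct.includeRight : A →ₐ[k] K ⊗[k] A).toMonoidHom x⁻¹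
      have hyval : (y : K ⊗[k] A) = (1 : K) ⊗ₜ[k] ((x⁻¹ : Aˣ) : A) := rfl
      have hyfix : ∀ σ : K ≃ₐ[k] K, σ • y = y := by
        intro σ
        apply Units.ext
        show σ • (y : K ⊗[k] A) = (y : K ⊗[k] A)
        rw [hyval, GalDescent.smul_tmul, map_one]
      let s : (K ⊗[k] A)ˣ := b⁻¹ * y * b'
      refine ⟨s, ?_, fun σ => ?_⟩
      · show NK (((b⁻¹ * y * b' : (K ⊗[k] A)ˣ)) : K ⊗[k] A) = 1
        rw [Units.val_mul, Units.val_mul, map_mul, map_mul, hb', hyval, h1t]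
        have hbinv : NK ((b⁻¹ : (K ⊗[k] A)ˣ) : K ⊗[k] A) * NK (b : K ⊗[k] A) = 1 := by
          rw [← map_mul, Units.inv_mul, map_one]
        rw [hb] at hbinv
        have hxinv : N ((x⁻¹ : Aˣ) : A) * N (x : A) = 1 := by
          rw [← map_mul, Units.inv_mul, map_one]
        rw [hx, map_mul]
        have hc : algebraMap k K (c : k) ≠ 0 := by
          rw [map_ne_zero]; exact c.ne_zero
        have e1 : NK ((b⁻¹ : (K ⊗[k] A)ˣ) : K ⊗[k] A) = (algebraMap k K (c : k))⁻¹ :=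
          eq_inv_of_mul_eq_one_left hbinv
        rw [e1]
        have e2 : algebraMap k K (N ((x⁻¹ : Aˣ) : A)) * algebraMap k K (N (x : A)) = 1 := by
          rw [← map_mul, hxinv, map_one]
        calc (algebraMap k K (c : k))⁻¹ * algebraMap k K (N ((x⁻¹ : Aˣ) : A)) *
              (algebraMap k K (N (x : A)) * algebraMap k K (c : k))
            = ((algebraMap k K (c : k))⁻¹ * algebraMap k K (c : k)) *
              (algebraMap k K (N ((x⁻¹ : Aˣ) : A)) * algebraMap k K (N (x : A))) := by ring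
          _ = 1 := by rw [inv_mul_cancel₀ hc, e2, one_mul]
      · show b'⁻¹ * σ • b' = (b⁻¹ * y * b')⁻¹ * (b⁻¹ * σ • b) * σ • (b⁻¹ * y * b')
        rw [smul_mul', smul_mul', hyfix σ, smul_inv']
        group

end main

end Groth.Agent.Lib.Helper15.SL1H1
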