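import Mathlib
import Groth.Agent.Lib.Helper15.SmoothReduced

/-! The quotient of a smooth `ℤ`-algebra by `d - 1` for an involution `d` taking the value `-1`:
reduced but not flat. -/

set_option autoImplicit false
set_option linter.style.haveILetI false

namespace Groth.Agent.Lib.Helper15.SOFlat

open Groth.Agent.Lib.Helper15.SmoothReduced

universe u

section AL
variable {A : Type} [CommRing A] [Algebra ℤ A] [Algebra.Smooth ℤ A]

lemma two_mem (x : A) (hx : x * x ∈ Ideal.span {(2 : A)}) : x ∈ Ideal.span {(2 : A)} := by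
  haveI : (Ideal.span {(2 : ℤ)}).IsPrime :=
    (Ideal.span_singleton_prime (two_ne_zero)).mpr Int.prime_two
  have hmap : (Ideal.span {(2 : ℤ)}).map (algebraMap ℤ A) = Ideal.span {(2 : A)} := by
    rw [Ideal.map_span, Set.image_singleton, map_ofNat]
  have := mem_map_of_mul_self_mem (R := ℤ) (S := A) (Ideal.span {(2 : ℤ)}) x (by rw [hmap]; exact hx)
  rw [hmap] at this
  exact this

lemma torsion_free (x : A) (hx : 2 * x = 0) : x = 0 := by
  have hreg : IsSMulRegular ℤ (2 : ℤ) := by
    intro a b hab
    simp only [smul_eq_mul] at hab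
    omega
  have := IsSMulRegular.of_flat (S := A) hreg
  apply this
  simp only [map_ofNat, smul_eq_mul, mul_zero]
  exact hx

theorem exists_idem (d : A) (hd : d * d = 1) : ∃ e : A, 1 - d = 2 * e ∧ e * e = e := by
  have h1 : (d - 1) * (d - 1) ∈ Ideal.span {(2 : A)} := by
    rw [Ideal.mem_span_singleton]
    exact ⟨1 - d, by linear_combination hd⟩
  obtain ⟨e', he'⟩ := Ideal.mem_span_singleton.mp (two_mem _ h1)
  refine ⟨-e', by linear_combination -he', ?_⟩
  have h2 : 2 * (2 * (-e' * -e' - -e')) = 0 := by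
    have : d = 1 + 2 * e' := by linear_combination he'
    rw [this] at hd
    linear_combination hd
  exact sub_eq_zero.mp (torsion_free _ (torsion_free _ h2))

theorem reduced_not_flat (d : A) (hd : d * d = 1) (φ : A →+* ℤ) (hφ : φ d = -1) :
    IsReduced (A ⧸ Ideal.span {d - 1}) ∧ ∃ x : A ⧸ Ideal.span {d - 1}, 2 * x = 0 ∧ x ≠ 0 := by
  obtain ⟨e, he, hee⟩ := exists_idem d hd
  haveI hred : IsReduced A := isReduced_of_smooth (R := ℤ)
  constructor
  · rw [isReduced_iff_pow_one_lt 2 (by norm_num)]
    intro a ha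
    obtain ⟨x, rfl⟩ := Ideal.Quotient.mk_surjective a
    rw [← map_pow, Ideal.Quotient.eq_zero_iff_mem, pow_two, Ideal.mem_span_singleton] at ha
    obtain ⟨w, hw⟩ := ha
    rw [Ideal.Quotient.eq_zero_iff_mem, Ideal.mem_span_singleton]
    have h1 : (1 - e) * x = 0 := by
      have : ((1 - e) * x) ^ 2 = 0 := by
        have : ((1 - e) * x) ^ 2 = (1 - e) * (1 - e) * (x * x) := by ring
        rw [this, hw]
        linear_combination (-(1 - e) * (1 - e) * w) * he + (-2 * w * (e - 1)) * hee
      exact pow_eq_zero_iff (two_ne_zero) |>.mp this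
    have h2 : e * x ∈ Ideal.span {(2 : A)} := by
      apply two_mem
      rw [Ideal.mem_span_singleton]
      refine ⟨-(e * w), ?_⟩
      have : e * x * (e * x) = e * e * (x * x) := by ring
      rw [this, hw, hee]
      linear_combination (-(e * w)) * he + (-2 * w) * hee
    obtain ⟨z, hz⟩ := Ideal.mem_span_singleton.mp h2
    refine ⟨-(e * z), ?_⟩
    have h3 : x = e * x := by linear_combination h1
    calc x = e * x := h3
      _ = e * (e * x) := by rw [← mul_assoc, hee]
      _ = e * (2 * z) := by rw [hz]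
      _ = (d - 1) * -(e * z) := by linear_combination (-(e * z)) * he + (-2 * z) * hee
  · refine ⟨Ideal.Quotient.mk (Ideal.span {d - 1}) e, ?_, ?_⟩
    · rw [← map_ofNat (Ideal.Quotient.mk (Ideal.span {d - 1})) 2, ← map_mul, ← he,
        Ideal.Quotient.eq_zero_iff_mem, Ideal.mem_span_singleton]
      exact ⟨-1, by ring⟩
    · intro h0
      rw [Ideal.Quotient.eq_zero_iff_mem, Ideal.mem_span_singleton] at h0
      obtain ⟨w, hw⟩ := h0
      have h1 := congrArg φ he
      have h2 := congrArg φ hw
      simp only [map_sub, map_one, map_mul, hφ, map_ofNat] at h1 h2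
      omega

end AL

end Groth.Agent.Lib.Helper15.SOFlat
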