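import Mathlib
import Groth.Agent.Lib.Helper15.SOFlat1
import Groth.Agent.Lib.Helper15.OrthOdd7
import Groth.Agent.Lib.Helper15.QSplit9

/-! The naive special orthogonal group of the split form of even rank over `ℤ` is reduced and
not flat. -/

set_option autoImplicit false
set_option linter.style.haveILetI false

namespace Groth.Agent.Lib.Helper15.SOFlat

open Matrix CategoryTheory AlgebraicGeometry
open Groth.Agent.Lib.Helper8.QuadCtr
open Groth.Agent.Lib.Helper15.Rep
open Groth.Agent.Lib.Helper15.Orth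
open Groth.Agent.Lib.Helper2.HalfDisc
open QuadGrp

universe u

section Split
variable (T : Type u) [CommRing T]

lemma isUnit_det_polar_Wsp (m : ℕ) :
    IsUnit (QSplit.Wsp T (2 * m) + (QSplit.Wsp T (2 * m))ᵀ).det := by
  induction m with
  | zero =>
    haveI : IsEmpty (Fin (2 * 0)) := Fin.isEmpty
    have : (QSplit.Wsp T (2 * 0) + (QSplit.Wsp T (2 * 0))ᵀ).det = 1 := Matrix.det_isEmpty
    rw [this]; exact isUnit_one
  | succ m ih =>
    have : QSplit.Wsp T (2 * (m + 1)) = QSplit.bsum (QSplit.Wsp T (2 * m)) := rfl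
    rw [this, QSplit.det_polar_bsum]
    exact ih.neg

theorem isUnit_smat_splitForm (m : ℕ) : IsUnit (smat (QuadGrp.splitForm T (2 * m))).det := by
  rw [smat, QSplit.QEq.det_eq QSplit.qeq_bmat_splitForm]
  exact isUnit_det_polar_Wsp T m

end Split

section Swap

theorem exists_swap (k : ℕ) : ∃ P : Matrix (Fin (k + 2)) (Fin (k + 2)) ℤ, P * P = 1 ∧ P.det = -1 ∧
    ∀ y, QuadGrp.splitForm ℤ (k + 2) (P *ᵥ y) = QuadGrp.splitForm ℤ (k + 2) y := by
  let a : Fin (k + 2) := ⟨k, by omega⟩
  let b : Fin (k + 2) := ⟨k + 1, by omega⟩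
  have hab : a ≠ b := by
    intro h
    have := congrArg Fin.val h
    simp only [a, b] at this
    omega
  let σ : Equiv.Perm (Fin (k + 2)) := Equiv.swap a b
  refine ⟨σ.toPEquiv.toMatrix, ?_, ?_, ?_⟩
  · rw [PEquiv.toMatrix_toPEquiv_mul]
    ext i j
    rw [Matrix.submatrix_apply, PEquiv.toMatrix_toPEquiv_apply, Matrix.one_apply, id,
      Pi.single_apply]
    simp only [σ, Equiv.swap_apply_self]
    by_cases hij : i = j
    · rw [if_pos hij, if_pos hij.symm]
    · rw [if_neg hij, if_neg (fun h => hij h.symm)]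
  · rw [Matrix.det_permutation, Equiv.Perm.sign_swap hab]
    simp
  · intro y
    rw [PEquiv.toMatrix_toPEquiv_mulVec, QSplit.splitForm_apply, QSplit.splitForm_apply,
      QSplit.SS_succ2, QSplit.SS_succ2]
    have h1 : QSplit.ext0 (y ∘ σ) k = y b := by
      rw [QSplit.ext0_of_lt _ _ (by omega : k < k + 2), Function.comp_apply]
      exact congrArg y (Equiv.swap_apply_left a b)
    have h2 : QSplit.ext0 (y ∘ σ) (k + 1) = y a := by
      rw [QSplit.ext0_of_lt _ _ (by omega : k + 1 < k + 2), Function.comp_apply]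
      exact congrArg y (Equiv.swap_apply_right a b)
    have h3 : QSplit.ext0 y k = y a := QSplit.ext0_of_lt _ _ (by omega : k < k + 2)
    have h4 : QSplit.ext0 y (k + 1) = y b := QSplit.ext0_of_lt _ _ (by omega : k + 1 < k + 2)
    have h5 : QSplit.SS k (QSplit.ext0 (y ∘ σ)) = QSplit.SS k (QSplit.ext0 y) := by
      apply QSplit.SS_congr
      intro j hj
      rw [QSplit.ext0_of_lt _ _ (by omega : j < k + 2), QSplit.ext0_of_lt _ _ (by omega : j < k + 2),
        Function.comp_apply]
      congr 1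
      apply Equiv.swap_apply_of_ne_of_ne
      · intro h
        have := congrArg Fin.val h
        simp only [a] at this
        omega
      · intro h
        have := congrArg Fin.val h
        simp only [b] at this
        omega
    rw [h1, h2, h3, h4, h5, mul_comm (y b)]

end Swap

section Det
variable {R : Type u} [CommRing R] {n : ℕ} (Q : QuadraticForm R (Fin n → R))
variable {C : Type u} [CommRing C] [Algebra R C]

theorem det_mul_self_of_isometry (hS : IsUnit (smat Q).det) (X : Matrix (Fin n) (Fin n) C)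
    (hiso : ∀ y, qc Q C (X *ᵥ y) = qc Q C y) : X.det * X.det = 1 := by
  set W := (bmat Q).map (algebraMap R C) with hW
  have hSW : (smat Q).map (algebraMap R C) = W + Wᵀ := smat_map_eq Q
  have hSu : IsUnit (W + Wᵀ).det := by
    rw [← hSW]
    have : ((smat Q).map (algebraMap R C)).det = algebraMap R C (smat Q).det := by
      rw [← RingHom.mapMatrix_apply, ← RingHom.map_det]
    rw [this]
    exact hS.map _
  have key : qf (Xᵀ * W * X) = qf W := by
    ext y
    rw [qf_conj]
    exact hiso y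
  have h5 := symm_eq_of_qf_eq key
  have h6 : Xᵀ * W * X + (Xᵀ * W * X)ᵀ = Xᵀ * (W + Wᵀ) * X := by
    simp [Matrix.transpose_mul, Matrix.mul_add, Matrix.add_mul, Matrix.mul_assoc]
  rw [h6] at h5
  have h7 := congrArg Matrix.det h5
  rw [Matrix.det_mul, Matrix.det_mul, Matrix.det_transpose] at h7
  have h8 : (X.det * X.det) * (W + Wᵀ).det = 1 * (W + Wᵀ).det := by linear_combination h7
  exact hSu.mul_left_injective h8

end Det

section Main
variable {G : Over (Spec (CommRingCat.of ℤ))} [GrpObj G]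

theorem sorth'_split_reduced_not_flat (m : ℕ) (hm : 1 ≤ m)
    (D : QuadGrp.SOrth'Rep (QuadGrp.splitForm ℤ (2 * m)) G) :
    AlgebraicGeometry.IsReduced G.left ∧ ¬ AlgebraicGeometry.Flat G.hom := by
  obtain ⟨k, hk⟩ : ∃ k, 2 * m = k + 2 := ⟨2 * m - 2, by omega⟩
  have hS := isUnit_smat_splitForm ℤ m
  revert D hS
  generalize 2 * m = n at hk
  subst hk
  intro D hS
  set Q := QuadGrp.splitForm ℤ (k + 2) with hQ
  haveI : Algebra.Smooth ℤ (ZAlg ℤ (relsO Q)) := smooth_orth Q hS
  -- the universal point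
  let au : Idx (k + 2) → ZAlg ℤ (relsO Q) := ZAlg.coord (AlgHom.id ℤ (ZAlg ℤ (relsO Q)))
  have hau : ∀ p ∈ relsO Q, MvPolynomial.aeval au p = 0 := ZAlg.coord_mem _
  obtain ⟨-, hiso⟩ := (relsO_iff Q au).mp hau
  obtain ⟨d, hddef⟩ : ∃ d, d = (Xm au).det := ⟨_, rfl⟩
  have hdd : d * d = 1 := by rw [hddef]; exact det_mul_self_of_isometry Q hS _ hiso
  set δ : MvPolynomial (Idx (k + 2)) ℤ := (Xu ℤ (k + 2)).det - 1 with hδ
  have hdδ : Ideal.Quotient.mk (Ideal.span (relsO Q)) δ = d - 1 := by
    have := ZAlg.apply_mk (AlgHom.id ℤ (ZAlg ℤ (relsO Q))) δ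
    rw [AlgHom.id_apply] at this
    rw [this, hδ, aeval_det, hddef]
  -- the integral point of determinant `-1`
  obtain ⟨P, hPP, hPdet, hPiso⟩ := exists_swap k
  have hP : ∀ p ∈ relsO Q, MvPolynomial.aeval (ptOf P P) p = 0 := by
    rw [relsO_iff, Xm_ptOf, Ym_ptOf]
    refine ⟨⟨hPP, hPP⟩, fun y => ?_⟩
    rw [qc_self, qc_self]
    exact hPiso y
  let φ : ZAlg ℤ (relsO Q) →+* ℤ := (ZAlg.ofPoint (ptOf P P) hP).toRingHom
  have hφ : φ d = -1 := by
    have h1 : φ (d - 1) = -1 - 1 := by
      rw [← hdδ]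
      change ZAlg.ofPoint (ptOf P P) hP (Ideal.Quotient.mk _ δ) = -1 - 1
      rw [ZAlg.ofPoint_mk, hδ, aeval_det, Xm_ptOf, hPdet]
    rw [map_sub, map_one] at h1
    linarith
  obtain ⟨hred, x, hx2, hx0⟩ := reduced_not_flat d hdd φ hφ
  -- the comparison isomorphism
  have e1 : Ideal.span {d - 1} =
      (Ideal.span {δ}).map (Ideal.Quotient.mk (Ideal.span (relsO Q))) := by
    rw [Ideal.map_span, Set.image_singleton, hdδ]
  have e2 : Ideal.span (relsO Q) ⊔ Ideal.span {δ} = Ideal.span (relsSO' Q) := by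
    rw [← Ideal.span_union]; rfl
  let e : (ZAlg ℤ (relsO Q) ⧸ Ideal.span {d - 1}) ≃+* ZAlg ℤ (relsSO' Q) :=
    ((Ideal.quotEquivOfEq e1).trans
      (DoubleQuot.quotQuotEquivQuotSup (Ideal.span (relsO Q)) (Ideal.span {δ}))).trans
      (Ideal.quotEquivOfEq e2)
  have hredH : _root_.IsReduced (ZAlg ℤ (relsSO' Q)) :=
    isReduced_of_injective e.symm.toRingHom e.symm.injective
  constructor
  · exact (((cutOut_sorth' Q).algPts D).isReduced_iff).mpr hredH
  · intro hflat
    rw [((cutOut_sorth' Q).algPts D).flat_iff] at hflat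
    have hreg : IsSMulRegular ℤ (2 : ℤ) := by
      intro a b hab
      simp only [smul_eq_mul] at hab
      omega
    have hreg' := IsSMulRegular.of_flat (S := ZAlg ℤ (relsSO' Q)) hreg
    apply hx0
    apply e.injective
    apply hreg'
    simp only [map_ofNat, smul_eq_mul, map_zero, mul_zero]
    rw [← map_ofNat e 2, ← map_mul, hx2, map_zero]

end Main

end Groth.Agent.Lib.Helper15.SOFlat
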