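import Mathlib

/-!
# Automorphisms of a progenerator commuting with all endomorphisms are central scalars (helper15)
-/

set_option autoImplicit false
set_option linter.style.haveILetI false
universe u v

namespace Groth.Agent.Lib.Helper15.ScalarAut

variable {A : Type u} [Ring A] {P : Type v} [AddCommGroup P] [Module A P]

/-- the trace ideal of `P`, as a left ideal -/
def traceIdeal (A : Type u) [Ring A] (P : Type v) [AddCommGroup P] [Module A P] : Ideal A :=
  Submodule.span A {a | ∃ (ψ : P →ₗ[A] A) (y : P), ψ y = a}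

lemma traceIdeal_mul_right {t : A} (ht : t ∈ traceIdeal A P) (b : A) : t * b ∈ traceIdeal A P := by
  refine Submodule.span_induction ?_ ?_ ?_ ?_ ht
  · rintro _ ⟨ψ, y, rfl⟩
    apply Submodule.subset_span
    refine ⟨(LinearMap.toSpanSingleton A A b) ∘ₗ ψ, y, ?_⟩
    simp
  · simp
  · intro x y _ _ hx hy
    rw [add_mul]; exact add_mem hx hy
  · intro c x _ hx
    rw [smul_eq_mul, mul_assoc]
    exact Ideal.mul_mem_left _ c hx

lemma apply_mem_traceIdeal (ψ : P →ₗ[A] A) (y : P) : ψ y ∈ traceIdeal A P :=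
  Submodule.subset_span ⟨ψ, y, rfl⟩

/-- dual basis expansion -/
lemma dual_basis [Module.Finite A P] [Module.Projective A P] :
    ∃ (n : ℕ) (p : Fin n → P) (φ : Fin n → (P →ₗ[A] A)), ∀ x : P, x = ∑ i, φ i x • p i := by
  obtain ⟨n, f, g, -, -, hfg⟩ := Module.Finite.exists_comp_eq_id_of_projective A P
  refine ⟨n, fun i => f (Pi.single i 1), fun i => LinearMap.proj i ∘ₗ g, fun x => ?_⟩
  have h1 : x = f (g x) := by
    have := congrArg (fun φ => φ x) hfg
    simpa using this.symm
  have h2 : g x = ∑ i, (g x i) • (Pi.single i (1 : A) : Fin n → A) := by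
    ext j
    simp [Finset.sum_apply, Pi.single_apply]
  conv_lhs => rw [h1, h2]
  rw [map_sum]
  refine Finset.sum_congr rfl fun i _ => ?_
  rw [map_smul]
  rfl

theorem traceIdeal_eq_top [IsSimpleRing (A ⧸ Ring.jacobson A)] [Module.Finite A P]
    [Module.Projective A P] [Nontrivial P] : traceIdeal A P = ⊤ := by
  by_contra hT
  -- the image in `A ⧸ J`
  let T' : TwoSidedIdeal (A ⧸ Ring.jacobson A) :=
    TwoSidedIdeal.mk' {z | ∃ t ∈ traceIdeal A P, Ideal.Quotient.mk (Ring.jacobson A) t = z}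
      ⟨0, zero_mem _, map_zero _⟩
      (by
        rintro _ _ ⟨t, ht, rfl⟩ ⟨s, hs, rfl⟩
        exact ⟨t + s, add_mem ht hs, map_add _ _ _⟩)
      (by
        rintro _ ⟨t, ht, rfl⟩
        exact ⟨-t, neg_mem ht, map_neg _ _⟩)
      (by
        rintro x _ ⟨t, ht, rfl⟩
        obtain ⟨b, rfl⟩ := Ideal.Quotient.mk_surjective x
        exact ⟨b * t, Ideal.mul_mem_left _ b ht, map_mul _ _ _⟩)
      (by
        rintro _ y ⟨t, ht, rfl⟩
        obtain ⟨b, rfl⟩ := Ideal.Quotient.mk_surjective y
        exact ⟨t * b, traceIdeal_mul_right ht b, map_mul _ _ _⟩)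
  rcases eq_bot_or_eq_top T' with hbot | htop
  · -- `T ≤ J`
    have hle : traceIdeal A P ≤ Ring.jacobson A := by
      intro t ht
      have h1 : Ideal.Quotient.mk (Ring.jacobson A) t ∈ T' := by
        rw [TwoSidedIdeal.mem_mk']
        exact ⟨t, ht, rfl⟩
      rw [hbot, TwoSidedIdeal.mem_bot] at h1
      exact Ideal.Quotient.eq_zero_iff_mem.mp h1
    obtain ⟨n, p, φ, hexp⟩ := dual_basis (A := A) (P := P)
    have htop : (⊤ : Submodule A P) ≤ Ring.jacobson A • (⊤ : Submodule A P) := by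
      intro x _
      rw [hexp x]
      refine Submodule.sum_mem _ fun i _ => ?_
      exact Submodule.smul_mem_smul (hle (apply_mem_traceIdeal (φ i) x)) Submodule.mem_top
    have hfg : (⊤ : Submodule A P).FG := Module.Finite.fg_top
    have := Submodule.FG.eq_bot_of_le_jacobson_smul hfg htop
    exact top_ne_bot this
  · have h1 : (1 : A ⧸ Ring.jacobson A) ∈ T' := by rw [htop]; trivial
    rw [TwoSidedIdeal.mem_mk'] at h1
    obtain ⟨t, ht, h1t⟩ := h1
    obtain ⟨m, hm, hTm⟩ := Ideal.exists_le_maximal _ hT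
    have hJ : Ring.jacobson A ≤ m := Ring.jacobson_le_of_isMaximal m
    have h2 : 1 - t ∈ Ring.jacobson A := by
      rw [← Ideal.Quotient.eq_zero_iff_mem, map_sub, map_one, h1t, sub_self]
    have h3 : (1 : A) ∈ m := by
      have := add_mem (hTm ht) (hJ h2)
      rwa [add_sub_cancel] at this
    exact hm.ne_top ((Ideal.eq_top_iff_one m).mpr h3)

/-- `P` is faithful when the trace ideal is everything -/
lemma faithful (hT : traceIdeal A P = ⊤) (c : A) (hc : ∀ x : P, c • x = 0) : c = 0 := by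
  have key : ∀ t ∈ traceIdeal A P, ∀ c : A, (∀ x : P, c • x = 0) → c * t = 0 := by
    intro t ht
    refine Submodule.span_induction ?_ ?_ ?_ ?_ ht
    · rintro _ ⟨ψ, y, rfl⟩ c hc
      rw [← smul_eq_mul, ← map_smul, hc, map_zero]
    · intro c _; rw [mul_zero]
    · intro x y _ _ hx hy c hc
      rw [mul_add, hx c hc, hy c hc, add_zero]
    · intro b x _ hx c hc
      rw [smul_eq_mul, ← mul_assoc]
      apply hx
      intro x
      rw [mul_smul, hc]
  have := key 1 (by rw [hT]; trivial) c hc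
  rwa [mul_one] at this

theorem main (A : Type u) [Ring A] [IsSimpleRing (A ⧸ Ring.jacobson A)]
    (P : Type v) [AddCommGroup P] [Module A P] [Module.Finite A P] [Module.Projective A P]
    [Nontrivial P] (u : P ≃ₗ[A] P)
    (hu : ∀ f : Module.End A P, (u : P →ₗ[A] P) ∘ₗ f = f ∘ₗ (u : P →ₗ[A] P)) :
    ∃! a : A, (∀ b : A, a * b = b * a) ∧ ∀ x : P, u x = a • x := by
  have hT := traceIdeal_eq_top (A := A) (P := P)
  have key : ∀ t ∈ traceIdeal A P, ∃ a' : A, ∀ x : P, t • u x = a' • x := by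
    intro t ht
    refine Submodule.span_induction ?_ ?_ ?_ ?_ ht
    · rintro _ ⟨ψ, y, rfl⟩
      refine ⟨ψ (u y), fun x => ?_⟩
      have h := congrArg (fun F => F y) (hu ((LinearMap.toSpanSingleton A P x) ∘ₗ ψ))
      simp only [LinearMap.comp_apply, LinearMap.toSpanSingleton_apply, LinearEquiv.coe_coe,
        map_smul] at h
      exact h
    · exact ⟨0, fun x => by rw [zero_smul, zero_smul]⟩
    · rintro x y _ _ ⟨a₁, h₁⟩ ⟨a₂, h₂⟩
      exact ⟨a₁ + a₂, fun z => by rw [add_smul, add_smul, h₁, h₂]⟩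
    · rintro b x _ ⟨a₁, h₁⟩
      exact ⟨b * a₁, fun z => by rw [smul_eq_mul, mul_smul, mul_smul, h₁]⟩
  obtain ⟨a, ha⟩ := key 1 (by rw [hT]; trivial)
  simp only [one_smul] at ha
  refine ⟨a, ⟨fun b => ?_, ha⟩, ?_⟩
  · have : a * b - b * a = 0 := by
      apply faithful hT
      intro x
      rw [sub_smul, mul_smul, mul_smul, ← ha, ← ha, map_smul, sub_self]
    exact sub_eq_zero.mp this
  · rintro a' ⟨-, ha'⟩
    have : a' - a = 0 := by
      apply faithful hT
      intro x
      rw [sub_smul, ← ha, ← ha', sub_self]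
    exact sub_eq_zero.mp this

end Groth.Agent.Lib.Helper15.ScalarAut
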