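import Mathlib

/-!
# Descent of finite-dimensional algebras to finitely generated subfields (helper15)
-/

set_option autoImplicit false
universe u
open scoped TensorProduct

namespace Groth.Agent.Lib.Helper15.SepAlgBrauer

section Descent

variable (K F' : Type u) [Field K] [Field F'] [Algebra K F'] [Algebra.IsAlgebraic K F']
variable (D : Type u) [Ring D] [Algebra F' D] [FiniteDimensional F' D]

/-- A finite-dimensional algebra over an algebraic extension `F'/K` descends to a finite
subextension `E` (adjoin the structure constants of a basis). -/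
theorem exists_descent :
    ∃ (E : IntermediateField K F') (_ : FiniteDimensional K E) (D₀ : Subalgebra E D)
      (_ : FiniteDimensional E D₀), Nonempty (F' ⊗[E] D₀ ≃ₐ[F'] D) := by
  classical
  let n := Module.finrank F' D
  let b : Module.Basis (Fin n) F' D := Module.finBasis F' D
  let S : Set F' := Set.range (fun p : Fin n × Fin n × Fin n => b.repr (b p.1 * b p.2.1) p.2.2) ∪
    Set.range (fun k => b.repr 1 k)
  have hS : S.Finite := (Set.finite_range _).union (Set.finite_range _)
  haveI : Finite S := hS.to_subtype
  let E : IntermediateField K F' := IntermediateField.adjoin K S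
  have hE : FiniteDimensional K E :=
    IntermediateField.finiteDimensional_adjoin (fun x _ => Algebra.IsIntegral.isIntegral x)
  have hc : ∀ i j k, b.repr (b i * b j) k ∈ E := fun i j k =>
    IntermediateField.subset_adjoin K S (Or.inl ⟨(i, j, k), rfl⟩)
  have hu : ∀ k, b.repr 1 k ∈ E := fun k =>
    IntermediateField.subset_adjoin K S (Or.inr ⟨k, rfl⟩)
  let P : Submodule E D := Submodule.span E (Set.range b)
  have hbP : ∀ i, b i ∈ P := fun i => Submodule.subset_span ⟨i, rfl⟩
  have h_one : (1 : D) ∈ P := by
    rw [← b.sum_repr 1]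
    refine Submodule.sum_mem _ fun k _ => ?_
    have : b.repr 1 k • b k = (⟨b.repr 1 k, hu k⟩ : E) • b k := rfl
    rw [this]
    exact P.smul_mem _ (hbP k)
  have h_mul : ∀ x y, x ∈ P → y ∈ P → x * y ∈ P := by
    have h1 : P * P ≤ P := by
      rw [Submodule.span_mul_span, Submodule.span_le]
      rintro _ ⟨_, ⟨i, rfl⟩, _, ⟨j, rfl⟩, rfl⟩
      change b i * b j ∈ P
      rw [← b.sum_repr (b i * b j)]
      refine Submodule.sum_mem _ fun k _ => ?_
      have : b.repr (b i * b j) k • b k = (⟨b.repr (b i * b j) k, hc i j k⟩ : E) • b k := rfl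
      rw [this]
      exact P.smul_mem _ (hbP k)
    intro x y hx hy
    exact h1 (Submodule.mul_mem_mul hx hy)
  let D₀ : Subalgebra E D := P.toSubalgebra h_one h_mul
  let v : Fin n → D₀ := fun i => ⟨b i, hbP i⟩
  have hvli : LinearIndependent E v := by
    have h1 : LinearIndependent E (fun i => (b i : D)) :=
      b.linearIndependent.restrict_scalars' E
    exact LinearIndependent.of_comp D₀.val.toLinearMap h1
  have hvsp : ⊤ ≤ Submodule.span E (Set.range v) := by
    rintro ⟨x, hx⟩ -
    have h1 : Submodule.map D₀.val.toLinearMap (Submodule.span E (Set.range v)) = P := by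
      rw [Submodule.map_span, ← Set.range_comp]
      rfl
    have h2 : x ∈ Submodule.map D₀.val.toLinearMap (Submodule.span E (Set.range v)) := by
      rw [h1]; exact hx
    obtain ⟨y, hy, hyx⟩ := h2
    have : y = ⟨x, hx⟩ := Subtype.ext hyx
    rw [← this]
    exact hy
  let b₀ : Module.Basis (Fin n) E D₀ := Module.Basis.mk hvli hvsp
  have hfin : FiniteDimensional E D₀ := Module.Finite.of_basis b₀
  let φ : F' ⊗[E] D₀ →ₐ[F'] D :=
    Algebra.TensorProduct.lift (Algebra.ofId F' D) D₀.val
      (fun x y => Algebra.commute_algebraMap_left x (y : D))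
  have hφ : φ.toLinearMap =
      ((Algebra.TensorProduct.basis F' b₀).equiv b (Equiv.refl _)).toLinearMap := by
    refine (Algebra.TensorProduct.basis F' b₀).ext fun i => ?_
    rw [LinearEquiv.coe_coe, Module.Basis.equiv_apply, Algebra.TensorProduct.basis_apply]
    change φ ((1 : F') ⊗ₜ[E] b₀ i) = _
    rw [Algebra.TensorProduct.lift_tmul, map_one, one_mul, Module.Basis.mk_apply]
    rfl
  have hbij : Function.Bijective φ := by
    have h1 : Function.Bijective φ.toLinearMap := by
      rw [hφ]
      exact LinearEquiv.bijective _
    exact h1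
  exact ⟨E, hE, D₀, hfin, ⟨AlgEquiv.ofBijective φ hbij⟩⟩

end Descent

section MatrixDivision

/-- A division ring isomorphic to a matrix algebra over a field is one-dimensional. -/
theorem finrank_eq_one_of_algEquiv_matrix (F : Type*) [Field F] (D : Type*) [DivisionRing D]
    [Algebra F D] (n : ℕ) (e : D ≃ₐ[F] Matrix (Fin n) (Fin n) F) : Module.finrank F D = 1 := by
  have h1 : Module.finrank F D = n * n := by
    rw [e.toLinearEquiv.finrank_eq, Module.finrank_matrix]
    simp
  have hn0 : n ≠ 0 := by
    rintro rfl
    have : Subsingleton (Matrix (Fin 0) (Fin 0) F) := inferInstance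
    have : Subsingleton D := e.toEquiv.subsingleton
    exact one_ne_zero (Subsingleton.elim (1 : D) 0)
  have hn2 : n < 2 := by
    by_contra h
    rw [not_lt] at h
    let i : Fin n := ⟨0, by omega⟩
    let j : Fin n := ⟨1, by omega⟩
    have hij : i ≠ j := by
      intro h'
      have := congrArg Fin.val h'
      simp [i, j] at this
    let x : D := e.symm (Matrix.single i j 1)
    have hx2 : x * x = 0 := by
      change e.symm _ * e.symm _ = 0
      rw [← map_mul, Matrix.single_mul_single_of_ne _ _ _ _ hij.symm, map_zero]
    have hx0 : x = 0 := mul_self_eq_zero.mp hx2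
    have : Matrix.single i j (1 : F) = 0 := by
      have := congrArg e hx0
      rwa [AlgEquiv.apply_symm_apply, map_zero] at this
    have := congrFun (congrFun this i) j
    simp at this
  have : n = 1 := by omega
  rw [h1, this]

end MatrixDivision

end Groth.Agent.Lib.Helper15.SepAlgBrauer
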