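import Mathlib
import Groth.Prelude.Def_SymTen
import Groth.Agent.Lib.Helper15.TSNoether
import Groth.Agent.Lib.Helper15.GradedAvoid

/-!
# The Segre subalgebra of the tensor power of a graded algebra and its symmetric part (helper15)
-/

set_option autoImplicit false
universe u
open scoped TensorProduct

namespace Groth.Agent.Lib.Helper15.SymProj

variable {A B : Type u} [CommRing A] [CommRing B] [Algebra A B] (𝒜 : ℕ → Submodule A B) (d : ℕ)

/-- pure tensors of degree `k` -/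
def pureSet (k : ℕ) : Set (⨂[A] _ : Fin d, B) :=
  {s | ∃ b : Fin d → B, (∀ i, b i ∈ 𝒜 k) ∧ s = PiTensorProduct.tprod A b}

/-- the Segre subalgebra `C = ⊕_k B_k ⊗ ⋯ ⊗ B_k` -/
noncomputable def CC : Subalgebra A (⨂[A] _ : Fin d, B) :=
  Algebra.adjoin A {t | ∃ (k : ℕ) (b : Fin d → B), (∀ i, b i ∈ 𝒜 k) ∧ t = PiTensorProduct.tprod A b}

/-- its symmetric part -/
noncomputable def DD : Subalgebra A (⨂[A] _ : Fin d, B) := CC 𝒜 d ⊓ SymTen.TS A B d

theorem pure_mem_CC {k : ℕ} {x : ⨂[A] _ : Fin d, B} (hx : x ∈ pureSet 𝒜 d k) : x ∈ CC 𝒜 d := by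
  obtain ⟨b, hb, rfl⟩ := hx
  exact Algebra.subset_adjoin ⟨k, b, hb, rfl⟩

theorem span_pure_le_CC (k : ℕ) :
    Submodule.span A (pureSet 𝒜 d k) ≤ Subalgebra.toSubmodule (CC 𝒜 d) :=
  Submodule.span_le.mpr fun _ hx => pure_mem_CC 𝒜 d hx

theorem perm_mem_CC (σ : Equiv.Perm (Fin d)) (x : ⨂[A] _ : Fin d, B) (hx : x ∈ CC 𝒜 d) :
    SymTen.perm A B d σ x ∈ CC 𝒜 d := by
  have h : (CC 𝒜 d).map (SymTen.perm A B d σ) ≤ CC 𝒜 d := by
    unfold CC
    rw [AlgHom.map_adjoin]
    apply Algebra.adjoin_mono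
    rintro _ ⟨t, ⟨k, b, hb, rfl⟩, rfl⟩
    exact ⟨k, fun i => b (σ.symm i), fun i => hb _, SymTen.perm_tprod A B d σ b⟩
  exact h ⟨x, hx, rfl⟩

/-- the permutation action on `C` -/
noncomputable def permCC (σ : Equiv.Perm (Fin d)) : CC 𝒜 d →ₐ[A] CC 𝒜 d :=
  ((SymTen.perm A B d σ).comp (CC 𝒜 d).val).codRestrict (CC 𝒜 d)
    (fun x => perm_mem_CC 𝒜 d σ x.1 x.2)

theorem permCC_val (σ : Equiv.Perm (Fin d)) (x : CC 𝒜 d) :
    ((permCC 𝒜 d σ x : CC 𝒜 d) : ⨂[A] _ : Fin d, B) = SymTen.perm A B d σ x.1 := rfl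

noncomputable def actCC : MulSemiringAction (Equiv.Perm (Fin d)) (CC 𝒜 d) where
  smul σ x := permCC 𝒜 d σ x
  one_smul x := Subtype.ext (TSNoether.perm_one A B d x.1)
  mul_smul σ τ x := Subtype.ext (TSNoether.perm_mul A B d σ τ x.1)
  smul_zero σ := map_zero _
  smul_add σ x y := map_add _ x y
  smul_one σ := map_one _
  smul_mul σ x y := map_mul _ x y

/-- the inclusion `D → C` -/
noncomputable def incl : DD 𝒜 d →ₐ[A] CC 𝒜 d :=
  Subalgebra.inclusion (inf_le_left : DD 𝒜 d ≤ CC 𝒜 d)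

theorem incl_val (x : DD 𝒜 d) : ((incl 𝒜 d x : CC 𝒜 d) : ⨂[A] _ : Fin d, B) = x.1 := rfl

theorem incl_injective : Function.Injective (incl 𝒜 d) :=
  Subalgebra.inclusion_injective _

theorem isIntegral_incl : (incl 𝒜 d).toRingHom.IsIntegral := by
  letI : Algebra (DD 𝒜 d) (CC 𝒜 d) := (incl 𝒜 d).toRingHom.toAlgebra
  letI := actCC 𝒜 d
  haveI : SMulCommClass (Equiv.Perm (Fin d)) (DD 𝒜 d) (CC 𝒜 d) := by
    refine ⟨fun σ a c => ?_⟩
    apply Subtype.ext
    show SymTen.perm A B d σ (a.1 * c.1) = a.1 * SymTen.perm A B d σ c.1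
    rw [map_mul, SymTen.perm_apply A B d σ a.1, a.2.2 σ]
  haveI : Algebra.IsInvariant (DD 𝒜 d) (CC 𝒜 d) (Equiv.Perm (Fin d)) := by
    refine ⟨fun c hc => ⟨⟨c.1, c.2, fun σ => ?_⟩, rfl⟩⟩
    rw [← SymTen.perm_apply]
    exact congrArg Subtype.val (hc σ)
  have h := Algebra.IsInvariant.isIntegral (DD 𝒜 d) (CC 𝒜 d) (Equiv.Perm (Fin d))
  exact fun c => h.isIntegral c

/-- lying over for `D ⊆ C` -/
theorem exists_prime_over (q : Ideal (DD 𝒜 d)) [q.IsPrime] :
    ∃ Q : Ideal (CC 𝒜 d), Q.IsPrime ∧ Q.comap (incl 𝒜 d).toRingHom = q := by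
  letI : Algebra (DD 𝒜 d) (CC 𝒜 d) := (incl 𝒜 d).toRingHom.toAlgebra
  haveI : Algebra.IsIntegral (DD 𝒜 d) (CC 𝒜 d) := ⟨isIntegral_incl 𝒜 d⟩
  obtain ⟨Q, -, hQ, hQq⟩ := Ideal.exists_ideal_over_prime_of_isIntegral q (⊥ : Ideal (CC 𝒜 d)) (by
    intro x hx
    have h0 : incl 𝒜 d x = 0 := hx
    have : x = 0 := incl_injective 𝒜 d (h0.trans (map_zero _).symm)
    rw [this]
    exact Ideal.zero_mem _)
  exact ⟨Q, hQ, hQq⟩

section radical

theorem exists_pow_mem_of_forall_prime {R : Type*} [CommRing R] (J : Ideal R) (t : R)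
    (h : ∀ q : Ideal R, q.IsPrime → J ≤ q → t ∈ q) : ∃ m : ℕ, 0 < m ∧ t ^ m ∈ J := by
  have ht : t ∈ J.radical := by
    rw [Ideal.radical_eq_sInf, Ideal.mem_sInf]
    intro q hq
    exact h q hq.2 hq.1
  obtain ⟨n, hn⟩ := ht
  rcases Nat.eq_zero_or_pos n with rfl | hn'
  · rw [pow_zero] at hn
    refine ⟨1, Nat.one_pos, ?_⟩
    rw [(Ideal.eq_top_iff_one J).mpr hn]
    trivial
  · exact ⟨n, hn', hn⟩

/-- the criterion through primes of `C` -/
theorem criterion (J : Ideal (DD 𝒜 d)) (t : DD 𝒜 d)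
    (h : ∀ Q : Ideal (CC 𝒜 d), Q.IsPrime → incl 𝒜 d t ∉ Q → ∃ x ∈ J, incl 𝒜 d x ∉ Q) :
    ∃ m : ℕ, 0 < m ∧ t ^ m ∈ J := by
  apply exists_pow_mem_of_forall_prime
  intro q hq hJq
  by_contra htq
  haveI := hq
  obtain ⟨Q, hQ, hQq⟩ := exists_prime_over 𝒜 d q
  have h1 : incl 𝒜 d t ∉ Q := by
    intro hmem
    apply htq
    rw [← hQq]
    exact hmem
  obtain ⟨x, hxJ, hxQ⟩ := h Q hQ h1
  apply hxQ
  have : x ∈ Q.comap (incl 𝒜 d).toRingHom := by
    rw [hQq]
    exact hJq hxJ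
  exact this

end radical

section slot

variable {𝒜 d}
variable (hmul : ∀ (n n' : ℕ) (b b' : B), b ∈ 𝒜 n → b' ∈ 𝒜 n' → b * b' ∈ 𝒜 (n + n'))
  (hone : (1 : B) ∈ 𝒜 0) (u : Fin d → B) (hu : ∀ i, u i ∈ 𝒜 1)

include hmul hone in
theorem pow_mem_deg {b : B} (hb : b ∈ 𝒜 1) (n : ℕ) : b ^ n ∈ 𝒜 n := by
  induction n with
  | zero => simpa using hone
  | succ n ih =>
    rw [pow_succ]
    exact hmul _ _ _ _ ih hb

/-- the slot maps: `b` in slot `j` and `u i ^ n` in the other slots -/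
noncomputable def rho (j : Fin d) (n : ℕ) (b : B) : ⨂[A] _ : Fin d, B :=
  PiTensorProduct.tprod A (Function.update (fun i => u i ^ n) j b)

include hmul hone hu in
theorem rho_mem (j : Fin d) (n : ℕ) (b : B) (hb : b ∈ 𝒜 n) : rho u j n b ∈ pureSet 𝒜 d n := by
  refine ⟨Function.update (fun i => u i ^ n) j b, fun i => ?_, rfl⟩
  by_cases h : i = j
  · subst h
    rw [Function.update_self]
    exact hb
  · rw [Function.update_of_ne h]
    exact pow_mem_deg hmul hone (hu i) n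

theorem rho_add (j : Fin d) (n : ℕ) (b b' : B) :
    rho (A := A) u j n (b + b') = rho u j n b + rho u j n b' := by
  unfold rho
  exact (PiTensorProduct.tprod A).map_update_add (fun i => u i ^ n) j b b'

theorem rho_mul (j : Fin d) (n n' : ℕ) (b b' : B) :
    rho (A := A) u j (n + n') (b * b') = rho u j n b * rho u j n' b' := by
  unfold rho
  rw [PiTensorProduct.tprod_mul_tprod, ← Function.update_mul]
  congr 2
  funext i
  exact pow_add _ _ _

theorem rho_self (j : Fin d) : rho (A := A) u j 1 (u j) = PiTensorProduct.tprod A u := by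
  unfold rho
  congr 1
  funext i
  by_cases h : i = j
  · subst h
    rw [Function.update_self]
  · rw [Function.update_of_ne h, pow_one]

theorem prod_rho (n : ℕ) (f : B) :
    ∏ j, rho (A := A) u j n f =
      PiTensorProduct.tprod A (fun _ : Fin d => f) *
        PiTensorProduct.tprod A (fun i => u i ^ (n * (d - 1))) := by
  unfold rho
  rw [← PiTensorProduct.tprod_prod, PiTensorProduct.tprod_mul_tprod]
  congr 1
  funext i
  rw [Finset.prod_apply, Pi.mul_apply]
  have h : ∀ j : Fin d, Function.update (fun i => u i ^ n) j f i = if j = i then f else u i ^ n := by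
    intro j
    by_cases h : j = i
    · subst h
      rw [Function.update_self, if_pos rfl]
    · rw [Function.update_of_ne (fun h' => h h'.symm), if_neg h]
  rw [Finset.prod_congr rfl fun j _ => h j, Finset.prod_ite, Finset.prod_const, Finset.prod_const,
    Finset.filter_eq' Finset.univ i, if_pos (Finset.mem_univ i), Finset.card_singleton, pow_one,
    ← pow_mul]
  congr 2
  have h2 : (Finset.univ.filter fun j : Fin d => ¬ j = i) = Finset.univ.erase i := by
    ext j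
    simp
  rw [h2, Finset.card_erase_of_mem (Finset.mem_univ i), Finset.card_univ, Fintype.card_fin]

end slot

section Vq

variable {𝒜 d}

/-- the image in the tensor power of an ideal of `C` -/
def Vq (Q : Ideal (CC 𝒜 d)) (x : ⨂[A] _ : Fin d, B) : Prop :=
  ∃ h : x ∈ CC 𝒜 d, (⟨x, h⟩ : CC 𝒜 d) ∈ Q

variable (Q : Ideal (CC 𝒜 d))

theorem Vq_iff {x : ⨂[A] _ : Fin d, B} (hx : x ∈ CC 𝒜 d) : Vq Q x ↔ (⟨x, hx⟩ : CC 𝒜 d) ∈ Q :=
  ⟨fun ⟨_, h⟩ => h, fun h => ⟨hx, h⟩⟩

theorem Vq_incl (x : DD 𝒜 d) : Vq Q x.1 ↔ incl 𝒜 d x ∈ Q :=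
  Vq_iff Q (incl 𝒜 d x).2

theorem Vq_add {x y : ⨂[A] _ : Fin d, B} (hx : Vq Q x) (hy : Vq Q y) : Vq Q (x + y) := by
  obtain ⟨hx1, hx2⟩ := hx
  obtain ⟨hy1, hy2⟩ := hy
  exact ⟨Subalgebra.add_mem _ hx1 hy1, Q.add_mem hx2 hy2⟩

theorem Vq_sub {x y : ⨂[A] _ : Fin d, B} (hx : Vq Q x) (hy : Vq Q y) : Vq Q (x - y) := by
  obtain ⟨hx1, hx2⟩ := hx
  obtain ⟨hy1, hy2⟩ := hy
  exact ⟨Subalgebra.sub_mem _ hx1 hy1, Q.sub_mem hx2 hy2⟩

theorem Vq_zero : Vq Q (0 : ⨂[A] _ : Fin d, B) := ⟨Subalgebra.zero_mem _, Q.zero_mem⟩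

theorem Vq_smul (a : A) {x : ⨂[A] _ : Fin d, B} (hx : Vq Q x) : Vq Q (a • x) := by
  obtain ⟨hx1, hx2⟩ := hx
  refine ⟨Subalgebra.smul_mem _ hx1 a, ?_⟩
  have : (⟨a • x, Subalgebra.smul_mem _ hx1 a⟩ : CC 𝒜 d) =
      algebraMap A (CC 𝒜 d) a * ⟨x, hx1⟩ := by
    rw [← Algebra.smul_def]
    rfl
  rw [this]
  exact Q.mul_mem_left _ hx2

theorem Vq_mul_left {x y : ⨂[A] _ : Fin d, B} (hx : x ∈ CC 𝒜 d) (hy : Vq Q y) : Vq Q (x * y) := by
  obtain ⟨hy1, hy2⟩ := hy
  exact ⟨Subalgebra.mul_mem _ hx hy1, Q.mul_mem_left ⟨x, hx⟩ hy2⟩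

theorem Vq_mul_right {x y : ⨂[A] _ : Fin d, B} (hx : Vq Q x) (hy : y ∈ CC 𝒜 d) : Vq Q (x * y) := by
  rw [mul_comm]
  exact Vq_mul_left Q hy hx

theorem Vq_mul [Q.IsPrime] {x y : ⨂[A] _ : Fin d, B} (hx : x ∈ CC 𝒜 d) (hy : y ∈ CC 𝒜 d) :
    Vq Q (x * y) ↔ Vq Q x ∨ Vq Q y := by
  constructor
  · rintro ⟨h1, h2⟩
    have : (⟨x, hx⟩ : CC 𝒜 d) * ⟨y, hy⟩ ∈ Q := h2
    rcases (Ideal.IsPrime.mem_or_mem inferInstance this) with h | h
    · exact Or.inl ⟨hx, h⟩
    · exact Or.inr ⟨hy, h⟩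
  · rintro (h | h)
    · exact Vq_mul_right Q h hy
    · exact Vq_mul_left Q hx h

theorem not_Vq_one [Q.IsPrime] : ¬ Vq Q (1 : ⨂[A] _ : Fin d, B) := by
  rintro ⟨h1, h2⟩
  exact (Ideal.IsPrime.ne_top inferInstance) ((Ideal.eq_top_iff_one Q).mpr h2)

theorem Vq_prod [Q.IsPrime] {ι : Type} (s : Finset ι) (x : ι → ⨂[A] _ : Fin d, B)
    (hx : ∀ i ∈ s, x i ∈ CC 𝒜 d) (h : Vq Q (∏ i ∈ s, x i)) : ∃ i ∈ s, Vq Q (x i) := by
  classical
  induction s using Finset.induction_on with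
  | empty =>
    rw [Finset.prod_empty] at h
    exact absurd h (not_Vq_one Q)
  | insert i s hi ih =>
    rw [Finset.prod_insert hi] at h
    have h1 : x i ∈ CC 𝒜 d := hx i (Finset.mem_insert_self i s)
    have h2 : ∏ j ∈ s, x j ∈ CC 𝒜 d :=
      Subalgebra.prod_mem _ fun j hj => hx j (Finset.mem_insert_of_mem hj)
    rcases (Vq_mul Q h1 h2).mp h with h | h
    · exact ⟨i, Finset.mem_insert_self i s, h⟩
    · obtain ⟨j, hj, hV⟩ := ih (fun j hj => hx j (Finset.mem_insert_of_mem hj)) h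
      exact ⟨j, Finset.mem_insert_of_mem hj, hV⟩

end Vq

section avoid

variable {𝒜 d}
variable (hmul : ∀ (n n' : ℕ) (b b' : B), b ∈ 𝒜 n → b' ∈ 𝒜 n' → b * b' ∈ 𝒜 (n + n'))
  (hone : (1 : B) ∈ 𝒜 0) (u : Fin d → B) (hu : ∀ i, u i ∈ 𝒜 1)
  (Q : Ideal (CC 𝒜 d)) [Q.IsPrime] (hQ : ¬ Vq Q (PiTensorProduct.tprod A u))

include hmul hone hu hQ in
/-- a homogeneous element of positive degree not vanishing in any slot -/
theorem exists_rho_notMem : ∃ n : ℕ, 0 < n ∧ ∃ f : B, f ∈ 𝒜 n ∧ ∀ j, ¬ Vq Q (rho u j n f) := by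
  have hmem : ∀ (j : Fin d) (n : ℕ) (b : B), b ∈ 𝒜 n → rho u j n b ∈ CC 𝒜 d :=
    fun j n b hb => pure_mem_CC 𝒜 d (rho_mem hmul hone u hu j n b hb)
  obtain ⟨n, hn, f, hf, hV⟩ := GradedAvoid.gpa 𝒜 hmul (fun j n b => Vq Q (rho u j n b))
    (fun j n b b' hb hb' h1 h2 => by
      have : rho (A := A) u j n b' = rho u j n (b + b') - rho u j n b := by
        rw [rho_add]; abel
      rw [this]
      exact Vq_sub Q h2 h1)
    (fun j n n' b b' hb hb' => by
      show Vq Q (rho u j (n + n') (b * b')) ↔ _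
      rw [rho_mul]
      exact Vq_mul Q (hmem j n b hb) (hmem j n' b' hb'))
    u hu (fun j => by
      show ¬ Vq Q (rho u j 1 (u j))
      rw [rho_self]
      exact hQ) Finset.univ
  exact ⟨n, hn, f, hf, fun j => hV j (Finset.mem_univ j)⟩

include hmul hone hu hQ in
/-- some `f ⊗ ⋯ ⊗ f` with `f` homogeneous of positive degree lies outside the prime -/
theorem exists_tpow_notMem :
    ∃ n : ℕ, 0 < n ∧ ∃ f : B, f ∈ 𝒜 n ∧ ¬ Vq Q (PiTensorProduct.tprod A (fun _ : Fin d => f)) := by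
  obtain ⟨n, hn, f, hf, hV⟩ := exists_rho_notMem hmul hone u hu Q hQ
  refine ⟨n, hn, f, hf, fun h => ?_⟩
  have hw : PiTensorProduct.tprod A (fun i => u i ^ (n * (d - 1))) ∈ CC 𝒜 d :=
    pure_mem_CC 𝒜 d ⟨_, fun i => pow_mem_deg hmul hone (hu i) _, rfl⟩
  have h1 : Vq Q (∏ j, rho (A := A) u j n f) := by
    rw [prod_rho]
    exact Vq_mul_right Q h hw
  obtain ⟨j, -, hj⟩ := Vq_prod Q Finset.univ (fun j => rho (A := A) u j n f)
    (fun j _ => pure_mem_CC 𝒜 d (rho_mem hmul hone u hu j n f hf)) h1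
  exact hV j hj

end avoid

section degOne

/-- the span of the pure tensors with entries in a submodule -/
def PP (M : Submodule A B) : Submodule A (⨂[A] _ : Fin d, B) :=
  Submodule.span A {x | ∃ m : Fin d → B, (∀ i, m i ∈ M) ∧ x = PiTensorProduct.tprod A m}

theorem PP_mono {M N : Submodule A B} (h : M ≤ N) : PP d M ≤ PP d N :=
  Submodule.span_mono fun _ ⟨m, hm, hx⟩ => ⟨m, fun i => h (hm i), hx⟩

theorem tprod_mem_PP_mul (M N : Submodule A B) (s : Finset (Fin d)) :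
    ∀ b : Fin d → B, (∀ i ∈ s, b i ∈ M * N) → (∀ i ∉ s, ∃ m ∈ M, ∃ n ∈ N, b i = m * n) →
      PiTensorProduct.tprod A b ∈ PP d M * PP d N := by
  classical
  induction s using Finset.induction_on with
  | empty =>
    intro b _ hb
    have hb' : ∀ i, ∃ m ∈ M, ∃ n ∈ N, b i = m * n := fun i => hb i (Finset.notMem_empty i)
    choose m hm n hn hmn using hb'
    have : b = m * n := funext hmn
    rw [this, ← PiTensorProduct.tprod_mul_tprod]
    exact Submodule.mul_mem_mul (Submodule.subset_span ⟨m, hm, rfl⟩)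
      (Submodule.subset_span ⟨n, hn, rfl⟩)
  | insert i₀ s hi₀ ih =>
    intro b hb1 hb2
    have key : ∀ x ∈ M * N, PiTensorProduct.tprod A (Function.update b i₀ x) ∈ PP d M * PP d N := by
      intro x hx
      induction hx using Submodule.mul_induction_on' with
      | mem_mul_mem m hm n hn =>
        apply ih
        · intro i hi
          have hne : i ≠ i₀ := fun h => hi₀ (h ▸ hi)
          rw [Function.update_of_ne hne]
          exact hb1 i (Finset.mem_insert_of_mem hi)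
        · intro i hi
          by_cases hne : i = i₀
          · subst hne
            rw [Function.update_self]
            exact ⟨m, hm, n, hn, rfl⟩
          · rw [Function.update_of_ne hne]
            exact hb2 i (fun h => by
              rcases Finset.mem_insert.mp h with h | h
              · exact hne h
              · exact hi h)
      | add x hx y hy hx' hy' =>
        rw [MultilinearMap.map_update_add]
        exact Submodule.add_mem _ hx' hy'
    have := key (b i₀) (hb1 i₀ (Finset.mem_insert_self i₀ s))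
    rwa [Function.update_eq_self] at this

theorem PP_mul_le (M N : Submodule A B) : PP d (M * N) ≤ PP d M * PP d N := by
  unfold PP
  rw [Submodule.span_le]
  rintro _ ⟨b, hb, rfl⟩
  exact tprod_mem_PP_mul d M N Finset.univ b (fun i _ => hb i)
    (fun i hi => absurd (Finset.mem_univ i) hi)

theorem PP_pow_le (M : Submodule A B) : ∀ k : ℕ, 0 < k → PP d (M ^ k) ≤ PP d M ^ k := by
  intro k hk
  induction k with
  | zero => exact absurd hk (lt_irrefl 0)
  | succ k ih =>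
    rcases Nat.eq_zero_or_pos k with rfl | hk'
    · simp
    · rw [pow_succ, pow_succ]
      exact (PP_mul_le d _ _).trans (mul_le_mul' (ih hk') le_rfl)

variable [GradedAlgebra 𝒜]

/-- the degree `k` part of an algebra generated in degree one is the `k`-th power of its degree
one part -/
theorem deg_le_pow (hgen : Algebra.adjoin A (𝒜 1 : Set B) = ⊤) (k : ℕ) : 𝒜 k ≤ 𝒜 1 ^ k := by
  have key : ∀ x ∈ Subalgebra.toSubmodule (Algebra.adjoin A (𝒜 1 : Set B)),
      ∀ k : ℕ, GradedAlgebra.proj 𝒜 k x ∈ 𝒜 1 ^ k := by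
    intro x hx
    rw [Algebra.adjoin_eq_span] at hx
    induction hx using Submodule.span_induction with
    | mem x hx =>
      have h1 : ∃ n : ℕ, x ∈ 𝒜 n ∧ x ∈ 𝒜 1 ^ n := by
        induction hx using Submonoid.closure_induction with
        | mem y hy => exact ⟨1, hy, by rw [pow_one]; exact hy⟩
        | one => exact ⟨0, SetLike.GradedOne.one_mem, by rw [pow_zero]; exact Submodule.one_le.mp le_rfl⟩
        | mul y z _ _ hy hz =>
          obtain ⟨n, hn1, hn2⟩ := hy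
          obtain ⟨m, hm1, hm2⟩ := hz
          exact ⟨n + m, SetLike.mul_mem_graded hn1 hm1, by
            rw [pow_add]; exact Submodule.mul_mem_mul hn2 hm2⟩
      obtain ⟨n, hn1, hn2⟩ := h1
      intro k
      rw [GradedAlgebra.proj_apply]
      by_cases hnk : n = k
      · subst hnk
        rw [DirectSum.decompose_of_mem_same 𝒜 hn1]
        exact hn2
      · rw [DirectSum.decompose_of_mem_ne 𝒜 hn1 hnk]
        exact Submodule.zero_mem _
    | zero => intro k; rw [map_zero]; exact Submodule.zero_mem _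
    | add x y _ _ hx hy => intro k; rw [map_add]; exact Submodule.add_mem _ (hx k) (hy k)
    | smul a x _ hx => intro k; rw [map_smul]; exact Submodule.smul_mem _ a (hx k)
  intro b hb
  have h1 : b ∈ Subalgebra.toSubmodule (Algebra.adjoin A (𝒜 1 : Set B)) := by
    rw [hgen]; trivial
  have h2 := key b h1 k
  rw [GradedAlgebra.proj_apply, DirectSum.decompose_of_mem_same 𝒜 hb] at h2
  exact h2

variable {𝒜 d}

/-- if a tensor of positive degree lies outside the prime, so does a pure tensor of degree one -/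
theorem exists_degOne_notMem (hgen : Algebra.adjoin A (𝒜 1 : Set B) = ⊤)
    (Q : Ideal (CC 𝒜 d)) {k : ℕ} (hk : 0 < k) {t : ⨂[A] _ : Fin d, B}
    (ht : t ∈ Submodule.span A (pureSet 𝒜 d k)) (htQ : ¬ Vq Q t) :
    ∃ u : Fin d → B, (∀ i, u i ∈ 𝒜 1) ∧ ¬ Vq Q (PiTensorProduct.tprod A u) := by
  by_contra hcon
  push Not at hcon
  apply htQ
  -- the submodule of elements of `Q`
  let Qs : Submodule A (⨂[A] _ : Fin d, B) :=
    { carrier := {x | Vq Q x}
      add_mem' := fun hx hy => Vq_add Q hx hy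
      zero_mem' := Vq_zero Q
      smul_mem' := fun a _ hx => Vq_smul Q a hx }
  have h1 : PP d (𝒜 1) ≤ Qs := by
    unfold PP
    rw [Submodule.span_le]
    rintro _ ⟨m, hm, rfl⟩
    exact hcon m hm
  have h1' : PP d (𝒜 1) ≤ Subalgebra.toSubmodule (CC 𝒜 d) := by
    unfold PP
    rw [Submodule.span_le]
    rintro _ ⟨m, hm, rfl⟩
    exact pure_mem_CC 𝒜 d ⟨m, hm, rfl⟩
  have h2 : ∀ n : ℕ, 0 < n → PP d (𝒜 1) ^ n ≤ Qs := by
    intro n hn
    induction n with
    | zero => exact absurd hn (lt_irrefl 0)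
    | succ n ih =>
      rcases Nat.eq_zero_or_pos n with rfl | hn'
      · simpa using h1
      · rw [pow_succ, Submodule.mul_le]
        intro x hx y hy
        exact Vq_mul_right Q (ih hn' hx) (h1' hy)
  have h3 : Submodule.span A (pureSet 𝒜 d k) ≤ PP d (𝒜 k) :=
    Submodule.span_mono fun _ ⟨b, hb, hx⟩ => ⟨b, hb, hx⟩
  exact h2 k hk (PP_pow_le d (𝒜 1) k hk (PP_mono d (deg_le_pow 𝒜 hgen k) (h3 ht)))

end degOne

section general

open Cardinal in

theorem exists_distinct {A : Type u} [CommRing A] (I : Ideal A) [I.IsPrime] (d : ℕ)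
    (h : (d : Cardinal) ≤ Cardinal.mk I.ResidueField) :
    ∃ a : Fin d → A, ∀ i i', i ≠ i' → a i - a i' ∉ I := by
  have hq : (d : Cardinal) ≤ Cardinal.mk (A ⧸ I) := by
    rcases finite_or_infinite (A ⧸ I) with hfin | hinf
    · haveI : IsDomain (A ⧸ I) := Ideal.Quotient.isDomain I
      have hfield : IsField (A ⧸ I) := Finite.isField_of_domain (A ⧸ I)
      haveI : I.IsMaximal := Ideal.Quotient.maximal_of_isField I hfield
      have hb := Ideal.bijective_algebraMap_quotient_residueField I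
      rw [Cardinal.mk_congr (Equiv.ofBijective _ hb)]
      exact h
    · exact (Cardinal.natCast_lt_aleph0 (n := d)).le.trans (Cardinal.aleph0_le_mk (A ⧸ I))
  have h2 : Cardinal.lift.{u} (Cardinal.mk (Fin d)) ≤ Cardinal.lift.{0} (Cardinal.mk (A ⧸ I)) := by
    rw [Cardinal.mk_fin, Cardinal.lift_natCast, Cardinal.lift_uzero]
    exact hq
  obtain ⟨e⟩ := Cardinal.lift_mk_le'.mp h2
  choose a ha using fun i : Fin d => Ideal.Quotient.mk_surjective (e i)
  refine ⟨a, fun i i' hii' hmem => hii' (e.injective ?_)⟩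
  rw [← ha i, ← ha i', ← sub_eq_zero, ← map_sub]
  exact Ideal.Quotient.eq_zero_iff_mem.mpr hmem


theorem linear_avoid {A M : Type u} [CommRing A] [AddCommGroup M] [Module A M] (I : Ideal A)
    (d : ℕ) (H : Fin d → Submodule A M)
    (hsat : ∀ (j : Fin d) (a : A) (x : M), a ∉ I → a • x ∈ H j → x ∈ H j)
    (a : Fin d → A) (ha : ∀ i i', i ≠ i' → a i - a i' ∉ I)
    (N : Submodule A M) (g : Fin d → M) (hgN : ∀ j, g j ∈ N) (hg : ∀ j, g j ∉ H j) :
    ∃ f ∈ N, ∀ j, f ∉ H j := by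
  classical
  have key : ∀ r : ℕ, r ≤ d → ∃ f ∈ N, ∀ j : Fin d, j.val < r → f ∉ H j := by
    intro r
    induction r with
    | zero => exact fun _ => ⟨0, N.zero_mem, fun j hj => absurd hj (Nat.not_lt_zero _)⟩
    | succ r ih =>
      intro hr
      obtain ⟨f, hfN, hf⟩ := ih (Nat.le_of_succ_le hr)
      let jr : Fin d := ⟨r, hr⟩
      by_cases hA : ∀ j : Fin d, j.val < r + 1 → g jr ∉ H j
      · exact ⟨g jr, hgN jr, hA⟩
      · push Not at hA
        obtain ⟨j₀, hj₀, hgj₀⟩ := hA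
        have hj₀r : j₀.val < r := by
          rcases Nat.lt_succ_iff_lt_or_eq.mp hj₀ with h | h
          · exact h
          · exfalso
            have : j₀ = jr := Fin.ext h
            rw [this] at hgj₀
            exact hg jr hgj₀
        by_contra hall
        push Not at hall
        have hc : ∀ i : Fin d, ∃ j : Fin d, j.val < r + 1 ∧ f + a i • g jr ∈ H j := fun i =>
          hall _ (N.add_mem hfN (N.smul_mem _ (hgN jr)))
        choose jj hjj1 hjj2 using hc
        have hfrom : ∀ i j, f + a i • g jr ∈ H j → g jr ∈ H j → f ∈ H j := by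
          intro i j h1 h2
          have : f = (f + a i • g jr) - a i • g jr := by abel
          rw [this]
          exact (H j).sub_mem h1 ((H j).smul_mem _ h2)
        have hne : ∀ i, jj i ≠ j₀ := by
          intro i h
          have h1 := hjj2 i
          rw [h] at h1
          exact hf j₀ hj₀r (hfrom i j₀ h1 hgj₀)
        have hcard : (Finset.univ.erase j₀).card < (Finset.univ : Finset (Fin d)).card := by
          rw [Finset.card_erase_of_mem (Finset.mem_univ j₀)]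
          have : 0 < (Finset.univ : Finset (Fin d)).card := Finset.card_pos.mpr ⟨j₀, Finset.mem_univ _⟩
          omega
        obtain ⟨i, -, i', -, hii', hjeq⟩ := Finset.exists_ne_map_eq_of_card_lt_of_maps_to hcard
          (f := jj) (fun i _ => Finset.mem_erase.mpr ⟨hne i, Finset.mem_univ _⟩)
        have h1 := hjj2 i
        have h2 := hjj2 i'
        rw [← hjeq] at h2
        have h3 : (a i - a i') • g jr ∈ H (jj i) := by
          have : (a i - a i') • g jr = (f + a i • g jr) - (f + a i' • g jr) := by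
            rw [sub_smul]; abel
          rw [this]
          exact (H (jj i)).sub_mem h1 h2
        have h4 : g jr ∈ H (jj i) := hsat _ _ _ (ha i i' hii') h3
        have h5 : f ∈ H (jj i) := hfrom i _ h1 h4
        rcases Nat.lt_succ_iff_lt_or_eq.mp (hjj1 i) with h | h
        · exact hf _ h h5
        · have : jj i = jr := Fin.ext h
          rw [this] at h4
          exact hg jr h4
  obtain ⟨f, hfN, hf⟩ := key d le_rfl
  exact ⟨f, hfN, fun j => hf j j.isLt⟩

end general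

section largeRes

variable {𝒜 d}
variable (hmul : ∀ (n n' : ℕ) (b b' : B), b ∈ 𝒜 n → b' ∈ 𝒜 n' → b * b' ∈ 𝒜 (n + n'))
  (hone : (1 : B) ∈ 𝒜 0) (u : Fin d → B) (hu : ∀ i, u i ∈ 𝒜 1)
  (Q : Ideal (CC 𝒜 d)) [Q.IsPrime]

include hmul hone hu in
theorem tpow_notMem_of_rho (n : ℕ) (f : B) (hf : f ∈ 𝒜 n)
    (hV : ∀ j, ¬ Vq Q (rho u j n f)) : ¬ Vq Q (PiTensorProduct.tprod A (fun _ : Fin d => f)) := by
  intro h
  have hw : PiTensorProduct.tprod A (fun i => u i ^ (n * (d - 1))) ∈ CC 𝒜 d :=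
    pure_mem_CC 𝒜 d ⟨_, fun i => pow_mem_deg hmul hone (hu i) _, rfl⟩
  have h1 : Vq Q (∏ j, rho (A := A) u j n f) := by
    rw [prod_rho]
    exact Vq_mul_right Q h hw
  obtain ⟨j, -, hj⟩ := Vq_prod Q Finset.univ (fun j => rho (A := A) u j n f)
    (fun j _ => pure_mem_CC 𝒜 d (rho_mem hmul hone u hu j n f hf)) h1
  exact hV j hj

theorem rho_smul (j : Fin d) (n : ℕ) (a : A) (b : B) :
    rho (A := A) u j n (a • b) = a • rho u j n b := by
  unfold rho
  exact (PiTensorProduct.tprod A).map_update_smul (fun i => u i ^ n) j a b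

theorem rho_zero (j : Fin d) (n : ℕ) : rho (A := A) u j n 0 = 0 := by
  unfold rho
  exact (PiTensorProduct.tprod A).map_update_zero (fun i => u i ^ n) j

include hmul hone hu in
/-- with large residue fields, some `f ⊗ ⋯ ⊗ f` with `f` of degree one lies outside the prime -/
theorem exists_tpow_one_notMem (hQ : ¬ Vq Q (PiTensorProduct.tprod A u))
    (hres : ∀ p : PrimeSpectrum A, (d : Cardinal) ≤ Cardinal.mk p.asIdeal.ResidueField) :
    ∃ f : B, f ∈ 𝒜 1 ∧ ¬ Vq Q (PiTensorProduct.tprod A (fun _ : Fin d => f)) := by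
  let 𝔭 : Ideal A := Q.comap (algebraMap A (CC 𝒜 d))
  haveI : 𝔭.IsPrime := Ideal.comap_isPrime _ Q
  obtain ⟨a, ha⟩ := exists_distinct 𝔭 d (hres ⟨𝔭, inferInstance⟩)
  let H : Fin d → Submodule A (𝒜 1) := fun j =>
    { carrier := {b | Vq Q (rho u j 1 b.1)}
      add_mem' := fun {x y} hx hy => by
        show Vq Q (rho u j 1 (x.1 + y.1))
        rw [rho_add]
        exact Vq_add Q hx hy
      zero_mem' := by
        show Vq Q (rho u j 1 (0 : B))
        rw [rho_zero]
        exact Vq_zero Q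
      smul_mem' := fun c {x} hx => by
        show Vq Q (rho u j 1 (c • x.1))
        rw [rho_smul]
        exact Vq_smul Q c hx }
  have hsat : ∀ (j : Fin d) (c : A) (x : 𝒜 1), c ∉ 𝔭 → c • x ∈ H j → x ∈ H j := by
    intro j c x hc hx
    have hx' : Vq Q (rho u j 1 (c • x.1)) := hx
    rw [rho_smul, Algebra.smul_def] at hx'
    have hmem : rho u j 1 x.1 ∈ CC 𝒜 d := pure_mem_CC 𝒜 d (rho_mem hmul hone u hu j 1 x.1 x.2)
    rcases (Vq_mul Q (Subalgebra.algebraMap_mem _ c) hmem).mp hx' with h | h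
    · exfalso
      apply hc
      obtain ⟨h1, h2⟩ := h
      exact h2
    · exact h
  obtain ⟨f, -, hf⟩ := linear_avoid 𝔭 d H hsat a ha ⊤ (fun j => ⟨u j, hu j⟩) (fun _ => trivial)
    (fun j h => by
      have h' : Vq Q (rho u j 1 (u j)) := h
      rw [rho_self] at h'
      exact hQ h')
  exact ⟨f.1, f.2, tpow_notMem_of_rho hmul hone u hu Q 1 f.1 f.2 (fun j h => hf j h)⟩

end largeRes

end Groth.Agent.Lib.Helper15.SymProj
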