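import Mathlib
import Groth.Prelude.Def_SymTen
import Groth.Agent.Lib.Helper15.SymProj

/-!
# Symmetric tensors of degree one outside a prime of the Segre subalgebra (helper15)
-/

set_option autoImplicit false
universe u
open scoped TensorProduct

namespace Groth.Agent.Lib.Helper15.SymProj

variable {A B : Type u} [CommRing A] [CommRing B] [Algebra A B] {𝒜 : ℕ → Submodule A B} {d : ℕ}

/-- the multiplicity vector of a map `c` -/
noncomputable def multv (c : Fin d → Fin d) : Fin d →₀ ℕ := ∑ i, Finsupp.single (c i) 1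

theorem multv_comp (c : Fin d → Fin d) (σ : Equiv.Perm (Fin d)) :
    multv (c ∘ σ) = multv c := by
  unfold multv
  exact Equiv.sum_comp σ (fun i => Finsupp.single (c i) 1)

variable (A) in
open Classical in
/-- the orbit sums of the pure tensors `u (c 1) ⊗ ⋯ ⊗ u (c d)` -/
noncomputable def EE (u : Fin d → B) (α : Fin d →₀ ℕ) : ⨂[A] _ : Fin d, B :=
  ∑ c ∈ Finset.univ.filter (fun c : Fin d → Fin d => multv c = α), PiTensorProduct.tprod A (u ∘ c)

theorem EE_mem_TS (u : Fin d → B) (α : Fin d →₀ ℕ) : EE A u α ∈ SymTen.TS A B d := by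
  classical
  intro σ
  unfold EE
  rw [map_sum]
  refine Finset.sum_equiv (Equiv.arrowCongr σ (Equiv.refl (Fin d))) ?_ ?_
  · intro c
    simp only [Finset.mem_filter, Finset.mem_univ, true_and]
    have : (Equiv.arrowCongr σ (Equiv.refl (Fin d))) c = c ∘ σ.symm := rfl
    rw [this, multv_comp]
  · intro c _
    rw [PiTensorProduct.reindex_tprod]
    rfl

theorem EE_mem_span (u : Fin d → B) (hu : ∀ i, u i ∈ 𝒜 1) (α : Fin d →₀ ℕ) :
    EE A u α ∈ Submodule.span A (pureSet 𝒜 d 1) := by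
  classical
  unfold EE
  exact Submodule.sum_mem _ fun c _ => Submodule.subset_span ⟨u ∘ c, fun i => hu (c i), rfl⟩

theorem prod_rho_comp (u : Fin d → B) (c : Fin d → Fin d) :
    ∏ j, rho (A := A) u j 1 (u (c j)) =
      PiTensorProduct.tprod A (fun i => u i ^ (d - 1)) * PiTensorProduct.tprod A (u ∘ c) := by
  classical
  unfold rho
  rw [← PiTensorProduct.tprod_prod, PiTensorProduct.tprod_mul_tprod]
  congr 1
  funext i
  rw [Finset.prod_apply, Pi.mul_apply]
  have h : ∀ j : Fin d, Function.update (fun i => u i ^ 1) j (u (c j)) i =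
      if j = i then u (c i) else u i := by
    intro j
    by_cases h : j = i
    · subst h
      rw [Function.update_self, if_pos rfl]
    · rw [Function.update_of_ne (fun h' => h h'.symm), if_neg h, pow_one]
  rw [Finset.prod_congr rfl fun j _ => h j, Finset.prod_ite, Finset.prod_const, Finset.prod_const,
    Finset.filter_eq' Finset.univ i, if_pos (Finset.mem_univ i), Finset.card_singleton, pow_one,
    mul_comm]
  congr 2
  have h2 : (Finset.univ.filter fun j : Fin d => ¬ j = i) = Finset.univ.erase i := by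
    ext j
    simp
  rw [h2, Finset.card_erase_of_mem (Finset.mem_univ i), Finset.card_univ, Fintype.card_fin]

section main

variable (hmul : ∀ (n n' : ℕ) (b b' : B), b ∈ 𝒜 n → b' ∈ 𝒜 n' → b * b' ∈ 𝒜 (n + n'))
  (hone : (1 : B) ∈ 𝒜 0) (u : Fin d → B) (hu : ∀ i, u i ∈ 𝒜 1)
  (Q : Ideal (CC 𝒜 d)) [Q.IsPrime]

include hmul hone hu in
/-- some orbit sum lies outside the prime -/
theorem exists_EE_notMem (hQ : ¬ Vq Q (PiTensorProduct.tprod A u)) :
    ∃ α : Fin d →₀ ℕ, ¬ Vq Q (EE A u α) := by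
  classical
  by_contra hcon
  push Not at hcon
  let R := CC 𝒜 d ⧸ Q
  let χ : CC 𝒜 d →+* R := Ideal.Quotient.mk Q
  have hρ : ∀ j i : Fin d, rho (A := A) u j 1 (u i) ∈ CC 𝒜 d := fun j i =>
    pure_mem_CC 𝒜 d (rho_mem hmul hone u hu j 1 (u i) (hu i))
  let ρ : Fin d → Fin d → CC 𝒜 d := fun j i => ⟨rho u j 1 (u i), hρ j i⟩
  have hT : ∀ c : Fin d → Fin d, PiTensorProduct.tprod A (u ∘ c) ∈ CC 𝒜 d := fun c =>
    pure_mem_CC 𝒜 d ⟨u ∘ c, fun i => hu (c i), rfl⟩
  have hW : PiTensorProduct.tprod A (fun i => u i ^ (d - 1)) ∈ CC 𝒜 d :=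
    pure_mem_CC 𝒜 d ⟨_, fun i => pow_mem_deg hmul hone (hu i) _, rfl⟩
  let W : CC 𝒜 d := ⟨_, hW⟩
  let T : (Fin d → Fin d) → CC 𝒜 d := fun c => ⟨_, hT c⟩
  have hprod : ∀ c : Fin d → Fin d, ∏ j, ρ j (c j) = W * T c := by
    intro c
    apply Subtype.ext
    rw [SubmonoidClass.coe_finsetProd]
    exact prod_rho_comp u c
  -- the polynomial
  let P : MvPolynomial (Fin d) R :=
    ∏ j, ∑ i, MvPolynomial.monomial (Finsupp.single i 1) (χ (ρ j i))
  have hP0 : P ≠ 0 := by
    apply Finset.prod_ne_zero_iff.mpr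
    intro j _ h0
    have h1 := congrArg (MvPolynomial.coeff (Finsupp.single j 1)) h0
    rw [MvPolynomial.coeff_sum, MvPolynomial.coeff_zero] at h1
    simp only [MvPolynomial.coeff_monomial] at h1
    have h2 : ∀ i : Fin d, (Finsupp.single i 1 = Finsupp.single j 1) ↔ j = i := by
      intro i
      rw [Finsupp.single_left_inj one_ne_zero]
      exact eq_comm
    simp only [h2] at h1
    rw [Finset.sum_ite_eq, if_pos (Finset.mem_univ j)] at h1
    have h3 : ρ j j ∈ Q := Ideal.Quotient.eq_zero_iff_mem.mp h1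
    apply hQ
    have h4 : Vq Q (rho u j 1 (u j)) := ⟨hρ j j, h3⟩
    rwa [rho_self] at h4
  apply hP0
  have hexp : P = ∑ c : Fin d → Fin d, MvPolynomial.monomial (multv c) (χ (W * T c)) := by
    show ∏ j, ∑ i, MvPolynomial.monomial (Finsupp.single i 1) (χ (ρ j i)) = _
    rw [Finset.prod_univ_sum, Fintype.piFinset_univ]
    refine Finset.sum_congr rfl fun c _ => ?_
    rw [← MvPolynomial.monomial_sum_prod, ← map_prod, hprod c]
    rfl
  rw [hexp]
  ext α
  rw [MvPolynomial.coeff_sum, MvPolynomial.coeff_zero]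
  simp only [MvPolynomial.coeff_monomial]
  rw [← Finset.sum_filter, ← map_sum, ← Finset.mul_sum]
  obtain ⟨h1, h2⟩ := hcon α
  have h3 : (∑ c ∈ Finset.univ.filter (fun c : Fin d → Fin d => multv c = α), T c) =
      ⟨EE A u α, h1⟩ := by
    apply Subtype.ext
    rw [AddSubmonoidClass.coe_finsetSum]
    rfl
  rw [h3]
  exact Ideal.Quotient.eq_zero_iff_mem.mpr (Q.mul_mem_left W h2)

end main

end Groth.Agent.Lib.Helper15.SymProj
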