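import Mathlib

/-!
# Ext¹ from a projective presentation (helper15)

For a surjection `π : F → M` of `R`-modules with `F` projective and kernel `Z`,
`Ext¹(M, N) ≃ Hom(Z, N) / restriction of Hom(F, N)`; in particular the lengths agree.
-/

set_option autoImplicit false
set_option linter.style.haveILetI false
set_option linter.unusedSectionVars false

open CategoryTheory Abelian

namespace Groth.Agent.Lib.Helper15.TFExt

universe u v w

section Cat

variable {R : Type u} [CommRing R] [HasExt.{w} (ModuleCat.{v} R)]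
variable {S : ShortComplex (ModuleCat.{v} R)} (hS : S.ShortExact) (Y : ModuleCat.{v} R)

/-- The connecting map `Hom(X₁, Y) → Ext¹(X₃, Y)`, `R`-linear. -/
noncomputable def conn : (S.X₁ ⟶ Y) →ₗ[R] Ext S.X₃ Y 1 :=
  (Ext.precompOfLinear hS.extClass R Y (add_zero 1)).comp
    (Ext.linearEquiv₀ (R := R) (X := S.X₁) (Y := Y)).symm.toLinearMap

lemma conn_apply (φ : S.X₁ ⟶ Y) : conn hS Y φ = hS.extClass.comp (Ext.mk₀ φ) (add_zero 1) := rfl

lemma conn_surjective [Projective S.X₂] : Function.Surjective (conn hS Y) := by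
  intro x
  obtain ⟨x₁, hx₁⟩ := Ext.contravariant_sequence_exact₃ hS Y x
    (Ext.eq_zero_of_projective _) (add_zero 1)
  obtain ⟨φ, rfl⟩ := (Ext.linearEquiv₀ (R := R) (X := S.X₁) (Y := Y)).symm.surjective x₁
  exact ⟨φ, hx₁⟩

lemma conn_eq_zero_iff (φ : S.X₁ ⟶ Y) : conn hS Y φ = 0 ↔ ∃ ψ : S.X₂ ⟶ Y, S.f ≫ ψ = φ := by
  constructor
  · intro h
    obtain ⟨x₂, hx₂⟩ := Ext.contravariant_sequence_exact₁ hS Y (Ext.mk₀ φ) (add_zero 1) h
    obtain ⟨ψ, rfl⟩ := (Ext.linearEquiv₀ (R := R) (X := S.X₂) (Y := Y)).symm.surjective x₂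
    refine ⟨ψ, ?_⟩
    have h2 : Ext.mk₀ (S.f ≫ ψ) = Ext.mk₀ φ := by
      rw [← hx₂]
      exact (Ext.mk₀_comp_mk₀ S.f ψ).symm
    exact (Ext.mk₀_bijective S.X₁ Y).1 h2
  · rintro ⟨ψ, rfl⟩
    rw [conn_apply]
    have := hS.extClass_comp_assoc (Y := Y) (Ext.mk₀ ψ) (h := add_zero 1)
    rw [Ext.mk₀_comp_mk₀] at this
    exact this

end Cat

section Concrete

variable {R : Type u} [CommRing R] [HasExt.{w} (ModuleCat.{v} R)] [Small.{v} R]
variable {F M N : Type v} [AddCommGroup F] [Module R F] [AddCommGroup M] [Module R M]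
  [AddCommGroup N] [Module R N]

/-- Restriction of linear maps from `F` to a submodule. -/
def restr (Z : Submodule R F) : (F →ₗ[R] N) →ₗ[R] (Z →ₗ[R] N) :=
  LinearMap.lcomp R N Z.subtype

@[simp] lemma restr_apply (Z : Submodule R F) (ψ : F →ₗ[R] N) (z : Z) :
    restr (N := N) Z ψ z = ψ z := rfl

/-- `Ext¹(M, N)` has the same length as `Hom(ker π, N)` modulo restrictions from `F`. -/
theorem length_ext_one_eq [Module.Projective R F] (π : F →ₗ[R] M) (hπ : Function.Surjective π) :
    Module.length R (Ext (ModuleCat.of R M) (ModuleCat.of R N) 1) =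
      Module.length R ((LinearMap.ker π →ₗ[R] N) ⧸ LinearMap.range (restr (N := N) (LinearMap.ker π))) := by
  have hS := LinearMap.shortExact_shortComplexKer hπ
  haveI : Projective (π.shortComplexKer).X₂ := by
    change Projective (ModuleCat.of R F)
    infer_instance
  let Y := ModuleCat.of R N
  let δ := conn hS Y
  have hδ : Function.Surjective δ := conn_surjective hS Y
  -- Hom in the category vs linear maps
  let e : (LinearMap.ker π →ₗ[R] N) ≃ₗ[R] ((π.shortComplexKer).X₁ ⟶ Y) :=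
    (ModuleCat.homLinearEquiv (S := R) (M := ModuleCat.of R (LinearMap.ker π)) (N := Y)).symm
  let δ' : (LinearMap.ker π →ₗ[R] N) →ₗ[R] Ext (π.shortComplexKer).X₃ Y 1 := δ.comp e.toLinearMap
  have hδ' : Function.Surjective δ' := hδ.comp e.surjective
  have hker : LinearMap.ker δ' = LinearMap.range (restr (N := N) (LinearMap.ker π)) := by
    ext φ
    rw [LinearMap.mem_ker, LinearMap.mem_range]
    change conn hS Y (e φ) = 0 ↔ _
    rw [conn_eq_zero_iff]
    constructor
    · rintro ⟨ψ, hψ⟩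
      refine ⟨ψ.hom, ?_⟩
      ext z
      have := congrArg (fun g => g.hom z) hψ
      exact this
    · rintro ⟨ψ, rfl⟩
      refine ⟨ModuleCat.ofHom ψ, ?_⟩
      rfl
  have e2 := δ'.quotKerEquivOfSurjective hδ'
  rw [hker] at e2
  exact e2.symm.length_eq

end Concrete

end Groth.Agent.Lib.Helper15.TFExt
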