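import Mathlib
import Groth.Agent.Lib.Helper15.HDP1

/-!
# Monomial subspaces of `k⟦X⟧` and monomial rings (helper15)
-/

set_option autoImplicit false
set_option linter.style.haveILetI false
set_option linter.unusedSectionVars false

open PowerSeries

namespace Groth.Agent.Lib.Helper15.TFExt

universe u

section Supp

variable {k : Type u} [Field k]

/-- All exponents of `f` lie in `T`. -/
def Supp (T : Set ℕ) (f : PowerSeries k) : Prop := ∀ m, coeff m f ≠ 0 → m ∈ T

/-- The shifted set `c + T`. -/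
def sh (c : ℕ) (T : Set ℕ) : Set ℕ := {m | c ≤ m ∧ m - c ∈ T}

lemma mem_sh {c : ℕ} {T : Set ℕ} {m : ℕ} : m ∈ sh c T ↔ c ≤ m ∧ m - c ∈ T := Iff.rfl

lemma add_mem_sh {c : ℕ} {T : Set ℕ} {q : ℕ} : c + q ∈ sh c T ↔ q ∈ T := by
  rw [mem_sh]
  simp

lemma Supp.mono {T T' : Set ℕ} (h : T ⊆ T') {f : PowerSeries k} (hf : Supp T f) : Supp T' f :=
  fun m hm => h (hf m hm)

lemma Supp.coeff_eq_zero {T : Set ℕ} {f : PowerSeries k} (hf : Supp T f) {m : ℕ} (hm : m ∉ T) :
    coeff m f = 0 := by
  by_contra h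
  exact hm (hf m h)

lemma supp_zero (T : Set ℕ) : Supp T (0 : PowerSeries k) := fun m hm => absurd (by simp) hm

lemma Supp.add {T : Set ℕ} {f g : PowerSeries k} (hf : Supp T f) (hg : Supp T g) :
    Supp T (f + g) := by
  intro m hm
  by_contra h
  apply hm
  rw [map_add, hf.coeff_eq_zero h, hg.coeff_eq_zero h, add_zero]

lemma Supp.neg {T : Set ℕ} {f : PowerSeries k} (hf : Supp T f) : Supp T (-f) := by
  intro m hm
  apply hf m
  intro h
  apply hm
  rw [map_neg, h, neg_zero]

lemma Supp.sub {T : Set ℕ} {f g : PowerSeries k} (hf : Supp T f) (hg : Supp T g) :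
    Supp T (f - g) := by
  rw [sub_eq_add_neg]
  exact hf.add hg.neg

lemma Supp.smul {T : Set ℕ} {f : PowerSeries k} (hf : Supp T f) (x : k) : Supp T (x • f) := by
  intro m hm
  apply hf m
  intro h
  apply hm
  rw [coeff_smul, h, smul_zero]

lemma Supp.sum {T : Set ℕ} {α : Type*} (s : Finset α) (f : α → PowerSeries k)
    (hf : ∀ i ∈ s, Supp T (f i)) : Supp T (∑ i ∈ s, f i) := by
  classical
  induction s using Finset.induction_on with
  | empty => simpa using supp_zero T
  | insert i s hi ih =>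
    rw [Finset.sum_insert hi]
    exact (hf i (Finset.mem_insert_self i s)).add
      (ih fun j hj => hf j (Finset.mem_insert_of_mem hj))

lemma supp_X_pow {T : Set ℕ} {m : ℕ} (hm : m ∈ T) : Supp T ((X : PowerSeries k) ^ m) := by
  intro p hp
  rw [coeff_X_pow] at hp
  by_cases h : p = m
  · rw [h]; exact hm
  · rw [if_neg h] at hp
    exact absurd rfl hp

lemma supp_one {T : Set ℕ} (h0 : 0 ∈ T) : Supp T (1 : PowerSeries k) := by
  have := supp_X_pow (k := k) h0
  simpa using this

lemma supp_mul {P Q T : Set ℕ} {f g : PowerSeries k} (hf : Supp P f) (hg : Supp Q g)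
    (h : ∀ p ∈ P, ∀ q ∈ Q, p + q ∈ T) : Supp T (f * g) := by
  intro m hm
  rw [coeff_mul] at hm
  obtain ⟨⟨p, q⟩, hpq, hne⟩ := Finset.exists_ne_zero_of_sum_ne_zero hm
  rw [Finset.HasAntidiagonal.mem_antidiagonal] at hpq
  dsimp only at hpq hne
  have hp : coeff p f ≠ 0 := left_ne_zero_of_mul hne
  have hq : coeff q g ≠ 0 := right_ne_zero_of_mul hne
  rw [← hpq]
  exact h p (hf p hp) q (hg q hq)

lemma supp_X_pow_mul {T : Set ℕ} {y : PowerSeries k} (c : ℕ) (hy : Supp T y) :
    Supp (sh c T) (X ^ c * y) := by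
  intro m hm
  rw [coeff_X_pow_mul'] at hm
  by_cases h : c ≤ m
  · rw [if_pos h] at hm
    exact ⟨h, hy _ hm⟩
  · rw [if_neg h] at hm
    exact absurd rfl hm

lemma supp_mk {T : Set ℕ} (x : ℕ → k) (hx : ∀ m, x m ≠ 0 → m ∈ T) : Supp T (PowerSeries.mk x) := by
  intro m hm
  rw [coeff_mk] at hm
  exact hx m hm

/-- Shift down by `c`: divide by `X ^ c` discarding lower terms. -/
noncomputable def sd (c : ℕ) : PowerSeries k →ₗ[k] PowerSeries k where
  toFun g := PowerSeries.mk fun m => coeff (m + c) g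
  map_add' f g := by ext m; simp
  map_smul' x g := by ext m; simp

@[simp] lemma coeff_sd (c m : ℕ) (g : PowerSeries k) : coeff m (sd c g) = coeff (m + c) g := by
  simp [sd]

@[simp] lemma sd_X_pow_mul (c : ℕ) (y : PowerSeries k) : sd c (X ^ c * y) = y := by
  ext m
  rw [coeff_sd, coeff_X_pow_mul]

lemma X_pow_mul_sd {c : ℕ} {T : Set ℕ} {g : PowerSeries k} (hg : Supp (sh c T) g) :
    X ^ c * sd c g = g := by
  ext m
  rw [coeff_X_pow_mul']
  by_cases h : c ≤ m
  · rw [if_pos h, coeff_sd, Nat.sub_add_cancel h]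
  · rw [if_neg h]
    symm
    apply hg.coeff_eq_zero
    intro hm
    exact h hm.1

lemma supp_sd {c : ℕ} {T : Set ℕ} {g : PowerSeries k} (hg : Supp (sh c T) g) :
    Supp T (sd c g) := by
  intro m hm
  rw [coeff_sd] at hm
  have := hg _ hm
  rw [add_comm, add_mem_sh] at this
  exact this

lemma X_pow_ne_zero' (c : ℕ) : (X : PowerSeries k) ^ c ≠ 0 := pow_ne_zero _ X_ne_zero

end Supp

section MonoRing

variable (k : Type u) [Field k] (R : Type u) [CommRing R] [Algebra k R] [Algebra R (PowerSeries k)]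
  [IsScalarTower k R (PowerSeries k)]

/-- `R` embeds in `k⟦X⟧` as the series with exponents in `Γ`. -/
structure MonoRing (Γ : Set ℕ) : Prop where
  inj : Function.Injective (algebraMap R (PowerSeries k))
  mem : ∀ f : PowerSeries k, f ∈ Set.range (algebraMap R (PowerSeries k)) ↔ Supp Γ f

variable {k R}
variable {Γ : Set ℕ} (H : MonoRing k R Γ)

local notation "em" => algebraMap R (PowerSeries k)

include H

lemma MonoRing.supp (r : R) : Supp Γ (em r) := (H.mem _).1 ⟨r, rfl⟩

/-- The element of `R` with a prescribed image. -/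
noncomputable def MonoRing.lift (g : PowerSeries k) (hg : Supp Γ g) : R :=
  Classical.choose ((H.mem g).2 hg)

@[simp] lemma MonoRing.em_lift (g : PowerSeries k) (hg : Supp Γ g) : em (H.lift g hg) = g :=
  Classical.choose_spec ((H.mem g).2 hg)

lemma MonoRing.zero_mem : (0 : ℕ) ∈ Γ := by
  have := H.supp 1
  rw [map_one] at this
  exact this 0 (by simp)

lemma MonoRing.add_mem {p q : ℕ} (hp : p ∈ Γ) (hq : q ∈ Γ) : p + q ∈ Γ := by
  have h := H.supp (H.lift _ (supp_X_pow (k := k) hp) * H.lift _ (supp_X_pow (k := k) hq))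
  rw [map_mul, H.em_lift, H.em_lift, ← pow_add] at h
  exact h (p + q) (by simp [coeff_X_pow])

lemma MonoRing.em_algebraMap (x : k) : em (algebraMap k R x) = C x := by
  rw [← IsScalarTower.algebraMap_apply k R (PowerSeries k) x]
  rfl

lemma MonoRing.smul_def (r : R) (g : PowerSeries k) : r • g = em r * g := Algebra.smul_def r g

/-- Elements with nonzero constant term are units. -/
lemma MonoRing.isUnit_of_coeff_zero_ne (r : R) (h : coeff 0 (em r) ≠ 0) : IsUnit r := by
  set u := em r with hu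
  set c₀ := coeff 0 u with hc₀
  have hcc : constantCoeff u ≠ 0 := by
    rw [← coeff_zero_eq_constantCoeff_apply]; exact h
  have huv : u * u⁻¹ = 1 := PowerSeries.mul_inv_cancel u hcc
  -- g = 1 - c₀⁻¹ u, an element of R with zero constant term
  let gR : R := 1 - algebraMap k R c₀⁻¹ * r
  have hg0 : constantCoeff (em gR) = 0 := by
    rw [map_sub, map_one, map_mul, H.em_algebraMap, map_sub, map_one, map_mul, constantCoeff_C,
      ← coeff_zero_eq_constantCoeff_apply, ← hu, ← hc₀, inv_mul_cancel₀ h, sub_self]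
  have key : Supp Γ u⁻¹ := by
    intro m hm
    let sR : R := ∑ j ∈ Finset.range (m + 1), gR ^ j
    have h1 : (algebraMap k R c₀⁻¹ * r) * sR = 1 - gR ^ (m + 1) := by
      have : algebraMap k R c₀⁻¹ * r = 1 - gR := by simp [gR]
      rw [this]
      exact mul_neg_geom_sum gR (m + 1)
    have h2 : C c₀⁻¹ * u * em sR = 1 - (em gR) ^ (m + 1) := by
      have := congrArg em h1
      rw [map_mul, map_mul, H.em_algebraMap, map_sub, map_one, map_pow] at this
      exact this
    have h3 : C c₀⁻¹ * em sR = u⁻¹ - u⁻¹ * (em gR) ^ (m + 1) := by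
      have : u⁻¹ * (C c₀⁻¹ * u * em sR) = C c₀⁻¹ * em sR := by
        calc u⁻¹ * (C c₀⁻¹ * u * em sR) = (u * u⁻¹) * (C c₀⁻¹ * em sR) := by ring
          _ = C c₀⁻¹ * em sR := by rw [huv, one_mul]
      rw [← this, h2]
      ring
    have h4 : coeff m (u⁻¹ * (em gR) ^ (m + 1)) = 0 := by
      have hX : (X : PowerSeries k) ∣ em gR := X_dvd_iff.2 hg0
      have hX' : (X : PowerSeries k) ^ (m + 1) ∣ u⁻¹ * (em gR) ^ (m + 1) :=
        Dvd.dvd.mul_left (pow_dvd_pow_of_dvd hX _) _
      exact X_pow_dvd_iff.1 hX' m (Nat.lt_succ_self m)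
    have h5 : coeff m u⁻¹ = c₀⁻¹ * coeff m (em sR) := by
      have := congrArg (coeff m) h3
      rw [coeff_C_mul, map_sub, h4, sub_zero] at this
      exact this.symm
    apply H.supp sR m
    intro h6
    apply hm
    rw [h5, h6, mul_zero]
  refine IsUnit.of_mul_eq_one (H.lift u⁻¹ key) ?_
  apply H.inj
  rw [map_mul, H.em_lift, map_one]
  exact huv

/-- The residue fields of `R` are `k`. -/
lemma MonoRing.residue (𝔪 : Ideal R) (h𝔪 : 𝔪.IsMaximal) :
    Function.Surjective (algebraMap k (R ⧸ 𝔪)) := by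
  intro x
  obtain ⟨r, rfl⟩ := Ideal.Quotient.mk_surjective x
  refine ⟨coeff 0 (em r), ?_⟩
  rw [IsScalarTower.algebraMap_apply k R (R ⧸ 𝔪), Ideal.Quotient.algebraMap_eq,
    Ideal.Quotient.eq]
  set g : R := algebraMap k R (coeff 0 (em r)) - r with hg
  have hg0 : coeff 0 (em g) = 0 := by
    rw [hg, map_sub, H.em_algebraMap, map_sub, coeff_zero_C, sub_self]
  by_contra hgm
  obtain ⟨y, i, hi, hyi⟩ := h𝔪.exists_inv hgm
  have hi0 : coeff 0 (em i) ≠ 0 := by
    have : i = 1 - y * g := by rw [← hyi]; ring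
    rw [this, map_sub, map_one, map_mul, map_sub, coeff_zero_eq_constantCoeff_apply,
      coeff_zero_eq_constantCoeff_apply, map_one, map_mul,
      ← coeff_zero_eq_constantCoeff_apply (em g), hg0, mul_zero, sub_zero]
    exact one_ne_zero
  have hu := H.isUnit_of_coeff_zero_ne i hi0
  exact h𝔪.ne_top (Ideal.eq_top_of_isUnit_mem _ hi hu)

/-- Length over `R` is `k`-dimension. -/
lemma MonoRing.length_eq_finrank (M : Type*) [AddCommGroup M] [Module R M] [Module k M]
    [IsScalarTower k R M] [Module.Finite k M] :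
    Module.length R M = Module.finrank k M :=
  HDP.length_eq_finrank H.residue M

end MonoRing

end Groth.Agent.Lib.Helper15.TFExt
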