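import Mathlib
import Groth.Agent.Lib.Helper15.HDP1

/-!
# Length of a subquotient through coefficient functionals (helper15)
-/

set_option autoImplicit false
set_option linter.style.haveILetI false
set_option linter.unusedSectionVars false

namespace Groth.Agent.Lib.Helper15.TFExt

/-- Abstract counting lemma: a subquotient `W/V` of an `R`-module `E` which is also a `k`-space,
measured through a `k`-linear map `Θ` onto `J → k` (surjective on `W`, kernel on `W` inside `V`). -/
theorem length_subquotient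
    {k R E : Type*} [Field k] [CommRing R] [Algebra k R] [AddCommGroup E] [Module R E] [Module k E]
    [IsScalarTower k R E]
    (hres : ∀ 𝔪 : Ideal R, 𝔪.IsMaximal → Function.Surjective (algebraMap k (R ⧸ 𝔪)))
    {J : Type*} [Fintype J]
    (W V : Submodule R E) (hVW : V ≤ W) (Θ : E →ₗ[k] (J → k))
    (ha : ∀ x : J → k, ∃ w ∈ W, Θ w = x)
    (hb : ∀ w ∈ W, Θ w = 0 → w ∈ V)
    (X : Submodule k (J → k)) (hX : ∀ x, x ∈ X ↔ ∃ v ∈ V, Θ v = x) :
    Module.length R (↥W ⧸ V.comap W.subtype) + (Module.finrank k X : ℕ∞) = (Fintype.card J : ℕ∞) := by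
  classical
  set P : Submodule R W := V.comap W.subtype with hP
  let g : ↥W →ₗ[k] (J → k) ⧸ X := X.mkQ ∘ₗ Θ ∘ₗ (W.subtype.restrictScalars k)
  have hg : Function.Surjective g := by
    intro y
    obtain ⟨x, rfl⟩ := X.mkQ_surjective y
    obtain ⟨w, hw, rfl⟩ := ha x
    exact ⟨⟨w, hw⟩, rfl⟩
  have hker : LinearMap.ker g = P.restrictScalars k := by
    ext w
    rw [LinearMap.mem_ker, Submodule.restrictScalars_mem, hP, Submodule.mem_comap]
    change X.mkQ (Θ w.1) = 0 ↔ w.1 ∈ V
    rw [Submodule.mkQ_apply, Submodule.Quotient.mk_eq_zero, hX]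
    constructor
    · rintro ⟨v, hv, hvw⟩
      have h1 : (w.1 - v) ∈ W := W.sub_mem w.2 (hVW hv)
      have h2 : Θ (w.1 - v) = 0 := by rw [map_sub, hvw, sub_self]
      have h3 := hb _ h1 h2
      have : w.1 = (w.1 - v) + v := by abel
      rw [this]
      exact V.add_mem h3 hv
    · intro h
      exact ⟨w.1, h, rfl⟩
  let e1 : (↥W ⧸ LinearMap.ker g) ≃ₗ[k] (J → k) ⧸ X := g.quotKerEquivOfSurjective hg
  let e2 : (↥W ⧸ P.restrictScalars k) ≃ₗ[k] ↥W ⧸ P := Submodule.Quotient.restrictScalarsEquiv k P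
  let e3 : (↥W ⧸ LinearMap.ker g) ≃ₗ[k] (↥W ⧸ P.restrictScalars k) :=
    Submodule.quotEquivOfEq _ _ hker
  let e : (↥W ⧸ P) ≃ₗ[k] (J → k) ⧸ X := e2.symm.trans (e3.symm.trans e1)
  haveI : Module.Finite k (↥W ⧸ P) := Module.Finite.equiv e.symm
  have h1 : Module.length R (↥W ⧸ P) = (Module.finrank k (↥W ⧸ P) : ℕ∞) := by
    exact_mod_cast HDP.length_eq_finrank hres (↥W ⧸ P)
  have h2 : Module.finrank k (↥W ⧸ P) = Module.finrank k ((J → k) ⧸ X) := e.finrank_eq
  have h3 := Submodule.finrank_quotient_add_finrank X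
  rw [Module.finrank_fintype_fun_eq_card] at h3
  rw [h1, h2, ← h3]
  push_cast
  rfl

/-- Transport of a quotient along an injective linear map. -/
theorem length_transport {R Hm E : Type*} [CommRing R] [AddCommGroup Hm] [Module R Hm]
    [AddCommGroup E] [Module R E] (Ψ : Hm →ₗ[R] E) (hΨ : Function.Injective Ψ)
    (P : Submodule R Hm) :
    Module.length R (Hm ⧸ P) =
      Module.length R (↥(LinearMap.range Ψ) ⧸
        (P.map Ψ).comap (LinearMap.range Ψ).subtype) := by
  refine LinearEquiv.length_eq ?_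
  refine Submodule.Quotient.equiv P _ (LinearEquiv.ofInjective Ψ hΨ) ?_
  ext ⟨w, hw⟩
  rw [Submodule.mem_map, Submodule.mem_comap]
  constructor
  · rintro ⟨φ, hφ, hφw⟩
    exact ⟨φ, hφ, congrArg Subtype.val hφw⟩
  · rintro ⟨φ, hφ, hφw⟩
    exact ⟨φ, hφ, Subtype.ext hφw⟩

/-- The version of `length_subquotient` for a plain quotient `E ⧸ V`. -/
theorem length_quotient
    {k R E : Type*} [Field k] [CommRing R] [Algebra k R] [AddCommGroup E] [Module R E] [Module k E]
    [IsScalarTower k R E]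
    (hres : ∀ 𝔪 : Ideal R, 𝔪.IsMaximal → Function.Surjective (algebraMap k (R ⧸ 𝔪)))
    {J : Type*} [Fintype J]
    (V : Submodule R E) (Θ : E →ₗ[k] (J → k))
    (ha : Function.Surjective Θ)
    (hb : ∀ w, Θ w = 0 → w ∈ V)
    (hc : ∀ v ∈ V, Θ v = 0) :
    Module.length R (E ⧸ V) = (Fintype.card J : ℕ∞) := by
  have key := length_subquotient hres (⊤ : Submodule R E) V le_top Θ
    (fun x => by obtain ⟨w, hw⟩ := ha x; exact ⟨w, Submodule.mem_top, hw⟩)
    (fun w _ hw => hb w hw) ⊥
    (fun x => by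
      rw [Submodule.mem_bot]
      constructor
      · rintro rfl
        exact ⟨0, V.zero_mem, map_zero _⟩
      · rintro ⟨v, hv, rfl⟩
        exact hc v hv)
  rw [finrank_bot, Nat.cast_zero, add_zero] at key
  rw [← key]
  refine LinearEquiv.length_eq ?_
  refine Submodule.Quotient.equiv V _ (Submodule.topEquiv (R := R) (M := E)).symm ?_
  ext ⟨x, hx⟩
  rw [Submodule.mem_map, Submodule.mem_comap]
  constructor
  · rintro ⟨y, hy, hyx⟩
    have : y = x := congrArg Subtype.val hyx
    rw [← this]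
    exact hy
  · intro h
    exact ⟨x, h, rfl⟩

end Groth.Agent.Lib.Helper15.TFExt
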