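import Mathlib
import Groth.Agent.Lib.Helper15.TFExt1
import Groth.Agent.Lib.Helper15.TFExt2
import Groth.Agent.Lib.Helper15.TFExt3

/-!
# Two-branch rings `{(f,g) : X^δ ∣ f - g}`: basics (helper15)
-/

set_option autoImplicit false
set_option linter.style.haveILetI false
set_option linter.unusedSectionVars false

open PowerSeries

namespace Groth.Agent.Lib.Helper15.TFExt

universe u

section Low

variable {k : Type u} [Field k]

/-- The coefficients of `g` below `d` vanish, i.e. `X^d ∣ g`. -/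
def Low (d : ℕ) (g : PowerSeries k) : Prop := ∀ m, m < d → coeff m g = 0

lemma low_iff_dvd {d : ℕ} {g : PowerSeries k} : Low d g ↔ (X : PowerSeries k) ^ d ∣ g :=
  X_pow_dvd_iff.symm

lemma low_iff_order {d : ℕ} {g : PowerSeries k} : Low d g ↔ (d : ℕ∞) ≤ order g := by
  constructor
  · intro h
    exact nat_le_order g d h
  · intro h m hm
    exact coeff_of_lt_order m (lt_of_lt_of_le (Nat.cast_lt.2 hm) h)

lemma low_zero (d : ℕ) : Low d (0 : PowerSeries k) := fun m _ => by simp

lemma Low.mono {d d' : ℕ} {g : PowerSeries k} (h : Low d g) (hd : d' ≤ d) : Low d' g :=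
  fun m hm => h m (lt_of_lt_of_le hm hd)

lemma Low.add {d : ℕ} {f g : PowerSeries k} (hf : Low d f) (hg : Low d g) : Low d (f + g) := by
  intro m hm
  rw [map_add, hf m hm, hg m hm, add_zero]

lemma Low.neg {d : ℕ} {f : PowerSeries k} (hf : Low d f) : Low d (-f) := by
  intro m hm
  rw [map_neg, hf m hm, neg_zero]

lemma Low.sub {d : ℕ} {f g : PowerSeries k} (hf : Low d f) (hg : Low d g) : Low d (f - g) := by
  rw [sub_eq_add_neg]
  exact hf.add hg.neg

lemma Low.mul {d e : ℕ} {f g : PowerSeries k} (hf : Low d f) (hg : Low e g) :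
    Low (d + e) (f * g) := by
  rw [low_iff_dvd] at *
  rw [pow_add]
  exact mul_dvd_mul hf hg

lemma Low.mul_left {e : ℕ} {g : PowerSeries k} (f : PowerSeries k) (hg : Low e g) :
    Low e (f * g) := by
  rw [low_iff_dvd] at *
  exact Dvd.dvd.mul_left hg f

lemma Low.mul_right {e : ℕ} {g : PowerSeries k} (hg : Low e g) (f : PowerSeries k) :
    Low e (g * f) := by
  rw [low_iff_dvd] at *
  exact Dvd.dvd.mul_right hg f

lemma low_X_pow (d : ℕ) : Low d ((X : PowerSeries k) ^ d) := by
  rw [low_iff_dvd]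

lemma low_X_pow_mul (d : ℕ) (g : PowerSeries k) : Low d ((X : PowerSeries k) ^ d * g) := by
  rw [low_iff_dvd]
  exact Dvd.intro _ rfl

lemma low_zero_all (g : PowerSeries k) : Low 0 g := fun m hm => absurd hm (Nat.not_lt_zero m)

/-- cancelling a power of `X`. -/
lemma Low.of_X_pow_mul {d e : ℕ} {g : PowerSeries k} (h : Low (d + e) ((X : PowerSeries k) ^ d * g)) :
    Low e g := by
  intro m hm
  have := h (m + d) (by omega)
  rwa [coeff_X_pow_mul] at this

lemma Low.X_pow_mul_sd {d : ℕ} {g : PowerSeries k} (hg : Low d g) : X ^ d * sd d g = g := by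
  ext m
  rw [coeff_X_pow_mul']
  by_cases h : d ≤ m
  · rw [if_pos h, coeff_sd, Nat.sub_add_cancel h]
  · rw [if_neg h]
    exact (hg m (not_le.1 h)).symm

lemma Low.sd {d e : ℕ} {g : PowerSeries k} (hg : Low (d + e) g) : Low e (sd d g) := by
  intro m hm
  rw [coeff_sd]
  exact hg _ (by omega)

end Low

section TwoRing

variable (k : Type u) [Field k] (R : Type u) [CommRing R] [Algebra k R]
  [Algebra R (PowerSeries k × PowerSeries k)]
  [IsScalarTower k R (PowerSeries k × PowerSeries k)]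

/-- `R` embeds in `k⟦X⟧ × k⟦X⟧` as the pairs congruent modulo `X^δ`. -/
structure TwoRing (δ : ℕ) : Prop where
  inj : Function.Injective (algebraMap R (PowerSeries k × PowerSeries k))
  mem : ∀ f : PowerSeries k × PowerSeries k,
    f ∈ Set.range (algebraMap R (PowerSeries k × PowerSeries k)) ↔ Low δ (f.1 - f.2)
  pos : 1 ≤ δ

variable {k R}
variable {δ : ℕ} (H : TwoRing k R δ)

local notation "em" => algebraMap R (PowerSeries k × PowerSeries k)

include H

lemma TwoRing.low (r : R) : Low δ ((em r).1 - (em r).2) := (H.mem _).1 ⟨r, rfl⟩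

/-- The element of `R` with prescribed image. -/
noncomputable def TwoRing.lift (g : PowerSeries k × PowerSeries k) (hg : Low δ (g.1 - g.2)) : R :=
  Classical.choose ((H.mem g).2 hg)

@[simp] lemma TwoRing.em_lift (g : PowerSeries k × PowerSeries k) (hg : Low δ (g.1 - g.2)) :
    em (H.lift g hg) = g :=
  Classical.choose_spec ((H.mem g).2 hg)

lemma TwoRing.em_algebraMap (x : k) : em (algebraMap k R x) = (C x, C x) := by
  rw [← IsScalarTower.algebraMap_apply k R (PowerSeries k × PowerSeries k) x]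
  rfl

lemma TwoRing.coeff_zero_eq (r : R) : coeff 0 (em r).1 = coeff 0 (em r).2 := by
  have := H.low r 0 (lt_of_lt_of_le Nat.zero_lt_one H.pos)
  rw [map_sub, sub_eq_zero] at this
  exact this

lemma TwoRing.isUnit_of_coeff_zero_ne (r : R) (h : coeff 0 (em r).1 ≠ 0) : IsUnit r := by
  set f := (em r).1 with hf
  set g := (em r).2 with hg
  have h2 : coeff 0 g ≠ 0 := by rw [hg, ← H.coeff_zero_eq r]; exact h
  have hf1 : f * f⁻¹ = 1 := PowerSeries.mul_inv_cancel f (by
    rw [← coeff_zero_eq_constantCoeff_apply]; exact h)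
  have hg1 : g * g⁻¹ = 1 := PowerSeries.mul_inv_cancel g (by
    rw [← coeff_zero_eq_constantCoeff_apply]; exact h2)
  have key : Low δ (((f⁻¹, g⁻¹) : PowerSeries k × PowerSeries k).1 - (f⁻¹, g⁻¹).2) := by
    have e : f⁻¹ - g⁻¹ = (f⁻¹ * g⁻¹) * -(f - g) := by
      have : f⁻¹ - g⁻¹ = (g * g⁻¹) * f⁻¹ - (f * f⁻¹) * g⁻¹ := by rw [hf1, hg1]; ring
      rw [this]; ring
    change Low δ (f⁻¹ - g⁻¹)
    rw [e]
    exact Low.mul_left _ (H.low r).neg
  refine IsUnit.of_mul_eq_one (H.lift _ key) ?_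
  apply H.inj
  rw [map_mul, H.em_lift, map_one]
  ext1
  · exact hf1
  · exact hg1

/-- The residue fields of `R` are `k`. -/
lemma TwoRing.residue (𝔪 : Ideal R) (h𝔪 : 𝔪.IsMaximal) :
    Function.Surjective (algebraMap k (R ⧸ 𝔪)) := by
  intro x
  obtain ⟨r, rfl⟩ := Ideal.Quotient.mk_surjective x
  refine ⟨coeff 0 (em r).1, ?_⟩
  rw [IsScalarTower.algebraMap_apply k R (R ⧸ 𝔪), Ideal.Quotient.algebraMap_eq,
    Ideal.Quotient.eq]
  set g : R := algebraMap k R (coeff 0 (em r).1) - r with hg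
  have hg0 : coeff 0 (em g).1 = 0 := by
    rw [hg, map_sub, H.em_algebraMap, Prod.fst_sub, map_sub, coeff_zero_C, sub_self]
  by_contra hgm
  obtain ⟨y, i, hi, hyi⟩ := h𝔪.exists_inv hgm
  have hi0 : coeff 0 (em i).1 ≠ 0 := by
    have : i = 1 - y * g := by rw [← hyi]; ring
    rw [this, map_sub, map_one, map_mul, Prod.fst_sub, Prod.fst_one, Prod.fst_mul, map_sub,
      coeff_zero_eq_constantCoeff_apply, coeff_zero_eq_constantCoeff_apply, map_one, map_mul,
      ← coeff_zero_eq_constantCoeff_apply (em g).1, hg0, mul_zero, sub_zero]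
    exact one_ne_zero
  have hu := H.isUnit_of_coeff_zero_ne i hi0
  exact h𝔪.ne_top (Ideal.eq_top_of_isUnit_mem _ hi hu)

end TwoRing

end Groth.Agent.Lib.Helper15.TFExt
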