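import Mathlib
import Groth.Agent.Lib.Helper15.TF2Br1

/-!
# Two-branch rings: the modules `I_j` and the syzygy computation (helper15)
-/

set_option autoImplicit false
set_option linter.style.haveILetI false
set_option linter.unusedSectionVars false

open PowerSeries

namespace Groth.Agent.Lib.Helper15.TFExt

universe u

section Two

variable {k : Type u} [Field k]

/-- Membership condition for `I_j`. -/
def InI (δ j : ℕ) (f : PowerSeries k × PowerSeries k) : Prop :=
  Low j f.1 ∧ Low j f.2 ∧ Low δ (f.1 - f.2)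

/-- The generators. -/
noncomputable def g1 (i : ℕ) : PowerSeries k × PowerSeries k := (X ^ i, X ^ i)
noncomputable def g2 (δ : ℕ) : PowerSeries k × PowerSeries k := (X ^ δ, 0)

variable {R : Type u} [CommRing R] [Algebra k R]
  [Algebra R (PowerSeries k × PowerSeries k)]
  [IsScalarTower k R (PowerSeries k × PowerSeries k)]
variable {δ : ℕ} (H : TwoRing k R δ)

local notation "em" => algebraMap R (PowerSeries k × PowerSeries k)

include H in
lemma mem_span_I (j : ℕ) (hj : j ≤ δ) (f : PowerSeries k × PowerSeries k) :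
    f ∈ Submodule.span R ({g1 j, g2 δ} : Set (PowerSeries k × PowerSeries k)) ↔ InI δ j f := by
  constructor
  · intro hf
    refine Submodule.span_induction ?_ ?_ ?_ ?_ hf
    · rintro x (rfl | rfl)
      · refine ⟨low_X_pow j, low_X_pow j, ?_⟩
        simp only [g1, sub_self]
        exact low_zero δ
      · refine ⟨(low_X_pow δ).mono hj, low_zero j, ?_⟩
        simp only [g2, sub_zero]
        exact low_X_pow δ
    · exact ⟨low_zero j, low_zero j, by simpa using low_zero (k := k) δ⟩
    · rintro x y _ _ ⟨h1, h2, h3⟩ ⟨h1', h2', h3'⟩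
      refine ⟨h1.add h1', h2.add h2', ?_⟩
      have : (x + y).1 - (x + y).2 = (x.1 - x.2) + (y.1 - y.2) := by
        simp only [Prod.fst_add, Prod.snd_add]; ring
      rw [this]
      exact h3.add h3'
    · rintro r x _ ⟨h1, h2, h3⟩
      rw [Algebra.smul_def]
      refine ⟨Low.mul_left _ h1, Low.mul_left _ h2, ?_⟩
      have : (em r * x).1 - (em r * x).2 =
          (em r).1 * (x.1 - x.2) + ((em r).1 - (em r).2) * x.2 := by
        simp only [Prod.fst_mul, Prod.snd_mul]; ring
      rw [this]
      exact (Low.mul_left _ h3).add (Low.mul_right (H.low r) _)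
  · rintro ⟨h1, h2, h3⟩
    rw [Submodule.mem_span_pair]
    refine ⟨H.lift (sd j f.2, sd j f.2) (by simpa using low_zero δ),
      H.lift (sd δ (f.1 - f.2), sd δ (f.1 - f.2)) (by simpa using low_zero δ), ?_⟩
    rw [Algebra.smul_def, Algebra.smul_def, H.em_lift, H.em_lift]
    ext1
    · simp only [g1, g2, Prod.fst_add, Prod.fst_mul]
      rw [mul_comm, h2.X_pow_mul_sd, mul_comm, h3.X_pow_mul_sd]
      ring
    · simp only [g1, g2, Prod.snd_add, Prod.snd_mul, mul_zero, add_zero]
      rw [mul_comm, h2.X_pow_mul_sd]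

variable (i : ℕ) (hi : i ≤ δ)

/-- The generators as a family. -/
noncomputable def gen2 (δ i : ℕ) : Fin 2 → PowerSeries k × PowerSeries k := ![g1 i, g2 δ]

/-- The presentation `R² → k⟦X⟧²`. -/
noncomputable def pres2 (δ i : ℕ) : (Fin 2 → R) →ₗ[R] PowerSeries k × PowerSeries k :=
  Fintype.linearCombination R (gen2 (k := k) δ i)

lemma pres2_apply (z : Fin 2 → R) :
    pres2 (k := k) δ i z = em (z 0) * g1 i + em (z 1) * g2 δ := by
  rw [pres2, Fintype.linearCombination_apply, Fin.sum_univ_two, Algebra.smul_def,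
    Algebra.smul_def]
  rfl

lemma range_pres2 :
    LinearMap.range (pres2 (k := k) (R := R) δ i) =
      Submodule.span R ({g1 i, g2 δ} : Set (PowerSeries k × PowerSeries k)) := by
  rw [pres2, Fintype.range_linearCombination]
  congr 1
  ext x
  simp only [gen2, Set.mem_range, Fin.exists_fin_two, Matrix.cons_val_zero, Matrix.cons_val_one,
    Set.mem_insert_iff, Set.mem_singleton_iff]
  constructor
  · rintro (h | h)
    · exact Or.inl h.symm
    · exact Or.inr h.symm
  · rintro (h | h)
    · exact Or.inl h.symm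
    · exact Or.inr h.symm

/-- Components of the syzygy condition. -/
lemma pres2_eq_zero_iff (z : Fin 2 → R) :
    pres2 (k := k) δ i z = 0 ↔
      ((em (z 0)).1 * X ^ i + (em (z 1)).1 * X ^ δ = 0 ∧ (em (z 0)).2 = 0) := by
  rw [pres2_apply, Prod.ext_iff]
  simp only [g1, g2, Prod.fst_add, Prod.fst_mul, Prod.snd_add, Prod.snd_mul, mul_zero, add_zero,
    Prod.fst_zero, Prod.snd_zero]
  constructor
  · rintro ⟨h1, h2⟩
    exact ⟨h1, (mul_eq_zero.1 h2).resolve_right (X_pow_ne_zero' i)⟩
  · rintro ⟨h1, h2⟩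
    exact ⟨h1, by rw [h2, zero_mul]⟩

include H hi in
/-- Consequences for a syzygy. -/
lemma syz_facts (z : Fin 2 → R) (hz : pres2 (k := k) δ i z = 0) :
    (em (z 0)).2 = 0 ∧ (em (z 0)).1 = -((em (z 1)).1 * X ^ (δ - i)) ∧ Low i (em (z 1)).1 ∧
      Low i (em (z 1)).2 := by
  rw [pres2_eq_zero_iff] at hz
  obtain ⟨h1, h2⟩ := hz
  have e1 : (em (z 0)).1 = -((em (z 1)).1 * X ^ (δ - i)) := by
    have : ((em (z 0)).1 + (em (z 1)).1 * X ^ (δ - i)) * X ^ i = 0 := by
      rw [add_mul, mul_assoc, ← pow_add, Nat.sub_add_cancel hi]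
      exact h1
    have := (mul_eq_zero.1 this).resolve_right (X_pow_ne_zero' i)
    exact eq_neg_of_add_eq_zero_left this
  have hl : Low δ (em (z 0)).1 := by
    have := H.low (z 0)
    rwa [h2, sub_zero] at this
  have hb1 : Low i (em (z 1)).1 := by
    have h3 : Low (δ + i) (X ^ δ * (em (z 1)).1) := by
      have : X ^ δ * (em (z 1)).1 = -((em (z 0)).1 * X ^ i) := by
        rw [mul_comm]
        exact eq_neg_of_add_eq_zero_right h1
      rw [this]
      exact (Low.mul hl (low_X_pow i)).neg
    exact h3.of_X_pow_mul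
  refine ⟨h2, e1, hb1, ?_⟩
  have h4 := (H.low (z 1)).mono hi
  have : (em (z 1)).2 = (em (z 1)).1 - ((em (z 1)).1 - (em (z 1)).2) := by ring
  rw [this]
  exact hb1.sub h4

/-- The distinguished syzygy. -/
noncomputable def zeta2 : Fin 2 → R :=
  ![H.lift (-X ^ (2 * δ - i), 0) (by
      simp only [sub_zero]
      exact ((low_X_pow (2 * δ - i)).mono (by omega)).neg),
    H.lift (X ^ δ, X ^ δ) (by simpa using low_zero δ)]

lemma em_zeta2_zero : em (zeta2 H i hi 0) = (-X ^ (2 * δ - i), 0) := by
  simp [zeta2]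

lemma em_zeta2_one : em (zeta2 H i hi 1) = (X ^ δ, X ^ δ) := by
  simp [zeta2]

lemma pres2_zeta2 : pres2 (k := k) δ i (zeta2 H i hi) = 0 := by
  rw [pres2_eq_zero_iff, em_zeta2_zero, em_zeta2_one]
  refine ⟨?_, rfl⟩
  simp only
  rw [neg_mul, ← pow_add, ← pow_add]
  have : 2 * δ - i + i = δ + δ := by omega
  rw [this, neg_add_cancel]

/-- Key identity: `ζ₀(1) • z = z(1) • ζ₀`. -/
lemma smul_eq_smul_zeta2 (z : Fin 2 → R) (hz : pres2 (k := k) δ i z = 0) :
    zeta2 H i hi 1 • z = z 1 • zeta2 H i hi := by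
  obtain ⟨h1, h2, -, -⟩ := syz_facts H i hi z hz
  funext l
  apply H.inj
  simp only [Pi.smul_apply, smul_eq_mul, map_mul]
  fin_cases l
  · simp only [Fin.zero_eta]
    rw [em_zeta2_one, em_zeta2_zero]
    ext1
    · simp only [Prod.fst_mul]
      rw [h2]
      have : δ + (δ - i) = 2 * δ - i := by omega
      rw [← this, pow_add]
      ring
    · simp only [Prod.snd_mul]
      rw [h1]
      ring
  · simp only [Fin.mk_one]
    rw [mul_comm]

end Two

end Groth.Agent.Lib.Helper15.TFExt
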