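import Mathlib
import Groth.Agent.Lib.Helper15.TF2Br2

/-!
# Two-branch rings: `Ext¹(I_i, I_j)` has length `2 min(i,j)` (helper15)
-/

set_option autoImplicit false
set_option linter.style.haveILetI false
set_option linter.unusedSectionVars false

open PowerSeries

namespace Groth.Agent.Lib.Helper15.TFExt

universe u w

section Two

variable {k : Type u} [Field k]

/-- Shift down both components. -/
noncomputable def sd2 (d : ℕ) :
    (PowerSeries k × PowerSeries k) →ₗ[k] (PowerSeries k × PowerSeries k) :=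
  LinearMap.prodMap (sd d) (sd d)

lemma sd2_apply (d : ℕ) (p : PowerSeries k × PowerSeries k) : sd2 d p = (sd d p.1, sd d p.2) := rfl

lemma sd2_mul (d : ℕ) (y : PowerSeries k × PowerSeries k) :
    sd2 d (((X : PowerSeries k) ^ d, (X : PowerSeries k) ^ d) * y) = y := by
  rw [sd2_apply]
  simp only [Prod.fst_mul, Prod.snd_mul, sd_X_pow_mul]

lemma mul_sd2 {d : ℕ} {p : PowerSeries k × PowerSeries k} (h1 : Low d p.1) (h2 : Low d p.2) :
    ((X : PowerSeries k) ^ d, (X : PowerSeries k) ^ d) * sd2 d p = p := by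
  rw [sd2_apply]
  ext1
  · exact h1.X_pow_mul_sd
  · exact h2.X_pow_mul_sd

lemma XX_cancel {d : ℕ} {p q : PowerSeries k × PowerSeries k}
    (h : ((X : PowerSeries k) ^ d, (X : PowerSeries k) ^ d) * p =
      ((X : PowerSeries k) ^ d, (X : PowerSeries k) ^ d) * q) : p = q := by
  rw [Prod.ext_iff] at h ⊢
  simp only [Prod.fst_mul, Prod.snd_mul] at h
  exact ⟨X_pow_mul_cancel h.1, X_pow_mul_cancel h.2⟩

variable {R : Type u} [CommRing R] [Algebra k R]
  [Algebra R (PowerSeries k × PowerSeries k)]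
  [IsScalarTower k R (PowerSeries k × PowerSeries k)]
variable {δ : ℕ} (H : TwoRing k R δ) (i : ℕ) (hi : i ≤ δ) (j : ℕ) (hj : j ≤ δ)
variable {M' : Type u} [AddCommGroup M'] [Module R M'] (π : (Fin 2 → R) →ₗ[R] M')
  (hker : LinearMap.ker π = LinearMap.ker (pres2 (k := k) (R := R) δ i))
variable {N' : Type u} [AddCommGroup N'] [Module R N']
  (jN : N' →ₗ[R] PowerSeries k × PowerSeries k) (hjN : Function.Injective jN)
  (hN : ∀ f, f ∈ LinearMap.range jN ↔ InI δ j f)

local notation "em" => algebraMap R (PowerSeries k × PowerSeries k)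

include hker in
lemma mem_Z2 (z : Fin 2 → R) : z ∈ LinearMap.ker π ↔ pres2 (k := k) δ i z = 0 := by
  rw [hker, LinearMap.mem_ker]

/-- The distinguished syzygy as an element of `Z`. -/
noncomputable def zetaZ2 : LinearMap.ker π :=
  ⟨zeta2 H i hi, (mem_Z2 i π hker _).2 (pres2_zeta2 H i hi)⟩

/-- Evaluation at the distinguished syzygy. -/
noncomputable def Psi2 : (LinearMap.ker π →ₗ[R] N') →ₗ[R] (PowerSeries k × PowerSeries k) :=
  jN ∘ₗ LinearMap.applyₗ (zetaZ2 H i hi π hker)

lemma Psi2_apply (φ : LinearMap.ker π →ₗ[R] N') :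
    Psi2 H i hi π hker jN φ = jN (φ (zetaZ2 H i hi π hker)) := rfl

lemma key2 (φ : LinearMap.ker π →ₗ[R] N') (z : LinearMap.ker π) :
    ((X : PowerSeries k) ^ δ, (X : PowerSeries k) ^ δ) * jN (φ z) =
      em (z.1 1) * Psi2 H i hi π hker jN φ := by
  have hz : pres2 (k := k) δ i z.1 = 0 := (mem_Z2 i π hker _).1 z.2
  have h1 : zeta2 H i hi 1 • z = z.1 1 • zetaZ2 H i hi π hker := by
    apply Subtype.ext
    rw [Submodule.coe_smul, Submodule.coe_smul]
    exact smul_eq_smul_zeta2 H i hi z.1 hz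
  have h2 := congrArg (fun y => jN (φ y)) h1
  simp only [map_smul, Algebra.smul_def, em_zeta2_one] at h2
  rw [h2]
  rfl

include hjN in
lemma Psi2_injective : Function.Injective (Psi2 H i hi π hker jN) := by
  refine (injective_iff_map_eq_zero _).2 ?_
  intro φ hφ
  ext1 z
  apply hjN
  have := key2 H i hi π hker jN φ z
  rw [hφ, mul_zero] at this
  rw [LinearMap.zero_apply, map_zero]
  apply XX_cancel (d := δ)
  rw [this, mul_zero]

/-- The explicit description of the image of `Psi2`. -/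
def WE (δ i j : ℕ) (w : PowerSeries k × PowerSeries k) : Prop :=
  Low (δ + (j - i)) w.1 ∧ Low (δ + (j - i)) w.2 ∧ Low (2 * δ - i) (w.1 - w.2)

include H hi hj hN in
/-- For a syzygy `z` and `w` satisfying `WE`, the product lands in `X^δ N`. -/
lemma WE_mul (w : PowerSeries k × PowerSeries k) (hw : WE δ i j w) (z : Fin 2 → R)
    (hz : pres2 (k := k) δ i z = 0) :
    Low δ (em (z 1) * w).1 ∧ Low δ (em (z 1) * w).2 ∧
      sd2 δ (em (z 1) * w) ∈ LinearMap.range jN := by
  obtain ⟨-, -, hb1, hb2⟩ := syz_facts H i hi z hz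
  obtain ⟨hw1, hw2, hw3⟩ := hw
  have hb3 := H.low (z 1)
  have p1 : Low (δ + j) (em (z 1) * w).1 := by
    rw [Prod.fst_mul]
    exact (hb1.mul hw1).mono (by omega)
  have p2 : Low (δ + j) (em (z 1) * w).2 := by
    rw [Prod.snd_mul]
    exact (hb2.mul hw2).mono (by omega)
  have p3 : Low (δ + δ) ((em (z 1) * w).1 - (em (z 1) * w).2) := by
    have : (em (z 1) * w).1 - (em (z 1) * w).2 =
        (em (z 1)).1 * (w.1 - w.2) + ((em (z 1)).1 - (em (z 1)).2) * w.2 := by
      simp only [Prod.fst_mul, Prod.snd_mul]; ring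
    rw [this]
    exact ((hb1.mul hw3).mono (by omega)).add ((hb3.mul hw2).mono (by omega))
  refine ⟨p1.mono (by omega), p2.mono (by omega), ?_⟩
  rw [hN, sd2_apply]
  refine ⟨p1.sd, p2.sd, ?_⟩
  simp only
  rw [← map_sub]
  exact p3.sd

/-- The map `Z → N` attached to `w`. -/
noncomputable def phiw2 (w : PowerSeries k × PowerSeries k) (hw : WE δ i j w) :
    LinearMap.ker π →ₗ[R] N' where
  toFun z := Classical.choose
    (WE_mul H i hi j hj jN hN w hw z.1 ((mem_Z2 i π hker _).1 z.2)).2.2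
  map_add' z z' := by
    apply hjN
    rw [map_add]
    rw [Classical.choose_spec
        (WE_mul H i hi j hj jN hN w hw (z + z').1 ((mem_Z2 i π hker _).1 (z + z').2)).2.2,
      Classical.choose_spec
        (WE_mul H i hi j hj jN hN w hw z.1 ((mem_Z2 i π hker _).1 z.2)).2.2,
      Classical.choose_spec
        (WE_mul H i hi j hj jN hN w hw z'.1 ((mem_Z2 i π hker _).1 z'.2)).2.2]
    simp only [Submodule.coe_add, Pi.add_apply, map_add, add_mul]
  map_smul' r z := by
    apply hjN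
    obtain ⟨h1, h2, -⟩ := WE_mul H i hi j hj jN hN w hw z.1 ((mem_Z2 i π hker _).1 z.2)
    rw [RingHom.id_apply, map_smul]
    rw [Classical.choose_spec
        (WE_mul H i hi j hj jN hN w hw (r • z).1 ((mem_Z2 i π hker _).1 (r • z).2)).2.2,
      Classical.choose_spec
        (WE_mul H i hi j hj jN hN w hw z.1 ((mem_Z2 i π hker _).1 z.2)).2.2]
    simp only [Submodule.coe_smul, Pi.smul_apply, smul_eq_mul, map_mul, Algebra.smul_def]
    conv_lhs => rw [mul_assoc, ← mul_sd2 h1 h2, mul_left_comm, sd2_mul]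

lemma jN_phiw2 (w : PowerSeries k × PowerSeries k) (hw : WE δ i j w) (z : LinearMap.ker π) :
    jN (phiw2 H i hi j hj π hker jN hjN hN w hw z) = sd2 δ (em (z.1 1) * w) :=
  Classical.choose_spec
    (WE_mul H i hi j hj jN hN w hw z.1 ((mem_Z2 i π hker _).1 z.2)).2.2

lemma Psi2_phiw2 (w : PowerSeries k × PowerSeries k) (hw : WE δ i j w) :
    Psi2 H i hi π hker jN (phiw2 H i hi j hj π hker jN hjN hN w hw) = w := by
  rw [Psi2_apply, jN_phiw2]
  change sd2 δ (em (zeta2 H i hi 1) * w) = w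
  rw [em_zeta2_one, sd2_mul]

include hN hj in
/-- Every evaluation satisfies `WE`. -/
lemma WE_Psi2 (φ : LinearMap.ker π →ₗ[R] N') : WE δ i j (Psi2 H i hi π hker jN φ) := by
  set w := Psi2 H i hi π hker jN φ with hw
  -- testing with `β`
  have test : ∀ β : R, Low i (em β).1 → ∃ y, InI δ j y ∧
      em β * w = ((X : PowerSeries k) ^ δ, (X : PowerSeries k) ^ δ) * y := by
    intro β hβ
    let z : Fin 2 → R := ![H.lift (-((em β).1 * X ^ (δ - i)), 0) (by
      simp only [sub_zero]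
      have := hβ.mul (low_X_pow (k := k) (δ - i))
      rw [Nat.add_sub_cancel' hi] at this
      exact this.neg), β]
    have hz : pres2 (k := k) δ i z = 0 := by
      rw [pres2_eq_zero_iff]
      simp only [z, Matrix.cons_val_zero, Matrix.cons_val_one, H.em_lift]
      refine ⟨?_, by first | rfl | trivial⟩
      rw [neg_mul, mul_assoc, ← pow_add, Nat.sub_add_cancel hi, neg_add_cancel]
    have hzZ : z ∈ LinearMap.ker π := (mem_Z2 i π hker z).2 hz
    refine ⟨jN (φ ⟨z, hzZ⟩), (hN _).1 ⟨_, rfl⟩, ?_⟩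
    have := key2 H i hi π hker jN φ ⟨z, hzZ⟩
    rw [this]
    rfl
  -- three tests
  obtain ⟨y, ⟨hy1, hy2, hy3⟩, e1⟩ := test (H.lift (X ^ i, X ^ i) (by simpa using low_zero δ))
    (by rw [H.em_lift]; exact low_X_pow i)
  obtain ⟨y', ⟨-, -, hy3'⟩, e2⟩ := test (H.lift (X ^ δ, 0) (by simpa using low_X_pow δ))
    (by rw [H.em_lift]; exact (low_X_pow δ).mono hi)
  obtain ⟨y'', ⟨-, -, hy3''⟩, e3⟩ := test (H.lift (0, X ^ δ) (by simpa using (low_X_pow δ).neg))
    (by rw [H.em_lift]; exact low_zero i)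
  rw [H.em_lift, Prod.ext_iff] at e1 e2 e3
  simp only [Prod.fst_mul, Prod.snd_mul, zero_mul] at e1 e2 e3
  -- from e2: w.1 = y'.1, y'.2 = 0
  have f1 : Low δ w.1 := by
    have a1 : w.1 = y'.1 := X_pow_mul_cancel e2.1
    have a2 : y'.2 = 0 := by
      have := e2.2.symm
      exact (mul_eq_zero.1 this).resolve_left (X_pow_ne_zero' δ)
    rw [a2, sub_zero] at hy3'
    rw [a1]; exact hy3'
  have f2 : Low δ w.2 := by
    have a1 : w.2 = y''.2 := X_pow_mul_cancel e3.2
    have a2 : y''.1 = 0 := by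
      have := e3.1.symm
      exact (mul_eq_zero.1 this).resolve_left (X_pow_ne_zero' δ)
    rw [a2, zero_sub] at hy3''
    rw [a1]
    have := hy3''.neg
    rwa [neg_neg] at this
  have g1 : Low (δ + j - i) w.1 := by
    have : Low (i + (δ + j - i)) (X ^ i * w.1) := by
      rw [e1.1, Nat.add_sub_cancel' (by omega)]
      exact (low_X_pow δ).mul hy1
    exact this.of_X_pow_mul
  have g2 : Low (δ + j - i) w.2 := by
    have : Low (i + (δ + j - i)) (X ^ i * w.2) := by
      rw [e1.2, Nat.add_sub_cancel' (by omega)]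
      exact (low_X_pow δ).mul hy2
    exact this.of_X_pow_mul
  have g3 : Low (2 * δ - i) (w.1 - w.2) := by
    have : Low (i + (2 * δ - i)) (X ^ i * (w.1 - w.2)) := by
      rw [mul_sub, e1.1, e1.2, ← mul_sub, Nat.add_sub_cancel' (by omega), two_mul]
      exact (low_X_pow δ).mul hy3
    exact this.of_X_pow_mul
  refine ⟨?_, ?_, g3⟩
  · intro s hs
    by_cases h : s < δ
    · exact f1 s h
    · exact g1 s (by omega)
  · intro s hs
    by_cases h : s < δ
    · exact f2 s h
    · exact g2 s (by omega)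

include hjN hN hj in
lemma mem_range_Psi2 (w : PowerSeries k × PowerSeries k) :
    w ∈ LinearMap.range (Psi2 H i hi π hker jN) ↔ WE δ i j w := by
  constructor
  · rintro ⟨φ, rfl⟩
    exact WE_Psi2 H i hi j hj π hker jN hN φ
  · intro hw
    exact ⟨_, Psi2_phiw2 H i hi j hj π hker jN hjN hN w hw⟩

include hN in
/-- The image under `Psi2` of the maps restricted from the free module. -/
lemma mem_V2 (w : PowerSeries k × PowerSeries k) :
    w ∈ (LinearMap.range (restr (N := N') (LinearMap.ker π))).map (Psi2 H i hi π hker jN) ↔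
      ∃ n₁ n₂, InI δ j n₁ ∧ InI δ j n₂ ∧ w = (-(X : PowerSeries k) ^ (2 * δ - i), 0) * n₁ +
        ((X : PowerSeries k) ^ δ, (X : PowerSeries k) ^ δ) * n₂ := by
  constructor
  · rintro ⟨_, ⟨ψ, rfl⟩, rfl⟩
    refine ⟨jN (ψ (Pi.single 0 1)), jN (ψ (Pi.single 1 1)), (hN _).1 ⟨_, rfl⟩,
      (hN _).1 ⟨_, rfl⟩, ?_⟩
    rw [Psi2_apply]
    change jN (ψ (zeta2 H i hi)) = _
    have : zeta2 H i hi = zeta2 H i hi 0 • Pi.single 0 1 + zeta2 H i hi 1 • Pi.single 1 1 := by
      funext l
      fin_cases l <;> simp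
    conv_lhs => rw [this]
    rw [map_add, map_smul, map_smul, map_add, map_smul, map_smul,
      Algebra.smul_def, Algebra.smul_def, em_zeta2_zero, em_zeta2_one]
  · rintro ⟨n₁, n₂, hn₁, hn₂, rfl⟩
    obtain ⟨m₁, rfl⟩ := (hN n₁).2 hn₁
    obtain ⟨m₂, rfl⟩ := (hN n₂).2 hn₂
    let ψ : (Fin 2 → R) →ₗ[R] N' := Fintype.linearCombination R ![m₁, m₂]
    refine ⟨restr (LinearMap.ker π) ψ, ⟨ψ, rfl⟩, ?_⟩
    rw [Psi2_apply]
    change jN (ψ (zeta2 H i hi)) = _
    simp only [ψ, Fintype.linearCombination_apply, Fin.sum_univ_two, Matrix.cons_val_zero,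
      Matrix.cons_val_one, map_add, map_smul, Algebra.smul_def,
      em_zeta2_zero, em_zeta2_one]

end Two

end Groth.Agent.Lib.Helper15.TFExt
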