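import Mathlib
import Groth.Agent.Lib.Helper15.TF2Br3

/-!
# Two-branch rings: the count (helper15)
-/

set_option autoImplicit false
set_option linter.style.haveILetI false
set_option linter.unusedSectionVars false

open PowerSeries

namespace Groth.Agent.Lib.Helper15.TFExt

universe u w

section Two

variable {k : Type u} [Field k]

/-- Sizes of the two blocks of coefficient functionals. -/
def mu1 (i j : ℕ) : ℕ := j - (j - i)
def mu2 (δ i j : ℕ) : ℕ := δ + min (δ - i + j) δ - (2 * δ - i)

/-- The coefficient functionals. -/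
noncomputable def Theta2 (δ i j : ℕ) :
    (PowerSeries k × PowerSeries k) →ₗ[k] ((Fin (mu1 i j) ⊕ Fin (mu2 δ i j)) → k) :=
  LinearMap.pi fun x => Sum.elim
    (fun s : Fin (mu1 i j) => (coeff (δ + (j - i) + (s : ℕ)) : PowerSeries k →ₗ[k] k) ∘ₗ
      LinearMap.snd k (PowerSeries k) (PowerSeries k))
    (fun s : Fin (mu2 δ i j) => (coeff (2 * δ - i + (s : ℕ)) : PowerSeries k →ₗ[k] k) ∘ₗ
      (LinearMap.fst k (PowerSeries k) (PowerSeries k) -
        LinearMap.snd k (PowerSeries k) (PowerSeries k))) x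

lemma Theta2_inl (δ i j : ℕ) (w : PowerSeries k × PowerSeries k) (s : Fin (mu1 i j)) :
    Theta2 δ i j w (Sum.inl s) = coeff (δ + (j - i) + (s : ℕ)) w.2 := rfl

lemma Theta2_inr (δ i j : ℕ) (w : PowerSeries k × PowerSeries k) (s : Fin (mu2 δ i j)) :
    Theta2 δ i j w (Sum.inr s) = coeff (2 * δ - i + (s : ℕ)) (w.1 - w.2) := rfl

lemma mu_total (δ i j : ℕ) (hi : i ≤ δ) (hj : j ≤ δ) : mu1 i j + mu2 δ i j = 2 * min i j := by
  simp only [mu1, mu2]
  rcases le_total i j with h | h
  · rw [min_eq_left h, min_eq_right (by omega)]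
    omega
  · rw [min_eq_right h, min_eq_left (by omega)]
    omega

variable {R : Type u} [CommRing R] [Algebra k R]
  [Algebra R (PowerSeries k × PowerSeries k)]
  [IsScalarTower k R (PowerSeries k × PowerSeries k)]
variable {δ : ℕ} (H : TwoRing k R δ) (i : ℕ) (hi : i ≤ δ) (j : ℕ) (hj : j ≤ δ)
variable {M' : Type u} [AddCommGroup M'] [Module R M'] (π : (Fin 2 → R) →ₗ[R] M')
  (hker : LinearMap.ker π = LinearMap.ker (pres2 (k := k) (R := R) δ i))
variable {N' : Type u} [AddCommGroup N'] [Module R N']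
  (jN : N' →ₗ[R] PowerSeries k × PowerSeries k) (hjN : Function.Injective jN)
  (hN : ∀ f, f ∈ LinearMap.range jN ↔ InI δ j f)

local notation "em" => algebraMap R (PowerSeries k × PowerSeries k)

include hi hj in
/-- Surjectivity of `Theta2` on `WE`. -/
lemma Theta2_surj (x : (Fin (mu1 i j) ⊕ Fin (mu2 δ i j)) → k) :
    ∃ w : PowerSeries k × PowerSeries k, WE δ i j w ∧ Theta2 δ i j w = x := by
  classical
  let w2 : PowerSeries k := PowerSeries.mk fun s =>
    if h : δ + (j - i) ≤ s ∧ s - (δ + (j - i)) < mu1 i j then x (Sum.inl ⟨_, h.2⟩) else 0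
  let d : PowerSeries k := PowerSeries.mk fun s =>
    if h : 2 * δ - i ≤ s ∧ s - (2 * δ - i) < mu2 δ i j then x (Sum.inr ⟨_, h.2⟩) else 0
  have hw2 : Low (δ + (j - i)) w2 := by
    intro s hs
    simp only [w2, coeff_mk]
    rw [dif_neg]
    intro h
    omega
  have hd : Low (2 * δ - i) d := by
    intro s hs
    simp only [d, coeff_mk]
    rw [dif_neg]
    intro h
    omega
  refine ⟨(w2 + d, w2), ⟨hw2.add (hd.mono (by omega)), hw2, ?_⟩, ?_⟩
  · simp only [add_sub_cancel_left]
    exact hd
  · funext y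
    rcases y with s | s
    · rw [Theta2_inl]
      simp only [w2, coeff_mk]
      have h : δ + (j - i) ≤ δ + (j - i) + (s : ℕ) ∧
          δ + (j - i) + (s : ℕ) - (δ + (j - i)) < mu1 i j := by
        refine ⟨Nat.le_add_right _ _, ?_⟩
        rw [Nat.add_sub_cancel_left]
        exact s.2
      rw [dif_pos h]
      congr 2
      apply Fin.ext
      simp only
      omega
    · rw [Theta2_inr]
      simp only [add_sub_cancel_left, d, coeff_mk]
      have h : 2 * δ - i ≤ 2 * δ - i + (s : ℕ) ∧
          2 * δ - i + (s : ℕ) - (2 * δ - i) < mu2 δ i j := by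
        refine ⟨Nat.le_add_right _ _, ?_⟩
        rw [Nat.add_sub_cancel_left]
        exact s.2
      rw [dif_pos h]
      congr 2
      apply Fin.ext
      simp only
      omega

include hi hj in
/-- The kernel of `Theta2` on `WE` lies in `V`. -/
lemma Theta2_ker (w : PowerSeries k × PowerSeries k) (hw : WE δ i j w)
    (h0 : Theta2 δ i j w = 0) :
    ∃ n₁ n₂, InI δ j n₁ ∧ InI δ j n₂ ∧ w = (-(X : PowerSeries k) ^ (2 * δ - i), 0) * n₁ +
        ((X : PowerSeries k) ^ δ, (X : PowerSeries k) ^ δ) * n₂ := by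
  obtain ⟨hw1, hw2, hw3⟩ := hw
  -- vanishing of the low coefficients
  have a2 : Low (δ + j) w.2 := by
    intro s hs
    by_cases h : s < δ + (j - i)
    · exact hw2 s h
    · have h1 : s - (δ + (j - i)) < mu1 i j := by simp only [mu1]; omega
      have := congrFun h0 (Sum.inl ⟨_, h1⟩)
      rw [Theta2_inl] at this
      simp only [Pi.zero_apply] at this
      rwa [Nat.add_sub_cancel' (by omega)] at this
  have a3 : Low (δ + min (δ - i + j) δ) (w.1 - w.2) := by
    intro s hs
    by_cases h : s < 2 * δ - i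
    · exact hw3 s h
    · have h1 : s - (2 * δ - i) < mu2 δ i j := by simp only [mu2]; omega
      have := congrFun h0 (Sum.inr ⟨_, h1⟩)
      rw [Theta2_inr] at this
      simp only [Pi.zero_apply] at this
      rwa [Nat.add_sub_cancel' (by omega)] at this
  set n22 := sd δ w.2 with hn22
  have hn22l : Low j n22 := a2.sd
  have e22 : X ^ δ * n22 = w.2 := (a2.mono (by omega)).X_pow_mul_sd
  rcases le_total i j with hij | hij
  · -- e = δ
    rw [min_eq_right (by omega)] at a3
    set d' := sd (δ + δ) (w.1 - w.2) with hd'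
    have ed : X ^ (δ + δ) * d' = w.1 - w.2 := a3.X_pow_mul_sd
    refine ⟨0, (n22 + X ^ δ * d', n22), ?_, ?_, ?_⟩
    · exact ⟨low_zero j, low_zero j, by simpa using low_zero (k := k) δ⟩
    · refine ⟨hn22l.add ((low_X_pow_mul δ d').mono hj), hn22l, ?_⟩
      simp only [add_sub_cancel_left]
      exact low_X_pow_mul δ d'
    · rw [mul_zero, zero_add]
      ext1
      · simp only [Prod.fst_mul]
        rw [mul_add, e22, ← mul_assoc, ← pow_add, ed]
        ring
      · simp only [Prod.snd_mul]
        exact e22.symm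
  · -- e = δ - i + j
    rw [min_eq_left (by omega)] at a3
    set d' := sd (δ + (δ - i + j)) (w.1 - w.2) with hd'
    have ed : X ^ (δ + (δ - i + j)) * d' = w.1 - w.2 := a3.X_pow_mul_sd
    refine ⟨(-(X ^ j * d'), -(X ^ j * d')), (n22, n22), ?_, ?_, ?_⟩
    · refine ⟨(low_X_pow_mul j d').neg, (low_X_pow_mul j d').neg, ?_⟩
      simp only [sub_self]
      exact low_zero δ
    · refine ⟨hn22l, hn22l, ?_⟩
      simp only [sub_self]
      exact low_zero δ
    · ext1
      · simp only [Prod.fst_add, Prod.fst_mul]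
        rw [e22, neg_mul_neg, ← mul_assoc, ← pow_add]
        have : 2 * δ - i + j = δ + (δ - i + j) := by omega
        rw [this, ed]
        ring
      · simp only [Prod.snd_add, Prod.snd_mul, zero_mul, zero_add]
        exact e22.symm

include hi hj in
/-- `Theta2` vanishes on `V`. -/
lemma Theta2_V (n₁ n₂ : PowerSeries k × PowerSeries k) (hn₁ : InI δ j n₁) (hn₂ : InI δ j n₂) :
    Theta2 δ i j ((-(X : PowerSeries k) ^ (2 * δ - i), 0) * n₁ +
        ((X : PowerSeries k) ^ δ, (X : PowerSeries k) ^ δ) * n₂) = 0 := by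
  obtain ⟨ha1, -, -⟩ := hn₁
  obtain ⟨-, hb2, hb3⟩ := hn₂
  funext y
  rcases y with s | s
  · rw [Theta2_inl]
    simp only [Prod.snd_add, Prod.snd_mul, zero_mul, zero_add, Pi.zero_apply]
    have := (low_X_pow (k := k) δ).mul hb2
    apply this
    have := s.2
    simp only [mu1] at this
    omega
  · rw [Theta2_inr]
    simp only [Prod.fst_add, Prod.fst_mul, Prod.snd_add, Prod.snd_mul, zero_mul, zero_add,
      Pi.zero_apply]
    have e : -X ^ (2 * δ - i) * n₁.1 + X ^ δ * n₂.1 - X ^ δ * n₂.2 =
        -(X ^ (2 * δ - i) * n₁.1) + X ^ δ * (n₂.1 - n₂.2) := by ring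
    rw [e]
    have l1 : Low (2 * δ - i + j) (-((X : PowerSeries k) ^ (2 * δ - i) * n₁.1)) :=
      ((low_X_pow (2 * δ - i)).mul ha1).neg
    have l2 : Low (δ + δ) ((X : PowerSeries k) ^ δ * (n₂.1 - n₂.2)) := (low_X_pow δ).mul hb3
    have := s.2
    simp only [mu2] at this
    have hlt : 2 * δ - i + (s : ℕ) < δ + min (δ - i + j) δ := by omega
    have l3 := (l1.mono (show δ + min (δ - i + j) δ ≤ 2 * δ - i + j by
      have := min_le_left (δ - i + j) δ; omega)).add
      (l2.mono (show δ + min (δ - i + j) δ ≤ δ + δ by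
        have := min_le_right (δ - i + j) δ; omega))
    exact l3 _ hlt

include H hi hj hjN hN hker in
/-- Main theorem for the two-branch ring (abstract presentation). -/
theorem length_ext_two_branch [CategoryTheory.HasExt.{w} (ModuleCat.{u} R)]
    (hπ : Function.Surjective π) :
    Module.length R (CategoryTheory.Abelian.Ext (ModuleCat.of R M') (ModuleCat.of R N') 1)
      = ((2 * min i j : ℕ) : ℕ∞) := by
  classical
  rw [length_ext_one_eq (N := N') π hπ]
  set Ψ := Psi2 H i hi π hker jN with hΨ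
  have hΨinj : Function.Injective Ψ := Psi2_injective H i hi π hker jN hjN
  rw [length_transport Ψ hΨinj]
  set W := LinearMap.range Ψ with hW
  set V := (LinearMap.range (restr (N := N') (LinearMap.ker π))).map Ψ with hV
  have hVW : V ≤ W := LinearMap.map_le_range
  have key := length_subquotient (k := k) (R := R) (E := PowerSeries k × PowerSeries k)
    H.residue (J := Fin (mu1 i j) ⊕ Fin (mu2 δ i j)) W V hVW (Theta2 δ i j) ?_ ?_ ⊥ ?_
  · rw [finrank_bot, Nat.cast_zero, add_zero] at key
    rw [key, Fintype.card_sum, Fintype.card_fin, Fintype.card_fin, mu_total δ i j hi hj]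
  · intro x
    obtain ⟨w, hw, hx⟩ := Theta2_surj (k := k) (δ := δ) i hi j hj x
    exact ⟨w, (mem_range_Psi2 H i hi j hj π hker jN hjN hN w).2 hw, hx⟩
  · intro w hw h0
    rw [hW, mem_range_Psi2 H i hi j hj π hker jN hjN hN] at hw
    rw [hV, mem_V2 H i hi j π hker jN hN]
    exact Theta2_ker i hi j hj w hw h0
  · intro x
    rw [Submodule.mem_bot]
    constructor
    · rintro rfl
      exact ⟨0, V.zero_mem, map_zero _⟩
    · rintro ⟨v, hv, rfl⟩
      rw [hV, mem_V2 H i hi j π hker jN hN] at hv
      obtain ⟨n₁, n₂, hn₁, hn₂, rfl⟩ := hv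
      exact Theta2_V i hi j hj n₁ n₂ hn₁ hn₂

include H hi hj in
/-- Main theorem for the two-branch ring, submodule form. -/
theorem length_ext_two_branch' [CategoryTheory.HasExt.{w} (ModuleCat.{u} R)]
    (M N : Submodule R (PowerSeries k × PowerSeries k))
    (hM : M = Submodule.span R ({g1 i, g2 δ} : Set (PowerSeries k × PowerSeries k)))
    (hN : N = Submodule.span R ({g1 j, g2 δ} : Set (PowerSeries k × PowerSeries k))) :
    Module.length R (CategoryTheory.Abelian.Ext (ModuleCat.of R M) (ModuleCat.of R N) 1)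
      = ((2 * min i j : ℕ) : ℕ∞) := by
  have hrange : ∀ z : Fin 2 → R, pres2 (k := k) (R := R) δ i z ∈ M := by
    intro z
    rw [hM, ← range_pres2]
    exact ⟨z, rfl⟩
  let π : (Fin 2 → R) →ₗ[R] M := (pres2 (k := k) δ i).codRestrict M hrange
  have hπ : Function.Surjective π := by
    rintro ⟨x, hx⟩
    rw [hM, ← range_pres2] at hx
    obtain ⟨z, rfl⟩ := hx
    exact ⟨z, rfl⟩
  have hker : LinearMap.ker π = LinearMap.ker (pres2 (k := k) (R := R) δ i) :=
    LinearMap.ker_codRestrict _ _ _
  refine length_ext_two_branch H i hi j hj π hker N.subtype (Submodule.injective_subtype N) ?_ hπ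
  intro f
  rw [Submodule.range_subtype, hN]
  exact mem_span_I H j hj f

end Two

end Groth.Agent.Lib.Helper15.TFExt
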