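import Mathlib
import Groth.Agent.Lib.Helper15.TF2Br4

/-!
# Two-branch `A_{2δ-1}`: final form for subalgebras (helper15)
-/

set_option autoImplicit false
set_option linter.style.haveILetI false
set_option linter.unusedSectionVars false

open PowerSeries

namespace Groth.Agent.Lib.Helper15.TFExt

universe u

section Final

variable {k : Type u} [Field k] (δ : ℕ) (hδ : 1 ≤ δ)
  (O : Subalgebra k (PowerSeries k × PowerSeries k))
  (hO : ∀ f : (PowerSeries k × PowerSeries k), f ∈ O ↔ (δ : ℕ∞) ≤ PowerSeries.order (f.1 - f.2))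

include hδ hO in
lemma twoRing_of_subalgebra : TwoRing k ↥O δ where
  inj := Subtype.val_injective
  mem f := by
    rw [low_iff_order, ← hO]
    exact ⟨fun ⟨r, hr⟩ => hr ▸ r.2, fun h => ⟨⟨f, h⟩, rfl⟩⟩
  pos := hδ

variable [CategoryTheory.HasExt.{u} (ModuleCat.{u} ↥O)]

include hδ hO in
theorem two_branch_main (i j : ℕ) (hi : i ≤ δ) (hj : j ≤ δ) :
    Module.length ↥O (CategoryTheory.Abelian.Ext
      (ModuleCat.of ↥O ↥(Submodule.span ↥O
        ({((X : PowerSeries k) ^ i, (X : PowerSeries k) ^ i), ((X : PowerSeries k) ^ δ, 0)} :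
          Set (PowerSeries k × PowerSeries k))))
      (ModuleCat.of ↥O ↥(Submodule.span ↥O
        ({((X : PowerSeries k) ^ j, (X : PowerSeries k) ^ j), ((X : PowerSeries k) ^ δ, 0)} :
          Set (PowerSeries k × PowerSeries k))))
      1) = ((2 * min i j : ℕ) : ℕ∞) :=
  length_ext_two_branch' (twoRing_of_subalgebra δ hδ O hO) i hi j hj _ _ rfl rfl

end Final

end Groth.Agent.Lib.Helper15.TFExt
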