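import Mathlib
import Groth.Agent.Lib.Helper15.TFExt1
import Groth.Agent.Lib.Helper15.TFExt2
import Groth.Agent.Lib.Helper15.TFExt3

/-!
# Ext¹ between monomial modules over a monomial curve ring (helper15)
-/

set_option autoImplicit false
set_option linter.style.haveILetI false
set_option linter.unusedSectionVars false

open PowerSeries

namespace Groth.Agent.Lib.Helper15.TFExt

universe u

section Main

variable {k : Type u} [Field k] {R : Type u} [CommRing R] [Algebra k R]
  [Algebra R (PowerSeries k)] [IsScalarTower k R (PowerSeries k)]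
variable {Γ : Set ℕ} (H : MonoRing k R Γ) (c : ℕ) (hc : ∀ m, c ≤ m → m ∈ Γ)
variable {ι : Type} [Fintype ι] [DecidableEq ι] (a : ι → ℕ) (i₀ : ι) (ha0 : a i₀ = 0)

local notation "em" => algebraMap R (PowerSeries k)

/-- The presentation map `(f_i) ↦ ∑ f_i X^{a_i}`. -/
noncomputable def pres₀ : (ι → R) →ₗ[R] PowerSeries k :=
  Fintype.linearCombination R (fun i => (X : PowerSeries k) ^ (a i))

omit [DecidableEq ι] in
lemma pres₀_apply (f : ι → R) : pres₀ (k := k) a f = ∑ i, em (f i) * X ^ (a i) := by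
  rw [pres₀, Fintype.linearCombination_apply]
  exact Finset.sum_congr rfl fun i _ => Algebra.smul_def _ _

/-- `X^(c+m)` as an element of `R`. -/
noncomputable def xc (m : ℕ) : R :=
  H.lift (X ^ (c + m)) (supp_X_pow (hc _ (Nat.le_add_right c m)))

@[simp] lemma em_xc (m : ℕ) : em (xc H c hc m) = X ^ (c + m) := H.em_lift _ _

/-- The basic syzygies. -/
noncomputable def zeta (i : ι) : ι → R :=
  Pi.single i (xc H c hc 0) - Pi.single i₀ (xc H c hc (a i))

include ha0 in
lemma pres₀_zeta (i : ι) : pres₀ (k := k) a (zeta H c hc a i₀ i) = 0 := by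
  rw [zeta, map_sub, pres₀, Fintype.linearCombination_apply_single,
    Fintype.linearCombination_apply_single, Algebra.smul_def, Algebra.smul_def, em_xc, em_xc,
    ha0]
  ring

include ha0 in
lemma zeta_i₀ : zeta H c hc a i₀ i₀ = 0 := by
  rw [zeta, ha0, sub_self]

include ha0 in
/-- `X^c • f` is a combination of the basic syzygies. -/
lemma smul_eq_sum_zeta (f : ι → R) (hf : pres₀ (k := k) a f = 0) :
    xc H c hc 0 • f = ∑ i, f i • zeta H c hc a i₀ i := by
  have h0 : ∑ i, f i * xc H c hc (a i) = 0 := by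
    apply H.inj
    rw [map_sum, map_zero]
    have : ∀ i, em (f i * xc H c hc (a i)) = X ^ c * (em (f i) * X ^ (a i)) := by
      intro i
      rw [map_mul, em_xc, pow_add]
      ring
    rw [Finset.sum_congr rfl fun i _ => this i, ← Finset.mul_sum, ← pres₀_apply, hf, mul_zero]
  funext j
  rw [Finset.sum_apply, Pi.smul_apply, smul_eq_mul]
  simp only [Pi.smul_apply, zeta, Pi.sub_apply, Pi.single_apply, smul_eq_mul, mul_sub,
    Finset.sum_sub_distrib, mul_ite, mul_zero]
  rw [Finset.sum_ite_eq Finset.univ j, if_pos (Finset.mem_univ j)]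
  by_cases hj : j = i₀
  · simp only [hj, if_true]
    rw [h0, sub_zero, mul_comm]
  · simp only [hj, if_false]
    rw [Finset.sum_const_zero, sub_zero, mul_comm]

variable {M' : Type u} [AddCommGroup M'] [Module R M'] (π : (ι → R) →ₗ[R] M')
  (hker : LinearMap.ker π = LinearMap.ker (pres₀ (k := k) a))
variable {N' : Type u} [AddCommGroup N'] [Module R N'] (j : N' →ₗ[R] PowerSeries k)
  (hj : Function.Injective j) (T : Set ℕ) (hN : ∀ f, f ∈ LinearMap.range j ↔ Supp T f)

include hker in
lemma mem_Z_iff (f : ι → R) : f ∈ LinearMap.ker π ↔ ∑ i, em (f i) * X ^ (a i) = 0 := by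
  rw [hker, LinearMap.mem_ker, pres₀_apply]

include ha0 hker in
lemma zeta_mem (i : ι) : zeta H c hc a i₀ i ∈ LinearMap.ker π := by
  rw [hker, LinearMap.mem_ker]
  exact pres₀_zeta H c hc a i₀ ha0 i

/-- The basic syzygies as elements of `Z`. -/
noncomputable def zetaZ (i : ι) : LinearMap.ker π :=
  ⟨zeta H c hc a i₀ i, zeta_mem H c hc a i₀ ha0 π hker i⟩

/-- Evaluation on the basic syzygies. -/
noncomputable def Psi : (LinearMap.ker π →ₗ[R] N') →ₗ[R] (ι → PowerSeries k) :=
  LinearMap.pi fun i => j ∘ₗ LinearMap.applyₗ (zetaZ H c hc a i₀ ha0 π hker i)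

lemma Psi_apply (φ : LinearMap.ker π →ₗ[R] N') (i : ι) :
    Psi H c hc a i₀ ha0 π hker j φ i = j (φ (zetaZ H c hc a i₀ ha0 π hker i)) := rfl

/-- Key identity: `X^c φ(f) = ∑ f_i φ(ζ_i)`. -/
lemma key_identity (φ : LinearMap.ker π →ₗ[R] N') (f : LinearMap.ker π) :
    X ^ c * j (φ f) = ∑ i, em (f.1 i) * Psi H c hc a i₀ ha0 π hker j φ i := by
  have hf : pres₀ (k := k) a f.1 = 0 := by
    have h3 : f.1 ∈ LinearMap.ker (pres₀ (k := k) a) := hker ▸ f.2
    exact LinearMap.mem_ker.1 h3
  have h1 : xc H c hc 0 • f = ∑ i, f.1 i • zetaZ H c hc a i₀ ha0 π hker i := by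
    apply Subtype.ext
    rw [Submodule.coe_smul, Submodule.coe_sum, smul_eq_sum_zeta H c hc a i₀ ha0 f.1 hf]
    rfl
  have h2 := congrArg (fun z => j (φ z)) h1
  simp only [map_smul, map_sum, Algebra.smul_def, em_xc, add_zero] at h2
  rw [h2]
  rfl

include hj in
lemma Psi_injective : Function.Injective (Psi H c hc a i₀ ha0 π hker j) := by
  rw [← LinearMap.ker_eq_bot, LinearMap.ker_eq_bot']
  intro φ hφ
  ext f
  apply hj
  have := key_identity H c hc a i₀ ha0 π hker j φ f
  rw [hφ] at this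
  simp only [Pi.zero_apply, mul_zero, Finset.sum_const_zero] at this
  rw [LinearMap.zero_apply, map_zero]
  exact (mul_eq_zero.1 this).resolve_left (X_pow_ne_zero' c)

omit [DecidableEq ι] in
/-- Pairing a syzygy-like vector against `w`. -/
lemma sum_em_single_sub (w : ι → PowerSeries k) [DecidableEq ι] (i i' : ι) (x y : R) :
    ∑ l, em ((Pi.single i x - Pi.single i' y : ι → R) l) * w l = em x * w i - em y * w i' := by
  simp only [Pi.sub_apply, Pi.single_apply, map_sub, sub_mul, Finset.sum_sub_distrib]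
  congr 1
  · rw [Finset.sum_eq_single i]
    · rw [if_pos rfl]
    · intro b _ hb
      rw [if_neg hb, map_zero, zero_mul]
    · intro h
      exact absurd (Finset.mem_univ i) h
  · rw [Finset.sum_eq_single i']
    · rw [if_pos rfl]
    · intro b _ hb
      rw [if_neg hb, map_zero, zero_mul]
    · intro h
      exact absurd (Finset.mem_univ i') h

lemma sum_em_zeta (w : ι → PowerSeries k) (i : ι) :
    ∑ l, em (zeta H c hc a i₀ i l) * w l = X ^ c * w i - X ^ (c + a i) * w i₀ := by
  rw [zeta, sum_em_single_sub, em_xc, em_xc, add_zero]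

/-- Preimage under `j` of a series supported in `T`. -/
noncomputable def jinv (g : PowerSeries k) (hg : Supp T g) : N' :=
  Classical.choose ((hN g).2 hg)

@[simp] lemma j_jinv (g : PowerSeries k) (hg : Supp T g) : j (jinv j T hN g hg) = g :=
  Classical.choose_spec ((hN g).2 hg)

include hN in
lemma supp_j (y : N') : Supp T (j y) := (hN _).1 ⟨y, rfl⟩

/-- The condition cutting out the image of `Psi`. -/
def WCond (w : ι → PowerSeries k) : Prop :=
  w i₀ = 0 ∧ ∀ f : ι → R, f ∈ LinearMap.ker π → Supp (sh c T) (∑ i, em (f i) * w i)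

/-- The map `Z → N'` attached to `w`. -/
noncomputable def phiw (w : ι → PowerSeries k)
    (hw : ∀ f : ι → R, f ∈ LinearMap.ker π → Supp (sh c T) (∑ i, em (f i) * w i)) :
    LinearMap.ker π →ₗ[R] N' where
  toFun f := jinv j T hN (sd c (∑ i, em (f.1 i) * w i)) (supp_sd (hw f.1 f.2))
  map_add' f g := by
    apply hj
    rw [map_add, j_jinv, j_jinv, j_jinv, ← map_add, ← Finset.sum_add_distrib]
    congr 1
    apply Finset.sum_congr rfl
    intro i _
    rw [Submodule.coe_add, Pi.add_apply, map_add, add_mul]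
  map_smul' r f := by
    apply hj
    rw [RingHom.id_apply, map_smul, j_jinv, j_jinv, Algebra.smul_def]
    have h1 : ∑ i, em ((r • f).1 i) * w i = em r * ∑ i, em (f.1 i) * w i := by
      rw [Finset.mul_sum]
      apply Finset.sum_congr rfl
      intro i _
      rw [Submodule.coe_smul, Pi.smul_apply, smul_eq_mul, map_mul, mul_assoc]
    have h2 := X_pow_mul_sd (hw f.1 f.2)
    rw [h1]
    conv_lhs => rw [← h2]
    rw [mul_left_comm, sd_X_pow_mul]

lemma j_phiw (w : ι → PowerSeries k)
    (hw : ∀ f : ι → R, f ∈ LinearMap.ker π → Supp (sh c T) (∑ i, em (f i) * w i))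
    (f : LinearMap.ker π) :
    j (phiw c π j hj T hN w hw f) = sd c (∑ i, em (f.1 i) * w i) :=
  j_jinv j T hN _ (supp_sd (hw f.1 f.2))

lemma Psi_phiw (w : ι → PowerSeries k)
    (hw : WCond c i₀ π T w) :
    Psi H c hc a i₀ ha0 π hker j (phiw c π j hj T hN w hw.2) = w := by
  funext i
  rw [Psi_apply, j_phiw]
  change sd c (∑ l, em (zeta H c hc a i₀ i l) * w l) = w i
  rw [sum_em_zeta, hw.1, mul_zero, sub_zero, sd_X_pow_mul]

include hN in
lemma WCond_Psi (φ : LinearMap.ker π →ₗ[R] N') :
    WCond c i₀ π T (Psi H c hc a i₀ ha0 π hker j φ) := by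
  constructor
  · rw [Psi_apply]
    have : zetaZ H c hc a i₀ ha0 π hker i₀ = 0 := Subtype.ext (zeta_i₀ H c hc a i₀ ha0)
    rw [this, map_zero, map_zero]
  · intro f hf
    have := key_identity H c hc a i₀ ha0 π hker j φ ⟨f, hf⟩
    rw [← this]
    exact supp_X_pow_mul c (supp_j j T hN _)

include hj hN in
lemma mem_range_Psi (w : ι → PowerSeries k) :
    w ∈ LinearMap.range (Psi H c hc a i₀ ha0 π hker j) ↔ WCond c i₀ π T w := by
  constructor
  · rintro ⟨φ, rfl⟩
    exact WCond_Psi H c hc a i₀ ha0 π hker j T hN φ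
  · intro hw
    exact ⟨_, Psi_phiw H c hc a i₀ ha0 π hker j hj T hN w hw⟩

include hN in
/-- The image under `Psi` of the maps restricted from the free module. -/
lemma mem_V (w : ι → PowerSeries k) :
    w ∈ (LinearMap.range (restr (N := N') (LinearMap.ker π))).map (Psi H c hc a i₀ ha0 π hker j) ↔
      ∃ y : ι → PowerSeries k, (∀ i, Supp T (y i)) ∧
        ∀ i, w i = X ^ c * y i - X ^ (c + a i) * y i₀ := by
  constructor
  · rintro ⟨_, ⟨ψ, rfl⟩, rfl⟩
    refine ⟨fun i => j (ψ (Pi.single i 1)), fun i => supp_j j T hN _, fun i => ?_⟩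
    rw [Psi_apply]
    change j (ψ (zeta H c hc a i₀ i)) = _
    have h1 : ∀ (l : ι) (r : R), (Pi.single l r : ι → R) = r • Pi.single l 1 := by
      intro l r
      rw [← Pi.single_smul, smul_eq_mul, mul_one]
    rw [zeta, map_sub, map_sub, h1 i, h1 i₀, map_smul, map_smul, map_smul, map_smul,
      Algebra.smul_def, Algebra.smul_def, em_xc, em_xc, add_zero]
  · rintro ⟨y, hy, hw⟩
    let ψ : (ι → R) →ₗ[R] N' := Fintype.linearCombination R (fun i => jinv j T hN (y i) (hy i))
    refine ⟨restr (LinearMap.ker π) ψ, ⟨ψ, rfl⟩, ?_⟩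
    funext i
    rw [Psi_apply, hw i]
    change j (ψ (zeta H c hc a i₀ i)) = _
    rw [zeta, map_sub, map_sub]
    simp only [ψ, Fintype.linearCombination_apply_single, map_smul, j_jinv, Algebra.smul_def,
      em_xc, add_zero]

end Main

end Groth.Agent.Lib.Helper15.TFExt
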