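import Mathlib
import Groth.Agent.Lib.Helper15.TFExt4

/-!
# Counting the length of Ext¹ between monomial modules (helper15)
-/

set_option autoImplicit false
set_option linter.style.haveILetI false
set_option linter.unusedSectionVars false

open PowerSeries

namespace Groth.Agent.Lib.Helper15.TFExt

universe u w

section Count

variable {k : Type u} [Field k] {R : Type u} [CommRing R] [Algebra k R]
  [Algebra R (PowerSeries k)] [IsScalarTower k R (PowerSeries k)]
variable {Γ : Set ℕ} (H : MonoRing k R Γ) (c : ℕ) (hc : ∀ m, c ≤ m → m ∈ Γ)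
variable {ι : Type} [Fintype ι] [DecidableEq ι] (a : ι → ℕ) (i₀ : ι) (ha0 : a i₀ = 0)
variable {M' : Type u} [AddCommGroup M'] [Module R M'] (π : (ι → R) →ₗ[R] M')
  (hker : LinearMap.ker π = LinearMap.ker (pres₀ (k := k) a))
variable {N' : Type u} [AddCommGroup N'] [Module R N'] (j : N' →ₗ[R] PowerSeries k)
  (hj : Function.Injective j) (T : Set ℕ) (hN : ∀ f, f ∈ LinearMap.range j ↔ Supp T f)
variable (D : ι → Set ℕ)
  (hD1 : ∀ w : ι → PowerSeries k, WCond c i₀ π T w → ∀ i, i ≠ i₀ → Supp (D i) (w i))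
  (hD2 : ∀ w : ι → PowerSeries k, w i₀ = 0 → (∀ i, i ≠ i₀ → Supp (D i) (w i)) → WCond c i₀ π T w)
  (Rf : ι → Finset ℕ) (hRf0 : Rf i₀ = ∅)
  (hRf : ∀ i, i ≠ i₀ → ∀ m, m ∈ Rf i ↔ (m ∈ D i ∧ m ∉ sh c T))
  (Q' : Finset ℕ) (hQ' : ∀ q, q ∈ Q' ↔ (q ∈ T ∧ ∃ i, c + a i + q ∈ Rf i))

local notation "em" => algebraMap R (PowerSeries k)

/-- The index type of the coefficient functionals. -/
abbrev JJ (Rf : ι → Finset ℕ) : Type := (i : ι) × {m // m ∈ Rf i}

/-- Reading the coefficients at the positions in `Rf`. -/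
noncomputable def Theta : (ι → PowerSeries k) →ₗ[k] (JJ Rf → k) :=
  LinearMap.pi fun p => (coeff p.2.1 : PowerSeries k →ₗ[k] k) ∘ₗ
    (LinearMap.proj p.1 : (ι → PowerSeries k) →ₗ[k] PowerSeries k)

omit [Fintype ι] [DecidableEq ι] in
lemma Theta_apply (w : ι → PowerSeries k) (p : JJ Rf) : Theta Rf w p = coeff p.2.1 (w p.1) := rfl

/-- The inclusion of `k^{Q'}` recording the image of the `i₀`-coordinate. -/
noncomputable def incl : ({q // q ∈ Q'} → k) →ₗ[k] (JJ Rf → k) where
  toFun z p := -(if h : c + a p.1 ≤ p.2.1 ∧ p.2.1 - (c + a p.1) ∈ Q' then z ⟨_, h.2⟩ else 0)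
  map_add' z z' := by
    funext p
    simp only [Pi.add_apply]
    split_ifs <;> ring
  map_smul' x z := by
    funext p
    simp only [Pi.smul_apply, smul_eq_mul, RingHom.id_apply]
    split_ifs <;> ring

omit [Fintype ι] [DecidableEq ι] in
lemma incl_apply (z : {q // q ∈ Q'} → k) (p : JJ Rf) :
    incl c a Rf Q' z p =
      -(if h : c + a p.1 ≤ p.2.1 ∧ p.2.1 - (c + a p.1) ∈ Q' then z ⟨_, h.2⟩ else 0) := rfl

omit [Fintype ι] [DecidableEq ι] in
include hQ' in
lemma incl_injective : Function.Injective (incl (k := k) c a Rf Q') := by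
  rw [← LinearMap.ker_eq_bot, LinearMap.ker_eq_bot']
  intro z hz
  funext ⟨q, hq⟩
  obtain ⟨-, i, hi⟩ := (hQ' q).1 hq
  have := congrFun hz ⟨i, ⟨c + a i + q, hi⟩⟩
  rw [incl_apply] at this
  have h1 : c + a i ≤ c + a i + q ∧ c + a i + q - (c + a i) ∈ Q' := by
    refine ⟨Nat.le_add_right _ _, ?_⟩
    rw [Nat.add_sub_cancel_left]
    exact hq
  rw [dif_pos h1] at this
  simp only [Pi.zero_apply, neg_eq_zero] at this
  have h2 : (⟨c + a i + q - (c + a i), h1.2⟩ : {q // q ∈ Q'}) = ⟨q, hq⟩ := by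
    apply Subtype.ext
    exact Nat.add_sub_cancel_left _ _
  rw [h2] at this
  exact this

omit [DecidableEq ι] in
include hQ' in
lemma finrank_range_incl :
    Module.finrank k (LinearMap.range (incl (k := k) c a Rf Q')) = Q'.card := by
  rw [LinearMap.finrank_range_of_inj (incl_injective c a T Rf Q' hQ'),
    Module.finrank_fintype_fun_eq_card, Fintype.card_coe]

include hj hN hD2 hRf0 hRf in
/-- Surjectivity of `Theta` on the image of `Psi`. -/
lemma Theta_surj (x : JJ Rf → k) :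
    ∃ w ∈ LinearMap.range (Psi H c hc a i₀ ha0 π hker j), Theta Rf w = x := by
  classical
  let w : ι → PowerSeries k := fun i =>
    PowerSeries.mk fun m => if h : m ∈ Rf i then x ⟨i, ⟨m, h⟩⟩ else 0
  have hw0 : w i₀ = 0 := by
    ext m
    simp only [w, coeff_mk, map_zero]
    rw [dif_neg]
    rw [hRf0]
    exact Finset.notMem_empty m
  have hwD : ∀ i, i ≠ i₀ → Supp (D i) (w i) := by
    intro i hi m hm
    simp only [w, coeff_mk] at hm
    by_cases h : m ∈ Rf i
    · exact ((hRf i hi m).1 h).1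
    · rw [dif_neg h] at hm
      exact absurd rfl hm
  refine ⟨w, (mem_range_Psi H c hc a i₀ ha0 π hker j hj T hN w).2 (hD2 w hw0 hwD), ?_⟩
  funext ⟨i, ⟨m, hm⟩⟩
  rw [Theta_apply]
  simp only [w, coeff_mk]
  rw [dif_pos hm]

include hj hN hD1 hRf in
/-- The kernel of `Theta` on the image of `Psi` lies in `V`. -/
lemma Theta_ker (w : ι → PowerSeries k)
    (hw : w ∈ LinearMap.range (Psi H c hc a i₀ ha0 π hker j)) (h0 : Theta Rf w = 0) :
    w ∈ (LinearMap.range (restr (N := N') (LinearMap.ker π))).map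
      (Psi H c hc a i₀ ha0 π hker j) := by
  classical
  rw [mem_range_Psi H c hc a i₀ ha0 π hker j hj T hN] at hw
  rw [mem_V H c hc a i₀ ha0 π hker j T hN]
  have hwD := hD1 w hw
  have hsupp : ∀ i, i ≠ i₀ → Supp (sh c T) (w i) := by
    intro i hi m hm
    by_contra hmT
    have hmR : m ∈ Rf i := (hRf i hi m).2 ⟨hwD i hi m hm, hmT⟩
    have := congrFun h0 ⟨i, ⟨m, hmR⟩⟩
    rw [Theta_apply] at this
    exact hm this
  refine ⟨fun i => if i = i₀ then 0 else sd c (w i), fun i => ?_, fun i => ?_⟩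
  · by_cases hi : i = i₀
    · simp only [hi, if_true]
      exact supp_zero T
    · simp only [hi, if_false]
      exact supp_sd (hsupp i hi)
  · by_cases hi : i = i₀
    · simp only [hi, if_true, mul_zero, sub_zero]
      exact hw.1
    · simp only [hi, if_false, if_true, mul_zero, sub_zero]
      exact (X_pow_mul_sd (hsupp i hi)).symm

include hN hRf0 hRf hQ' in
/-- The image of `V` under `Theta` is the range of `incl`. -/
lemma Theta_V (x : JJ Rf → k) :
    x ∈ LinearMap.range (incl (k := k) c a Rf Q') ↔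
      ∃ v ∈ (LinearMap.range (restr (N := N') (LinearMap.ker π))).map
        (Psi H c hc a i₀ ha0 π hker j), Theta Rf v = x := by
  classical
  have hQT : ∀ q, q ∈ Q' → q ∈ T := fun q hq => ((hQ' q).1 hq).1
  have hi₀ : ∀ p : JJ Rf, p.1 ≠ i₀ := by
    rintro ⟨i, ⟨m, hm⟩⟩ rfl
    rw [hRf0] at hm
    exact Finset.notMem_empty m hm
  constructor
  · rintro ⟨z, rfl⟩
    let y₀ : PowerSeries k := PowerSeries.mk fun q => if h : q ∈ Q' then z ⟨q, h⟩ else 0
    have hy₀ : Supp T y₀ := by
      intro q hq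
      simp only [y₀, coeff_mk] at hq
      by_cases h : q ∈ Q'
      · exact hQT q h
      · rw [dif_neg h] at hq
        exact absurd rfl hq
    let y : ι → PowerSeries k := fun i => if i = i₀ then y₀ else 0
    have hy : ∀ i, Supp T (y i) := by
      intro i
      by_cases hi : i = i₀
      · simp only [y, hi, if_true]; exact hy₀
      · simp only [y, hi, if_false]; exact supp_zero T
    refine ⟨fun i => X ^ c * y i - X ^ (c + a i) * y i₀,
      (mem_V H c hc a i₀ ha0 π hker j T hN _).2 ⟨y, hy, fun i => rfl⟩, ?_⟩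
    funext p
    rw [Theta_apply, incl_apply]
    have hp := hi₀ p
    simp only [y, hp, if_false, if_true, mul_zero, zero_sub, map_neg, coeff_X_pow_mul']
    congr 1
    by_cases h1 : c + a p.1 ≤ p.2.1
    · rw [if_pos h1]
      simp only [y₀, coeff_mk]
      by_cases h2 : p.2.1 - (c + a p.1) ∈ Q'
      · rw [dif_pos h2, dif_pos ⟨h1, h2⟩]
      · rw [dif_neg h2, dif_neg (fun h => h2 h.2)]
    · rw [if_neg h1, dif_neg (fun h => h1 h.1)]
  · rintro ⟨v, hv, rfl⟩
    obtain ⟨y, hy, hvy⟩ := (mem_V H c hc a i₀ ha0 π hker j T hN v).1 hv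
    refine ⟨fun q => coeff q.1 (y i₀), ?_⟩
    funext p
    rw [Theta_apply, incl_apply, hvy p.1, map_sub, coeff_X_pow_mul', coeff_X_pow_mul']
    have hp := hi₀ p
    have hm := ((hRf p.1 hp p.2.1).1 p.2.2).2
    have h3 : (if c ≤ p.2.1 then coeff (p.2.1 - c) (y p.1) else 0) = 0 := by
      by_cases h : c ≤ p.2.1
      · rw [if_pos h]
        apply (hy p.1).coeff_eq_zero
        intro hT
        exact hm ⟨h, hT⟩
      · rw [if_neg h]
    rw [h3, zero_sub]
    congr 1
    by_cases h1 : c + a p.1 ≤ p.2.1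
    · rw [if_pos h1]
      by_cases h2 : p.2.1 - (c + a p.1) ∈ Q'
      · rw [dif_pos ⟨h1, h2⟩]
      · rw [dif_neg (fun h => h2 h.2)]
        symm
        apply (hy i₀).coeff_eq_zero
        intro hT
        apply h2
        rw [hQ']
        refine ⟨hT, p.1, ?_⟩
        rw [Nat.add_sub_cancel' h1]
        exact p.2.2
    · rw [if_neg h1, dif_neg (fun h => h1 h.1)]

include H hc ha0 hker hj hN hD1 hD2 hRf0 hRf hQ' in
/-- Main counting theorem. -/
theorem length_ext_main [CategoryTheory.HasExt.{w} (ModuleCat.{u} R)]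
    (hπ : Function.Surjective π) :
    Module.length R (CategoryTheory.Abelian.Ext (ModuleCat.of R M') (ModuleCat.of R N') 1)
      + (Q'.card : ℕ∞) = ((∑ i, (Rf i).card : ℕ) : ℕ∞) := by
  classical
  rw [length_ext_one_eq (N := N') π hπ]
  set Ψ := Psi H c hc a i₀ ha0 π hker j with hΨ
  have hΨinj : Function.Injective Ψ := Psi_injective H c hc a i₀ ha0 π hker j hj
  set P := LinearMap.range (restr (N := N') (LinearMap.ker π)) with hP
  set W := LinearMap.range Ψ with hW
  set V := P.map Ψ with hV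
  have hVW : V ≤ W := LinearMap.map_le_range
  have e : ((LinearMap.ker π →ₗ[R] N') ⧸ P) ≃ₗ[R] (↥W ⧸ V.comap W.subtype) := by
    refine Submodule.Quotient.equiv P (V.comap W.subtype) (LinearEquiv.ofInjective Ψ hΨinj) ?_
    ext ⟨w, hw⟩
    rw [Submodule.mem_map, Submodule.mem_comap]
    constructor
    · rintro ⟨φ, hφ, hφw⟩
      refine ⟨φ, hφ, ?_⟩
      exact congrArg Subtype.val hφw
    · rintro ⟨φ, hφ, hφw⟩
      exact ⟨φ, hφ, Subtype.ext hφw⟩
  rw [e.length_eq]
  have key := length_subquotient (k := k) (R := R) (E := ι → PowerSeries k) H.residue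
    (J := JJ Rf) W V hVW (Theta Rf)
    (Theta_surj H c hc a i₀ ha0 π hker j hj T hN D hD2 Rf hRf0 hRf)
    (Theta_ker H c hc a i₀ ha0 π hker j hj T hN D hD1 Rf hRf)
    (LinearMap.range (incl (k := k) c a Rf Q'))
    (Theta_V H c hc a i₀ ha0 π hker j T hN D Rf hRf0 hRf Q' hQ')
  rw [finrank_range_incl c a T Rf Q' hQ'] at key
  rw [key, Fintype.card_sigma]
  simp only [Fintype.card_coe]

end Count

end Groth.Agent.Lib.Helper15.TFExt
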