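import Mathlib
import Groth.Agent.Lib.Helper15.TFExt5

/-!
# User-facing forms of the Ext¹ length computation (helper15)
-/

set_option autoImplicit false
set_option linter.style.haveILetI false
set_option linter.unusedSectionVars false

open PowerSeries

namespace Groth.Agent.Lib.Helper15.TFExt

universe u w

section Glue

variable {k : Type u} [Field k]

/-- A monomial subalgebra gives a `MonoRing`. -/
lemma monoRing_of_subalgebra (A : Subalgebra k (PowerSeries k)) (Γ : Set ℕ)
    (hmono : ∀ f : PowerSeries k, f ∈ A ↔ ∀ m : ℕ, coeff m f ≠ 0 → m ∈ Γ) :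
    MonoRing k ↥A Γ where
  inj := Subtype.val_injective
  mem f := ⟨fun ⟨r, hr⟩ => hr ▸ (hmono r.1).1 r.2, fun h => ⟨⟨f, (hmono f).2 h⟩, rfl⟩⟩

variable {R : Type u} [CommRing R] [Algebra k R]
  [Algebra R (PowerSeries k)] [IsScalarTower k R (PowerSeries k)]
variable {Γ : Set ℕ} (H : MonoRing k R Γ)
variable {ι : Type} [Fintype ι] (a : ι → ℕ)

local notation "em" => algebraMap R (PowerSeries k)

include H in
/-- Membership in the span of monomials is a support condition. -/
lemma mem_span_iff_supp (T : Set ℕ) (hT1 : ∀ i, ∀ p ∈ Γ, a i + p ∈ T)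
    (hT2 : ∀ m ∈ T, ∃ i, a i ≤ m ∧ m - a i ∈ Γ) (f : PowerSeries k) :
    f ∈ Submodule.span R (Set.range fun i => (X : PowerSeries k) ^ (a i)) ↔ Supp T f := by
  classical
  constructor
  · intro hf
    refine Submodule.span_induction ?_ ?_ ?_ ?_ hf
    · rintro _ ⟨i, rfl⟩
      intro m hm
      rw [coeff_X_pow] at hm
      by_cases h : m = a i
      · rw [h]
        have := hT1 i 0 H.zero_mem
        rwa [add_zero] at this
      · rw [if_neg h] at hm
        exact absurd rfl hm
    · exact supp_zero T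
    · intro x y _ _ hx hy
      exact hx.add hy
    · intro r x _ hx
      rw [Algebra.smul_def]
      refine supp_mul (H.supp r) hx ?_
      intro p hp q hq
      obtain ⟨i, hi1, hi2⟩ := hT2 q hq
      have := hT1 i (p + (q - a i)) (H.add_mem hp hi2)
      have e : a i + (p + (q - a i)) = p + q := by omega
      rwa [e] at this
  · intro hf
    rcases isEmpty_or_nonempty ι with hι | hι
    · have : f = 0 := by
        ext m
        rw [map_zero]
        apply hf.coeff_eq_zero
        intro hm
        obtain ⟨i, -⟩ := hT2 m hm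
        exact hι.elim i
      rw [this]
      exact Submodule.zero_mem _
    choose! sel hsel using hT2
    -- the coefficient series attached to each generator
    let g : ι → PowerSeries k := fun i =>
      PowerSeries.mk fun p => if (p + a i ∈ T ∧ sel (p + a i) = i) then coeff (p + a i) f else 0
    have hg : ∀ i, Supp Γ (g i) := by
      intro i p hp
      simp only [g, coeff_mk] at hp
      by_cases h : p + a i ∈ T ∧ sel (p + a i) = i
      · have := (hsel _ h.1).2
        rw [h.2, Nat.add_sub_cancel] at this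
        exact this
      · rw [if_neg h] at hp
        exact absurd rfl hp
    rw [Submodule.mem_span_range_iff_exists_fun]
    refine ⟨fun i => H.lift (g i) (hg i), ?_⟩
    ext m
    rw [map_sum]
    have h1 : ∀ i, coeff m (H.lift (g i) (hg i) • (X : PowerSeries k) ^ (a i)) =
        if (m ∈ T ∧ sel m = i) then coeff m f else 0 := by
      intro i
      rw [Algebra.smul_def, H.em_lift, coeff_mul_X_pow']
      by_cases h : a i ≤ m
      · rw [if_pos h]
        simp only [g, coeff_mk]
        rw [Nat.sub_add_cancel h]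
      · rw [if_neg h, if_neg]
        rintro ⟨h2, h3⟩
        have := (hsel m h2).1
        rw [h3] at this
        exact h this
    rw [Finset.sum_congr rfl fun i _ => h1 i]
    by_cases hm : m ∈ T
    · simp only [hm, true_and]
      rw [Finset.sum_ite_eq Finset.univ (sel m), if_pos (Finset.mem_univ _)]
    · simp only [hm, false_and, if_false, Finset.sum_const_zero]
      exact (hf.coeff_eq_zero hm).symm

end Glue

section Wrap

variable {k : Type u} [Field k] {R : Type u} [CommRing R] [Algebra k R]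
  [Algebra R (PowerSeries k)] [IsScalarTower k R (PowerSeries k)]
variable {Γ : Set ℕ} (H : MonoRing k R Γ) (c : ℕ) (hc : ∀ m, c ≤ m → m ∈ Γ)
variable {ι : Type} [Fintype ι] [DecidableEq ι] (a : ι → ℕ) (i₀ : ι) (ha0 : a i₀ = 0)
variable {M' : Type u} [AddCommGroup M'] [Module R M'] (π : (ι → R) →ₗ[R] M')
  (hker : LinearMap.ker π = LinearMap.ker (pres₀ (k := k) a))
variable {N' : Type u} [AddCommGroup N'] [Module R N'] (j : N' →ₗ[R] PowerSeries k)
  (hj : Function.Injective j) (T : Set ℕ) (hN : ∀ f, f ∈ LinearMap.range j ↔ Supp T f)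

local notation "em" => algebraMap R (PowerSeries k)

/-- The pure power-series form of the condition on `w`. -/
def WPure (Γ : Set ℕ) (c : ℕ) (a : ι → ℕ) (T : Set ℕ) (w : ι → PowerSeries k) : Prop :=
  ∀ g : ι → PowerSeries k, (∀ i, Supp Γ (g i)) → ∑ i, g i * X ^ (a i) = 0 →
    Supp (sh c T) (∑ i, g i * w i)

include H hker in
lemma wcond_iff (w : ι → PowerSeries k) :
    WCond c i₀ π T w ↔ (w i₀ = 0 ∧ WPure Γ c a T w) := by
  constructor
  · rintro ⟨h0, h1⟩
    refine ⟨h0, fun g hg hg0 => ?_⟩
    have := h1 (fun i => H.lift (g i) (hg i)) ?_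
    · simpa only [H.em_lift] using this
    · rw [mem_Z_iff a π hker]
      simpa only [H.em_lift] using hg0
  · rintro ⟨h0, h1⟩
    refine ⟨h0, fun f hf => ?_⟩
    rw [mem_Z_iff a π hker] at hf
    exact h1 (fun i => em (f i)) (fun i => H.supp (f i)) hf

include ha0 in
/-- Binomial test: consequences of `WPure` for a single coordinate. -/
lemma WPure.binomial {w : ι → PowerSeries k} (hw : WPure Γ c a T w) (hw0 : w i₀ = 0)
    (i : ι) (p : ℕ) (hp : p ∈ Γ) (hpa : p + a i ∈ Γ) : Supp (sh c T) (X ^ p * w i) := by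
  have := hw (fun l => (Pi.single i (X ^ p) - Pi.single i₀ (X ^ (p + a i)) : ι → PowerSeries k) l)
    ?_ ?_
  · have e : ∑ l, (Pi.single i (X ^ p) - Pi.single i₀ (X ^ (p + a i)) : ι → PowerSeries k) l * w l
        = X ^ p * w i - X ^ (p + a i) * w i₀ := by
      simp only [Pi.sub_apply, Pi.single_apply, sub_mul, Finset.sum_sub_distrib, ite_mul, zero_mul]
      rw [Finset.sum_ite_eq' Finset.univ i, Finset.sum_ite_eq' Finset.univ i₀,
        if_pos (Finset.mem_univ _), if_pos (Finset.mem_univ _)]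
    rw [e, hw0, mul_zero, sub_zero] at this
    exact this
  · intro l
    simp only [Pi.sub_apply, Pi.single_apply]
    refine Supp.sub ?_ ?_
    · by_cases h : l = i
      · rw [if_pos h]; exact supp_X_pow hp
      · rw [if_neg h]; exact supp_zero Γ
    · by_cases h : l = i₀
      · rw [if_pos h]; exact supp_X_pow hpa
      · rw [if_neg h]; exact supp_zero Γ
  · simp only [Pi.sub_apply, Pi.single_apply, sub_mul, Finset.sum_sub_distrib, ite_mul, zero_mul]
    rw [Finset.sum_ite_eq' Finset.univ i, Finset.sum_ite_eq' Finset.univ i₀,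
      if_pos (Finset.mem_univ _), if_pos (Finset.mem_univ _), ha0, pow_add]
    ring

include ha0 in
lemma WPure.binomial_coeff {w : ι → PowerSeries k} (hw : WPure Γ c a T w) (hw0 : w i₀ = 0)
    (i : ι) (p : ℕ) (hp : p ∈ Γ) (hpa : p + a i ∈ Γ) (q : ℕ) (hq : coeff q (w i) ≠ 0) :
    q + p ∈ sh c T := by
  apply WPure.binomial c a i₀ ha0 T hw hw0 i p hp hpa (q + p)
  rw [coeff_X_pow_mul]
  exact hq

variable (D : ι → Set ℕ)
  (hD1 : ∀ w : ι → PowerSeries k, w i₀ = 0 → WPure Γ c a T w → ∀ i, i ≠ i₀ → Supp (D i) (w i))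
  (hD2 : ∀ w : ι → PowerSeries k, w i₀ = 0 → (∀ i, i ≠ i₀ → Supp (D i) (w i)) → WPure Γ c a T w)
  (Rf : ι → Finset ℕ) (hRf0 : Rf i₀ = ∅)
  (hRf : ∀ i, i ≠ i₀ → ∀ m, m ∈ Rf i ↔ (m ∈ D i ∧ m ∉ sh c T))
  (Q' : Finset ℕ) (hQ' : ∀ q, q ∈ Q' ↔ (q ∈ T ∧ ∃ i, c + a i + q ∈ Rf i))

include H hc ha0 hker hj hN hD1 hD2 hRf0 hRf hQ' in
/-- Main counting theorem, with the conditions on `w` in pure power-series form. -/
theorem length_ext_main' [CategoryTheory.HasExt.{w} (ModuleCat.{u} R)]
    (hπ : Function.Surjective π) :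
    Module.length R (CategoryTheory.Abelian.Ext (ModuleCat.of R M') (ModuleCat.of R N') 1)
      + (Q'.card : ℕ∞) = ((∑ i, (Rf i).card : ℕ) : ℕ∞) := by
  refine length_ext_main H c hc a i₀ ha0 π hker j hj T hN D ?_ ?_ Rf hRf0 hRf Q' hQ' hπ
  · intro w hw
    rw [wcond_iff H c a i₀ π hker T] at hw
    exact hD1 w hw.1 hw.2
  · intro w hw0 hw
    rw [wcond_iff H c a i₀ π hker T]
    exact ⟨hw0, hD2 w hw0 hw⟩

include H hc ha0 hD1 hD2 hRf0 hRf hQ' in
/-- Version for submodules of `k⟦X⟧`. -/
theorem length_ext_submodules [CategoryTheory.HasExt.{w} (ModuleCat.{u} R)]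
    (M N : Submodule R (PowerSeries k))
    (hM : M = Submodule.span R (Set.range fun i => (X : PowerSeries k) ^ (a i)))
    (hN : ∀ f, f ∈ N ↔ Supp T f) :
    Module.length R (CategoryTheory.Abelian.Ext (ModuleCat.of R M) (ModuleCat.of R N) 1)
      + (Q'.card : ℕ∞) = ((∑ i, (Rf i).card : ℕ) : ℕ∞) := by
  have hrange : ∀ f : ι → R, pres₀ (k := k) (R := R) a f ∈ M := by
    intro f
    rw [hM, ← Fintype.range_linearCombination]
    exact ⟨f, rfl⟩
  let π : (ι → R) →ₗ[R] M := (pres₀ (k := k) a).codRestrict M hrange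
  have hπ : Function.Surjective π := by
    rintro ⟨x, hx⟩
    rw [hM, ← Fintype.range_linearCombination] at hx
    obtain ⟨f, rfl⟩ := hx
    exact ⟨f, rfl⟩
  have hker : LinearMap.ker π = LinearMap.ker (pres₀ (k := k) a) :=
    LinearMap.ker_codRestrict _ _ _
  refine length_ext_main' H c hc a i₀ ha0 π hker N.subtype (Submodule.injective_subtype N) T ?_ D hD1 hD2
    Rf hRf0 hRf Q' hQ' hπ
  intro f
  rw [Submodule.range_subtype]
  exact hN f

end Wrap

end Groth.Agent.Lib.Helper15.TFExt
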