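import Mathlib
import Groth.Agent.Lib.Helper15.TFExt6

/-!
# Standard form of the Ext¹ computation: the test set `Dstd` (helper15)
-/

set_option autoImplicit false
set_option linter.style.haveILetI false
set_option linter.unusedSectionVars false

open PowerSeries

namespace Groth.Agent.Lib.Helper15.TFExt

universe u w

section Std

variable {k : Type u} [Field k]
variable {ι : Type} [Fintype ι] [DecidableEq ι]

/-- The standard exponent set for the `i`-th coordinate of `w`. -/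
def Dstd (Γ : Set ℕ) (c : ℕ) (a : ι → ℕ) (T : Set ℕ) (i : ι) : Set ℕ :=
  {q | ∀ p, p ∈ Γ → p + a i ∈ Γ → q + p ∈ sh c T}

variable (Γ : Set ℕ) (c : ℕ) (a : ι → ℕ) (i₀ : ι) (ha0 : a i₀ = 0) (T : Set ℕ)

include ha0 in
lemma hD1_std (w : ι → PowerSeries k) (hw0 : w i₀ = 0) (hw : WPure Γ c a T w) (i : ι)
    (_hi : i ≠ i₀) : Supp (Dstd Γ c a T i) (w i) := by
  intro q hq p hp hpa
  exact WPure.binomial_coeff c a i₀ ha0 T hw hw0 i p hp hpa q hq

include ha0 in
/-- Under the disjointness condition (★), the coordinates of a syzygy are supported where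
`p + a i ∈ Γ`. -/
lemma syz_supp
    (hstar : ∀ i i', i ≠ i₀ → i' ≠ i₀ → i ≠ i' → ∀ p p', p ∈ Γ → p' ∈ Γ →
      p + a i = p' + a i' → p + a i ∈ Γ)
    (g : ι → PowerSeries k) (hg : ∀ i, Supp Γ (g i)) (hg0 : ∑ i, g i * X ^ (a i) = 0)
    (i : ι) (hi : i ≠ i₀) : Supp {p | p ∈ Γ ∧ p + a i ∈ Γ} (g i) := by
  intro p hp
  refine ⟨hg i p hp, ?_⟩
  by_contra hne
  have h1 := congrArg (coeff (p + a i)) hg0
  rw [map_sum, map_zero] at h1
  simp only [coeff_mul_X_pow'] at h1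
  -- isolate the term i
  rw [← Finset.add_sum_erase Finset.univ _ (Finset.mem_univ i)] at h1
  rw [if_pos (Nat.le_add_left _ _), Nat.add_sub_cancel] at h1
  have h2 : ∑ l ∈ Finset.univ.erase i,
      (if a l ≤ p + a i then coeff (p + a i - a l) (g l) else 0) = 0 := by
    apply Finset.sum_eq_zero
    intro l hl
    have hli : l ≠ i := Finset.ne_of_mem_erase hl
    by_cases hle : a l ≤ p + a i
    · rw [if_pos hle]
      by_contra hc0
      have hp' : p + a i - a l ∈ Γ := hg l _ hc0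
      by_cases hl0 : l = i₀
      · rw [hl0, ha0, Nat.sub_zero] at hp'
        exact hne hp'
      · have := hstar i l hi hl0 (Ne.symm hli) p (p + a i - a l) (hg i p hp) hp' (by omega)
        exact hne this
    · rw [if_neg hle]
  rw [h2, add_zero] at h1
  exact hp h1

include ha0 in
lemma hD2_std
    (hstar : ∀ i i', i ≠ i₀ → i' ≠ i₀ → i ≠ i' → ∀ p p', p ∈ Γ → p' ∈ Γ →
      p + a i = p' + a i' → p + a i ∈ Γ)
    (w : ι → PowerSeries k) (hw0 : w i₀ = 0)
    (hw : ∀ i, i ≠ i₀ → Supp (Dstd Γ c a T i) (w i)) : WPure Γ c a T w := by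
  intro g hg hg0
  apply Supp.sum
  intro i _
  by_cases hi : i = i₀
  · rw [hi, hw0, mul_zero]
    exact supp_zero _
  · refine supp_mul (syz_supp Γ a i₀ ha0 hstar g hg hg0 i hi) (hw i hi) ?_
    rintro p ⟨hp1, hp2⟩ q hq
    rw [add_comm]
    exact hq p hp1 hp2

end Std

section StdThm

variable {k : Type u} [Field k] {R : Type u} [CommRing R] [Algebra k R]
  [Algebra R (PowerSeries k)] [IsScalarTower k R (PowerSeries k)]
variable {Γ : Set ℕ} (H : MonoRing k R Γ) (c : ℕ) (hc : ∀ m, c ≤ m → m ∈ Γ)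
variable {ι : Type} [Fintype ι] [DecidableEq ι] (a : ι → ℕ) (i₀ : ι) (ha0 : a i₀ = 0)
variable (hstar : ∀ i i', i ≠ i₀ → i' ≠ i₀ → i ≠ i' → ∀ p p', p ∈ Γ → p' ∈ Γ →
      p + a i = p' + a i' → p + a i ∈ Γ)
variable (T : Set ℕ)
  (Rf : ι → Finset ℕ) (hRf0 : Rf i₀ = ∅)
  (hRf : ∀ i, i ≠ i₀ → ∀ m, m ∈ Rf i ↔ (m ∈ Dstd Γ c a T i ∧ m ∉ sh c T))
  (Q' : Finset ℕ) (hQ' : ∀ q, q ∈ Q' ↔ (q ∈ T ∧ ∃ i, c + a i + q ∈ Rf i))

include H hc ha0 hstar hRf0 hRf hQ' in
/-- Standard form, submodules of `k⟦X⟧`. -/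
theorem length_ext_std [CategoryTheory.HasExt.{w} (ModuleCat.{u} R)]
    (M N : Submodule R (PowerSeries k))
    (hM : M = Submodule.span R (Set.range fun i => (X : PowerSeries k) ^ (a i)))
    (hN : ∀ f, f ∈ N ↔ Supp T f) :
    Module.length R (CategoryTheory.Abelian.Ext (ModuleCat.of R M) (ModuleCat.of R N) 1)
      + (Q'.card : ℕ∞) = ((∑ i, (Rf i).card : ℕ) : ℕ∞) :=
  length_ext_submodules H c hc a i₀ ha0 T (Dstd Γ c a T)
    (fun w hw0 hw i hi => hD1_std Γ c a i₀ ha0 T w hw0 hw i hi)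
    (fun w hw0 hw => hD2_std Γ c a i₀ ha0 T hstar w hw0 hw)
    Rf hRf0 hRf Q' hQ' M N hM hN

include H hc ha0 hstar hRf0 hRf hQ' in
/-- Standard form, general presentation `π` and embedding `j`. -/
theorem length_ext_std' [CategoryTheory.HasExt.{w} (ModuleCat.{u} R)]
    {M' : Type u} [AddCommGroup M'] [Module R M'] (π : (ι → R) →ₗ[R] M')
    (hker : LinearMap.ker π = LinearMap.ker (pres₀ (k := k) a))
    (hπ : Function.Surjective π)
    {N' : Type u} [AddCommGroup N'] [Module R N'] (j : N' →ₗ[R] PowerSeries k)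
    (hj : Function.Injective j) (hN : ∀ f, f ∈ LinearMap.range j ↔ Supp T f) :
    Module.length R (CategoryTheory.Abelian.Ext (ModuleCat.of R M') (ModuleCat.of R N') 1)
      + (Q'.card : ℕ∞) = ((∑ i, (Rf i).card : ℕ) : ℕ∞) :=
  length_ext_main' H c hc a i₀ ha0 π hker j hj T hN (Dstd Γ c a T)
    (fun w hw0 hw i hi => hD1_std Γ c a i₀ ha0 T w hw0 hw i hi)
    (fun w hw0 hw => hD2_std Γ c a i₀ ha0 T hstar w hw0 hw)
    Rf hRf0 hRf Q' hQ' hπ

end StdThm

end Groth.Agent.Lib.Helper15.TFExt
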