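import Mathlib
import Groth.Agent.Lib.Helper15.TFExt7

/-!
# Two-generator modules `⟨1, X^b⟩` (helper15)
-/

set_option autoImplicit false
set_option linter.style.haveILetI false
set_option linter.unusedSectionVars false

open PowerSeries

namespace Groth.Agent.Lib.Helper15.TFExt

universe u w

/-- Exponents of the two generators `1, X^b`. -/
def a2 (b : ℕ) : Fin 2 → ℕ := ![0, b]

@[simp] lemma a2_zero (b : ℕ) : a2 b 0 = 0 := rfl
@[simp] lemma a2_one (b : ℕ) : a2 b 1 = b := rfl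

lemma range_a2 {k : Type u} [Field k] (b : ℕ) :
    (Set.range fun i => (X : PowerSeries k) ^ (a2 b i)) = {1, X ^ b} := by
  ext x
  simp only [Set.mem_range, Fin.exists_fin_two, a2_zero, a2_one, pow_zero, Set.mem_insert_iff,
    Set.mem_singleton_iff]
  constructor
  · rintro (h | h)
    · exact Or.inl h.symm
    · exact Or.inr h.symm
  · rintro (h | h)
    · exact Or.inl h.symm
    · exact Or.inr h.symm

lemma hstar_fin2 (Γ : Set ℕ) (a : Fin 2 → ℕ) :
    ∀ i i' : Fin 2, i ≠ 0 → i' ≠ 0 → i ≠ i' → ∀ p p', p ∈ Γ → p' ∈ Γ →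
      p + a i = p' + a i' → p + a i ∈ Γ := by
  intro i i' hi hi' hii'
  exfalso
  fin_cases i <;> fin_cases i' <;> simp_all

section Two

variable {k : Type u} [Field k] {R : Type u} [CommRing R] [Algebra k R]
  [Algebra R (PowerSeries k)] [IsScalarTower k R (PowerSeries k)]
variable {Γ : Set ℕ} (H : MonoRing k R Γ) (c : ℕ) (hc : ∀ m, c ≤ m → m ∈ Γ)

include H hc in
/-- The two-generator case: `Ext¹(⟨1,X^b⟩, N)`. -/
theorem length_ext_two [CategoryTheory.HasExt.{w} (ModuleCat.{u} R)]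
    (b : ℕ) (T : Set ℕ) (Rf Q' : Finset ℕ)
    (hRf : ∀ m, m ∈ Rf ↔ ((∀ p, p ∈ Γ → p + b ∈ Γ → m + p ∈ sh c T) ∧ m ∉ sh c T))
    (hQ' : ∀ q, q ∈ Q' ↔ (q ∈ T ∧ c + b + q ∈ Rf))
    (M N : Submodule R (PowerSeries k))
    (hM : M = Submodule.span R ({1, X ^ b} : Set (PowerSeries k)))
    (hN : ∀ f, f ∈ N ↔ Supp T f) :
    Module.length R (CategoryTheory.Abelian.Ext (ModuleCat.of R M) (ModuleCat.of R N) 1)
      + (Q'.card : ℕ∞) = (Rf.card : ℕ∞) := by
  have := length_ext_std H c hc (a2 b) 0 rfl (hstar_fin2 Γ (a2 b)) T ![∅, Rf] rfl ?_ Q' ?_ M N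
    (by rw [hM, range_a2]) hN
  · rw [this]
    simp [Fin.sum_univ_two]
  · intro i hi m
    fin_cases i
    · exact absurd rfl hi
    · exact hRf m
  · intro q
    rw [hQ' q]
    constructor
    · rintro ⟨h1, h2⟩
      exact ⟨h1, 1, h2⟩
    · rintro ⟨h1, i, h2⟩
      refine ⟨h1, ?_⟩
      fin_cases i
      · exact absurd h2 (Finset.notMem_empty _)
      · exact h2

include H in
/-- Membership in `⟨1, X^b⟩` as a support condition. -/
lemma mem_span_two_iff (b : ℕ) (T : Set ℕ) (hT1 : ∀ p ∈ Γ, p ∈ T ∧ b + p ∈ T)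
    (hT2 : ∀ m ∈ T, m ∈ Γ ∨ (b ≤ m ∧ m - b ∈ Γ)) (f : PowerSeries k) :
    f ∈ Submodule.span R ({1, X ^ b} : Set (PowerSeries k)) ↔ Supp T f := by
  rw [← range_a2, mem_span_iff_supp H (a2 b) T]
  · intro i p hp
    fin_cases i
    · simpa using (hT1 p hp).1
    · exact (hT1 p hp).2
  · intro m hm
    rcases hT2 m hm with h | h
    · exact ⟨0, Nat.zero_le _, h⟩
    · exact ⟨1, h.1, h.2⟩

end Two

end Groth.Agent.Lib.Helper15.TFExt
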