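import Mathlib
import Groth.Agent.Lib.Helper15.TFExt8

/-!
# Ext¹ lengths for the A_{2δ} singularity `k[[t², t^{2δ+1}]]` (helper15)
-/

set_option autoImplicit false
set_option linter.style.haveILetI false
set_option linter.unusedSectionVars false

open PowerSeries

namespace Groth.Agent.Lib.Helper15.TFExt

universe u

lemma mem_closure_2 (δ m : ℕ) :
    m ∈ AddSubmonoid.closure ({2, 2 * δ + 1} : Set ℕ) ↔ (m % 2 = 0 ∨ 2 * δ + 1 ≤ m) := by
  rw [AddSubmonoid.mem_closure_pair]
  constructor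
  · rintro ⟨x, y, rfl⟩
    simp only [smul_eq_mul]
    rcases y with _ | y
    · left; omega
    · right
      have : (y + 1) * (2 * δ + 1) = y * (2 * δ + 1) + (2 * δ + 1) := by ring
      omega
  · intro h
    by_cases h2 : m % 2 = 0
    · exact ⟨m / 2, 0, by simp only [smul_eq_mul]; omega⟩
    · have h3 : 2 * δ + 1 ≤ m := by omega
      exact ⟨(m - (2 * δ + 1)) / 2, 1, by simp only [smul_eq_mul]; omega⟩

/-- The A_{2δ} semigroup. -/
def ΓA (δ : ℕ) : Set ℕ := {m | m % 2 = 0 ∨ 2 * δ + 1 ≤ m}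

lemma mem_ΓA {δ m : ℕ} : m ∈ ΓA δ ↔ (m % 2 = 0 ∨ 2 * δ + 1 ≤ m) := Iff.rfl

/-- The value set of `⟨1, X^{2δ+1-2j}⟩`. -/
def TA (δ j : ℕ) : Set ℕ := {m | m % 2 = 0 ∨ 2 * δ + 1 - 2 * j ≤ m}

lemma mem_TA {δ j m : ℕ} : m ∈ TA δ j ↔ (m % 2 = 0 ∨ 2 * δ + 1 - 2 * j ≤ m) := Iff.rfl

/-- The positions read off in the `A_{2δ}` computation. -/
def RfA (δ i j : ℕ) : Finset ℕ :=
  (Finset.range (min i j)).image (fun t => 2 * δ - 2 * min i j + 2 * t) ∪
    (Finset.range i).image (fun t => 4 * δ + 1 - 2 * i - 2 * j + 2 * t)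

lemma mem_RfA {δ i j m : ℕ} : m ∈ RfA δ i j ↔
    ((∃ t, t < min i j ∧ 2 * δ - 2 * min i j + 2 * t = m) ∨
      (∃ t, t < i ∧ 4 * δ + 1 - 2 * i - 2 * j + 2 * t = m)) := by
  simp only [RfA, Finset.mem_union, Finset.mem_image, Finset.mem_range]

lemma card_RfA (δ i j : ℕ) (hi : i ≤ δ) (hj : j ≤ δ) : (RfA δ i j).card = min i j + i := by
  rw [RfA, Finset.card_union_of_disjoint, Finset.card_image_of_injective,
    Finset.card_image_of_injective, Finset.card_range, Finset.card_range]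
  · intro x y h
    simp only at h
    omega
  · intro x y h
    simp only at h
    omega
  · rw [Finset.disjoint_left]
    intro x hx hx'
    simp only [Finset.mem_image, Finset.mem_range] at hx hx'
    obtain ⟨t, ht, rfl⟩ := hx
    obtain ⟨t', ht', h⟩ := hx'
    have : min i j ≤ i := min_le_left _ _
    have : min i j ≤ j := min_le_right _ _
    omega

/-- The correction set. -/
def QA (i j : ℕ) : Finset ℕ := (Finset.range (i - min i j)).image (fun t => 2 * t)

lemma mem_QA {i j q : ℕ} : q ∈ QA i j ↔ ∃ t, t < i - min i j ∧ 2 * t = q := by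
  simp only [QA, Finset.mem_image, Finset.mem_range]

lemma card_QA (i j : ℕ) : (QA i j).card = i - min i j := by
  rw [QA, Finset.card_image_of_injective, Finset.card_range]
  intro x y h
  simp only at h
  omega

section A2d

variable {k : Type u} [Field k] (δ : ℕ) (A : Subalgebra k (PowerSeries k))
  (hmono : ∀ f : PowerSeries k, f ∈ A ↔
    ∀ n : ℕ, coeff n f ≠ 0 → n ∈ AddSubmonoid.closure ({2, 2 * δ + 1} : Set ℕ))

include hmono in
lemma monoA2d : MonoRing k ↥A (ΓA δ) := by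
  apply monoRing_of_subalgebra A (ΓA δ)
  intro f
  rw [hmono]
  constructor
  · intro h m hm
    exact (mem_closure_2 δ m).1 (h m hm)
  · intro h m hm
    exact (mem_closure_2 δ m).2 (h m hm)

lemma hcA2d : ∀ m, 2 * δ ≤ m → m ∈ ΓA δ := by
  intro m hm
  rw [mem_ΓA]
  omega

variable [CategoryTheory.HasExt.{u} (ModuleCat.{u} ↥A)]

include hmono in
theorem a2d_main (i j : ℕ) (hi : i ≤ δ) (hj : j ≤ δ) :
    Module.length ↥A (CategoryTheory.Abelian.Ext
      (ModuleCat.of ↥A ↥(Submodule.span ↥A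
        ({1, (X : PowerSeries k) ^ (2 * δ + 1 - 2 * i)} : Set (PowerSeries k))))
      (ModuleCat.of ↥A ↥(Submodule.span ↥A
        ({1, (X : PowerSeries k) ^ (2 * δ + 1 - 2 * j)} : Set (PowerSeries k))))
      1) = ((2 * min i j : ℕ) : ℕ∞) := by
  have H := monoA2d δ A hmono
  have hμi : min i j ≤ i := min_le_left _ _
  have hμj : min i j ≤ j := min_le_right _ _
  have hμ : min i j = i ∨ min i j = j := min_choice i j
  have hN := mem_span_two_iff H (2 * δ + 1 - 2 * j) (TA δ j)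
    (by intro p hp; simp only [mem_ΓA, mem_TA] at *; omega)
    (by intro m hm; simp only [mem_ΓA, mem_TA] at *; omega)
  have := length_ext_two H (2 * δ) (hcA2d δ) (2 * δ + 1 - 2 * i) (TA δ j) (RfA δ i j) (QA i j)
    ?_ ?_ _ _ rfl hN
  · rw [card_RfA δ i j hi hj, card_QA] at this
    have h2 : ((min i j + i : ℕ) : ℕ∞) = ((2 * min i j : ℕ) : ℕ∞) + ((i - min i j : ℕ) : ℕ∞) := by
      rw [← Nat.cast_add]
      congr 1
      omega
    rw [h2] at this
    exact (ENat.add_left_injective_of_ne_top (ENat.coe_ne_top _)) this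
  · -- hRf
    intro m
    rw [mem_RfA]
    constructor
    · rintro (⟨t, ht, rfl⟩ | ⟨t, ht, rfl⟩)
      · refine ⟨fun p hp hpa => ?_, ?_⟩
        · simp only [mem_ΓA, mem_sh, mem_TA] at *
          omega
        · simp only [mem_sh, mem_TA]
          omega
      · refine ⟨fun p hp hpa => ?_, ?_⟩
        · simp only [mem_ΓA, mem_sh, mem_TA] at *
          omega
        · simp only [mem_sh, mem_TA]
          omega
    · rintro ⟨h1, h2⟩
      have t1 := h1 (2 * i) (by rw [mem_ΓA]; omega) (by rw [mem_ΓA]; omega)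
      have t2 := h1 (2 * δ + 1) (by rw [mem_ΓA]; omega) (by rw [mem_ΓA]; omega)
      simp only [mem_sh, mem_TA] at t1 t2 h2
      by_cases hm : m % 2 = 0
      · left
        exact ⟨(m - (2 * δ - 2 * min i j)) / 2, by omega, by omega⟩
      · right
        exact ⟨(m - (4 * δ + 1 - 2 * i - 2 * j)) / 2, by omega, by omega⟩
  · -- hQ'
    intro q
    rw [mem_QA, mem_RfA, mem_TA]
    constructor
    · rintro ⟨t, ht, rfl⟩
      refine ⟨by omega, Or.inr ⟨t + j, by omega, by omega⟩⟩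
    · rintro ⟨hq, (⟨t, ht, h⟩ | ⟨t, ht, h⟩)⟩
      · omega
      · exact ⟨q / 2, by omega, by omega⟩

end A2d

end Groth.Agent.Lib.Helper15.TFExt
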