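import Mathlib
import Groth.Agent.Lib.Helper15.TFExt8

/-!
# Ext¹ lengths over the cubical ring `k + tⁿ k[[t]]` (helper15)
-/

set_option autoImplicit false
set_option linter.style.haveILetI false
set_option linter.unusedSectionVars false

open PowerSeries

namespace Groth.Agent.Lib.Helper15.TFExt

universe u

/-- The cubical semigroup. -/
def ΓC (n : ℕ) : Set ℕ := {m | m = 0 ∨ n ≤ m}

lemma mem_ΓC {n m : ℕ} : m ∈ ΓC n ↔ (m = 0 ∨ n ≤ m) := Iff.rfl

lemma hcC (n : ℕ) : ∀ m, n ≤ m → m ∈ ΓC n := fun _ hm => Or.inr hm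

/-- Condition (★) for generators of degree `< n`. -/
lemma hstar_cubical {ι : Type} (n : ℕ) (a : ι → ℕ) (i₀ : ι)
    (hlt : ∀ i, i ≠ i₀ → 0 < a i ∧ a i < n)
    (hinj : ∀ i i', i ≠ i₀ → i' ≠ i₀ → a i = a i' → i = i') :
    ∀ i i', i ≠ i₀ → i' ≠ i₀ → i ≠ i' → ∀ p p', p ∈ ΓC n → p' ∈ ΓC n →
      p + a i = p' + a i' → p + a i ∈ ΓC n := by
  intro i i' hi hi' hii' p p' hp hp' h
  rw [mem_ΓC] at *
  have h1 := hlt i hi
  have h2 := hlt i' hi'
  rcases hp with hp | hp
  · rcases hp' with hp' | hp'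
    · exfalso
      apply hii'
      apply hinj i i' hi hi'
      omega
    · omega
  · omega

section Cub

variable {k : Type u} [Field k] (n : ℕ) (A : Subalgebra k (PowerSeries k))
  (hmono : ∀ f : PowerSeries k, f ∈ A ↔ ∀ m : ℕ, coeff m f ≠ 0 → (m = 0 ∨ n ≤ m))

include hmono in
lemma monoCub : MonoRing k ↥A (ΓC n) := monoRing_of_subalgebra A (ΓC n) hmono

variable [CategoryTheory.HasExt.{u} (ModuleCat.{u} ↥A)]

/-- Value set of `⟨1, t, …, t^i⟩`. -/
def TC1 (n i : ℕ) : Set ℕ := {m | m ≤ i ∨ n ≤ m}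

lemma mem_TC1 {n i m : ℕ} : m ∈ TC1 n i ↔ (m ≤ i ∨ n ≤ m) := Iff.rfl

lemma image_Iic (i : ℕ) :
    ((fun a : ℕ => (X : PowerSeries k) ^ a) '' Set.Iic i) =
      Set.range fun s : Fin (i + 1) => (X : PowerSeries k) ^ (s : ℕ) := by
  ext x
  constructor
  · rintro ⟨a, ha, rfl⟩
    exact ⟨⟨a, Nat.lt_succ_of_le ha⟩, rfl⟩
  · rintro ⟨s, rfl⟩
    exact ⟨s, Nat.le_of_lt_succ s.2, rfl⟩

include hmono in
theorem cub_case1 (i : ℕ) (hi : i + 2 ≤ n) :
    Module.length ↥A (CategoryTheory.Abelian.Ext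
      (ModuleCat.of ↥A ↥(Submodule.span ↥A
        ((fun a : ℕ => (X : PowerSeries k) ^ a) '' Set.Iic i)))
      (ModuleCat.of ↥A ↥(Submodule.span ↥A
        ((fun a : ℕ => (X : PowerSeries k) ^ a) '' Set.Iic i)))
      1) = ((i * (n - 2 - i) : ℕ) : ℕ∞) := by
  classical
  have H := monoCub n A hmono
  let a : Fin (i + 1) → ℕ := fun s => (s : ℕ)
  have hN : ∀ f : PowerSeries k, f ∈ Submodule.span ↥A
      ((fun a : ℕ => (X : PowerSeries k) ^ a) '' Set.Iic i) ↔ Supp (TC1 n i) f := by
    intro f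
    rw [image_Iic, mem_span_iff_supp H a (TC1 n i)]
    · intro s p hp
      have := s.2
      simp only [mem_ΓC, mem_TC1, a] at *
      omega
    · intro m hm
      rw [mem_TC1] at hm
      by_cases h : m ≤ i
      · exact ⟨⟨m, Nat.lt_succ_of_le h⟩, le_refl _, by simp [a, mem_ΓC]⟩
      · exact ⟨0, Nat.zero_le _, by simp only [a, Fin.val_zero, Nat.sub_zero, mem_ΓC]; omega⟩
  let Rf : Fin (i + 1) → Finset ℕ := fun s => if s = 0 then ∅ else Finset.Ioo (n + i) (2 * n)
  have hstar := hstar_cubical n a 0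
    (by
      intro s hs
      have h1 : (s : ℕ) ≠ 0 := fun h => hs (Fin.ext h)
      have := s.2
      simp only [a]
      omega)
    (by
      intro s s' _ _ h
      exact Fin.ext h)
  have hM : Submodule.span ↥A ((fun a : ℕ => (X : PowerSeries k) ^ a) '' Set.Iic i) =
      Submodule.span ↥A (Set.range fun s => (X : PowerSeries k) ^ (a s)) := by
    rw [image_Iic]
  have := length_ext_std H n (hcC n) a 0 rfl hstar (TC1 n i) Rf (by simp [Rf]) ?_
    (Finset.Icc 1 i) ?_ _ _ hM hN
  · have hsum : ∑ s, (Rf s).card = i * (n - i - 1) := by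
      rw [Fin.sum_univ_succ]
      simp only [Rf, if_true, Finset.card_empty, zero_add, Fin.succ_ne_zero, if_false,
        Nat.card_Ioo, Finset.sum_const, Finset.card_univ, Fintype.card_fin, smul_eq_mul]
      congr 1
      omega
    rw [hsum, Nat.card_Icc] at this
    have h2 : ((i * (n - i - 1) : ℕ) : ℕ∞) = ((i * (n - 2 - i) : ℕ) : ℕ∞) + ((i + 1 - 1 : ℕ) : ℕ∞) := by
      rw [← Nat.cast_add]
      congr 1
      have : n - i - 1 = (n - 2 - i) + 1 := by omega
      rw [this]
      simp only [Nat.add_sub_cancel]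
      ring
    rw [h2] at this
    exact (ENat.add_left_injective_of_ne_top (ENat.coe_ne_top _)) this
  · -- hRf
    intro s hs m
    have h1 : (s : ℕ) ≠ 0 := fun h => hs (Fin.ext h)
    have h2 := s.2
    simp only [Rf, hs, if_false, Finset.mem_Ioo]
    constructor
    · intro hm
      refine ⟨fun p hp hpa => ?_, ?_⟩
      · simp only [mem_ΓC, mem_sh, mem_TC1, a] at *
        omega
      · simp only [mem_sh, mem_TC1]
        omega
    · rintro ⟨h3, h4⟩
      have t1 := h3 n (by rw [mem_ΓC]; omega) (by rw [mem_ΓC]; omega)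
      simp only [mem_sh, mem_TC1] at t1 h4
      by_cases hmi : m ≤ i
      · have t2 := h3 (2 * n - 1 - m) (by rw [mem_ΓC]; omega) (by rw [mem_ΓC]; omega)
        simp only [mem_sh, mem_TC1] at t2
        omega
      · omega
  · -- hQ'
    intro q
    rw [Finset.mem_Icc, mem_TC1]
    constructor
    · rintro ⟨h1, h2⟩
      refine ⟨Or.inl h2, ⟨i + 1 - q, by omega⟩, ?_⟩
      have hne : (⟨i + 1 - q, by omega⟩ : Fin (i + 1)) ≠ 0 := by
        intro h
        have := congrArg Fin.val h
        simp only [Fin.val_zero] at this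
        omega
      simp only [Rf, hne, if_false, Finset.mem_Ioo, a]
      omega
    · rintro ⟨h1, s, h2⟩
      by_cases hs : s = 0
      · simp only [Rf, hs, if_true] at h2
        exact absurd h2 (Finset.notMem_empty _)
      · have := s.2
        simp only [Rf, hs, if_false, Finset.mem_Ioo, a] at h2
        omega

/-- Value set of `⟨1, t^{n-i}, …, t^{n-1}⟩`. -/
def TC3 (n i : ℕ) : Set ℕ := {m | m = 0 ∨ n - i ≤ m}

lemma mem_TC3 {n i m : ℕ} : m ∈ TC3 n i ↔ (m = 0 ∨ n - i ≤ m) := Iff.rfl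

/-- Exponents of the generators `1, t^{n-i}, …, t^{n-1}`. -/
def aC3 (n i : ℕ) : Fin (i + 1) → ℕ := fun s => if s = 0 then 0 else n - i - 1 + (s : ℕ)

lemma image_C3 (i : ℕ) (hi : i + 2 ≤ n) :
    ((fun a : ℕ => (X : PowerSeries k) ^ a) '' ({0} ∪ Set.Icc (n - i) (n - 1))) =
      Set.range fun s : Fin (i + 1) => (X : PowerSeries k) ^ (aC3 n i s) := by
  ext x
  constructor
  · rintro ⟨e, he, rfl⟩
    rcases he with he | he
    · rw [Set.mem_singleton_iff] at he
      exact ⟨0, by simp [aC3, he]⟩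
    · rw [Set.mem_Icc] at he
      refine ⟨⟨e - (n - i - 1), by omega⟩, ?_⟩
      have hne : (⟨e - (n - i - 1), by omega⟩ : Fin (i + 1)) ≠ 0 := by
        intro h
        have := congrArg Fin.val h
        simp only [Fin.val_zero] at this
        omega
      simp only [aC3, hne, if_false]
      congr 1
      omega
  · rintro ⟨s, rfl⟩
    by_cases hs : s = 0
    · exact ⟨0, Or.inl rfl, by simp [aC3, hs]⟩
    · have h1 : (s : ℕ) ≠ 0 := fun h => hs (Fin.ext h)
      have h2 := s.2
      refine ⟨n - i - 1 + (s : ℕ), Or.inr ?_, by simp [aC3, hs]⟩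
      rw [Set.mem_Icc]
      omega

include hmono in
theorem cub_case3 (i : ℕ) (hi : i + 2 ≤ n) :
    Module.length ↥A (CategoryTheory.Abelian.Ext
      (ModuleCat.of ↥A ↥(Submodule.span ↥A
        ((fun a : ℕ => (X : PowerSeries k) ^ a) '' ({0} ∪ Set.Icc (n - i) (n - 1)))))
      (ModuleCat.of ↥A ↥(Submodule.span ↥A
        ((fun a : ℕ => (X : PowerSeries k) ^ a) '' ({0} ∪ Set.Icc (n - i) (n - 1)))))
      1) = ((i * (n - 1) : ℕ) : ℕ∞) := by
  classical
  have H := monoCub n A hmono
  have ha : ∀ s : Fin (i + 1), s ≠ 0 → aC3 n i s = n - i - 1 + (s : ℕ) := by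
    intro s hs
    simp [aC3, hs]
  have ha0 : aC3 n i 0 = 0 := by simp [aC3]
  have hN : ∀ f : PowerSeries k, f ∈ Submodule.span ↥A
      ((fun a : ℕ => (X : PowerSeries k) ^ a) '' ({0} ∪ Set.Icc (n - i) (n - 1))) ↔
      Supp (TC3 n i) f := by
    intro f
    rw [image_C3 n i hi, mem_span_iff_supp H (aC3 n i) (TC3 n i)]
    · intro s p hp
      by_cases hs : s = 0
      · rw [hs, ha0]
        simp only [mem_ΓC, mem_TC3] at *
        omega
      · rw [ha s hs]
        have h1 : (s : ℕ) ≠ 0 := fun h => hs (Fin.ext h)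
        simp only [mem_ΓC, mem_TC3] at *
        omega
    · intro m hm
      rw [mem_TC3] at hm
      by_cases h : m = 0 ∨ n ≤ m
      · exact ⟨0, by rw [ha0]; exact Nat.zero_le _, by rw [ha0, mem_ΓC]; omega⟩
      · have hne : (⟨m - (n - i - 1), by omega⟩ : Fin (i + 1)) ≠ 0 := by
          intro h'
          have := congrArg Fin.val h'
          simp only [Fin.val_zero] at this
          omega
        refine ⟨⟨m - (n - i - 1), by omega⟩, ?_, ?_⟩
        · rw [ha _ hne]
          simp only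
          omega
        · rw [ha _ hne, mem_ΓC]
          simp only
          omega
  let Rf : Fin (i + 1) → Finset ℕ := fun s =>
    if s = 0 then ∅ else Finset.Ico (n - i) n ∪ Finset.Ioo n (2 * n - i)
  have hstar := hstar_cubical n (aC3 n i) 0
    (by
      intro s hs
      have h1 : (s : ℕ) ≠ 0 := fun h => hs (Fin.ext h)
      have := s.2
      rw [ha s hs]
      omega)
    (by
      intro s s' hs hs' h
      rw [ha s hs, ha s' hs'] at h
      apply Fin.ext
      omega)
  have hM : Submodule.span ↥A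
      ((fun a : ℕ => (X : PowerSeries k) ^ a) '' ({0} ∪ Set.Icc (n - i) (n - 1))) =
      Submodule.span ↥A (Set.range fun s => (X : PowerSeries k) ^ (aC3 n i s)) := by
    rw [image_C3 n i hi]
  have := length_ext_std H n (hcC n) (aC3 n i) 0 ha0 hstar (TC3 n i) Rf (by simp [Rf]) ?_
    ∅ ?_ _ _ hM hN
  · have hsum : ∑ s, (Rf s).card = i * (n - 1) := by
      rw [Fin.sum_univ_succ]
      have hcard : (Finset.Ico (n - i) n ∪ Finset.Ioo n (2 * n - i)).card = n - 1 := by
        rw [Finset.card_union_of_disjoint, Nat.card_Ico, Nat.card_Ioo]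
        · omega
        · rw [Finset.disjoint_left]
          intro x hx hx'
          rw [Finset.mem_Ico] at hx
          rw [Finset.mem_Ioo] at hx'
          omega
      simp only [Rf, if_true, Finset.card_empty, zero_add, Fin.succ_ne_zero, if_false,
        hcard, Finset.sum_const, Finset.card_univ, Fintype.card_fin, smul_eq_mul]
    rw [hsum] at this
    simpa using this
  · -- hRf
    intro s hs m
    have h1 : (s : ℕ) ≠ 0 := fun h => hs (Fin.ext h)
    have h2 := s.2
    simp only [Rf, hs, if_false, Finset.mem_union, Finset.mem_Ico, Finset.mem_Ioo]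
    constructor
    · intro hm
      refine ⟨fun p hp hpa => ?_, ?_⟩
      · rw [ha s hs] at hpa
        simp only [mem_ΓC, mem_sh, mem_TC3] at *
        omega
      · simp only [mem_sh, mem_TC3]
        omega
    · rintro ⟨h3, h4⟩
      have t1 := h3 n (by rw [mem_ΓC]; omega) (by rw [mem_ΓC]; omega)
      have t2 := h3 (n + 1) (by rw [mem_ΓC]; omega) (by rw [mem_ΓC]; omega)
      simp only [mem_sh, mem_TC3] at t1 t2 h4
      omega
  · -- hQ'
    intro q
    simp only [Finset.notMem_empty, false_iff, not_and, not_exists]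
    intro _ s
    by_cases hs : s = 0
    · simp [Rf, hs]
    · have h1 : (s : ℕ) ≠ 0 := fun h => hs (Fin.ext h)
      simp only [Rf, hs, if_false, Finset.mem_union, Finset.mem_Ico, Finset.mem_Ioo, ha s hs]
      omega

end Cub

end Groth.Agent.Lib.Helper15.TFExt
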