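import Mathlib
import Groth.Agent.Lib.Helper15.TFCub

/-!
# `χ₁` of the normalisation over the cubical ring (helper15)
-/

set_option autoImplicit false
set_option linter.style.haveILetI false
set_option linter.unusedSectionVars false

open PowerSeries

namespace Groth.Agent.Lib.Helper15.TFExt

universe u

section EndPart

variable {k : Type u} [Field k] {R : Type u} [CommRing R] [Algebra k R]
  [Algebra R (PowerSeries k)] [IsScalarTower k R (PowerSeries k)]
variable (n : ℕ) (H : MonoRing k R (ΓC n))

local notation "em" => algebraMap R (PowerSeries k)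

include H in
/-- `R`-linear endomorphisms of `k⟦X⟧` are multiplications. -/
lemma end_eq_mul (φ : PowerSeries k →ₗ[R] PowerSeries k) (b : PowerSeries k) :
    φ b = b * φ 1 := by
  have h0 : Supp (ΓC n) ((X : PowerSeries k) ^ n) := supp_X_pow (Or.inr (le_refl n))
  have hb : Supp (ΓC n) ((X : PowerSeries k) ^ n * b) := by
    intro m hm
    rw [coeff_X_pow_mul'] at hm
    by_cases h : n ≤ m
    · exact Or.inr h
    · rw [if_neg h] at hm
      exact absurd rfl hm
  have e1 : φ (H.lift _ hb • (1 : PowerSeries k)) = H.lift _ hb • φ 1 := map_smul _ _ _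
  have e2 : φ (H.lift _ h0 • b) = H.lift _ h0 • φ b := map_smul _ _ _
  rw [Algebra.smul_def, Algebra.smul_def, H.em_lift, mul_one] at e1
  rw [Algebra.smul_def, Algebra.smul_def, H.em_lift] at e2
  rw [e1] at e2
  have : (X : PowerSeries k) ^ n * (b * φ 1) = X ^ n * φ b := by
    rw [← e2]; ring
  exact (X_pow_mul_cancel this).symm

include H in
/-- `End_R(k⟦X⟧)/R` has length `n - 1`. -/
theorem length_end_mod (hn : 1 ≤ n) :
    Module.length R ((PowerSeries k →ₗ[R] PowerSeries k) ⧸
      LinearMap.range (Algebra.lsmul R R (PowerSeries k) :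
        R →ₐ[R] Module.End R (PowerSeries k)).toLinearMap) = ((n - 1 : ℕ) : ℕ∞) := by
  classical
  let ev : (PowerSeries k →ₗ[R] PowerSeries k) →ₗ[R] PowerSeries k := LinearMap.applyₗ 1
  have hinj : Function.Injective ev := by
    rw [← LinearMap.ker_eq_bot, LinearMap.ker_eq_bot']
    intro φ hφ
    ext b
    have h1 : φ 1 = 0 := hφ
    rw [end_eq_mul n H φ b, h1, mul_zero, LinearMap.zero_apply]
  have hsurj : Function.Surjective ev := by
    intro y
    exact ⟨LinearMap.mulRight R y, by simp [ev]⟩
  let evE : (PowerSeries k →ₗ[R] PowerSeries k) ≃ₗ[R] PowerSeries k :=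
    LinearEquiv.ofBijective ev ⟨hinj, hsurj⟩
  let V : Submodule R (PowerSeries k) := LinearMap.range (Algebra.linearMap R (PowerSeries k))
  have hmap : (LinearMap.range (Algebra.lsmul R R (PowerSeries k) :
        R →ₐ[R] Module.End R (PowerSeries k)).toLinearMap).map (evE : _ →ₗ[R] _) = V := by
    ext y
    rw [Submodule.mem_map]
    constructor
    · rintro ⟨_, ⟨r, rfl⟩, rfl⟩
      refine ⟨r, ?_⟩
      change em r = (Algebra.lsmul R R (PowerSeries k) r) 1
      rw [Algebra.lsmul_coe]
      change em r = r • (1 : PowerSeries k)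
      rw [Algebra.smul_def, mul_one]
    · rintro ⟨r, rfl⟩
      refine ⟨_, ⟨r, rfl⟩, ?_⟩
      change (Algebra.lsmul R R (PowerSeries k) r) 1 = em r
      rw [Algebra.lsmul_coe]
      change r • (1 : PowerSeries k) = em r
      rw [Algebra.smul_def, mul_one]
  have e := Submodule.Quotient.equiv _ V evE hmap
  rw [e.length_eq]
  -- now count `k⟦X⟧ / R`
  let Θ : PowerSeries k →ₗ[k] (Fin (n - 1) → k) :=
    LinearMap.pi fun s => (coeff ((s : ℕ) + 1) : PowerSeries k →ₗ[k] k)
  have key := length_quotient (k := k) (R := R) (E := PowerSeries k) H.residue V Θ ?_ ?_ ?_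
  · rw [key, Fintype.card_fin]
  · intro x
    refine ⟨PowerSeries.mk fun m => if h : 1 ≤ m ∧ m - 1 < n - 1 then x ⟨m - 1, h.2⟩ else 0, ?_⟩
    funext s
    have := s.2
    simp only [Θ, LinearMap.pi_apply, coeff_mk]
    rw [dif_pos ⟨by omega, by simp only [Nat.add_sub_cancel]; exact s.2⟩]
    congr 1
  · intro w hw
    have hsupp : Supp (ΓC n) w := by
      intro m hm
      by_contra hΓ
      rw [mem_ΓC] at hΓ
      push Not at hΓ
      have h1 : m - 1 < n - 1 := by omega
      have := congrFun hw ⟨m - 1, h1⟩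
      simp only [Θ, LinearMap.pi_apply, Pi.zero_apply] at this
      rw [Nat.sub_add_cancel (by omega)] at this
      exact hm this
    exact ⟨H.lift w hsupp, H.em_lift w hsupp⟩
  · rintro _ ⟨r, rfl⟩
    funext s
    have := s.2
    simp only [Θ, LinearMap.pi_apply, Pi.zero_apply, Algebra.linearMap_apply]
    apply (H.supp r).coeff_eq_zero
    rw [mem_ΓC]
    omega

end EndPart

section Cub2

variable {k : Type u} [Field k] (n : ℕ) (A : Subalgebra k (PowerSeries k))
  (hmono : ∀ f : PowerSeries k, f ∈ A ↔ ∀ m : ℕ, coeff m f ≠ 0 → (m = 0 ∨ n ≤ m))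

variable [CategoryTheory.HasExt.{u} (ModuleCat.{u} ↥A)]

include hmono in
theorem cub_ext_normalization (hn : 2 ≤ n) :
    Module.length ↥A (CategoryTheory.Abelian.Ext
      (ModuleCat.of ↥A (PowerSeries k)) (ModuleCat.of ↥A (PowerSeries k)) 1) =
      (((n - 1) * n : ℕ) : ℕ∞) := by
  classical
  obtain ⟨n', rfl⟩ : ∃ n', n = n' + 1 := ⟨n - 1, by omega⟩
  have H := monoCub (n' + 1) A hmono
  let a : Fin (n' + 1) → ℕ := fun s => (s : ℕ)
  have hspan : ∀ f : PowerSeries k, f ∈ Submodule.span ↥A
      (Set.range fun s => (X : PowerSeries k) ^ (a s)) ↔ Supp Set.univ f := by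
    intro f
    rw [mem_span_iff_supp H a Set.univ (fun _ _ _ => Set.mem_univ _)]
    intro m _
    by_cases h : m ≤ n'
    · exact ⟨⟨m, Nat.lt_succ_of_le h⟩, le_refl _, by simp [a, mem_ΓC]⟩
    · exact ⟨0, Nat.zero_le _, by simp only [a, Fin.val_zero, Nat.sub_zero, mem_ΓC]; omega⟩
  have hπ : Function.Surjective (pres₀ (k := k) (R := ↥A) a) := by
    intro f
    have : f ∈ Submodule.span ↥A (Set.range fun s => (X : PowerSeries k) ^ (a s)) :=
      (hspan f).2 (fun m _ => Set.mem_univ m)
    rw [← Fintype.range_linearCombination] at this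
    exact this
  let Rf : Fin (n' + 1) → Finset ℕ := fun s => if s = 0 then ∅ else Finset.range (n' + 1)
  have hstar := hstar_cubical (n' + 1) a 0
    (by
      intro s hs
      have h1 : (s : ℕ) ≠ 0 := fun h => hs (Fin.ext h)
      have := s.2
      simp only [a]
      omega)
    (by
      intro s s' _ _ h
      exact Fin.ext h)
  have := length_ext_std' H (n' + 1) (hcC (n' + 1)) a 0 rfl hstar Set.univ Rf (by simp [Rf]) ?_
    ∅ ?_ (pres₀ (k := k) (R := ↥A) a) rfl hπ (LinearMap.id : PowerSeries k →ₗ[↥A] PowerSeries k)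
    (fun _ _ h => h) (fun f => ⟨fun _ m _ => Set.mem_univ m, fun _ => ⟨f, rfl⟩⟩)
  · have hsum : ∑ s, (Rf s).card = (n' + 1 - 1) * (n' + 1) := by
      rw [Fin.sum_univ_succ]
      simp only [Rf, if_true, Finset.card_empty, zero_add, Fin.succ_ne_zero, if_false,
        Finset.card_range, Finset.sum_const, Finset.card_univ, Fintype.card_fin, smul_eq_mul,
        Nat.add_sub_cancel]
    rw [hsum] at this
    simpa using this
  · -- hRf
    intro s hs m
    have h1 : (s : ℕ) ≠ 0 := fun h => hs (Fin.ext h)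
    have h2 := s.2
    simp only [Rf, hs, if_false, Finset.mem_range]
    constructor
    · intro hm
      refine ⟨fun p hp hpa => ?_, ?_⟩
      · simp only [mem_ΓC, mem_sh, Set.mem_univ, and_true, a] at *
        omega
      · simp only [mem_sh, Set.mem_univ, and_true]
        omega
    · rintro ⟨_, h4⟩
      simp only [mem_sh, Set.mem_univ, and_true] at h4
      omega
  · -- hQ'
    intro q
    simp only [Finset.notMem_empty, false_iff, not_and, not_exists]
    intro _ s
    by_cases hs : s = 0
    · simp [Rf, hs]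
    · simp only [Rf, hs, if_false, Finset.mem_range]
      omega

include hmono in
theorem cub_case2 (hn : 2 ≤ n) :
    Module.length ↥A (CategoryTheory.Abelian.Ext
      (ModuleCat.of ↥A (PowerSeries k)) (ModuleCat.of ↥A (PowerSeries k)) 1) =
      (((n - 1) ^ 2 : ℕ) : ℕ∞) + Module.length ↥A ((PowerSeries k →ₗ[↥A] PowerSeries k) ⧸
        LinearMap.range (Algebra.lsmul ↥A ↥A (PowerSeries k) :
          ↥A →ₐ[↥A] Module.End ↥A (PowerSeries k)).toLinearMap) := by
  rw [cub_ext_normalization n A hmono hn, length_end_mod n (monoCub n A hmono) (by omega),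
    ← Nat.cast_add]
  congr 1
  obtain ⟨n', rfl⟩ : ∃ n', n = n' + 1 := ⟨n - 1, by omega⟩
  simp only [Nat.add_sub_cancel]
  ring

end Cub2

end Groth.Agent.Lib.Helper15.TFExt
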