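import Mathlib
import Groth.Agent.Lib.Helper15.TFExt8

/-!
# Ext¹ lengths for the E₆ singularity `k[[t³,t⁴]]` (helper15)
-/

set_option autoImplicit false
set_option linter.style.haveILetI false
set_option linter.unusedSectionVars false

open PowerSeries

namespace Groth.Agent.Lib.Helper15.TFExt

universe u

lemma mem_closure_34 (m : ℕ) :
    m ∈ AddSubmonoid.closure ({3, 4} : Set ℕ) ↔ (m = 0 ∨ m = 3 ∨ m = 4 ∨ 6 ≤ m) := by
  rw [AddSubmonoid.mem_closure_pair]
  constructor
  · rintro ⟨x, y, rfl⟩
    simp only [smul_eq_mul]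
    rcases x with _ | _ | x
    · rcases y with _ | _ | y <;> omega
    · rcases y with _ | y <;> omega
    · omega
  · intro h
    rcases h with h | h | h | h
    · exact ⟨0, 0, by simp [h]⟩
    · exact ⟨1, 0, by simp [h]⟩
    · exact ⟨0, 1, by simp [h]⟩
    · -- m ≥ 6
      have h3 : m % 3 = 0 ∨ m % 3 = 1 ∨ m % 3 = 2 := by omega
      rcases h3 with h3 | h3 | h3
      · exact ⟨m / 3, 0, by simp only [smul_eq_mul]; omega⟩
      · exact ⟨m / 3 - 1, 1, by simp only [smul_eq_mul]; omega⟩
      · exact ⟨m / 3 - 2, 2, by simp only [smul_eq_mul]; omega⟩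

/-- The E₆ semigroup. -/
def ΓE : Set ℕ := {m | m = 0 ∨ m = 3 ∨ m = 4 ∨ 6 ≤ m}

lemma mem_ΓE {m : ℕ} : m ∈ ΓE ↔ (m = 0 ∨ m = 3 ∨ m = 4 ∨ 6 ≤ m) := Iff.rfl

section E6

variable {k : Type u} [Field k] (A : Subalgebra k (PowerSeries k))
  (hmono : ∀ f : PowerSeries k, f ∈ A ↔
    ∀ n : ℕ, coeff n f ≠ 0 → n ∈ AddSubmonoid.closure ({3, 4} : Set ℕ))

include hmono in
lemma monoE6 : MonoRing k ↥A ΓE := by
  apply monoRing_of_subalgebra A ΓE
  intro f
  rw [hmono]
  constructor
  · intro h m hm
    exact (mem_closure_34 m).1 (h m hm)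
  · intro h m hm
    exact (mem_closure_34 m).2 (h m hm)

lemma hcE6 : ∀ m, 6 ≤ m → m ∈ ΓE := fun m hm => Or.inr (Or.inr (Or.inr hm))

/-- Value sets of the E₆ modules. -/
def TE1 : Set ℕ := {m | m = 0 ∨ 3 ≤ m}
def TE2 : Set ℕ := {m | m ≤ 1 ∨ 3 ≤ m}
def TE3 : Set ℕ := {m | m = 0 ∨ 2 ≤ m}

variable [CategoryTheory.HasExt.{u} (ModuleCat.{u} ↥A)]

include hmono in
theorem e6_case1 :
    Module.length ↥A (CategoryTheory.Abelian.Ext
      (ModuleCat.of ↥A ↥(Submodule.span ↥A ({1, (X : PowerSeries k) ^ 5} : Set (PowerSeries k))))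
      (ModuleCat.of ↥A ↥(Submodule.span ↥A ({1, (X : PowerSeries k) ^ 5} : Set (PowerSeries k))))
      1) = 2 := by
  have H := monoE6 A hmono
  have hN := mem_span_two_iff H 5 TE1
    (by intro p hp; simp only [mem_ΓE, TE1, Set.mem_ofPred_eq] at *; omega)
    (by intro m hm; simp only [mem_ΓE, TE1, Set.mem_ofPred_eq] at *; omega)
  have := length_ext_two H 6 hcE6 5 TE1 {7, 8} ∅ ?_ ?_ _ _ rfl hN
  · simpa using this
  · intro m
    constructor
    · intro hm
      simp only [Finset.mem_insert, Finset.mem_singleton] at hm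
      refine ⟨fun p hp hpa => ?_, ?_⟩
      · simp only [mem_ΓE, mem_sh, TE1, Set.mem_ofPred_eq] at *; omega
      · simp only [mem_sh, TE1, Set.mem_ofPred_eq]; omega
    · rintro ⟨h1, h2⟩
      have t1 := h1 3 (by simp [mem_ΓE]) (by simp [mem_ΓE])
      have t2 := h1 4 (by simp [mem_ΓE]) (by simp [mem_ΓE])
      simp only [mem_sh, TE1, Set.mem_ofPred_eq, Finset.mem_insert, Finset.mem_singleton] at *
      omega
  · intro q
    simp only [Finset.notMem_empty, false_iff, not_and, Finset.mem_insert, Finset.mem_singleton]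
    intro _
    omega

include hmono in
theorem e6_case2 :
    Module.length ↥A (CategoryTheory.Abelian.Ext
      (ModuleCat.of ↥A ↥(Submodule.span ↥A ({1, (X : PowerSeries k)} : Set (PowerSeries k))))
      (ModuleCat.of ↥A ↥(Submodule.span ↥A ({1, (X : PowerSeries k)} : Set (PowerSeries k))))
      1) = 2 := by
  have H := monoE6 A hmono
  have hN := mem_span_two_iff H 1 TE2
    (by intro p hp; simp only [mem_ΓE, TE2, Set.mem_ofPred_eq] at *; omega)
    (by intro m hm; simp only [mem_ΓE, TE2, Set.mem_ofPred_eq] at *; omega)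
  rw [pow_one] at hN
  have := length_ext_two H 6 hcE6 1 TE2 {3, 4, 8} {1} ?_ ?_ _ _ (by rw [pow_one]) hN
  · have h2 : Module.length ↥A (CategoryTheory.Abelian.Ext
      (ModuleCat.of ↥A ↥(Submodule.span ↥A ({1, (X : PowerSeries k)} : Set (PowerSeries k))))
      (ModuleCat.of ↥A ↥(Submodule.span ↥A ({1, (X : PowerSeries k)} : Set (PowerSeries k))))
      1) + 1 = 2 + 1 := by
      have h3 : (2 : ℕ∞) + 1 = 3 := by norm_num
      rw [h3]
      simpa using this
    exact (ENat.add_left_injective_of_ne_top (by simp)) h2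
  · intro m
    constructor
    · intro hm
      simp only [Finset.mem_insert, Finset.mem_singleton] at hm
      refine ⟨fun p hp hpa => ?_, ?_⟩
      · simp only [mem_ΓE, mem_sh, TE2, Set.mem_ofPred_eq] at *; omega
      · simp only [mem_sh, TE2, Set.mem_ofPred_eq]; omega
    · rintro ⟨h1, h2⟩
      have t1 := h1 3 (by simp [mem_ΓE]) (by simp [mem_ΓE])
      simp only [mem_sh, TE2, Set.mem_ofPred_eq, Finset.mem_insert, Finset.mem_singleton] at *
      omega
  · intro q
    simp only [Finset.mem_insert, Finset.mem_singleton, TE2, Set.mem_ofPred_eq]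
    omega

include hmono in
theorem e6_case3 :
    Module.length ↥A (CategoryTheory.Abelian.Ext
      (ModuleCat.of ↥A ↥(Submodule.span ↥A ({1, (X : PowerSeries k) ^ 2} : Set (PowerSeries k))))
      (ModuleCat.of ↥A ↥(Submodule.span ↥A ({1, (X : PowerSeries k) ^ 2} : Set (PowerSeries k))))
      1) = 4 := by
  have H := monoE6 A hmono
  have hN := mem_span_two_iff H 2 TE3
    (by intro p hp; simp only [mem_ΓE, TE3, Set.mem_ofPred_eq] at *; omega)
    (by intro m hm; simp only [mem_ΓE, TE3, Set.mem_ofPred_eq] at *; omega)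
  have := length_ext_two H 6 hcE6 2 TE3 {2, 4, 5, 7} ∅ ?_ ?_ _ _ rfl hN
  · simpa using this
  · intro m
    constructor
    · intro hm
      simp only [Finset.mem_insert, Finset.mem_singleton] at hm
      refine ⟨fun p hp hpa => ?_, ?_⟩
      · simp only [mem_ΓE, mem_sh, TE3, Set.mem_ofPred_eq] at *; omega
      · simp only [mem_sh, TE3, Set.mem_ofPred_eq]; omega
    · rintro ⟨h1, h2⟩
      have t1 := h1 4 (by simp [mem_ΓE]) (by simp [mem_ΓE])
      simp only [mem_sh, TE3, Set.mem_ofPred_eq, Finset.mem_insert, Finset.mem_singleton] at *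
      omega
  · intro q
    simp only [Finset.notMem_empty, false_iff, not_and, Finset.mem_insert, Finset.mem_singleton]
    intro _
    omega

/-- Exponents of the three generators `1, X, X²`. -/
def a3 : Fin 3 → ℕ := ![0, 1, 2]

@[simp] lemma a3_zero : a3 0 = 0 := rfl
@[simp] lemma a3_one : a3 1 = 1 := rfl
@[simp] lemma a3_two : a3 2 = 2 := rfl

lemma range_a3 : (Set.range fun i => (X : PowerSeries k) ^ (a3 i)) = {1, X, X ^ 2} := by
  ext x
  simp only [Set.mem_range, Fin.exists_fin_succ, a3_zero, pow_zero, Set.mem_insert_iff,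
    Set.mem_singleton_iff]
  constructor
  · rintro (h | h | h | ⟨i, _⟩)
    · exact Or.inl h.symm
    · right; left; rw [← h]; simp [a3]
    · right; right; rw [← h]; simp [a3]
    · exact i.elim0
  · rintro (h | h | h)
    · exact Or.inl h.symm
    · right; left; rw [h]; simp [a3]
    · right; right; left; rw [h]; simp [a3]

include hmono in
theorem e6_case4 :
    Module.length ↥A (CategoryTheory.Abelian.Ext
      (ModuleCat.of ↥A ↥(Submodule.span ↥A
        ({1, (X : PowerSeries k), (X : PowerSeries k) ^ 2} : Set (PowerSeries k))))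
      (ModuleCat.of ↥A ↥(Submodule.span ↥A
        ({1, (X : PowerSeries k), (X : PowerSeries k) ^ 2} : Set (PowerSeries k))))
      1) = 6 := by
  have H := monoE6 A hmono
  have hN : ∀ f : PowerSeries k, f ∈ Submodule.span ↥A
      ({1, (X : PowerSeries k), (X : PowerSeries k) ^ 2} : Set (PowerSeries k)) ↔
      Supp Set.univ f := by
    intro f
    rw [← range_a3, mem_span_iff_supp H a3 Set.univ (fun _ _ _ => Set.mem_univ _)]
    intro m _
    by_cases h1 : m = 1
    · exact ⟨1, by simp [h1, mem_ΓE]⟩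
    by_cases h2 : m = 2
    · exact ⟨2, by simp [h2, mem_ΓE]⟩
    by_cases h5 : m = 5
    · exact ⟨1, by simp [h5, mem_ΓE]⟩
    · refine ⟨0, by simp, ?_⟩
      simp only [a3_zero, Nat.sub_zero, mem_ΓE]
      omega
  let D : Fin 3 → Set ℕ := fun _ => {q | 3 ≤ q}
  let Rf : Fin 3 → Finset ℕ := ![∅, {3, 4, 5}, {3, 4, 5}]
  have := length_ext_submodules H 6 hcE6 a3 0 rfl Set.univ D ?_ ?_ Rf rfl ?_ ∅ ?_ _ _
    (by rw [range_a3]) hN
  · simpa [Fin.sum_univ_three, Rf] using this
  · -- hD1
    intro w hw0 hw i hi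
    have S1 : Supp {q | 3 ≤ q} (w 1) := by
      intro q hq
      have := WPure.binomial_coeff 6 a3 0 rfl Set.univ hw hw0 1 3 (by simp [mem_ΓE])
        (by simp [mem_ΓE]) q hq
      simp only [mem_sh, Set.mem_univ, and_true] at this
      simp only [Set.mem_ofPred_eq]
      omega
    fin_cases i
    · exact absurd rfl hi
    · exact S1
    · intro q hq
      change coeff q (w 2) ≠ 0 at hq
      have t1 := WPure.binomial_coeff 6 a3 0 rfl Set.univ hw hw0 2 4 (by simp [mem_ΓE])
        (by simp [mem_ΓE]) q hq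
      simp only [mem_sh, Set.mem_univ, and_true] at t1
      simp only [D, Set.mem_ofPred_eq]
      by_contra hq3
      have hq2 : q = 2 := by omega
      subst hq2
      -- the coupling syzygy X^4 e₁ - X^3 e₂
      let gg : Fin 3 → PowerSeries k := fun i => if i = 1 then X ^ 4 else if i = 2 then -X ^ 3 else 0
      have gg0 : gg 0 = 0 := by simp [gg]
      have gg1 : gg 1 = X ^ 4 := by simp [gg]
      have gg2 : gg 2 = -X ^ 3 := by simp [gg]
      have t2 := hw gg ?_ ?_
      · have t3 := t2 5 ?_
        · simp only [mem_sh, Set.mem_univ, and_true] at t3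
          omega
        · rw [Fin.sum_univ_three, gg0, gg1, gg2]
          simp only [zero_mul, zero_add, neg_mul, map_add, map_neg]
          have e1 : coeff 5 (X ^ 4 * w 1) = 0 := by
            have : coeff 5 (X ^ 4 * w 1) = coeff 1 (w 1) := coeff_X_pow_mul (w 1) 4 1
            rw [this]
            exact S1.coeff_eq_zero (by simp)
          have e2 : coeff 5 (X ^ 3 * w 2) = coeff 2 (w 2) := coeff_X_pow_mul (w 2) 3 2
          rw [e1, e2, zero_add]
          exact neg_ne_zero.2 hq
      · intro i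
        fin_cases i
        · exact gg0 ▸ supp_zero _
        · exact gg1 ▸ supp_X_pow (by simp [mem_ΓE])
        · exact gg2 ▸ (supp_X_pow (by simp [mem_ΓE])).neg
      · rw [Fin.sum_univ_three, gg0, gg1, gg2]
        simp only [a3_zero, a3_one, a3_two]
        ring
  · -- hD2
    intro w hw0 hw g hg hg0
    rw [Fin.sum_univ_three] at hg0 ⊢
    simp only [a3_zero, a3_one, a3_two, pow_zero, mul_one, pow_one] at hg0
    have c1 : coeff 0 (g 1) = 0 := by
      have := congrArg (coeff 1) hg0
      rw [map_add, map_add, map_zero] at this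
      have e0 : coeff 1 (g 0) = 0 := (hg 0).coeff_eq_zero (by simp [mem_ΓE])
      have e1 : coeff 1 (g 1 * X) = coeff 0 (g 1) := coeff_succ_mul_X 0 (g 1)
      have e2 : coeff 1 (g 2 * X ^ 2) = 0 := by
        rw [coeff_mul_X_pow', if_neg (by norm_num)]
      rw [e0, e1, e2, zero_add, add_zero] at this
      exact this
    have c2 : coeff 0 (g 2) = 0 := by
      have := congrArg (coeff 2) hg0
      rw [map_add, map_add, map_zero] at this
      have e0 : coeff 2 (g 0) = 0 := (hg 0).coeff_eq_zero (by simp [mem_ΓE])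
      have e1 : coeff 2 (g 1 * X) = 0 := by
        have : coeff 2 (g 1 * X) = coeff 1 (g 1) := coeff_succ_mul_X 1 (g 1)
        rw [this]
        exact (hg 1).coeff_eq_zero (by simp [mem_ΓE])
      have e2 : coeff 2 (g 2 * X ^ 2) = coeff 0 (g 2) := coeff_mul_X_pow (g 2) 2 0
      rw [e0, e1, e2, zero_add, zero_add] at this
      exact this
    have G : ∀ i : Fin 3, coeff 0 (g i) = 0 → Supp {p | 3 ≤ p} (g i) := by
      intro i h0 p hp
      have := hg i p hp
      have hp0 : p ≠ 0 := by
        rintro rfl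
        exact hp h0
      simp only [mem_ΓE] at this
      simp only [Set.mem_ofPred_eq]
      omega
    rw [hw0, mul_zero, zero_add]
    refine Supp.add ?_ ?_
    · refine supp_mul (G 1 c1) (hw 1 (by decide)) ?_
      intro p hp q hq
      simp only [D, Set.mem_ofPred_eq, mem_sh, Set.mem_univ, and_true] at *
      omega
    · refine supp_mul (G 2 c2) (hw 2 (by decide)) ?_
      intro p hp q hq
      simp only [D, Set.mem_ofPred_eq, mem_sh, Set.mem_univ, and_true] at *
      omega
  · -- hRf
    intro i hi m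
    fin_cases i
    · exact absurd rfl hi
    · simp only [Rf, D, mem_sh, Set.mem_univ, and_true, Set.mem_ofPred_eq]
      simp
      omega
    · simp only [Rf, D, mem_sh, Set.mem_univ, and_true, Set.mem_ofPred_eq]
      simp
      omega
  · -- hQ'
    intro q
    simp only [Finset.notMem_empty, false_iff, not_and, not_exists, Set.mem_univ, forall_true_left]
    intro i
    fin_cases i
    · simp [Rf]
    · simp only [Rf]
      simp
      omega
    · simp only [Rf]
      simp
      omega

end E6

end Groth.Agent.Lib.Helper15.TFExt
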