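import Mathlib
import Groth.Agent.Lib.Helper15.TPDescent
import Groth.Agent.Lib.Helper15.MoritaRankOne

/-!
# Identities for the alternating element by faithfully flat descent (helper15)
-/

set_option autoImplicit false
universe u v w
open scoped TensorProduct
open PiTensorProduct Matrix

namespace Groth.Agent.Lib.Helper15.TPIdentities

open Groth.Agent.Lib.Helper15.KronPow Groth.Agent.Lib.Helper15.TPLambda
  Groth.Agent.Lib.Helper15.TPSplit Groth.Agent.Lib.Helper15.TPRing
  Groth.Agent.Lib.Helper15.Azumaya Groth.Agent.Lib.Helper15.TPDescent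
  Groth.Agent.Lib.Helper15.FFDescent

section rank

variable (R : Type*) [CommRing R] (E : Type*) [AddCommGroup E] [Module R E] [Module.Finite R E]
  [Module.Projective R E]

/-- the rank of `End_R(E)` is the square of the rank of `E` -/
theorem rankAtStalk_end (p : PrimeSpectrum R) :
    Module.rankAtStalk (R := R) (Module.End R E) p = (Module.rankAtStalk (R := R) E p) ^ 2 := by
  haveI : Module.FinitePresentation R E := Module.finitePresentation_of_projective R E
  unfold Module.rankAtStalk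
  let e := IsLocalizedModule.mapEquiv p.asIdeal.primeCompl
    (LocalizedModule.mkLinearMap p.asIdeal.primeCompl (Module.End R E))
    (LocalizedModule.map p.asIdeal.primeCompl (M := E) (N := E))
    (Localization.AtPrime p.asIdeal) (LinearEquiv.refl R (Module.End R E))
  rw [e.finrank_eq]
  haveI : Module.Free (Localization.AtPrime p.asIdeal)
      (LocalizedModule p.asIdeal.primeCompl E) := Module.free_of_flat_of_isLocalRing
  rw [Module.finrank_linearMap, sq]

end rank

section identities

variable (R : Type u) [CommRing R] (A : Type u) [Ring A] [Algebra R A] [IsAzumaya R A]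
  (R' : Type u) [CommRing R'] [Algebra R R'] [Module.FaithfullyFlat R R']
  (n : ℕ) [NeZero n] (γ : A →ₐ[R] Matrix (Fin n) (Fin n) R') (hγ : Spanning γ)
  (e : ⨂[R] _ : Fin n, A) (he : lam γ ((1 : R') ⊗ₜ[R] e) = altMat R' (Fin n))

include hγ he

/-- regularity: `e x e = e` for some `x` -/
theorem exists_regular : ∃ x : ⨂[R] _ : Fin n, A, e * x * e = e := by
  have hbij := lam_bijective R A R' n γ hγ
  let L : (⨂[R] _ : Fin n, A) →ₗ[R] (⨂[R] _ : Fin n, A) :=
    (LinearMap.mulLeft R e).comp (LinearMap.mulRight R e)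
  have hL : ∀ w : R' ⊗[R] (⨂[R] _ : Fin n, A),
      (L.lTensor R') w = ((1 : R') ⊗ₜ[R] e) * w * ((1 : R') ⊗ₜ[R] e) := by
    intro w
    induction w using TensorProduct.induction_on with
    | zero => simp
    | tmul s x =>
      rw [LinearMap.lTensor_tmul, Algebra.TensorProduct.tmul_mul_tmul,
        Algebra.TensorProduct.tmul_mul_tmul, one_mul, mul_one, mul_assoc]
      rfl
    | add a b ha hb => rw [map_add, ha, hb, mul_add, add_mul]
  have hmem : e ∈ LinearMap.range L := by
    apply mem_range_of_lTensor R R' L e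
    obtain ⟨w, hw⟩ := hbij.2 (Matrix.single (id : Fin n → Fin n) (id : Fin n → Fin n) (1 : R'))
    refine ⟨w, ?_⟩
    rw [hL]
    apply hbij.1
    rw [map_mul, map_mul, he, hw]
    exact altMat_single_altMat
  obtain ⟨x, hx⟩ := hmem
  have hLx : L x = e * (x * e) := rfl
  exact ⟨x, by rw [mul_assoc, ← hLx, hx]⟩

/-- rank one: `e b e ∈ R e` -/
theorem exists_scalar (b : ⨂[R] _ : Fin n, A) : ∃ r : R, e * b * e = r • e := by
  have hbij := lam_bijective R A R' n γ hγ
  let ν : R →ₗ[R] (⨂[R] _ : Fin n, A) := LinearMap.toSpanSingleton R _ e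
  have hmem : e * b * e ∈ LinearMap.range ν := by
    apply mem_range_of_lTensor R R' ν
    set c : R' := omega R' ⬝ᵥ (lam γ ((1 : R') ⊗ₜ[R] b) *ᵥ omega R') with hc
    refine ⟨c ⊗ₜ[R] (1 : R), ?_⟩
    rw [LinearMap.lTensor_tmul, LinearMap.toSpanSingleton_apply, one_smul]
    apply hbij.1
    have h1 : ((1 : R') ⊗ₜ[R] (e * b * e) : R' ⊗[R] (⨂[R] _ : Fin n, A)) =
        ((1 : R') ⊗ₜ[R] e) * ((1 : R') ⊗ₜ[R] b) * ((1 : R') ⊗ₜ[R] e) := by
      simp [Algebra.TensorProduct.tmul_mul_tmul]
    have h2 : (c ⊗ₜ[R] e : R' ⊗[R] (⨂[R] _ : Fin n, A)) = c • ((1 : R') ⊗ₜ[R] e) := by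
      rw [TensorProduct.smul_tmul', smul_eq_mul, mul_one]
    rw [h1, h2, map_mul, map_mul, map_smul, he, altMat_mul_mul_altMat]
  obtain ⟨r, hr⟩ := hmem
  exact ⟨r, by rw [← hr]; rfl⟩

/-- fullness: `1 ∈ B e B` -/
theorem exists_full : ∃ (J : Type u) (_ : Fintype J) (y z : J → ⨂[R] _ : Fin n, A),
    ∑ j, y j * e * z j = 1 := by
  classical
  have hbij := lam_bijective R A R' n γ hγ
  let μ : (⨂[R] _ : Fin n, A) ⊗[R] (⨂[R] _ : Fin n, A) →ₗ[R] (⨂[R] _ : Fin n, A) :=
    TensorProduct.lift ((LinearMap.mul R (⨂[R] _ : Fin n, A)).compl₂ (LinearMap.mulLeft R e))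
  have hμ : ∀ y z, μ (y ⊗ₜ[R] z) = y * (e * z) := fun y z => rfl
  have hrange : ∀ u v : R' ⊗[R] (⨂[R] _ : Fin n, A),
      u * ((1 : R') ⊗ₜ[R] e) * v ∈ LinearMap.range (μ.lTensor R') := by
    intro u v
    induction u using TensorProduct.induction_on with
    | zero => simp
    | tmul s y =>
      induction v using TensorProduct.induction_on with
      | zero => simp
      | tmul t z =>
        refine ⟨(s * t) ⊗ₜ[R] (y ⊗ₜ[R] z), ?_⟩
        rw [LinearMap.lTensor_tmul, hμ, Algebra.TensorProduct.tmul_mul_tmul,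
          Algebra.TensorProduct.tmul_mul_tmul, mul_one, mul_assoc]
      | add a b ha hb =>
        rw [mul_add]
        exact Submodule.add_mem _ ha hb
    | add a b ha hb =>
      rw [add_mul, add_mul]
      exact Submodule.add_mem _ ha hb
  have hmem : (1 : ⨂[R] _ : Fin n, A) ∈ LinearMap.range μ := by
    apply mem_range_of_lTensor R R' μ
    choose u hu using fun p : Fin n → Fin n =>
      hbij.2 (Matrix.single p (id : Fin n → Fin n) (1 : R'))
    choose v hv using fun p : Fin n → Fin n =>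
      hbij.2 (Matrix.single (id : Fin n → Fin n) p (1 : R'))
    have h1 : ((1 : R') ⊗ₜ[R] (1 : ⨂[R] _ : Fin n, A) : R' ⊗[R] (⨂[R] _ : Fin n, A)) =
        ∑ p : Fin n → Fin n, u p * ((1 : R') ⊗ₜ[R] e) * v p := by
      apply hbij.1
      rw [map_sum]
      simp_rw [map_mul, hu, hv, he]
      rw [sum_single_altMat_single]
      exact map_one _
    rw [h1]
    exact Submodule.sum_mem _ fun p _ => hrange _ _
  obtain ⟨t, ht⟩ := hmem
  obtain ⟨S, hS⟩ := TensorProduct.exists_finset t
  refine ⟨{i // i ∈ S}, inferInstance, fun i => i.1.1, fun i => i.1.2, ?_⟩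
  rw [← ht, hS, map_sum, ← Finset.sum_coe_sort S]
  refine Finset.sum_congr rfl fun i _ => ?_
  rw [hμ, mul_assoc]

end identities

end Groth.Agent.Lib.Helper15.TPIdentities
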