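import Mathlib
import Groth.Prelude.Def_SymTen

/-!
# Tensor powers and symmetric tensors commute with filtered direct limits (helper15)
-/

set_option autoImplicit false
universe u
open scoped TensorProduct

namespace Groth.Agent.Lib.Helper15.TSColim

section tmap

variable {A : Type u} [CommRing A] {B C D : Type u} [CommRing B] [Algebra A B] [CommRing C]
  [Algebra A C] [CommRing D] [Algebra A D] (d : ℕ)

theorem tmap_id (x : ⨂[A] _ : Fin d, B) : SymTen.tmap A d (AlgHom.id A B) x = x := by
  induction x using PiTensorProduct.induction_on with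
  | smul_tprod r f => rw [map_smul, SymTen.tmap_tprod]; rfl
  | add x y hx hy => rw [map_add, hx, hy]

theorem tmap_comp (f : B →ₐ[A] C) (g : C →ₐ[A] D) (x : ⨂[A] _ : Fin d, B) :
    SymTen.tmap A d g (SymTen.tmap A d f x) = SymTen.tmap A d (g.comp f) x := by
  induction x using PiTensorProduct.induction_on with
  | smul_tprod r h =>
    rw [map_smul, map_smul, map_smul, SymTen.tmap_tprod, SymTen.tmap_tprod, SymTen.tmap_tprod]
    rfl
  | add x y hx hy => rw [map_add, map_add, map_add, hx, hy]

end tmap

section main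

variable {A : Type u} [CommRing A] {B : Type u} [CommRing B] [Algebra A B]
  {ι : Type u} [Preorder ι] [IsDirected ι (fun i j => i ≤ j)] [Nonempty ι]
  (Bi : ι → Type u) [∀ i, CommRing (Bi i)] [∀ i, Algebra A (Bi i)]
  (t : ∀ i j : ι, i ≤ j → (Bi i →ₐ[A] Bi j)) (φ : ∀ i : ι, Bi i →ₐ[A] B)
  (hcomp : ∀ (i j : ι) (h : i ≤ j), (φ j).comp (t i j h) = φ i)
  (hsurj : ∀ b : B, ∃ (i : ι) (x : Bi i), φ i x = b)
  (hzero : ∀ (i : ι) (x : Bi i), φ i x = 0 → ∃ (j : ι) (h : i ≤ j), t i j h x = 0)
  (hid : ∀ (i : ι) (h : i ≤ i), t i i h = AlgHom.id A (Bi i))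
  (htrans : ∀ (i j k : ι) (hij : i ≤ j) (hjk : j ≤ k),
    (t j k hjk).comp (t i j hij) = t i k (hij.trans hjk))
  (d : ℕ)

include hcomp in
theorem φ_t (i j : ι) (h : i ≤ j) (x : Bi i) : φ j (t i j h x) = φ i x := by
  have := DFunLike.congr_fun (hcomp i j h) x
  exact this

include htrans in
theorem t_t (i j k : ι) (hij : i ≤ j) (hjk : j ≤ k) (x : Bi i) :
    t j k hjk (t i j hij x) = t i k (hij.trans hjk) x := by
  have := DFunLike.congr_fun (htrans i j k hij hjk) x
  exact this

include hcomp hsurj in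
/-- finite families lift to a common stage -/
theorem exists_lift {κ : Type} [Finite κ] (b : κ → B) :
    ∃ (i : ι) (x : κ → Bi i), ∀ k, φ i (x k) = b k := by
  classical
  haveI := Fintype.ofFinite κ
  choose ik xk hxk using fun k => hsurj (b k)
  obtain ⟨j, hj⟩ := Finset.exists_le (Finset.univ.image ik)
  have hle : ∀ k, ik k ≤ j := fun k => hj _ (Finset.mem_image_of_mem _ (Finset.mem_univ k))
  refine ⟨j, fun k => t (ik k) j (hle k) (xk k), fun k => ?_⟩
  rw [φ_t Bi t φ hcomp, hxk]

include hcomp hzero htrans in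
/-- two lifts of the same finite family agree at a later stage -/
theorem exists_eq {κ : Type} [Finite κ] (i i' : ι) (x : κ → Bi i) (x' : κ → Bi i')
    (h : ∀ k, φ i (x k) = φ i' (x' k)) :
    ∃ (j : ι) (hij : i ≤ j) (hi'j : i' ≤ j), ∀ k, t i j hij (x k) = t i' j hi'j (x' k) := by
  classical
  haveI := Fintype.ofFinite κ
  obtain ⟨j₀, h₁, h₂⟩ := exists_ge_ge i i'
  have hk : ∀ k, ∃ (j : ι) (hj : j₀ ≤ j), t j₀ j hj (t i j₀ h₁ (x k) - t i' j₀ h₂ (x' k)) = 0 := by
    intro k
    apply hzero
    rw [map_sub, φ_t Bi t φ hcomp, φ_t Bi t φ hcomp, h k, sub_self]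
  choose jk hjk hjk0 using hk
  obtain ⟨j, hj⟩ := Finset.exists_le (insert j₀ (Finset.univ.image jk))
  have hj₀ : j₀ ≤ j := hj _ (Finset.mem_insert_self _ _)
  have hle : ∀ k, jk k ≤ j := fun k =>
    hj _ (Finset.mem_insert_of_mem (Finset.mem_image_of_mem _ (Finset.mem_univ k)))
  refine ⟨j, h₁.trans hj₀, h₂.trans hj₀, fun k => ?_⟩
  have e1 := congrArg (t (jk k) j (hle k)) (hjk0 k)
  rw [map_zero, t_t Bi t htrans, map_sub, t_t Bi t htrans, t_t Bi t htrans, sub_eq_zero] at e1
  exact e1

local notation "Ti" => fun i : ι => (⨂[A] _ : Fin d, Bi i)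

/-- the transition maps on tensor powers -/
noncomputable abbrev ff (i j : ι) (h : i ≤ j) :
    (⨂[A] _ : Fin d, Bi i) →ₗ[A] (⨂[A] _ : Fin d, Bi j) :=
  (SymTen.tmap A d (t i j h)).toLinearMap

include hid htrans in
theorem directedSystem :
    DirectedSystem (fun i : ι => (⨂[A] _ : Fin d, Bi i)) (fun i j h => ff Bi t d i j h) where
  map_self i x := by
    show SymTen.tmap A d (t i i _) x = x
    rw [hid, tmap_id]
  map_map k j i hij hjk x := by
    show SymTen.tmap A d (t j k hjk) (SymTen.tmap A d (t i j hij) x) = SymTen.tmap A d (t i k _) x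
    rw [tmap_comp, htrans]

open Classical in
/-- the direct limit of the tensor powers -/
noncomputable abbrev LL : Type u :=
  Module.DirectLimit (fun i : ι => (⨂[A] _ : Fin d, Bi i)) (fun i j h => ff Bi t d i j h)

open Classical in
/-- the canonical maps into the direct limit -/
noncomputable abbrev ofL (i : ι) : (⨂[A] _ : Fin d, Bi i) →ₗ[A] LL Bi t d :=
  Module.DirectLimit.of A ι (fun i : ι => (⨂[A] _ : Fin d, Bi i)) (fun i j h => ff Bi t d i j h) i

theorem ofL_ff (i j : ι) (h : i ≤ j) (x : ⨂[A] _ : Fin d, Bi i) :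
    ofL Bi t d j (SymTen.tmap A d (t i j h) x) = ofL Bi t d i x := by
  classical
  exact Module.DirectLimit.of_f (R := A) (G := fun i : ι => (⨂[A] _ : Fin d, Bi i))
    (f := fun i j h => ff Bi t d i j h) (i := i) (j := j) (hij := h) (x := x)

include hcomp hzero htrans in
/-- well-definedness of the class of a pure tensor -/
theorem ofL_tprod_eq (i i' : ι) (x : Fin d → Bi i) (x' : Fin d → Bi i')
    (h : ∀ k, φ i (x k) = φ i' (x' k)) :
    ofL Bi t d i (PiTensorProduct.tprod A x) = ofL Bi t d i' (PiTensorProduct.tprod A x') := by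
  obtain ⟨j, hij, hi'j, hj⟩ := exists_eq Bi t φ hcomp hzero htrans i i' x x' h
  rw [← ofL_ff Bi t d i j hij, ← ofL_ff Bi t d i' j hi'j, SymTen.tmap_tprod, SymTen.tmap_tprod]
  congr 2
  funext k
  exact hj k

include hcomp hsurj in
/-- the multilinear map `B^d → colim` on elements -/
noncomputable def mfun (b : Fin d → B) : LL Bi t d :=
  ofL Bi t d (exists_lift Bi t φ hcomp hsurj b).choose
    (PiTensorProduct.tprod A (exists_lift Bi t φ hcomp hsurj b).choose_spec.choose)

include hzero htrans in
theorem mfun_spec (b : Fin d → B) (i : ι) (x : Fin d → Bi i) (hx : ∀ k, φ i (x k) = b k) :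
    mfun Bi t φ hcomp hsurj d b = ofL Bi t d i (PiTensorProduct.tprod A x) := by
  unfold mfun
  apply ofL_tprod_eq Bi t φ hcomp hzero htrans
  intro k
  rw [(exists_lift Bi t φ hcomp hsurj b).choose_spec.choose_spec k, hx]

include hzero htrans in
/-- the multilinear map `B^d → colim` -/
noncomputable def mm : MultilinearMap A (fun _ : Fin d => B) (LL Bi t d) where
  toFun := mfun Bi t φ hcomp hsurj d
  map_update_add' := by
    intro _ b k c c'
    obtain ⟨i, xs, hxs⟩ := exists_lift Bi t φ hcomp hsurj
      (fun o : Option (Option (Fin d)) => match o with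
        | none => c
        | some none => c'
        | some (some l) => b l)
    have hb : ∀ l, φ i (xs (some (some l))) = b l := fun l => hxs (some (some l))
    have hc : φ i (xs none) = c := hxs none
    have hc' : φ i (xs (some none)) = c' := hxs (some none)
    let x : Fin d → Bi i := fun l => xs (some (some l))
    rw [mfun_spec Bi t φ hcomp hsurj hzero htrans d _ i (Function.update x k (xs none + xs (some none))),
      mfun_spec Bi t φ hcomp hsurj hzero htrans d _ i (Function.update x k (xs none)),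
      mfun_spec Bi t φ hcomp hsurj hzero htrans d _ i (Function.update x k (xs (some none))),
      MultilinearMap.map_update_add, map_add]
    · intro l
      by_cases hl : l = k
      · subst hl; simp [hc']
      · simp [Function.update_of_ne hl, x, hb]
    · intro l
      by_cases hl : l = k
      · subst hl; simp [hc]
      · simp [Function.update_of_ne hl, x, hb]
    · intro l
      by_cases hl : l = k
      · subst hl; simp [hc, hc']
      · simp [Function.update_of_ne hl, x, hb]
  map_update_smul' := by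
    intro _ b k a c
    obtain ⟨i, xs, hxs⟩ := exists_lift Bi t φ hcomp hsurj
      (fun o : Option (Fin d) => match o with
        | none => c
        | some l => b l)
    have hb : ∀ l, φ i (xs (some l)) = b l := fun l => hxs (some l)
    have hc : φ i (xs none) = c := hxs none
    let x : Fin d → Bi i := fun l => xs (some l)
    rw [mfun_spec Bi t φ hcomp hsurj hzero htrans d _ i (Function.update x k (a • xs none)),
      mfun_spec Bi t φ hcomp hsurj hzero htrans d _ i (Function.update x k (xs none)),
      MultilinearMap.map_update_smul, map_smul]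
    · intro l
      by_cases hl : l = k
      · subst hl; simp [hc]
      · simp [Function.update_of_ne hl, x, hb]
    · intro l
      by_cases hl : l = k
      · subst hl; simp [hc]
      · simp [Function.update_of_ne hl, x, hb]

include hzero htrans in
/-- `T^d(B) → colim T^d(B_i)` -/
noncomputable def Psi : (⨂[A] _ : Fin d, B) →ₗ[A] LL Bi t d :=
  PiTensorProduct.lift (mm Bi t φ hcomp hsurj hzero htrans d)

theorem Psi_tprod (i : ι) (x : Fin d → Bi i) :
    Psi Bi t φ hcomp hsurj hzero htrans d (PiTensorProduct.tprod A (fun k => φ i (x k))) =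
      ofL Bi t d i (PiTensorProduct.tprod A x) := by
  unfold Psi
  rw [PiTensorProduct.lift.tprod]
  exact mfun_spec Bi t φ hcomp hsurj hzero htrans d _ i x (fun k => rfl)

theorem Psi_tmap (i : ι) (y : ⨂[A] _ : Fin d, Bi i) :
    Psi Bi t φ hcomp hsurj hzero htrans d (SymTen.tmap A d (φ i) y) = ofL Bi t d i y := by
  induction y using PiTensorProduct.induction_on with
  | smul_tprod r x =>
    rw [map_smul, map_smul, map_smul, SymTen.tmap_tprod, Psi_tprod]
  | add y y' hy hy' => rw [map_add, map_add, map_add, hy, hy']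

include hcomp hsurj hzero hid htrans in
/-- a tensor dying in the limit dies at a finite stage -/
theorem exists_tmap_eq_zero (i : ι) (y : ⨂[A] _ : Fin d, Bi i)
    (hy : SymTen.tmap A d (φ i) y = 0) :
    ∃ (j : ι) (h : i ≤ j), SymTen.tmap A d (t i j h) y = 0 := by
  classical
  have h1 := Psi_tmap Bi t φ hcomp hsurj hzero htrans d i y
  rw [hy, map_zero] at h1
  haveI := directedSystem Bi t hid htrans d
  exact Module.DirectLimit.of.zero_exact h1.symm

include hcomp hsurj in
/-- every tensor comes from a finite stage -/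
theorem exists_tmap_eq (z : ⨂[A] _ : Fin d, B) :
    ∃ (i : ι) (y : ⨂[A] _ : Fin d, Bi i), SymTen.tmap A d (φ i) y = z := by
  induction z using PiTensorProduct.induction_on with
  | smul_tprod r b =>
    obtain ⟨i, x, hx⟩ := exists_lift Bi t φ hcomp hsurj b
    refine ⟨i, r • PiTensorProduct.tprod A x, ?_⟩
    rw [map_smul, SymTen.tmap_tprod]
    congr 2
    funext k
    exact hx k
  | add z z' hz hz' =>
    obtain ⟨i, y, rfl⟩ := hz
    obtain ⟨i', y', rfl⟩ := hz'
    obtain ⟨j, h₁, h₂⟩ := exists_ge_ge i i'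
    refine ⟨j, SymTen.tmap A d (t i j h₁) y + SymTen.tmap A d (t i' j h₂) y', ?_⟩
    rw [map_add, tmap_comp, tmap_comp, hcomp, hcomp]

include hcomp hsurj hzero hid htrans in
theorem main :
    (∀ z : SymTen.TS A B d, ∃ (i : ι) (y : SymTen.TS A (Bi i) d), SymTen.TSmap A d (φ i) y = z) ∧
      ∀ (i : ι) (y : SymTen.TS A (Bi i) d), SymTen.TSmap A d (φ i) y = 0 →
        ∃ (j : ι) (h : i ≤ j), SymTen.TSmap A d (t i j h) y = 0 := by
  classical
  constructor
  · intro z
    obtain ⟨i, y, hy⟩ := exists_tmap_eq Bi t φ hcomp hsurj d z.1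
    have hσ : ∀ σ : Equiv.Perm (Fin d), ∃ (j : ι) (h : i ≤ j), SymTen.tmap A d (t i j h)
        (PiTensorProduct.reindex A (fun _ : Fin d => Bi i) σ y - y) = 0 := by
      intro σ
      apply exists_tmap_eq_zero Bi t φ hcomp hsurj hzero hid htrans d
      rw [map_sub, SymTen.tmap_reindex, hy, z.2 σ, sub_self]
    choose jσ hjσ hjσ0 using hσ
    obtain ⟨j, hj⟩ := Finset.exists_le (insert i (Finset.univ.image jσ))
    have hij : i ≤ j := hj _ (Finset.mem_insert_self _ _)
    have hle : ∀ σ, jσ σ ≤ j := fun σ =>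
      hj _ (Finset.mem_insert_of_mem (Finset.mem_image_of_mem _ (Finset.mem_univ σ)))
    have hmem : SymTen.tmap A d (t i j hij) y ∈ SymTen.TS A (Bi j) d := by
      intro σ
      have e1 := congrArg (SymTen.tmap A d (t (jσ σ) j (hle σ))) (hjσ0 σ)
      rw [map_zero, tmap_comp, htrans, map_sub, sub_eq_zero, SymTen.tmap_reindex] at e1
      exact e1
    refine ⟨j, ⟨_, hmem⟩, ?_⟩
    apply Subtype.ext
    show SymTen.tmap A d (φ j) (SymTen.tmap A d (t i j hij) y) = z.1
    rw [tmap_comp, hcomp, hy]
  · intro i y hy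
    have h1 : SymTen.tmap A d (φ i) y.1 = 0 := congrArg Subtype.val hy
    obtain ⟨j, hij, hj⟩ := exists_tmap_eq_zero Bi t φ hcomp hsurj hzero hid htrans d i y.1 h1
    exact ⟨j, hij, Subtype.ext hj⟩

end main

end Groth.Agent.Lib.Helper15.TSColim
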