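import Mathlib
import Groth.Agent.Lib.Helper15.TSFlat

/-!
# `TS^d(B)` is the divided power algebra when `d!` is invertible (helper15)
-/

set_option autoImplicit false
universe u
open scoped TensorProduct
open MvPolynomial

namespace Groth.Agent.Lib.Helper15.TSFact

open Groth.Agent.Lib.Helper15.LawFree Groth.Agent.Lib.Helper15.Corestrict
  Groth.Agent.Lib.Helper15.GammaSpan Groth.Agent.Lib.Helper15.TSLaw
  Groth.Agent.Lib.Helper15.GammaTS Groth.Agent.Lib.Helper15.PolarLaw

variable {A : Type u} [CommRing A] {B : Type u} [CommRing B] [Algebra A B] (d : ℕ)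

theorem polA_mem (b : Fin d → B) :
    polA (ts (A := A) B d) b ∈ Cm (MvPolynomial.basisMonomials B A) (G₀ (ts (A := A) B d)) := by
  rw [polA_eq]
  have h : (ts (A := A) B d).law.toFun' (MvPolynomial (Fin d) A)
      (∑ i, (X i : MvPolynomial (Fin d) A) ⊗ₜ[A] b i) =
      (G₀ (ts (A := A) B d)).law.toFun' (MvPolynomial (Fin d) A)
        (∑ i, (X i : MvPolynomial (Fin d) A) ⊗ₜ[A] (X (b i) : MvPolynomial B A)) := by
    rw [G₀_apply, map_sum]
    congr 1
    refine Finset.sum_congr rfl fun i _ => ?_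
    rw [LinearMap.lTensor_tmul]
    simp
  rw [h]
  exact TSFlat.ext_mem_Cm d (ts B d) _ _ _

theorem rho_mem (t : ⨂[A] _ : Fin d, B) :
    rho (ts (A := A) B d) t ∈ Cm (MvPolynomial.basisMonomials B A) (G₀ (ts (A := A) B d)) := by
  induction t using PiTensorProduct.induction_on with
  | smul_tprod r b =>
    rw [map_smul, rho_tprod]
    exact Submodule.smul_mem _ _ (polA_mem d b)
  | add x y hx hy =>
    rw [map_add]
    exact Submodule.add_mem _ hx hy

theorem spans_ts (hd : IsUnit ((d.factorial : ℕ) : A)) : TSCore.Spans (ts (A := A) B d) := by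
  unfold TSCore.Spans
  rw [eq_top_iff]
  intro u' _
  obtain ⟨v, hv⟩ := hd.exists_left_inv
  have h1 := psi_rho (ts (A := A) B d) (SymTen.TS A B d).val.toLinearMap
    (fun S _ _ n s b => ts_sum S n s b) u'.1
  rw [Finset.sum_congr rfl (fun σ _ => u'.2 σ), Finset.sum_const, Finset.card_univ,
    Fintype.card_perm, Fintype.card_fin] at h1
  have h2 : u' = v • rho (ts (A := A) B d) u'.1 := by
    apply Subtype.ext
    show u'.1 = v • ((SymTen.TS A B d).val.toLinearMap (rho (ts (A := A) B d) u'.1))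
    rw [h1, ← Nat.cast_smul_eq_nsmul A, smul_smul, hv, one_smul]
  rw [h2]
  exact Submodule.smul_mem _ _ (rho_mem d _)

variable {C' : Type u} [CommRing C'] [Algebra A C'] (F : PolLaw.MulLaw A B C' d)

theorem exists_lin (hd : IsUnit ((d.factorial : ℕ) : A)) :
    ∃ f : SymTen.TS A B d →ₗ[A] C', ∀ (σ : Type u) (z : MvPolynomial σ A ⊗[A] B),
      f.lTensor (MvPolynomial σ A) ((ts B d).law.toFun' (MvPolynomial σ A) z) =
        F.law.toFun' (MvPolynomial σ A) z := by
  obtain ⟨v, hv⟩ := hd.exists_left_inv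
  refine ⟨v • (rho F ∘ₗ (SymTen.TS A B d).val.toLinearMap), fun σ z => ?_⟩
  obtain ⟨n, s, b, rfl⟩ := exists_fin_repr (MvPolynomial σ A) z
  rw [LinearMap.lTensor_smul, LinearMap.smul_apply, LinearMap.lTensor_comp, LinearMap.comp_apply,
    ts_sum, map_sum]
  simp only [LinearMap.lTensor_tmul, rho_tprod]
  rw [← Pol_diag_expand, Pol_diag', Nat.cast_smul_eq_nsmul, ← Nat.cast_smul_eq_nsmul A, smul_smul,
    hv, one_smul]

theorem isGammaD_ts_of_isUnit (hd : IsUnit ((d.factorial : ℕ) : A)) :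
    PolLaw.IsGammaD (ts (A := A) B d) := by
  apply TSCore.isGammaD_of_spans_poly (spans_ts d hd)
  intro C' _ _ F
  exact exists_lin d F hd

end Groth.Agent.Lib.Helper15.TSFact
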