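import Mathlib
import Groth.Agent.Lib.Helper15.TSFlat

/-!
# `TS^n(A)` is generated by the elementary symmetric tensors for flat `A` (helper15)
-/

set_option autoImplicit false
universe u
open scoped TensorProduct
open MvPolynomial

namespace Groth.Agent.Lib.Helper15.TSGen

open Groth.Agent.Lib.Helper15.LawFree Groth.Agent.Lib.Helper15.TSLaw
  Groth.Agent.Lib.Helper15.TSFree Groth.Agent.Lib.Helper15.TSplit
  Groth.Agent.Lib.Helper15.TSFlat Groth.Agent.Lib.Helper15.SymLift

section adic

variable {Q : Type u} [CommRing Q] (g : Q)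

/-- the ideals `(g^k)` -/
def J (k : ℕ) : Ideal Q := Ideal.span {g ^ k}

theorem mem_J_iff {k : ℕ} {x : Q} : x ∈ J g k ↔ ∃ a, a * g ^ k = x := by
  unfold J
  exact Ideal.mem_span_singleton'

theorem pow_mul_mem (k : ℕ) (x : Q) : g ^ k * x ∈ J g k :=
  (mem_J_iff g).2 ⟨x, mul_comm _ _⟩

theorem J_mul {a b : ℕ} {x y : Q} (hx : x ∈ J g a) (hy : y ∈ J g b) : x * y ∈ J g (a + b) := by
  obtain ⟨x', rfl⟩ := (mem_J_iff g).1 hx
  obtain ⟨y', rfl⟩ := (mem_J_iff g).1 hy
  exact (mem_J_iff g).2 ⟨x' * y', by ring⟩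

theorem J_mono {a b : ℕ} (h : a ≤ b) : J g b ≤ J g a := by
  intro x hx
  obtain ⟨x', rfl⟩ := (mem_J_iff g).1 hx
  obtain ⟨c, rfl⟩ := Nat.exists_eq_add_of_le h
  exact (mem_J_iff g).2 ⟨x' * g ^ c, by ring⟩

theorem J_zero : J g 0 = ⊤ := by
  unfold J
  rw [pow_zero, Ideal.span_singleton_one]

end adic

section approx

variable {R : Type u} [CommRing R] {A : Type u} [CommRing A] [Algebra R A]
  {S : Type u} [CommRing S] [Algebra R S] (lam : S)

/-- products of elementary factors `1 + s ⊗ c` -/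
def prodl (l : List (S × A)) : S ⊗[R] A := (l.map (fun p => 1 + p.1 ⊗ₜ[R] p.2)).prod

theorem prodl_append (l l' : List (S × A)) :
    prodl (R := R) (l ++ l') = prodl l * prodl l' := by
  unfold prodl
  rw [List.map_append, List.prod_append]

/-- the element `λ ⊗ 1` -/
abbrev gg : S ⊗[R] A := lam ⊗ₜ[R] (1 : A)

theorem step (k : ℕ) (hk : 1 ≤ k) (r : S ⊗[R] A) :
    ∃ l : List (S × A), prodl l - 1 - (gg lam) ^ k * r ∈ J (gg (R := R) (A := A) lam) (k + 1) := by
  induction r using TensorProduct.induction_on with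
  | zero => exact ⟨[], by simp [prodl]⟩
  | tmul t d =>
    refine ⟨[(lam ^ k * t, d)], ?_⟩
    have : prodl (R := R) [(lam ^ k * t, d)] - 1 - (gg lam) ^ k * (t ⊗ₜ[R] d) = 0 := by
      simp [prodl, gg, Algebra.TensorProduct.tmul_pow, Algebra.TensorProduct.tmul_mul_tmul]
    rw [this]
    exact Submodule.zero_mem _
  | add r₁ r₂ h₁ h₂ =>
    obtain ⟨l₁, h₁⟩ := h₁
    obtain ⟨l₂, h₂⟩ := h₂
    refine ⟨l₁ ++ l₂, ?_⟩
    rw [prodl_append]
    have e : prodl l₁ * prodl l₂ - 1 - (gg lam) ^ k * (r₁ + r₂) =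
        (prodl l₁ - 1 - (gg lam) ^ k * r₁) * prodl l₂ +
        (1 + (gg lam) ^ k * r₁) * (prodl l₂ - 1 - (gg lam) ^ k * r₂) +
        ((gg lam) ^ k * r₁) * ((gg lam) ^ k * r₂) := by ring
    rw [e]
    refine Ideal.add_mem _ (Ideal.add_mem _ (Ideal.mul_mem_right _ _ h₁)
      (Ideal.mul_mem_left _ _ h₂)) ?_
    exact J_mono _ (by omega) (J_mul _ (pow_mul_mem _ k r₁) (pow_mul_mem _ k r₂))

theorem approx (k : ℕ) (z : S ⊗[R] A) (hz : z ∈ J (gg (R := R) (A := A) lam) 1) :
    ∃ l : List (S × A), (1 + z) - prodl l ∈ J (gg (R := R) (A := A) lam) k := by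
  induction k with
  | zero => exact ⟨[], by rw [J_zero]; trivial⟩
  | succ k ih =>
    obtain ⟨l, hl⟩ := ih
    rcases Nat.eq_zero_or_pos k with rfl | hk
    · exact ⟨[], by simpa [prodl] using hz⟩
    obtain ⟨r, hr⟩ := (mem_J_iff _).1 hl
    obtain ⟨l₂, h₂⟩ := step lam k hk r
    refine ⟨l ++ l₂, ?_⟩
    rw [prodl_append]
    have hD : (gg lam) ^ k * r = 1 + z - prodl l := by rw [← hr, mul_comm]
    have e : (1 + z) - prodl l * prodl l₂ =
        ((1 + z - prodl l) - z) * ((gg lam) ^ k * r) +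
        (-prodl l) * (prodl l₂ - 1 - (gg lam) ^ k * r) := by
      rw [hD]
      ring
    rw [e]
    refine Ideal.add_mem _ ?_ (Ideal.mul_mem_left _ _ h₂)
    have h1 : (1 + z - prodl l) - z ∈ J (gg (R := R) (A := A) lam) 1 :=
      Ideal.sub_mem _ (J_mono _ hk hl) hz
    have := J_mul _ h1 (pow_mul_mem (gg (R := R) (A := A) lam) k r)
    rwa [add_comm] at this

end approx

section gens

variable (R : Type u) [CommRing R] (A : Type u) [CommRing A] [Algebra R A] (n : ℕ)

/-- the elementary symmetric tensors -/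
noncomputable def sig (a : A) (j : ℕ) : ⨂[R] _ : Fin n, A :=
  ∑ I ∈ (Finset.univ : Finset (Fin n)).powersetCard j,
    PiTensorProduct.tprod R (fun i : Fin n => if i ∈ I then a else (1 : A))

/-- the subalgebra generated by the elementary symmetric tensors -/
noncomputable def E : Subalgebra R (⨂[R] _ : Fin n, A) :=
  Algebra.adjoin R {t : ⨂[R] _ : Fin n, A | ∃ (a : A) (j : ℕ), t = sig R A n a j}

variable {R A n}

theorem sig_mem (a : A) (j : ℕ) : sig R A n a j ∈ E R A n :=
  Algebra.subset_adjoin ⟨a, j, rfl⟩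

theorem reindex_sig (σ : Equiv.Perm (Fin n)) (a : A) (j : ℕ) :
    PiTensorProduct.reindex R (fun _ : Fin n => A) σ (sig R A n a j) = sig R A n a j := by
  unfold sig
  rw [map_sum]
  refine Finset.sum_equiv (Equiv.finsetCongr σ) ?_ ?_
  · intro I
    simp only [Finset.mem_powersetCard, Finset.subset_univ, true_and, Equiv.finsetCongr_apply,
      Finset.card_map]
  · intro I _
    rw [PiTensorProduct.reindex_tprod]
    congr 1
    funext i
    simp only [Equiv.finsetCongr_apply, Finset.mem_map_equiv]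

theorem E_le_TS : E R A n ≤ SymTen.TS R A n := by
  unfold E
  rw [Algebra.adjoin_le_iff]
  rintro _ ⟨a, j, rfl⟩
  exact fun σ => reindex_sig σ a j

end gens

section ES

variable {R : Type u} [CommRing R] {A : Type u} [CommRing A] [Algebra R A] {n : ℕ}
  (S : Type u) [CommRing S] [Algebra R S]

/-- the image of `S ⊗ E` in `S ⊗ T` -/
noncomputable def ES : Subalgebra S (S ⊗[R] (⨂[R] _ : Fin n, A)) :=
  (Algebra.TensorProduct.map (AlgHom.id S S) (E R A n).val).range

variable {S}

theorem tmul_mem_ES (s : S) {x : ⨂[R] _ : Fin n, A} (hx : x ∈ E R A n) :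
    s ⊗ₜ[R] x ∈ ES (R := R) (A := A) (n := n) S :=
  ⟨s ⊗ₜ[R] ⟨x, hx⟩, by simp⟩

theorem ext_mem_E (ℓ : S →ₗ[R] R) (y : S ⊗[R] (⨂[R] _ : Fin n, A))
    (hy : y ∈ ES (R := R) (A := A) (n := n) S) : ext ℓ y ∈ E R A n := by
  obtain ⟨w, rfl⟩ := hy
  show ext ℓ (Algebra.TensorProduct.map (AlgHom.id S S) (E R A n).val w) ∈ E R A n
  induction w using TensorProduct.induction_on with
  | zero => simp
  | tmul s x =>
    rw [Algebra.TensorProduct.map_tmul, ext_tmul]
    exact Subalgebra.smul_mem _ x.2 _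
  | add w w' h h' =>
    rw [map_add, map_add]
    exact Subalgebra.add_mem _ h h'

theorem prod_sg_eq (I : Finset (Fin n)) (c : A) :
    ∏ j ∈ I, sg (A := R) A n j c =
      PiTensorProduct.tprod R (fun i : Fin n => if i ∈ I then c else (1 : A)) := by
  rw [TSLaw.tprod_eq_prod]
  simp only [apply_ite, map_one]
  rw [Finset.prod_ite_mem, Finset.univ_inter]

theorem tl_one_add_mem (s : S) (c : A) :
    (tl (A := R) A n).law.toFun' S (1 + s ⊗ₜ[R] c) ∈ ES (R := R) (A := A) (n := n) S := by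
  unfold tl
  rw [PolLaw.MulLaw.prodMap_toFun']
  simp only [map_add, map_one, Algebra.TensorProduct.map_tmul, AlgHom.id_apply]
  rw [Finset.prod_one_add, Finset.sum_powerset]
  refine Subalgebra.sum_mem _ fun j _ => ?_
  have : ∑ I ∈ Finset.powersetCard j (Finset.univ : Finset (Fin n)),
      ∏ i ∈ I, s ⊗ₜ[R] (sg (A := R) A n i c) = (s ^ j) ⊗ₜ[R] sig R A n c j := by
    unfold sig
    rw [TensorProduct.tmul_sum]
    refine Finset.sum_congr rfl fun I hI => ?_
    rw [TSplit.prod_tmul, prod_sg_eq, Finset.prod_const, (Finset.mem_powersetCard.1 hI).2]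
  rw [this]
  exact tmul_mem_ES _ (sig_mem c j)

theorem tl_prodl_mem (l : List (S × A)) :
    (tl (A := R) A n).law.toFun' S (prodl l) ∈ ES (R := R) (A := A) (n := n) S := by
  induction l with
  | nil =>
    have : prodl (R := R) ([] : List (S × A)) = 1 := by simp [prodl]
    rw [this, ((tl (A := R) A n).mult S).1]
    exact Subalgebra.one_mem _
  | cons p l ih =>
    have : prodl (R := R) (p :: l) = (1 + p.1 ⊗ₜ[R] p.2) * prodl l := by simp [prodl]
    rw [this, ((tl (A := R) A n).mult S).2]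
    exact Subalgebra.mul_mem _ (tl_one_add_mem _ _) ih

theorem tl_congr (lam : S) (k : ℕ) (z z' : S ⊗[R] A)
    (h : z - z' ∈ J (gg (R := R) (A := A) lam) k) :
    (tl (A := R) A n).law.toFun' S z - (tl (A := R) A n).law.toFun' S z' ∈
      J (gg (R := R) (A := ⨂[R] _ : Fin n, A) lam) k := by
  unfold tl
  rw [PolLaw.MulLaw.prodMap_toFun', PolLaw.MulLaw.prodMap_toFun', ← Ideal.Quotient.eq, map_prod,
    map_prod]
  refine Finset.prod_congr rfl fun j _ => ?_
  rw [Ideal.Quotient.eq, ← map_sub]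
  obtain ⟨a, ha⟩ := (mem_J_iff _).1 h
  rw [← ha, map_mul, map_pow, Algebra.TensorProduct.map_tmul, map_one, AlgHom.id_apply, mul_comm]
  exact pow_mul_mem _ _ _

theorem gen (lam : S) (k : ℕ) (z : S ⊗[R] A) (hz : z ∈ J (gg (R := R) (A := A) lam) 1) :
    ∃ y ∈ ES (R := R) (A := A) (n := n) S,
      (tl (A := R) A n).law.toFun' S (1 + z) - y ∈
        J (gg (R := R) (A := ⨂[R] _ : Fin n, A) lam) k := by
  obtain ⟨l, hl⟩ := approx lam k z hz
  exact ⟨_, tl_prodl_mem l, tl_congr lam k _ _ hl⟩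

end ES

section coeff

variable {R : Type u} [CommRing R] {A : Type u} [CommRing A] [Algebra R A] {n : ℕ} {I' : Type u}

theorem tmul_one_mul {S : Type u} [CommRing S] [Algebra R S] {N : Type u} [CommRing N]
    [Algebra R N] (x : S) (a : S ⊗[R] N) : (x ⊗ₜ[R] (1 : N)) * a = x • a := by
  induction a using TensorProduct.induction_on with
  | zero => simp
  | tmul p t => rw [Algebra.TensorProduct.tmul_mul_tmul, one_mul, TensorProduct.smul_tmul',
      smul_eq_mul]
  | add a a' h h' => rw [mul_add, smul_add, h, h']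

theorem ext_lco_eq_zero {N : Type u} [AddCommGroup N] [Module R N] (d : ℕ) (α : I' →₀ ℕ)
    (a : Polynomial (MvPolynomial I' R) ⊗[R] N) :
    ext (lco d α) ((Polynomial.X : Polynomial (MvPolynomial I' R)) ^ (d + 1) • a) = 0 := by
  induction a using TensorProduct.induction_on with
  | zero => simp
  | tmul p t =>
    rw [TensorProduct.smul_tmul', ext_tmul, lco_apply, smul_eq_mul, Polynomial.coeff_X_pow_mul',
      if_neg (by omega), coeff_zero, zero_smul]
  | add a a' h h' => rw [smul_add, map_add, h, h', add_zero]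

theorem tcoeff_mem (b : I' → A) (Jf : Finset I') (α : I' →₀ ℕ) :
    tcoeff α ((tl (A := R) A n).law.toFun' (MvPolynomial I' R)
      (1 + ∑ k ∈ Jf, (X k : MvPolynomial I' R) ⊗ₜ[R] b k)) ∈ E R A n := by
  obtain ⟨z₀, hz₀⟩ : ∃ z₀ : MvPolynomial I' R ⊗[R] A,
    z₀ = ∑ k ∈ Jf, (X k : MvPolynomial I' R) ⊗ₜ[R] b k := ⟨_, rfl⟩
  rw [← hz₀]
  obtain ⟨z, hzdef⟩ : ∃ z : Polynomial (MvPolynomial I' R) ⊗[R] A,
    z = (scaleT (A := R) (I := I')).toLinearMap.rTensor A z₀ := ⟨_, rfl⟩
  have hz : z ∈ J (gg (R := R) (A := A) (Polynomial.X : Polynomial (MvPolynomial I' R))) 1 := by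
    rw [hzdef, hz₀, map_sum]
    refine Ideal.sum_mem _ fun k _ => ?_
    rw [LinearMap.rTensor_tmul, AlgHom.toLinearMap_apply]
    have h : scaleT (A := R) (X k : MvPolynomial I' R) =
        Polynomial.X * Polynomial.C (X k) := by simp [scaleT]
    rw [h, mem_J_iff]
    exact ⟨Polynomial.C (X k) ⊗ₜ b k, by
      rw [pow_one, Algebra.TensorProduct.tmul_mul_tmul, mul_one, mul_comm]⟩
  obtain ⟨y, hy, hd⟩ := gen (n := n) (Polynomial.X : Polynomial (MvPolynomial I' R))
    (α.degree + 1) z hz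
  have h1 : (1 : Polynomial (MvPolynomial I' R) ⊗[R] A) + z =
      (scaleT (A := R) (I := I')).toLinearMap.rTensor A (1 + z₀) := by
    have h0 : (scaleT (A := R) (I := I')).toLinearMap.rTensor A
        (1 : MvPolynomial I' R ⊗[R] A) = 1 := by
      rw [Algebra.TensorProduct.one_def, LinearMap.rTensor_tmul, AlgHom.toLinearMap_apply, map_one]
      rfl
    rw [map_add, h0, hzdef]
  have h2 : (tl (A := R) A n).law.toFun' (Polynomial (MvPolynomial I' R)) (1 + z) =
      (scaleT (A := R) (I := I')).toLinearMap.rTensor _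
        ((tl (A := R) A n).law.toFun' (MvPolynomial I' R) (1 + z₀)) := by
    rw [h1, PolynomialLaw.isCompat_apply' (f := (tl (A := R) A n).law)]
  have h3 := ext_lco_scaleT (A := R) (N := ⨂[R] _ : Fin n, A) α.degree α
    ((tl (A := R) A n).law.toFun' (MvPolynomial I' R) (1 + z₀))
  rw [if_pos rfl] at h3
  rw [← h3, ← h2]
  have h4 : (tl (A := R) A n).law.toFun' (Polynomial (MvPolynomial I' R)) (1 + z) =
      y + ((tl (A := R) A n).law.toFun' (Polynomial (MvPolynomial I' R)) (1 + z) - y) := by ring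
  rw [h4, map_add]
  refine Subalgebra.add_mem _ (ext_mem_E _ y hy) ?_
  obtain ⟨a, ha⟩ := (mem_J_iff _).1 hd
  have h5 : a * (gg (R := R) (A := ⨂[R] _ : Fin n, A)
      (Polynomial.X : Polynomial (MvPolynomial I' R))) ^ (α.degree + 1) =
      (Polynomial.X : Polynomial (MvPolynomial I' R)) ^ (α.degree + 1) • a := by
    rw [gg, Algebra.TensorProduct.tmul_pow, one_pow, mul_comm, tmul_one_mul]
  rw [← ha, h5, ext_lco_eq_zero]
  exact Subalgebra.zero_mem _

end coeff

section ident

variable {R : Type u} [CommRing R] {A : Type u} [CommRing A] [Algebra R A] {n : ℕ} {I' : Type u}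

/-- exponents of `1` and the variables -/
noncomputable def mo (o : Option I') : I' →₀ ℕ := o.elim 0 (fun k => Finsupp.single k 1)

theorem degree_mo_none : (mo (none : Option I')).degree = 0 := by
  simp [mo]

theorem degree_mo_le (o : Option I') : (mo o).degree ≤ 1 := by
  cases o with
  | none => simp [mo]
  | some k => simp [mo, Finsupp.degree_single]

theorem tcoeff_eq_orbF (b : I' → A) (α : I' →₀ ℕ) (hα : α.degree = n) :
    tcoeff α ((tl (A := R) A n).law.toFun' (MvPolynomial I' R)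
      (1 + ∑ k ∈ α.support, (X k : MvPolynomial I' R) ⊗ₜ[R] b k)) = orbF n b α := by
  classical
  let b' : Option I' → A := fun o => o.elim 1 b
  let s' : Option I' → MvPolynomial I' R := fun o => monomial (mo o) 1
  have h1 : (1 : MvPolynomial I' R ⊗[R] A) + ∑ k ∈ α.support, X k ⊗ₜ[R] b k =
      ∑ o ∈ Finset.insertNone α.support, s' o ⊗ₜ[R] b' o := by
    rw [Finset.sum_insertNone]
    simp only [s', b', mo, Option.elim_none, Option.elim_some, Algebra.TensorProduct.one_def, X]
    rfl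
  rw [h1, tl_sum_finset, map_sum]
  simp only [tcoeff_tmul]
  have h2 : ∀ v : Fin n → Option I', ∏ i, s' (v i) = monomial (∑ i, mo (v i)) 1 := by
    intro v
    rw [monomial_sum_one]
  unfold orbF
  symm
  apply Finset.sum_of_injOn (fun (v₀ : Fin n → I') => fun i => some (v₀ i))
  · intro v₀ _ v₁ _ h
    funext i
    exact Option.some_injective _ (congrFun h i)
  · intro v₀ hv₀
    have h3 := (Finset.mem_filter.1 hv₀).1
    rw [Fintype.mem_piFinset] at h3
    rw [Finset.mem_coe, Fintype.mem_piFinset]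
    intro i
    rw [Finset.some_mem_insertNone]
    exact h3 i
  · intro v hv hnot
    rw [h2, coeff_monomial]
    by_cases hβ : ∑ i, mo (v i) = α
    · exfalso
      have hdeg : ∑ i : Fin n, (mo (v i)).degree = ∑ i : Fin n, 1 := by
        rw [← map_sum, hβ, hα]
        simp
      rw [Finset.sum_eq_sum_iff_of_le (fun i _ => degree_mo_le (v i))] at hdeg
      have hne : ∀ i, ∃ k, v i = some k := by
        intro i
        rcases hvi : v i with _ | k
        · have := hdeg i (Finset.mem_univ i)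
          rw [hvi, degree_mo_none] at this
          omega
        · exact ⟨k, rfl⟩
      choose v₀ hv₀ using hne
      apply hnot
      refine ⟨v₀, ?_, ?_⟩
      · rw [Finset.mem_coe, mem_V, ← hβ]
        unfold TSplit.mult
        refine Finset.sum_congr rfl fun i _ => ?_
        rw [hv₀ i]
        rfl
      · funext i
        exact (hv₀ i).symm
    · rw [if_neg hβ, zero_smul]
  · intro v₀ hv₀
    rw [h2]
    have h3 : ∑ i, mo (some (v₀ i)) = α := by
      rw [← (mem_V α v₀).1 hv₀]
      rfl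
    rw [h3, coeff_monomial, if_pos rfl, one_smul]
    rfl

theorem orbF_mem_E (b : I' → A) (α : I' →₀ ℕ) : orbF n b α ∈ E R A n := by
  by_cases hα : α.degree = n
  · rw [← tcoeff_eq_orbF b α hα]
    exact tcoeff_mem b α.support α
  · unfold orbF
    have h : V (d := n) α = ∅ := by
      rw [Finset.eq_empty_iff_forall_notMem]
      intro v hv
      rw [mem_V] at hv
      exact hα (by rw [← hv, degree_mult])
    rw [h, Finset.sum_empty]
    exact Subalgebra.zero_mem _

theorem TS_le_E [Module.Flat R A] : SymTen.TS R A n ≤ E R A n := by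
  intro u hu
  obtain ⟨I'', y, w, hw, hyw⟩ := exists_sym_lift n u hu
  have hmem := mem_span_orb (Finsupp.basisSingleOne (R := R) (ι := I'')) n w hw
  rw [← hyw]
  have h : Submodule.span R (Set.range (orb (Finsupp.basisSingleOne (R := R) (ι := I'')) n)) ≤
      (Subalgebra.toSubmodule (E R A n)).comap (PiTensorProduct.map (fun _ : Fin n => y)) := by
    rw [Submodule.span_le]
    rintro _ ⟨α, rfl⟩
    show PiTensorProduct.map (fun _ : Fin n => y) (orb _ n α) ∈ E R A n
    rw [map_orb]
    exact orbF_mem_E _ α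
  exact h hmem

/-- **`TS^n(A)` is generated by the elementary symmetric tensors, for flat `A`** -/
theorem TS_eq_E [Module.Flat R A] : SymTen.TS R A n = E R A n :=
  le_antisymm TS_le_E E_le_TS

end ident

end Groth.Agent.Lib.Helper15.TSGen
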