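import Mathlib
import Groth.Agent.Lib.Helper15.PiTensor

/-!
# Reducedness of tensor products and tensor powers over a field (helper15)
-/

set_option autoImplicit false
universe u
open scoped TensorProduct

namespace Groth.Agent.Lib.Helper15.TensorReduced

section lemmaR

variable (K : Type u) [Field K] (R₂ R₁ : Type u) [CommRing R₂] [Algebra K R₂] [CommRing R₁]
  [Algebra K R₁]

/-- a reduced algebra tensored with an algebra all of whose field base changes are reduced is
reduced -/
theorem isReduced_tensor [IsReduced R₂]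
    (h : ∀ (L : Type u) [Field L] [Algebra K L], IsReduced (L ⊗[K] R₁)) :
    IsReduced (R₂ ⊗[K] R₁) := by
  classical
  constructor
  intro x hx
  let b := Module.Basis.ofVectorSpace K R₁
  let B₂ := Algebra.TensorProduct.basis R₂ b
  apply B₂.repr.injective
  ext i
  rw [map_zero, Finsupp.zero_apply]
  have hnil : B₂.repr x i ∈ nilradical R₂ := by
    rw [nilradical_eq_sInf, Ideal.mem_sInf]
    intro p hp
    haveI : p.IsPrime := hp
    let φ : R₂ →ₐ[K] p.ResidueField := IsScalarTower.toAlgHom K R₂ p.ResidueField
    let ψ : R₂ ⊗[K] R₁ →ₐ[K] p.ResidueField ⊗[K] R₁ :=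
      Algebra.TensorProduct.map φ (AlgHom.id K R₁)
    haveI := h p.ResidueField
    have h0 : ψ x = 0 := (hx.map ψ).eq_zero
    have key : ∀ z : R₂ ⊗[K] R₁,
        (Algebra.TensorProduct.basis p.ResidueField b).repr (ψ z) i = φ (B₂.repr z i) := by
      intro z
      induction z using TensorProduct.induction_on with
      | zero => simp
      | tmul r m =>
        show (Algebra.TensorProduct.basis p.ResidueField b).repr (φ r ⊗ₜ[K] m) i = _
        rw [Algebra.TensorProduct.basis_repr_tmul, Algebra.TensorProduct.basis_repr_tmul]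
        simp only [Finsupp.smul_apply, Finsupp.mapRange_apply, smul_eq_mul, map_mul,
          AlgHom.commutes]
      | add z z' hz hz' =>
        rw [map_add, map_add, map_add, Finsupp.add_apply, Finsupp.add_apply, map_add, hz, hz']
    have h1 := key x
    rw [h0, map_zero, Finsupp.zero_apply] at h1
    exact Ideal.algebraMap_residueField_eq_zero.mp h1.symm
  rw [nilradical_eq_zero] at hnil
  exact hnil

end lemmaR

section tpow

variable {A : Type u} [CommRing A] (K : Type u) [Field K] [Algebra A K]
  (B : Type u) [CommRing B] [Algebra A B]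

/-- the base change of a tensor product -/
noncomputable def bcTensor (T : Type u) [CommRing T] [Algebra A T] :
    K ⊗[A] (T ⊗[A] B) ≃ₐ[K] (K ⊗[A] T) ⊗[K] (K ⊗[A] B) :=
  (Algebra.TensorProduct.assoc A A K K T B).symm.trans
    (Algebra.TensorProduct.cancelBaseChange A K K (K ⊗[A] T) B).symm

variable (hred : ∀ (L : Type u) [Field L] [Algebra A L], IsReduced (L ⊗[A] B))

include hred in
theorem isReduced_field_ext (L : Type u) [Field L] [Algebra K L] :
    IsReduced (L ⊗[K] (K ⊗[A] B)) := by
  letI : Algebra A L := ((algebraMap K L).comp (algebraMap A K)).toAlgebra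
  haveI : IsScalarTower A K L := IsScalarTower.of_algebraMap_eq (fun _ => rfl)
  haveI := hred L
  exact isReduced_of_injective (Algebra.TensorProduct.cancelBaseChange A K L L B)
    (Algebra.TensorProduct.cancelBaseChange A K L L B).injective

include hred in
/-- all tensor powers of `B` have reduced fibres -/
theorem isReduced_tpow (ι : Type) [Finite ι] : IsReduced (K ⊗[A] (⨂[A] _ : ι, B)) := by
  induction ι using Finite.induction_empty_option with
  | of_equiv e ih =>
    rename_i α β
    haveI := ih
    let ψ : (⨂[A] _ : β, B) ≃ₐ[A] (⨂[A] _ : α, B) :=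
      CSA.piReindexAlg A (fun _ : β => B) e.symm
    exact isReduced_of_injective
      (Algebra.TensorProduct.map (AlgHom.id K K) ψ.toAlgHom)
      (Algebra.TensorProduct.congr (AlgEquiv.refl : K ≃ₐ[K] K) ψ).injective
  | h_empty =>
    let ψ : (⨂[A] _ : PEmpty, B) ≃ₐ[A] A := CSA.piEmptyAlg A (fun _ : PEmpty => B)
    have e : K ⊗[A] (⨂[A] _ : PEmpty, B) ≃ₐ[K] K :=
      (Algebra.TensorProduct.congr (AlgEquiv.refl : K ≃ₐ[K] K) ψ).trans
        (Algebra.TensorProduct.rid A K K)
    exact isReduced_of_injective e e.injective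
  | h_option ih =>
    rename_i α _
    haveI := ih
    let ψ : (⨂[A] _ : Option α, B) ≃ₐ[A] (⨂[A] _ : α, B) ⊗[A] B :=
      CSA.piOptionAlg A (fun _ : Option α => B)
    let e : K ⊗[A] (⨂[A] _ : Option α, B) ≃ₐ[K]
        (K ⊗[A] (⨂[A] _ : α, B)) ⊗[K] (K ⊗[A] B) :=
      (Algebra.TensorProduct.congr (AlgEquiv.refl : K ≃ₐ[K] K) ψ).trans
        (bcTensor K B (⨂[A] _ : α, B))
    haveI := isReduced_tensor K (K ⊗[A] (⨂[A] _ : α, B)) (K ⊗[A] B)
      (fun L _ _ => isReduced_field_ext K B hred L)
    exact isReduced_of_injective e e.injective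

end tpow

end Groth.Agent.Lib.Helper15.TensorReduced
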