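import Mathlib
import Groth.Prelude.Def_GLin
import Groth.Prelude.Def_HopfRep

/-!
# Comodules over a group algebra are graded (helper15)
-/

set_option autoImplicit false
set_option linter.style.haveILetI false
universe u v w

namespace Groth.Agent.Lib.Helper15.TorusGrading

open TensorProduct

section general

variable {k : Type u} [Field k] {Λ : Type v} [AddCommGroup Λ] {V : Type w} [AddCommGroup V]
  [Module k V]

open scoped Classical in
/-- `V ⊗ k[Λ] ≃ (Λ →₀ V)` -/
noncomputable def E : V ⊗[k] AddMonoidAlgebra k Λ ≃ₗ[k] (Λ →₀ V) :=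
  (LinearEquiv.lTensor V (AddMonoidAlgebra.coeffLinearEquiv k)).trans
    (TensorProduct.finsuppScalarRight k k V Λ)

lemma E_tmul_single (v : V) (w : Λ) (c : k) :
    E (v ⊗ₜ[k] (AddMonoidAlgebra.single w c : AddMonoidAlgebra k Λ)) = Finsupp.single w (c • v) := by
  classical
  simp only [E, LinearEquiv.trans_apply, LinearEquiv.lTensor_tmul]
  rw [TensorProduct.finsuppScalarRight_apply_tmul]
  simp

lemma E_symm_single (w : Λ) (v : V) :
    (E (k := k) (Λ := Λ) (V := V)).symm (Finsupp.single w v) =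
      v ⊗ₜ[k] (AddMonoidAlgebra.single w 1 : AddMonoidAlgebra k Λ) := by
  rw [LinearEquiv.symm_apply_eq, E_tmul_single, one_smul]

lemma eq_sum (z : V ⊗[k] AddMonoidAlgebra k Λ) :
    z = (E z).sum (fun w v => v ⊗ₜ[k] (AddMonoidAlgebra.single w 1 : AddMonoidAlgebra k Λ)) := by
  have h1 : z = E.symm (E z) := (LinearEquiv.symm_apply_apply _ _).symm
  conv_lhs => rw [h1, ← Finsupp.sum_single (E z)]
  rw [map_finsuppSum]
  refine Finsupp.sum_congr fun w _ => ?_
  rw [E_symm_single]

end general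

section comod

variable {k : Type u} [Field k] {Λ : Type v} [AddCommGroup Λ] {V : Type w} [AddCommGroup V]
  [Module k V] [HopfRep.Comod k (AddMonoidAlgebra k Λ) V]

/-- the homogeneous components -/
noncomputable def D : V →ₗ[k] (Λ →₀ V) :=
  (E (k := k) (Λ := Λ) (V := V)).toLinearMap ∘ₗ HopfRep.Comod.coact (k := k)
    (A := AddMonoidAlgebra k Λ)

lemma coact_eq_sum (f : V) :
    HopfRep.Comod.coact (k := k) (A := AddMonoidAlgebra k Λ) f =
      (D (k := k) (Λ := Λ) f).sum
        (fun w v => v ⊗ₜ[k] (AddMonoidAlgebra.single w 1 : AddMonoidAlgebra k Λ)) :=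
  eq_sum _

lemma mem_eigenspace_iff (f : V) (w : Λ) :
    f ∈ HopfRep.eigenspace k (AddMonoidAlgebra k Λ) V (AddMonoidAlgebra.single w 1) ↔
      D (k := k) (Λ := Λ) f = Finsupp.single w f := by
  show HopfRep.Comod.coact (k := k) (A := AddMonoidAlgebra k Λ) f = _ ↔ _
  constructor
  · intro h
    show E _ = _
    rw [h, E_tmul_single, one_smul]
  · intro h
    rw [coact_eq_sum, h, Finsupp.sum_single_index]
    rw [TensorProduct.zero_tmul]

/-- the sum of the components -/
lemma sum_D (f : V) : (D (k := k) (Λ := Λ) f).sum (fun _ v => v) = f := by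
  have h := congrArg (fun F => F f)
    (HopfRep.Comod.counit_comp (k := k) (A := AddMonoidAlgebra k Λ) (V := V))
  simp only [LinearMap.comp_apply, LinearMap.flip_apply, TensorProduct.mk_apply] at h
  rw [coact_eq_sum, map_finsuppSum] at h
  have h2 := congrArg (TensorProduct.rid k V) h
  have h3 : (TensorProduct.rid k V) (f ⊗ₜ[k] (1 : k)) = f := by
    rw [TensorProduct.rid_tmul, one_smul]
  rw [h3, map_finsuppSum] at h2
  refine Eq.trans ?_ h2
  unfold Finsupp.sum
  refine Finset.sum_congr rfl fun w _ => ?_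
  show _ = (TensorProduct.rid k V) ((LinearMap.lTensor V CoalgebraStruct.counit)
    ((D (k := k) (Λ := Λ) f w) ⊗ₜ[k] AddMonoidAlgebra.single w 1))
  rw [LinearMap.lTensor_tmul, TensorProduct.rid_tmul]
  simp

/-- auxiliary contraction -/
noncomputable def Φ (u : Λ) : V ⊗[k] (AddMonoidAlgebra k Λ ⊗[k] AddMonoidAlgebra k Λ) →ₗ[k]
    V ⊗[k] AddMonoidAlgebra k Λ :=
  LinearMap.lTensor V ((TensorProduct.rid k (AddMonoidAlgebra k Λ)).toLinearMap ∘ₗ
    LinearMap.lTensor (AddMonoidAlgebra k Λ)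
      ((Finsupp.lapply u) ∘ₗ (AddMonoidAlgebra.coeffLinearEquiv k).toLinearMap))

lemma Φ_assoc (u : Λ) (y : V ⊗[k] AddMonoidAlgebra k Λ) (b : AddMonoidAlgebra k Λ) :
    Φ u ((TensorProduct.assoc k V (AddMonoidAlgebra k Λ) (AddMonoidAlgebra k Λ)) (y ⊗ₜ[k] b)) =
      (b.coeff u) • y := by
  induction y using TensorProduct.induction_on with
  | zero => simp
  | tmul v a =>
    simp only [Φ, TensorProduct.assoc_tmul, LinearMap.lTensor_tmul, LinearMap.comp_apply,
      LinearEquiv.coe_coe, TensorProduct.rid_tmul, Finsupp.lapply_apply,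
      AddMonoidAlgebra.coeffLinearEquiv_apply]
    rw [TensorProduct.tmul_smul]
  | add y z hy hz =>
    rw [TensorProduct.add_tmul, map_add, map_add, hy, hz, smul_add]

/-- each component is an eigenvector -/
lemma D_mem_eigenspace (f : V) (u : Λ) :
    D (k := k) (Λ := Λ) f u ∈
      HopfRep.eigenspace k (AddMonoidAlgebra k Λ) V (AddMonoidAlgebra.single u 1) := by
  classical
  show HopfRep.Comod.coact (k := k) (A := AddMonoidAlgebra k Λ) _ = _
  have h := congrArg (fun F => F f)
    (HopfRep.Comod.coassoc (k := k) (A := AddMonoidAlgebra k Λ) (V := V))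
  simp only [LinearMap.comp_apply, LinearEquiv.coe_coe] at h
  rw [coact_eq_sum f] at h
  simp only [map_finsuppSum, LinearMap.rTensor_tmul, LinearMap.lTensor_tmul] at h
  have h2 := congrArg (Φ u) h
  simp only [map_finsuppSum, Φ_assoc] at h2
  have hL : ((D (k := k) (Λ := Λ) f).sum fun w v =>
      ((AddMonoidAlgebra.single w (1 : k) : AddMonoidAlgebra k Λ).coeff u) •
        HopfRep.Comod.coact (k := k) (A := AddMonoidAlgebra k Λ) v) =
      HopfRep.Comod.coact (k := k) (A := AddMonoidAlgebra k Λ) (D (k := k) (Λ := Λ) f u) := by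
    rw [Finsupp.sum, Finset.sum_eq_single u]
    · simp
    · intro w _ hw
      rw [AddMonoidAlgebra.coeff_single, Finsupp.single_eq_of_ne hw.symm, zero_smul]
    · intro hu
      rw [Finsupp.notMem_support_iff.mp hu, map_zero, smul_zero]
  rw [hL] at h2
  rw [h2]
  rw [Finsupp.sum, Finset.sum_eq_single u]
  · have hcomul : CoalgebraStruct.comul (R := k)
        (AddMonoidAlgebra.single u (1 : k) : AddMonoidAlgebra k Λ) =
        AddMonoidAlgebra.single u 1 ⊗ₜ[k] AddMonoidAlgebra.single u 1 :=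
      (AddMonoidAlgebra.isGroupLikeElem_single_one (R := k) (A := k) u).comul_eq_tmul_self
    rw [hcomul]
    simp only [Φ, LinearMap.lTensor_tmul, LinearMap.comp_apply, LinearEquiv.coe_coe,
      TensorProduct.rid_tmul, Finsupp.lapply_apply, AddMonoidAlgebra.coeffLinearEquiv_apply,
      AddMonoidAlgebra.coeff_single, Finsupp.single_eq_same, one_smul]
  · intro w _ hw
    have hcomul : CoalgebraStruct.comul (R := k)
        (AddMonoidAlgebra.single w (1 : k) : AddMonoidAlgebra k Λ) =
        AddMonoidAlgebra.single w 1 ⊗ₜ[k] AddMonoidAlgebra.single w 1 :=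
      (AddMonoidAlgebra.isGroupLikeElem_single_one (R := k) (A := k) w).comul_eq_tmul_self
    rw [hcomul]
    simp only [Φ, LinearMap.lTensor_tmul, LinearMap.comp_apply, LinearEquiv.coe_coe,
      TensorProduct.rid_tmul, Finsupp.lapply_apply, AddMonoidAlgebra.coeffLinearEquiv_apply,
      AddMonoidAlgebra.coeff_single]
    rw [Finsupp.single_eq_of_ne hw.symm, zero_smul, TensorProduct.tmul_zero]
  · intro hu
    rw [Finsupp.notMem_support_iff.mp hu, TensorProduct.zero_tmul, map_zero]

end comod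

section alg

variable {k : Type u} [Field k] {Λ : Type v} [AddCommGroup Λ] {R : Type w} [CommRing R]
  [Algebra k R] [HopfRep.Comod k (AddMonoidAlgebra k Λ) R]
  [GLin.IsCoactAlg k (AddMonoidAlgebra k Λ) R]

lemma D_one : D (k := k) (Λ := Λ) (1 : R) = Finsupp.single 0 1 := by
  show E (HopfRep.Comod.coact (k := k) (A := AddMonoidAlgebra k Λ) (1 : R)) = _
  rw [GLin.IsCoactAlg.coact_one, Algebra.TensorProduct.one_def, AddMonoidAlgebra.one_def,
    E_tmul_single, one_smul]

lemma D_mul_eigen (r g : R) (w : Λ)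
    (hg : g ∈ HopfRep.eigenspace k (AddMonoidAlgebra k Λ) R (AddMonoidAlgebra.single w 1)) :
    D (k := k) (Λ := Λ) (r * g) 0 = D (k := k) (Λ := Λ) r (-w) * g := by
  classical
  have hg' : HopfRep.Comod.coact (k := k) (A := AddMonoidAlgebra k Λ) g =
      g ⊗ₜ[k] AddMonoidAlgebra.single w 1 := hg
  have h1 : D (k := k) (Λ := Λ) (r * g) =
      (D (k := k) (Λ := Λ) r).sum fun u v => Finsupp.single (u + w) (v * g) := by
    show E (HopfRep.Comod.coact (k := k) (A := AddMonoidAlgebra k Λ) (r * g)) = _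
    rw [GLin.IsCoactAlg.coact_mul, hg', coact_eq_sum r, Finsupp.sum, Finset.sum_mul, map_sum,
      Finsupp.sum]
    refine Finset.sum_congr rfl fun u _ => ?_
    rw [Algebra.TensorProduct.tmul_mul_tmul, AddMonoidAlgebra.single_mul_single, mul_one,
      E_tmul_single, one_smul]
  rw [h1, Finsupp.sum_apply, Finsupp.sum, Finset.sum_eq_single (-w)]
  · rw [neg_add_cancel, Finsupp.single_eq_same]
  · intro u _ hu
    rw [Finsupp.single_eq_of_ne]
    intro h
    apply hu
    exact eq_neg_of_add_eq_zero_left h.symm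
  · intro h
    rw [Finsupp.notMem_support_iff.mp h, zero_mul, Finsupp.single_zero, Finsupp.zero_apply]

/-- the ideal generated by the eigenvectors of nonzero weight -/
def Ipos (k : Type u) [Field k] (Λ : Type v) [AddCommGroup Λ] (R : Type w) [CommRing R]
    [Algebra k R] [HopfRep.Comod k (AddMonoidAlgebra k Λ) R] : Ideal R :=
  Ideal.span {f : R | ∃ w : Λ, w ≠ 0 ∧
    f ∈ HopfRep.eigenspace k (AddMonoidAlgebra k Λ) R (AddMonoidAlgebra.single w 1)}

variable (hpos : ∀ w : Λ,
    HopfRep.eigenspace k (AddMonoidAlgebra k Λ) R (AddMonoidAlgebra.single w 1) ≠ ⊥ →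
    HopfRep.eigenspace k (AddMonoidAlgebra k Λ) R (AddMonoidAlgebra.single (-w) 1) ≠ ⊥ → w = 0)

include hpos in
lemma D_zero_of_mem_Ipos (b : R) (hb : b ∈ Ipos k Λ R) : D (k := k) (Λ := Λ) b 0 = 0 := by
  have key : ∀ r : R, D (k := k) (Λ := Λ) (r * b) 0 = 0 := by
    refine Submodule.span_induction ?_ ?_ ?_ ?_ hb
    · rintro f ⟨w, hw, hf⟩ r
      rw [D_mul_eigen r f w hf]
      by_cases hf0 : f = 0
      · rw [hf0, mul_zero]
      · have h1 : HopfRep.eigenspace k (AddMonoidAlgebra k Λ) R (AddMonoidAlgebra.single w 1) ≠ ⊥ := by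
          intro h
          apply hf0
          have : f ∈ (⊥ : Submodule k R) := h ▸ hf
          exact (Submodule.mem_bot k).mp this
        have h2 : HopfRep.eigenspace k (AddMonoidAlgebra k Λ) R
            (AddMonoidAlgebra.single (-w) 1) = ⊥ := by
          by_contra h
          exact hw (hpos w h1 h)
        have h3 := D_mem_eigenspace (k := k) (Λ := Λ) r (-w)
        rw [h2, Submodule.mem_bot] at h3
        rw [h3, zero_mul]
    · intro r
      rw [mul_zero, LinearMap.map_zero (D (k := k) (Λ := Λ) (V := R))]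
      rfl
    · intro x y _ _ hx hy r
      rw [mul_add, map_add, Finsupp.add_apply, hx, hy, add_zero]
    · intro a x _ hx r
      rw [smul_eq_mul, ← mul_assoc]
      exact hx _
  have := key 1
  rwa [one_mul] at this

lemma sub_D_zero_mem_Ipos (f : R) : f - D (k := k) (Λ := Λ) f 0 ∈ Ipos k Λ R := by
  classical
  have h1 := sum_D (k := k) (Λ := Λ) f
  have h2 : f - D (k := k) (Λ := Λ) f 0 =
      ∑ w ∈ (D (k := k) (Λ := Λ) f).support.erase 0, D (k := k) (Λ := Λ) f w := by
    have h3 : f = ∑ w ∈ (D (k := k) (Λ := Λ) f).support, D (k := k) (Λ := Λ) f w := h1.symm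
    by_cases h0 : (0 : Λ) ∈ (D (k := k) (Λ := Λ) f).support
    · rw [← Finset.add_sum_erase _ _ h0] at h3
      rw [sub_eq_iff_eq_add, add_comm]
      exact h3
    · rw [Finset.erase_eq_of_notMem h0, Finsupp.notMem_support_iff.mp h0, sub_zero]
      exact h3
  rw [h2]
  refine Ideal.sum_mem _ fun w hw => ?_
  apply Ideal.subset_span
  exact ⟨w, (Finset.mem_erase.mp hw).1, D_mem_eigenspace f w⟩

lemma mem_invariants_iff_D (f : R) :
    f ∈ GLin.invariants k (AddMonoidAlgebra k Λ) R ↔
      D (k := k) (Λ := Λ) f = Finsupp.single 0 f := by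
  rw [← mem_eigenspace_iff, GLin.mem_invariants_iff]
  show _ ↔ HopfRep.Comod.coact (k := k) (A := AddMonoidAlgebra k Λ) f = _
  rw [AddMonoidAlgebra.one_def]

include hpos in
theorem bijective_invariants :
    Function.Bijective
      ((Ideal.Quotient.mkₐ k (Ipos k Λ R)).comp
        (GLin.invariants k (AddMonoidAlgebra k Λ) R).val) := by
  constructor
  · rw [injective_iff_map_eq_zero]
    rintro ⟨f, hf⟩ h
    have h1 : f ∈ Ipos k Λ R := Ideal.Quotient.eq_zero_iff_mem.mp h
    have h2 := D_zero_of_mem_Ipos hpos f h1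
    rw [(mem_invariants_iff_D f).mp hf, Finsupp.single_eq_same] at h2
    exact Subtype.ext h2
  · intro y
    obtain ⟨f, rfl⟩ := Ideal.Quotient.mk_surjective y
    have hinv : D (k := k) (Λ := Λ) f 0 ∈ GLin.invariants k (AddMonoidAlgebra k Λ) R := by
      rw [mem_invariants_iff_D, ← mem_eigenspace_iff]
      exact D_mem_eigenspace f 0
    refine ⟨⟨_, hinv⟩, ?_⟩
    show Ideal.Quotient.mk _ (D (k := k) (Λ := Λ) f 0) = Ideal.Quotient.mk _ f
    rw [eq_comm, Ideal.Quotient.eq]
    exact sub_D_zero_mem_Ipos f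

section orbit

variable (x : R →ₐ[k] k)

lemma orbitHom_eq (f : R) :
    GLin.orbitHom k (AddMonoidAlgebra k Λ) x f =
      (D (k := k) (Λ := Λ) f).sum
        fun w v => x v • (AddMonoidAlgebra.single w 1 : AddMonoidAlgebra k Λ) := by
  have h2 : GLin.orbitHom k (AddMonoidAlgebra k Λ) x f =
      (Algebra.TensorProduct.lid k (AddMonoidAlgebra k Λ))
        (Algebra.TensorProduct.map x (AlgHom.id k (AddMonoidAlgebra k Λ))
          (HopfRep.Comod.coact (k := k) (A := AddMonoidAlgebra k Λ) f)) := rfl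
  rw [h2, coact_eq_sum, map_finsuppSum, map_finsuppSum]
  unfold Finsupp.sum
  refine Finset.sum_congr rfl fun w _ => ?_
  show (Algebra.TensorProduct.lid k (AddMonoidAlgebra k Λ))
      ((Algebra.TensorProduct.map x (AlgHom.id k (AddMonoidAlgebra k Λ)))
        ((D (k := k) (Λ := Λ) f w) ⊗ₜ[k] AddMonoidAlgebra.single w 1)) = _
  rw [Algebra.TensorProduct.map_tmul, Algebra.TensorProduct.lid_tmul, AlgHom.id_apply]

lemma orbitHom_eigen (f : R) (w : Λ)
    (hf : f ∈ HopfRep.eigenspace k (AddMonoidAlgebra k Λ) R (AddMonoidAlgebra.single w 1)) :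
    GLin.orbitHom k (AddMonoidAlgebra k Λ) x f =
      x f • (AddMonoidAlgebra.single w 1 : AddMonoidAlgebra k Λ) := by
  rw [orbitHom_eq, (mem_eigenspace_iff f w).mp hf, Finsupp.sum_single_index]
  rw [map_zero, zero_smul]

lemma coeff_orbitHom_zero (f : R) :
    (GLin.orbitHom k (AddMonoidAlgebra k Λ) x f).coeff 0 = x (D (k := k) (Λ := Λ) f 0) := by
  classical
  rw [orbitHom_eq, Finsupp.sum, AddMonoidAlgebra.coeff_sum, Finsupp.finset_sum_apply,
    Finset.sum_eq_single 0]
  · rw [AddMonoidAlgebra.coeff_smul_apply, AddMonoidAlgebra.coeff_single, Finsupp.single_eq_same,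
      smul_eq_mul, mul_one]
  · intro w _ hw
    rw [AddMonoidAlgebra.coeff_smul_apply, AddMonoidAlgebra.coeff_single,
      Finsupp.single_eq_of_ne hw.symm, smul_zero]
  · intro h
    rw [Finsupp.notMem_support_iff.mp h, map_zero x, zero_smul]
    rfl

lemma apply_eq_apply_D_zero (h : ∀ w : Λ, w ≠ 0 → ∀ f ∈
    HopfRep.eigenspace k (AddMonoidAlgebra k Λ) R (AddMonoidAlgebra.single w 1), x f = 0) (f : R) :
    x f = x (D (k := k) (Λ := Λ) f 0) := by
  classical
  conv_lhs => rw [← sum_D (k := k) (Λ := Λ) f]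
  rw [Finsupp.sum, map_sum]
  by_cases h0 : (0 : Λ) ∈ (D (k := k) (Λ := Λ) f).support
  · rw [Finset.sum_eq_single_of_mem 0 h0]
    intro w _ hw
    exact h w hw _ (D_mem_eigenspace f w)
  · rw [Finsupp.notMem_support_iff.mp h0, map_zero]
    apply Finset.sum_eq_zero
    intro w hw
    have hw0 : w ≠ 0 := fun h' => h0 (h' ▸ hw)
    exact h w hw0 _ (D_mem_eigenspace f w)

theorem isFixedPt_of (h : ∀ w : Λ, w ≠ 0 → ∀ f ∈
    HopfRep.eigenspace k (AddMonoidAlgebra k Λ) R (AddMonoidAlgebra.single w 1), x f = 0) :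
    GLin.IsFixedPt k (AddMonoidAlgebra k Λ) x := by
  classical
  unfold GLin.IsFixedPt
  apply AlgHom.ext
  intro f
  rw [AlgHom.comp_apply, orbitHom_eq]
  have h1 : ∀ w ∈ (D (k := k) (Λ := Λ) f).support, w ≠ 0 →
      x (D (k := k) (Λ := Λ) f w) • (AddMonoidAlgebra.single w 1 : AddMonoidAlgebra k Λ) = 0 := by
    intro w _ hw
    rw [h w hw _ (D_mem_eigenspace f w), zero_smul]
  have h2 : (D (k := k) (Λ := Λ) f).sum
      (fun w v => x v • (AddMonoidAlgebra.single w 1 : AddMonoidAlgebra k Λ)) =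
      x (D (k := k) (Λ := Λ) f 0) • (AddMonoidAlgebra.single 0 1 : AddMonoidAlgebra k Λ) := by
    rw [Finsupp.sum]
    by_cases h0 : (0 : Λ) ∈ (D (k := k) (Λ := Λ) f).support
    · exact Finset.sum_eq_single_of_mem 0 h0 (fun w hw hw0 => h1 w hw hw0)
    · rw [Finsupp.notMem_support_iff.mp h0, map_zero, zero_smul]
      apply Finset.sum_eq_zero
      intro w hw
      exact h1 w hw (fun h' => h0 (h' ▸ hw))
  rw [h2, ← apply_eq_apply_D_zero x h f, ← AddMonoidAlgebra.one_def, Algebra.ofId_apply,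
    Algebra.algebraMap_eq_smul_one]

include hpos in
theorem isFixedPt_of_isClosedOrbit (hcl : GLin.IsClosedOrbit k (AddMonoidAlgebra k Λ) x) :
    GLin.IsFixedPt k (AddMonoidAlgebra k Λ) x := by
  classical
  set φ := GLin.orbitHom k (AddMonoidAlgebra k Λ) x with hφ
  have hZ : Set.range (PrimeSpectrum.comap φ.toRingHom) =
      PrimeSpectrum.zeroLocus (RingHom.ker φ.toRingHom) := by
    rw [← PrimeSpectrum.closure_range_comap]
    exact (IsClosed.closure_eq hcl).symm
  have hJ : RingHom.ker φ.toRingHom ⊔ Ipos k Λ R ≠ ⊤ := by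
    intro htop
    have h1 : (1 : R) ∈ RingHom.ker φ.toRingHom ⊔ Ipos k Λ R := by rw [htop]; trivial
    obtain ⟨a, ha, b, hb, hab⟩ := Submodule.mem_sup.mp h1
    have h2 : D (k := k) (Λ := Λ) (1 : R) 0 = 1 := by
      rw [D_one, Finsupp.single_eq_same]
    have h3 : x (D (k := k) (Λ := Λ) a 0) = 0 := by
      rw [← coeff_orbitHom_zero]
      have : φ a = 0 := ha
      rw [← hφ, this]
      rfl
    have h4 : D (k := k) (Λ := Λ) b 0 = 0 := D_zero_of_mem_Ipos hpos b hb
    have h5 : D (k := k) (Λ := Λ) (a + b) 0 = D (k := k) (Λ := Λ) a 0 + D (k := k) (Λ := Λ) b 0 := by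
      rw [map_add, Finsupp.add_apply]
    rw [hab, h2, h4, add_zero] at h5
    rw [← h5, map_one] at h3
    exact one_ne_zero h3
  obtain ⟨p, hp, hJp⟩ := Ideal.exists_le_maximal _ hJ
  have hpZ : (⟨p, hp.isPrime⟩ : PrimeSpectrum R) ∈
      PrimeSpectrum.zeroLocus (RingHom.ker φ.toRingHom : Set R) := by
    rw [PrimeSpectrum.mem_zeroLocus]
    exact fun a ha => hJp (Submodule.mem_sup_left ha)
  rw [← hZ] at hpZ
  obtain ⟨q, hq⟩ := hpZ
  apply isFixedPt_of
  intro w hw f hf
  by_contra hne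
  have hfp : f ∈ p := hJp (Submodule.mem_sup_right (Ideal.subset_span ⟨w, hw, hf⟩))
  have hfq : φ f ∈ q.asIdeal := by
    have : f ∈ (PrimeSpectrum.comap φ.toRingHom q).asIdeal := by rw [hq]; exact hfp
    exact this
  rw [hφ, orbitHom_eigen x f w hf] at hfq
  have h1 : (AddMonoidAlgebra.single w 1 : AddMonoidAlgebra k Λ) ∈ q.asIdeal := by
    have := Submodule.smul_mem q.asIdeal
      (algebraMap k (AddMonoidAlgebra k Λ) (x f)⁻¹) hfq
    rw [smul_eq_mul, ← Algebra.smul_def, smul_smul, inv_mul_cancel₀ hne, one_smul] at this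
    exact this
  have h2 : (1 : AddMonoidAlgebra k Λ) ∈ q.asIdeal := by
    have := q.asIdeal.mul_mem_left (AddMonoidAlgebra.single (-w) 1) h1
    rwa [AddMonoidAlgebra.single_mul_single, neg_add_cancel, mul_one,
      ← AddMonoidAlgebra.one_def] at this
  exact q.2.ne_top ((Ideal.eq_top_iff_one _).mpr h2)

theorem isClosedOrbit_of_isFixedPt (hfix : GLin.IsFixedPt k (AddMonoidAlgebra k Λ) x) :
    GLin.IsClosedOrbit k (AddMonoidAlgebra k Λ) x := by
  unfold GLin.IsClosedOrbit
  unfold GLin.IsFixedPt at hfix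
  haveI hmax : (RingHom.ker x.toRingHom).IsMaximal :=
    RingHom.ker_isMaximal_of_surjective x.toRingHom (fun c => ⟨algebraMap k R c, by simp⟩)
  let p₀ : PrimeSpectrum R := ⟨RingHom.ker x.toRingHom, hmax.isPrime⟩
  have hrange : Set.range (PrimeSpectrum.comap
      (GLin.orbitHom k (AddMonoidAlgebra k Λ) x).toRingHom) = {p₀} := by
    ext p
    simp only [Set.mem_range, Set.mem_singleton_iff]
    have key : ∀ q : PrimeSpectrum (AddMonoidAlgebra k Λ),
        PrimeSpectrum.comap (GLin.orbitHom k (AddMonoidAlgebra k Λ) x).toRingHom q = p₀ := by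
      intro q
      apply PrimeSpectrum.ext
      ext f
      show GLin.orbitHom k (AddMonoidAlgebra k Λ) x f ∈ q.asIdeal ↔ x f = 0
      rw [hfix, AlgHom.comp_apply, Algebra.ofId_apply]
      constructor
      · intro h
        by_contra hne
        have : (1 : AddMonoidAlgebra k Λ) ∈ q.asIdeal := by
          have := q.asIdeal.mul_mem_left (algebraMap k (AddMonoidAlgebra k Λ) (x f)⁻¹) h
          rwa [← map_mul, inv_mul_cancel₀ hne, map_one] at this
        exact q.2.ne_top ((Ideal.eq_top_iff_one _).mpr this)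
      · intro h
        rw [h, map_zero]
        exact zero_mem _
    constructor
    · rintro ⟨q, rfl⟩
      exact key q
    · rintro rfl
      obtain ⟨q⟩ : Nonempty (PrimeSpectrum (AddMonoidAlgebra k Λ)) := inferInstance
      exact ⟨q, key q⟩
  rw [hrange, PrimeSpectrum.isClosed_singleton_iff_isMaximal]
  exact hmax

end orbit

end alg

end Groth.Agent.Lib.Helper15.TorusGrading
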