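import Mathlib
import Groth.Agent.Lib.Helper15.GenericNorm

/-!
# Symmetric tensors act on the top exterior power through the norm (helper15)
-/

set_option autoImplicit false
universe u
open scoped TensorProduct
open MvPolynomial PiTensorProduct

namespace Groth.Agent.Lib.Helper15.TpowActNorm

open Groth.Agent.Lib.Helper15.PolLawGeneric Groth.Agent.Lib.Helper15.AltSpanDet
  Groth.Agent.Lib.Helper15.GenericNorm

variable {R : Type u} [CommRing R] {R' : Type u} [CommRing R'] [Algebra R R'] {d : ℕ}

theorem tpowAct_tprod_tprod (a p : Fin d → R') :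
    SymTen.tpowAct R R' R' d (tprod R a) (tprod R p) = tprod R (fun j => a j * p j) := by
  unfold SymTen.tpowAct
  rw [PiTensorProduct.lift.tprod]
  simp [PiTensorProduct.map_tprod]

theorem tpowAct_eq_mul (t x : ⨂[R] _ : Fin d, R') :
    SymTen.tpowAct R R' R' d t x = t * x := by
  induction t using PiTensorProduct.induction_on with
  | smul_tprod r a =>
    induction x using PiTensorProduct.induction_on with
    | smul_tprod s p =>
      rw [map_smul (SymTen.tpowAct R R' R' d) r, LinearMap.smul_apply, map_smul,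
        tpowAct_tprod_tprod, smul_mul_assoc,
        mul_smul_comm, PiTensorProduct.tprod_mul_tprod]
      rfl
    | add x y hx hy => rw [map_add, hx, hy, mul_add]
  | add t t' ht ht' => rw [map_add, LinearMap.add_apply, ht, ht', add_mul]

/-- the product of the `d` coordinate embeddings of the generic element -/
theorem prod_single_gen (b : Module.Basis (Fin d) R R') :
    ∏ j : Fin d, Algebra.TensorProduct.map (AlgHom.id (MvPolynomial (Fin d) R) (MvPolynomial (Fin d) R))
        (PiTensorProduct.singleAlgHom (R := R) (A := fun _ : Fin d => R') j) (gen b) =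
      ∑ K : Fin d → Fin d, (∏ j, (X (K j) : MvPolynomial (Fin d) R)) ⊗ₜ[R]
        tprod R (fun j => b (K j)) := by
  classical
  have h1 : ∀ j : Fin d, Algebra.TensorProduct.map
      (AlgHom.id (MvPolynomial (Fin d) R) (MvPolynomial (Fin d) R))
        (PiTensorProduct.singleAlgHom (R := R) (A := fun _ : Fin d => R') j) (gen b) =
      ∑ i, (X i : MvPolynomial (Fin d) R) ⊗ₜ[R]
        (PiTensorProduct.singleAlgHom (R := R) (A := fun _ : Fin d => R') j (b i)) := by
    intro j
    unfold gen
    rw [map_sum]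
    refine Finset.sum_congr rfl fun i _ => ?_
    rw [Algebra.TensorProduct.map_tmul, AlgHom.id_apply]
  simp_rw [h1]
  rw [Finset.prod_univ_sum, Fintype.piFinset_univ]
  refine Finset.sum_congr rfl fun K _ => ?_
  have h2 : ∀ (s : Finset (Fin d)), ∏ j ∈ s, ((X (K j) : MvPolynomial (Fin d) R) ⊗ₜ[R]
        (PiTensorProduct.singleAlgHom (R := R) (A := fun _ : Fin d => R') j (b (K j)))) =
      (∏ j ∈ s, (X (K j) : MvPolynomial (Fin d) R)) ⊗ₜ[R]
        (∏ j ∈ s, PiTensorProduct.singleAlgHom (R := R) (A := fun _ : Fin d => R') j (b (K j))) := by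
    intro s
    induction s using Finset.induction_on with
    | empty => simp [Algebra.TensorProduct.one_def]
    | insert j s hj ih =>
      rw [Finset.prod_insert hj, Finset.prod_insert hj, Finset.prod_insert hj, ih,
        Algebra.TensorProduct.tmul_mul_tmul]
  rw [h2]
  congr 1
  simp only [PiTensorProduct.singleAlgHom_apply, MonoidHom.mulSingle_apply]
  rw [← PiTensorProduct.tprod_prod]
  exact congrArg _ (Finset.univ_prod_mulSingle (fun j : Fin d => b (K j)))

section main

variable [Module.Free R R'] [Module.Finite R R'] (hd : Module.finrank R R' = d)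
  {C : Type u} [CommRing C] [Algebra R C] (γ : PolLaw.MulLaw R R' C d)
  (φ : C →ₐ[R] (⨂[R] _ : Fin d, R')) (hφ : PolLaw.MulLaw.postcomp φ γ = SymTen.tpowLaw R R' d)
  (π : C →ₐ[R] R) (hπ : PolLaw.MulLaw.postcomp π γ = PolLaw.normLaw R R' d hd)
  (b : Module.Basis (Fin d) R R')

local notation "P" => MvPolynomial (Fin d) R

include hφ hπ in
/-- the key identity on generic coefficients -/
theorem detFun_gcoeff (β : Fin d →₀ ℕ) (p : Fin d → R') :
    detFun b (φ (gcoeff b γ β) * tprod R p) = π (gcoeff b γ β) * b.det p := by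
  classical
  set f := gcoeff b γ with hf
  by_cases hβ : β ∈ f.support
  swap
  · rw [Finsupp.notMem_support_iff] at hβ
    rw [hβ, map_zero, map_zero, zero_mul, zero_mul, map_zero]
  -- the two identities at the generic point
  have e1 : ∑ α ∈ f.support, (monomial α (1 : R) : P) ⊗ₜ[R] φ (f α) =
      ∑ K : Fin d → Fin d, (∏ j, (X (K j) : P)) ⊗ₜ[R] tprod R (fun j => b (K j)) := by
    have h := congrArg (fun F : PolLaw.MulLaw R R' (⨂[R] _ : Fin d, R') d =>
      F.law.toFun' P (gen b)) hφ
    have h' : φ.toLinearMap.lTensor P (γ.law.toFun' P (gen b)) =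
        ∏ j : Fin d, Algebra.TensorProduct.map (AlgHom.id P P)
          (PiTensorProduct.singleAlgHom (R := R) (A := fun _ : Fin d => R') j) (gen b) := h
    rw [prod_single_gen, gcoeff_spec, map_sum] at h'
    rw [← h']
    refine Finset.sum_congr rfl fun α _ => ?_
    rw [LinearMap.lTensor_tmul]
    rfl
  have e2 : ∑ α ∈ f.support, (monomial α (1 : R) : P) ⊗ₜ[R] π (f α) =
      Algebra.norm P (gen b) ⊗ₜ[R] (1 : R) := by
    have h := congrArg (fun F : PolLaw.MulLaw R R' R d => F.law.toFun' P (gen b)) hπ
    have h' : π.toLinearMap.lTensor P (γ.law.toFun' P (gen b)) =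
        (PolLaw.normLaw R R' d hd).law.toFun' P (gen b) := h
    rw [PolLaw.normLaw_apply, gcoeff_spec, map_sum] at h'
    rw [← h']
    refine Finset.sum_congr rfl fun α _ => ?_
    rw [LinearMap.lTensor_tmul]
    rfl
  -- the functional
  let L : (⨂[R] _ : Fin d, R') →ₗ[R] R := (detFun b) ∘ₗ (LinearMap.mulRight R (tprod R p))
  have hL : ∀ t, L t = detFun b (t * tprod R p) := fun t => rfl
  let Λ : P ⊗[R] (⨂[R] _ : Fin d, R') →ₗ[R] P :=
    (TensorProduct.rid R P).toLinearMap ∘ₗ (L.lTensor P)
  have hΛ : ∀ (q : P) (t : ⨂[R] _ : Fin d, R'), Λ (q ⊗ₜ[R] t) = L t • q := by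
    intro q t
    simp only [Λ, LinearMap.comp_apply, LinearMap.lTensor_tmul, LinearEquiv.coe_coe,
      TensorProduct.rid_tmul]
  have e3 := congrArg Λ e1
  rw [map_sum, map_sum] at e3
  simp only [hΛ] at e3
  have e4 := congrArg (TensorProduct.rid R P) e2
  rw [map_sum] at e4
  simp only [TensorProduct.rid_tmul, one_smul] at e4
  -- right side of e3 via the generic norm identity
  have e5 : ∑ K : Fin d → Fin d, L (tprod R (fun j => b (K j))) • (∏ j, (X (K j) : P)) =
      Algebra.norm P (gen b) * MvPolynomial.C (b.det p) := by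
    rw [← generic_norm_identity]
    refine Finset.sum_congr rfl fun K _ => ?_
    rw [hL, PiTensorProduct.tprod_mul_tprod, detFun_tprod, smul_eq_C_mul, mul_comm]
    rfl
  rw [e5, ← e4] at e3
  -- compare coefficients at β
  have e6 := congrArg (coeff β) e3
  rw [mul_comm, coeff_C_mul, coeff_sum, coeff_sum] at e6
  simp only [coeff_smul, coeff_monomial, smul_eq_mul, mul_ite, mul_one, mul_zero,
    Finset.sum_ite_eq', hβ, if_true] at e6
  rw [← hL, e6, mul_comm]

include hφ hπ in
theorem detFun_gcoeff_mul (β : Fin d →₀ ℕ) (x : ⨂[R] _ : Fin d, R') :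
    detFun b (φ (gcoeff b γ β) * x) = π (gcoeff b γ β) * detFun b x := by
  induction x using PiTensorProduct.induction_on with
  | smul_tprod r p =>
    rw [mul_smul_comm, map_smul, map_smul, detFun_gcoeff hd γ φ hφ π hπ b β p, detFun_tprod,
      smul_eq_mul, smul_eq_mul]
    ring
  | add x y hx hy => rw [mul_add, map_add, map_add, hx, hy, mul_add]

include hφ hπ in
theorem detFun_mul_all (hγ : PolLaw.IsGammaD γ) (c : C) (x : ⨂[R] _ : Fin d, R') :
    detFun b (φ c * x) = π c * detFun b x := by
  have hc : c ∈ Algebra.adjoin R (Set.range (gcoeff b γ)) := by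
    rw [adjoin_gcoeff_eq_top b γ hγ]; trivial
  revert x
  induction hc using Algebra.adjoin_induction with
  | mem c hc =>
    obtain ⟨β, rfl⟩ := hc
    intro x
    exact detFun_gcoeff_mul hd γ φ hφ π hπ b β x
  | algebraMap r =>
    intro x
    rw [AlgHom.commutes, AlgHom.commutes, Algebra.algebraMap_eq_smul_one, smul_mul_assoc, one_mul,
      map_smul, Algebra.algebraMap_eq_smul_one, smul_eq_mul, smul_eq_mul, mul_one]
  | add c c' _ _ h h' =>
    intro x
    rw [map_add, map_add, add_mul, map_add, h, h', add_mul]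
  | mul c c' _ _ h h' =>
    intro x
    rw [map_mul φ, map_mul π, mul_assoc, h, h', mul_assoc]

include hφ hπ b in
theorem main (hγ : PolLaw.IsGammaD γ) (c : C) (x : ⨂[R] _ : Fin d, R') :
    SymTen.tpowAct R R' R' d (φ c) x - π c • x ∈ SymTen.altSpan R R' d := by
  rw [tpowAct_eq_mul, mem_altSpan_iff b, map_sub, map_smul,
    detFun_mul_all hd γ φ hφ π hπ b hγ c x, smul_eq_mul, sub_self]

end main

end Groth.Agent.Lib.Helper15.TpowActNorm
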