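import Mathlib

/-!
# UI1: upper bounds of chains of subobjects disjoint from a fixed subobject (AB5)
-/

set_option autoImplicit false
universe w v u
open CategoryTheory CategoryTheory.Limits

namespace Groth.Agent.Lib.Helper15.UI1

variable {C : Type u} [Category.{v} C] [Abelian C]

lemma eq_bot_iff_arrow {E : C} (P : Subobject E) : P = ⊥ ↔ P.arrow = 0 := by
  conv_lhs => rw [← Subobject.mk_arrow P]
  exact Subobject.mk_eq_bot_iff_zero

lemma inf_eq_bot_iff {E : C} (A B : Subobject E) :
    A ⊓ B = ⊥ ↔ ∀ {T : C} (x : T ⟶ E), A.Factors x → B.Factors x → x = 0 := by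
  constructor
  · intro h T x hA hB
    have : (A ⊓ B).Factors x := (Subobject.inf_factors x).2 ⟨hA, hB⟩
    rw [h] at this
    exact (Subobject.bot_factors_iff_zero x).1 this
  · intro h
    rw [eq_bot_iff_arrow]
    exact h _ (Subobject.inf_arrow_factors_left A B) (Subobject.inf_arrow_factors_right A B)

lemma factors_of_comp_cokernel_zero {E T : C} (U : Subobject E) (x : T ⟶ E)
    (hx : x ≫ cokernel.π U.arrow = 0) : U.Factors x := by
  rw [← Abelian.monoLift_comp U.arrow x hx]
  exact Subobject.factors_comp_arrow _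

lemma mono_comp_cokernel {E : C} {A U : Subobject E} (h : A ⊓ U = ⊥) :
    Mono (A.arrow ≫ cokernel.π U.arrow) := by
  apply Preadditive.mono_of_cancel_zero
  intro T x hx
  have h1 : U.Factors (x ≫ A.arrow) :=
    factors_of_comp_cokernel_zero U _ (by simpa using hx)
  have h2 : A.Factors (x ≫ A.arrow) := Subobject.factors_comp_arrow x
  have h3 := (inf_eq_bot_iff A U).1 h _ h2 h1
  exact zero_of_comp_mono A.arrow h3

section AB5

variable {E : C} {J : Type w} [Preorder J] (g : J → Subobject E) (hg : Monotone g)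
  (U : Subobject E) (h : ∀ j, g j ⊓ U = ⊥)

/-- the diagram of the `g j`, viewed as subobjects of `E / U`. -/
noncomputable def FQ : J ⥤ MonoOver (cokernel U.arrow) where
  obj j := @MonoOver.mk _ _ _ _ ((g j).arrow ≫ cokernel.π U.arrow) (mono_comp_cokernel (h j))
  map {j j'} φ := MonoOver.homMk (Subobject.ofLE _ _ (hg (leOfHom φ)))
    (by simp)
  map_id _ := Subsingleton.elim _ _
  map_comp _ _ := Subsingleton.elim _ _

variable [IsGrothendieckAbelian.{w} C] [IsDirected J (· ≤ ·)] [Nonempty J]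

include hg h in
lemma exists_ub_of_directed :
    ∃ ub : Subobject E, ub ⊓ U = ⊥ ∧ ∀ j, g j ≤ ub := by
  let p := cokernel.π U.arrow
  let F := FQ g hg U h
  let G := F ⋙ MonoOver.forget _ ⋙ Over.forget _
  let f : colimit G ⟶ E := colimit.desc G ⟨E,
    { app := fun j => (g j).arrow
      naturality := fun j j' φ => by
        dsimp
        rw [Category.comp_id]
        exact Subobject.ofLE_arrow _ }⟩
  have hf : ∀ j, colimit.ι G j ≫ f = (g j).arrow := fun j => colimit.ι_desc _ _
  have hmfp : Mono (f ≫ p) :=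
    IsGrothendieckAbelian.mono_of_isColimit_monoOver F (colimit.isColimit G) (f ≫ p)
      (fun j => (Category.assoc _ _ _).symm.trans (congrArg (· ≫ p) (hf j)))
  have hmf : Mono f := mono_of_mono f p
  refine ⟨Subobject.mk f, ?_, fun j => ?_⟩
  · rw [inf_eq_bot_iff]
    intro T x hx hU
    obtain ⟨a, ha⟩ := (Subobject.mk_factors_iff _ _).1 hx
    have ha' : a ≫ f = x := ha
    have h0 : a ≫ f ≫ p = 0 := by
      rw [← Category.assoc, ha', ← U.factorThru_arrow x hU, Category.assoc]
      dsimp [p]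
      rw [cokernel.condition, comp_zero]
    have ha0 : a = 0 := hmfp.right_cancellation a 0 (h0.trans zero_comp.symm)
    rw [← ha', ha0, zero_comp]
  · exact Subobject.le_mk_of_comm (colimit.ι G j) (hf j)

end AB5

variable [IsGrothendieckAbelian.{w} C]

lemma exists_ub_of_chain {E : C} (U : Subobject E) (c : Set (Subobject E))
    (hc : IsChain (· ≤ ·) c) (y : Subobject E) (hy : y ∈ c) (h : ∀ W ∈ c, W ⊓ U = ⊥) :
    ∃ ub : Subobject E, ub ⊓ U = ⊥ ∧ ∀ z ∈ c, z ≤ ub := by
  have hls : LocallySmall.{w} C := inferInstance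
  have hsm : Small.{w} (Subobject E) := inferInstance
  let J := Shrink.{w} ↥c
  let g : J → Subobject E := fun j => ((equivShrink ↥c).symm j).1
  have hg : Monotone g := fun a b hab => hab
  haveI : Nonempty J := ⟨equivShrink _ ⟨y, hy⟩⟩
  haveI : IsDirected J (· ≤ ·) := ⟨fun a b => by
    rcases hc.total ((equivShrink ↥c).symm a).2 ((equivShrink ↥c).symm b).2 with h1 | h1
    · exact ⟨b, h1, le_rfl⟩
    · exact ⟨a, le_rfl, h1⟩⟩
  obtain ⟨ub, h1, h2⟩ := exists_ub_of_directed g hg U (fun j => h _ ((equivShrink ↥c).symm j).2)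
  refine ⟨ub, h1, fun z hz => ?_⟩
  have := h2 (equivShrink _ ⟨z, hz⟩)
  simpa [g] using this

lemma exists_maximal_disjoint {E : C} (U X : Subobject E) (hX : X ⊓ U = ⊥) :
    ∃ W : Subobject E, X ≤ W ∧ W ⊓ U = ⊥ ∧
      ∀ W' : Subobject E, W ≤ W' → W' ⊓ U = ⊥ → W' = W := by
  obtain ⟨m, hxm, hm⟩ := zorn_le_nonempty₀ {W : Subobject E | W ⊓ U = ⊥}
    (fun c hcs hc y hy => by
      obtain ⟨ub, h1, h2⟩ := exists_ub_of_chain U c hc y hy (fun W hW => hcs hW)
      exact ⟨ub, h1, h2⟩) X hX
  exact ⟨m, hxm, hm.1, fun W' hle hW' => le_antisymm (hm.2 hW' hle) hle⟩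

end Groth.Agent.Lib.Helper15.UI1
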