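import Groth.Agent.Lib.Helper15.UI1

/-!
# UI2: mutually complementary subobjects of an injective object split it
-/

set_option autoImplicit false
universe w v u
open CategoryTheory CategoryTheory.Limits

namespace Groth.Agent.Lib.Helper15.UI2

open Groth.Agent.Lib.Helper15

variable {C : Type u} [Category.{v} C] [Abelian C]

theorem nonempty_iso_biprod {E : C} [Injective E] (V W : Subobject E) (hVW : V ⊓ W = ⊥)
    (hW : ∀ W' : Subobject E, W ≤ W' → W' ⊓ V = ⊥ → W' = W)
    (hV : ∀ V' : Subobject E, V ≤ V' → V' ⊓ W = ⊥ → V' = V) :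
    Nonempty (E ≅ (V : C) ⊞ (W : C)) := by
  have hmono : Mono (V.arrow ≫ cokernel.π W.arrow) := UI1.mono_comp_cokernel hVW
  let χ : cokernel W.arrow ⟶ E := Injective.factorThru V.arrow (V.arrow ≫ cokernel.π W.arrow)
  have hχ : (V.arrow ≫ cokernel.π W.arrow) ≫ χ = V.arrow := Injective.comp_factorThru _ _
  let φ : E ⟶ E := cokernel.π W.arrow ≫ χ
  have hφV : V.arrow ≫ φ = V.arrow := (Category.assoc _ _ _).symm.trans hχ
  have hφW : W.arrow ≫ φ = 0 := by
    simp only [φ]
    rw [← Category.assoc, cokernel.condition, zero_comp]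
  -- (3a)
  have h3a : ∀ {T : C} (x : T ⟶ E), x ≫ φ = 0 → W.Factors x := by
    intro T x hx
    have hK : Subobject.mk (kernel.ι φ) = W := by
      apply hW
      · exact Subobject.le_mk_of_comm (kernel.lift φ W.arrow hφW) (kernel.lift_ι _ _ _)
      · rw [UI1.inf_eq_bot_iff]
        intro T y hy1 hy2
        obtain ⟨a0, ha0⟩ := (Subobject.mk_factors_iff _ _).1 hy1
        let a : T ⟶ kernel φ := a0
        have ha' : a ≫ kernel.ι φ = y := ha0
        have h1 : y ≫ φ = 0 := by
          rw [← ha', Category.assoc, kernel.condition, comp_zero]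
        have h2 : y ≫ φ = y := by
          rw [← V.factorThru_arrow y hy2, Category.assoc, hφV]
        rw [← h2, h1]
    rw [← hK]
    exact (Subobject.mk_factors_iff _ _).2 ⟨kernel.lift φ x hx, kernel.lift_ι _ _ _⟩
  -- (3b)
  have h3b : ∀ {T : C} (x : T ⟶ E), W.Factors (x ≫ φ) → W.Factors x := by
    intro T x hx
    have hK : Subobject.mk (pullback.fst φ W.arrow) = W := by
      apply hW
      · exact Subobject.le_mk_of_comm
          (pullback.lift W.arrow 0 (by rw [hφW, zero_comp])) (pullback.lift_fst _ _ _)
      · rw [UI1.inf_eq_bot_iff]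
        intro T y hy1 hy2
        obtain ⟨a0, ha0⟩ := (Subobject.mk_factors_iff _ _).1 hy1
        let a : T ⟶ pullback φ W.arrow := a0
        have ha' : a ≫ pullback.fst φ W.arrow = y := ha0
        have h2 : y ≫ φ = y := by
          rw [← V.factorThru_arrow y hy2, Category.assoc, hφV]
        have h1 : W.Factors (y ≫ φ) := by
          rw [← ha', Category.assoc, pullback.condition, ← Category.assoc]
          exact Subobject.factors_comp_arrow _
        rw [h2] at h1
        exact (UI1.inf_eq_bot_iff V W).1 hVW y hy2 h1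
    rw [← hK]
    exact (Subobject.mk_factors_iff _ _).2
      ⟨pullback.lift x (W.factorThru _ hx) (by rw [Subobject.factorThru_arrow]),
        pullback.lift_fst _ _ _⟩
  -- (3c)
  have hV' : Subobject.mk (image.ι φ) = V := by
    apply hV
    · exact Subobject.le_mk_of_comm (V.arrow ≫ factorThruImage φ)
        (by rw [Category.assoc, image.fac, hφV])
    · rw [UI1.inf_eq_bot_iff]
      intro T x hx1 hx2
      obtain ⟨a0, ha0⟩ := (Subobject.mk_factors_iff _ _).1 hx1
      let a : T ⟶ image φ := a0
      have ha' : a ≫ image.ι φ = x := ha0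
      have hepi : Epi (pullback.fst a (factorThruImage φ)) :=
        Abelian.epi_pullback_of_epi_g _ _
      have e1 : pullback.fst a (factorThruImage φ) ≫ x =
          pullback.snd a (factorThruImage φ) ≫ φ := by
        rw [← ha', ← Category.assoc, pullback.condition, Category.assoc, image.fac]
      have h1 : W.Factors (pullback.snd a (factorThruImage φ) ≫ φ) := by
        rw [← e1]
        exact Subobject.factors_of_factors_right _ hx2
      have h2 := h3b _ h1
      have h3 : pullback.snd a (factorThruImage φ) ≫ φ = 0 := by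
        rw [← W.factorThru_arrow _ h2, Category.assoc, hφW, comp_zero]
      rw [h3] at e1
      exact hepi.left_cancellation x 0 (e1.trans comp_zero.symm)
  -- (3d)
  have hVφ : V.Factors φ := by
    rw [← hV']
    exact (Subobject.mk_factors_iff _ _).2 ⟨factorThruImage φ, image.fac φ⟩
  let r : E ⟶ (V : C) := V.factorThru φ hVφ
  have hr : r ≫ V.arrow = φ := V.factorThru_arrow φ hVφ
  have hWs : W.Factors (𝟙 E - r ≫ V.arrow) := by
    apply h3a
    rw [Preadditive.sub_comp, Category.id_comp, Category.assoc, hφV, hr, sub_self]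
  let s : E ⟶ (W : C) := W.factorThru _ hWs
  have hs : s ≫ W.arrow = 𝟙 E - r ≫ V.arrow := W.factorThru_arrow _ hWs
  have hVr : V.arrow ≫ r = 𝟙 _ := by
    rw [← cancel_mono V.arrow, Category.assoc, hr, hφV, Category.id_comp]
  have hWr : W.arrow ≫ r = 0 := by
    rw [← cancel_mono V.arrow, Category.assoc, hr, hφW, zero_comp]
  have hVs : V.arrow ≫ s = 0 := by
    rw [← cancel_mono W.arrow, Category.assoc, hs, Preadditive.comp_sub, Category.comp_id,
      ← Category.assoc, hVr, Category.id_comp, sub_self, zero_comp]
  have hWs' : W.arrow ≫ s = 𝟙 _ := by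
    rw [← cancel_mono W.arrow, Category.assoc, hs, Preadditive.comp_sub, Category.comp_id,
      ← Category.assoc, hWr, zero_comp, sub_zero, Category.id_comp]
  refine ⟨{ hom := biprod.lift r s, inv := biprod.desc V.arrow W.arrow,
            hom_inv_id := ?_, inv_hom_id := ?_ }⟩
  · rw [biprod.lift_desc, hs]
    abel
  · ext <;> simp [hVr, hWr, hVs, hWs']

end Groth.Agent.Lib.Helper15.UI2
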