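import Mathlib

set_option autoImplicit false
set_option linter.style.haveILetI false
set_option linter.unusedSectionVars false

/-!
# Evaluating commutative polynomials at pairwise commuting elements of a noncommutative algebra
-/

noncomputable section

namespace Groth.Agent.Lib.Helper15.UnNC
open MvPolynomial

universe u v w
variable (R : Type u) [CommRing R] {σ : Type v} {E : Type w} [Ring E] [Algebra R E]
variable (g : σ → E) (hc : ∀ s t, g s * g t = g t * g s)

open scoped IsMulCommutative in
/-- evaluation of commutative polynomials at pairwise commuting elements -/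
def evalNC : MvPolynomial σ R →ₐ[R] E :=
  have : IsMulCommutative (Algebra.adjoin R (Set.range g)) :=
    Algebra.isMulCommutative_adjoin R (by rintro _ ⟨s, rfl⟩ _ ⟨t, rfl⟩; exact hc s t)
  letI : CommRing (Algebra.adjoin R (Set.range g)) := inferInstance
  (Subalgebra.val (Algebra.adjoin R (Set.range g))).comp
    (MvPolynomial.aeval (fun s => (⟨g s, Algebra.subset_adjoin ⟨s, rfl⟩⟩ :
      Algebra.adjoin R (Set.range g))))

@[simp] lemma evalNC_X (s : σ) : evalNC R g hc (X s) = g s := by
  simp [evalNC]

/-- lift to the quotient by relations -/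
def liftNC (S : Set (MvPolynomial σ R)) (h : ∀ p ∈ S, evalNC R g hc p = 0) :
    (MvPolynomial σ R ⧸ Ideal.span S) →ₐ[R] E :=
  Ideal.Quotient.liftₐ (Ideal.span S) (evalNC R g hc) (by
    have : Ideal.span S ≤ RingHom.ker (evalNC R g hc : MvPolynomial σ R →+* E) :=
      Ideal.span_le.mpr (fun p hp => h p hp)
    exact fun p hp => this hp)

@[simp] lemma liftNC_mk_X (S : Set (MvPolynomial σ R)) (h : ∀ p ∈ S, evalNC R g hc p = 0) (s : σ) :
    liftNC R g hc S h (Ideal.Quotient.mk _ (X s)) = g s := by
  simp [liftNC]

end Groth.Agent.Lib.Helper15.UnNC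

end
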