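import Mathlib
import Groth.Prelude.Def_W4c5m1nsnscurvesU
import Groth.Prelude.Def_W4c5m1nsnscurvesC
import Groth.Prelude.Def_W4c5m1nsnscurvesI

set_option autoImplicit false
set_option linter.style.haveILetI false
set_option linter.unusedSectionVars false

/-!
# API for the presented rings `URing R n` and `CurveAlg R m v`
-/

noncomputable section

namespace Groth.Agent.Lib.Helper15.UnPres
open W4c5m1nsnscurves MvPolynomial

universe u w
variable (R : Type u) [CommRing R]

section URelLemmas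
variable (n : ℕ)

lemma ugen_lin (i j : Fin n) (h : i ≠ j) :
    ugen R n (.cij i j h) + ugen R n (.cij j i h.symm) -
      (ugen R n .a + ugen R n (.ci i) + ugen R n (.cbi i) + ugen R n (.ci j) +
        ugen R n (.cbi j)) = 0 := by
  have h1 : (X (.cij i j h) + X (.cij j i (Ne.symm h)) -
      (X .a + X (.ci i) + X (.cbi i) + X (.ci j) + X (.cbi j)) : MvPolynomial (UGen n) R) ∈
      Ideal.span (URel R n) :=
    Ideal.subset_span (Or.inl (Or.inl (Or.inl ⟨⟨(i, j), h⟩, rfl⟩)))
  have h2 := Ideal.Quotient.eq_zero_iff_mem.mpr h1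
  simpa only [ugen, map_sub, map_add, map_mul] using h2

lemma ugen_q1 (i j : Fin n) (h : i ≠ j) :
    ugen R n (.cij j i h.symm) * ugen R n (.ci j) + ugen R n (.cij i j h) * ugen R n (.ci i) -
      ugen R n (.ci i) * ugen R n (.ci j) - ugen R n .c = 0 := by
  have h1 : (X (.cij j i (Ne.symm h)) * X (.ci j) + X (.cij i j h) * X (.ci i) -
      X (.ci i) * X (.ci j) - X .c : MvPolynomial (UGen n) R) ∈ Ideal.span (URel R n) :=
    Ideal.subset_span (Or.inl (Or.inl (Or.inr ⟨⟨(i, j), h⟩, rfl⟩)))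
  have h2 := Ideal.Quotient.eq_zero_iff_mem.mpr h1
  simpa only [ugen, map_sub, map_add, map_mul] using h2

lemma ugen_q2 (i j : Fin n) (h : i ≠ j) :
    ugen R n (.cij j i h.symm) * ugen R n (.cbi i) + ugen R n (.cij i j h) * ugen R n (.cbi j) -
      ugen R n (.cbi i) * ugen R n (.cbi j) - ugen R n .cb = 0 := by
  have h1 : (X (.cij j i (Ne.symm h)) * X (.cbi i) + X (.cij i j h) * X (.cbi j) -
      X (.cbi i) * X (.cbi j) - X .cb : MvPolynomial (UGen n) R) ∈ Ideal.span (URel R n) :=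
    Ideal.subset_span (Or.inl (Or.inr ⟨⟨(i, j), h⟩, rfl⟩))
  have h2 := Ideal.Quotient.eq_zero_iff_mem.mpr h1
  simpa only [ugen, map_sub, map_add, map_mul] using h2

lemma ugen_t (i j k : Fin n) (hij : i ≠ j) (hjk : j ≠ k) (hik : i ≠ k) :
    ugen R n (.cij i j hij) * ugen R n (.cij j k hjk) +
      ugen R n (.cij j i hij.symm) * ugen R n (.cij i k hik) -
      ugen R n (.cij i k hik) * ugen R n (.cij j k hjk) +
      (ugen R n .a + ugen R n (.ci k) + ugen R n (.cbi k)) * ugen R n (.ci k) - ugen R n .c = 0 := by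
  have h1 : (X (.cij i j hij) * X (.cij j k hjk) +
      X (.cij j i (Ne.symm hij)) * X (.cij i k hik) -
      X (.cij i k hik) * X (.cij j k hjk) +
      (X .a + X (.ci k) + X (.cbi k)) * X (.ci k) - X .c : MvPolynomial (UGen n) R) ∈
      Ideal.span (URel R n) :=
    Ideal.subset_span (Or.inr ⟨⟨(i, j, k), hij, hjk, hik⟩, rfl⟩)
  have h2 := Ideal.Quotient.eq_zero_iff_mem.mpr h1
  simpa only [ugen, map_sub, map_add, map_mul] using h2

variable {R n}

/-- The four families of relations for a valuation of the generators. -/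
structure USat {S : Type w} [CommRing S] (w : UGen n → S) : Prop where
  lin : ∀ (i j : Fin n) (h : i ≠ j), w (.cij i j h) + w (.cij j i h.symm) -
      (w .a + w (.ci i) + w (.cbi i) + w (.ci j) + w (.cbi j)) = 0
  q1 : ∀ (i j : Fin n) (h : i ≠ j), w (.cij j i h.symm) * w (.ci j) + w (.cij i j h) * w (.ci i) -
      w (.ci i) * w (.ci j) - w .c = 0
  q2 : ∀ (i j : Fin n) (h : i ≠ j), w (.cij j i h.symm) * w (.cbi i) +
      w (.cij i j h) * w (.cbi j) - w (.cbi i) * w (.cbi j) - w .cb = 0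
  t : ∀ (i j k : Fin n) (hij : i ≠ j) (hjk : j ≠ k) (hik : i ≠ k),
      w (.cij i j hij) * w (.cij j k hjk) + w (.cij j i hij.symm) * w (.cij i k hik) -
      w (.cij i k hik) * w (.cij j k hjk) + (w .a + w (.ci k) + w (.cbi k)) * w (.ci k) - w .c = 0

lemma usat_ugen : USat (ugen R n) :=
  ⟨ugen_lin R n, ugen_q1 R n, ugen_q2 R n, ugen_t R n⟩

lemma usat_iff {S : Type w} [CommRing S] (φ : R →+* S) (w : UGen n → S) :
    USat w ↔ ∀ p ∈ URel R n, eval₂Hom φ w p = 0 := by
  constructor
  · intro h p hp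
    simp only [URel, Set.mem_union, Set.mem_range] at hp
    rcases hp with ((⟨q, rfl⟩ | ⟨q, rfl⟩) | ⟨q, rfl⟩) | ⟨q, rfl⟩
    · simpa only [map_sub, map_add, map_mul, eval₂Hom_X'] using h.lin q.1.1 q.1.2 q.2
    · simpa only [map_sub, map_add, map_mul, eval₂Hom_X'] using h.q1 q.1.1 q.1.2 q.2
    · simpa only [map_sub, map_add, map_mul, eval₂Hom_X'] using h.q2 q.1.1 q.1.2 q.2
    · simpa only [map_sub, map_add, map_mul, eval₂Hom_X'] using
        h.t q.1.1 q.1.2.1 q.1.2.2 q.2.1 q.2.2.1 q.2.2.2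
  · intro h
    refine ⟨fun i j hij => ?_, fun i j hij => ?_, fun i j hij => ?_, fun i j k hij hjk hik => ?_⟩
    · have := h _ (Or.inl (Or.inl (Or.inl ⟨⟨(i, j), hij⟩, rfl⟩)))
      simpa only [map_sub, map_add, map_mul, eval₂Hom_X'] using this
    · have := h _ (Or.inl (Or.inl (Or.inr ⟨⟨(i, j), hij⟩, rfl⟩)))
      simpa only [map_sub, map_add, map_mul, eval₂Hom_X'] using this
    · have := h _ (Or.inl (Or.inr ⟨⟨(i, j), hij⟩, rfl⟩))
      simpa only [map_sub, map_add, map_mul, eval₂Hom_X'] using this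
    · have := h _ (Or.inr ⟨⟨(i, j, k), hij, hjk, hik⟩, rfl⟩)
      simpa only [map_sub, map_add, map_mul, eval₂Hom_X'] using this

/-- The ring hom out of `URing R n` determined by a valuation satisfying the relations. -/
def ulift {S : Type w} [CommRing S] (φ : R →+* S) (w : UGen n → S) (hw : USat w) :
    URing R n →+* S :=
  Ideal.Quotient.lift _ (eval₂Hom φ w) (by
    have : Ideal.span (URel R n) ≤ RingHom.ker (eval₂Hom φ w) :=
      Ideal.span_le.mpr (fun p hp => (usat_iff φ w).mp hw p hp)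
    exact fun p hp => this hp)

@[simp] lemma ulift_ugen {S : Type w} [CommRing S] (φ : R →+* S) (w : UGen n → S) (hw : USat w)
    (g : UGen n) : ulift φ w hw (ugen R n g) = w g := by
  simp [ulift, ugen]

@[simp] lemma ulift_algebraMap {S : Type w} [CommRing S] (φ : R →+* S) (w : UGen n → S)
    (hw : USat w) (r : R) : ulift φ w hw (algebraMap R (URing R n) r) = φ r := by
  have : algebraMap R (URing R n) r = Ideal.Quotient.mk _ (C r) := rfl
  rw [this]
  simp [ulift]

lemma uhom_ext {S : Type w} [Semiring S] {f g : URing R n →+* S}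
    (hC : ∀ r : R, f (algebraMap R _ r) = g (algebraMap R _ r))
    (hX : ∀ x : UGen n, f (ugen R n x) = g (ugen R n x)) : f = g := by
  apply Ideal.Quotient.ringHom_ext
  apply MvPolynomial.ringHom_ext
  · intro r
    exact hC r
  · intro x
    exact hX x

lemma uincl_ugen (m : ℕ) (g : UGen m) : uincl R m (ugen R m g) = ugen R (m + 1) g.castSucc := by
  simp [uincl, ugen]

end URelLemmas

section CRelLemmas
variable {R} {m : ℕ} (v : UGen m → R)

/-- class of x2 -/
def cx2 : CurveAlg R m v := Ideal.Quotient.mk _ (X .x2)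
/-- class of x3 -/
def cx3 : CurveAlg R m v := Ideal.Quotient.mk _ (X .x3)
/-- class of xi -/
def cxi (i : Fin m) : CurveAlg R m v := Ideal.Quotient.mk _ (X (.xi i))
/-- constants -/
def cc (r : R) : CurveAlg R m v := algebraMap R _ r

/-- The three families of relations for values `y2 y3 y` over constants `φ ∘ v`. -/
structure CSat {S : Type w} [CommRing S] (φ : R →+* S) (y2 y3 : S) (y : Fin m → S) : Prop where
  r1 : ∀ i, y2 * y i - (y2 * y3 + φ (v (.ci i)) * y i + φ (v (.cbi i)) * y2 - φ (v .c)) = 0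
  r2 : ∀ i, y3 * y i - (y2 * y3 + φ (v .a + v (.ci i) + v (.cbi i)) * (y i - φ (v (.cbi i))) +
      φ (v .cb) - φ (v .c)) = 0
  r3 : ∀ (i j : Fin m) (h : i ≠ j), y i * y j - (y2 * y3 + φ (v (.cij i j h)) * y j +
      φ (v (.cij j i h.symm)) * y i - φ (v .c)) = 0

/-- valuation of the variables -/
def cval {S : Type w} (y2 y3 : S) (y : Fin m → S) : CVar m → S
  | .x2 => y2
  | .x3 => y3
  | .xi i => y i

lemma csat_iff {S : Type w} [CommRing S] (φ : R →+* S) (y2 y3 : S) (y : Fin m → S) :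
    CSat v φ y2 y3 y ↔ ∀ p ∈ CRel R m v, eval₂Hom φ (cval y2 y3 y) p = 0 := by
  constructor
  · intro h p hp
    simp only [CRel, Set.mem_union, Set.mem_range] at hp
    rcases hp with (⟨i, rfl⟩ | ⟨i, rfl⟩) | ⟨q, rfl⟩
    · simpa only [map_sub, map_add, map_mul, eval₂Hom_X', eval₂Hom_C, cval] using h.r1 i
    · simpa only [map_sub, map_add, map_mul, eval₂Hom_X', eval₂Hom_C, cval] using h.r2 i
    · simpa only [map_sub, map_add, map_mul, eval₂Hom_X', eval₂Hom_C, cval] using
        h.r3 q.1.1 q.1.2 q.2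
  · intro h
    refine ⟨fun i => ?_, fun i => ?_, fun i j hij => ?_⟩
    · have := h _ (Or.inl (Or.inl ⟨i, rfl⟩))
      simpa only [map_sub, map_add, map_mul, eval₂Hom_X', eval₂Hom_C, cval] using this
    · have := h _ (Or.inl (Or.inr ⟨i, rfl⟩))
      simpa only [map_sub, map_add, map_mul, eval₂Hom_X', eval₂Hom_C, cval] using this
    · have := h _ (Or.inr ⟨⟨(i, j), hij⟩, rfl⟩)
      simpa only [map_sub, map_add, map_mul, eval₂Hom_X', eval₂Hom_C, cval] using this

lemma csat_self : CSat v (algebraMap R (CurveAlg R m v)) (cx2 v) (cx3 v) (cxi v) := by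
  rw [csat_iff]
  intro p hp
  have h1 : eval₂Hom (algebraMap R (CurveAlg R m v)) (cval (cx2 v) (cx3 v) (cxi v)) =
      Ideal.Quotient.mk (Ideal.span (CRel R m v)) := by
    apply MvPolynomial.ringHom_ext
    · intro r
      simp
      rfl
    · intro x
      cases x <;> simp [cval, cx2, cx3, cxi]
  rw [h1]
  exact Ideal.Quotient.eq_zero_iff_mem.mpr (Ideal.subset_span hp)

/-- The ring hom out of `CurveAlg R m v`. -/
def clift {S : Type w} [CommRing S] (φ : R →+* S) (y2 y3 : S) (y : Fin m → S)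
    (h : CSat v φ y2 y3 y) : CurveAlg R m v →+* S :=
  Ideal.Quotient.lift _ (eval₂Hom φ (cval y2 y3 y)) (by
    have : Ideal.span (CRel R m v) ≤ RingHom.ker (eval₂Hom φ (cval y2 y3 y)) :=
      Ideal.span_le.mpr (fun p hp => (csat_iff v φ y2 y3 y).mp h p hp)
    exact fun p hp => this hp)

variable {S : Type w} [CommRing S] (φ : R →+* S) (y2 y3 : S) (y : Fin m → S)
    (h : CSat v φ y2 y3 y)

@[simp] lemma clift_cx2 : clift v φ y2 y3 y h (cx2 v) = y2 := by
  simp [clift, cx2, cval]

@[simp] lemma clift_cx3 : clift v φ y2 y3 y h (cx3 v) = y3 := by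
  simp [clift, cx3, cval]

@[simp] lemma clift_cxi (i : Fin m) : clift v φ y2 y3 y h (cxi v i) = y i := by
  simp [clift, cxi, cval]

@[simp] lemma clift_algebraMap (r : R) :
    clift v φ y2 y3 y h (algebraMap R (CurveAlg R m v) r) = φ r := by
  have : algebraMap R (CurveAlg R m v) r = Ideal.Quotient.mk _ (C r) := rfl
  rw [this]
  simp [clift]

lemma chom_ext {S : Type w} [Semiring S] {f g : CurveAlg R m v →+* S}
    (hC : ∀ r : R, f (algebraMap R _ r) = g (algebraMap R _ r))
    (h2 : f (cx2 v) = g (cx2 v)) (h3 : f (cx3 v) = g (cx3 v))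
    (hi : ∀ i, f (cxi v i) = g (cxi v i)) : f = g := by
  apply Ideal.Quotient.ringHom_ext
  apply MvPolynomial.ringHom_ext
  · intro r
    exact hC r
  · intro x
    cases x
    · exact h2
    · exact h3
    · exact hi _

end CRelLemmas

end Groth.Agent.Lib.Helper15.UnPres

end
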