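import Mathlib
import Groth.Agent.Lib.Helper15.UnPres
import Groth.Agent.Lib.Helper15.UnNC

set_option autoImplicit false
set_option linter.style.haveILetI false
set_option linter.unusedSectionVars false

/-!
# The curve algebra with the cubic relation added: API
-/

noncomputable section

namespace Groth.Agent.Lib.Helper15.UnG
open W4c5m1nsnscurves MvPolynomial Groth.Agent.Lib.Helper15.UnPres Groth.Agent.Lib.Helper15.UnNC

universe u w
variable (R : Type u) [CommRing R] (m : ℕ) (v : UGen m → R) (d : R)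

/-- the cubic polynomial -/
def cubicP : MvPolynomial (CVar m) R :=
  X .x2 * X .x3 ^ 2 - X .x2 ^ 2 * X .x3 -
    (C (v .a) * X .x2 * X .x3 + C (v .cb - v .c) * X .x2 + C (v .c) * X .x3 + C d)

/-- relations including the cubic -/
def GRel : Set (MvPolynomial (CVar m) R) := CRel R m v ∪ {cubicP R m v d}

/-- the algebra -/
abbrev GAlg : Type u := MvPolynomial (CVar m) R ⧸ Ideal.span (GRel R m v d)

variable {R m}

/-- class of a variable -/
def gvar (s : CVar m) : GAlg R m v d := Ideal.Quotient.mk _ (X s)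
/-- class of x2 -/
abbrev gx2 : GAlg R m v d := gvar v d .x2
/-- class of x3 -/
abbrev gx3 : GAlg R m v d := gvar v d .x3
/-- class of xi -/
abbrev gxi (i : Fin m) : GAlg R m v d := gvar v d (.xi i)

/-- relations in a (possibly noncommutative) algebra -/
structure GSat {E : Type w} [Ring E] [Algebra R E] (y2 y3 : E) (y : Fin m → E) : Prop where
  r1 : ∀ i, y2 * y i - (y2 * y3 + algebraMap R E (v (.ci i)) * y i +
      algebraMap R E (v (.cbi i)) * y2 - algebraMap R E (v .c)) = 0
  r2 : ∀ i, y3 * y i - (y2 * y3 + algebraMap R E (v .a + v (.ci i) + v (.cbi i)) *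
      (y i - algebraMap R E (v (.cbi i))) + algebraMap R E (v .cb) - algebraMap R E (v .c)) = 0
  r3 : ∀ (i j : Fin m) (h : i ≠ j), y i * y j - (y2 * y3 + algebraMap R E (v (.cij i j h)) * y j +
      algebraMap R E (v (.cij j i h.symm)) * y i - algebraMap R E (v .c)) = 0
  cub : y2 * y3 ^ 2 - y2 ^ 2 * y3 - (algebraMap R E (v .a) * y2 * y3 +
      algebraMap R E (v .cb - v .c) * y2 + algebraMap R E (v .c) * y3 + algebraMap R E d) = 0

section Lift
variable {E : Type w} [Ring E] [Algebra R E] (y2 y3 : E) (y : Fin m → E)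
  (hc : ∀ s t, cval y2 y3 y s * cval y2 y3 y t = cval y2 y3 y t * cval y2 y3 y s)
  (hs : GSat v d y2 y3 y)

include hs in
lemma evalNC_rel (p : MvPolynomial (CVar m) R) (hp : p ∈ GRel R m v d) :
    evalNC R (cval y2 y3 y) hc p = 0 := by
  rcases hp with hp | hp
  · simp only [CRel, Set.mem_union, Set.mem_range] at hp
    rcases hp with (⟨i, rfl⟩ | ⟨i, rfl⟩) | ⟨q, rfl⟩
    · simpa only [map_sub, map_add, map_mul, evalNC_X, algHom_C, cval] using hs.r1 i
    · simpa only [map_sub, map_add, map_mul, evalNC_X, algHom_C, cval] using hs.r2 i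
    · simpa only [map_sub, map_add, map_mul, evalNC_X, algHom_C, cval] using hs.r3 q.1.1 q.1.2 q.2
  · rw [Set.mem_singleton_iff] at hp
    subst hp
    simpa only [cubicP, map_sub, map_add, map_mul, map_pow, evalNC_X, algHom_C, cval] using hs.cub

/-- the algebra hom out of `GAlg` -/
def glift : GAlg R m v d →ₐ[R] E :=
  liftNC R (cval y2 y3 y) hc (GRel R m v d) (evalNC_rel v d y2 y3 y hc hs)

@[simp] lemma glift_gvar (s : CVar m) : glift v d y2 y3 y hc hs (gvar v d s) = cval y2 y3 y s := by
  simp [glift, gvar]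

lemma glift_gx2 : glift v d y2 y3 y hc hs (gx2 v d) = y2 := by simp [cval]
lemma glift_gx3 : glift v d y2 y3 y hc hs (gx3 v d) = y3 := by simp [cval]
lemma glift_gxi (i : Fin m) : glift v d y2 y3 y hc hs (gxi v d i) = y i := by simp [cval]

end Lift

lemma ghom_ext {E : Type w} [Semiring E] [Algebra R E] {f g : GAlg R m v d →ₐ[R] E}
    (h : ∀ s, f (gvar v d s) = g (gvar v d s)) : f = g := by
  apply Ideal.Quotient.algHom_ext
  apply MvPolynomial.algHom_ext
  intro s
  exact h s

lemma gsat_self : GSat v d (gx2 v d) (gx3 v d) (gxi v d) := by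
  have key : ∀ p ∈ GRel R m v d, Ideal.Quotient.mk (Ideal.span (GRel R m v d)) p = 0 :=
    fun p hp => Ideal.Quotient.eq_zero_iff_mem.mpr (Ideal.subset_span hp)
  have hC : ∀ r : R, algebraMap R (GAlg R m v d) r = Ideal.Quotient.mk _ (C r) := fun r => rfl
  refine ⟨fun i => ?_, fun i => ?_, fun i j hij => ?_, ?_⟩
  · have := key _ (Or.inl (Or.inl (Or.inl ⟨i, rfl⟩)))
    simpa only [gvar, hC, map_sub, map_add, map_mul] using this
  · have := key _ (Or.inl (Or.inl (Or.inr ⟨i, rfl⟩)))
    simpa only [gvar, hC, map_sub, map_add, map_mul] using this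
  · have := key _ (Or.inl (Or.inr ⟨⟨(i, j), hij⟩, rfl⟩))
    simpa only [gvar, hC, map_sub, map_add, map_mul] using this
  · have := key _ (Or.inr rfl)
    simpa only [cubicP, gvar, hC, map_sub, map_add, map_mul, map_pow] using this

lemma adjoin_gvar : Algebra.adjoin R (Set.range (gvar v d)) = ⊤ := by
  have hx : ∀ x : GAlg R m v d, x ∈ Algebra.adjoin R (Set.range (gvar v d)) := by
    intro x
    obtain ⟨p, rfl⟩ := Ideal.Quotient.mk_surjective x
    induction p using MvPolynomial.induction_on with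
    | C r => exact Subalgebra.algebraMap_mem _ r
    | add p q hp hq =>
      rw [map_add]
      exact Subalgebra.add_mem _ hp hq
    | mul_X p s hp =>
      rw [map_mul]
      exact Subalgebra.mul_mem _ hp (Algebra.subset_adjoin ⟨s, rfl⟩)
  rw [eq_top_iff]
  exact fun x _ => hx x

/-- The monomial family. -/
def gmon : Option (ℕ ⊕ (CVar m × ℕ)) → GAlg R m v d
  | none => 1
  | some (Sum.inl k) => gx2 v d ^ (k + 1) * gx3 v d
  | some (Sum.inr (y, k)) => gvar v d y ^ (k + 1)

end Groth.Agent.Lib.Helper15.UnG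

end
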