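import Mathlib

set_option autoImplicit false
set_option linter.style.haveILetI false
set_option linter.unusedSectionVars false
set_option linter.style.longLine false
set_option linter.unusedVariables false

/-!
# Polynomial identities for the one point extension step (certificates found by computer)
-/

namespace Groth.Agent.Lib.Helper15.UnIds

lemma d2_23 {S : Type*} [CommRing S] (cl x2 x3 a cbl cb c d : S)
    (CUB : x2 * x3 ^ 2 - x2 ^ 2 * x3 - (a * x2 * x3 + (cb - c) * x2 + c * x3 + d) = 0)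
    (DD : d - (cl * cbl * (a + cl + cbl) - cl * cb - (a + cbl) * c) = 0) :
    cl * (x2 * x3 - (a + cl + cbl) * cbl + cb - c) + (x2 * x3 + cbl * x2 - c) * x3 - ((a + cl + cbl) * (x2 * x3 + cbl * x2 - c) + (x2 * x3 - (a + cl + cbl) * cbl + cb - c) * x2) = 0 := by
  linear_combination (1) * CUB + (1) * DD

lemma d2_2j {S : Type*} [CommRing S] (cl x2 x3 clj xj c cbl cjl a cj cbj cb : S)
    (R2j : x3 * xj - (x2 * x3 + (a + cj + cbj) * (xj - cbj) + cb - c) = 0)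
    (R1j : x2 * xj - (x2 * x3 + cj * xj + cbj * x2 - c) = 0)
    (Ljl : cjl + clj - (a + cj + cbj + cl + cbl) = 0)
    (Q1jl : clj * cl + cjl * cj - cj * cl - c = 0)
    (Q2jl : clj * cbj + cjl * cbl - cbj * cbl - cb = 0) :
    cl * (x2 * x3 + clj * xj - c) + (x2 * x3 + cbl * x2 - c) * xj - (cjl * (x2 * x3 + cbl * x2 - c) + (x2 * x3 + clj * xj - c) * x2) = 0 := by
  linear_combination (x2) * R2j + (a + cj - clj + cbj + cbl) * R1j + (c - cj * xj - x2 * x3) * Ljl + (xj) * Q1jl + (-x2) * Q2jl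

lemma d2_3j {S : Type*} [CommRing S] (a cl cbl x2 x3 clj xj c cb cjl cj cbj : S)
    (R1j : x2 * xj - (x2 * x3 + cj * xj + cbj * x2 - c) = 0)
    (R2j : x3 * xj - (x2 * x3 + (a + cj + cbj) * (xj - cbj) + cb - c) = 0)
    (Ljl : cjl + clj - (a + cj + cbj + cl + cbl) = 0)
    (Q2jl : clj * cbj + cjl * cbl - cbj * cbl - cb = 0)
    (Q1jl : clj * cl + cjl * cj - cj * cl - c = 0) :
    (a + cl + cbl) * (x2 * x3 + clj * xj - c) + (x2 * x3 - (a + cl + cbl) * cbl + cb - c) * xj - (cjl * (x2 * x3 - (a + cl + cbl) * cbl + cb - c) + (x2 * x3 + clj * xj - c) * x3) = 0 := by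
  linear_combination (x3) * R1j + (cj - clj) * R2j + (c + cj * cbj - cj * xj - cjl * cbl - clj * cbj + cbl * xj - x2 * x3) * Ljl + (-cj + cjl + clj - xj) * Q2jl + (-cbj + xj) * Q1jl

lemma d2_jk {S : Type*} [CommRing S] (cjl x2 x3 clk xk c clj xj ckl a ck cbk cb cjk ckj cj cbj cl cbl : S)
    (R2k : x3 * xk - (x2 * x3 + (a + ck + cbk) * (xk - cbk) + cb - c) = 0)
    (R3jk : xj * xk - (x2 * x3 + cjk * xk + ckj * xj - c) = 0)
    (R2j : x3 * xj - (x2 * x3 + (a + cj + cbj) * (xj - cbj) + cb - c) = 0)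
    (R1k : x2 * xk - (x2 * x3 + ck * xk + cbk * x2 - c) = 0)
    (R1j : x2 * xj - (x2 * x3 + cj * xj + cbj * x2 - c) = 0)
    (Ljl : cjl + clj - (a + cj + cbj + cl + cbl) = 0)
    (Lkl : ckl + clk - (a + ck + cbk + cl + cbl) = 0)
    (Ljk : cjk + ckj - (a + cj + cbj + ck + cbk) = 0)
    (Q2jk : ckj * cbj + cjk * cbk - cbj * cbk - cb = 0)
    (Q2jl : clj * cbj + cjl * cbl - cbj * cbl - cb = 0)
    (Q1jl : clj * cl + cjl * cj - cj * cl - c = 0)
    (Tjkl : cjk * ckl + ckj * cjl - cjl * ckl + (a + cl + cbl) * cl - c = 0)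
    (Q1jk : ckj * ck + cjk * cj - cj * ck - c = 0)
    (Q2kl : clk * cbk + ckl * cbl - cbk * cbl - cb = 0)
    (Q1kl : clk * cl + ckl * ck - ck * cl - c = 0) :
    cjl * (x2 * x3 + clk * xk - c) + (x2 * x3 + clj * xj - c) * xk - (ckl * (x2 * x3 + clj * xj - c) + (x2 * x3 + clk * xk - c) * xj) = 0 := by
  linear_combination (x2) * R2k + (clj - clk) * R3jk + (-x2) * R2j + (a + ck + cbk) * R1k + (-a - cj - cbj) * R1j + (-cj * cjl + cj * cl + cj * xk + ckj * xj - ckj * xk - ckl * xj + ckl * xk - cl * clj + clk * xk - cbl * xk + x2 * x3) * Ljl + (cj * cjl - cj * cl - ck * xk - ckj * xj + ckj * xk + cl * clj - cl * xj + cl * xk - clj * xk + cbk * xj - cbk * xk + cbl * xk - x2 * x3) * Lkl + (cj * xj - cj * xk + ckl * xj - ckl * xk + clj * xk - clk * xk - cbk * xj + cbk * xk) * Ljk + (xj - xk) * Q2jk + (xk) * Q2jl + (-cj + cjl + ck - ckl + clj - clk - cbj + cbk - xk) * Q1jl + (-xj + xk) * Tjkl + (-xj + xk) * Q1jk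 + (-xj) * Q2kl + (xj) * Q1kl

lemma mu_r1 {S : Type*} [CommRing S] (cl x2 x3 clj xj c cbl a cb cj cbj cjl : S)
    (R1j : x2 * xj - (x2 * x3 + cj * xj + cbj * x2 - c) = 0)
    (R2j : x3 * xj - (x2 * x3 + (a + cj + cbj) * (xj - cbj) + cb - c) = 0)
    (Ljl : cjl + clj - (a + cj + cbj + cl + cbl) = 0)
    (Q1jl : clj * cl + cjl * cj - cj * cl - c = 0)
    (Q2jl : clj * cbj + cjl * cbl - cbj * cbl - cb = 0) :
    cl * (x2 * x3 + clj * xj - c) + (x2 * x3 + cbl * x2 - c) * xj - ((cl * (x2 * x3 - (a + cl + cbl) * cbl + cb - c) + (x2 * x3 + cbl * x2 - c) * x3) + cj * (x2 * x3 + clj * xj - c) + cbj * (x2 * x3 + cbl * x2 - c)) = 0 := by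
  linear_combination (cbl + x3) * R1j + (cj) * R2j + (cj * cbj - cj * xj - cl * cbl) * Ljl + (-cbj + cbl + xj) * Q1jl + (-cj + cl) * Q2jl

lemma mu_r2 {S : Type*} [CommRing S] (a cl cbl x2 x3 clj xj c cb cj cbj cjl : S)
    (R1j : x2 * xj - (x2 * x3 + cj * xj + cbj * x2 - c) = 0)
    (R2j : x3 * xj - (x2 * x3 + (a + cj + cbj) * (xj - cbj) + cb - c) = 0)
    (Ljl : cjl + clj - (a + cj + cbj + cl + cbl) = 0)
    (Q2jl : clj * cbj + cjl * cbl - cbj * cbl - cb = 0)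
    (Q1jl : clj * cl + cjl * cj - cj * cl - c = 0) :
    (a + cl + cbl) * (x2 * x3 + clj * xj - c) + (x2 * x3 - (a + cl + cbl) * cbl + cb - c) * xj - ((cl * (x2 * x3 - (a + cl + cbl) * cbl + cb - c) + (x2 * x3 + cbl * x2 - c) * x3) + (a + cj + cbj) * (x2 * x3 + clj * xj - c)) = 0 := by
  linear_combination (x3) * R1j + (cj) * R2j + (cj * cbj - cj * xj - cl * cbl + cbl * xj) * Ljl + (-cj + cl - xj) * Q2jl + (-cbj + cbl + xj) * Q1jl

lemma mu_r3 {S : Type*} [CommRing S] (cjl x2 x3 clk xk c clj xj cl a cbl cb cjk ckj ck cbk cj cbj ckl : S)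
    (R1k : x2 * xk - (x2 * x3 + ck * xk + cbk * x2 - c) = 0)
    (R3jk : xj * xk - (x2 * x3 + cjk * xk + ckj * xj - c) = 0)
    (R2k : x3 * xk - (x2 * x3 + (a + ck + cbk) * (xk - cbk) + cb - c) = 0)
    (Ljk : cjk + ckj - (a + cj + cbj + ck + cbk) = 0)
    (Ljl : cjl + clj - (a + cj + cbj + cl + cbl) = 0)
    (Q2jk : ckj * cbj + cjk * cbk - cbj * cbk - cb = 0)
    (Lkl : ckl + clk - (a + ck + cbk + cl + cbl) = 0)
    (Q2jl : clj * cbj + cjl * cbl - cbj * cbl - cb = 0)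
    (Q1jl : clj * cl + cjl * cj - cj * cl - c = 0)
    (Tjkl : cjk * ckl + ckj * cjl - cjl * ckl + (a + cl + cbl) * cl - c = 0)
    (Q1jk : ckj * ck + cjk * cj - cj * ck - c = 0) :
    cjl * (x2 * x3 + clk * xk - c) + (x2 * x3 + clj * xj - c) * xk - ((cl * (x2 * x3 - (a + cl + cbl) * cbl + cb - c) + (x2 * x3 + cbl * x2 - c) * x3) + cjk * (x2 * x3 + clk * xk - c) + ckj * (x2 * x3 + clj * xj - c)) = 0 := by
  linear_combination (x3) * R1k + (clj) * R3jk + (ck) * R2k + (cj * cjk - cj * ck - cj * cbj - cj * xk + ck * ckj + ck * cbk - ckl * xk + clj * xk - clk * xk + cbk * xk - x2 * x3) * Ljk + (-cj * cjk + cj * ck + cj * cbj + cj * xk - ck * ckj - ckj * xk + ckl * xk - cl * cbl + clk * xk - cbl * xk + x2 * x3) * Ljl + (cj - ck - xk) * Q2jk + (-ck * xk + ckj * xk + cl * xk - clj * xk - cbk * xk + cbl * xk) * Lkl + (-cj + cl + xk) * Q2jl + (-cbj + cbl - xk) * Q1jl + (xk) * Tjkl + (-cjk + cjl + ck - ckj - cl +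 clj + cbj - cbl + xk) * Q1jk

lemma mu_cub {S : Type*} [CommRing S] (cl a cbl x2 x3 cb c d : S)
    (CUB : x2 * x3 ^ 2 - x2 ^ 2 * x3 - (a * x2 * x3 + (cb - c) * x2 + c * x3 + d) = 0)
    (DD : d - (cl * cbl * (a + cl + cbl) - cl * cb - (a + cbl) * c) = 0) :
    cl * ((a + cl + cbl) * (x2 * x3 - (a + cl + cbl) * cbl + cb - c) + (x2 * x3 - (a + cl + cbl) * cbl + cb - c) * x3) + (x2 * x3 + cbl * x2 - c) * x3 ^ 2 - (cl * (cl * (x2 * x3 - (a + cl + cbl) * cbl + cb - c) + (x2 * x3 + cbl * x2 - c) * x3) + (x2 * x3 + cbl * x2 - c) * (x2 * x3)) - (a * (cl * (x2 * x3 - (a + cl + cbl) * cbl + cb - c) + (x2 * x3 + cbl * x2 - c) * x3) + (cb - c) * (x2 * x3 + cbl * x2 - c) + c * (x2 * x3 - (a + cl + cbl) * cbl + cb - c)) = 0 := by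
  linear_combination (cbl + x3) * CUB + (cbl + x3) * DD

lemma lam_r1 {S : Type*} [CommRing S] (a c cj cbj cl cbl cjl clj : S)
    (Ljl : cjl + clj - (a + cj + cbj + cl + cbl) = 0)
    (Q1jl : clj * cl + cjl * cj - cj * cl - c = 0) :
    cl * cjl - (cl * (a + cl + cbl) + cj * cjl + cbj * cl - c) = 0 := by
  linear_combination cl * Ljl - Q1jl

lemma lam_r2 {S : Type*} [CommRing S] (a c cb cj cbj cl cbl cjl clj : S)
    (Ljl : cjl + clj - (a + cj + cbj + cl + cbl) = 0)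
    (Q1jl : clj * cl + cjl * cj - cj * cl - c = 0)
    (Q2jl : clj * cbj + cjl * cbl - cbj * cbl - cb = 0) :
    (a + cl + cbl) * cjl - (cl * (a + cl + cbl) + (a + cj + cbj) * (cjl - cbj) + cb - c) = 0 := by
  linear_combination (cl - cbj) * Ljl + Q2jl - Q1jl

lemma lam_r3 {S : Type*} [CommRing S] (a c cl cbl cjl ckl cjk ckj : S)
    (Tjkl : cjk * ckl + ckj * cjl - cjl * ckl + (a + cl + cbl) * cl - c = 0) :
    cjl * ckl - (cl * (a + cl + cbl) + cjk * ckl + ckj * cjl - c) = 0 := by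
  linear_combination -Tjkl

lemma lam_cub {S : Type*} [CommRing S] (a c cb d cl cbl : S)
    (DD : d - (cl * cbl * (a + cl + cbl) - cl * cb - (a + cbl) * c) = 0) :
    cl * (a + cl + cbl) ^ 2 - cl ^ 2 * (a + cl + cbl) -
      (a * cl * (a + cl + cbl) + (cb - c) * cl + c * (a + cl + cbl) + d) = 0 := by
  linear_combination -DD

lemma dd_eq {S : Type*} [CommRing S] (a c cb cj cbj cl cbl cjl clj : S)
    (Ljl : cjl + clj - (a + cj + cbj + cl + cbl) = 0)
    (Q1jl : clj * cl + cjl * cj - cj * cl - c = 0)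
    (Q2jl : clj * cbj + cjl * cbl - cbj * cbl - cb = 0) :
    (cl * cbl * (a + cl + cbl) - cl * cb - (a + cbl) * c) =
      (cj * cbj * (a + cj + cbj) - cj * cb - (a + cbj) * c) := by
  linear_combination (cj * cbj - cl * cbl) * Ljl + (-cj + cl) * Q2jl + (-cbj + cbl) * Q1jl

lemma cubic_cert {S : Type*} [CommRing S] (x2 x3 xj a c cb cj cbj : S) :
    x2 * x3 ^ 2 - x2 ^ 2 * x3 - (a * x2 * x3 + (cb - c) * x2 + c * x3 +
        (cj * cbj * (a + cj + cbj) - cj * cb - (a + cbj) * c)) =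
      (a + cj + cbj - x3) * (x2 * xj - (x2 * x3 + cj * xj + cbj * x2 - c)) +
      (x2 - cj) * (x3 * xj - (x2 * x3 + (a + cj + cbj) * (xj - cbj) + cb - c)) := by
  ring

end Groth.Agent.Lib.Helper15.UnIds
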