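import Mathlib

set_option autoImplicit false
set_option linter.style.haveILetI false
set_option linter.unusedSectionVars false

/-!
# One point extension: `A' = B[x]/(x b = λ(b) x + μ(b))` is `B ⊕ x R[x]` as a module
-/

noncomputable section

namespace Groth.Agent.Lib.Helper15.UnOPE
open Polynomial Pointwise

universe u v w
variable {R : Type u} {B : Type v} [CommRing R] [CommRing B] [Algebra R B]
variable (lam : B →ₐ[R] R) (mu : B →ₗ[R] B)

/-- the model module -/
abbrev F (R : Type u) (B : Type v) [CommRing R] : Type (max u v) := B × R[X]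

/-- multiplication by the new variable -/
def Xop : F R B →ₗ[R] F R B :=
  (mu ∘ₗ LinearMap.fst R B R[X]).prod
    ((Algebra.linearMap R R[X]) ∘ₗ lam.toLinearMap ∘ₗ LinearMap.fst R B R[X] +
      (LinearMap.mulLeft R (X : R[X])) ∘ₗ LinearMap.snd R B R[X])

@[simp] lemma Xop_apply (b : B) (q : R[X]) :
    Xop lam mu (b, q) = (mu b, C (lam b) + X * q) := by
  simp [Xop, Algebra.linearMap_apply]

/-- multiplication by an element of `B` -/
def Top (b : B) : F R B →ₗ[R] F R B :=
  (LinearMap.mulLeft R b).prodMap (lam b • LinearMap.id) +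
    (LinearMap.applyₗ ((mu b, (0 : R[X])) : F R B)) ∘ₗ
      (aeval (Xop lam mu)).toLinearMap ∘ₗ (LinearMap.snd R B R[X])

lemma Top_apply (b b₀ : B) (q : R[X]) :
    Top lam mu b (b₀, q) = (b * b₀, lam b • q) + (aeval (Xop lam mu) q) (mu b, 0) := by
  simp [Top]

lemma commute_aeval {A : Type*} [Ring A] [Algebra R A] (a x : A) (h : Commute a x) (q : R[X]) :
    Commute a (aeval x q) := by
  induction q using Polynomial.induction_on' with
  | add p q hp hq => rw [map_add]; exact hp.add_right hq
  | monomial n r =>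
    rw [aeval_monomial]
    exact (Algebra.commute_algebraMap_left r a).symm.mul_right (h.pow_right n)

lemma Xop_pow_inr (n : ℕ) (p : R[X]) :
    ((Xop lam mu) ^ n) ((0 : B), p) = ((0 : B), X ^ n * p) := by
  induction n generalizing p with
  | zero => simp
  | succ n ih =>
    rw [pow_succ, Module.End.mul_apply, Xop_apply, map_zero, map_zero, map_zero, zero_add, ih]
    congr 1
    ring

lemma aeval_Xop_inr (q p : R[X]) :
    (aeval (Xop lam mu) q) ((0 : B), p) = ((0 : B), q * p) := by
  induction q using Polynomial.induction_on' with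
  | add q₁ q₂ h₁ h₂ =>
    rw [map_add, LinearMap.add_apply, h₁, h₂, add_mul]
    simp
  | monomial n r =>
    rw [aeval_monomial, Module.End.mul_apply, Xop_pow_inr, Module.algebraMap_end_apply,
      ← C_mul_X_pow_eq_monomial]
    ext
    · simp
    · simp [smul_eq_C_mul, mul_assoc]

variable (hmu : ∀ b b', mu (b * b') = lam b • mu b' + mu b * b')
include hmu

lemma mu_one : mu 1 = 0 := by
  have := hmu 1 1
  simpa using this

lemma Xop_aeval (q : R[X]) (w : F R B) :
    Xop lam mu ((aeval (Xop lam mu) q) w) = (aeval (Xop lam mu) (X * q)) w := by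
  rw [map_mul, aeval_X, Module.End.mul_apply]

lemma aeval_Xop_comm (q : R[X]) (w : F R B) :
    (aeval (Xop lam mu) q) (Xop lam mu w) = (aeval (Xop lam mu) (X * q)) w := by
  rw [mul_comm, map_mul, aeval_X, Module.End.mul_apply]

lemma Xop_Top (b b₀ : B) (q : R[X]) :
    Xop lam mu (Top lam mu b (b₀, q)) =
      (mu (b * b₀), C (lam b * lam b₀) + X * (lam b • q)) +
        (aeval (Xop lam mu) (X * q)) (mu b, 0) := by
  rw [Top_apply, map_add, Xop_apply, Xop_aeval lam mu hmu, map_mul lam b b₀]

lemma Top_Xop_comm (b : B) (w : F R B) :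
    Xop lam mu (Top lam mu b w) = Top lam mu b (Xop lam mu w) := by
  obtain ⟨b₀, q⟩ := w
  rw [Xop_Top lam mu hmu, Xop_apply, Top_apply, map_add, LinearMap.add_apply, aeval_C,
    Module.algebraMap_end_apply]
  have h1 := hmu b₀ b
  rw [mul_comm] at h1
  rw [h1]
  ext
  · simp only [Prod.fst_add, Prod.smul_fst]
    ring
  · simp only [Prod.snd_add, Prod.smul_snd, smul_zero, add_zero, smul_eq_C_mul, map_mul]
    ring

lemma commute_Top_Xop (b : B) : Commute (Top lam mu b) (Xop lam mu) := by
  apply LinearMap.ext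
  intro w
  rw [Module.End.mul_apply, Module.End.mul_apply]
  exact (Top_Xop_comm lam mu hmu b w).symm

lemma Top_aeval (b : B) (q : R[X]) (w : F R B) :
    Top lam mu b ((aeval (Xop lam mu) q) w) = (aeval (Xop lam mu) q) (Top lam mu b w) := by
  have := commute_aeval (R := R) _ _ (commute_Top_Xop lam mu hmu b) q
  have h2 := congrArg (fun f => f w) this.eq
  simpa [Module.End.mul_apply] using h2

lemma Top_inl (b n : B) : Top lam mu b (n, 0) = (b * n, 0) := by
  rw [Top_apply]
  simp

lemma Top_mul (b b' : B) : Top lam mu (b * b') = Top lam mu b * Top lam mu b' := by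
  apply LinearMap.ext
  rintro ⟨b₀, q⟩
  rw [Module.End.mul_apply, Top_apply lam mu b', map_add, Top_aeval lam mu hmu, Top_inl lam mu hmu,
    Top_apply, Top_apply, map_smul (aeval (Xop lam mu)), LinearMap.smul_apply]
  have h1 := hmu b' b
  rw [mul_comm] at h1
  have h2 : ((mu (b * b'), (0 : R[X])) : F R B) = lam b' • (mu b, 0) + (b * mu b', 0) := by
    rw [h1]
    ext
    · simp [mul_comm]
    · simp
  rw [h2, map_add ((aeval (Xop lam mu)) q), map_smul ((aeval (Xop lam mu)) q), map_mul lam b b',
    add_assoc]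
  congr 1
  ext
  · simp [mul_assoc]
  · simp [smul_smul]

lemma Top_one : Top lam mu 1 = 1 := by
  apply LinearMap.ext
  rintro ⟨b₀, q⟩
  rw [Top_apply, mu_one lam mu hmu]
  have : (aeval (Xop lam mu) q) ((0 : B), (0 : R[X])) = 0 := map_zero _
  rw [this]
  simp

omit hmu in
lemma Top_add (b b' : B) : Top lam mu (b + b') = Top lam mu b + Top lam mu b' := by
  apply LinearMap.ext
  rintro ⟨b₀, q⟩
  rw [LinearMap.add_apply, Top_apply, Top_apply, Top_apply]
  have : ((mu (b + b'), (0 : R[X])) : F R B) = (mu b, 0) + (mu b', 0) := by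
    ext <;> simp
  rw [this, map_add ((aeval (Xop lam mu)) q)]
  ext
  · simp only [Prod.fst_add]
    ring
  · simp only [Prod.snd_add, map_add, add_smul]
    ring

omit hmu in
lemma Top_smul (r : R) (b : B) : Top lam mu (r • b) = r • Top lam mu b := by
  apply LinearMap.ext
  rintro ⟨b₀, q⟩
  rw [LinearMap.smul_apply, Top_apply, Top_apply]
  have : ((mu (r • b), (0 : R[X])) : F R B) = r • (mu b, 0) := by
    ext <;> simp
  rw [this, map_smul ((aeval (Xop lam mu)) q)]
  ext
  · simp
  · simp [smul_smul]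

/-- `Top` as an algebra hom -/
def TopAlg : B →ₐ[R] Module.End R (F R B) :=
  AlgHom.ofLinearMap
    { toFun := Top lam mu
      map_add' := Top_add lam mu
      map_smul' := Top_smul lam mu }
    (Top_one lam mu hmu) (Top_mul lam mu hmu)

@[simp] lemma TopAlg_apply (b : B) : TopAlg lam mu hmu b = Top lam mu b := rfl

lemma Xop_mul_Top (b : B) :
    Xop lam mu * Top lam mu b = lam b • Xop lam mu + Top lam mu (mu b) := by
  apply LinearMap.ext
  rintro ⟨b₀, q⟩
  rw [Module.End.mul_apply, Xop_Top lam mu hmu, LinearMap.add_apply, LinearMap.smul_apply,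
    Xop_apply, Top_apply, ← aeval_Xop_comm lam mu hmu, Xop_apply]
  have h1 : ((mu (mu b), C (lam (mu b)) + X * (0 : R[X])) : F R B) =
      (mu (mu b), 0) + (0, C (lam (mu b))) := by
    ext <;> simp
  rw [h1, map_add, aeval_Xop_inr, hmu b b₀]
  ext
  · simp only [Prod.fst_add, Prod.smul_fst, add_zero]
    abel
  · simp only [Prod.snd_add, Prod.smul_snd, smul_eq_C_mul, map_mul]
    ring

section Main

variable {A' : Type w} [CommRing A'] [Algebra R A'] (ι : B →ₐ[R] A') (x : A')
  (ρ : A' →ₐ[R] Module.End R (F R B))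
  (hι : ∀ b, ρ (ι b) = Top lam mu b) (hx : ρ x = Xop lam mu)
  (hrel : ∀ b, x * ι b = lam b • x + ι (mu b))
  (hgen : Algebra.adjoin R (Set.range ι ∪ {x}) = ⊤)

omit hmu in
/-- the comparison map -/
def Psi : F R B →ₗ[R] A' :=
  ι.toLinearMap ∘ₗ LinearMap.fst R B R[X] +
    (LinearMap.mulLeft R x) ∘ₗ (aeval x).toLinearMap ∘ₗ LinearMap.snd R B R[X]

omit hmu in
@[simp] lemma Psi_apply (b : B) (q : R[X]) : Psi ι x (b, q) = ι b + x * aeval x q := by
  simp [Psi]

include hmu in
omit hmu in
lemma lam_mu_algebraMap (hmu : ∀ b b', mu (b * b') = lam b • mu b' + mu b * b') (r : R) :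
    mu (algebraMap R B r) = 0 := by
  rw [Algebra.algebraMap_eq_smul_one, map_smul, mu_one lam mu hmu, smul_zero]

omit hmu in
lemma hrel_of_gen (hmu : ∀ b b', mu (b * b') = lam b • mu b' + mu b * b')
    (S : Set B) (hS : Algebra.adjoin R S = ⊤)
    (h : ∀ b ∈ S, x * ι b = lam b • x + ι (mu b)) : ∀ b, x * ι b = lam b • x + ι (mu b) := by
  intro b
  have hb : b ∈ Algebra.adjoin R S := by rw [hS]; trivial
  induction hb using Algebra.adjoin_induction with
  | mem y hy => exact h y hy
  | algebraMap r =>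
    rw [lam_mu_algebraMap lam mu hmu, map_zero, add_zero, AlgHom.commutes, AlgHom.commutes,
      Algebra.smul_def, mul_comm]
    rfl
  | add y z _ _ hy hz =>
    rw [map_add, mul_add, hy, hz, map_add, map_add, add_smul, map_add]
    abel
  | mul y z _ _ hy hz =>
    rw [map_mul, ← mul_assoc, hy, add_mul, smul_mul_assoc, hz, hmu, map_add, map_smul, map_mul,
      map_mul, smul_add, smul_smul]
    abel

include hι hx in
lemma ev_Psi (w : F R B) : ρ (Psi ι x w) ((1 : B), (0 : R[X])) = w := by
  obtain ⟨b, q⟩ := w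
  rw [Psi_apply, map_add, map_mul, hι, hx, ← aeval_algHom_apply, hx, LinearMap.add_apply,
    Module.End.mul_apply, Top_inl lam mu hmu, Xop_aeval lam mu hmu, ← aeval_Xop_comm lam mu hmu,
    Xop_apply, mu_one lam mu hmu, map_one, mul_zero, add_zero, map_one, aeval_Xop_inr]
  ext <;> simp

include hι hx in
lemma Psi_injective : Function.Injective (Psi ι x : F R B →ₗ[R] A') := by
  intro w w' h
  rw [← ev_Psi lam mu hmu ι x ρ hι hx w, ← ev_Psi lam mu hmu ι x ρ hι hx w', h]

include hrel in
omit hmu in
lemma mul_pow_mem (k : ℕ) (b : B) : ι b * x ^ k ∈ LinearMap.range (Psi ι x : F R B →ₗ[R] A') := by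
  induction k generalizing b with
  | zero =>
    refine ⟨(b, 0), ?_⟩
    simp
  | succ k ih =>
    have h1 : ι b * x ^ (k + 1) = lam b • x ^ (k + 1) + ι (mu b) * x ^ k := by
      have := hrel b
      calc ι b * x ^ (k + 1) = x ^ k * (x * ι b) := by ring
        _ = x ^ k * (lam b • x + ι (mu b)) := by rw [this]
        _ = lam b • x ^ (k + 1) + ι (mu b) * x ^ k := by
          rw [mul_add, mul_smul_comm, pow_succ]
          ring
    rw [h1]
    refine Submodule.add_mem _ (Submodule.smul_mem _ _ ⟨((0 : B), X ^ k), ?_⟩) (ih (mu b))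
    simp [pow_succ, mul_comm]

include hrel hgen in
omit hmu in
lemma Psi_surjective : Function.Surjective (Psi ι x : F R B →ₗ[R] A') := by
  rw [← LinearMap.range_eq_top]
  set N : Set A' := {y | ∃ (b : B) (k : ℕ), y = ι b * x ^ k} with hN
  have hNM : Submodule.span R N ≤ LinearMap.range (Psi ι x : F R B →ₗ[R] A') := by
    rw [Submodule.span_le]
    rintro _ ⟨b, k, rfl⟩
    exact mul_pow_mem lam mu ι x hrel k b
  have hNN : N * N ⊆ N := by
    rintro _ ⟨_, ⟨b, k, rfl⟩, _, ⟨b', k', rfl⟩, rfl⟩
    refine ⟨b * b', k + k', ?_⟩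
    simp only [map_mul, pow_add]
    ring
  have hall : ∀ a ∈ Algebra.adjoin R (Set.range ι ∪ {x}), a ∈ Submodule.span R N := by
    intro a ha
    induction ha using Algebra.adjoin_induction with
    | mem y hy =>
      rcases hy with ⟨b, rfl⟩ | hy
      · exact Submodule.subset_span ⟨b, 0, by simp⟩
      · rw [Set.mem_singleton_iff] at hy
        subst hy
        exact Submodule.subset_span ⟨1, 1, by simp⟩
    | algebraMap r =>
      exact Submodule.subset_span ⟨algebraMap R B r, 0, by simp⟩
    | add y z _ _ hy hz => exact Submodule.add_mem _ hy hz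
    | mul y z _ _ hy hz =>
      have := Submodule.mul_mem_mul hy hz
      rw [Submodule.span_mul_span] at this
      exact Submodule.span_mono hNN this
  rw [eq_top_iff]
  intro a _
  exact hNM (hall a (by rw [hgen]; trivial))

/-- the comparison isomorphism -/
def PsiEquiv : F R B ≃ₗ[R] A' :=
  LinearEquiv.ofBijective (Psi ι x)
    ⟨Psi_injective lam mu hmu ι x ρ hι hx, Psi_surjective lam mu ι x hrel hgen⟩

lemma PsiEquiv_apply (b : B) (q : R[X]) :
    PsiEquiv lam mu hmu ι x ρ hι hx hrel hgen (b, q) = ι b + x * aeval x q := by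
  simp [PsiEquiv]

end Main

end Groth.Agent.Lib.Helper15.UnOPE

end
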