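import Mathlib

set_option autoImplicit false
set_option linter.style.haveILetI false
set_option linter.unusedSectionVars false

/-!
# The ring of "upper triangular matrices" `[[r, n], [0, b]]`, `r ∈ R`, `n b ∈ B`
-/

noncomputable section

namespace Groth.Agent.Lib.Helper15.UnUT

universe u v

/-- upper triangular matrices -/
@[ext] structure UT (R : Type u) (B : Type v) where
  /-- upper left entry -/
  d0 : R
  /-- upper right entry -/
  off : B
  /-- lower right entry -/
  d1 : B

variable {R : Type u} {B : Type v} [CommRing R] [CommRing B] [Algebra R B]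

namespace UT

/-- equivalence with the product -/
def equivProd : UT R B ≃ R × B × B where
  toFun x := (x.d0, x.off, x.d1)
  invFun p := ⟨p.1, p.2.1, p.2.2⟩
  left_inv _ := rfl
  right_inv _ := rfl

instance : AddCommGroup (UT R B) := equivProd.addCommGroup
instance : Module R (UT R B) := equivProd.module R

instance : Mul (UT R B) := ⟨fun x y => ⟨x.d0 * y.d0, x.d0 • y.off + x.off * y.d1, x.d1 * y.d1⟩⟩
instance : One (UT R B) := ⟨⟨1, 0, 1⟩⟩

@[simp] lemma zero_d0 : (0 : UT R B).d0 = 0 := rfl
@[simp] lemma zero_off : (0 : UT R B).off = 0 := rfl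
@[simp] lemma zero_d1 : (0 : UT R B).d1 = 0 := rfl
@[simp] lemma one_d0 : (1 : UT R B).d0 = 1 := rfl
@[simp] lemma one_off : (1 : UT R B).off = 0 := rfl
@[simp] lemma one_d1 : (1 : UT R B).d1 = 1 := rfl
@[simp] lemma add_d0 (x y : UT R B) : (x + y).d0 = x.d0 + y.d0 := rfl
@[simp] lemma add_off (x y : UT R B) : (x + y).off = x.off + y.off := rfl
@[simp] lemma add_d1 (x y : UT R B) : (x + y).d1 = x.d1 + y.d1 := rfl
@[simp] lemma neg_d0 (x : UT R B) : (-x).d0 = -x.d0 := rfl
@[simp] lemma neg_off (x : UT R B) : (-x).off = -x.off := rfl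
@[simp] lemma neg_d1 (x : UT R B) : (-x).d1 = -x.d1 := rfl
@[simp] lemma sub_d0 (x y : UT R B) : (x - y).d0 = x.d0 - y.d0 := rfl
@[simp] lemma sub_off (x y : UT R B) : (x - y).off = x.off - y.off := rfl
@[simp] lemma sub_d1 (x y : UT R B) : (x - y).d1 = x.d1 - y.d1 := rfl
@[simp] lemma smul_d0 (r : R) (x : UT R B) : (r • x).d0 = r * x.d0 := rfl
@[simp] lemma smul_off (r : R) (x : UT R B) : (r • x).off = r • x.off := rfl
@[simp] lemma smul_d1 (r : R) (x : UT R B) : (r • x).d1 = r • x.d1 := rfl
@[simp] lemma mul_d0 (x y : UT R B) : (x * y).d0 = x.d0 * y.d0 := rfl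
@[simp] lemma mul_off (x y : UT R B) : (x * y).off = x.d0 • y.off + x.off * y.d1 := rfl
@[simp] lemma mul_d1 (x y : UT R B) : (x * y).d1 = x.d1 * y.d1 := rfl

instance : Ring (UT R B) :=
  { (inferInstance : AddCommGroup (UT R B)) with
    mul := (· * ·)
    one := 1
    mul_assoc := fun x y z => by
      ext
      · simp [mul_assoc]
      · simp [Algebra.smul_def]; ring
      · simp [mul_assoc]
    one_mul := fun x => by ext <;> simp
    mul_one := fun x => by ext <;> simp
    left_distrib := fun x y z => by
      ext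
      · simp [mul_add]
      · simp [Algebra.smul_def]; ring
      · simp [mul_add]
    right_distrib := fun x y z => by
      ext
      · simp [add_mul]
      · simp [Algebra.smul_def]; ring
      · simp [add_mul]
    zero_mul := fun x => by ext <;> simp
    mul_zero := fun x => by ext <;> simp }

instance : Algebra R (UT R B) :=
  Algebra.ofModule
    (fun r x y => by
      ext
      · simp [mul_assoc]
      · simp [Algebra.smul_def]; ring
      · simp)
    (fun r x y => by
      ext
      · simp [mul_left_comm]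
      · simp [Algebra.smul_def]; ring
      · simp)

@[simp] lemma algebraMap_d0 (r : R) : (algebraMap R (UT R B) r).d0 = r := by
  simp [Algebra.algebraMap_eq_smul_one]

@[simp] lemma algebraMap_off (r : R) : (algebraMap R (UT R B) r).off = 0 := by
  simp [Algebra.algebraMap_eq_smul_one]

@[simp] lemma algebraMap_d1 (r : R) : (algebraMap R (UT R B) r).d1 = algebraMap R B r := by
  simp [Algebra.algebraMap_eq_smul_one]

/-- the upper left entry as an algebra hom -/
def d0Hom : UT R B →ₐ[R] R where
  toFun := d0
  map_one' := rfl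
  map_mul' _ _ := rfl
  map_zero' := rfl
  map_add' _ _ := rfl
  commutes' r := by simp

/-- the lower right entry as an algebra hom -/
def d1Hom : UT R B →ₐ[R] B where
  toFun := d1
  map_one' := rfl
  map_mul' _ _ := rfl
  map_zero' := rfl
  map_add' _ _ := rfl
  commutes' r := by simp

/-- the upper right entry as a linear map -/
def offLin : UT R B →ₗ[R] B where
  toFun := off
  map_add' _ _ := rfl
  map_smul' _ _ := rfl

@[simp] lemma d0Hom_apply (x : UT R B) : d0Hom x = x.d0 := rfl
@[simp] lemma d1Hom_apply (x : UT R B) : d1Hom x = x.d1 := rfl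
@[simp] lemma offLin_apply (x : UT R B) : offLin x = x.off := rfl

lemma pow_d0 (x : UT R B) (n : ℕ) : (x ^ n).d0 = x.d0 ^ n := map_pow (d0Hom : UT R B →ₐ[R] R) x n
lemma pow_d1 (x : UT R B) (n : ℕ) : (x ^ n).d1 = x.d1 ^ n := map_pow (d1Hom : UT R B →ₐ[R] B) x n

end UT

end Groth.Agent.Lib.Helper15.UnUT

end
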