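import Mathlib
import Groth.Agent.Lib.Helper15.UnG
import Groth.Agent.Lib.Helper15.UnUT
import Groth.Agent.Lib.Helper15.UnOPE
import Groth.Agent.Lib.Helper15.UnIds

set_option autoImplicit false
set_option linter.style.haveILetI false
set_option linter.unusedSectionVars false
set_option linter.style.longLine false

/-!
# The one point extension step for the curve algebras
-/

noncomputable section

namespace Groth.Agent.Lib.Helper15.UnStep
open W4c5m1nsnscurves Groth.Agent.Lib.Helper15.UnPres Groth.Agent.Lib.Helper15.UnNC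
  Groth.Agent.Lib.Helper15.UnUT Groth.Agent.Lib.Helper15.UnG Groth.Agent.Lib.Helper15.UnIds
  Groth.Agent.Lib.Helper15.UnOPE

universe u

lemma USat.map {R : Type u} [CommRing R] {S : Type*} [CommRing S] {n : ℕ} {w : UGen n → R}
    (hw : USat w) (φ : R →+* S) : USat (fun g => φ (w g)) := by
  refine ⟨fun i j h => ?_, fun i j h => ?_, fun i j h => ?_, fun i j k hij hjk hik => ?_⟩
  · have := congrArg φ (hw.lin i j h)
    simpa only [map_sub, map_add, map_mul, map_zero] using this
  · have := congrArg φ (hw.q1 i j h)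
    simpa only [map_sub, map_add, map_mul, map_zero] using this
  · have := congrArg φ (hw.q2 i j h)
    simpa only [map_sub, map_add, map_mul, map_zero] using this
  · have := congrArg φ (hw.t i j k hij hjk hik)
    simpa only [map_sub, map_add, map_mul, map_zero] using this

lemma UT.comm_iff {R B : Type*} [CommRing R] [CommRing B] [Algebra R B] (x y : UT R B) :
    x * y = y * x ↔ x.d0 • y.off + x.off * y.d1 = y.d0 • x.off + y.off * x.d1 := by
  constructor
  · intro h
    have := congrArg UT.off h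
    simpa using this
  · intro h
    ext
    · simp [mul_comm]
    · simpa using h
    · simp [mul_comm]

variable {R : Type u} [CommRing R] {m : ℕ} (v : UGen (m + 1) → R) (d : R)

/-- restriction of the valuation -/
def vr : UGen m → R := fun g => v g.castSucc

/-- the constant `d` computed from the last point -/
def dl : R :=
  v (.ci (Fin.last m)) * v (.cbi (Fin.last m)) *
    (v .a + v (.ci (Fin.last m)) + v (.cbi (Fin.last m))) -
    v (.ci (Fin.last m)) * v .cb - (v .a + v (.cbi (Fin.last m))) * v .c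

lemma hne (j : Fin m) : j.castSucc ≠ Fin.last m := (Fin.castSucc_lt_last j).ne
lemma hne' (j : Fin m) : Fin.last m ≠ j.castSucc := (Fin.castSucc_lt_last j).ne'
lemma hcs {i j : Fin m} (h : i ≠ j) : i.castSucc ≠ j.castSucc :=
  fun e => h (Fin.castSucc_injective _ e)

/-- the smaller algebra -/
abbrev BB : Type u := GAlg R m (vr v) d

local notation "φ" => algebraMap R (BB v d)
local notation "X2" => gx2 (vr v) d
local notation "X3" => gx3 (vr v) d
local notation "XI" => gxi (vr v) d

/-- `β_2` -/
def beta2 : BB v d := X2 * X3 + φ (v (.cbi (Fin.last m))) * X2 - φ (v .c)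
/-- `β_3` -/
def beta3 : BB v d := X2 * X3 -
  (φ (v .a) + φ (v (.ci (Fin.last m))) + φ (v (.cbi (Fin.last m)))) * φ (v (.cbi (Fin.last m))) +
    φ (v .cb) - φ (v .c)
/-- `β_j` -/
def betaj (j : Fin m) : BB v d :=
  X2 * X3 + φ (v (.cij (Fin.last m) j.castSucc (hne' j))) * XI j - φ (v .c)

/-- the values in the upper triangular ring -/
def Y2 : UT R (BB v d) := ⟨v (.ci (Fin.last m)), beta2 v d, X2⟩
def Y3 : UT R (BB v d) :=
  ⟨v .a + v (.ci (Fin.last m)) + v (.cbi (Fin.last m)), beta3 v d, X3⟩
def YI (j : Fin m) : UT R (BB v d) := ⟨v (.cij j.castSucc (Fin.last m) (hne j)), betaj v d j, XI j⟩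

section Facts

lemma hR1 (j : Fin m) : X2 * XI j - (X2 * X3 + φ (v (.ci j.castSucc)) * XI j +
    φ (v (.cbi j.castSucc)) * X2 - φ (v .c)) = 0 := (gsat_self (vr v) d).r1 j

lemma hR2 (j : Fin m) : X3 * XI j - (X2 * X3 +
    (φ (v .a) + φ (v (.ci j.castSucc)) + φ (v (.cbi j.castSucc))) *
      (XI j - φ (v (.cbi j.castSucc))) + φ (v .cb) - φ (v .c)) = 0 := by
  have := (gsat_self (vr v) d).r2 j
  simp only [map_add] at this
  exact this

lemma hR3 (i j : Fin m) (h : i ≠ j) : XI i * XI j - (X2 * X3 +
    φ (v (.cij i.castSucc j.castSucc (hcs h))) * XI j +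
    φ (v (.cij j.castSucc i.castSucc (hcs h.symm))) * XI i - φ (v .c)) = 0 :=
  (gsat_self (vr v) d).r3 i j h

lemma hCUB : X2 * X3 ^ 2 - X2 ^ 2 * X3 - (φ (v .a) * X2 * X3 + (φ (v .cb) - φ (v .c)) * X2 +
    φ (v .c) * X3 + φ d) = 0 := by
  have := (gsat_self (vr v) d).cub
  simp only [map_sub] at this
  exact this

variable {v d}

lemma hDD (hd : d = dl v) : φ d - (φ (v (.ci (Fin.last m))) * φ (v (.cbi (Fin.last m))) *
    (φ (v .a) + φ (v (.ci (Fin.last m))) + φ (v (.cbi (Fin.last m)))) -
    φ (v (.ci (Fin.last m))) * φ (v .cb) -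
    (φ (v .a) + φ (v (.cbi (Fin.last m)))) * φ (v .c)) = 0 := by
  have := congrArg φ hd
  simp only [dl, map_sub, map_mul, map_add] at this
  rw [this]
  ring

end Facts


section Theta
variable {v d} (hv : USat v) (hd : d = dl v)

include hv hd in
lemma ycomm (s t : CVar m) : cval (Y2 v d) (Y3 v d) (YI v d) s * cval (Y2 v d) (Y3 v d) (YI v d) t =
    cval (Y2 v d) (Y3 v d) (YI v d) t * cval (Y2 v d) (Y3 v d) (YI v d) s := by
  rw [UT.comm_iff]
  have hφ := USat.map hv (algebraMap R (BB v d))
  have e23 := d2_23 (cl := φ (v (.ci (Fin.last m)))) (x2 := X2) (x3 := X3) (a := φ (v .a))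
    (cbl := φ (v (.cbi (Fin.last m)))) (cb := φ (v .cb)) (c := φ (v .c)) (d := φ d)
    (CUB := hCUB v d) (DD := hDD hd)
  have e2j : ∀ j : Fin m, _ := fun j => d2_2j (cl := φ (v (.ci (Fin.last m)))) (x2 := X2) (x3 := X3)
    (clj := φ (v (.cij (Fin.last m) j.castSucc (hne' j)))) (xj := XI j) (c := φ (v .c))
    (cbl := φ (v (.cbi (Fin.last m)))) (cjl := φ (v (.cij j.castSucc (Fin.last m) (hne j))))
    (a := φ (v .a)) (cj := φ (v (.ci j.castSucc))) (cbj := φ (v (.cbi j.castSucc)))
    (cb := φ (v .cb)) (R2j := hR2 v d j) (R1j := hR1 v d j)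
    (Ljl := hφ.lin j.castSucc (Fin.last m) (hne j))
    (Q1jl := hφ.q1 j.castSucc (Fin.last m) (hne j))
    (Q2jl := hφ.q2 j.castSucc (Fin.last m) (hne j))
  have e3j : ∀ j : Fin m, _ := fun j => d2_3j (cl := φ (v (.ci (Fin.last m)))) (x2 := X2) (x3 := X3)
    (clj := φ (v (.cij (Fin.last m) j.castSucc (hne' j)))) (xj := XI j) (c := φ (v .c))
    (cbl := φ (v (.cbi (Fin.last m)))) (cjl := φ (v (.cij j.castSucc (Fin.last m) (hne j))))
    (a := φ (v .a)) (cj := φ (v (.ci j.castSucc))) (cbj := φ (v (.cbi j.castSucc)))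
    (cb := φ (v .cb)) (R2j := hR2 v d j) (R1j := hR1 v d j)
    (Ljl := hφ.lin j.castSucc (Fin.last m) (hne j))
    (Q1jl := hφ.q1 j.castSucc (Fin.last m) (hne j))
    (Q2jl := hφ.q2 j.castSucc (Fin.last m) (hne j))
  have ejk : ∀ (j k : Fin m) (h : j ≠ k), _ := fun j k h => d2_jk
    (cjl := φ (v (.cij j.castSucc (Fin.last m) (hne j)))) (x2 := X2) (x3 := X3)
    (clk := φ (v (.cij (Fin.last m) k.castSucc (hne' k)))) (xk := XI k) (c := φ (v .c))
    (clj := φ (v (.cij (Fin.last m) j.castSucc (hne' j)))) (xj := XI j)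
    (ckl := φ (v (.cij k.castSucc (Fin.last m) (hne k)))) (a := φ (v .a))
    (ck := φ (v (.ci k.castSucc))) (cbk := φ (v (.cbi k.castSucc))) (cb := φ (v .cb))
    (cjk := φ (v (.cij j.castSucc k.castSucc (hcs h))))
    (ckj := φ (v (.cij k.castSucc j.castSucc (hcs h.symm))))
    (cj := φ (v (.ci j.castSucc))) (cbj := φ (v (.cbi j.castSucc)))
    (cl := φ (v (.ci (Fin.last m)))) (cbl := φ (v (.cbi (Fin.last m))))
    (R2k := hR2 v d k) (R3jk := hR3 v d j k h) (R2j := hR2 v d j) (R1k := hR1 v d k)
    (R1j := hR1 v d j)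
    (Ljl := hφ.lin j.castSucc (Fin.last m) (hne j))
    (Lkl := hφ.lin k.castSucc (Fin.last m) (hne k))
    (Ljk := hφ.lin j.castSucc k.castSucc (hcs h))
    (Q2jk := hφ.q2 j.castSucc k.castSucc (hcs h))
    (Q2jl := hφ.q2 j.castSucc (Fin.last m) (hne j))
    (Q1jl := hφ.q1 j.castSucc (Fin.last m) (hne j))
    (Tjkl := hφ.t j.castSucc k.castSucc (Fin.last m) (hcs h) (hne k) (hne j))
    (Q1jk := hφ.q1 j.castSucc k.castSucc (hcs h))
    (Q2kl := hφ.q2 k.castSucc (Fin.last m) (hne k))
    (Q1kl := hφ.q1 k.castSucc (Fin.last m) (hne k))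
  cases s with
  | x2 =>
    cases t with
    | x2 => rfl
    | x3 =>
      simp only [cval, Y2, Y3, beta2, beta3, Algebra.smul_def, map_add]
      linear_combination e23
    | xi j =>
      simp only [cval, Y2, YI, beta2, betaj, Algebra.smul_def, map_add]
      linear_combination e2j j
  | x3 =>
    cases t with
    | x2 =>
      simp only [cval, Y2, Y3, beta2, beta3, Algebra.smul_def, map_add]
      linear_combination -e23
    | x3 => rfl
    | xi j =>
      simp only [cval, Y3, YI, beta3, betaj, Algebra.smul_def, map_add]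
      linear_combination e3j j
  | xi i =>
    cases t with
    | x2 =>
      simp only [cval, Y2, YI, beta2, betaj, Algebra.smul_def, map_add]
      linear_combination -e2j i
    | x3 =>
      simp only [cval, Y3, YI, beta3, betaj, Algebra.smul_def, map_add]
      linear_combination -e3j i
    | xi j =>
      by_cases h : i = j
      · subst h; rfl
      · simp only [cval, YI, betaj, Algebra.smul_def, map_add]
        linear_combination ejk i j h


include hv hd in
lemma ysat : GSat (vr v) d (Y2 v d) (Y3 v d) (YI v d) := by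
  have hφ := USat.map hv (algebraMap R (BB v d))
  refine ⟨fun j => ?_, fun j => ?_, fun j k h => ?_, ?_⟩
  · ext
    · simp only [UT.sub_d0, UT.add_d0, UT.mul_d0, UT.algebraMap_d0, UT.zero_d0, Y2, Y3, YI, vr,
        UGen.castSucc]
      linear_combination lam_r1 (S := R) (a := v .a) (c := v .c) (cj := v (.ci j.castSucc))
        (cbj := v (.cbi j.castSucc)) (cl := v (.ci (Fin.last m))) (cbl := v (.cbi (Fin.last m)))
        (cjl := v (.cij j.castSucc (Fin.last m) (hne j)))
        (clj := v (.cij (Fin.last m) j.castSucc (hne' j)))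
        (hv.lin j.castSucc (Fin.last m) (hne j)) (hv.q1 j.castSucc (Fin.last m) (hne j))
    · simp only [UT.sub_off, UT.add_off, UT.mul_off, UT.algebraMap_off, UT.algebraMap_d0,
        UT.zero_off, Y2, Y3, YI, vr, UGen.castSucc, beta2, beta3, betaj, Algebra.smul_def, map_add]
      linear_combination mu_r1 (cl := φ (v (.ci (Fin.last m)))) (x2 := X2) (x3 := X3)
        (clj := φ (v (.cij (Fin.last m) j.castSucc (hne' j)))) (xj := XI j) (c := φ (v .c))
        (cbl := φ (v (.cbi (Fin.last m)))) (cjl := φ (v (.cij j.castSucc (Fin.last m) (hne j))))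
        (a := φ (v .a)) (cj := φ (v (.ci j.castSucc))) (cbj := φ (v (.cbi j.castSucc)))
        (cb := φ (v .cb)) (R2j := hR2 v d j) (R1j := hR1 v d j)
        (Ljl := hφ.lin j.castSucc (Fin.last m) (hne j))
        (Q1jl := hφ.q1 j.castSucc (Fin.last m) (hne j))
        (Q2jl := hφ.q2 j.castSucc (Fin.last m) (hne j))
    · simp only [UT.sub_d1, UT.add_d1, UT.mul_d1, UT.algebraMap_d1, UT.zero_d1, Y2, Y3, YI, vr,
        UGen.castSucc]
      exact hR1 v d j
  · ext
    · simp only [UT.sub_d0, UT.add_d0, UT.mul_d0, UT.algebraMap_d0, UT.zero_d0, Y2, Y3, YI, vr,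
        UGen.castSucc]
      linear_combination lam_r2 (S := R) (a := v .a) (c := v .c) (cb := v .cb)
        (cj := v (.ci j.castSucc))
        (cbj := v (.cbi j.castSucc)) (cl := v (.ci (Fin.last m))) (cbl := v (.cbi (Fin.last m)))
        (cjl := v (.cij j.castSucc (Fin.last m) (hne j)))
        (clj := v (.cij (Fin.last m) j.castSucc (hne' j)))
        (hv.lin j.castSucc (Fin.last m) (hne j)) (hv.q1 j.castSucc (Fin.last m) (hne j))
        (hv.q2 j.castSucc (Fin.last m) (hne j))
    · simp only [UT.sub_d0, UT.add_d0, UT.mul_d0, UT.algebraMap_d0, UT.zero_d0, UT.sub_off, UT.add_off, UT.mul_off, UT.algebraMap_off, UT.zero_off, UT.sub_d1, UT.add_d1, UT.mul_d1, UT.algebraMap_d1, UT.zero_d1,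
        Y2, Y3, YI, vr, UGen.castSucc, beta2, beta3, betaj, Algebra.smul_def, map_add]
      linear_combination mu_r2 (cl := φ (v (.ci (Fin.last m)))) (x2 := X2) (x3 := X3)
        (clj := φ (v (.cij (Fin.last m) j.castSucc (hne' j)))) (xj := XI j) (c := φ (v .c))
        (cbl := φ (v (.cbi (Fin.last m)))) (cjl := φ (v (.cij j.castSucc (Fin.last m) (hne j))))
        (a := φ (v .a)) (cj := φ (v (.ci j.castSucc))) (cbj := φ (v (.cbi j.castSucc)))
        (cb := φ (v .cb)) (R2j := hR2 v d j) (R1j := hR1 v d j)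
        (Ljl := hφ.lin j.castSucc (Fin.last m) (hne j))
        (Q1jl := hφ.q1 j.castSucc (Fin.last m) (hne j))
        (Q2jl := hφ.q2 j.castSucc (Fin.last m) (hne j))
    · simp only [UT.sub_d1, UT.add_d1, UT.mul_d1, UT.algebraMap_d1, UT.zero_d1, Y2, Y3, YI, vr,
        UGen.castSucc, map_add]
      exact hR2 v d j
  · ext
    · simp only [UT.sub_d0, UT.add_d0, UT.mul_d0, UT.algebraMap_d0, UT.zero_d0, Y2, Y3, YI, vr,
        UGen.castSucc]
      linear_combination lam_r3 (S := R) (a := v .a) (c := v .c)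
        (cl := v (.ci (Fin.last m))) (cbl := v (.cbi (Fin.last m)))
        (cjl := v (.cij j.castSucc (Fin.last m) (hne j)))
        (ckl := v (.cij k.castSucc (Fin.last m) (hne k)))
        (cjk := v (.cij j.castSucc k.castSucc (hcs h)))
        (ckj := v (.cij k.castSucc j.castSucc (hcs h.symm)))
        (hv.t j.castSucc k.castSucc (Fin.last m) (hcs h) (hne k) (hne j))
    · simp only [UT.sub_off, UT.add_off, UT.mul_off, UT.algebraMap_off, UT.algebraMap_d0,
        UT.zero_off, Y2, Y3, YI, vr, UGen.castSucc, beta2, beta3, betaj, Algebra.smul_def, map_add]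
      linear_combination mu_r3
        (cjl := φ (v (.cij j.castSucc (Fin.last m) (hne j)))) (x2 := X2) (x3 := X3)
        (clk := φ (v (.cij (Fin.last m) k.castSucc (hne' k)))) (xk := XI k) (c := φ (v .c))
        (clj := φ (v (.cij (Fin.last m) j.castSucc (hne' j)))) (xj := XI j)
        (ckl := φ (v (.cij k.castSucc (Fin.last m) (hne k)))) (a := φ (v .a))
        (ck := φ (v (.ci k.castSucc))) (cbk := φ (v (.cbi k.castSucc))) (cb := φ (v .cb))
        (cjk := φ (v (.cij j.castSucc k.castSucc (hcs h))))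
        (ckj := φ (v (.cij k.castSucc j.castSucc (hcs h.symm))))
        (cj := φ (v (.ci j.castSucc))) (cbj := φ (v (.cbi j.castSucc)))
        (cl := φ (v (.ci (Fin.last m)))) (cbl := φ (v (.cbi (Fin.last m))))
        (R2k := hR2 v d k) (R3jk := hR3 v d j k h) (R1k := hR1 v d k)
        (Ljl := hφ.lin j.castSucc (Fin.last m) (hne j))
        (Lkl := hφ.lin k.castSucc (Fin.last m) (hne k))
        (Ljk := hφ.lin j.castSucc k.castSucc (hcs h))
        (Q2jk := hφ.q2 j.castSucc k.castSucc (hcs h))
        (Q2jl := hφ.q2 j.castSucc (Fin.last m) (hne j))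
        (Q1jl := hφ.q1 j.castSucc (Fin.last m) (hne j))
        (Tjkl := hφ.t j.castSucc k.castSucc (Fin.last m) (hcs h) (hne k) (hne j))
        (Q1jk := hφ.q1 j.castSucc k.castSucc (hcs h))
    · simp only [UT.sub_d1, UT.add_d1, UT.mul_d1, UT.algebraMap_d1, UT.zero_d1, Y2, Y3, YI, vr,
        UGen.castSucc]
      exact hR3 v d j k h
  · ext
    · simp only [UT.sub_d0, UT.add_d0, UT.mul_d0, UT.algebraMap_d0, UT.zero_d0, UT.pow_d0, Y2, Y3,
        vr, UGen.castSucc]
      have hd' : d - (v (.ci (Fin.last m)) * v (.cbi (Fin.last m)) *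
          (v .a + v (.ci (Fin.last m)) + v (.cbi (Fin.last m))) -
          v (.ci (Fin.last m)) * v .cb - (v .a + v (.cbi (Fin.last m))) * v .c) = 0 := by
        rw [hd, dl, sub_self]
      linear_combination lam_cub (S := R) (a := v .a) (c := v .c) (cb := v .cb) (d := d)
        (cl := v (.ci (Fin.last m))) (cbl := v (.cbi (Fin.last m))) hd'
    · simp only [pow_two, UT.sub_d0, UT.add_d0, UT.mul_d0, UT.algebraMap_d0, UT.zero_d0, UT.sub_off, UT.add_off, UT.mul_off, UT.algebraMap_off, UT.zero_off, UT.sub_d1, UT.add_d1, UT.mul_d1, UT.algebraMap_d1, UT.zero_d1,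
        Y2, Y3, vr, UGen.castSucc, beta2, beta3, Algebra.smul_def, map_add,
        map_sub, map_mul]
      linear_combination mu_cub (cl := φ (v (.ci (Fin.last m)))) (x2 := X2) (x3 := X3)
        (a := φ (v .a))
        (cbl := φ (v (.cbi (Fin.last m)))) (cb := φ (v .cb)) (c := φ (v .c)) (d := φ d)
        (CUB := hCUB v d) (DD := hDD hd)
    · simp only [UT.sub_d1, UT.add_d1, UT.mul_d1, UT.algebraMap_d1, UT.zero_d1, UT.pow_d1, Y2, Y3,
        vr, UGen.castSucc, map_sub]
      exact hCUB v d

/-- the hom to the upper triangular ring -/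
def Theta : BB v d →ₐ[R] UT R (BB v d) :=
  glift (vr v) d (Y2 v d) (Y3 v d) (YI v d) (ycomm hv hd) (ysat hv hd)

/-- evaluation at the new point -/
def lamH : BB v d →ₐ[R] R := (UT.d0Hom).comp (Theta hv hd)

/-- the twisted derivation -/
def muL : BB v d →ₗ[R] BB v d := UT.offLin ∘ₗ (Theta hv hd).toLinearMap

lemma Theta_d1 (b : BB v d) : (Theta hv hd b).d1 = b := by
  have : (UT.d1Hom).comp (Theta hv hd) = AlgHom.id R (BB v d) := by
    apply ghom_ext
    intro s
    simp only [AlgHom.comp_apply, Theta, glift_gvar, AlgHom.id_apply, UT.d1Hom_apply]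
    cases s <;> rfl
  exact congrArg (fun f => f b) this

lemma hmu (b b' : BB v d) :
    muL hv hd (b * b') = lamH hv hd b • muL hv hd b' + muL hv hd b * b' := by
  simp only [muL, lamH, LinearMap.comp_apply, AlgHom.toLinearMap_apply, UT.offLin_apply, map_mul,
    UT.mul_off, AlgHom.comp_apply, UT.d0Hom_apply, Theta_d1]

lemma lamH_gvar (s : CVar m) : lamH hv hd (gvar (vr v) d s) = (cval (Y2 v d) (Y3 v d) (YI v d) s).d0 := by
  simp [lamH, Theta]

lemma muL_gvar (s : CVar m) : muL hv hd (gvar (vr v) d s) = (cval (Y2 v d) (Y3 v d) (YI v d) s).off := by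
  simp [muL, Theta]

end Theta


section Rho
variable {v d} (hv : USat v) (hd : d = dl v)

/-- multiplication operators -/
abbrev TT (b : BB v d) : Module.End R (F R (BB v d)) := Top (lamH hv hd) (muL hv hd) b
/-- the new variable operator -/
abbrev XX : Module.End R (F R (BB v d)) := Xop (lamH hv hd) (muL hv hd)
/-- `Top` as algebra hom -/
abbrev TA : BB v d →ₐ[R] Module.End R (F R (BB v d)) :=
  TopAlg (lamH hv hd) (muL hv hd) (hmu hv hd)

/-- values for the variables `x_i` -/
def yv : Fin (m + 1) → Module.End R (F R (BB v d)) :=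
  Fin.lastCases (motive := fun _ => Module.End R (F R (BB v d))) (XX hv hd)
    (fun j => TT hv hd (XI j))

@[simp] lemma yv_last : yv hv hd (Fin.last m) = XX hv hd := by simp [yv]
@[simp] lemma yv_cast (j : Fin m) : yv hv hd j.castSucc = TT hv hd (XI j) := by simp [yv]

lemma rval (s : CVar (m + 1)) :
    (∃ b, cval (TT hv hd X2) (TT hv hd X3) (yv hv hd) s = TT hv hd b) ∨
      cval (TT hv hd X2) (TT hv hd X3) (yv hv hd) s = XX hv hd := by
  cases s with
  | x2 => exact Or.inl ⟨_, rfl⟩
  | x3 => exact Or.inl ⟨_, rfl⟩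
  | xi i =>
    induction i using Fin.lastCases with
    | last => exact Or.inr (yv_last hv hd)
    | cast j => exact Or.inl ⟨_, yv_cast hv hd j⟩

lemma rcomm (s t : CVar (m + 1)) :
    cval (TT hv hd X2) (TT hv hd X3) (yv hv hd) s * cval (TT hv hd X2) (TT hv hd X3) (yv hv hd) t =
    cval (TT hv hd X2) (TT hv hd X3) (yv hv hd) t * cval (TT hv hd X2) (TT hv hd X3) (yv hv hd) s := by
  rcases rval hv hd s with ⟨b, hb⟩ | hb <;> rcases rval hv hd t with ⟨b', hb'⟩ | hb' <;> rw [hb, hb']
  · rw [← Top_mul _ _ (hmu hv hd), ← Top_mul _ _ (hmu hv hd), mul_comm]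
  · exact (commute_Top_Xop _ _ (hmu hv hd) b).eq
  · exact (commute_Top_Xop _ _ (hmu hv hd) b').eq.symm

lemma lam_X2 : lamH hv hd X2 = v (.ci (Fin.last m)) := by
  rw [lamH_gvar]; rfl
lemma lam_X3 : lamH hv hd X3 = v .a + v (.ci (Fin.last m)) + v (.cbi (Fin.last m)) := by
  rw [lamH_gvar]; rfl
lemma lam_XI (j : Fin m) : lamH hv hd (XI j) = v (.cij j.castSucc (Fin.last m) (hne j)) := by
  rw [lamH_gvar]; rfl
lemma mu_X2 : muL hv hd X2 = beta2 v d := by
  rw [muL_gvar]; rfl
lemma mu_X3 : muL hv hd X3 = beta3 v d := by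
  rw [muL_gvar]; rfl
lemma mu_XI (j : Fin m) : muL hv hd (XI j) = betaj v d j := by
  rw [muL_gvar]; rfl

lemma XX_TT (b : BB v d) :
    XX hv hd * TT hv hd b = lamH hv hd b • XX hv hd + TT hv hd (muL hv hd b) :=
  Xop_mul_Top _ _ (hmu hv hd) b

lemma TT_XX (b : BB v d) :
    TT hv hd b * XX hv hd = lamH hv hd b • XX hv hd + TT hv hd (muL hv hd b) := by
  rw [(commute_Top_Xop _ _ (hmu hv hd) b).eq, XX_TT]

lemma TT_beta2 : TT hv hd (beta2 v d) = TT hv hd X2 * TT hv hd X3 +
    algebraMap R _ (v (.cbi (Fin.last m))) * TT hv hd X2 - algebraMap R _ (v .c) := by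
  have : TT hv hd (beta2 v d) = TA hv hd (beta2 v d) := rfl
  rw [this, beta2]
  simp only [map_sub, map_add, map_mul, AlgHom.commutes, TopAlg_apply]

lemma TT_beta3 : TT hv hd (beta3 v d) = TT hv hd X2 * TT hv hd X3 -
    (algebraMap R _ (v .a) + algebraMap R _ (v (.ci (Fin.last m))) +
      algebraMap R _ (v (.cbi (Fin.last m)))) * algebraMap R _ (v (.cbi (Fin.last m))) +
    algebraMap R _ (v .cb) - algebraMap R _ (v .c) := by
  have : TT hv hd (beta3 v d) = TA hv hd (beta3 v d) := rfl
  rw [this, beta3]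
  simp only [map_sub, map_add, map_mul, AlgHom.commutes, TopAlg_apply]

lemma TT_betaj (j : Fin m) : TT hv hd (betaj v d j) = TT hv hd X2 * TT hv hd X3 +
    algebraMap R _ (v (.cij (Fin.last m) j.castSucc (hne' j))) * TT hv hd (XI j) -
    algebraMap R _ (v .c) := by
  have : TT hv hd (betaj v d j) = TA hv hd (betaj v d j) := rfl
  rw [this, betaj]
  simp only [map_sub, map_add, map_mul, AlgHom.commutes, TopAlg_apply]

lemma rsat : GSat v d (TT hv hd X2) (TT hv hd X3) (yv hv hd) := by
  refine ⟨fun i => ?_, fun i => ?_, fun i j h => ?_, ?_⟩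
  · induction i using Fin.lastCases with
    | last =>
      rw [yv_last, TT_XX, lam_X2, mu_X2, TT_beta2, Algebra.smul_def]
      abel
    | cast j =>
      rw [yv_cast]
      have := congrArg (TA hv hd) (hR1 v d j)
      simpa only [map_sub, map_add, map_mul, AlgHom.commutes, TopAlg_apply, map_zero] using this
  · induction i using Fin.lastCases with
    | last =>
      rw [yv_last, TT_XX, lam_X3, mu_X3, TT_beta3, Algebra.smul_def]
      simp only [map_add, mul_sub]
      abel
    | cast j =>
      rw [yv_cast]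
      have := congrArg (TA hv hd) (hR2 v d j)
      simpa only [map_sub, map_add, map_mul, AlgHom.commutes, TopAlg_apply, map_zero] using this
  · induction i using Fin.lastCases with
    | last =>
      induction j using Fin.lastCases with
      | last => exact absurd rfl h
      | cast j =>
        rw [yv_last, yv_cast, XX_TT, lam_XI, mu_XI, TT_betaj, Algebra.smul_def]
        abel
    | cast i =>
      induction j using Fin.lastCases with
      | last =>
        rw [yv_last, yv_cast, TT_XX, lam_XI, mu_XI, TT_betaj, Algebra.smul_def]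
        abel
      | cast j =>
        rw [yv_cast, yv_cast]
        have h' : i ≠ j := fun e => h (by rw [e])
        have := congrArg (TA hv hd) (hR3 v d i j h')
        simpa only [map_sub, map_add, map_mul, AlgHom.commutes, TopAlg_apply, map_zero] using this
  · have := congrArg (TA hv hd) (hCUB v d)
    simpa only [map_sub, map_add, map_mul, map_pow, AlgHom.commutes, TopAlg_apply, map_zero]
      using this

/-- the representation -/
def rho : GAlg R (m + 1) v d →ₐ[R] Module.End R (F R (BB v d)) :=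
  glift v d (TT hv hd X2) (TT hv hd X3) (yv hv hd) (rcomm hv hd) (rsat hv hd)

end Rho

section Iota

lemma isat : GSat (vr v) d (gx2 v d) (gx3 v d) (fun j : Fin m => gxi v d j.castSucc) :=
  ⟨fun j => (gsat_self v d).r1 j.castSucc, fun j => (gsat_self v d).r2 j.castSucc,
    fun i j h => (gsat_self v d).r3 i.castSucc j.castSucc (hcs h), (gsat_self v d).cub⟩

/-- the inclusion of the smaller algebra -/
def iota : BB v d →ₐ[R] GAlg R (m + 1) v d :=
  glift (vr v) d (gx2 v d) (gx3 v d) (fun j : Fin m => gxi v d j.castSucc)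
    (fun _ _ => mul_comm _ _) (isat v d)

@[simp] lemma iota_X2 : iota v d X2 = gx2 v d := glift_gx2 _ _ _ _ _ _ _
@[simp] lemma iota_X3 : iota v d X3 = gx3 v d := glift_gx3 _ _ _ _ _ _ _
@[simp] lemma iota_XI (j : Fin m) : iota v d (XI j) = gxi v d j.castSucc :=
  glift_gxi _ _ _ _ _ _ _ j

end Iota


section Apply
variable {v d} (hv : USat v) (hd : d = dl v)

lemma rho_gvar (s : CVar (m + 1)) :
    rho hv hd (gvar v d s) = cval (TT hv hd X2) (TT hv hd X3) (yv hv hd) s := by
  simp [rho]

lemma rho_iota (b : BB v d) : rho hv hd (iota v d b) = TT hv hd b := by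
  have : (rho hv hd).comp (iota v d) = TA hv hd := by
    apply ghom_ext
    intro s
    cases s with
    | x2 =>
      rw [AlgHom.comp_apply, iota_X2, rho_gvar]
      rfl
    | x3 =>
      rw [AlgHom.comp_apply, iota_X3, rho_gvar]
      rfl
    | xi j =>
      rw [AlgHom.comp_apply, iota_XI, rho_gvar]
      exact yv_cast hv hd j
  exact congrArg (fun f => f b) this

lemma rho_x : rho hv hd (gxi v d (Fin.last m)) = XX hv hd := by
  rw [rho_gvar]
  exact yv_last hv hd

lemma hrel_gen : ∀ b ∈ Set.range (gvar (vr v) d),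
    gxi v d (Fin.last m) * iota v d b =
      lamH hv hd b • gxi v d (Fin.last m) + iota v d (muL hv hd b) := by
  have hs : ∀ (r : R) (y : GAlg R (m + 1) v d), r • y = algebraMap R _ r * y :=
    fun r y => Algebra.smul_def r y
  rintro _ ⟨s, rfl⟩
  cases s with
  | x2 =>
    rw [iota_X2, lam_X2, mu_X2, beta2]
    simp only [map_sub, map_add, map_mul, AlgHom.commutes, iota_X2, iota_X3, hs]
    linear_combination (gsat_self v d).r1 (Fin.last m)
  | x3 =>
    rw [iota_X3, lam_X3, mu_X3, beta3]
    simp only [map_sub, map_add, map_mul, AlgHom.commutes, iota_X2, iota_X3, hs]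
    have := (gsat_self v d).r2 (Fin.last m)
    simp only [map_add] at this
    linear_combination this
  | xi j =>
    rw [iota_XI, lam_XI, mu_XI, betaj]
    simp only [map_sub, map_add, map_mul, AlgHom.commutes, iota_X2, iota_X3, iota_XI, hs]
    linear_combination (gsat_self v d).r3 j.castSucc (Fin.last m) (hne j)

lemma hrel_all (b : BB v d) :
    gxi v d (Fin.last m) * iota v d b =
      lamH hv hd b • gxi v d (Fin.last m) + iota v d (muL hv hd b) :=
  hrel_of_gen (lamH hv hd) (muL hv hd) (iota v d) (gxi v d (Fin.last m)) (hmu hv hd)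
    (Set.range (gvar (vr v) d)) (adjoin_gvar (vr v) d) (hrel_gen hv hd) b

omit hv hd in
lemma hgen : Algebra.adjoin R (Set.range (iota v d) ∪ {gxi v d (Fin.last m)}) = ⊤ := by
  rw [eq_top_iff, ← adjoin_gvar v d]
  apply Algebra.adjoin_mono
  rintro _ ⟨s, rfl⟩
  cases s with
  | x2 => exact Or.inl ⟨X2, iota_X2 v d⟩
  | x3 => exact Or.inl ⟨X3, iota_X3 v d⟩
  | xi i =>
    induction i using Fin.lastCases with
    | last => exact Or.inr rfl
    | cast j => exact Or.inl ⟨XI j, iota_XI v d j⟩

/-- the module isomorphism of the step -/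
def psi : F R (BB v d) ≃ₗ[R] GAlg R (m + 1) v d :=
  PsiEquiv (lamH hv hd) (muL hv hd) (hmu hv hd) (iota v d) (gxi v d (Fin.last m)) (rho hv hd)
    (rho_iota hv hd) (rho_x hv hd) (hrel_all hv hd) (hgen)

lemma psi_apply (b : BB v d) (q : Polynomial R) :
    psi hv hd (b, q) = iota v d b + gxi v d (Fin.last m) * Polynomial.aeval (gxi v d (Fin.last m)) q :=
  PsiEquiv_apply _ _ _ _ _ _ _ _ _ _ b q

end Apply

section Index

/-- variables of the smaller curve among those of the bigger one -/
def cvCast : CVar m → CVar (m + 1)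
  | .x2 => .x2
  | .x3 => .x3
  | .xi j => .xi j.castSucc

lemma cvCast_injective : Function.Injective (cvCast (m := m)) := by
  intro a b h
  cases a <;> cases b <;> simp only [cvCast, reduceCtorEq, CVar.xi.injEq] at h ⊢
  exact Fin.castSucc_injective _ h

lemma cvCast_ne_last (y : CVar m) : cvCast y ≠ .xi (Fin.last m) := by
  cases y with
  | x2 => simp [cvCast]
  | x3 => simp [cvCast]
  | xi j =>
    simp only [cvCast, ne_eq, CVar.xi.injEq]
    exact hne j

/-- index type of the monomial family -/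
abbrev Idx (m : ℕ) : Type := Option (ℕ ⊕ (CVar m × ℕ))

/-- reindexing -/
def idxFun : Idx m ⊕ ℕ → Idx (m + 1)
  | .inl none => none
  | .inl (some (.inl k)) => some (.inl k)
  | .inl (some (.inr (y, k))) => some (.inr (cvCast y, k))
  | .inr k => some (.inr (.xi (Fin.last m), k))

lemma idxFun_injective : Function.Injective (idxFun (m := m)) := by
  intro a b h
  rcases a with (_ | (k | ⟨y, k⟩)) | k <;> rcases b with (_ | (k' | ⟨y', k'⟩)) | k' <;>
    simp only [idxFun, reduceCtorEq, Option.some.injEq, Sum.inl.injEq, Sum.inr.injEq,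
      Prod.mk.injEq] at h ⊢
  · exact h
  · exact ⟨cvCast_injective h.1, h.2⟩
  · exact absurd h.1 (cvCast_ne_last y)
  · exact absurd h.1.symm (cvCast_ne_last y')
  · exact h.2

lemma idxFun_surjective : Function.Surjective (idxFun (m := m)) := by
  intro t
  rcases t with _ | (k | ⟨y, k⟩)
  · exact ⟨.inl none, rfl⟩
  · exact ⟨.inl (some (.inl k)), rfl⟩
  · cases y with
    | x2 => exact ⟨.inl (some (.inr (.x2, k))), rfl⟩
    | x3 => exact ⟨.inl (some (.inr (.x3, k))), rfl⟩
    | xi i =>
      induction i using Fin.lastCases with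
      | last => exact ⟨.inr k, rfl⟩
      | cast j => exact ⟨.inl (some (.inr (.xi j, k))), rfl⟩

end Index

section Basis
variable {v d} (hv : USat v) (hd : d = dl v)

omit hv hd in
lemma iota_gvar (y : CVar m) : iota v d (gvar (vr v) d y) = gvar v d (cvCast y) := by
  cases y with
  | x2 => exact iota_X2 v d
  | x3 => exact iota_X3 v d
  | xi j => exact iota_XI v d j

omit hv hd in
lemma iota_gmon (t : Idx m) : iota v d (gmon (vr v) d t) = gmon v d (idxFun (.inl t)) := by
  rcases t with _ | (k | ⟨y, k⟩)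
  · simp [gmon, idxFun]
  · simp only [gmon, idxFun, map_mul, map_pow, iota_X2, iota_X3]
  · simp only [gmon, idxFun, map_pow, iota_gvar]

include hv hd in
theorem step_basis
    (hB : LinearIndependent R (gmon (vr v) d) ∧ Submodule.span R (Set.range (gmon (vr v) d)) = ⊤) :
    LinearIndependent R (gmon v d) ∧ Submodule.span R (Set.range (gmon v d)) = ⊤ := by
  let bB : Module.Basis (Idx m) R (BB v d) := Module.Basis.mk hB.1 (by rw [hB.2])
  let bF := bB.prod (Polynomial.basisMonomials R)
  let bA := bF.map (psi hv hd)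
  have hbA : ⇑bA = gmon v d ∘ idxFun := by
    funext s
    rcases s with t | k
    · have h1 : bF (.inl t) = (gmon (vr v) d t, 0) := by
        simp [bF, bB, Module.Basis.prod_apply]
      simp only [bA, Module.Basis.map_apply, h1, psi_apply, map_zero, mul_zero, add_zero,
        Function.comp_apply]
      exact iota_gmon t
    · have h1 : bF (.inr k) = (0, Polynomial.monomial k 1) := by
        simp [bF, Module.Basis.prod_apply, Polynomial.coe_basisMonomials]
      simp only [bA, Module.Basis.map_apply, h1, psi_apply, map_zero, zero_add,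
        Function.comp_apply, Polynomial.aeval_monomial, map_one, one_mul, idxFun, gmon]
      rw [pow_succ, mul_comm]
  let e : Idx m ⊕ ℕ ≃ Idx (m + 1) :=
    Equiv.ofBijective idxFun ⟨idxFun_injective, idxFun_surjective⟩
  have he : ⇑e = idxFun := rfl
  constructor
  · have := bA.linearIndependent
    rw [hbA, ← he] at this
    exact (linearIndependent_equiv e).mp this
  · have := bA.span_eq
    rw [hbA, idxFun_surjective.range_comp] at this
    exact this

end Basis

end Groth.Agent.Lib.Helper15.UnStep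

end
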