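import Mathlib
import Groth.Agent.Lib.Helper15.UnStep
import Groth.Agent.S18251

set_option autoImplicit false
set_option linter.style.haveILetI false
set_option linter.unusedSectionVars false
set_option linter.style.longLine false

/-!
# The monomial basis of the curve algebras (by induction on the number of points)
-/

noncomputable section

namespace Groth.Agent.Lib.Helper15.UnBasis
open W4c5m1nsnscurves Groth.Agent.Lib.Helper15.UnPres Groth.Agent.Lib.Helper15.UnNC
  Groth.Agent.Lib.Helper15.UnUT Groth.Agent.Lib.Helper15.UnG Groth.Agent.Lib.Helper15.UnIds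
  Groth.Agent.Lib.Helper15.UnOPE Groth.Agent.Lib.Helper15.UnStep

universe u
variable {R : Type u} [CommRing R]

/-- the constant term of the cubic computed from the point `i` -/
def dpt {m : ℕ} (v : UGen m → R) (i : Fin m) : R :=
  v (.ci i) * v (.cbi i) * (v .a + v (.ci i) + v (.cbi i)) - v (.ci i) * v .cb -
    (v .a + v (.cbi i)) * v .c

lemma USat.restrict {m : ℕ} {v : UGen (m + 1) → R} (hv : USat v) : USat (vr v) :=
  ⟨fun i j h => hv.lin i.castSucc j.castSucc (hcs h),
    fun i j h => hv.q1 i.castSucc j.castSucc (hcs h),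
    fun i j h => hv.q2 i.castSucc j.castSucc (hcs h),
    fun i j k hij hjk hik => hv.t i.castSucc j.castSucc k.castSucc (hcs hij) (hcs hjk) (hcs hik)⟩

section Base
open MvPolynomial
variable (v : UGen 0 → R) (d : R)

/-- the cubic curve algebra -/
abbrev C3 : Type u := CurveAlg3 R (v .a) (v .cb - v .c) (v .c) d

/-- generators of `C3` -/
def c3x (i : Fin 2) : C3 v d := Ideal.Quotient.mk _ (X i)

lemma c3rel : c3x v d 0 * c3x v d 1 ^ 2 - c3x v d 0 ^ 2 * c3x v d 1 -
    (algebraMap R (C3 v d) (v .a) * c3x v d 0 * c3x v d 1 +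
      algebraMap R (C3 v d) (v .cb - v .c) * c3x v d 0 + algebraMap R (C3 v d) (v .c) * c3x v d 1 +
      algebraMap R (C3 v d) d) = 0 := by
  have h1 : (X 0 * X 1 ^ 2 - X 0 ^ 2 * X 1 - (C (v .a) * X 0 * X 1 + C (v .cb - v .c) * X 0 +
      C (v .c) * X 1 + C d) : MvPolynomial (Fin 2) R) ∈ Ideal.span {X 0 * X 1 ^ 2 - X 0 ^ 2 * X 1 -
      (C (v .a) * X 0 * X 1 + C (v .cb - v .c) * X 0 + C (v .c) * X 1 + C d)} :=
    Ideal.subset_span rfl
  have h2 := Ideal.Quotient.eq_zero_iff_mem.mpr h1
  have hC : ∀ r : R, algebraMap R (C3 v d) r = Ideal.Quotient.mk _ (C r) := fun r => rfl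
  simpa only [c3x, hC, map_sub, map_add, map_mul, map_pow] using h2

/-- `GAlg R 0 v d → C3` -/
def toC3 : GAlg R 0 v d →ₐ[R] C3 v d :=
  glift v d (c3x v d 0) (c3x v d 1) (fun i => Fin.elim0 i) (fun _ _ => mul_comm _ _)
    ⟨fun i => Fin.elim0 i, fun i => Fin.elim0 i, fun i => Fin.elim0 i, c3rel v d⟩

/-- values of the generators of `C3` in `GAlg R 0 v d` -/
def g0val (i : Fin 2) : GAlg R 0 v d := if i = 0 then gx2 v d else gx3 v d

/-- `C3 → GAlg R 0 v d` -/
def ofC3 : C3 v d →ₐ[R] GAlg R 0 v d :=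
  Ideal.Quotient.liftₐ _ (aeval (g0val v d)) (by
    have : Ideal.span {X 0 * X 1 ^ 2 - X 0 ^ 2 * X 1 - (C (v .a) * X 0 * X 1 +
        C (v .cb - v .c) * X 0 + C (v .c) * X 1 + C d)} ≤
        RingHom.ker ((aeval (g0val v d) : MvPolynomial (Fin 2) R →ₐ[R] GAlg R 0 v d) :
          MvPolynomial (Fin 2) R →+* GAlg R 0 v d) := by
      rw [Ideal.span_le]
      intro p hp
      rw [Set.mem_singleton_iff] at hp
      subst hp
      have := (gsat_self v d).cub
      simp only [SetLike.mem_coe, RingHom.mem_ker, RingHom.coe_coe, map_sub, map_add, map_mul,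
        map_pow, aeval_X, algHom_C]
      simpa only [g0val, if_pos, if_neg (show (1 : Fin 2) ≠ 0 by decide), map_sub] using this
    exact fun p hp => this hp)

lemma ofC3_x (i : Fin 2) : ofC3 v d (c3x v d i) = g0val v d i := by
  simp [ofC3, c3x]

lemma toC3_ofC3 : (toC3 v d).comp (ofC3 v d) = AlgHom.id R _ := by
  apply Ideal.Quotient.algHom_ext
  apply MvPolynomial.algHom_ext
  intro i
  show toC3 v d (ofC3 v d (c3x v d i)) = c3x v d i
  rw [ofC3_x]
  fin_cases i
  · simp only [g0val, Fin.zero_eta, if_pos]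
    exact glift_gx2 _ _ _ _ _ _ _
  · simp only [g0val, Fin.mk_one, if_neg (show (1 : Fin 2) ≠ 0 by decide)]
    exact glift_gx3 _ _ _ _ _ _ _

lemma ofC3_toC3 : (ofC3 v d).comp (toC3 v d) = AlgHom.id R _ := by
  apply ghom_ext
  intro s
  cases s with
  | x2 =>
    rw [AlgHom.comp_apply, toC3, glift_gvar]
    exact ofC3_x v d 0
  | x3 =>
    rw [AlgHom.comp_apply, toC3, glift_gvar]
    exact ofC3_x v d 1
  | xi i => exact Fin.elim0 i

/-- the algebra isomorphism -/
def equivC3 : C3 v d ≃ₐ[R] GAlg R 0 v d :=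
  AlgEquiv.ofAlgHom (ofC3 v d) (toC3 v d) (ofC3_toC3 v d) (toC3_ofC3 v d)

/-- index correspondence -/
def var0 (i : Fin 2) : CVar 0 := if i = 0 then .x2 else .x3

lemma var0_bij : Function.Bijective var0 := by
  constructor
  · intro i j h
    fin_cases i <;> fin_cases j <;> simp [var0] at h ⊢
  · intro s
    cases s with
    | x2 => exact ⟨0, rfl⟩
    | x3 => exact ⟨1, by simp [var0]⟩
    | xi i => exact Fin.elim0 i

/-- index map -/
def idx0 : Option (ℕ ⊕ (Fin 2 × ℕ)) → Idx 0 :=
  Option.map (Sum.map id (Prod.map var0 id))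

lemma optmap_bij {α β : Type*} {f : α → β} (hf : Function.Bijective f) :
    Function.Bijective (Option.map f) := by
  constructor
  · intro a b h
    cases a <;> cases b <;> simp only [Option.map_none, Option.map_some, reduceCtorEq,
      Option.some.injEq] at h ⊢
    exact hf.1 h
  · intro b
    cases b with
    | none => exact ⟨none, rfl⟩
    | some y =>
      obtain ⟨x, rfl⟩ := hf.2 y
      exact ⟨some x, rfl⟩

lemma idx0_bij : Function.Bijective idx0 := by
  unfold idx0
  apply optmap_bij
  exact Function.Bijective.sumMap Function.bijective_id (var0_bij.prodMap Function.bijective_id)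

lemma gvar_var0 (i : Fin 2) : gvar v d (var0 i) = g0val v d i := by
  fin_cases i <;> simp [var0, g0val]

lemma equivC3_cmon3 (t : Option (ℕ ⊕ (Fin 2 × ℕ))) :
    equivC3 v d (cmon3 R (v .a) (v .cb - v .c) (v .c) d t) = gmon v d (idx0 t) := by
  have hx : ∀ i, equivC3 v d (Ideal.Quotient.mk _ (X i)) = g0val v d i := ofC3_x v d
  rcases t with _ | (k | ⟨y, k⟩)
  · simp [cmon3, idx0, gmon]
  · simp only [cmon3, idx0, gmon, Option.map_some, Sum.map_inl, id, map_mul, map_pow, hx]
    simp [g0val]
  · simp only [cmon3, idx0, gmon, Option.map_some, Sum.map_inr, Prod.map_apply, id, map_pow, hx,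
      gvar_var0]

theorem base_basis :
    LinearIndependent R (gmon v d) ∧ Submodule.span R (Set.range (gmon v d)) = ⊤ := by
  obtain ⟨hli, hsp⟩ := Groth.Agent.S18251.result R (v .a) (v .cb - v .c) (v .c) d
  have hcomp : gmon v d ∘ idx0 = (equivC3 v d) ∘ cmon3 R (v .a) (v .cb - v .c) (v .c) d := by
    funext t
    exact (equivC3_cmon3 v d t).symm
  let e : Option (ℕ ⊕ (Fin 2 × ℕ)) ≃ Idx 0 := Equiv.ofBijective idx0 idx0_bij
  have he : ⇑e = idx0 := rfl
  constructor
  · have h1 : LinearIndependent R ((equivC3 v d).toLinearEquiv ∘ cmon3 R (v .a) (v .cb - v .c) (v .c) d) :=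
      hli.map' _ (LinearEquiv.ker _)
    have h2 : LinearIndependent R (gmon v d ∘ e) := by
      rw [he, hcomp]
      exact h1
    exact (linearIndependent_equiv e).mp h2
  · have h1 : Submodule.span R (Set.range ((equivC3 v d) ∘ cmon3 R (v .a) (v .cb - v .c) (v .c) d)) = ⊤ := by
      rw [Set.range_comp]
      have := Submodule.map_span (equivC3 v d).toLinearEquiv.toLinearMap
        (Set.range (cmon3 R (v .a) (v .cb - v .c) (v .c) d))
      rw [hsp, Submodule.map_top, LinearMap.range_eq_top.mpr (equivC3 v d).toLinearEquiv.surjective]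
        at this
      exact this.symm
    rw [← hcomp, idx0_bij.2.range_comp] at h1
    exact h1

end Base

theorem gbasis (m : ℕ) : ∀ (v : UGen m → R) (d : R), USat v → (∀ i : Fin m, d = dpt v i) →
    LinearIndependent R (gmon v d) ∧ Submodule.span R (Set.range (gmon v d)) = ⊤ := by
  induction m with
  | zero =>
    intro v d _ _
    exact base_basis v d
  | succ m ih =>
    intro v d hv hd
    have hB := ih (vr v) d (USat.restrict hv) (fun i => hd i.castSucc)
    exact step_basis hv (hd (Fin.last m)) hB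

end Groth.Agent.Lib.Helper15.UnBasis

end
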