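import Mathlib
import Groth.Agent.Lib.Helper15.UnPres

set_option autoImplicit false
set_option linter.style.haveILetI false
set_option linter.unusedSectionVars false

/-!
# Cotangent space of `U_n` at the origin and generation in weight one
-/

noncomputable section

namespace Groth.Agent.Lib.Helper15.UnCot
open W4c5m1nsnscurves MvPolynomial Groth.Agent.Lib.Helper15.UnPres

universe u

/-- index type of a basis of the cotangent space -/
abbrev T (m : ℕ) : Type := Unit ⊕ (Fin m ⊕ Fin m) ⊕ {q : Fin m × Fin m // q.1 < q.2}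

/-- generator of an index -/
def gT {m : ℕ} : T m → UGen m
  | .inl _ => .a
  | .inr (.inl (.inl i)) => .ci i
  | .inr (.inl (.inr i)) => .cbi i
  | .inr (.inr q) => .cij q.1.1 q.1.2 (ne_of_lt q.2)

section Count

lemma card_lt (m : ℕ) : 2 * Fintype.card {q : Fin m × Fin m // q.1 < q.2} + m = m * m := by
  classical
  have e : {q : Fin m × Fin m // q.1 < q.2} ≃ {q : Fin m × Fin m // q.2 < q.1} :=
    { toFun := fun q => ⟨(q.1.2, q.1.1), q.2⟩
      invFun := fun q => ⟨(q.1.2, q.1.1), q.2⟩
      left_inv := fun q => rfl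
      right_inv := fun q => rfl }
  have h1 : Fintype.card {q : Fin m × Fin m // q.2 < q.1} =
      Fintype.card {q : Fin m × Fin m // q.1 < q.2} := (Fintype.card_congr e).symm
  have h2 : Fintype.card {q : Fin m × Fin m // q.1 = q.2} = m := by
    have e2 : {q : Fin m × Fin m // q.1 = q.2} ≃ Fin m :=
      { toFun := fun q => q.1.1
        invFun := fun i => ⟨(i, i), rfl⟩
        left_inv := fun q => by
          obtain ⟨⟨a, b⟩, h⟩ := q
          simp only at h
          subst h
          rfl
        right_inv := fun i => rfl }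
    rw [Fintype.card_congr e2, Fintype.card_fin]
  have h3 : Fintype.card (Fin m × Fin m) = m * m := by simp
  have h4 : Fintype.card (Fin m × Fin m) =
      Fintype.card {q : Fin m × Fin m // q.1 < q.2} +
      (Fintype.card {q : Fin m × Fin m // q.1 = q.2} +
        Fintype.card {q : Fin m × Fin m // q.2 < q.1}) := by
    rw [Fintype.card_subtype, Fintype.card_subtype, Fintype.card_subtype, ← Finset.card_univ]
    rw [← Finset.card_union_of_disjoint, ← Finset.card_union_of_disjoint]
    · congr 1
      ext q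
      simp only [Finset.mem_univ, Finset.mem_union, Finset.mem_filter, true_and, true_iff]
      rcases lt_trichotomy q.1 q.2 with h | h | h
      · exact Or.inl h
      · exact Or.inr (Or.inl h)
      · exact Or.inr (Or.inr h)
    · rw [Finset.disjoint_left]
      intro q hq1 hq2
      simp only [Finset.mem_univ, Finset.mem_union, Finset.mem_filter, true_and] at hq1 hq2
      rcases hq2 with h | h
      · exact absurd h (ne_of_lt hq1)
      · exact absurd h (not_lt.mpr hq1.le)
    · rw [Finset.disjoint_left]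
      intro q hq1 hq2
      simp only [Finset.mem_univ, Finset.mem_filter, true_and] at hq1 hq2
      exact absurd hq1.symm (ne_of_lt hq2)
  omega

lemma card_T (m : ℕ) : Fintype.card (T m) = (m + 2) * (m + 1) / 2 := by
  have h := card_lt m
  simp only [T, Fintype.card_sum, Fintype.card_unit, Fintype.card_fin]
  have h5 : (m + 2) * (m + 1) = m * m + 3 * m + 2 := by ring
  rw [h5]
  omega

end Count

section Gen
variable {k R : Type*} [Field k] [CommRing R] [Algebra k R] (I : Ideal R)

lemma toCot_smul (c : k) (y : I) : I.toCotangent (c • y) = c • I.toCotangent y := by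
  rw [← algebraMap_smul R c y, map_smul, algebraMap_smul]

lemma coe_smul' (c : k) (y : I) : ((c • y : I) : R) = algebraMap k R c * y := by
  rw [Submodule.coe_smul_of_tower, Algebra.smul_def]

end Gen

section Field
variable (k : Type u) [Field k] (m : ℕ)

/-- the vector of a generator -/
def vec : UGen m → (T m → k)
  | .a => Pi.single (.inl ()) 1
  | .c => 0
  | .cb => 0
  | .ci i => Pi.single (.inr (.inl (.inl i))) 1
  | .cbi i => Pi.single (.inr (.inl (.inr i))) 1
  | .cij i j h => if hlt : i < j then Pi.single (.inr (.inr ⟨(i, j), hlt⟩)) 1 else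
      Pi.single (.inl ()) 1 + Pi.single (.inr (.inl (.inl i))) 1 +
        Pi.single (.inr (.inl (.inr i))) 1 + Pi.single (.inr (.inl (.inl j))) 1 +
        Pi.single (.inr (.inl (.inr j))) 1 -
        Pi.single (.inr (.inr ⟨(j, i), lt_of_le_of_ne (not_lt.mp hlt) h.symm⟩)) 1

lemma vec_gT (t : T m) : vec k m (gT t) = Pi.single t 1 := by
  rcases t with _ | (i | i) | q
  · rfl
  · rfl
  · rfl
  · simp only [gT, vec, dif_pos q.2]

lemma vec_lin (i j : Fin m) (h : i ≠ j) :
    vec k m (.cij i j h) + vec k m (.cij j i h.symm) -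
      (vec k m .a + vec k m (.ci i) + vec k m (.cbi i) + vec k m (.ci j) + vec k m (.cbi j)) = 0 := by
  rcases lt_or_gt_of_ne h with hlt | hgt
  · simp only [vec, dif_pos hlt, dif_neg (not_lt.mpr hlt.le)]
    abel
  · simp only [vec, dif_pos hgt, dif_neg (not_lt.mpr hgt.le)]
    abel

/-- the square-zero ring -/
abbrev E : Type u := TrivSqZeroExt k (T m → k)

/-- values of generators in the square-zero ring -/
def wE (g : UGen m) : E k m := TrivSqZeroExt.inr (vec k m g)

lemma wE_sat : USat (wE k m) := by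
  refine ⟨fun i j hij => ?_, fun i j hij => ?_, fun i j hij => ?_, fun i j l hij hjl hil => ?_⟩
  · simp only [wE, ← TrivSqZeroExt.inr_add, ← TrivSqZeroExt.inr_sub]
    rw [vec_lin, TrivSqZeroExt.inr_zero]
  · simp only [wE, TrivSqZeroExt.inr_mul_inr]
    simp [vec]
  · simp only [wE, TrivSqZeroExt.inr_mul_inr]
    simp [vec]
  · simp only [wE, add_mul, TrivSqZeroExt.inr_mul_inr]
    simp [vec]

/-- the ring hom to the square-zero ring -/
def psi : URing k m →+* E k m := ulift (TrivSqZeroExt.inlHom k (T m → k)) (wE k m) (wE_sat k m)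

lemma psi_fst_of_mem {x : URing k m} (hx : x ∈ uorigin k m) : (psi k m x).fst = 0 := by
  unfold uorigin at hx
  induction hx using Submodule.span_induction with
  | mem x hx =>
    obtain ⟨g, rfl⟩ := hx
    simp [psi, wE]
  | zero => simp
  | add x y _ _ hx hy => simp [hx, hy]
  | smul a x _ hx => simp [hx]

lemma psi_eq_zero_of_mem_sq {x : URing k m} (hx : x ∈ uorigin k m ^ 2) : psi k m x = 0 := by
  rw [pow_two] at hx
  refine Submodule.mul_induction_on hx ?_ ?_
  · intro a ha b hb
    have h1 := psi_fst_of_mem k m ha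
    have h2 := psi_fst_of_mem k m hb
    rw [map_mul]
    ext
    · simp [h1]
    · simp [h1, h2]
  · intro x y hx hy
    rw [map_add, hx, hy, add_zero]

/-- the augmentation -/
lemma exists_const (a : URing k m) : ∃ a0 : k, a - algebraMap k _ a0 ∈ uorigin k m := by
  obtain ⟨p, rfl⟩ := Ideal.Quotient.mk_surjective a
  induction p using MvPolynomial.induction_on with
  | C r =>
    refine ⟨r, ?_⟩
    have : algebraMap k (URing k m) r = Ideal.Quotient.mk _ (C r) := rfl
    rw [this, sub_self]
    exact Ideal.zero_mem _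
  | add p q hp hq =>
    obtain ⟨p0, hp⟩ := hp
    obtain ⟨q0, hq⟩ := hq
    refine ⟨p0 + q0, ?_⟩
    have := Ideal.add_mem _ hp hq
    rw [map_add, map_add]
    convert this using 1
    ring
  | mul_X p g _ =>
    refine ⟨0, ?_⟩
    rw [map_zero, sub_zero, map_mul]
    exact Ideal.mul_mem_left _ _ (Ideal.subset_span ⟨g, rfl⟩)

lemma ugen_mem (g : UGen m) : ugen k m g ∈ uorigin k m := Ideal.subset_span ⟨g, rfl⟩

/-- classes of the basis generators -/
def cls (t : T m) : (uorigin k m).Cotangent :=
  (uorigin k m).toCotangent ⟨ugen k m (gT t), ugen_mem k m _⟩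

/-- the comparison map -/
def Phi : (T m → k) →ₗ[k] (uorigin k m).Cotangent := Fintype.linearCombination k (cls k m)

lemma Phi_injective : Function.Injective (Phi k m) := by
  classical
  rw [← LinearMap.ker_eq_bot, LinearMap.ker_eq_bot']
  intro c hc
  set z : uorigin k m := ∑ t, c t • (⟨ugen k m (gT t), ugen_mem k m _⟩ : uorigin k m) with hz
  have h1 : (uorigin k m).toCotangent z = Phi k m c := by
    rw [hz, map_sum, Phi, Fintype.linearCombination_apply]
    refine Finset.sum_congr rfl fun t _ => ?_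
    rw [toCot_smul]
    rfl
  rw [hc, Ideal.toCotangent_eq_zero] at h1
  have h2 := psi_eq_zero_of_mem_sq k m h1
  have h3 : (z : URing k m) = ∑ t, algebraMap k _ (c t) * ugen k m (gT t) := by
    rw [hz, Submodule.coe_sum]
    refine Finset.sum_congr rfl fun t _ => ?_
    exact coe_smul' _ _ _
  rw [h3, map_sum] at h2
  have h4 : ∀ t, psi k m (algebraMap k _ (c t) * ugen k m (gT t)) =
      TrivSqZeroExt.inr (c t • Pi.single t 1) := by
    intro t
    rw [map_mul, psi, ulift_algebraMap, ulift_ugen, wE, vec_gT]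
    exact TrivSqZeroExt.inl_mul_inr (c t) (Pi.single t 1)
  simp only [h4] at h2
  have h5 := congrArg TrivSqZeroExt.snd h2
  rw [TrivSqZeroExt.snd_sum] at h5
  simp only [TrivSqZeroExt.snd_inr, TrivSqZeroExt.snd_zero] at h5
  funext t
  have h6 := congrFun h5 t
  simpa [Finset.sum_apply, Pi.single_apply] using h6

variable {m} in
lemma two_le_pair (hm : 2 ≤ m) : ∃ i j : Fin m, i ≠ j :=
  ⟨⟨0, by omega⟩, ⟨1, by omega⟩, by simp [Fin.ext_iff]⟩

lemma toCot_mem_range_gen (hm : 2 ≤ m) (g : UGen m) :
    (uorigin k m).toCotangent ⟨ugen k m g, ugen_mem k m g⟩ ∈ LinearMap.range (Phi k m) := by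
  classical
  have hT : ∀ t : T m, cls k m t ∈ LinearMap.range (Phi k m) := by
    intro t
    refine ⟨Pi.single t 1, ?_⟩
    rw [Phi, Fintype.linearCombination_apply_single, one_smul]
  have hsq : ∀ (x y : URing k m) (hx : x ∈ uorigin k m) (hy : y ∈ uorigin k m),
      x * y ∈ uorigin k m ^ 2 := fun x y hx hy => by
    rw [pow_two]; exact Ideal.mul_mem_mul hx hy
  obtain ⟨i0, j0, h0⟩ := two_le_pair hm
  have hlow : ∀ (i j : Fin m) (h : i < j),
      (uorigin k m).toCotangent ⟨ugen k m (.cij i j (ne_of_lt h)), ugen_mem k m _⟩ ∈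
        LinearMap.range (Phi k m) := fun i j h => hT (.inr (.inr ⟨(i, j), h⟩))
  cases g with
  | a => exact hT (.inl ())
  | c =>
    have hz : (uorigin k m).toCotangent ⟨ugen k m .c, ugen_mem k m _⟩ = 0 := by
      rw [Ideal.toCotangent_eq_zero]
      have h1 := ugen_q1 k m i0 j0 h0
      have h2 : ugen k m .c = ugen k m (.cij j0 i0 h0.symm) * ugen k m (.ci j0) +
          ugen k m (.cij i0 j0 h0) * ugen k m (.ci i0) - ugen k m (.ci i0) * ugen k m (.ci j0) := by
        linear_combination -h1
      show ugen k m .c ∈ _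
      rw [h2]
      exact Ideal.sub_mem _ (Ideal.add_mem _ (hsq _ _ (ugen_mem k m _) (ugen_mem k m _))
        (hsq _ _ (ugen_mem k m _) (ugen_mem k m _))) (hsq _ _ (ugen_mem k m _) (ugen_mem k m _))
    rw [hz]
    exact Submodule.zero_mem _
  | cb =>
    have hz : (uorigin k m).toCotangent ⟨ugen k m .cb, ugen_mem k m _⟩ = 0 := by
      rw [Ideal.toCotangent_eq_zero]
      have h1 := ugen_q2 k m i0 j0 h0
      have h2 : ugen k m .cb = ugen k m (.cij j0 i0 h0.symm) * ugen k m (.cbi i0) +
          ugen k m (.cij i0 j0 h0) * ugen k m (.cbi j0) -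
          ugen k m (.cbi i0) * ugen k m (.cbi j0) := by
        linear_combination -h1
      show ugen k m .cb ∈ _
      rw [h2]
      exact Ideal.sub_mem _ (Ideal.add_mem _ (hsq _ _ (ugen_mem k m _) (ugen_mem k m _))
        (hsq _ _ (ugen_mem k m _) (ugen_mem k m _))) (hsq _ _ (ugen_mem k m _) (ugen_mem k m _))
    rw [hz]
    exact Submodule.zero_mem _
  | ci i => exact hT (.inr (.inl (.inl i)))
  | cbi i => exact hT (.inr (.inl (.inr i)))
  | cij i j h =>
    rcases lt_or_gt_of_ne h with hlt | hgt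
    · exact hlow i j hlt
    · have h1 := ugen_lin k m i j h
      have h2 : (⟨ugen k m (.cij i j h), ugen_mem k m _⟩ : uorigin k m) =
          ⟨ugen k m .a, ugen_mem k m _⟩ + ⟨ugen k m (.ci i), ugen_mem k m _⟩ +
          ⟨ugen k m (.cbi i), ugen_mem k m _⟩ + ⟨ugen k m (.ci j), ugen_mem k m _⟩ +
          ⟨ugen k m (.cbi j), ugen_mem k m _⟩ -
          ⟨ugen k m (.cij j i h.symm), ugen_mem k m _⟩ := by
        apply Subtype.ext
        simp only [Submodule.coe_add, Submodule.coe_sub]
        linear_combination h1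
      rw [h2, map_sub, map_add, map_add, map_add, map_add]
      exact Submodule.sub_mem _ (Submodule.add_mem _ (Submodule.add_mem _ (Submodule.add_mem _
        (Submodule.add_mem _ (hT (.inl ())) (hT (.inr (.inl (.inl i)))))
        (hT (.inr (.inl (.inr i))))) (hT (.inr (.inl (.inl j))))) (hT (.inr (.inl (.inr j)))))
        (hlow j i hgt)

lemma Phi_surjective (hm : 2 ≤ m) : Function.Surjective (Phi k m) := by
  intro y
  obtain ⟨⟨x, hx⟩, rfl⟩ := Ideal.toCotangent_surjective _ y
  change _ ∈ LinearMap.range (Phi k m)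
  have key : ∀ (x : URing k m) (hx : x ∈ Ideal.span (Set.range (ugen k m))),
      (uorigin k m).toCotangent ⟨x, hx⟩ ∈ LinearMap.range (Phi k m) := by
    intro x hx
    induction hx using Submodule.span_induction with
    | mem x hx =>
      obtain ⟨g, rfl⟩ := hx
      exact toCot_mem_range_gen k m hm g
    | zero =>
      have : (⟨0, Submodule.zero_mem _⟩ : uorigin k m) = 0 := rfl
      rw [this, map_zero]
      exact Submodule.zero_mem _
    | add x y hx hy ihx ihy =>
      have : (⟨x + y, Submodule.add_mem _ hx hy⟩ : uorigin k m) = ⟨x, hx⟩ + ⟨y, hy⟩ := rfl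
      rw [this, map_add]
      exact Submodule.add_mem _ ihx ihy
    | smul a x hx ihx =>
      obtain ⟨a0, ha0⟩ := exists_const k m a
      have h1 : (uorigin k m).toCotangent ⟨a • x, Submodule.smul_mem _ a hx⟩ =
          a0 • (uorigin k m).toCotangent ⟨x, hx⟩ := by
        rw [← sub_eq_zero, ← algebraMap_smul (URing k m) a0, ← map_smul, ← map_sub,
          Ideal.toCotangent_eq_zero]
        have h3 : ((⟨a • x, Submodule.smul_mem _ a hx⟩ -
            algebraMap k (URing k m) a0 • (⟨x, hx⟩ : uorigin k m) : uorigin k m) : URing k m) =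
            (a - algebraMap k (URing k m) a0) * x := by
          simp only [Submodule.coe_sub, Submodule.coe_smul, smul_eq_mul]
          ring
        rw [h3, pow_two]
        exact Ideal.mul_mem_mul ha0 hx
      rw [h1]
      exact Submodule.smul_mem _ _ ihx
  exact key x hx

theorem finrank_cot (hm : 2 ≤ m) :
    Module.finrank k (uorigin k m).Cotangent = (m + 2) * (m + 1) / 2 := by
  have e := LinearEquiv.ofBijective (Phi k m) ⟨Phi_injective k m, Phi_surjective k m hm⟩
  rw [← e.finrank_eq, Module.finrank_fintype_fun_eq_card, card_T]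

end Field

section Adjoin
variable (m : ℕ)

theorem adjoin_top (hm : 2 ≤ m) :
    Algebra.adjoin ℤ ({ugen ℤ m .a} ∪ Set.range (fun i : Fin m => ugen ℤ m (.ci i)) ∪
        Set.range (fun i : Fin m => ugen ℤ m (.cbi i)) ∪
        Set.range (fun q : {q : Fin m × Fin m // q.1 < q.2} =>
          ugen ℤ m (.cij q.1.1 q.1.2 (ne_of_lt q.2)))) = ⊤ := by
  set S := Algebra.adjoin ℤ ({ugen ℤ m .a} ∪ Set.range (fun i : Fin m => ugen ℤ m (.ci i)) ∪
        Set.range (fun i : Fin m => ugen ℤ m (.cbi i)) ∪
        Set.range (fun q : {q : Fin m × Fin m // q.1 < q.2} =>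
          ugen ℤ m (.cij q.1.1 q.1.2 (ne_of_lt q.2)))) with hS
  have ha : ugen ℤ m .a ∈ S :=
    Algebra.subset_adjoin (Or.inl (Or.inl (Or.inl rfl)))
  have hci : ∀ i, ugen ℤ m (.ci i) ∈ S := fun i =>
    Algebra.subset_adjoin (Or.inl (Or.inl (Or.inr ⟨i, rfl⟩)))
  have hcbi : ∀ i, ugen ℤ m (.cbi i) ∈ S := fun i =>
    Algebra.subset_adjoin (Or.inl (Or.inr ⟨i, rfl⟩))
  have hlow : ∀ (i j : Fin m) (h : i < j), ugen ℤ m (.cij i j (ne_of_lt h)) ∈ S := fun i j h =>
    Algebra.subset_adjoin (Or.inr ⟨⟨(i, j), h⟩, rfl⟩)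
  have hcij : ∀ (i j : Fin m) (h : i ≠ j), ugen ℤ m (.cij i j h) ∈ S := by
    intro i j h
    rcases lt_or_gt_of_ne h with hlt | hgt
    · exact hlow i j hlt
    · have h1 := ugen_lin ℤ m i j h
      have h2 : ugen ℤ m (.cij i j h) = ugen ℤ m .a + ugen ℤ m (.ci i) + ugen ℤ m (.cbi i) +
          ugen ℤ m (.ci j) + ugen ℤ m (.cbi j) - ugen ℤ m (.cij j i h.symm) := by
        linear_combination h1
      rw [h2]
      exact Subalgebra.sub_mem _ (Subalgebra.add_mem _ (Subalgebra.add_mem _ (Subalgebra.add_mem _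
        (Subalgebra.add_mem _ ha (hci i)) (hcbi i)) (hci j)) (hcbi j)) (hlow j i hgt)
  obtain ⟨i0, j0, h0⟩ := two_le_pair hm
  have hc : ugen ℤ m .c ∈ S := by
    have h1 := ugen_q1 ℤ m i0 j0 h0
    have h2 : ugen ℤ m .c = ugen ℤ m (.cij j0 i0 h0.symm) * ugen ℤ m (.ci j0) +
        ugen ℤ m (.cij i0 j0 h0) * ugen ℤ m (.ci i0) - ugen ℤ m (.ci i0) * ugen ℤ m (.ci j0) := by
      linear_combination -h1
    rw [h2]
    exact Subalgebra.sub_mem _ (Subalgebra.add_mem _ (Subalgebra.mul_mem _ (hcij _ _ _) (hci _))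
      (Subalgebra.mul_mem _ (hcij _ _ _) (hci _))) (Subalgebra.mul_mem _ (hci _) (hci _))
  have hcb : ugen ℤ m .cb ∈ S := by
    have h1 := ugen_q2 ℤ m i0 j0 h0
    have h2 : ugen ℤ m .cb = ugen ℤ m (.cij j0 i0 h0.symm) * ugen ℤ m (.cbi i0) +
        ugen ℤ m (.cij i0 j0 h0) * ugen ℤ m (.cbi j0) -
        ugen ℤ m (.cbi i0) * ugen ℤ m (.cbi j0) := by
      linear_combination -h1
    rw [h2]
    exact Subalgebra.sub_mem _ (Subalgebra.add_mem _ (Subalgebra.mul_mem _ (hcij _ _ _) (hcbi _))
      (Subalgebra.mul_mem _ (hcij _ _ _) (hcbi _))) (Subalgebra.mul_mem _ (hcbi _) (hcbi _))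
  have hall : ∀ g, ugen ℤ m g ∈ S := by
    intro g
    cases g with
    | a => exact ha
    | c => exact hc
    | cb => exact hcb
    | ci i => exact hci i
    | cbi i => exact hcbi i
    | cij i j h => exact hcij i j h
  have hx : ∀ x : URing ℤ m, x ∈ S := by
    intro x
    obtain ⟨p, rfl⟩ := Ideal.Quotient.mk_surjective x
    induction p using MvPolynomial.induction_on with
    | C r => exact Subalgebra.algebraMap_mem S r
    | add p q hp hq =>
      rw [map_add]
      exact Subalgebra.add_mem _ hp hq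
    | mul_X p g hp =>
      rw [map_mul]
      exact Subalgebra.mul_mem _ hp (hall g)
  rw [eq_top_iff]
  exact fun x _ => hx x

end Adjoin

theorem main (m : ℕ) (hm : 2 ≤ m) :
    (∀ (k : Type u) [Field k], Module.finrank k (uorigin k m).Cotangent = (m + 2) * (m + 1) / 2) ∧
    Algebra.adjoin ℤ ({ugen ℤ m .a} ∪ Set.range (fun i : Fin m => ugen ℤ m (.ci i)) ∪
        Set.range (fun i : Fin m => ugen ℤ m (.cbi i)) ∪
        Set.range (fun q : {q : Fin m × Fin m // q.1 < q.2} =>
          ugen ℤ m (.cij q.1.1 q.1.2 (ne_of_lt q.2)))) = ⊤ :=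
  ⟨fun k _ => finrank_cot k m hm, adjoin_top m hm⟩

end Groth.Agent.Lib.Helper15.UnCot

end
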