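import Mathlib
import Groth.Agent.Lib.Helper15.UnPres

set_option autoImplicit false
set_option linter.style.haveILetI false
set_option linter.unusedSectionVars false
set_option linter.style.longLine false

/-!
# The weight grading of `URing`: basics
-/

noncomputable section

namespace Groth.Agent.Lib.Helper15.UnGr1
open W4c5m1nsnscurves MvPolynomial Groth.Agent.Lib.Helper15.UnPres

attribute [local instance] MvPolynomial.weightedGradedAlgebra

universe u
variable (R : Type u) [CommRing R] (m : ℕ)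

lemma mem_upiece_iff (d : ℕ) (x : URing R m) :
    x ∈ upiece R m d ↔ ∃ s : MvPolynomial (UGen m) R,
      IsWeightedHomogeneous (uwt (m := m)) s d ∧ Ideal.Quotient.mk (Ideal.span (URel R m)) s = x := by
  unfold upiece
  rw [GrQuot.mem_quot_iff]
  simp only [mem_weightedHomogeneousSubmodule]

lemma wX (g : UGen m) : IsWeightedHomogeneous (uwt (m := m)) (X g : MvPolynomial (UGen m) R) (uwt g) :=
  isWeightedHomogeneous_X R _ g

abbrev WH (p : MvPolynomial (UGen m) R) (n : ℕ) : Prop := IsWeightedHomogeneous (uwt (m := m)) p n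

lemma wa : WH R m (X .a) 1 := wX R m .a
lemma wc : WH R m (X .c) 2 := wX R m .c
lemma wcb : WH R m (X .cb) 2 := wX R m .cb
lemma wci (i : Fin m) : WH R m (X (.ci i)) 1 := wX R m (.ci i)
lemma wcbi (i : Fin m) : WH R m (X (.cbi i)) 1 := wX R m (.cbi i)
lemma wcij (i j : Fin m) (h : i ≠ j) : WH R m (X (.cij i j h)) 1 := wX R m (.cij i j h)
lemma wmul {p q : MvPolynomial (UGen m) R} (hp : WH R m p 1) (hq : WH R m q 1) : WH R m (p * q) 2 :=
  hp.mul hq

lemma urel_homog (p : MvPolynomial (UGen m) R) (hp : p ∈ URel R m) :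
    ∃ n, IsWeightedHomogeneous (uwt (m := m)) p n := by
  simp only [URel, Set.mem_union, Set.mem_range] at hp
  rcases hp with ((⟨q, rfl⟩ | ⟨q, rfl⟩) | ⟨q, rfl⟩) | ⟨q, rfl⟩
  · refine ⟨1, ?_⟩
    have h1 := (wcij R m q.1.1 q.1.2 q.2).add (wcij R m q.1.2 q.1.1 (Ne.symm q.2))
    have h2 := ((((wa R m).add (wci R m q.1.1)).add (wcbi R m q.1.1)).add (wci R m q.1.2)).add
      (wcbi R m q.1.2)
    exact h1.sub h2
  · refine ⟨2, ?_⟩
    have h1 := (wmul R m (wcij R m q.1.2 q.1.1 (Ne.symm q.2)) (wci R m q.1.2)).add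
      (wmul R m (wcij R m q.1.1 q.1.2 q.2) (wci R m q.1.1))
    have h2 := wmul R m (wci R m q.1.1) (wci R m q.1.2)
    exact (h1.sub h2).sub (wc R m)
  · refine ⟨2, ?_⟩
    have h1 := (wmul R m (wcij R m q.1.2 q.1.1 (Ne.symm q.2)) (wcbi R m q.1.1)).add
      (wmul R m (wcij R m q.1.1 q.1.2 q.2) (wcbi R m q.1.2))
    have h2 := wmul R m (wcbi R m q.1.1) (wcbi R m q.1.2)
    exact (h1.sub h2).sub (wcb R m)
  · refine ⟨2, ?_⟩
    have h1 := (wmul R m (wcij R m q.1.1 q.1.2.1 q.2.1) (wcij R m q.1.2.1 q.1.2.2 q.2.2.1)).add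
      (wmul R m (wcij R m q.1.2.1 q.1.1 (Ne.symm q.2.1)) (wcij R m q.1.1 q.1.2.2 q.2.2.2))
    have h2 := wmul R m (wcij R m q.1.1 q.1.2.2 q.2.2.2) (wcij R m q.1.2.1 q.1.2.2 q.2.2.1)
    have h3 := wmul R m (((wa R m).add (wci R m q.1.2.2)).add (wcbi R m q.1.2.2)) (wci R m q.1.2.2)
    exact ((h1.sub h2).add h3).sub (wc R m)

instance isHomog : GrQuot.IsHomog (weightedHomogeneousSubmodule R (uwt (m := m)))
    (Ideal.span (URel R m)) := by
  rw [GrQuot.isHomog_iff]
  apply Ideal.homogeneous_span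
  intro p hp
  obtain ⟨n, hn⟩ := urel_homog R m p hp
  exact ⟨n, (mem_weightedHomogeneousSubmodule R _ n p).mpr hn⟩

theorem isInternal : DirectSum.IsInternal (upiece R m) := by
  have h : upiece R m = fun d => GrQuot.quot (weightedHomogeneousSubmodule R (uwt (m := m)))
      (Ideal.span (URel R m)) d := rfl
  rw [h]
  letI := GrQuot.decomposition (weightedHomogeneousSubmodule R (uwt (m := m)))
    (Ideal.span (URel R m))
  exact DirectSum.Decomposition.isInternal _

lemma ugen_mem (g : UGen m) : ugen R m g ∈ upiece R m (uwt g) :=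
  (mem_upiece_iff R m _ _).mpr ⟨X g, wX R m g, rfl⟩

lemma one_mem : (1 : URing R m) ∈ upiece R m 0 :=
  (mem_upiece_iff R m _ _).mpr ⟨1, isWeightedHomogeneous_one R _, rfl⟩

variable {R m}

lemma mul_mem {x y : URing R m} {d e : ℕ} (hx : x ∈ upiece R m d) (hy : y ∈ upiece R m e) :
    x * y ∈ upiece R m (d + e) := by
  obtain ⟨s, hs, rfl⟩ := (mem_upiece_iff R m _ _).mp hx
  obtain ⟨t, ht, rfl⟩ := (mem_upiece_iff R m _ _).mp hy
  exact (mem_upiece_iff R m _ _).mpr ⟨s * t, hs.mul ht, map_mul _ _ _⟩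

lemma pow_mem {x : URing R m} {d : ℕ} (hx : x ∈ upiece R m d) (n : ℕ) :
    x ^ n ∈ upiece R m (n * d) := by
  induction n with
  | zero => simpa using one_mem R m
  | succ n ih =>
    rw [pow_succ, Nat.succ_mul]
    exact mul_mem ih hx

lemma rename_wh {σ τ : Type*} (f : σ → τ) (w : τ → ℕ) (p : MvPolynomial σ R) (n : ℕ)
    (hp : IsWeightedHomogeneous (w ∘ f) p n) : IsWeightedHomogeneous w (rename f p) n := by
  classical
  rw [p.as_sum, map_sum]
  apply IsWeightedHomogeneous.sum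
  intro d hd
  rw [rename_monomial]
  apply isWeightedHomogeneous_monomial
  have h1 : Finsupp.weight w (Finsupp.mapDomain f d) = Finsupp.weight (w ∘ f) d := by
    change Finsupp.linearCombination ℕ w (Finsupp.mapDomain f d) =
      Finsupp.linearCombination ℕ (w ∘ f) d
    exact Finsupp.linearCombination_mapDomain (R := ℕ) (v' := w) f d
  rw [h1]
  exact hp (mem_support_iff.mp hd)

lemma uwt_castSucc (g : UGen m) : uwt g.castSucc = uwt g := by
  cases g <;> rfl

lemma uincl_mem {x : URing R m} {d : ℕ} (hx : x ∈ upiece R m d) :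
    uincl R m x ∈ upiece R (m + 1) d := by
  obtain ⟨s, hs, rfl⟩ := (mem_upiece_iff R m _ _).mp hx
  refine (mem_upiece_iff R (m + 1) _ _).mpr ⟨rename UGen.castSucc s, ?_, ?_⟩
  · apply rename_wh
    have : (uwt (m := m + 1)) ∘ UGen.castSucc = uwt (m := m) := funext uwt_castSucc
    rw [this]
    exact hs
  · simp [uincl]

end Groth.Agent.Lib.Helper15.UnGr1

end
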