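import Mathlib

set_option autoImplicit false
set_option linter.style.haveILetI false
set_option linter.unusedSectionVars false
set_option linter.style.longLine false

/-!
# Graded bases and their counting series (abstract)
-/

noncomputable section

namespace Groth.Agent.Lib.Helper15.UnGr2


/-- A module with a family of submodules has a graded basis with counting series `H`. -/
def HasGB (R : Type) [CommRing R] (M : Type) [AddCommGroup M] [Module R M] (P : ℕ → Submodule R M)
    (H : PowerSeries ℤ) : Prop :=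
  ∃ (κ : Type) (deg : κ → ℕ) (fib : ℕ → Finset κ) (b : Module.Basis κ R M),
    (∀ d k, k ∈ fib d ↔ deg k = d) ∧ (∀ k, b k ∈ P (deg k)) ∧
      ∀ d, ((fib d).card : ℤ) = PowerSeries.coeff d H

section
variable {R : Type} [CommRing R] [Nontrivial R] {M : Type} [AddCommGroup M] [Module R M]
  {P : ℕ → Submodule R M}

lemma piece_eq_span (hP : iSupIndep P) {κ : Type} (deg : κ → ℕ) (fib : ℕ → Finset κ)
    (b : Module.Basis κ R M) (hfib : ∀ d k, k ∈ fib d ↔ deg k = d) (hb : ∀ k, b k ∈ P (deg k))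
    (d : ℕ) : P d = Submodule.span R (b '' (fib d : Set κ)) := by
  classical
  apply le_antisymm
  · intro x hx
    set c := b.repr x with hc
    have hsum : x = ∑ k ∈ c.support, c k • b k := by
      conv_lhs => rw [← b.linearCombination_repr x]
      rw [Finsupp.linearCombination_apply, Finsupp.sum]
    set y := ∑ k ∈ c.support.filter (fun k => deg k = d), c k • b k with hy
    set z := ∑ k ∈ c.support.filter (fun k => ¬ deg k = d), c k • b k with hz
    have hxyz : x = y + z := by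
      rw [hsum, hy, hz, Finset.sum_filter_add_sum_filter_not]
    have hyspan : y ∈ Submodule.span R (b '' (fib d : Set κ)) := by
      apply Submodule.sum_mem
      intro k hk
      apply Submodule.smul_mem
      apply Submodule.subset_span
      exact ⟨k, (hfib d k).mpr (Finset.mem_filter.mp hk).2, rfl⟩
    have hyP : y ∈ P d := by
      apply Submodule.sum_mem
      intro k hk
      apply Submodule.smul_mem
      have := hb k
      rwa [(Finset.mem_filter.mp hk).2] at this
    have hzsup : z ∈ ⨆ (e : ℕ) (_ : e ≠ d), P e := by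
      apply Submodule.sum_mem
      intro k hk
      apply Submodule.smul_mem
      have h1 : P (deg k) ≤ ⨆ (e : ℕ) (_ : e ≠ d), P e :=
        le_iSup₂ (f := fun (e : ℕ) (_ : e ≠ d) => P e) (deg k) (Finset.mem_filter.mp hk).2
      exact h1 (hb k)
    have hzP : z ∈ P d := by
      have : z = x - y := by rw [hxyz]; abel
      rw [this]
      exact Submodule.sub_mem _ hx hyP
    have hz0 : z = 0 := (Submodule.disjoint_def.mp (hP d)) z hzP hzsup
    rw [hxyz, hz0, add_zero]
    exact hyspan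
  · rw [Submodule.span_le]
    rintro _ ⟨k, hk, rfl⟩
    have := hb k
    rwa [(hfib d k).mp hk] at this

lemma finrank_piece (hP : iSupIndep P) {κ : Type} (deg : κ → ℕ) (fib : ℕ → Finset κ)
    (b : Module.Basis κ R M) (hfib : ∀ d k, k ∈ fib d ↔ deg k = d) (hb : ∀ k, b k ∈ P (deg k))
    (d : ℕ) : Module.finrank R (P d) = (fib d).card := by
  classical
  rw [piece_eq_span hP deg fib b hfib hb d]
  have hli : LinearIndependent R (fun k : (fib d : Set κ) => b k) :=
    b.linearIndependent.comp _ Subtype.val_injective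
  have hrange : Set.range (fun k : (fib d : Set κ) => b k) = b '' (fib d : Set κ) := by
    ext x
    simp
  rw [← hrange, finrank_span_eq_card hli]
  simp

theorem HasGB.free {H : PowerSeries ℤ} (h : HasGB R M P H) : Module.Free R M := by
  obtain ⟨κ, deg, fib, b, -, -, -⟩ := h
  exact Module.Free.of_basis b

theorem HasGB.finrank {H : PowerSeries ℤ} (h : HasGB R M P H) (hP : iSupIndep P) (d : ℕ) :
    (Module.finrank R (P d) : ℤ) = PowerSeries.coeff d H := by
  obtain ⟨κ, deg, fib, b, hfib, hb, hH⟩ := h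
  rw [finrank_piece hP deg fib b hfib hb d, hH]

end

section Product
open Classical in
/-- fibers of the product -/
def fibProd {κ₁ κ₂ : Type} (fib₁ : ℕ → Finset κ₁) (fib₂ : ℕ → Finset κ₂) (D : ℕ) : Finset (κ₁ × κ₂) :=
  (Finset.HasAntidiagonal.antidiagonal D).biUnion fun ij => (fib₁ ij.1) ×ˢ (fib₂ ij.2)

variable {κ₁ κ₂ : Type} {deg₁ : κ₁ → ℕ} {deg₂ : κ₂ → ℕ} {fib₁ : ℕ → Finset κ₁}
  {fib₂ : ℕ → Finset κ₂}

lemma mem_fibProd (h₁ : ∀ d k, k ∈ fib₁ d ↔ deg₁ k = d) (h₂ : ∀ d k, k ∈ fib₂ d ↔ deg₂ k = d)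
    (D : ℕ) (k : κ₁ × κ₂) : k ∈ fibProd fib₁ fib₂ D ↔ deg₁ k.1 + deg₂ k.2 = D := by
  classical
  simp only [fibProd, Finset.mem_biUnion, Finset.HasAntidiagonal.mem_antidiagonal,
    Finset.mem_product, h₁, h₂, Prod.exists]
  constructor
  · rintro ⟨i, j, hij, hi, hj⟩
    rw [hi, hj, hij]
  · intro h
    exact ⟨deg₁ k.1, deg₂ k.2, h, rfl, rfl⟩

lemma card_fibProd (h₁ : ∀ d k, k ∈ fib₁ d ↔ deg₁ k = d) (h₂ : ∀ d k, k ∈ fib₂ d ↔ deg₂ k = d)
    (D : ℕ) : (fibProd fib₁ fib₂ D).card =
      ∑ ij ∈ Finset.HasAntidiagonal.antidiagonal D, (fib₁ ij.1).card * (fib₂ ij.2).card := by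
  classical
  rw [fibProd, Finset.card_biUnion]
  · simp only [Finset.card_product]
  · intro ij _ ij' _ hne
    change Disjoint (fib₁ ij.1 ×ˢ fib₂ ij.2) (fib₁ ij'.1 ×ˢ fib₂ ij'.2)
    rw [Finset.disjoint_left]
    rintro ⟨k₁, k₂⟩ hk hk'
    simp only [Finset.mem_product, h₁, h₂] at hk hk'
    apply hne
    ext
    · rw [← hk.1, ← hk'.1]
    · rw [← hk.2, ← hk'.2]

lemma coeff_mul_of_card (h₁ : ∀ d k, k ∈ fib₁ d ↔ deg₁ k = d) (h₂ : ∀ d k, k ∈ fib₂ d ↔ deg₂ k = d)
    (H₁ H₂ : PowerSeries ℤ) (hH₁ : ∀ d, ((fib₁ d).card : ℤ) = PowerSeries.coeff d H₁)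
    (hH₂ : ∀ d, ((fib₂ d).card : ℤ) = PowerSeries.coeff d H₂) (D : ℕ) :
    ((fibProd fib₁ fib₂ D).card : ℤ) = PowerSeries.coeff D (H₁ * H₂) := by
  rw [card_fibProd h₁ h₂, PowerSeries.coeff_mul]
  push_cast
  refine Finset.sum_congr rfl fun ij _ => ?_
  rw [hH₁, hH₂]

end Product

end Groth.Agent.Lib.Helper15.UnGr2

end
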