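import Mathlib
import Groth.Agent.Lib.Helper15.UnGr1
import Groth.Agent.Lib.Helper15.UnGr2
import Groth.Agent.S18247

set_option autoImplicit false
set_option linter.style.haveILetI false
set_option linter.unusedSectionVars false
set_option linter.style.longLine false

/-!
# Graded basis of `URing ℤ 2` (base of the induction)
-/

noncomputable section

namespace Groth.Agent.Lib.Helper15.UnGr3
open W4c5m1nsnscurves MvPolynomial Groth.Agent.Lib.Helper15.UnPres Groth.Agent.Lib.Helper15.UnGr1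
  Groth.Agent.Lib.Helper15.UnGr2

/-- the six generators -/
def gens : Fin 6 → URing ℤ 2 :=
  ![ugen ℤ 2 .a, ugen ℤ 2 (.ci 0), ugen ℤ 2 (.cbi 0), ugen ℤ 2 (.ci 1), ugen ℤ 2 (.cbi 1),
    ugen ℤ 2 (.cij 0 1 Fin.zero_ne_one)]

lemma gens_mem (i : Fin 6) : gens i ∈ upiece ℤ 2 1 := by
  fin_cases i
  · exact ugen_mem ℤ 2 .a
  · exact ugen_mem ℤ 2 (.ci 0)
  · exact ugen_mem ℤ 2 (.cbi 0)
  · exact ugen_mem ℤ 2 (.ci 1)
  · exact ugen_mem ℤ 2 (.cbi 1)
  · exact ugen_mem ℤ 2 (.cij 0 1 Fin.zero_ne_one)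

/-- the polynomial ring isomorphism -/
def Phi : MvPolynomial (Fin 6) ℤ ≃ₐ[ℤ] URing ℤ 2 :=
  AlgEquiv.ofBijective (aeval gens) Groth.Agent.S18247.result

lemma prod_mem (f : Fin 6 → ℕ) (s : Finset (Fin 6)) :
    ∏ i ∈ s, gens i ^ f i ∈ upiece ℤ 2 (∑ i ∈ s, f i) := by
  classical
  induction s using Finset.induction_on with
  | empty => simpa using one_mem ℤ 2
  | insert a s ha ih =>
    rw [Finset.prod_insert ha, Finset.sum_insert ha]
    have := pow_mem (gens_mem a) (f a)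
    rw [mul_one] at this
    exact mul_mem this ih

lemma Phi_monomial (f : Fin 6 →₀ ℕ) : Phi (monomial f 1) = ∏ i, gens i ^ f i := by
  show aeval gens (monomial f 1) = _
  rw [aeval_monomial, map_one, one_mul, Finsupp.prod_fintype]
  intro i
  exact pow_zero _

/-- the monomial basis -/
def bas : Module.Basis (Fin 6 →₀ ℕ) ℤ (URing ℤ 2) :=
  (MvPolynomial.basisMonomials (Fin 6) ℤ).map Phi.toLinearEquiv

lemma bas_apply (f : Fin 6 →₀ ℕ) : bas f = ∏ i, gens i ^ f i := by
  rw [bas, Module.Basis.map_apply, MvPolynomial.coe_basisMonomials]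
  exact Phi_monomial f

lemma uhilb_two : uhilb 2 = (PowerSeries.mk fun _ => (1 : ℤ)) ^ 6 := by
  unfold uhilb
  have : Finset.Icc 3 2 = ∅ := by decide
  rw [this, Finset.prod_empty, mul_one]

theorem base : HasGB ℤ (URing ℤ 2) (upiece ℤ 2) (uhilb 2) := by
  classical
  refine ⟨Fin 6 →₀ ℕ, fun f => ∑ i, f i, fun d => (Finset.univ : Finset (Fin 6)).finsuppAntidiag d,
    bas, ?_, ?_, ?_⟩
  · intro d f
    rw [Finset.mem_finsuppAntidiag]
    simp
  · intro f
    rw [bas_apply]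
    exact prod_mem f Finset.univ
  · intro d
    rw [uhilb_two, Finset.card_finsuppAntidiag_nat_eq_choose]
    have h1 : ((PowerSeries.mk fun _ => (1 : ℤ)) ^ (5 + 1)) =
        PowerSeries.mk fun n => ((Nat.choose (5 + n) 5 : ℕ) : ℤ) :=
      PowerSeries.mk_one_pow_eq_mk_choose_add ℤ 5
    rw [show (6 : ℕ) = 5 + 1 from rfl, h1, PowerSeries.coeff_mk]
    simp only [Finset.card_univ, Fintype.card_fin]
    congr 1
    have : 5 + 1 + d - 1 = 5 + d := by omega
    rw [this, add_comm 5 d, Nat.choose_symm_add]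

end Groth.Agent.Lib.Helper15.UnGr3

end
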