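import Mathlib
import Groth.Agent.Lib.Helper15.UnPres

set_option autoImplicit false
set_option linter.style.haveILetI false
set_option linter.unusedSectionVars false

/-!
# `O(C_n) ≅ O(U_{n+1})`
-/

noncomputable section

namespace Groth.Agent.Lib.Helper15.UnIso
open W4c5m1nsnscurves MvPolynomial Groth.Agent.Lib.Helper15.UnPres

universe u
variable (R : Type u) [CommRing R] (m : ℕ)

/-- the curve algebra over `URing R m` -/
abbrev CC : Type u := CurveAlg (URing R m) m (ugen R m)

/-- constants -/
abbrev io : URing R m →+* CC R m := algebraMap (URing R m) (CC R m)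

/-- the forward values -/
def fy2 : URing R (m + 1) := ugen R (m + 1) (.ci (Fin.last m))
def fy3 : URing R (m + 1) :=
  ugen R (m + 1) .a + ugen R (m + 1) (.ci (Fin.last m)) + ugen R (m + 1) (.cbi (Fin.last m))
def fy (i : Fin m) : URing R (m + 1) :=
  ugen R (m + 1) (.cij i.castSucc (Fin.last m) (Fin.castSucc_lt_last i).ne)

lemma fsat : CSat (ugen R m) (uincl R m : URing R m →+* URing R (m + 1)) (fy2 R m) (fy3 R m)
    (fy R m) := by
  refine ⟨fun i => ?_, fun i => ?_, fun i j hij => ?_⟩
  · have hl := ugen_lin R (m + 1) i.castSucc (Fin.last m) (Fin.castSucc_lt_last i).ne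
    have h1 := ugen_q1 R (m + 1) i.castSucc (Fin.last m) (Fin.castSucc_lt_last i).ne
    simp only [RingHom.coe_coe, uincl_ugen, UGen.castSucc, fy2, fy3, fy]
    linear_combination (ugen R (m + 1) (.ci (Fin.last m))) * hl - h1
  · have hl := ugen_lin R (m + 1) i.castSucc (Fin.last m) (Fin.castSucc_lt_last i).ne
    have h1 := ugen_q1 R (m + 1) i.castSucc (Fin.last m) (Fin.castSucc_lt_last i).ne
    have h2 := ugen_q2 R (m + 1) i.castSucc (Fin.last m) (Fin.castSucc_lt_last i).ne
    simp only [RingHom.coe_coe, uincl_ugen, UGen.castSucc, fy2, fy3, fy, map_add]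
    linear_combination h2 - h1 + (ugen R (m + 1) (.ci (Fin.last m)) -
      ugen R (m + 1) (.cbi i.castSucc)) * hl
  · have ht := ugen_t R (m + 1) i.castSucc j.castSucc (Fin.last m)
      (fun e => hij (Fin.castSucc_injective _ e)) (Fin.castSucc_lt_last j).ne
      (Fin.castSucc_lt_last i).ne
    simp only [RingHom.coe_coe, uincl_ugen, UGen.castSucc, fy2, fy3, fy]
    linear_combination -ht

/-- The forward map. -/
def fwd : CC R m →+* URing R (m + 1) :=
  clift (ugen R m) (uincl R m : URing R m →+* URing R (m + 1)) (fy2 R m) (fy3 R m) (fy R m)
    (fsat R m)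

/-- values of `c_{jk}` for the backward map -/
def cijVal (j k : Fin (m + 1)) : CC R m :=
  Fin.lastCases (motive := fun _ => CC R m)
    (Fin.lastCases (motive := fun _ => CC R m) 0
      (fun k' => io R m (ugen R m (.ci k')) + io R m (ugen R m (.cbi k')) + cx3 (ugen R m) -
        cxi (ugen R m) k') k)
    (fun j' => Fin.lastCases (motive := fun _ => CC R m) (cxi (ugen R m) j')
      (fun k' => if h : j' = k' then 0 else io R m (ugen R m (.cij j' k' h))) k) j

/-- the backward values -/
def gGen : UGen (m + 1) → CC R m
  | .a => io R m (ugen R m .a)
  | .c => io R m (ugen R m .c)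
  | .cb => io R m (ugen R m .cb)
  | .ci j => Fin.lastCases (motive := fun _ => CC R m) (cx2 (ugen R m))
      (fun j' => io R m (ugen R m (.ci j'))) j
  | .cbi j => Fin.lastCases (motive := fun _ => CC R m)
      (cx3 (ugen R m) - io R m (ugen R m .a) - cx2 (ugen R m))
      (fun j' => io R m (ugen R m (.cbi j'))) j
  | .cij j k _ => cijVal R m j k

@[simp] lemma gGen_a : gGen R m .a = io R m (ugen R m .a) := rfl
@[simp] lemma gGen_c : gGen R m .c = io R m (ugen R m .c) := rfl
@[simp] lemma gGen_cb : gGen R m .cb = io R m (ugen R m .cb) := rfl
@[simp] lemma gGen_ci_last : gGen R m (.ci (Fin.last m)) = cx2 (ugen R m) := by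
  simp [gGen]
@[simp] lemma gGen_ci_cast (j : Fin m) : gGen R m (.ci j.castSucc) = io R m (ugen R m (.ci j)) := by
  simp [gGen]
@[simp] lemma gGen_cbi_last : gGen R m (.cbi (Fin.last m)) =
    cx3 (ugen R m) - io R m (ugen R m .a) - cx2 (ugen R m) := by
  simp [gGen]
@[simp] lemma gGen_cbi_cast (j : Fin m) :
    gGen R m (.cbi j.castSucc) = io R m (ugen R m (.cbi j)) := by
  simp [gGen]
@[simp] lemma gGen_cij_cast_last (j : Fin m) (h : j.castSucc ≠ Fin.last m) :
    gGen R m (.cij j.castSucc (Fin.last m) h) = cxi (ugen R m) j := by
  simp [gGen, cijVal]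
@[simp] lemma gGen_cij_last_cast (k : Fin m) (h : Fin.last m ≠ k.castSucc) :
    gGen R m (.cij (Fin.last m) k.castSucc h) =
      io R m (ugen R m (.ci k)) + io R m (ugen R m (.cbi k)) + cx3 (ugen R m) -
        cxi (ugen R m) k := by
  simp [gGen, cijVal]
@[simp] lemma gGen_cij_cast_cast (j k : Fin m) (h : j.castSucc ≠ k.castSucc) :
    gGen R m (.cij j.castSucc k.castSucc h) =
      io R m (ugen R m (.cij j k (fun e => h (by rw [e])))) := by
  have h' : j ≠ k := fun e => h (by rw [e])
  simp [gGen, cijVal, h']

lemma gsat : USat (gGen R m) := by
  have C1 := (csat_self (ugen R m)).r1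
  have C2 := (csat_self (ugen R m)).r2
  have C3 := (csat_self (ugen R m)).r3
  refine ⟨fun i j hij => ?_, fun i j hij => ?_, fun i j hij => ?_, fun i j k hij hjk hik => ?_⟩
  · induction i using Fin.lastCases with
    | last =>
      induction j using Fin.lastCases with
      | last => exact absurd rfl hij
      | cast j =>
        simp only [gGen_a, gGen_ci_last, gGen_cbi_last, gGen_ci_cast, gGen_cbi_cast,
          gGen_cij_last_cast, gGen_cij_cast_last]
        ring
    | cast i =>
      induction j using Fin.lastCases with
      | last =>
        simp only [gGen_a, gGen_ci_last, gGen_cbi_last, gGen_ci_cast, gGen_cbi_cast,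
          gGen_cij_last_cast, gGen_cij_cast_last]
        ring
      | cast j =>
        have h' : i ≠ j := fun e => hij (by rw [e])
        have := congrArg (io R m) (ugen_lin R m i j h')
        simp only [map_sub, map_add, map_zero] at this
        simp only [gGen_a, gGen_ci_cast, gGen_cbi_cast, gGen_cij_cast_cast]
        exact this
  · induction i using Fin.lastCases with
    | last =>
      induction j using Fin.lastCases with
      | last => exact absurd rfl hij
      | cast j =>
        simp only [gGen_c, gGen_ci_last, gGen_ci_cast, gGen_cij_last_cast, gGen_cij_cast_last]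
        linear_combination -(C1 j)
    | cast i =>
      induction j using Fin.lastCases with
      | last =>
        simp only [gGen_c, gGen_ci_last, gGen_ci_cast, gGen_cij_last_cast, gGen_cij_cast_last]
        linear_combination -(C1 i)
      | cast j =>
        have h' : i ≠ j := fun e => hij (by rw [e])
        have := congrArg (io R m) (ugen_q1 R m i j h')
        simp only [map_sub, map_add, map_mul, map_zero] at this
        simp only [gGen_c, gGen_ci_cast, gGen_cij_cast_cast]
        exact this
  · induction i using Fin.lastCases with
    | last =>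
      induction j using Fin.lastCases with
      | last => exact absurd rfl hij
      | cast j =>
        simp only [gGen_cb, gGen_cbi_last, gGen_cbi_cast, gGen_cij_last_cast,
          gGen_cij_cast_last]
        have c1 := C1 j
        have c2 := C2 j
        simp only [map_add] at c2
        linear_combination c2 - c1
    | cast i =>
      induction j using Fin.lastCases with
      | last =>
        simp only [gGen_cb, gGen_cbi_last, gGen_cbi_cast, gGen_cij_last_cast,
          gGen_cij_cast_last]
        have c1 := C1 i
        have c2 := C2 i
        simp only [map_add] at c2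
        linear_combination c2 - c1
      | cast j =>
        have h' : i ≠ j := fun e => hij (by rw [e])
        have := congrArg (io R m) (ugen_q2 R m i j h')
        simp only [map_sub, map_add, map_mul, map_zero] at this
        simp only [gGen_cb, gGen_cbi_cast, gGen_cij_cast_cast]
        exact this
  · induction i using Fin.lastCases with
    | last =>
      induction j using Fin.lastCases with
      | last => exact absurd rfl hij
      | cast j =>
        induction k using Fin.lastCases with
        | last => exact absurd rfl hik
        | cast k =>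
          have h' : j ≠ k := fun e => hjk (by rw [e])
          have hl := congrArg (io R m) (ugen_lin R m j k h')
          have h1 := congrArg (io R m) (ugen_q1 R m j k h')
          have h2 := congrArg (io R m) (ugen_q2 R m j k h')
          simp only [map_sub, map_add, map_mul, map_zero] at hl h1 h2
          have c2 := C2 j
          have c3 := C3 j k h'
          simp only [map_add] at c2
          simp only [gGen_a, gGen_c, gGen_ci_cast, gGen_cbi_cast, gGen_cij_last_cast,
            gGen_cij_cast_last, gGen_cij_cast_cast]
          linear_combination c2 - c3 - cxi (ugen R m) j * hl + h1 - h2 -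
            (io R m (ugen R m (.ci k)) - io R m (ugen R m (.cbi j))) * hl
    | cast i =>
      induction j using Fin.lastCases with
      | last =>
        induction k using Fin.lastCases with
        | last => exact absurd rfl hjk
        | cast k =>
          have h' : i ≠ k := fun e => hik (by rw [e])
          have hl := congrArg (io R m) (ugen_lin R m i k h')
          have h1 := congrArg (io R m) (ugen_q1 R m i k h')
          have h2 := congrArg (io R m) (ugen_q2 R m i k h')
          simp only [map_sub, map_add, map_mul, map_zero] at hl h1 h2
          have c2 := C2 i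
          have c3 := C3 i k h'
          simp only [map_add] at c2
          simp only [gGen_a, gGen_c, gGen_ci_cast, gGen_cbi_cast, gGen_cij_last_cast,
            gGen_cij_cast_last, gGen_cij_cast_cast]
          linear_combination c2 - c3 - cxi (ugen R m) i * hl + h1 - h2 -
            (io R m (ugen R m (.ci k)) - io R m (ugen R m (.cbi i))) * hl
      | cast j =>
        have hij' : i ≠ j := fun e => hij (by rw [e])
        induction k using Fin.lastCases with
        | last =>
          have c3 := C3 i j hij'
          simp only [gGen_a, gGen_c, gGen_ci_last, gGen_cbi_last, gGen_cij_cast_last,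
            gGen_cij_cast_cast]
          linear_combination -c3
        | cast k =>
          have hjk' : j ≠ k := fun e => hjk (by rw [e])
          have hik' : i ≠ k := fun e => hik (by rw [e])
          have := congrArg (io R m) (ugen_t R m i j k hij' hjk' hik')
          simp only [map_sub, map_add, map_mul, map_zero] at this
          simp only [gGen_a, gGen_c, gGen_ci_cast, gGen_cbi_cast, gGen_cij_cast_cast]
          exact this

/-- The backward map. -/
def bwd : URing R (m + 1) →+* CC R m :=
  ulift ((io R m).comp (algebraMap R (URing R m))) (gGen R m) (gsat R m)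

lemma fwd_bwd : (fwd R m).comp (bwd R m) = RingHom.id _ := by
  apply uhom_ext
  · intro r
    simp only [RingHom.comp_apply, bwd, ulift_algebraMap, fwd, RingHom.id_apply]
    rw [clift_algebraMap]
    simp
  · intro x
    simp only [RingHom.comp_apply, bwd, ulift_ugen, RingHom.id_apply]
    cases x with
    | a => simp [fwd, uincl_ugen, UGen.castSucc]
    | c => simp [fwd, uincl_ugen, UGen.castSucc]
    | cb => simp [fwd, uincl_ugen, UGen.castSucc]
    | ci j =>
      induction j using Fin.lastCases with
      | last => simp [fwd, fy2]
      | cast j => simp [fwd, uincl_ugen, UGen.castSucc]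
    | cbi j =>
      induction j using Fin.lastCases with
      | last =>
        simp only [gGen_cbi_last, map_sub, fwd, clift_cx3, clift_cx2, clift_algebraMap,
          RingHom.coe_coe, uincl_ugen, UGen.castSucc, fy2, fy3]
        ring
      | cast j => simp [fwd, uincl_ugen, UGen.castSucc]
    | cij j k h =>
      induction j using Fin.lastCases with
      | last =>
        induction k using Fin.lastCases with
        | last => exact absurd rfl h
        | cast k =>
          have hl := ugen_lin R (m + 1) (Fin.last m) k.castSucc h
          simp only [gGen_cij_last_cast, map_sub, map_add, fwd, clift_cx3, clift_cxi,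
            clift_algebraMap, RingHom.coe_coe, uincl_ugen, UGen.castSucc, fy3, fy]
          linear_combination -hl
      | cast j =>
        induction k using Fin.lastCases with
        | last => simp [fwd, fy]
        | cast k => simp [fwd, uincl_ugen, UGen.castSucc]

lemma bwd_uincl (r : URing R m) : bwd R m (uincl R m r) = io R m r := by
  have : (bwd R m).comp (uincl R m : URing R m →+* URing R (m + 1)) = io R m := by
    apply uhom_ext
    · intro s
      simp [bwd]
    · intro x
      simp only [RingHom.comp_apply, RingHom.coe_coe, uincl_ugen, bwd, ulift_ugen]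
      cases x <;> simp [UGen.castSucc]
  exact congrArg (fun f => f r) this

lemma bwd_fwd : (bwd R m).comp (fwd R m) = RingHom.id _ := by
  apply chom_ext
  · intro r
    simp only [RingHom.comp_apply, fwd, clift_algebraMap, RingHom.id_apply, RingHom.coe_coe]
    exact bwd_uincl R m r
  · simp only [RingHom.comp_apply, fwd, clift_cx2, RingHom.id_apply, fy2, bwd, ulift_ugen,
      gGen_ci_last]
  · simp only [RingHom.comp_apply, fwd, clift_cx3, RingHom.id_apply, fy3, bwd, ulift_ugen,
      map_add, gGen_ci_last, gGen_a, gGen_cbi_last]
    ring
  · intro i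
    simp only [RingHom.comp_apply, fwd, clift_cxi, RingHom.id_apply, fy, bwd, ulift_ugen,
      gGen_cij_cast_last]

/-- The isomorphism. -/
def equiv : CC R m ≃+* URing R (m + 1) :=
  RingEquiv.ofRingHom (fwd R m) (bwd R m) (fwd_bwd R m) (bwd_fwd R m)

theorem main :
    ∃ e : CurveAlg (URing R m) m (ugen R m) ≃+* URing R (m + 1),
      (∀ r : URing R m, e (algebraMap (URing R m) (CurveAlg (URing R m) m (ugen R m)) r) =
        uincl R m r) ∧
      e (Ideal.Quotient.mk (Ideal.span (CRel (URing R m) m (ugen R m))) (MvPolynomial.X CVar.x2)) =
        ugen R (m + 1) (UGen.ci (Fin.last m)) ∧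
      e (Ideal.Quotient.mk (Ideal.span (CRel (URing R m) m (ugen R m))) (MvPolynomial.X CVar.x3)) =
        ugen R (m + 1) UGen.a + ugen R (m + 1) (UGen.ci (Fin.last m)) +
          ugen R (m + 1) (UGen.cbi (Fin.last m)) ∧
      ∀ i : Fin m, e (Ideal.Quotient.mk (Ideal.span (CRel (URing R m) m (ugen R m)))
        (MvPolynomial.X (CVar.xi i))) =
        ugen R (m + 1) (UGen.cij i.castSucc (Fin.last m) (Fin.castSucc_lt_last i).ne) := by
  refine ⟨equiv R m, fun r => ?_, ?_, ?_, fun i => ?_⟩
  · exact clift_algebraMap (ugen R m) (uincl R m : URing R m →+* URing R (m + 1)) (fy2 R m)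
      (fy3 R m) (fy R m) (fsat R m) r
  · exact clift_cx2 (ugen R m) (uincl R m : URing R m →+* URing R (m + 1)) (fy2 R m)
      (fy3 R m) (fy R m) (fsat R m)
  · exact clift_cx3 (ugen R m) (uincl R m : URing R m →+* URing R (m + 1)) (fy2 R m)
      (fy3 R m) (fy R m) (fsat R m)
  · exact clift_cxi (ugen R m) (uincl R m : URing R m →+* URing R (m + 1)) (fy2 R m)
      (fy3 R m) (fy R m) (fsat R m) i

end Groth.Agent.Lib.Helper15.UnIso

end
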