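import Mathlib

set_option autoImplicit false
set_option linter.style.longLine false
set_option linter.unusedVariables false

/-!
# Overlap identities in the curve algebra (certificates found by computer)
-/

namespace Groth.Agent.Lib.Helper15.UnIds2

lemma pair_overlap {S : Type*} [CommRing S] (x2 x3 xj xk a c cb cj cbj ck cbk cjk ckj : S)
    (R1j : x2 * xj - (x2 * x3 + cj * xj + cbj * x2 - c) = 0)
    (R1k : x2 * xk - (x2 * x3 + ck * xk + cbk * x2 - c) = 0)
    (R2k : x3 * xk - (x2 * x3 + (a + ck + cbk) * (xk - cbk) + cb - c) = 0)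
    (R3jk : xj * xk - (x2 * x3 + cjk * xk + ckj * xj - c) = 0) :
    (a + cj - cjk + ck - ckj + cbj + cbk) * (x2 * x3) +
      (a * ck - c + cj * cjk - cjk * ck + ck * cbj + ck * cbk + ck ^ 2) * xk +
      (-cjk * cbk - ckj * cbj + cb + cbj * cbk) * x2 +
      (-a * c - c * cj + c * cjk - c * ck + c * ckj - c * cbj - c * cbk) = 0 := by
  linear_combination (ckj - xk) * R1j + (-cj + x2) * R3jk + (-x2) * R2k +
    (-a + cjk - ck - cbj - cbk) * R1k

lemma triple_overlap {S : Type*} [CommRing S]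
    (x2 x3 xj xk xm a c cb cj cbj cm cbm cjk ckj cjm cmj ckm cmk : S)
    (R1j : x2 * xj - (x2 * x3 + cj * xj + cbj * x2 - c) = 0)
    (R2j : x3 * xj - (x2 * x3 + (a + cj + cbj) * (xj - cbj) + cb - c) = 0)
    (R1m : x2 * xm - (x2 * x3 + cm * xm + cbm * x2 - c) = 0)
    (R2m : x3 * xm - (x2 * x3 + (a + cm + cbm) * (xm - cbm) + cb - c) = 0)
    (R3jk : xj * xk - (x2 * x3 + cjk * xk + ckj * xj - c) = 0)
    (R3km : xk * xm - (x2 * x3 + ckm * xm + cmk * xk - c) = 0)
    (R3jm : xj * xm - (x2 * x3 + cjm * xm + cmj * xj - c) = 0) :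
    (-cj + cjk + ckj - ckm + cm - cmk - cbj + cbm) * (x2 * x3) +
      (a * cm - c + cjk * ckm + cjm * ckj - cjm * ckm + cm * cbm + cm ^ 2) * xm +
      (-a * cj + c - cj * cbj - cj ^ 2 + ckj * cmj - ckj * cmk - ckm * cmj) * xj +
      (c * cj - c * cjk - c * ckj + c * ckm - c * cm + c * cmk + c * cbj - c * cbm) = 0 := by
  linear_combination (cmk - xm) * R3jk + (-cjk + xj) * R3km + (-x2) * R2m + (-ckj + ckm) * R3jm +
    x2 * R2j + (-a - cm - cbm) * R1m + (a + cj + cbj) * R1j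

end Groth.Agent.Lib.Helper15.UnIds2
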