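import Mathlib
import Groth.Agent.Lib.Helper15.UnBasis
import Groth.Agent.Lib.Helper15.UnIds2

set_option autoImplicit false
set_option linter.style.haveILetI false
set_option linter.unusedSectionVars false
set_option linter.style.longLine false

/-!
# The basis theorem for the curve algebras: both directions
-/

noncomputable section

namespace Groth.Agent.Lib.Helper15.UnMain
open W4c5m1nsnscurves Groth.Agent.Lib.Helper15.UnPres Groth.Agent.Lib.Helper15.UnG
  Groth.Agent.Lib.Helper15.UnIds Groth.Agent.Lib.Helper15.UnIds2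
  Groth.Agent.Lib.Helper15.UnStep Groth.Agent.Lib.Helper15.UnBasis

universe u
variable {R : Type u} [CommRing R] {m : ℕ} (v : UGen m → R)

section Backward
open MvPolynomial

lemma dpt_eq (hv : USat v) (i j : Fin m) : dpt v i = dpt v j := by
  by_cases h : i = j
  · rw [h]
  · exact (dd_eq (S := R) (a := v .a) (c := v .c) (cb := v .cb) (cj := v (.ci i))
      (cbj := v (.cbi i)) (cl := v (.ci j)) (cbl := v (.cbi j)) (cjl := v (.cij i j h))
      (clj := v (.cij j i (Ne.symm h))) (hv.lin i j h) (hv.q1 i j h) (hv.q2 i j h)).symm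

lemma cubic_mem (i : Fin m) : cubicP R m v (dpt v i) ∈ Ideal.span (CRel R m v) := by
  have h1 : (X .x2 * X (.xi i) - (X .x2 * X .x3 + C (v (.ci i)) * X (.xi i) +
      C (v (.cbi i)) * X .x2 - C (v .c)) : MvPolynomial (CVar m) R) ∈ Ideal.span (CRel R m v) :=
    Ideal.subset_span (Or.inl (Or.inl ⟨i, rfl⟩))
  have h2 : (X .x3 * X (.xi i) - (X .x2 * X .x3 + C (v .a + v (.ci i) + v (.cbi i)) *
      (X (.xi i) - C (v (.cbi i))) + C (v .cb) - C (v .c)) : MvPolynomial (CVar m) R) ∈
      Ideal.span (CRel R m v) :=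
    Ideal.subset_span (Or.inl (Or.inr ⟨i, rfl⟩))
  have h3 : cubicP R m v (dpt v i) =
      (C (v .a) + C (v (.ci i)) + C (v (.cbi i)) - X .x3) *
        (X .x2 * X (.xi i) - (X .x2 * X .x3 + C (v (.ci i)) * X (.xi i) +
          C (v (.cbi i)) * X .x2 - C (v .c))) +
      (X .x2 - C (v (.ci i))) *
        (X .x3 * X (.xi i) - (X .x2 * X .x3 + C (v .a + v (.ci i) + v (.cbi i)) *
          (X (.xi i) - C (v (.cbi i))) + C (v .cb) - C (v .c))) := by
    simp only [cubicP, dpt, map_sub, map_mul, map_add]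
    ring
  rw [h3]
  exact Ideal.add_mem _ (Ideal.mul_mem_left _ _ h1) (Ideal.mul_mem_left _ _ h2)

lemma span_eq (i : Fin m) :
    Ideal.span (GRel R m v (dpt v i)) = Ideal.span (CRel R m v) := by
  apply le_antisymm
  · rw [Ideal.span_le]
    rintro p (hp | hp)
    · exact Ideal.subset_span hp
    · rw [Set.mem_singleton_iff] at hp
      rw [hp]
      exact cubic_mem v i
  · exact Ideal.span_mono Set.subset_union_left

/-- comparison of the two quotients -/
def gEquiv (i : Fin m) : GAlg R m v (dpt v i) ≃ₐ[R] CurveAlg R m v :=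
  Ideal.quotientEquivAlgOfEq R (span_eq v i)

lemma gEquiv_gmon (i : Fin m) (t : Idx m) : gEquiv v i (gmon v (dpt v i) t) = cmon R m v t := by
  rcases t with _ | (k | ⟨y, k⟩)
  · simp [gmon, cmon]
  · have : gmon v (dpt v i) (some (Sum.inl k)) =
        Ideal.Quotient.mk _ (X .x2 ^ (k + 1) * X .x3) := by
      simp [gmon, gvar]
    rw [this]
    exact Ideal.quotientEquivAlgOfEq_mk R (span_eq v i) _
  · have : gmon v (dpt v i) (some (Sum.inr (y, k))) = Ideal.Quotient.mk _ (X y ^ (k + 1)) := by
      simp [gmon, gvar]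
    rw [this]
    exact Ideal.quotientEquivAlgOfEq_mk R (span_eq v i) _

theorem backward (hm : 1 ≤ m) (hv : USat v) :
    LinearIndependent R (cmon R m v) ∧ Submodule.span R (Set.range (cmon R m v)) = ⊤ := by
  let i0 : Fin m := ⟨0, hm⟩
  obtain ⟨hli, hsp⟩ := gbasis m v (dpt v i0) hv (fun i => dpt_eq v hv i0 i)
  have hcomp : cmon R m v = (gEquiv v i0) ∘ gmon v (dpt v i0) := by
    funext t
    exact (gEquiv_gmon v i0 t).symm
  constructor
  · rw [hcomp]
    exact hli.map' (gEquiv v i0).toLinearEquiv.toLinearMap (LinearEquiv.ker _)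
  · rw [hcomp, Set.range_comp]
    have := Submodule.map_span (gEquiv v i0).toLinearEquiv.toLinearMap
      (Set.range (gmon v (dpt v i0)))
    rw [hsp, Submodule.map_top, LinearMap.range_eq_top.mpr (gEquiv v i0).toLinearEquiv.surjective]
      at this
    exact this.symm

end Backward

section Forward

lemma li4 {ι M : Type*} [AddCommGroup M] [Module R M] (f : ι → M) (hli : LinearIndependent R f)
    (t1 t2 t3 t4 : ι) (h12 : t1 ≠ t2) (h13 : t1 ≠ t3) (h14 : t1 ≠ t4) (h23 : t2 ≠ t3)
    (h24 : t2 ≠ t4) (h34 : t3 ≠ t4) (r1 r2 r3 r4 : R)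
    (h : r1 • f t1 + r2 • f t2 + r3 • f t3 + r4 • f t4 = 0) :
    r1 = 0 ∧ r2 = 0 ∧ r3 = 0 ∧ r4 = 0 := by
  classical
  set l : ι →₀ R := Finsupp.single t1 r1 + Finsupp.single t2 r2 + Finsupp.single t3 r3 +
    Finsupp.single t4 r4 with hl
  have h1 : Finsupp.linearCombination R f l = 0 := by
    rw [hl]
    simp only [map_add, Finsupp.linearCombination_single]
    exact h
  have h2 := (linearIndependent_iff.mp hli) l h1
  refine ⟨?_, ?_, ?_, ?_⟩
  · have := DFunLike.congr_fun h2 t1
    simpa [hl, Finsupp.single_apply, h12.symm, h13.symm, h14.symm] using this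
  · have := DFunLike.congr_fun h2 t2
    simpa [hl, Finsupp.single_apply, h12, h23.symm, h24.symm] using this
  · have := DFunLike.congr_fun h2 t3
    simpa [hl, Finsupp.single_apply, h13, h23, h34.symm] using this
  · have := DFunLike.congr_fun h2 t4
    simpa [hl, Finsupp.single_apply, h14, h24, h34] using this

local notation "φ" => algebraMap R (CurveAlg R m v)

lemma cmon_none : cmon R m v none = 1 := rfl
lemma cmon_x2x3 : cmon R m v (some (Sum.inl 0)) = cx2 v * cx3 v := by
  simp [cmon, cx2, cx3]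
lemma cmon_var (y : CVar m) : cmon R m v (some (Sum.inr (y, 0))) = Ideal.Quotient.mk _ (MvPolynomial.X y) := by
  simp [cmon]

lemma hC1 (i : Fin m) : cx2 v * cxi v i - (cx2 v * cx3 v + φ (v (.ci i)) * cxi v i +
    φ (v (.cbi i)) * cx2 v - φ (v .c)) = 0 := (csat_self v).r1 i

lemma hC2 (i : Fin m) : cx3 v * cxi v i - (cx2 v * cx3 v +
    (φ (v .a) + φ (v (.ci i)) + φ (v (.cbi i))) * (cxi v i - φ (v (.cbi i))) +
    φ (v .cb) - φ (v .c)) = 0 := by
  have := (csat_self v).r2 i
  simp only [map_add] at this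
  exact this

lemma hC3 (i j : Fin m) (h : i ≠ j) : cxi v i * cxi v j - (cx2 v * cx3 v +
    φ (v (.cij i j h)) * cxi v j + φ (v (.cij j i h.symm)) * cxi v i - φ (v .c)) = 0 :=
  (csat_self v).r3 i j h

theorem forward (hli : LinearIndependent R (cmon R m v)) : USat v := by
  have hs : ∀ (r : R) (y : CurveAlg R m v), r • y = algebraMap R _ r * y :=
    fun r y => Algebra.smul_def r y
  have pair : ∀ (i j : Fin m) (h : i ≠ j),
      (v .a + v (.ci i) - v (.cij i j h) + v (.ci j) - v (.cij j i h.symm) + v (.cbi i) +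
        v (.cbi j)) = 0 ∧
      (v .a * v (.ci j) - v .c + v (.ci i) * v (.cij i j h) - v (.cij i j h) * v (.ci j) +
        v (.ci j) * v (.cbi i) + v (.ci j) * v (.cbi j) + v (.ci j) ^ 2) = 0 ∧
      (-v (.cij i j h) * v (.cbi j) - v (.cij j i h.symm) * v (.cbi i) + v .cb +
        v (.cbi i) * v (.cbi j)) = 0 := by
    intro i j h
    have key := pair_overlap (S := CurveAlg R m v) (x2 := cx2 v) (x3 := cx3 v) (xj := cxi v i)
      (xk := cxi v j) (a := φ (v .a)) (c := φ (v .c)) (cb := φ (v .cb)) (cj := φ (v (.ci i)))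
      (cbj := φ (v (.cbi i))) (ck := φ (v (.ci j))) (cbk := φ (v (.cbi j)))
      (cjk := φ (v (.cij i j h))) (ckj := φ (v (.cij j i h.symm)))
      (hC1 v i) (hC1 v j) (hC2 v j) (hC3 v i j h)
    have h4 := li4 (cmon R m v) hli (some (Sum.inl 0)) (some (Sum.inr (.xi j, 0)))
      (some (Sum.inr (.x2, 0))) none (by simp) (by simp) (by simp) (by simp) (by simp) (by simp)
      (v .a + v (.ci i) - v (.cij i j h) + v (.ci j) - v (.cij j i h.symm) + v (.cbi i) +
        v (.cbi j))
      (v .a * v (.ci j) - v .c + v (.ci i) * v (.cij i j h) - v (.cij i j h) * v (.ci j) +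
        v (.ci j) * v (.cbi i) + v (.ci j) * v (.cbi j) + v (.ci j) ^ 2)
      (-v (.cij i j h) * v (.cbi j) - v (.cij j i h.symm) * v (.cbi i) + v .cb +
        v (.cbi i) * v (.cbi j))
      (-v .a * v .c - v .c * v (.ci i) + v .c * v (.cij i j h) - v .c * v (.ci j) +
        v .c * v (.cij j i h.symm) - v .c * v (.cbi i) - v .c * v (.cbi j))
      (by
        rw [cmon_none, cmon_x2x3, cmon_var, cmon_var]
        simp only [hs, map_add, map_sub, map_mul, map_neg, map_pow, mul_one]
        exact key)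
    exact ⟨h4.1, h4.2.1, h4.2.2.1⟩
  have triple : ∀ (i j k : Fin m) (hij : i ≠ j) (hjk : j ≠ k) (hik : i ≠ k),
      (v .a * v (.ci k) - v .c + v (.cij i j hij) * v (.cij j k hjk) +
        v (.cij i k hik) * v (.cij j i hij.symm) - v (.cij i k hik) * v (.cij j k hjk) +
        v (.ci k) * v (.cbi k) + v (.ci k) ^ 2) = 0 := by
    intro i j k hij hjk hik
    have key := triple_overlap (S := CurveAlg R m v) (x2 := cx2 v) (x3 := cx3 v) (xj := cxi v i)
      (xk := cxi v j) (xm := cxi v k) (a := φ (v .a)) (c := φ (v .c)) (cb := φ (v .cb))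
      (cj := φ (v (.ci i))) (cbj := φ (v (.cbi i))) (cm := φ (v (.ci k)))
      (cbm := φ (v (.cbi k)))
      (cjk := φ (v (.cij i j hij))) (ckj := φ (v (.cij j i hij.symm)))
      (cjm := φ (v (.cij i k hik))) (cmj := φ (v (.cij k i hik.symm)))
      (ckm := φ (v (.cij j k hjk))) (cmk := φ (v (.cij k j hjk.symm)))
      (hC1 v i) (hC2 v i) (hC1 v k) (hC2 v k) (hC3 v i j hij) (hC3 v j k hjk) (hC3 v i k hik)
    have h4 := li4 (cmon R m v) hli (some (Sum.inl 0)) (some (Sum.inr (.xi k, 0)))
      (some (Sum.inr (.xi i, 0))) none (by simp) (by simp) (by simp)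
      (by simp only [ne_eq, Option.some.injEq, Sum.inr.injEq, Prod.mk.injEq, CVar.xi.injEq,
        and_true]; exact hik.symm) (by simp) (by simp)
      (-v (.ci i) + v (.cij i j hij) + v (.cij j i hij.symm) - v (.cij j k hjk) + v (.ci k) -
        v (.cij k j hjk.symm) - v (.cbi i) + v (.cbi k))
      (v .a * v (.ci k) - v .c + v (.cij i j hij) * v (.cij j k hjk) +
        v (.cij i k hik) * v (.cij j i hij.symm) - v (.cij i k hik) * v (.cij j k hjk) +
        v (.ci k) * v (.cbi k) + v (.ci k) ^ 2)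
      (-v .a * v (.ci i) + v .c - v (.ci i) * v (.cbi i) - v (.ci i) ^ 2 +
        v (.cij j i hij.symm) * v (.cij k i hik.symm) -
        v (.cij j i hij.symm) * v (.cij k j hjk.symm) -
        v (.cij j k hjk) * v (.cij k i hik.symm))
      (v .c * v (.ci i) - v .c * v (.cij i j hij) - v .c * v (.cij j i hij.symm) +
        v .c * v (.cij j k hjk) - v .c * v (.ci k) + v .c * v (.cij k j hjk.symm) +
        v .c * v (.cbi i) - v .c * v (.cbi k))
      (by
        rw [cmon_none, cmon_x2x3, cmon_var, cmon_var]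
        simp only [hs, map_add, map_sub, map_mul, map_neg, map_pow, mul_one]
        exact key)
    exact h4.2.1
  refine ⟨fun i j h => ?_, fun i j h => ?_, fun i j h => ?_, fun i j k hij hjk hik => ?_⟩
  · linear_combination -(pair i j h).1
  · linear_combination (pair i j h).2.1 - v (.ci j) * (pair i j h).1
  · linear_combination -(pair i j h).2.2
  · linear_combination triple i j k hij hjk hik

end Forward

theorem main (R : Type u) [CommRing R] (m : ℕ) (hm : 1 ≤ m) (v : UGen m → R) :
    (LinearIndependent R (cmon R m v) ∧ Submodule.span R (Set.range (cmon R m v)) = ⊤) ↔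
      (∀ p ∈ URel R m, MvPolynomial.eval v p = 0) := by
  have h := usat_iff (RingHom.id R) v
  constructor
  · intro hb
    exact h.mp (forward v hb.1)
  · intro hp
    exact backward v hm (h.mpr hp)

end Groth.Agent.Lib.Helper15.UnMain

end
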