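import Mathlib
import Groth.Agent.Lib.Helper15.UnGr3
import Groth.Agent.Lib.Helper15.UnIso
import Groth.Agent.Lib.Helper15.UnMain

set_option autoImplicit false
set_option linter.style.haveILetI false
set_option linter.unusedSectionVars false
set_option linter.style.longLine false

/-!
# Graded basis of `URing ℤ m`: the inductive step and the final theorem
-/

noncomputable section

namespace Groth.Agent.Lib.Helper15.UnGr4
open W4c5m1nsnscurves Groth.Agent.Lib.Helper15.UnPres Groth.Agent.Lib.Helper15.UnGr1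
  Groth.Agent.Lib.Helper15.UnGr2 Groth.Agent.Lib.Helper15.UnStep

variable (m : ℕ)

section Count

/-- `CVar m` is finite -/
def cvarEquiv : CVar m ≃ Option (Option (Fin m)) where
  toFun
    | .x2 => none
    | .x3 => some none
    | .xi i => some (some i)
  invFun
    | none => .x2
    | some none => .x3
    | some (some i) => .xi i
  left_inv y := by cases y <;> rfl
  right_inv y := by
    rcases y with _ | _ | i <;> rfl

instance : Fintype (CVar m) := Fintype.ofEquiv _ (cvarEquiv m).symm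

lemma card_cvar : Fintype.card (CVar m) = m + 2 := by
  rw [Fintype.card_congr (cvarEquiv m)]
  simp

/-- degrees of the monomials -/
def degT : Idx m → ℕ
  | none => 0
  | some (.inl k) => k + 2
  | some (.inr (_, k)) => k + 1

open Classical in
/-- fibers of `degT` -/
def fibT : ℕ → Finset (Idx m)
  | 0 => {none}
  | 1 => Finset.univ.image (fun y : CVar m => some (.inr (y, 0)))
  | (q + 2) => insert (some (.inl q)) (Finset.univ.image (fun y : CVar m => some (.inr (y, q + 1))))

lemma mem_fibT (q : ℕ) (t : Idx m) : t ∈ fibT m q ↔ degT m t = q := by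
  classical
  rcases t with _ | (k | ⟨y, k⟩)
  · rcases q with _ | _ | q <;> simp [fibT, degT]
  · rcases q with _ | _ | q <;> simp [fibT, degT]
  · rcases q with _ | _ | q <;> simp [fibT, degT]
    · constructor
      · intro h; omega
      · intro h; omega
    · constructor
      · intro h; omega
      · intro h; omega

/-- the counting series of the monomials -/
def HT : PowerSeries ℤ :=
  (1 + PowerSeries.C ((m + 1 : ℕ) : ℤ) * PowerSeries.X + PowerSeries.X ^ 2) *
    PowerSeries.mk fun _ => (1 : ℤ)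

lemma card_fibT (q : ℕ) : ((fibT m q).card : ℤ) = PowerSeries.coeff q (HT m) := by
  classical
  have hinj : ∀ k : ℕ, Function.Injective (fun y : CVar m => (some (.inr (y, k)) : Idx m)) := by
    intro k y y' h
    simpa using h
  have hHT : HT m = (PowerSeries.mk fun _ => (1 : ℤ)) +
      PowerSeries.C ((m + 1 : ℕ) : ℤ) * (PowerSeries.X * PowerSeries.mk fun _ => (1 : ℤ)) +
      PowerSeries.X ^ 2 * PowerSeries.mk fun _ => (1 : ℤ) := by
    unfold HT
    ring
  rw [hHT]
  rcases q with _ | _ | q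
  · simp [fibT]
  · simp only [fibT, Finset.card_image_of_injective _ (hinj 0), Finset.card_univ, card_cvar,
      map_add, PowerSeries.coeff_mk, PowerSeries.coeff_C_mul, zero_add,
      PowerSeries.coeff_succ_X_mul, PowerSeries.coeff_X_pow_mul']
    simp
    ring
  · have hnot : (some (.inl q) : Idx m) ∉
        Finset.univ.image (fun y : CVar m => (some (.inr (y, q + 1)) : Idx m)) := by
      simp
    simp only [fibT, Finset.card_insert_of_notMem hnot,
      Finset.card_image_of_injective _ (hinj (q + 1)), Finset.card_univ, card_cvar,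
      map_add, PowerSeries.coeff_mk, PowerSeries.coeff_C_mul,
      PowerSeries.coeff_succ_X_mul, PowerSeries.coeff_X_pow_mul']
    simp
    ring

lemma uhilb_succ (hm : 2 ≤ m) : uhilb (m + 1) = uhilb m * HT m := by
  unfold uhilb HT
  rw [Finset.prod_Icc_succ_top (by omega : 3 ≤ m + 1)]
  ring

end Count


section Step
open Groth.Agent.Lib.Helper15.UnIso

/-- the curve algebra over `URing ℤ m` -/
abbrev CCm : Type := CurveAlg (URing ℤ m) m (ugen ℤ m)

/-- the ring isomorphism `O(C_n) ≅ O(U_{n+1})` -/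
def eqv : CCm m ≃+* URing ℤ (m + 1) := UnIso.equiv ℤ m

lemma eqv_apply (x : CCm m) : eqv m x = fwd ℤ m x := rfl

lemma eqv_algebraMap (r : URing ℤ m) : eqv m (algebraMap (URing ℤ m) (CCm m) r) = uincl ℤ m r := by
  rw [eqv_apply]
  exact clift_algebraMap (ugen ℤ m) (uincl ℤ m : URing ℤ m →+* URing ℤ (m + 1)) (fy2 ℤ m)
      (fy3 ℤ m) (fy ℤ m) (fsat ℤ m) r

lemma eqv_x2 : eqv m (cx2 (ugen ℤ m)) = ugen ℤ (m + 1) (.ci (Fin.last m)) := by
  rw [eqv_apply]
  exact clift_cx2 (ugen ℤ m) (uincl ℤ m : URing ℤ m →+* URing ℤ (m + 1)) (fy2 ℤ m)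
      (fy3 ℤ m) (fy ℤ m) (fsat ℤ m)

lemma eqv_x3 : eqv m (cx3 (ugen ℤ m)) = ugen ℤ (m + 1) .a + ugen ℤ (m + 1) (.ci (Fin.last m)) +
    ugen ℤ (m + 1) (.cbi (Fin.last m)) := by
  rw [eqv_apply]
  exact clift_cx3 (ugen ℤ m) (uincl ℤ m : URing ℤ m →+* URing ℤ (m + 1)) (fy2 ℤ m)
      (fy3 ℤ m) (fy ℤ m) (fsat ℤ m)

lemma eqv_xi (i : Fin m) : eqv m (cxi (ugen ℤ m) i) =
    ugen ℤ (m + 1) (.cij i.castSucc (Fin.last m) (Fin.castSucc_lt_last i).ne) := by
  rw [eqv_apply]
  exact clift_cxi (ugen ℤ m) (uincl ℤ m : URing ℤ m →+* URing ℤ (m + 1)) (fy2 ℤ m)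
      (fy3 ℤ m) (fy ℤ m) (fsat ℤ m) i

lemma eqv_var_mem (y : CVar m) :
    eqv m (Ideal.Quotient.mk _ (MvPolynomial.X y)) ∈ upiece ℤ (m + 1) 1 := by
  cases y with
  | x2 =>
    have := eqv_x2 m
    unfold cx2 at this
    rw [this]
    exact ugen_mem ℤ (m + 1) (.ci (Fin.last m))
  | x3 =>
    have := eqv_x3 m
    unfold cx3 at this
    rw [this]
    exact Submodule.add_mem _ (Submodule.add_mem _ (ugen_mem ℤ (m + 1) .a)
      (ugen_mem ℤ (m + 1) (.ci (Fin.last m)))) (ugen_mem ℤ (m + 1) (.cbi (Fin.last m)))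
  | xi i =>
    have := eqv_xi m i
    unfold cxi at this
    rw [this]
    exact ugen_mem ℤ (m + 1) (.cij i.castSucc (Fin.last m) (Fin.castSucc_lt_last i).ne)

lemma eqv_cmon_mem (t : Idx m) :
    eqv m (cmon (URing ℤ m) m (ugen ℤ m) t) ∈ upiece ℤ (m + 1) (degT m t) := by
  rcases t with _ | (k | ⟨y, k⟩)
  · simp only [cmon, degT, map_one]
    exact one_mem ℤ (m + 1)
  · simp only [cmon, degT, map_mul, map_pow]
    have h2 := pow_mem (eqv_var_mem m .x2) (k + 1)
    have h3 := mul_mem h2 (eqv_var_mem m .x3)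
    have : (k + 1) * 1 + 1 = k + 2 := by ring
    rw [this] at h3
    exact h3
  · simp only [cmon, degT, map_pow]
    have h2 := pow_mem (eqv_var_mem m y) (k + 1)
    rw [mul_one] at h2
    exact h2

variable {m}

theorem step (hm : 2 ≤ m) (h : HasGB ℤ (URing ℤ m) (upiece ℤ m) (uhilb m)) :
    HasGB ℤ (URing ℤ (m + 1)) (upiece ℤ (m + 1)) (uhilb (m + 1)) := by
  classical
  obtain ⟨κ, deg, fib, b, hfib, hb, hH⟩ := h
  obtain ⟨hli, hsp⟩ := Groth.Agent.Lib.Helper15.UnMain.backward (ugen ℤ m) (by omega : 1 ≤ m)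
    usat_ugen
  let bC : Module.Basis (Idx m) (URing ℤ m) (CCm m) := Module.Basis.mk hli (by rw [hsp])
  let bZ : Module.Basis (κ × Idx m) ℤ (CCm m) := b.smulTower bC
  let bU : Module.Basis (κ × Idx m) ℤ (URing ℤ (m + 1)) :=
    bZ.map (eqv m).toAddEquiv.toIntLinearEquiv
  have hs : ∀ (r : URing ℤ m) (y : CCm m), r • y = algebraMap (URing ℤ m) (CCm m) r * y :=
    fun r y => Algebra.smul_def r y
  have hbU : ∀ k t, bU (k, t) = uincl ℤ m (b k) * eqv m (cmon (URing ℤ m) m (ugen ℤ m) t) := by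
    intro k t
    simp only [bU, bZ, bC, Module.Basis.map_apply, Module.Basis.smulTower_apply,
      Module.Basis.coe_mk]
    show eqv m (b k • cmon (URing ℤ m) m (ugen ℤ m) t) = _
    rw [hs, map_mul, eqv_algebraMap]
  refine ⟨κ × Idx m, fun p => deg p.1 + degT m p.2, fibProd fib (fibT m), bU, ?_, ?_, ?_⟩
  · intro d p
    exact mem_fibProd hfib (mem_fibT m) d p
  · rintro ⟨k, t⟩
    rw [hbU]
    exact mul_mem (uincl_mem (hb k)) (eqv_cmon_mem m t)
  · intro d
    rw [uhilb_succ m hm]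
    exact coeff_mul_of_card hfib (mem_fibT m) (uhilb m) (HT m) hH (card_fibT m) d

theorem hasGB : ∀ m, 2 ≤ m → HasGB ℤ (URing ℤ m) (upiece ℤ m) (uhilb m) := by
  intro m hm
  induction m, hm using Nat.le_induction with
  | base => exact Groth.Agent.Lib.Helper15.UnGr3.base
  | succ m hm ih => exact step hm ih

theorem main (m : ℕ) (hm : 2 ≤ m) :
    Module.Free ℤ (URing ℤ m) ∧ DirectSum.IsInternal (upiece ℤ m) ∧
      ∀ d : ℕ, (Module.finrank ℤ (upiece ℤ m d) : ℤ) = PowerSeries.coeff d (uhilb m) := by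
  have h := hasGB m hm
  have hint := isInternal ℤ m
  exact ⟨h.free, hint, fun d => h.finrank hint.submodule_iSupIndep d⟩

end Step

end Groth.Agent.Lib.Helper15.UnGr4

end
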