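import Mathlib
import Groth.Prelude.Def_FlatCA
import Groth.Prelude.Def_Hensel
import Groth.Prelude.Def_PBC
import Groth.Agent.Lib.Helper7.WeakAss
import Groth.Agent.Lib.Helper9.WeakAssEtale
import Groth.Agent.Lib.Helper4.HznSerre
import Groth.Agent.Lib.Helper25.FlatEtale
import Groth.Agent.Lib.Helper15.ED1

/-!
# Weakly associated primes and ind-étale local extensions (helper15, for S1234)
-/

set_option autoImplicit false
set_option linter.style.haveILetI false
set_option linter.unusedSectionVars false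
set_option linter.style.longLine false
set_option linter.unusedVariables false

universe u

namespace Groth.Agent.Lib.Helper15.WA

open TensorProduct IsLocalRing FlatCA

section Loc

variable {B B' : Type u} [CommRing B] [IsLocalRing B] [CommRing B'] [IsLocalRing B'] [Algebra B B']
  [IsLocalHom (algebraMap B B')] (M : Type u) [AddCommGroup M] [Module B M]

theorem mem_weakAss_tensor_of_mem [Module.FaithfullyFlat B B']
    (hmax : (maximalIdeal B).map (algebraMap B B') = maximalIdeal B')
    (h : maximalIdeal B ∈ weakAss B M) : maximalIdeal B' ∈ weakAss B' (B' ⊗[B] M) := by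
  obtain ⟨x, hx⟩ := h
  refine ⟨(1 : B') ⊗ₜ[B] x, ⟨inferInstance, ?_⟩, ?_⟩
  · apply IsLocalRing.le_maximalIdeal
    intro htop
    have h1 : (1 : B') ∈ (Submodule.span B' {(1 : B') ⊗ₜ[B] x}).annihilator := by
      rw [htop]; trivial
    rw [Submodule.mem_annihilator_span_singleton, one_smul] at h1
    have hx0 : x = 0 := by
      apply Module.FaithfullyFlat.tensorProduct_mk_injective (A := B) (B := B') M
      rw [map_zero]
      exact h1
    have h2 : (Submodule.span B {x}).annihilator = ⊤ := by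
      rw [hx0, Ideal.eq_top_iff_one, Submodule.mem_annihilator_span_singleton, smul_zero]
    exact hx.1.1.ne_top (top_le_iff.mp (h2 ▸ hx.1.2))
  · rintro P ⟨hP, hle⟩ hPm
    haveI := hP
    have h1 : (Submodule.span B {x}).annihilator ≤ P.comap (algebraMap B B') := by
      intro a ha
      rw [Ideal.mem_comap]
      apply hle
      rw [Submodule.mem_annihilator_span_singleton] at ha ⊢
      rw [algebraMap_smul, ← TensorProduct.tmul_smul, ha, TensorProduct.tmul_zero]
    have h2 : P.comap (algebraMap B B') ≤ maximalIdeal B :=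
      IsLocalRing.le_maximalIdeal (Ideal.IsPrime.ne_top inferInstance)
    have h3 := hx.2 ⟨inferInstance, h1⟩ h2
    rw [← hmax, Ideal.map_le_iff_le_comap]
    exact h3

theorem exists_etale_repr (hind : EtPBC.IsIndEtale B B') (ξ : B' ⊗[B] M) :
    ∃ (E : Type u) (_ : CommRing E) (_ : Algebra B E) (_ : Algebra.Etale B E) (β : E →ₐ[B] B')
      (w : E ⊗[B] M), (β.toLinearMap.rTensor M) w = ξ := by
  induction ξ using TensorProduct.induction_on with
  | zero => exact ⟨B, inferInstance, inferInstance, inferInstance, Algebra.ofId B B', 0, map_zero _⟩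
  | tmul b m =>
    obtain ⟨E, _, _, _, β, ⟨e, he⟩⟩ :=
      Groth.Agent.Lib.Helper4.Hzn.exists_etale_algHom_of_isIndEtale B B' hind b
    refine ⟨E, inferInstance, inferInstance, inferInstance, β, e ⊗ₜ[B] m, ?_⟩
    rw [LinearMap.rTensor_tmul, AlgHom.toLinearMap_apply]
    exact congrArg (· ⊗ₜ[B] m) he
  | add a b ha hb =>
    obtain ⟨E₁, _, _, _, β₁, w₁, h₁⟩ := ha
    obtain ⟨E₂, _, _, _, β₂, w₂, h₂⟩ := hb
    haveI : Algebra.Etale B (E₁ ⊗[B] E₂) := Algebra.Etale.comp B E₁ (E₁ ⊗[B] E₂)
    let β : E₁ ⊗[B] E₂ →ₐ[B] B' := Algebra.TensorProduct.lift β₁ β₂ (fun _ _ => Commute.all _ _)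
    let i₁ : E₁ →ₐ[B] E₁ ⊗[B] E₂ := Algebra.TensorProduct.includeLeft
    let i₂ : E₂ →ₐ[B] E₁ ⊗[B] E₂ := Algebra.TensorProduct.includeRight
    refine ⟨E₁ ⊗[B] E₂, inferInstance, inferInstance, inferInstance, β,
      (i₁.toLinearMap.rTensor M) w₁ + (i₂.toLinearMap.rTensor M) w₂, ?_⟩
    have e1 : β.toLinearMap ∘ₗ i₁.toLinearMap = β₁.toLinearMap := by
      ext x
      simp [β, i₁]
    have e2 : β.toLinearMap ∘ₗ i₂.toLinearMap = β₂.toLinearMap := by
      ext x
      simp [β, i₂]
    rw [map_add, ← LinearMap.comp_apply, ← LinearMap.comp_apply, ← LinearMap.rTensor_comp,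
      ← LinearMap.rTensor_comp, e1, e2, h₁, h₂]

end Loc

end Groth.Agent.Lib.Helper15.WA
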