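import Mathlib
import Groth.Prelude.Def_FlatCA
import Groth.Prelude.Def_Hensel
import Groth.Prelude.Def_PBC
import Groth.Agent.Lib.Helper15.WA1
import Groth.Agent.Lib.Helper4.HznProps
import Groth.Agent.Lib.Helper4.HzsProps
import Groth.Agent.Lib.Helper4.IndEtHz

/-!
# Weakly associated primes and ind-étale local extensions, descent direction; S1234
-/

set_option autoImplicit false
set_option linter.style.haveILetI false
set_option linter.unusedSectionVars false
set_option linter.style.longLine false
set_option linter.unusedVariables false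

universe u

namespace Groth.Agent.Lib.Helper15.WA

open TensorProduct IsLocalRing FlatCA

section Loc

variable {B B' : Type u} [CommRing B] [IsLocalRing B] [CommRing B'] [IsLocalRing B'] [Algebra B B']
  [IsLocalHom (algebraMap B B')] (M : Type u) [AddCommGroup M] [Module B M]

theorem mem_weakAss_of_mem_tensor [Module.Flat B B'] (hind : EtPBC.IsIndEtale B B')
    (h : maximalIdeal B' ∈ weakAss B' (B' ⊗[B] M)) : maximalIdeal B ∈ weakAss B M := by
  obtain ⟨ξ, hξ⟩ := h
  obtain ⟨E, _, _, _, β, w, hw⟩ := exists_etale_repr M hind ξ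
  letI : Algebra E B' := β.toRingHom.toAlgebra
  haveI : IsScalarTower B E B' := IsScalarTower.of_algebraMap_eq (fun x => (β.commutes x).symm)
  haveI : Module.Flat E B' :=
    (Groth.Agent.Lib.Helper25.FlatEtale.flat_iff_of_etale (R := B) (T := E) B').mp inferInstance
  have hβ : ∀ e : E, algebraMap E B' e = β e := fun e => rfl
  -- the prime `u`
  set u : Ideal E := (maximalIdeal B').comap (algebraMap E B') with hu
  haveI : u.IsPrime := Ideal.IsPrime.comap _
  haveI : u.LiesOver (maximalIdeal B) := by
    constructor
    rw [Ideal.under_def, hu, Ideal.comap_comap, ← IsScalarTower.algebraMap_eq]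
    have h04 := ((local_hom_TFAE (algebraMap B B')).out 0 4).mp
      (inferInstance : IsLocalHom (algebraMap B B'))
    exact h04.symm
  haveI : (maximalIdeal B').LiesOver u := ⟨rfl⟩
  -- the element `1 ⊗ w` of `B' ⊗[E] (E ⊗[B] M)` corresponds to `ξ`
  let e : B' ⊗[E] (E ⊗[B] M) ≃ₗ[B'] B' ⊗[B] M := AlgebraTensorModule.cancelBaseChange B E B' B' M
  have he' : ∀ w : E ⊗[B] M, e ((1 : B') ⊗ₜ[E] w) = (β.toLinearMap.rTensor M) w := by
    intro w
    induction w using TensorProduct.induction_on with
    | zero => simp
    | tmul x m =>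
      rw [AlgebraTensorModule.cancelBaseChange_tmul, LinearMap.rTensor_tmul,
        AlgHom.toLinearMap_apply, Algebra.smul_def, mul_one, hβ]
    | add a b ha hb => rw [TensorProduct.tmul_add, map_add, ha, hb, map_add]
  have he : e ((1 : B') ⊗ₜ[E] w) = ξ := by rw [he', hw]
  have hann : (Submodule.span B' {(1 : B') ⊗ₜ[E] w}).annihilator =
      (Submodule.span B' {ξ}).annihilator := by
    rw [← he]
    exact (Groth.Agent.Lib.Helper7.WeakAss.ann_map_of_injective e.toLinearMap e.injective _).symm
  rw [← hann] at hξ
  -- `u` is minimal over the annihilator of `w`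
  have hu_mem : u ∈ weakAss E (E ⊗[B] M) := by
    refine ⟨w, ⟨inferInstance, ?_⟩, ?_⟩
    · intro a ha
      rw [Submodule.mem_annihilator_span_singleton] at ha
      rw [hu, Ideal.mem_comap]
      apply hξ.1.2
      rw [Submodule.mem_annihilator_span_singleton, algebraMap_smul, ← TensorProduct.tmul_smul,
        ha, TensorProduct.tmul_zero]
    · rintro P ⟨hP, hle⟩ hPu
      haveI := hP
      haveI : Algebra.HasGoingDown E B' := Algebra.HasGoingDown.of_flat
      obtain ⟨P', hP'le, hP'prime, hP'over⟩ :=
        Ideal.exists_ideal_le_liesOver_of_le (p := P) (q := u) (maximalIdeal B') hPu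
      haveI := hP'prime
      have hP'comap : P'.comap (algebraMap E B') = P := (hP'over.over).symm
      have hannP' : (Submodule.span B' {(1 : B') ⊗ₜ[E] w}).annihilator ≤ P' := by
        intro t' ht'
        by_contra hnot
        rw [Submodule.mem_annihilator_span_singleton, TensorProduct.smul_tmul', smul_eq_mul,
          mul_one] at ht'
        obtain ⟨t, htP, htw⟩ := ED.exists_smul_eq_zero_of_tmul_eq_zero (S := E) (S' := B')
          P P' (by rw [Ideal.map_le_iff_le_comap, hP'comap]) w t' hnot ht'
        exact htP (hle ((Submodule.mem_annihilator_span_singleton _ _).mpr htw))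
      have hmax : maximalIdeal B' ≤ P' := hξ.2 ⟨hP'prime, hannP'⟩ hP'le
      have : P' = maximalIdeal B' := le_antisymm hP'le hmax
      rw [hu, ← this, hP'comap]
  exact Groth.Agent.Lib.Helper9.WeakAssEtale.comap_mem_weakAss_of_etale M (maximalIdeal B) u hu_mem

theorem mem_weakAss_tensor_iff [Module.FaithfullyFlat B B'] (hind : EtPBC.IsIndEtale B B')
    (hmax : (maximalIdeal B).map (algebraMap B B') = maximalIdeal B') :
    maximalIdeal B' ∈ weakAss B' (B' ⊗[B] M) ↔ maximalIdeal B ∈ weakAss B M :=
  ⟨mem_weakAss_of_mem_tensor M hind, mem_weakAss_tensor_of_mem M hmax⟩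

end Loc

section Main

open Groth.Agent.Lib.Helper4

theorem main1234 {A : Type u} [CommRing A] (M : Type u) [AddCommGroup M] [Module A M] (p : Ideal A) [p.IsPrime]
    (Ah Ash : Type u) [CommRing Ah] [IsLocalRing Ah] [CommRing Ash] [IsLocalRing Ash]
    [Algebra (Localization.AtPrime p) Ah] [IsLocalHom (algebraMap (Localization.AtPrime p) Ah)] [Hensel.IsHenselization (Localization.AtPrime p) Ah]
    [Algebra (Localization.AtPrime p) Ash] [IsLocalHom (algebraMap (Localization.AtPrime p) Ash)] [Hensel.IsStrictHenselization (Localization.AtPrime p) Ash] :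
    [p ∈ FlatCA.weakAss A M,
     maximalIdeal (Localization.AtPrime p) ∈ FlatCA.weakAss (Localization.AtPrime p) (LocalizedModule p.primeCompl M),
     maximalIdeal Ah ∈ FlatCA.weakAss Ah (Ah ⊗[Localization.AtPrime p] LocalizedModule p.primeCompl M),
     maximalIdeal Ash ∈ FlatCA.weakAss Ash (Ash ⊗[Localization.AtPrime p] LocalizedModule p.primeCompl M)].TFAE := by
  have h12 : p ∈ FlatCA.weakAss A M ↔ maximalIdeal (Localization.AtPrime p) ∈
      FlatCA.weakAss (Localization.AtPrime p) (LocalizedModule p.primeCompl M) := by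
    have hdisj : Disjoint (p.primeCompl : Set A) (p : Set A) := by
      rw [Set.disjoint_left]
      intro a ha hap
      exact ha hap
    have := Groth.Agent.Lib.Helper7.WeakAss.mem_weakAss_iff_map_mem (S := p.primeCompl) (M := M) p hdisj
    rw [Localization.AtPrime.map_eq_maximalIdeal] at this
    exact this
  haveI : Module.FaithfullyFlat (Localization.AtPrime p) Ah :=
    Hzn.faithfullyFlat_of_isHenselization (Localization.AtPrime p) Ah
  haveI : Module.FaithfullyFlat (Localization.AtPrime p) Ash :=
    Hzs.faithfullyFlat_of_isStrictHenselization (Localization.AtPrime p) Ash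
  have h32 := mem_weakAss_tensor_iff (B := Localization.AtPrime p) (B' := Ah)
    (LocalizedModule p.primeCompl M)
    (IndEt.isIndEtale_of_isHenselization (Localization.AtPrime p) Ah)
    (Hzn.map_maximalIdeal_of_isHenselization (Localization.AtPrime p) Ah)
  have h42 := mem_weakAss_tensor_iff (B := Localization.AtPrime p) (B' := Ash)
    (LocalizedModule p.primeCompl M)
    (IndEt.isIndEtale_of_isStrictHenselization (Localization.AtPrime p) Ash)
    (Hzs.map_maximalIdeal_of_isStrictHenselization (Localization.AtPrime p) Ash)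
  tfae_have 1 ↔ 2 := h12
  tfae_have 3 ↔ 2 := h32
  tfae_have 4 ↔ 2 := h42
  tfae_finish

end Main

end Groth.Agent.Lib.Helper15.WA
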