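import Mathlib

set_option autoImplicit false
set_option linter.style.haveILetI false
set_option linter.unusedSectionVars false

/-!
# Evaluation of two-variable power series at "nilpotent" pairs, and a model ring

Used for S14909.
-/

namespace Groth.Agent.Lib.Helper15.WeierChar2

open MvPowerSeries

universe u

section Eval

variable {R : Type u} [CommRing R] {Λ : Type u} [CommRing Λ] [Algebra R Λ]
variable (N : ℕ) (a : Fin 2 → Λ)

lemma aeval_eq_zero_of_coeff
    (ha : ∀ d : Fin 2 →₀ ℕ, N ≤ d.degree → (d.prod fun i k => a i ^ k) = 0)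
    (P : MvPolynomial (Fin 2) R)
    (hP : ∀ d : Fin 2 →₀ ℕ, d.degree < N → P.coeff d = 0) : MvPolynomial.aeval a P = 0 := by
  rw [MvPolynomial.aeval_def, MvPolynomial.eval₂_eq]
  refine Finset.sum_eq_zero fun d _ => ?_
  by_cases hd : d.degree < N
  · rw [hP d hd]; simp
  · have := ha d (not_lt.mp hd)
    rw [Finsupp.prod] at this
    rw [this]; simp

/-- Evaluation at a pair all of whose monomials of degree `≥ N` vanish. -/
noncomputable def evalHom (hN : N ≠ 0)
    (ha : ∀ d : Fin 2 →₀ ℕ, N ≤ d.degree → (d.prod fun i k => a i ^ k) = 0) :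
    MvPowerSeries (Fin 2) R →ₐ[R] Λ where
  toFun g := MvPolynomial.aeval a (truncTotal N g)
  map_one' := by rw [truncTotal_one hN]; simp
  map_mul' g h := by
    rw [← map_mul]
    have : MvPolynomial.aeval a (truncTotal N (g * h) - truncTotal N g * truncTotal N h) = 0 :=
      aeval_eq_zero_of_coeff N a ha _ (fun d hd => by
        rw [MvPolynomial.coeff_sub, coeff_truncTotal _ hd,
          coeff_truncTotal_mul_truncTotal_eq_coeff_mul _ _ hd, sub_self])
    rwa [map_sub, sub_eq_zero] at this
  map_zero' := by simp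
  map_add' g h := by simp
  commutes' r := by
    rw [Algebra.algebraMap_eq_smul_one, map_smul, truncTotal_one hN, map_smul, map_one,
      ← Algebra.algebraMap_eq_smul_one]

lemma evalHom_apply (hN : N ≠ 0)
    (ha : ∀ d : Fin 2 →₀ ℕ, N ≤ d.degree → (d.prod fun i k => a i ^ k) = 0)
    (g : MvPowerSeries (Fin 2) R) :
    evalHom (R := R) N a hN ha g = MvPolynomial.aeval a (truncTotal N g) := rfl

lemma evalHom_X (hN : 2 ≤ N)
    (ha : ∀ d : Fin 2 →₀ ℕ, N ≤ d.degree → (d.prod fun i k => a i ^ k) = 0) (i : Fin 2) :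
    evalHom (R := R) N a (by omega) ha (X i) = a i := by
  rw [evalHom_apply]
  have : truncTotal N (X i : MvPowerSeries (Fin 2) R) = MvPolynomial.X i := by
    ext d
    rw [coeff_truncTotal_eq_ite, MvPolynomial.coeff_X', coeff_X]
    by_cases hd : d = Finsupp.single i 1
    · subst hd
      simp only [Finsupp.degree_single]
      rw [if_pos (by omega)]
    · have hd' : ¬ (Finsupp.single i 1 = d) := fun h => hd h.symm
      rw [if_neg hd', if_neg hd]; simp
  rw [this, MvPolynomial.aeval_X]

end Eval

end Groth.Agent.Lib.Helper15.WeierChar2
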