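import Mathlib

set_option autoImplicit false
set_option linter.style.haveILetI false
set_option linter.unusedSectionVars false

/-!
# The model ring `R[η, ε]/(η² - a₆, ε², η^{2v+1}, η^{2v} ε)` used for S14909
-/

namespace Groth.Agent.Lib.Helper15.WeierChar2

universe u

open QuadraticAlgebra

section Model

variable (R : Type u) [CommRing R] (a₆ : R)

/-- `R[η, ε]/(η² - a₆, ε²)` -/
abbrev Lam := QuadraticAlgebra (QuadraticAlgebra R a₆ 0) 0 0

variable {R a₆}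

/-- `ε` -/
def eps : Lam R a₆ := ω

/-- `η` -/
def eta : Lam R a₆ := ⟨ω, 0⟩

lemma eps_mul_eps : (eps : Lam R a₆) * eps = 0 := by
  ext <;> simp [eps]

lemma eta_mul_eta : (eta : Lam R a₆) * eta = algebraMap R (Lam R a₆) a₆ := by
  ext <;> simp [eta, Algebra.algebraMap_eq_smul_one]

lemma eta_pow_two_mul (k : ℕ) :
    (eta : Lam R a₆) ^ (2 * k) = algebraMap R (Lam R a₆) (a₆ ^ k) := by
  rw [pow_mul, pow_two, eta_mul_eta, map_pow]

/-- the ideal `(η^{2v+1}, η^{2v} ε)`, described in coordinates -/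
def JJ (P : Ideal R) (v : ℕ) (hP : a₆ ∈ P) : Ideal (Lam R a₆) where
  carrier := {z | z.re.re ∈ P ^ (v + 1) ∧ z.re.im ∈ P ^ v ∧ z.im.re ∈ P ^ v ∧ z.im.im ∈ P ^ v}
  add_mem' := by
    rintro z w ⟨h1, h2, h3, h4⟩ ⟨k1, k2, k3, k4⟩
    refine ⟨?_, ?_, ?_, ?_⟩
    · simpa using Ideal.add_mem _ h1 k1
    · simpa using Ideal.add_mem _ h2 k2
    · simpa using Ideal.add_mem _ h3 k3
    · simpa using Ideal.add_mem _ h4 k4
  zero_mem' := by simp
  smul_mem' := by
    rintro c z ⟨h1, h2, h3, h4⟩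
    have key : ∀ s t : R, s ∈ P ^ v → a₆ * t * s ∈ P ^ (v + 1) := by
      intro s t hs
      rw [pow_succ]
      have := Ideal.mul_mem_left _ t (Ideal.mul_mem_mul hs hP)
      convert this using 1; ring
    have hle : P ^ (v + 1) ≤ P ^ v := Ideal.pow_le_pow_right (Nat.le_succ v)
    refine ⟨?_, ?_, ?_, ?_⟩
    · simp only [smul_eq_mul, re_mul, zero_mul, add_zero]
      exact Ideal.add_mem _ (Ideal.mul_mem_left _ _ h1) (key _ _ h2)
    · simp only [smul_eq_mul, re_mul, im_mul, zero_mul, add_zero]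
      exact Ideal.add_mem _ (Ideal.mul_mem_left _ _ h2) (Ideal.mul_mem_left _ _ (hle h1))
    · simp only [smul_eq_mul, im_mul, re_mul, re_add, zero_mul, add_zero]
      refine Ideal.add_mem _ (Ideal.add_mem _ (Ideal.mul_mem_left _ _ h3) (hle (key _ _ h4)))
        (Ideal.add_mem _ (Ideal.mul_mem_left _ _ (hle h1)) ?_)
      exact hle (key _ _ h2)
    · simp only [smul_eq_mul, im_mul, im_add, zero_mul, add_zero]
      refine Ideal.add_mem _ (Ideal.add_mem _ (Ideal.mul_mem_left _ _ h4)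
        (Ideal.mul_mem_left _ _ h3)) (Ideal.add_mem _ (Ideal.mul_mem_left _ _ h2) ?_)
      exact Ideal.mul_mem_left _ _ (hle h1)

lemma mem_JJ {P : Ideal R} {v : ℕ} {hP : a₆ ∈ P} {z : Lam R a₆} :
    z ∈ JJ P v hP ↔
      z.re.re ∈ P ^ (v + 1) ∧ z.re.im ∈ P ^ v ∧ z.im.re ∈ P ^ v ∧ z.im.im ∈ P ^ v := Iff.rfl

end Model

section Quot

variable {R : Type u} [CommRing R] {a₆ : R} (P : Ideal R) (v : ℕ) (hP : a₆ ∈ P)

/-- the model ring -/
abbrev Lbar := Lam R a₆ ⧸ JJ P v hP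

/-- class of `ε` -/
def epsb : Lbar P v hP := Ideal.Quotient.mk _ eps

/-- class of `η` -/
def etab : Lbar P v hP := Ideal.Quotient.mk _ eta

lemma epsb_mul_epsb : epsb P v hP * epsb P v hP = 0 := by
  rw [epsb, ← map_mul, eps_mul_eps, map_zero]

lemma etab_mul_etab : etab P v hP * etab P v hP = algebraMap R (Lbar P v hP) a₆ := by
  rw [etab, ← map_mul, eta_mul_eta]; rfl

lemma etab_pow_two_mul (k : ℕ) :
    etab P v hP ^ (2 * k) = algebraMap R (Lbar P v hP) (a₆ ^ k) := by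
  rw [pow_mul, pow_two, etab_mul_etab, map_pow]

lemma etab_pow_odd : etab P v hP ^ (2 * v + 1) = 0 := by
  rw [etab, ← map_pow, Ideal.Quotient.eq_zero_iff_mem, pow_succ, eta_pow_two_mul, mem_JJ]
  have h : a₆ ^ v ∈ P ^ v := Ideal.pow_mem_pow hP v
  refine ⟨?_, ?_, ?_, ?_⟩ <;> simp [eta, Algebra.algebraMap_eq_smul_one, h]

lemma etab_pow_mul_epsb : etab P v hP ^ (2 * v) * epsb P v hP = 0 := by
  rw [etab, epsb, ← map_pow, ← map_mul, Ideal.Quotient.eq_zero_iff_mem, eta_pow_two_mul, mem_JJ]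
  have h : a₆ ^ v ∈ P ^ v := Ideal.pow_mem_pow hP v
  refine ⟨?_, ?_, ?_, ?_⟩ <;> simp [eps, Algebra.algebraMap_eq_smul_one, h]

lemma detect (hv : 1 ≤ v) (a b : R)
    (h : a • etab P v hP ^ (2 * v) + b • (epsb P v hP * etab P v hP ^ (2 * v - 1)) = 0) :
    a * a₆ ^ v ∈ P ^ (v + 1) ∧ b * a₆ ^ (v - 1) ∈ P ^ v := by
  have e1 : 2 * v - 1 = 2 * (v - 1) + 1 := by omega
  have hz : a • (eta : Lam R a₆) ^ (2 * v) + b • (eps * eta ^ (2 * v - 1)) ∈ JJ P v hP := by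
    rw [← Ideal.Quotient.eq_zero_iff_mem]
    rw [← h]
    simp only [map_add, map_mul, map_pow, etab, epsb]
    rfl
  rw [e1, pow_succ, eta_pow_two_mul, eta_pow_two_mul, mem_JJ] at hz
  obtain ⟨h1, -, -, h4⟩ := hz
  constructor
  · simpa [eta, eps, Algebra.algebraMap_eq_smul_one] using h1
  · simpa [eta, eps, Algebra.algebraMap_eq_smul_one] using h4

end Quot

end Groth.Agent.Lib.Helper15.WeierChar2
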