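import Mathlib
import Groth.Agent.Lib.Helper15.WeierChar2a
import Groth.Agent.Lib.Helper15.WeierChar2b

set_option autoImplicit false
set_option linter.style.haveILetI false
set_option linter.unusedSectionVars false

/-!
# S14909, independence part
-/

namespace Groth.Agent.Lib.Helper15.WeierChar2

universe u

open MvPowerSeries

section Indep

variable {R : Type u} [CommRing R] {Λ : Type u} [CommRing Λ] [Algebra R Λ]

/-- abstract version of the independence argument. -/
theorem indep_abstract (ϖ a₁ a₆ : R) (v : ℕ) (hv : 1 ≤ v) (u₁ u₆ : Rˣ)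
    (ha₁ : a₁ = u₁ * ϖ ^ v) (ha₆ : a₆ = u₆ * ϖ) (c2 : R) (h2 : (2 : R) = c2 * ϖ ^ v)
    (ε η : Λ) (h1 : ε * ε = 0) (hη : η * η = algebraMap R Λ a₆)
    (h3 : η ^ (2 * v + 1) = 0) (h4 : η ^ (2 * v) * ε = 0)
    (x y : MvPowerSeries (Fin 2) R) (hx : x = MvPowerSeries.X 0) (hy : y = MvPowerSeries.X 1)
    (I M : Ideal (MvPowerSeries (Fin 2) R))
    (hI : I = Ideal.span {y ^ 2 + a₁ • (x * y) - x ^ 3 - algebraMap R (MvPowerSeries (Fin 2) R) a₆,
      2 * y + a₁ • x, 3 * x ^ 2 - a₁ • y})
    (hM : M = Ideal.span {algebraMap R (MvPowerSeries (Fin 2) R) ϖ, x, y})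
    (a b : R) (hab : a • y ^ (2 * v) + b • (x * y ^ (2 * v - 1)) ∈ M ^ (2 * v + 1) ⊔ I) :
    a • η ^ (2 * v) + b • (ε * η ^ (2 * v - 1)) = 0 := by
  classical
  set p : Fin 2 → Λ := fun i => if i = 0 then ε else η with hp
  have hp0 : p 0 = ε := by simp [hp]
  have hp1 : p 1 = η := by simp [hp]
  have hmon : ∀ d : Fin 2 →₀ ℕ, 2 * v + 1 ≤ d.degree → (d.prod fun i k => p i ^ k) = 0 := by
    intro d hd
    rw [Finsupp.prod_fintype _ _ (fun i => pow_zero _), Fin.prod_univ_two, hp0, hp1]
    rw [Finsupp.degree_eq_sum, Fin.sum_univ_two] at hd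
    rcases Nat.lt_or_ge (d 0) 2 with h0 | h0
    · interval_cases h : d 0
      · have : d 1 = (2 * v + 1) + (d 1 - (2 * v + 1)) := by omega
        rw [this, pow_add, h3]; simp
      · have : d 1 = 2 * v + (d 1 - 2 * v) := by omega
        rw [this, pow_add, pow_one, mul_comm ε, mul_assoc, mul_comm _ ε, ← mul_assoc, h4, zero_mul]
    · have : d 0 = 2 + (d 0 - 2) := by omega
      rw [this, pow_add, pow_two, h1]; simp
  set ψ : MvPowerSeries (Fin 2) R →ₐ[R] Λ := evalHom (2 * v + 1) p (by omega) hmon with hψ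
  have hψx : ψ x = ε := by rw [hx, hψ, evalHom_X _ _ (by omega), hp0]
  have hψy : ψ y = η := by rw [hy, hψ, evalHom_X _ _ (by omega), hp1]
  -- consequences of the relations
  have hηpow : η ^ (2 * v) = algebraMap R Λ (a₆ ^ v) := by
    rw [pow_mul, pow_two, hη, map_pow]
  have hu : algebraMap R Λ (↑(u₆⁻¹ ^ v) * a₆ ^ v) = algebraMap R Λ (ϖ ^ v) := by
    congr 1
    rw [ha₆, mul_pow, ← mul_assoc, ← Units.val_pow_eq_pow_val, ← Units.val_mul, ← mul_pow]
    simp
  have K1 : algebraMap R Λ (ϖ ^ v) * ε = 0 := by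
    rw [← hu, map_mul, mul_assoc, ← hηpow, h4, mul_zero]
  have K2 : algebraMap R Λ (ϖ ^ v) * η = 0 := by
    rw [← hu, map_mul, mul_assoc, ← hηpow, ← pow_succ, h3, mul_zero]
  have hϖ' : algebraMap R Λ ϖ = algebraMap R Λ (↑u₆⁻¹) * (η * η) := by
    rw [hη, ← map_mul, ha₆, ← mul_assoc, ← Units.val_mul]; simp
  -- `I` is killed
  have hIker : I ≤ RingHom.ker (ψ : MvPowerSeries (Fin 2) R →+* Λ) := by
    rw [hI, Ideal.span_le]
    intro g hg
    simp only [Set.mem_insert_iff, Set.mem_singleton_iff] at hg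
    simp only [SetLike.mem_coe, RingHom.mem_ker, AlgHom.coe_toRingHom]
    rcases hg with rfl | rfl | rfl
    · simp only [map_sub, map_add, map_pow, map_smul, map_mul, hψx, hψy, AlgHom.commutes]
      rw [pow_two, hη, pow_succ, pow_two, h1, zero_mul, ha₁, Algebra.smul_def, map_mul,
        mul_assoc, ← mul_assoc _ ε, K1]
      simp
    · simp only [map_add, map_smul, map_mul, hψx, hψy, map_ofNat]
      rw [ha₁, Algebra.smul_def, map_mul, mul_assoc, K1, mul_zero, add_zero]
      have : (2 : Λ) = algebraMap R Λ 2 := (map_ofNat (algebraMap R Λ) 2).symm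
      rw [this, h2, map_mul, mul_assoc, K2, mul_zero]
    · simp only [map_sub, map_smul, map_mul, map_pow, hψx, hψy, map_ofNat]
      rw [ha₁, Algebra.smul_def, map_mul, mul_assoc, K2, mul_zero, pow_two, h1]
      simp
  -- powers of `M` are killed
  have hMk : ∀ k : ℕ, M ^ (k + 1) ≤
      Ideal.comap (ψ : MvPowerSeries (Fin 2) R →+* Λ) (Ideal.span {η ^ (k + 1), η ^ k * ε}) := by
    intro k
    induction k with
    | zero =>
      rw [zero_add, pow_one, hM, Ideal.span_le]
      intro g hg
      simp only [Set.mem_insert_iff, Set.mem_singleton_iff] at hg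
      simp only [SetLike.mem_coe, Ideal.mem_comap, AlgHom.coe_toRingHom, pow_zero, one_mul,
        pow_one]
      rcases hg with rfl | rfl | rfl
      · rw [AlgHom.commutes, hϖ', ← mul_assoc]
        exact Ideal.mul_mem_left _ _ (Ideal.subset_span (by simp))
      · rw [hψx]; exact Ideal.subset_span (by simp)
      · rw [hψy]; exact Ideal.subset_span (by simp)
    | succ k ih =>
      rw [pow_succ]
      have h0 : M ≤ Ideal.comap (ψ : MvPowerSeries (Fin 2) R →+* Λ) (Ideal.span {η, ε}) := by
        rw [hM, Ideal.span_le]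
        intro g hg
        simp only [Set.mem_insert_iff, Set.mem_singleton_iff] at hg
        simp only [SetLike.mem_coe, Ideal.mem_comap, AlgHom.coe_toRingHom]
        rcases hg with rfl | rfl | rfl
        · rw [AlgHom.commutes, hϖ', ← mul_assoc]
          exact Ideal.mul_mem_left _ _ (Ideal.subset_span (by simp))
        · rw [hψx]; exact Ideal.subset_span (by simp)
        · rw [hψy]; exact Ideal.subset_span (by simp)
      refine (Ideal.mul_mono ih h0).trans ?_
      refine (Ideal.le_comap_mul _).trans (Ideal.comap_mono ?_)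
      rw [Ideal.span_pair_mul_span_pair, Ideal.span_le]
      intro g hg
      simp only [Set.mem_insert_iff, Set.mem_singleton_iff] at hg
      rcases hg with rfl | rfl | rfl | rfl
      · rw [← pow_succ]; exact Ideal.subset_span (by simp)
      · exact Ideal.subset_span (by simp)
      · rw [mul_assoc, mul_comm ε η, ← mul_assoc, ← pow_succ]
        exact Ideal.subset_span (by simp)
      · rw [mul_assoc, h1, mul_zero]; exact Ideal.zero_mem _
  have hMker : M ^ (2 * v + 1) ≤ RingHom.ker (ψ : MvPowerSeries (Fin 2) R →+* Λ) := by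
    refine (hMk (2 * v)).trans ?_
    rw [h3, h4]
    intro g hg
    rw [Ideal.mem_comap] at hg
    have : (Ideal.span {(0 : Λ), 0} : Ideal Λ) = ⊥ := by
      rw [Ideal.span_eq_bot]; intro z hz; simpa using hz
    rw [this, Ideal.mem_bot] at hg
    exact hg
  have hker := (sup_le hMker hIker) hab
  rw [RingHom.mem_ker, AlgHom.coe_toRingHom] at hker
  simpa only [map_add, map_smul, map_mul, map_pow, hψx, hψy] using hker

end Indep

end Groth.Agent.Lib.Helper15.WeierChar2
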