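import Mathlib
import Groth.Agent.Lib.Helper15.WeierChar2c

set_option autoImplicit false
set_option linter.style.haveILetI false
set_option linter.unusedSectionVars false

/-!
# S14909, generation part and assembly
-/

namespace Groth.Agent.Lib.Helper15.WeierChar2

universe u

open MvPowerSeries

section Gen

variable {R : Type u} [CommRing R] [IsLocalRing R]

theorem gen_abstract (ϖ a₁ a₆ : R) (hϖ : ϖ ∈ IsLocalRing.maximalIdeal R) (v : ℕ) (hv : 1 ≤ v)
    (u₁ u₆ u₃ : Rˣ) (hu₃ : (u₃ : R) = 3)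
    (ha₁ : a₁ = u₁ * ϖ ^ v) (ha₆ : a₆ = u₆ * ϖ)
    (x y : MvPowerSeries (Fin 2) R) (hx : x = MvPowerSeries.X 0) (hy : y = MvPowerSeries.X 1)
    (I M : Ideal (MvPowerSeries (Fin 2) R))
    (hI : I = Ideal.span {y ^ 2 + a₁ • (x * y) - x ^ 3 - algebraMap R (MvPowerSeries (Fin 2) R) a₆,
      2 * y + a₁ • x, 3 * x ^ 2 - a₁ • y})
    (hM : M = Ideal.span {algebraMap R (MvPowerSeries (Fin 2) R) ϖ, x, y}) (k : ℕ) :
    M ^ (k + 1) ⊔ I = Ideal.span {y ^ (k + 1), x * y ^ k} ⊔ I := by
  classical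
  set C := algebraMap R (MvPowerSeries (Fin 2) R) with hC
  have hCϖM : C ϖ ∈ M := by rw [hM]; exact Ideal.subset_span (by simp)
  have hxM : x ∈ M := by rw [hM]; exact Ideal.subset_span (by simp)
  have hyM : y ∈ M := by rw [hM]; exact Ideal.subset_span (by simp)
  have hf : y ^ 2 + a₁ • (x * y) - x ^ 3 - C a₆ ∈ I := by
    rw [hI]; exact Ideal.subset_span (by simp)
  have hfx : 3 * x ^ 2 - a₁ • y ∈ I := by
    rw [hI]; exact Ideal.subset_span (by simp)
  -- `M` is contained in the maximal ideal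
  have hMmax : M ≤ IsLocalRing.maximalIdeal (MvPowerSeries (Fin 2) R) := by
    rw [hM, Ideal.span_le]
    intro g hg
    simp only [Set.mem_insert_iff, Set.mem_singleton_iff] at hg
    simp only [SetLike.mem_coe, IsLocalRing.mem_maximalIdeal, mem_nonunits_iff,
      MvPowerSeries.isUnit_iff_constantCoeff]
    rcases hg with rfl | rfl | rfl
    · rw [hC, ← MvPowerSeries.c_eq_algebraMap, MvPowerSeries.constantCoeff_C]
      exact hϖ
    · rw [hx, MvPowerSeries.constantCoeff_X]; exact not_isUnit_zero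
    · rw [hy, MvPowerSeries.constantCoeff_X]; exact not_isUnit_zero
  -- general multiplication lemma
  have G : ∀ (j l : ℕ) (p q : MvPowerSeries (Fin 2) R), p ∈ M ^ j ⊔ I → q ∈ M ^ l → p * q ∈ M ^ (j + l) ⊔ I := by
    intro j l p q hp hq
    obtain ⟨m, hm, i, hi, rfl⟩ := Submodule.mem_sup.mp hp
    rw [add_mul]
    refine Ideal.add_mem _ (Ideal.mem_sup_left ?_) (Ideal.mem_sup_right (Ideal.mul_mem_right _ _ hi))
    rw [pow_add]; exact Ideal.mul_mem_mul hm hq
  -- F1
  have F1 : C ϖ ∈ M ^ 2 ⊔ I := by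
    have e : C ϖ = C (↑u₆⁻¹) * (y ^ 2 + C a₁ * (x * y) - x * x ^ 2
        - (y ^ 2 + a₁ • (x * y) - x ^ 3 - C a₆)) := by
      rw [Algebra.smul_def, ha₆, map_mul]
      have : C (↑u₆⁻¹) * C ↑u₆ = 1 := by rw [← map_mul, ← Units.val_mul]; simp
      linear_combination (-(C ϖ)) * this
    rw [e]
    refine Ideal.mul_mem_left _ _ (Ideal.sub_mem _ ?_ (Ideal.mem_sup_right hf))
    refine Ideal.mem_sup_left (Ideal.sub_mem _ (Ideal.add_mem _ (Ideal.pow_mem_pow hyM 2) ?_) ?_)
    · rw [pow_two]; exact Ideal.mul_mem_left _ _ (Ideal.mul_mem_mul hxM hyM)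
    · exact Ideal.mul_mem_left _ _ (Ideal.pow_mem_pow hxM 2)
  -- F2
  have F2 : x ^ 2 ∈ M ^ 3 ⊔ I := by
    obtain ⟨w, hw⟩ : ∃ w, v = w + 1 := ⟨v - 1, by omega⟩
    have e : x ^ 2 = C (↑u₃⁻¹) * ((3 * x ^ 2 - a₁ • y) + C ↑u₁ * (C ϖ ^ w * (C ϖ * y))) := by
      have h3 : (3 : MvPowerSeries (Fin 2) R) = C ↑u₃ := by rw [hu₃]; exact (map_ofNat C 3).symm
      have : C (↑u₃⁻¹) * C ↑u₃ = 1 := by rw [← map_mul, ← Units.val_mul]; simp
      rw [Algebra.smul_def, ha₁, map_mul, map_pow, h3, hw, pow_succ]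
      linear_combination (-(x ^ 2)) * this
    rw [e]
    refine Ideal.mul_mem_left _ _ (Ideal.add_mem _ (Ideal.mem_sup_right hfx) ?_)
    refine Ideal.mul_mem_left _ _ (Ideal.mul_mem_left _ _ ?_)
    have := G 2 1 (C ϖ) y F1 (by rwa [pow_one])
    exact this
  -- the inductive inclusion
  have T : ∀ k : ℕ, M ^ (k + 1) ≤ Ideal.span {y ^ (k + 1), x * y ^ k} ⊔ I ⊔ M ^ (k + 2) := by
    intro k
    induction k with
    | zero =>
      rw [zero_add, pow_one, pow_zero, mul_one, pow_one]
      conv_lhs => rw [hM]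
      rw [Ideal.span_le]
      intro g hg
      simp only [Set.mem_insert_iff, Set.mem_singleton_iff] at hg
      rcases hg with rfl | rfl | rfl
      · have : M ^ 2 ⊔ I ≤ Ideal.span {y, x} ⊔ I ⊔ M ^ (0 + 2) := by
          rw [zero_add]
          exact sup_le le_sup_right (le_sup_of_le_left le_sup_right)
        exact this F1
      · exact Ideal.mem_sup_left (Ideal.mem_sup_left (Ideal.subset_span (by simp)))
      · exact Ideal.mem_sup_left (Ideal.mem_sup_left (Ideal.subset_span (by simp)))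
    | succ k ih =>
      have e1 : M ^ (k + 1 + 1) = M ^ (k + 1) * M := pow_succ _ _
      rw [e1]
      refine (Ideal.mul_mono_left ih).trans ?_
      rw [Ideal.sup_mul, Ideal.sup_mul]
      refine sup_le (sup_le ?_ ?_) ?_
      · conv_lhs => rw [hM]
        rw [Ideal.span_mul_span', Ideal.span_le]
        rintro _ ⟨s, hs, t, ht, rfl⟩
        simp only [Set.mem_insert_iff, Set.mem_singleton_iff] at hs ht
        have hyk : y ^ (k + 1) ∈ M ^ (k + 1) := Ideal.pow_mem_pow hyM _
        have hxyk : x * y ^ k ∈ M ^ (k + 1) := by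
          rw [pow_succ']; exact Ideal.mul_mem_mul hxM (Ideal.pow_mem_pow hyM _)
        have hle : M ^ (2 + (k + 1)) ⊔ I ≤
            Ideal.span {y ^ (k + 1 + 1), x * y ^ (k + 1)} ⊔ I ⊔ M ^ (k + 1 + 2) := by
          have : 2 + (k + 1) = k + 1 + 2 := by omega
          rw [this]
          exact sup_le le_sup_right (le_sup_of_le_left le_sup_right)
        have hle3 : M ^ (3 + k) ⊔ I ≤
            Ideal.span {y ^ (k + 1 + 1), x * y ^ (k + 1)} ⊔ I ⊔ M ^ (k + 1 + 2) := by
          have : 3 + k = k + 1 + 2 := by omega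
          rw [this]
          exact sup_le le_sup_right (le_sup_of_le_left le_sup_right)
        show s * t ∈ _
        rcases hs with hs | hs <;> rcases ht with ht | ht | ht <;> rw [hs, ht]
        · have : y ^ (k + 1) * C ϖ = C ϖ * y ^ (k + 1) := by ring
          rw [this]; exact hle (G 2 (k + 1) _ _ F1 hyk)
        · refine Ideal.mem_sup_left (Ideal.mem_sup_left ?_)
          have : y ^ (k + 1) * x = x * y ^ (k + 1) := by ring
          rw [this]; exact Ideal.subset_span (by simp)
        · refine Ideal.mem_sup_left (Ideal.mem_sup_left ?_)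
          have : y ^ (k + 1) * y = y ^ (k + 1 + 1) := by ring
          rw [this]; exact Ideal.subset_span (by simp)
        · have : x * y ^ k * C ϖ = C ϖ * (x * y ^ k) := by ring
          rw [this]; exact hle (G 2 (k + 1) _ _ F1 hxyk)
        · have : x * y ^ k * x = x ^ 2 * y ^ k := by ring
          rw [this]
          exact hle3 (G 3 k _ _ F2 (Ideal.pow_mem_pow hyM _))
        · refine Ideal.mem_sup_left (Ideal.mem_sup_left ?_)
          have : x * y ^ k * y = x * y ^ (k + 1) := by ring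
          rw [this]; exact Ideal.subset_span (by simp)
      · exact le_sup_of_le_left (le_sup_of_le_right Ideal.mul_le_left)
      · refine le_sup_of_le_right ?_
        rw [← pow_succ]
  -- Nakayama
  have hFG : (M ^ (k + 1)).FG := by
    refine Ideal.FG.pow ?_
    rw [hM]
    exact Submodule.fg_span (Set.toFinite _)
  have hjac : M ≤ Ideal.jacobson (⊥ : Ideal (MvPowerSeries (Fin 2) R)) := by
    rw [IsLocalRing.jacobson_eq_maximalIdeal ⊥ bot_ne_top]; exact hMmax
  have hN : M ^ (k + 1) ≤ Ideal.span {y ^ (k + 1), x * y ^ k} ⊔ I := by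
    refine Submodule.le_of_le_smul_of_le_jacobson_bot (I := M) hFG hjac ?_
    rw [smul_eq_mul, ← pow_succ']
    exact T k
  apply le_antisymm
  · exact sup_le hN le_sup_right
  · refine sup_le ?_ le_sup_right
    refine le_sup_of_le_left ?_
    rw [Ideal.span_le]
    intro g hg
    simp only [Set.mem_insert_iff, Set.mem_singleton_iff] at hg
    rcases hg with rfl | rfl
    · exact Ideal.pow_mem_pow hyM _
    · rw [SetLike.mem_coe, pow_succ']
      exact Ideal.mul_mem_mul hxM (Ideal.pow_mem_pow hyM _)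

end Gen

end Groth.Agent.Lib.Helper15.WeierChar2
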