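import Mathlib
import Groth.Agent.Lib.Helper15.WeierChar2d

set_option autoImplicit false
set_option linter.style.haveILetI false
set_option linter.unusedSectionVars false

/-!
# S14909, assembly
-/

namespace Groth.Agent.Lib.Helper15.WeierChar2

universe u

open MvPowerSeries

lemma cancel_aux {R : Type u} [CommRing R] [IsDomain R] (ϖ : R) (hϖ0 : ϖ ≠ 0) (u : Rˣ)
    (n : ℕ) (a : R) (h : a * ((u : R) * ϖ) ^ n ∈ Ideal.span {ϖ} ^ (n + 1)) :
    a ∈ Ideal.span {ϖ} := by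
  rw [Ideal.span_singleton_pow, Ideal.mem_span_singleton'] at h
  obtain ⟨c, hc⟩ := h
  rw [Ideal.mem_span_singleton']
  refine ⟨c * ↑(u⁻¹ ^ n), ?_⟩
  have h1 : (c * ϖ - a * (u : R) ^ n) * ϖ ^ n = 0 := by
    rw [mul_pow] at hc
    linear_combination hc
  have h2 : c * ϖ - a * (u : R) ^ n = 0 := by
    rcases mul_eq_zero.mp h1 with h | h
    · exact h
    · exact absurd h (pow_ne_zero _ hϖ0)
  have h3 : (u : R) ^ n * ↑(u⁻¹ ^ n) = 1 := by
    rw [← Units.val_pow_eq_pow_val, ← Units.val_mul, ← mul_pow]; simp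
  linear_combination (↑(u⁻¹ ^ n)) * h2 + a * h3

theorem main (R : Type u) [CommRing R] [IsDomain R] [IsDiscreteValuationRing R]
    (ϖ a₁ a₆ : R) (hϖ : Irreducible ϖ) (v : ℕ) (hv : 1 ≤ v) (u₁ u₆ : Rˣ)
    (ha₁ : a₁ = u₁ * ϖ ^ v) (ha₆ : a₆ = u₆ * ϖ)
    (h2 : (2 : R) ∈ IsLocalRing.maximalIdeal R ^ v)
    (x y : MvPowerSeries (Fin 2) R) (hx : x = MvPowerSeries.X 0) (hy : y = MvPowerSeries.X 1)
    (I M : Ideal (MvPowerSeries (Fin 2) R))
    (hI : I = Ideal.span {y ^ 2 + a₁ • (x * y) - x ^ 3 - algebraMap R (MvPowerSeries (Fin 2) R) a₆,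
      2 * y + a₁ • x, 3 * x ^ 2 - a₁ • y})
    (hM : M = Ideal.span {algebraMap R (MvPowerSeries (Fin 2) R) ϖ, x, y}) :
    M ^ (2 * v) ⊔ I = Ideal.span {y ^ (2 * v), x * y ^ (2 * v - 1)} ⊔ I ∧
      ∀ a b : R, a • y ^ (2 * v) + b • (x * y ^ (2 * v - 1)) ∈ M ^ (2 * v + 1) ⊔ I →
        a ∈ IsLocalRing.maximalIdeal R ∧ b ∈ IsLocalRing.maximalIdeal R := by
  have hmax : IsLocalRing.maximalIdeal R = Ideal.span {ϖ} := hϖ.maximalIdeal_eq
  have hϖm : ϖ ∈ IsLocalRing.maximalIdeal R := by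
    rw [hmax]; exact Ideal.subset_span (by simp)
  have h2m : (2 : R) ∈ IsLocalRing.maximalIdeal R := Ideal.pow_le_self (by omega) h2
  have h3u : IsUnit (3 : R) := by
    by_contra h
    have h3m : (3 : R) ∈ IsLocalRing.maximalIdeal R := (IsLocalRing.mem_maximalIdeal _).mpr h
    have h1 : (1 : R) ∈ IsLocalRing.maximalIdeal R := by
      have := Ideal.sub_mem _ h3m h2m
      norm_num at this
    exact (IsLocalRing.maximalIdeal R).ne_top_iff_one.mp (IsLocalRing.maximalIdeal.isMaximal R).ne_top h1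
  obtain ⟨u₃, hu₃⟩ := h3u
  obtain ⟨c2, hc2⟩ : ∃ c2 : R, (2 : R) = c2 * ϖ ^ v := by
    rw [hmax, Ideal.span_singleton_pow, Ideal.mem_span_singleton'] at h2
    obtain ⟨c, hc⟩ := h2
    exact ⟨c, hc.symm⟩
  constructor
  · have e : 2 * v = (2 * v - 1) + 1 := by omega
    have := gen_abstract ϖ a₁ a₆ hϖm v hv u₁ u₆ u₃ hu₃ ha₁ ha₆ x y hx hy I M hI hM (2 * v - 1)
    rw [← e] at this
    exact this
  · intro a b hab
    have hP : a₆ ∈ IsLocalRing.maximalIdeal R := by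
      rw [ha₆]; exact Ideal.mul_mem_left _ _ hϖm
    have key := indep_abstract (Λ := Lbar (IsLocalRing.maximalIdeal R) v hP) ϖ a₁ a₆ v hv u₁ u₆
      ha₁ ha₆ c2 hc2 (epsb _ v hP) (etab _ v hP) (epsb_mul_epsb _ v hP) (etab_mul_etab _ v hP)
      (etab_pow_odd _ v hP) (etab_pow_mul_epsb _ v hP) x y hx hy I M hI hM a b hab
    obtain ⟨k1, k2⟩ := detect _ v hP hv a b key
    have hϖ0 : ϖ ≠ 0 := hϖ.ne_zero
    rw [hmax] at k1 k2 ⊢
    rw [ha₆] at k1 k2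
    refine ⟨cancel_aux ϖ hϖ0 u₆ v a k1, ?_⟩
    have e : v = (v - 1) + 1 := by omega
    rw [e] at k2
    simp only [Nat.add_sub_cancel] at k2
    exact cancel_aux ϖ hϖ0 u₆ (v - 1) b k2

end Groth.Agent.Lib.Helper15.WeierChar2
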